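import Cfsg.Agent.HeldType.Code
import Cfsg.Agent.S0445

/-!
The coded elements are the centraliser of the transvection.
-/

set_option autoImplicit false
set_option maxRecDepth 100000
set_option Elab.async false

namespace Cfsg.Lib.HeldType

open Matrix

/-- The ambient group. -/
abbrev SL5 : Type := Matrix.SpecialLinearGroup (Fin 5) (ZMod 2)

/-- A Boolean as a scalar. -/
def sc (b : Bool) : ZMod 2 := bif b then 1 else 0

theorem sc_xor : ∀ a b : Bool, sc (a ^^ b) = sc a + sc b := by decide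

theorem sc_and : ∀ a b : Bool, sc (a && b) = sc a * sc b := by decide

theorem sc_inj : ∀ a b : Bool, sc a = sc b → a = b := by decide

/-- The matrix of a code. -/
def mat (c : ℕ) : Matrix (Fin 5) (Fin 5) (ZMod 2) := Matrix.of fun i j => sc (c.testBit (5 * i.val + j.val))

theorem bit_eq (c i : ℕ) : bit c i = c.testBit i := by
  show Nat.beq ((c >>> i) &&& 1) 1 = (1 &&& (c >>> i) != 0)
  rw [Nat.and_one_is_mod, Nat.one_and_eq_mod_two]
  rcases Nat.mod_two_eq_zero_or_one (c >>> i) with h | h <;> rw [h] <;> rfl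

theorem land31_lt (x : ℕ) : Nat.land x 31 < 32 := Nat.lt_succ_of_le Nat.and_le_right

theorem rowMul_lt (r B : ℕ) : rowMul r B < 2 ^ 5 := by
  unfold rowMul
  refine Nat.xor_lt_two_pow ?_ (Nat.xor_lt_two_pow ?_ (Nat.xor_lt_two_pow ?_ (Nat.xor_lt_two_pow ?_ ?_)))
  all_goals (cases bit r _ <;> simp only [cond_true, cond_false] <;> first | exact land31_lt _ | norm_num)

theorem testBit_cond (b : Bool) (x : ℕ) (j : ℕ) : (bif b then x else 0).testBit j = (b && x.testBit j) := by
  cases b <;> simp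

theorem rowMul_bit (r B : ℕ) (j : Fin 5) : (rowMul r B).testBit j.val =
    ((r.testBit 0 && B.testBit j.val) ^^ ((r.testBit 1 && B.testBit (5 + j.val)) ^^
      ((r.testBit 2 && B.testBit (10 + j.val)) ^^ ((r.testBit 3 && B.testBit (15 + j.val)) ^^
        (r.testBit 4 && B.testBit (20 + j.val)))))) := by
  have h31 : Nat.testBit 31 j.val = true := by revert j; decide
  simp only [rowMul, bit_eq]
  show Nat.testBit (_ ^^^ (_ ^^^ (_ ^^^ (_ ^^^ _)))) _ = _
  simp only [Nat.testBit_xor, testBit_cond]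
  show ((_ && Nat.testBit (B &&& 31) _) ^^ ((_ && Nat.testBit ((B >>> 5) &&& 31) _) ^^
    ((_ && Nat.testBit ((B >>> 10) &&& 31) _) ^^
      ((_ && Nat.testBit ((B >>> 15) &&& 31) _) ^^ (_ && Nat.testBit ((B >>> 20) &&& 31) _))))) = _
  simp only [Nat.testBit_and, h31, Bool.and_true, Nat.testBit_shiftRight]

theorem cm_bit (A B : ℕ) (i j : Fin 5) :
    (cm A B).testBit (5 * i.val + j.val) = (rowMul (A >>> (5 * i.val)) B).testBit j.val := by
  have hhi : ∀ (r : ℕ) (k : ℕ), 5 ≤ k → (rowMul r B).testBit k = false := fun r k hk =>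
    Nat.testBit_lt_two_pow (lt_of_lt_of_le (rowMul_lt r B) (Nat.pow_le_pow_right (by norm_num) hk))
  unfold cm
  show Nat.testBit (_ ||| ((_ <<< 5) ||| ((_ <<< 10) ||| ((_ <<< 15) ||| (_ <<< 20))))) _ = _
  simp only [Nat.testBit_or, Nat.testBit_shiftLeft]
  fin_cases i <;> fin_cases j <;> simp [hhi, Nat.shiftRight_eq_div_pow] <;> rfl

theorem mat_cm (A B : ℕ) : mat (cm A B) = mat A * mat B := by
  ext i j
  rw [Matrix.mul_apply, Fin.sum_univ_five]
  simp only [mat, Matrix.of_apply, cm_bit, rowMul_bit, sc_xor, sc_and, Nat.testBit_shiftRight, Fin.val_zero,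
    Fin.val_one]
  show _ = _ * sc (B.testBit (0 + j.val)) + _ * sc (B.testBit (5 + j.val)) + _ * sc (B.testBit (10 + j.val))
    + _ * sc (B.testBit (15 + j.val)) + _ * sc (B.testBit (20 + j.val))
  simp only [Nat.zero_add]
  show _ = sc (A.testBit (5 * i.val + 0)) * _ + sc (A.testBit (5 * i.val + 1)) * _ + sc (A.testBit (5 * i.val + 2)) * _
    + sc (A.testBit (5 * i.val + 3)) * _ + sc (A.testBit (5 * i.val + 4)) * _
  ring

theorem mat_one : mat cOne = 1 := by decide +kernel

theorem mat_z : mat cZ = Matrix.transvection 0 1 1 := by decide +kernel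

theorem mat_inj {a b : ℕ} (ha : a < 2 ^ 25) (hb : b < 2 ^ 25) (h : mat a = mat b) : a = b := by
  refine Nat.eq_of_testBit_eq fun k => ?_
  rcases Nat.lt_or_ge k 25 with hk | hk
  · have := congrFun (congrFun h ⟨k / 5, by omega⟩) ⟨k % 5, Nat.mod_lt _ (by norm_num)⟩
    simp only [mat, Matrix.of_apply] at this
    rw [show 5 * (k / 5) + k % 5 = k from Nat.div_add_mod k 5] at this
    exact sc_inj _ _ this
  · rw [Nat.testBit_lt_two_pow (lt_of_lt_of_le ha (Nat.pow_le_pow_right (by norm_num) hk)),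
      Nat.testBit_lt_two_pow (lt_of_lt_of_le hb (Nat.pow_le_pow_right (by norm_num) hk))]

theorem cm_lt (A B : ℕ) : cm A B < 2 ^ 25 := by
  have h : ∀ (r k : ℕ), k + 5 ≤ 25 → rowMul r B <<< k < 2 ^ 25 := fun r k hk => by
    rw [Nat.shiftLeft_eq]
    calc rowMul r B * 2 ^ k < 2 ^ 5 * 2 ^ k := Nat.mul_lt_mul_of_pos_right (rowMul_lt r B) (Nat.two_pow_pos k)
      _ ≤ 2 ^ 25 := by rw [← pow_add]; exact Nat.pow_le_pow_right (by norm_num) (by omega)
  unfold cm
  exact Nat.or_lt_two_pow (lt_trans (rowMul_lt _ _) (by norm_num))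
    (Nat.or_lt_two_pow (h _ 5 (by norm_num)) (Nat.or_lt_two_pow (h _ 10 (by norm_num))
      (Nat.or_lt_two_pow (h _ 15 (by norm_num)) (h _ 20 (by norm_num)))))

/-- A predicate on an interval. -/
def allR (p : ℕ → Bool) (lo : ℕ) : ℕ → Bool
  | 0 => true
  | n + 1 => p lo && allR p (lo + 1) n

theorem allR_sound (p : ℕ → Bool) : ∀ (n lo : ℕ), allR p lo n = true → ∀ k, lo ≤ k → k < lo + n → p k = true
  | 0, lo, _, k, h1, h2 => by omega
  | n + 1, lo, h, k, h1, h2 => by
    simp only [allR, Bool.and_eq_true] at h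
    rcases Nat.eq_or_lt_of_le h1 with rfl | hlt
    · exact h.1
    · exact allR_sound p n (lo + 1) h.2 k hlt (by omega)

theorem rad_sq : (List.range 128).all (fun q => Nat.beq (cm (radOf q) (cm (radOf q) (cm (radOf q) (radOf q)))) cOne &&
    Nat.beq (cm (radOf q) cZ) (cm cZ (radOf q))) = true := by decide +kernel

theorem lev_inv : (List.range 168).all (fun a => Nat.beq (cm (levOf (blkTab.get a)) (levOf (blkInv.get a))) cOne &&
    Nat.beq (cm (levOf (blkTab.get a)) cZ) (cm cZ (levOf (blkTab.get a))) &&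
    Nat.beq (blkIdx.get (blkTab.get a)) a) = true := by decide +kernel

/-- A code with an inverse code, as an element. -/
def mkSL (a b : ℕ) (h : cm a b = cOne) (hd : ∀ x : ZMod 2, x ≠ 0 → x = 1 := by decide) : SL5 :=
  ⟨mat a, hd _ fun h0 => by
    have h1 := congrArg (fun c => (mat c).det) h
    simp only [mat_cm, mat_one, Matrix.det_one, Matrix.det_mul, h0, zero_mul] at h1
    exact zero_ne_one h1⟩

theorem of_lt {q : ℕ} (hq : q < 128) : Nat.beq (cm (radOf q) (cm (radOf q) (cm (radOf q) (radOf q)))) cOne = true ∧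
    Nat.beq (cm (radOf q) cZ) (cm cZ (radOf q)) = true :=
  Bool.and_eq_true_iff.mp (List.all_eq_true.mp rad_sq q (List.mem_range.mpr hq))

theorem of_lt' {a : ℕ} (ha : a < 168) : cm (levOf (blkTab.get a)) (levOf (blkInv.get a)) = cOne ∧
    cm (levOf (blkTab.get a)) cZ = cm cZ (levOf (blkTab.get a)) := by
  have h := List.all_eq_true.mp lev_inv a (List.mem_range.mpr ha)
  simp only [Bool.and_eq_true] at h
  exact ⟨Nat.eq_of_beq_eq_true h.1.1, Nat.eq_of_beq_eq_true h.1.2⟩

/-- The element of an index. -/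
def elK (k : ℕ) (hk : k < 21504) : SL5 :=
  mkSL (radOf (k / 168)) (cm (radOf (k / 168)) (cm (radOf (k / 168)) (radOf (k / 168))))
    (Nat.eq_of_beq_eq_true (of_lt (by omega)).1) *
  mkSL (levOf (blkTab.get (k % 168))) (levOf (blkInv.get (k % 168))) (of_lt' (Nat.mod_lt _ (by norm_num))).1

theorem elK_val (k : ℕ) (hk : k < 21504) : (elK k hk).1 = mat (cOf k) := by
  rw [cOf, mat_cm]
  rfl

theorem cOf_comm {k : ℕ} (hk : k < 21504) : cm (cOf k) cZ = cm cZ (cOf k) := by
  refine mat_inj (cm_lt _ _) (cm_lt _ _) ?_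
  have h1 := congrArg mat (Nat.eq_of_beq_eq_true (of_lt (q := k / 168) (by omega)).2)
  have h2 := congrArg mat (of_lt' (a := k % 168) (Nat.mod_lt _ (by norm_num))).2
  simp only [mat_cm, cOf] at h1 h2 ⊢
  rw [mul_assoc, h2, ← mul_assoc, h1, mul_assoc]

theorem kOf_ok0 : allR (fun k => Nat.beq (kOf (cOf k)) k) 0 5376 = true := by decide +kernel

theorem kOf_ok1 : allR (fun k => Nat.beq (kOf (cOf k)) k) 5376 5376 = true := by decide +kernel

theorem kOf_ok2 : allR (fun k => Nat.beq (kOf (cOf k)) k) 10752 5376 = true := by decide +kernel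

theorem kOf_ok3 : allR (fun k => Nat.beq (kOf (cOf k)) k) 16128 5376 = true := by decide +kernel

theorem kOf_cOf {k : ℕ} (hk : k < 21504) : kOf (cOf k) = k := by
  refine Nat.eq_of_beq_eq_true ?_
  rcases Nat.lt_or_ge k 5376 with h1 | h1
  · exact allR_sound _ _ _ kOf_ok0 k (Nat.zero_le _) (by omega)
  rcases Nat.lt_or_ge k 10752 with h2 | h2
  · exact allR_sound _ _ _ kOf_ok1 k h1 (by omega)
  rcases Nat.lt_or_ge k 16128 with h3 | h3
  · exact allR_sound _ _ _ kOf_ok2 k h2 (by omega)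
  · exact allR_sound _ _ _ kOf_ok3 k h3 (by omega)

/-- The transvection as an element. -/
def sEl : SL5 := ⟨mat cZ, by rw [mat_z]; exact Matrix.det_transvection_of_ne _ _ (by decide) _⟩

/-- The centraliser of the transvection. -/
abbrev cs : Subgroup SL5 := Subgroup.centralizer {sEl}

theorem elK_mem (k : ℕ) (hk : k < 21504) : elK k hk ∈ cs :=
  Subgroup.mem_centralizer_singleton_iff.mpr (Subtype.ext (by
    show (elK k hk).1 * mat cZ = mat cZ * (elK k hk).1
    rw [elK_val, ← mat_cm, ← mat_cm, cOf_comm hk]))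

theorem cOf_lt (k : ℕ) : cOf k < 2 ^ 25 := cm_lt _ _

theorem valid_iff {c : ℕ} : valid c = true ↔ ∃ k < 21504, cOf k = c := by
  constructor
  · intro h
    simp only [valid, Bool.and_eq_true, Nat.blt_eq] at h
    exact ⟨_, h.1, Nat.eq_of_beq_eq_true h.2⟩
  · rintro ⟨k, hk, rfl⟩
    simp only [valid, Bool.and_eq_true, Nat.blt_eq, kOf_cOf hk]
    exact ⟨hk, Nat.beq_refl _⟩

theorem elK_bij : Function.Bijective fun k : Fin 21504 => (⟨elK k.1 k.2, elK_mem k.1 k.2⟩ : cs) := by
  have hinj : Function.Injective fun k : Fin 21504 => (⟨elK k.1 k.2, elK_mem k.1 k.2⟩ : cs) := fun a b h => by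
    have h1 := congrArg (fun x : cs => (x : SL5).1) h
    simp only [elK_val] at h1
    have h2 := congrArg kOf (mat_inj (cOf_lt _) (cOf_lt _) h1)
    rw [kOf_cOf a.2, kOf_cOf b.2] at h2
    exact Fin.ext h2
  refine hinj.bijective_of_nat_card_le (le_of_eq ?_)
  rw [Nat.card_fin]
  exact Cfsg.Agent.S0445.result sEl mat_z

theorem surj {g : SL5} (hg : g ∈ cs) : ∃ c, valid c = true ∧ g.1 = mat c := by
  obtain ⟨k, hk⟩ := elK_bij.2 ⟨g, hg⟩
  exact ⟨cOf k.1, valid_iff.mpr ⟨k.1, k.2, rfl⟩, by rw [← elK_val k.1 k.2]; exact congrArg (fun x : cs => (x : SL5).1) hk.symm⟩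

theorem valid_lt {c : ℕ} (h : valid c = true) : c < 2 ^ 25 := by
  obtain ⟨k, -, rfl⟩ := valid_iff.mp h
  exact cOf_lt k

theorem exists_el {c : ℕ} (h : valid c = true) : ∃ g ∈ cs, g.1 = mat c := by
  obtain ⟨k, hk, rfl⟩ := valid_iff.mp h
  exact ⟨_, elK_mem k hk, elK_val k hk⟩

theorem valid_cm {a b : ℕ} (ha : valid a = true) (hb : valid b = true) : valid (cm a b) = true := by
  obtain ⟨g, hg, hga⟩ := exists_el ha
  obtain ⟨k, hk, hkb⟩ := exists_el hb
  obtain ⟨c, hc, hce⟩ := surj (mul_mem hg hk)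
  have he : cm a b = c := mat_inj (cm_lt _ _) (valid_lt hc) (by
    rw [mat_cm, ← hga, ← hkb, ← hce]; rfl)
  rwa [he]

theorem valid_one : valid cOne = true := by decide +kernel

theorem valid_z : valid cZ = true := by decide +kernel

end Cfsg.Lib.HeldType
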