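import Cfsg.Agent.HeldType.OneSided
import Cfsg.Agent.SolvStruct.Gaschuetz
import Cfsg.Agent.Classical.SL

/-!
The group with fusion on one side is the affine group in dimension four.
-/

set_option autoImplicit false
set_option maxRecDepth 100000

namespace Cfsg.Lib.HeldType

open scoped Classical

variable {G : Type*} [Group G] {S : Setting G}

/-- The vectors. -/
abbrev Vec4 : Type := Fin 4 → ZMod 2

theorem vec4_self (f : Vec4) : f + f = 0 := funext fun _ => CharTwo.add_self_eq_zero _

/-- The element of a vector. -/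
def Setting.vel (S : Setting G) (f : Vec4) : G := S.η (vCode f)

theorem Setting.vel_add (f g : Vec4) : S.vel (f + g) = S.vel f * S.vel g := S.vCode_eq f g

theorem Setting.vel_zero : S.vel 0 = 1 := S.vCode_zero

theorem Setting.vel_inj {f g : Vec4} (h : S.vel f = S.vel g) : f = g :=
  vCode_inj f g (S.η_inj (vCode_ok f).1 (vCode_ok g).1 h)

theorem Setting.vel_mem (f : Vec4) : S.vel f ∈ S.V := ⟨f, rfl⟩

/-- The complement inside the centraliser. -/
def Setting.Acp [Finite G] (S : Setting G) : Subgroup G :=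
  Subgroup.closure {g | ∃ c, inA c = true ∧ S.η c = g}

theorem Setting.mem_Acp [Finite G] {g : G} (hg : g ∈ S.Acp) : ∃ c, inA c = true ∧ S.η c = g := by
  rw [Setting.Acp, ← Subgroup.mem_toSubmonoid, Subgroup.closure_toSubmonoid_of_finite] at hg
  induction hg using Submonoid.closure_induction with
  | mem x hx => exact hx
  | one => exact ⟨cOne, vl_inA.2, S.η_one⟩
  | mul a b _ _ iha ihb =>
    obtain ⟨c, hc, rfl⟩ := iha
    obtain ⟨d, hd, rfl⟩ := ihb
    exact ⟨cm c d, inA_mul hc hd, S.η_mul (inA_iff.mp hc).1 (inA_iff.mp hd).1⟩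

theorem block_det {g : Matrix (Fin 5) (Fin 5) (ZMod 2)} (h : ∀ i : Fin 5, g i 0 = if i = 0 then 1 else 0) :
    g.det = (Matrix.of fun i j : Fin 4 => g i.succ j.succ).det := by
  rw [Matrix.det_succ_column_zero, Finset.sum_eq_single 0]
  · rw [h 0, if_pos rfl, Fin.val_zero, pow_zero, one_mul, one_mul]
    congr 1
  · intro i _ hi
    rw [h i, if_neg hi, mul_zero, zero_mul]
  · intro h0; exact absurd (Finset.mem_univ _) h0

theorem card_SL4 : Nat.card (Matrix.SpecialLinearGroup (Fin 4) (ZMod 2)) = 20160 := by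
  have h := Cfsg.Lib.Classical.card_SL_mul_eq_prod (F := ZMod 2) (n := 4) (by norm_num)
  rw [ZMod.card, Fin.prod_univ_four] at h
  generalize Nat.card (Matrix.SpecialLinearGroup (Fin 4) (ZMod 2)) = c at h ⊢
  norm_num at h
  omega

/-- The first vector. -/
def e0 : Fin 5 → ZMod 2 := Pi.single 0 1

theorem e0_stab {g : SL5} (h : g ∈ MulAction.stabilizer SL5 e0) (i : Fin 5) : g.1 i 0 = if i = 0 then 1 else 0 := by
  have e : g.1.mulVec e0 = e0 := h
  have := congrFun e i
  rw [e0, Matrix.mulVec_single_one] at this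
  rw [show g.1 i 0 = Matrix.col g.1 0 i from rfl, this, Pi.single_apply]

theorem card_stab_le : Nat.card (MulAction.stabilizer SL5 e0) ≤ 322560 := by
  let F : MulAction.stabilizer SL5 e0 → Vec4 × Matrix.SpecialLinearGroup (Fin 4) (ZMod 2) := fun g =>
    (fun j => g.1.1 0 j.succ, ⟨Matrix.of fun i j : Fin 4 => g.1.1 i.succ j.succ, by
      rw [← block_det (e0_stab g.2)]; exact g.1.2⟩)
  have hF : Function.Injective F := fun a b e => by
    have e1 := congrArg Prod.fst e
    have e2 := congrArg Prod.snd e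
    have e2' := congrArg Subtype.val e2
    refine Subtype.ext (Subtype.ext (Matrix.ext fun i j => ?_))
    refine Fin.cases ?_ (fun j' => ?_) j
    · rw [e0_stab a.2, e0_stab b.2]
    · refine Fin.cases ?_ (fun i' => ?_) i
      · exact congrFun e1 j'
      · exact congrFun (congrFun e2' i') j'
  refine (Nat.card_le_card_of_injective F hF).trans (le_of_eq ?_)
  rw [Nat.card_prod, card_SL4, Nat.card_fun, Nat.card_zmod, Nat.card_fin]
  norm_num

variable [Finite G]

/-- Identification with the affine group. -/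
theorem Setting.Left.affine (h : S.Left) (hl : h.Links) :
    Nonempty (G ≃* MulAction.stabilizer SL5 e0) ∧ ¬ IsSimpleGroup G := by
  have hN : S.N = ⊤ := h.top hl
  haveI hnormal : S.V.Normal := Subgroup.normalizer_eq_top_iff.mp hN
  have hconj : ∀ (g : G) (f : Vec4), ∃ f', S.vel f' = g * S.vel f * g⁻¹ := fun g f =>
    S.mem_V.mp (hnormal.conj_mem _ (S.vel_mem f) g)
  choose act hact using hconj
  have act_add : ∀ g f f', act g (f + f') = act g f + act g f' := fun g f f' => S.vel_inj (by
    rw [hact, S.vel_add, S.vel_add, hact, hact]; group)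
  have act_mul : ∀ g g' f, act (g * g') f = act g (act g' f) := fun g g' f => S.vel_inj (by
    rw [hact, hact, hact]; group)
  have act_vel : ∀ a ∈ S.V, ∀ f, act a f = f := fun a ha f => S.vel_inj (by
    rw [hact, S.V_comm ha (S.vel_mem f), mul_inv_cancel_right])
  have act_eq : ∀ g, (∀ f, act g f = f) → g ∈ S.V := by
    intro g hg
    have hgc : ∀ f, g * S.vel f = S.vel f * g := fun f => by
      have := hact g f
      rw [hg, eq_mul_inv_iff_mul_eq] at this
      exact this.symm
    obtain ⟨fz, hfz⟩ := S.mem_V.mp S.z_mem_V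
    obtain ⟨c, hc, rfl⟩ := S.η_surj (show g * S.z = S.z * g by rw [← hfz]; exact hgc fz)
    obtain ⟨f, hf⟩ := (split hc).1 fun f => by
      rw [comm, S.η_inj (valid_cm hc (vCode_ok f).1) (valid_cm (vCode_ok f).1 hc) (by
        rw [S.η_mul hc (vCode_ok f).1, S.η_mul (vCode_ok f).1 hc]; exact hgc f)]
      exact Nat.beq_refl _
    exact ⟨f, by rw [hf]⟩
  -- the order
  have hVcard : Nat.card S.V = 16 := by
    rw [← Nat.card_eq_of_bijective (fun f : Vec4 => (⟨S.vel f, S.vel_mem f⟩ : S.V))
      ⟨fun a b e => S.vel_inj (congrArg Subtype.val e), fun ⟨a, ⟨f, hf⟩⟩ => ⟨f, Subtype.ext hf⟩⟩,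
      Nat.card_fun, Nat.card_zmod, Nat.card_fin]
    norm_num
  obtain ⟨fz, hfz⟩ := S.mem_V.mp S.z_mem_V
  have hidx : S.K.index = 15 := by
    have hne : ∀ g, act g fz ≠ 0 := fun g e => S.z_ne (by
      have := hact g fz
      rw [e, S.vel_zero, show S.vel fz = S.z from hfz] at this
      exact conj_eq_one_iff.mp this.symm)
    let q : G ⧸ S.K → {f : Vec4 // f ≠ 0} := Quotient.lift (fun g => ⟨act g fz, hne g⟩) fun a b hab => by
      have hk : a⁻¹ * b ∈ S.K := QuotientGroup.leftRel_apply.mp hab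
      refine Subtype.ext (S.vel_inj ?_)
      show S.vel (act a fz) = S.vel (act b fz)
      rw [hact, hact, show S.vel fz = S.z from hfz]
      calc a * S.z * a⁻¹ = a * (S.z * (a⁻¹ * b)) * b⁻¹ := by group
        _ = a * (a⁻¹ * b * S.z) * b⁻¹ := by rw [S.mem_K.mp hk]
        _ = b * S.z * b⁻¹ := by group
    have hq : Function.Bijective q := by
      refine ⟨fun a b e => ?_, fun f => ?_⟩
      · induction a using QuotientGroup.induction_on with | H a => ?_
        induction b using QuotientGroup.induction_on with | H b => ?_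
        refine QuotientGroup.eq.mpr (S.mem_K.mpr ?_)
        have e' : act a fz = act b fz := congrArg Subtype.val e
        have e2 := hact a fz
        rw [e', hact, show S.vel fz = S.z from hfz] at e2
        calc a⁻¹ * b * S.z = a⁻¹ * (b * S.z * b⁻¹) * b := by group
          _ = a⁻¹ * (a * S.z * a⁻¹) * b := by rw [e2]
          _ = _ := by group
      · obtain ⟨g, hg⟩ := isConj_iff.mp (h.of_V (S.vel_mem f.1) fun e => f.2 (S.vel_inj (e.trans S.vel_zero.symm)))
        refine ⟨QuotientGroup.mk g, Subtype.ext (S.vel_inj ?_)⟩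
        show S.vel (act g fz) = _
        rw [hact, show S.vel fz = S.z from hfz, hg]
    rw [Subgroup.index_eq_card, Nat.card_eq_of_bijective q hq, Nat.card_eq_fintype_card]
    decide
  have hG : Nat.card G = 322560 := by rw [← Subgroup.card_mul_index S.K, S.card_K, hidx]
  -- a complement
  haveI : IsMulCommutative S.V := ⟨⟨fun a b => Subtype.ext (S.V_comm a.2 b.2)⟩⟩
  have hAK : S.Acp ⊓ S.V = ⊥ := by
    refine (Subgroup.eq_bot_iff_forall _).mpr fun g ⟨hg, hgV⟩ => ?_
    obtain ⟨c, hc, rfl⟩ := S.mem_Acp hg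
    obtain ⟨f, hf⟩ := hgV
    have ec := S.η_inj (vCode_ok f).1 (inA_iff.mp hc).1 hf
    subst ec
    have hm : vCode f ∈ vl := by
      obtain ⟨x, hx, e⟩ := List.any_eq_true.mp (vCode_ok f).2.1
      rwa [Nat.eq_of_beq_eq_true e]
    have := List.all_eq_true.mp vl_inA.1 _ hm
    rw [hc, Bool.not_true, Bool.false_or] at this
    rw [Nat.eq_of_beq_eq_true this, S.η_one]
  have hA : S.Acp ≤ S.K := (Subgroup.closure_le _).mpr fun g ⟨c, hc, e⟩ => e ▸ S.η_mem_K (inA_iff.mp hc).1
  have hKA : S.V ⊔ S.Acp = S.K := by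
    refine le_antisymm (sup_le S.V_le_K hA) fun g hg => ?_
    obtain ⟨c, hc, rfl⟩ := S.η_surj (S.mem_K.mp hg)
    obtain ⟨f, hf, e⟩ := (split hc).2
    rw [← e, S.η_mul (inA_iff.mp hf).1 (vCode_ok f).1]
    exact Subgroup.mul_mem _ (Subgroup.mem_sup_right (Subgroup.subset_closure ⟨_, hf, rfl⟩))
      (Subgroup.mem_sup_left ⟨f, rfl⟩)
  obtain ⟨H, hH⟩ := Cfsg.Lib.SolvStruct.exists_complement_averaging (K := S.V) (U := S.K) S.V_le_K
    (by rw [hVcard, hidx]; norm_num) S.Acp hA hAK hKA
  have hdec : ∀ g : G, ∃ f : Vec4, ∃ b ∈ H, S.vel f * b = g := fun g => by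
    obtain ⟨⟨a, b⟩, e⟩ := hH.2 g
    obtain ⟨f, hf⟩ := a.2
    exact ⟨f, b, b.2, by rw [Setting.vel, hf]; exact e⟩
  choose δ π hπ hdec using hdec
  have huniq : ∀ {f f' : Vec4} {b b' : G}, b ∈ H → b' ∈ H → S.vel f * b = S.vel f' * b' → f = f' ∧ b = b' := by
    intro f f' b b' hb hb' e
    have := @hH.1 (⟨_, S.vel_mem f⟩, ⟨b, hb⟩) (⟨_, S.vel_mem f'⟩, ⟨b', hb'⟩) e
    rw [Prod.mk.injEq] at this
    exact ⟨S.vel_inj (congrArg Subtype.val this.1), congrArg Subtype.val this.2⟩
  have act_pi : ∀ g f, act (π g) f = act g f := fun g f => by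
    conv_rhs => rw [← hdec g]
    rw [act_mul, act_vel _ (S.vel_mem _)]
  have hcoc : ∀ g g', δ (g * g') = δ g + act g (δ g') := fun g g' => by
    refine (huniq (hπ (g * g')) (H.mul_mem (hπ g) (hπ g')) ((hdec (g * g')).trans ?_)).1
    rw [S.vel_add, ← act_pi g, hact]
    conv_lhs => rw [← hdec g, ← hdec g']
    group
  have hone : δ 1 = 0 := by
    refine (huniq (hπ 1) H.one_mem ((hdec 1).trans ?_)).1
    rw [S.vel_zero, one_mul]
  -- the matrices
  have act_sum : ∀ g (f : Vec4), act g f = fun i => ∑ j, act g (Pi.single j 1) i * f j := by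
    intro g f
    let L : Vec4 →ₗ[ZMod 2] Vec4 := (AddMonoidHom.mk' (act g) (act_add g)).toZModLinearMap 2
    have e := LinearMap.toMatrix'_mulVec L f
    funext i
    have := congrFun e i
    rw [Matrix.mulVec, dotProduct] at this
    rw [show act g f = L f from rfl, ← this]
    refine Finset.sum_congr rfl fun j _ => ?_
    rw [LinearMap.toMatrix'_apply]
    rfl
  let A : G → Matrix (Fin 5) (Fin 5) (ZMod 2) := fun g => Matrix.of fun i j =>
    Fin.cases (if j = 0 then 1 else 0) (fun a => Fin.cases (δ g a) (fun b => act g (Pi.single b 1) a) j) i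
  have hA0 : ∀ g j, A g 0 j = if j = 0 then 1 else 0 := fun g j => rfl
  have hA1 : ∀ g a, A g (Fin.succ a) 0 = δ g a := fun g a => rfl
  have hA2 : ∀ g a b, A g (Fin.succ a) (Fin.succ b) = act g (Pi.single b 1) a := fun g a b => rfl
  have hAmul : ∀ g g', A (g * g') = A g * A g' := by
    intro g g'
    ext i j
    rw [Matrix.mul_apply, Fin.sum_univ_succ]
    refine Fin.cases ?_ (fun a => ?_) i
    · simp only [hA0, if_true, one_mul, Fin.succ_ne_zero, if_false, zero_mul, Finset.sum_const_zero, add_zero]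
    · refine Fin.cases ?_ (fun b => ?_) j
      · simp only [hA0, hA1, hA2, if_true, mul_one]
        rw [hcoc, Pi.add_apply, act_sum g (δ g')]
      · simp only [hA0, hA1, hA2, Fin.succ_ne_zero, if_false, mul_zero, zero_add]
        rw [act_mul, act_sum g (act g' _)]
  have hAone : A 1 = 1 := by
    have h1 : ∀ f, act 1 f = f := act_vel 1 S.V.one_mem
    ext i j
    refine Fin.cases ?_ (fun a => ?_) i
    · rw [hA0, Matrix.one_apply]; exact if_congr eq_comm rfl rfl
    · refine Fin.cases ?_ (fun b => ?_) j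
      · rw [hA1, hone, Matrix.one_apply_ne (Fin.succ_ne_zero a)]; rfl
      · rw [hA2, h1, Matrix.one_apply, Pi.single_apply]
        exact if_congr Fin.succ_inj.symm rfl rfl
  have hdet : ∀ g, (A g).transpose.det = 1 := fun g => by
    rw [Matrix.det_transpose]
    have e := congrArg Matrix.det (hAmul g g⁻¹)
    rw [mul_inv_cancel, hAone, Matrix.det_one, Matrix.det_mul] at e
    exact (by decide : ∀ x y : ZMod 2, 1 = x * y → x = 1) _ _ e
  let ψ : G →* SL5 :=
    { toFun := fun g => ⟨(A g⁻¹).transpose, hdet g⁻¹⟩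
      map_one' := Subtype.ext (by simp [hAone])
      map_mul' := fun g g' => Subtype.ext (by
        show (A (g * g')⁻¹).transpose = (A g⁻¹).transpose * (A g'⁻¹).transpose
        rw [mul_inv_rev, hAmul, Matrix.transpose_mul]) }
  have hψ : ∀ g, ψ g ∈ MulAction.stabilizer SL5 e0 := fun g => by
    show (A g⁻¹).transpose.mulVec e0 = e0
    funext i
    rw [e0, Matrix.mulVec_single_one, Pi.single_apply]
    exact hA0 g⁻¹ i
  have hinj : Function.Injective ψ := by
    refine (injective_iff_map_eq_one ψ).mpr fun g hg => ?_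
    have e1 : (A g⁻¹).transpose = 1 := congrArg Subtype.val hg
    have e : A g⁻¹ = 1 := by rw [← Matrix.transpose_transpose (A g⁻¹), e1, Matrix.transpose_one]
    have hf : ∀ f, act g⁻¹ f = f := fun f => by
      rw [act_sum]
      funext i
      rw [Finset.sum_eq_single i]
      · rw [← hA2, e, Matrix.one_apply_eq, one_mul]
      · intro j _ hj
        rw [← hA2, e, Matrix.one_apply_ne (fun hh => hj (Fin.succ_inj.mp hh).symm), zero_mul]
      · intro h0; exact absurd (Finset.mem_univ _) h0
    have hd : δ g⁻¹ = 0 := funext fun a => by rw [← hA1, e, Matrix.one_apply_ne (Fin.succ_ne_zero a)]; rfl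
    obtain ⟨f', hf'⟩ := S.mem_V.mp (act_eq g⁻¹ hf)
    have := huniq (hπ g⁻¹) H.one_mem ((hdec g⁻¹).trans (by rw [Setting.vel, hf', mul_one] : g⁻¹ = S.vel f' * 1))
    rw [← inv_eq_one, ← hdec g⁻¹, this.2, hd, S.vel_zero, one_mul]
  have hbij : Function.Bijective (ψ.codRestrict _ hψ) :=
    (Function.Injective.bijective_of_nat_card_le (fun a b e => hinj (congrArg Subtype.val e))
      (card_stab_le.trans hG.ge))
  refine ⟨⟨MulEquiv.ofBijective _ hbij⟩, fun hs => ?_⟩
  rcases hs.eq_bot_or_eq_top_of_normal S.V hnormal with e | e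
  · rw [e, Subgroup.card_bot] at hVcard
    norm_num at hVcard
  · rw [e, Subgroup.card_top, hG] at hVcard
    norm_num at hVcard

end Cfsg.Lib.HeldType
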