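import Cfsg.Agent.HeldType.CasesTop
import Cfsg.Agent.HeldType.Affine
import Cfsg.Agent.S0215

/-!
The groups with this involution centraliser and some fusion of the involution.
-/

set_option autoImplicit false
set_option maxRecDepth 100000

namespace Cfsg.Lib.HeldType

open Cfsg

variable {G : Type*} [Group G] [Finite G] {S : Setting G}

theorem Setting.Left.mk' (h0 : S.Fus 0) (h5 : ¬ S.Fus 5) : S.Left ∧ ∃ h : S.Left, h.Links := by
  obtain ⟨i, t, hi, hA, -, h1, h2⟩ := S.option_one h0
  have hL := oneSided_links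
  simp only [Bool.and_eq_true] at hL
  obtain ⟨⟨⟨⟨⟨⟨⟨a03, a62⟩, a51⟩, a64⟩, b03⟩, b62⟩, b51⟩, b64⟩ := hL
  have hi' : i = 0 ∨ i = 2 := by
    rcases Nat.lt_or_ge i 1 with e | e
    · omega
    · by_cases e1 : i = 1
      · exact absurd (h1 e1) h5
      · omega
  have hleft : S.Left := by
    refine ⟨h0, fun j hj j0 j3 hf => ?_⟩
    interval_cases j
    · exact j0 rfl
    · rcases hi' with rfl | rfl
      · exact h5 ((S.fus_link hA a51).mpr hf)
      · exact h5 ((S.fus_link hA b51).mpr hf)
    · exact h2 h5 hf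
    · exact j3 rfl
    · exact S.not_fus_B hf
    · exact h5 hf
    · exact S.not_fus_mixed hf
    · exact h5 (S.fus_seven hf)
  have htN : t ∈ S.N := hleft.swap_mem (by rw [← oneSide_x]; exact hA.1.1) (by rw [← oneSide_x]; exact hA.1.2)
  refine ⟨hleft, hleft, ?_⟩
  have hη : ∀ c, valid c = true → S.η c ∈ S.N := fun c hc => hleft.η_mem hc
  rcases hi' with rfl | rfl
  · exact ⟨Setting.link_conj hA hη htN a03, Setting.link_conj hA hη htN a62, Setting.link_conj hA hη htN a51,
      Setting.link_conj hA hη htN a64⟩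
  · exact ⟨Setting.link_conj hA hη htN b03, Setting.link_conj hA hη htN b62, Setting.link_conj hA hη htN b51,
      Setting.link_conj hA hη htN b64⟩

/-- The possible groups. -/
def Listed (G : Type*) [Group G] : Prop :=
  (Nonempty (G ≃* MulAction.stabilizer SL5 e0) ∧ ¬ IsSimpleGroup G) ∨ Nonempty (G ≃* SL5) ∨
    Nonempty (G ≃* M24) ∨ Cfsg.Spor.IsoHe G

theorem one_sided (h0 : S.Fus 0) (h5 : ¬ S.Fus 5) : Listed G := by
  obtain ⟨-, h, hl⟩ := Setting.Left.mk' h0 h5
  exact Or.inl (h.affine hl)

theorem two_sided (h0 : S.Fus 0) (h5 : S.Fus 5) : Listed G := by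
  obtain ⟨i, t, hi, hA, hne, -, -⟩ := S.option_one h0
  obtain ⟨j, t', hj, hB, hne', -⟩ := S.option_two h5
  have := hne h5
  have := hne' h0
  obtain rfl | rfl : i = 1 ∨ i = 2 := by omega
  · obtain rfl | rfl : j = 0 ∨ j = 1 := by omega
    · exact Or.inr (Or.inr (Or.inl (m24_of_sides hA hB)))
    · exact Or.inr (Or.inr (Or.inr (he_of_sides hA hB)))
  · obtain rfl | rfl : j = 0 ∨ j = 1 := by omega
    · exact Or.inr (Or.inl (linear_of_sides hA hB))
    · exact Or.inr (Or.inr (Or.inl (m24_of_sides_mirror hA hB)))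

/-- The mirror on the coded centraliser. -/
theorem exists_mirror : ∃ m : cs ≃* cs, ∀ g : cs, ((m g : cs) : SL5) = MathieuMirror.mirror g := by
  let f : cs →* cs := (MathieuMirror.mirror.comp cs.subtype).codRestrict cs fun g => by
    refine Subgroup.mem_centralizer_singleton_iff.mpr ?_
    show MathieuMirror.mirror (g : SL5) * sEl = sEl * MathieuMirror.mirror (g : SL5)
    rw [← MathieuMirror.mirror_fix, ← map_mul, ← map_mul, Subgroup.mem_centralizer_singleton_iff.mp g.2]
  have hinj : Function.Injective f := fun a b e =>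
    Subtype.ext (MathieuMirror.mirror_inj (congrArg Subtype.val e))
  exact ⟨MulEquiv.ofBijective f (hinj.bijective_of_finite), fun g => rfl⟩

theorem mirror_reps :
    (∀ g : Fin 2, valid ([17043525, 19140673].getD g.val 0) = true) ∧
    classOf 19140673 = 5 ∧ classOf 17043525 = 0 := by decide +kernel

theorem mirror_zero : MathieuMirror.mirror ⟨mat (rep 0), by decide +kernel⟩ = ⟨mat 19140673, by decide +kernel⟩ := by
  apply Subtype.ext
  decide +kernel

theorem mirror_five : MathieuMirror.mirror ⟨mat (rep 5), by decide +kernel⟩ = ⟨mat 17043525, by decide +kernel⟩ := by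
  apply Subtype.ext
  decide +kernel

theorem pair_setting (z : G) (hz : orderOf z = 2) (e : Subgroup.centralizer ({z} : Set G) ≃* cs) :
    ∃ S S' : Setting G, S.z = z ∧ (S.Fus 5 → S'.Fus 0) ∧ (S'.Fus 5 → S.Fus 0) ∧
      ∀ x : Subgroup.centralizer ({z} : Set G),
        x ∈ Cfsg.pCore 2 (Subgroup.centralizer ({z} : Set G)) → ∃ q < 128, S.η (radOf q) = (x : G) := by
  obtain ⟨m, hm⟩ := exists_mirror
  obtain ⟨S, hS, hspec, hcore⟩ := exists_setting sEl mat_z z hz e
  obtain ⟨S', hS', hspec', -⟩ := exists_setting sEl mat_z z hz (e.trans m)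
  have key : ∀ {i d : ℕ} {hi1 : (mat (rep i)).det = 1} {hd1 : (mat d).det = 1}, i < 8 → valid d = true →
      MathieuMirror.mirror ⟨mat (rep i), hi1⟩ = ⟨mat d, hd1⟩ → S'.η d = S.η (rep i) := by
    intro i d hi1 hd1 hi hd hmi
    have ri := rep_valid ⟨i, hi⟩
    have hy : S.η (rep i) ∈ Subgroup.centralizer ({z} : Set G) :=
      Subgroup.mem_centralizer_singleton_iff.mpr (by rw [← hS]; exact S.η_comm ri)
    obtain ⟨g, hg, hga⟩ := exists_el ri
    have h2 : S.η (rep i) = (e.symm ⟨g, hg⟩ : Subgroup.centralizer ({z} : Set G)) :=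
      hspec _ ri _ (by rw [MulEquiv.apply_symm_apply]; exact hga)
    refine (hspec' d hd (e.symm ⟨g, hg⟩) ?_).trans h2.symm
    rw [MulEquiv.trans_apply, MulEquiv.apply_symm_apply, hm]
    obtain rfl : g = ⟨mat (rep i), hi1⟩ := Subtype.ext hga
    show (MathieuMirror.mirror _).1 = _
    rw [hmi]
  obtain ⟨hv, c5, c0⟩ := mirror_reps
  have v5 : valid 19140673 = true := hv 1
  have v0 : valid 17043525 = true := hv 0
  refine ⟨S, S', hS, fun h5 => ?_, fun h5 => ?_, hcore⟩
  · have e5 := key (i := 5) (by norm_num) v0 mirror_five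
    have hc := (S'.conj_class (c := 17043525) (by rw [c0]; norm_num)).2
    rw [c0, e5] at hc
    have h5' : IsConj S'.z (S.η (rep 5)) := by rw [hS', ← hS]; exact h5
    exact h5'.trans hc.symm
  · have e0 := key (i := 0) (by norm_num) v5 mirror_zero
    have hc := (S'.conj_class (c := 19140673) (by rw [c5]; norm_num)).2
    rw [c5, e0] at hc
    have h' : IsConj S'.z (S.η (rep 0)) := h5.trans hc
    rw [hS', ← hS] at h'
    exact h'

/-- The classification by the centraliser and fusion. -/
theorem listed_of_fused (z : G) (hz : orderOf z = 2) (e : Subgroup.centralizer ({z} : Set G) ≃* cs)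
    (hfus : ∃ g : G, g * z * g⁻¹ * z = z * (g * z * g⁻¹) ∧ g * z * g⁻¹ ≠ z) : Listed G := by
  obtain ⟨S, S', hS, h50, h05, -⟩ := pair_setting z hz e
  obtain ⟨g, hc, hne⟩ := hfus
  rw [← hS] at hc hne
  have h2 : orderOf (g * S.z * g⁻¹) = 2 :=
    (orderOf_injective (MulAut.conj g).toMonoidHom (MulAut.conj g).injective S.z).trans S.z_ord
  obtain ⟨i, hi, k, hk, hke⟩ := S.exists_class h2 hc
  have h3 : i ≠ 3 := fun e3 => hne (by
    rw [← hke, e3, rep_three, S.η_z, S.mem_K.mp hk, mul_inv_cancel_right])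
  have hF : S.Fus i := (isConj_iff.mpr ⟨g, rfl⟩).trans (isConj_iff.mpr ⟨k, hke⟩).symm
  have h05' : S.Fus 0 ∨ S.Fus 5 := by
    interval_cases i
    exacts [Or.inl hF, S.fus_outer (Or.inl rfl) hF, S.fus_outer (Or.inr (Or.inl rfl)) hF, absurd rfl h3,
      absurd hF S.not_fus_B, Or.inr hF, absurd hF S.not_fus_mixed, S.fus_outer (Or.inr (Or.inr rfl)) hF]
  by_cases h0 : S.Fus 0
  · by_cases h5 : S.Fus 5
    · exact two_sided h0 h5
    · exact one_sided h0 h5
  · exact one_sided (h50 (h05'.resolve_left h0)) fun h => h0 (h05 h)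

/-- A simple group with this centraliser has fusion, so it is one of the three simple groups. -/
theorem simple_listed [IsSimpleGroup G] (s : SL5) (hs : s.1 = Matrix.transvection 0 1 1) (z : G) (hz : orderOf z = 2)
    (e : Subgroup.centralizer ({z} : Set G) ≃* Subgroup.centralizer ({s} : Set SL5)) :
    Nonempty (G ≃* SL5) ∨ Nonempty (G ≃* M24) ∨ Cfsg.Spor.IsoHe G := by
  obtain rfl : s = sEl := Subtype.ext (hs.trans mat_z.symm)
  have hfus : ∃ g : G, g * z * g⁻¹ * z = z * (g * z * g⁻¹) ∧ g * z * g⁻¹ ≠ z := by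
    by_contra hno
    push Not at hno
    obtain ⟨S, hS, -, -⟩ := exists_setting sEl mat_z z hz e
    obtain ⟨P, hP, hzP⟩ := S.sylow_exists
    rw [hS] at hzP
    obtain ⟨N, hN, hodd, hcom⟩ := Cfsg.Agent.S0215.result P z hz hzP fun g hg => hno g (by
      have := S.mem_K.mp (hP hg)
      rwa [hS] at this)
    rcases hN.eq_bot_or_eq_top with hb | ht
    · have hcen : ∀ g : G, g * z = z * g := fun g => by
        have := hcom g
        rw [hb, Subgroup.mem_bot] at this
        calc g * z = (z * g * z⁻¹ * g⁻¹) * (g * z) := by rw [this, one_mul]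
          _ = z * g := by group
      have hnorm : (Subgroup.zpowers z).Normal := ⟨fun x hx g => by
        obtain ⟨k, rfl⟩ := Subgroup.mem_zpowers_iff.mp hx
        rw [(Commute.zpow_right (hcen g) k).eq, mul_inv_cancel_right]
        exact zpow_mem (Subgroup.mem_zpowers z) k⟩
      rcases hnorm.eq_bot_or_eq_top with hb' | ht'
      · have h1 : z = 1 := by rw [← Subgroup.mem_bot, ← hb']; exact Subgroup.mem_zpowers z
        rw [h1, orderOf_one] at hz
        norm_num at hz
      · have h1 := Subgroup.card_le_card_group S.K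
        rw [S.card_K, ← Nat.card_eq_of_bijective _ (Subgroup.topEquiv (G := G)).bijective, ← ht', Nat.card_zpowers,
          hz] at h1
        norm_num at h1
    · rw [ht, Subgroup.card_top] at hodd
      have := orderOf_dvd_natCard z
      rw [hz, ← even_iff_two_dvd, ← Nat.not_odd_iff_even] at this
      exact this hodd
  rcases listed_of_fused z hz e hfus with ⟨-, h⟩ | h
  · exact absurd ‹IsSimpleGroup G› h
  · exact h

end Cfsg.Lib.HeldType
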