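import Cfsg.Agent.HeldType.DataOne

/-!
The checks of one side.
-/

set_option autoImplicit false
set_option maxRecDepth 100000

namespace Cfsg.Lib.HeldType

theorem one_base : oneSide.okBase = true := by decide +kernel

theorem one_first : oneSide.okFirst = true := by decide +kernel

theorem one_rest : oneSide.okRest = true := by decide +kernel

theorem one_opts : oneSide.okOpts = true := by decide +kernel

theorem one_ok : oneSide.Ok := ⟨one_base, one_first, one_rest, one_opts⟩

end Cfsg.Lib.HeldType
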