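import Cfsg.Agent.HeldType.DataTwo

/-!
The checks of one side.
-/

set_option autoImplicit false
set_option maxRecDepth 100000

namespace Cfsg.Lib.HeldType

theorem two_base : twoSide.okBase = true := by decide +kernel

theorem two_first : twoSide.okFirst = true := by decide +kernel

theorem two_rest : twoSide.okRest = true := by decide +kernel

theorem two_opts : twoSide.okOpts = true := by decide +kernel

theorem two_ok : twoSide.Ok := ⟨two_base, two_first, two_rest, two_opts⟩

end Cfsg.Lib.HeldType
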