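import Cfsg.Agent.HeldType.Fusion
import Cfsg.Agent.HeldType.CheckOne
import Cfsg.Agent.HeldType.CheckTwo

/-!
The possible fusions and the possible actions of interchanging elements.
-/

set_option autoImplicit false
set_option maxRecDepth 100000

namespace Cfsg.Lib.HeldType

/-- The class of a code. -/
def classOf (c : ℕ) : ℕ := match invT.find c with
  | some p => p.1
  | none => 8

variable {G : Type*} [Group G] (S : Setting G)

theorem Setting.conj_class {c : ℕ} (h : classOf c < 8) : valid c = true ∧ IsConj (S.η (rep (classOf c))) (S.η c) := by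
  simp only [classOf] at h ⊢
  cases hf : invT.find c with
  | none => rw [hf] at h; simp at h
  | some p =>
    rw [hf] at h
    simp only at h ⊢
    have := BT.find_all _ _ invT_ok hf
    simp only [invOK, Bool.and_eq_true, Nat.blt_eq] at this
    obtain ⟨⟨⟨⟨-, hc⟩, hg⟩, he⟩, -⟩ := this
    refine ⟨hc, isConj_iff.mpr ⟨S.η p.2, ?_⟩⟩
    rw [← S.η_mul hg (rep_valid ⟨p.1, h⟩), Nat.eq_of_beq_eq_true he, S.η_mul hc hg, mul_inv_cancel_right]

/-- An element acts as one of the four options. -/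
def Setting.Acts (D : SideD) (i : ℕ) (t : G) : Prop :=
  S.IsSwap D.C.x t ∧ ∀ k < D.C.n, t * S.η (D.C.el.get k) = S.η ((D.fwd.get i).get k) * t

/-- An option joins two classes. -/
def link (D : SideD) (i k a b : ℕ) : Bool :=
  Nat.blt k D.C.n && ((Nat.beq (classOf (D.C.el.get k)) a && Nat.beq (classOf ((D.fwd.get i).get k)) b) ||
    (Nat.beq (classOf (D.C.el.get k)) b && Nat.beq (classOf ((D.fwd.get i).get k)) a)) && Nat.blt a 8 && Nat.blt b 8

theorem Setting.fus_link {D : SideD} {i : ℕ} {t : G} (ht : S.Acts D i t) {k a b : ℕ} (h : link D i k a b = true) :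
    S.Fus a ↔ S.Fus b := by
  simp only [link, Bool.and_eq_true, Bool.or_eq_true, Nat.blt_eq] at h
  obtain ⟨⟨⟨hk, hc⟩, ha⟩, hb⟩ := h
  have e : IsConj (S.η (D.C.el.get k)) (S.η ((D.fwd.get i).get k)) :=
    isConj_iff.mpr ⟨t, by rw [ht.2 k hk, mul_inv_cancel_right]⟩
  have hab : IsConj (S.η (rep a)) (S.η (rep b)) := by
    rcases hc with ⟨p, q⟩ | ⟨p, q⟩ <;> have p := Nat.eq_of_beq_eq_true p <;> have q := Nat.eq_of_beq_eq_true q
    · subst p; subst q
      exact ((S.conj_class ha).2.trans e).trans (S.conj_class hb).2.symm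
    · subst p; subst q
      exact (((S.conj_class hb).2.trans e).trans (S.conj_class ha).2.symm).symm
  exact ⟨fun h => h.trans hab, fun h => h.trans hab.symm⟩

theorem oneSide_x : oneSide.C.x = rep 0 := by decide +kernel

theorem twoSide_x : twoSide.C.x = rep 5 := by decide +kernel

theorem links_ok :
    (link oneSide 3 236 0 2 && link oneSide 3 3 2 4 && link oneSide 3 789 4 6 &&
     link oneSide 0 260 5 1 && link oneSide 0 24 1 2 && link oneSide 0 66 2 6 &&
     link oneSide 1 236 0 2 && link oneSide 1 24 2 1 && link oneSide 1 260 1 5 &&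
     link oneSide 2 66 2 6 &&
     link twoSide 3 66 5 7 && link twoSide 3 3 7 4 && link twoSide 3 230 4 6 &&
     link twoSide 2 49 0 1 && link twoSide 2 24 1 7 && link twoSide 2 440 7 6 &&
     link twoSide 1 66 5 7 && link twoSide 1 24 7 1 && link twoSide 1 49 1 0) = true := by decide +kernel

/-- Data for the centres of the centralisers of the three remaining classes. -/
def cenU : ℕ → List ℕ
  | 1 => [17043537, 17043539, 17045569, 17045571]
  | 2 => [17043537, 17043539]
  | _ => [17109057, 17109059]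

/-- Generators of these centralisers. -/
def cenG : ℕ → List ℕ
  | 1 => [17061963, 17133635, 17133643, 17567827, 17070163]
  | 2 => [17584207, 17070153, 17051739, 17061955, 17584213]
  | _ => [19290179, 17586257, 17633347, 17045587]

/-- The central elements with roots are special. -/
def cenOK (i : ℕ) : Bool :=
  ((cenU i).all fun u => ((repC i).ix.find u).isSome && ((cenG i).all fun g => comm g u) &&
    (Nat.beq (classOf u) 0 || Nat.beq (classOf u) 5) &&
    (List.range (repC i).n).any (fun k => Nat.beq (sqr ((repC i).el.get k)) u)) &&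
  ((cenG i).all fun g => ((repC i).ix.find g).isSome) &&
  ((cenU i).any fun u => (cenU i).any fun v => Nat.beq (cm u v) cZ) &&
  ((cenU i).all fun u => (cenU i).all fun v => !Nat.beq (cm u v) (rep i)) &&
  allR (fun k => !(((cenG i).all fun g => comm g ((repC i).el.get k)) && Nat.beq (sqr ((repC i).el.get k)) cOne &&
      !Nat.beq ((repC i).el.get k) cOne &&
      (List.range (repC i).n).any (fun l => Nat.beq (sqr ((repC i).el.get l)) ((repC i).el.get k))) ||
    (cenU i).any (fun u => Nat.beq u ((repC i).el.get k)) || Nat.beq (classOf ((repC i).el.get k)) i ||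
    Nat.beq ((repC i).el.get k) cZ) 0 (repC i).n &&
  (List.range (repC i).n).all (fun k => (cenU i).all fun u => comm ((repC i).el.get k) u)

theorem cen_ok : cenOK 1 = true ∧ cenOK 2 = true ∧ cenOK 7 = true := by decide +kernel

theorem Setting.not_fus_of_cen {i : ℕ} (hi : i = 1 ∨ i = 2 ∨ i = 7)
    (hne : ∀ p ∈ cenU i, ¬ S.Fus (classOf p)) : ¬ S.Fus i := by
  intro h
  have hi8 : i < 8 := by omega
  have h3 : i ≠ 3 := by omega
  obtain ⟨t, t1, t2⟩ := S.exists_swap (by omega) h
  have hc : cenOK i = true := by rcases hi with rfl | rfl | rfl; exacts [cen_ok.1, cen_ok.2.1, cen_ok.2.2]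
  simp only [cenOK, Bool.and_eq_true, List.all_eq_true, List.any_eq_true, List.mem_range] at hc
  obtain ⟨⟨⟨⟨⟨hU, hG⟩, ⟨u, hu, v, hv, huv⟩⟩, hP⟩, hK⟩, hcen⟩ := hc
  have hmap : ∀ {k}, k < (repC i).n → ∃ l < (repC i).n,
      t * S.η ((repC i).el.get k) = S.η ((repC i).el.get l) * t := fun hk => S.conj_repC hi8 hi8 h3 h3 t1 t2 hk
  have hsurj : ∀ {g}, g ∈ cenG i → ∃ k < (repC i).n, t * S.η ((repC i).el.get k) = S.η g * t := by
    intro g hg
    obtain ⟨m, hm⟩ := Option.isSome_iff_exists.mp (hG g hg)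
    obtain ⟨m1, m2⟩ := CentData.find_el (repC_ok i) hm
    obtain ⟨k, hk, hke⟩ := S.conj_repC hi8 hi8 h3 h3 (g := t⁻¹)
      (by rw [inv_mul_eq_iff_eq_mul, ← mul_assoc, t2, mul_inv_cancel_right])
      (by rw [inv_mul_eq_iff_eq_mul, ← mul_assoc, t1, mul_inv_cancel_right]) m1
    rw [m2] at hke
    refine ⟨k, hk, ?_⟩
    rw [inv_mul_eq_iff_eq_mul, ← mul_assoc, eq_mul_inv_iff_mul_eq] at hke
    exact hke.symm
  have himg : ∀ p ∈ cenU i, ∃ q ∈ cenU i, t * S.η p = S.η q * t := by
    intro p hp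
    obtain ⟨⟨⟨hp1, hp2⟩, hp3⟩, r, hr, hrp⟩ := hU p hp
    obtain ⟨m, hm⟩ := Option.isSome_iff_exists.mp hp1
    obtain ⟨m1, m2⟩ := CentData.find_el (repC_ok i) hm
    obtain ⟨l, hl, hle⟩ := hmap m1
    obtain ⟨r', hr', hre⟩ := hmap hr
    obtain ⟨vr, -, -⟩ := CentData.el_ok (repC_ok i) hr
    obtain ⟨vr', -, -⟩ := CentData.el_ok (repC_ok i) hr'
    obtain ⟨vl, -, -⟩ := CentData.el_ok (repC_ok i) hl
    obtain ⟨vp, -, -⟩ := CentData.el_ok (repC_ok i) m1
    rw [m2] at hle vp
    have hroot : sqr ((repC i).el.get r') = (repC i).el.get l := by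
      have e := S.conj_mul vr vr vr' vr' hre hre
      rw [show cm ((repC i).el.get r) ((repC i).el.get r) = p from Nat.eq_of_beq_eq_true hrp] at e
      exact S.conj_unique (valid_cm vr' vr') vl e hle
    have hcl : classOf p < 8 ∧ ¬ S.Fus (classOf p) := by
      refine ⟨?_, hne p hp⟩
      rcases Bool.or_eq_true_iff.mp hp3 with e | e <;> rw [Nat.eq_of_beq_eq_true e] <;> norm_num
    have hnp : ¬ IsConj S.z (S.η ((repC i).el.get l)) := fun hcj => hcl.2 (by
      refine (hcj.trans ?_).trans (S.conj_class hcl.1).2.symm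
      exact isConj_iff.mpr ⟨t⁻¹, by rw [inv_inv, mul_assoc, ← hle, inv_mul_cancel_left]⟩)
    have hpp : cm p p = cOne := by
      obtain ⟨vp', hcp⟩ := S.conj_class hcl.1
      refine S.η_inj (valid_cm vp' vp') valid_one ?_
      obtain ⟨g, hg⟩ := isConj_iff.mp hcp
      have : ∀ q : Fin 8, cm (rep q.val) (rep q.val) = cOne := by decide +kernel
      have e : S.η (rep (classOf p)) * S.η (rep (classOf p)) = 1 := by
        rw [← S.η_mul (rep_valid ⟨_, hcl.1⟩) (rep_valid ⟨_, hcl.1⟩), this ⟨_, hcl.1⟩, S.η_one]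
      rw [S.η_mul vp' vp', S.η_one, ← hg]
      simp only [mul_assoc, inv_mul_cancel_left]
      rw [← mul_assoc (S.η (rep _)), e, one_mul, mul_inv_cancel]
    have hone : (repC i).el.get l ≠ cOne := fun e => by
      rw [e, S.η_one, one_mul, mul_eq_left] at hle
      have e2 : p = cOne := S.η_inj vp valid_one (by rw [hle, S.η_one])
      have : classOf cOne = 8 := by decide +kernel
      rw [e2, this] at hcl
      exact absurd hcl.1 (by norm_num)
    have hsq : sqr ((repC i).el.get l) = cOne := by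
      have e := S.conj_mul vp vp vl vl hle hle
      rw [hpp] at e
      exact S.conj_unique (valid_cm vl vl) valid_one e (by rw [S.η_one, mul_one, one_mul])
    have hcomm : ∀ g ∈ cenG i, comm g ((repC i).el.get l) = true := fun g hg => by
      obtain ⟨k, hk, hke⟩ := hsurj hg
      obtain ⟨vk, -, -⟩ := CentData.el_ok (repC_ok i) hk
      obtain ⟨m', hm'⟩ := Option.isSome_iff_exists.mp (hG g hg)
      have vg : valid g = true := by
        obtain ⟨a, b⟩ := CentData.find_el (repC_ok i) hm'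
        exact b ▸ (CentData.el_ok (repC_ok i) a).1
      have hkp : cm ((repC i).el.get k) p = cm p ((repC i).el.get k) :=
        Nat.eq_of_beq_eq_true (hcen k hk p hp)
      have e1 := S.conj_mul vk vp vg vl hke hle
      have e2 := S.conj_mul vp vk vl vg hle hke
      rw [hkp] at e1
      simp only [comm]
      rw [S.conj_unique (valid_cm vg vl) (valid_cm vl vg) e1 e2]
      exact Nat.beq_refl _
    have hk := allR_sound _ _ _ hK l (Nat.zero_le _) (by omega)
    have a1 : ((cenG i).all fun g => comm g ((repC i).el.get l)) = true := List.all_eq_true.mpr hcomm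
    have a2 : Nat.beq (sqr ((repC i).el.get l)) cOne = true := by rw [hsq]; exact Nat.beq_refl _
    have a3 : Nat.beq ((repC i).el.get l) cOne = false := by
      cases hh : Nat.beq ((repC i).el.get l) cOne with
      | false => rfl
      | true => exact absurd (Nat.eq_of_beq_eq_true hh) hone
    have a4 : ((List.range (repC i).n).any fun m => Nat.beq (sqr ((repC i).el.get m)) ((repC i).el.get l)) = true :=
      List.any_eq_true.mpr ⟨r', List.mem_range.mpr hr', by rw [hroot]; exact Nat.beq_refl _⟩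
    simp only [a1, a2, a3, a4, Bool.not_false, Bool.and_self, Bool.not_true, Bool.false_or, Bool.or_eq_true,
      List.any_eq_true] at hk
    rcases hk with (⟨q, hq, hqe⟩ | hcls) | hz'
    · exact ⟨q, hq, by rw [Nat.eq_of_beq_eq_true hqe]; exact hle⟩
    · refine absurd ?_ hnp
      have e := Nat.eq_of_beq_eq_true hcls
      exact h.trans (by have := (S.conj_class (c := (repC i).el.get l) (by omega)).2; rwa [e] at this)
    · exact absurd (by rw [Nat.eq_of_beq_eq_true hz', S.η_z]) hnp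
  obtain ⟨q, hq, hqe⟩ := himg u hu
  obtain ⟨q', hq', hqe'⟩ := himg v hv
  have hval : ∀ {w}, w ∈ cenU i → valid w = true := fun {w} hw => by
    obtain ⟨m, hm⟩ := Option.isSome_iff_exists.mp (hU w hw).1.1.1
    obtain ⟨a, b⟩ := CentData.find_el (repC_ok i) hm
    exact b ▸ (CentData.el_ok (repC_ok i) a).1
  have e := S.conj_mul (hval hu) (hval hv) (hval hq) (hval hq') hqe hqe'
  rw [Nat.eq_of_beq_eq_true huv, S.η_z, t1] at e
  have e2 := S.η_inj (rep_valid ⟨i, hi8⟩) (valid_cm (hval hq) (hval hq')) (mul_right_cancel e)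
  have e3 := hP q hq q' hq'
  rw [← e2, Nat.beq_refl] at e3
  simp at e3

theorem cenU_class : ((cenU 1).all fun p => Nat.beq (classOf p) 0 || Nat.beq (classOf p) 5) = true ∧
    ((cenU 2).all fun p => Nat.beq (classOf p) 0) = true ∧
    ((cenU 7).all fun p => Nat.beq (classOf p) 5) = true := by decide +kernel

theorem Setting.fus_outer {i : ℕ} (hi : i = 1 ∨ i = 2 ∨ i = 7) (h : S.Fus i) : S.Fus 0 ∨ S.Fus 5 := by
  by_contra hne
  push Not at hne
  obtain ⟨h1, h2, h7⟩ := cenU_class
  simp only [List.all_eq_true, Bool.or_eq_true] at h1 h2 h7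
  refine S.not_fus_of_cen hi (fun p hp => ?_) h
  rcases hi with rfl | rfl | rfl
  · rcases h1 p hp with e | e <;> rw [Nat.eq_of_beq_eq_true e]
    exacts [hne.1, hne.2]
  · rw [Nat.eq_of_beq_eq_true (h2 p hp)]; exact hne.1
  · rw [Nat.eq_of_beq_eq_true (h7 p hp)]; exact hne.2

theorem Setting.fus_seven (h : S.Fus 7) : S.Fus 5 := by
  by_contra hne
  obtain ⟨-, -, h7⟩ := cenU_class
  simp only [List.all_eq_true] at h7
  refine S.not_fus_of_cen (Or.inr (Or.inr rfl)) (fun p hp => ?_) h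
  rw [Nat.eq_of_beq_eq_true (h7 p hp)]; exact hne

theorem Setting.option_one [Finite G] (h : S.Fus 0) : ∃ i, ∃ t : G, i < 3 ∧ S.Acts oneSide i t ∧
    (S.Fus 5 → i ≠ 0) ∧ (i = 1 → S.Fus 5) ∧ (¬ S.Fus 5 → ¬ S.Fus 2) := by
  obtain ⟨t, t1, t2⟩ := S.exists_swap (i := 0) (by omega) h
  rw [← oneSide_x] at t1 t2
  obtain ⟨i, hi, t', ht', hact⟩ := S.exists_option one_ok ⟨t1, t2⟩
  have hA : S.Acts oneSide i t' := ⟨ht', hact⟩
  have L := links_ok
  simp only [Bool.and_eq_true] at L
  obtain ⟨⟨⟨⟨⟨⟨⟨⟨⟨⟨⟨⟨⟨⟨⟨⟨⟨⟨a1, a2⟩, a3⟩, b1⟩, b2⟩, b3⟩, c1⟩, c2⟩, c3⟩, d1⟩, -⟩, -⟩, -⟩, -⟩, -⟩, -⟩, -⟩, -⟩, -⟩ := L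
  interval_cases i
  · refine ⟨0, t', by norm_num, hA, fun h5 _ => ?_, by omega, fun h5 h2 => ?_⟩
    · exact S.not_fus_mixed ((S.fus_link hA b3).mp ((S.fus_link hA b2).mp ((S.fus_link hA b1).mp h5)))
    · exact h5 ((S.fus_link hA b1).mpr ((S.fus_link hA b2).mpr h2))
  · have h5 : S.Fus 5 := (S.fus_link hA c3).mp ((S.fus_link hA c2).mp ((S.fus_link hA c1).mp h))
    exact ⟨1, t', by norm_num, hA, fun _ => by norm_num, fun _ => h5, fun h => absurd h5 h⟩
  · exact ⟨2, t', by norm_num, hA, fun _ => by norm_num, by omega,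
      fun _ h2 => S.not_fus_mixed ((S.fus_link hA d1).mp h2)⟩
  · exact absurd ((S.fus_link hA a3).mp ((S.fus_link hA a2).mp ((S.fus_link hA a1).mp h))) S.not_fus_mixed

theorem Setting.option_two [Finite G] (h : S.Fus 5) : ∃ i, ∃ t : G, i < 3 ∧ S.Acts twoSide i t ∧
    (S.Fus 0 → i ≠ 2) ∧ (i = 1 → S.Fus 0) := by
  obtain ⟨t, t1, t2⟩ := S.exists_swap (i := 5) (by omega) h
  rw [← twoSide_x] at t1 t2
  obtain ⟨i, hi, t', ht', hact⟩ := S.exists_option two_ok ⟨t1, t2⟩
  have hA : S.Acts twoSide i t' := ⟨ht', hact⟩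
  have L := links_ok
  simp only [Bool.and_eq_true] at L
  obtain ⟨⟨⟨⟨⟨⟨⟨⟨⟨-, a1⟩, a2⟩, a3⟩, b1⟩, b2⟩, b3⟩, c1⟩, c2⟩, c3⟩ := L
  interval_cases i
  · exact ⟨0, t', by norm_num, hA, fun _ => by norm_num, by omega⟩
  · exact ⟨1, t', by norm_num, hA, fun _ => by norm_num,
      fun _ => (S.fus_link hA c3).mp ((S.fus_link hA c2).mp ((S.fus_link hA c1).mp h))⟩
  · exact ⟨2, t', by norm_num, hA, fun h0 _ => S.not_fus_mixed
      ((S.fus_link hA b3).mp ((S.fus_link hA b2).mp ((S.fus_link hA b1).mp h0))), by omega⟩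
  · exact absurd ((S.fus_link hA a3).mp ((S.fus_link hA a2).mp ((S.fus_link hA a1).mp h))) S.not_fus_mixed

end Cfsg.Lib.HeldType
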