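import Cfsg.Agent.HeldType.Norm
import Cfsg.Agent.HeldType.Options

/-!
Identification of the group generated by the centraliser and the interchanging elements.
-/

set_option autoImplicit false
set_option maxRecDepth 100000

namespace Cfsg.Lib.HeldType

variable {G : Type*} [Group G] {S : Setting G}

/-- The parameters of a pair of options. -/
theorem Setting.exists_pair {P : Pars} (hC : ∀ b, (P.side b).C.ok = true)
    (hsq : ∀ b, sqOK (P.side b) (P.opt b) (P.sq b) = true) {t : Bool → G}
    (ht : ∀ b, S.Acts (P.side b) (P.opt b) (t b)) : ∃ _ : Pair S P, True := by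
  choose T hT hTT using fun b => S.exists_square (hC b) (ht b) (hsq b)
  refine ⟨⟨T, hT, hTT, hC, fun b k hk => ?_, fun b => ?_⟩, trivial⟩
  · have h := hsq b
    simp only [sqOK, Bool.and_eq_true] at h
    have := allR_sound _ _ _ h.2 k (Nat.zero_le _) (by omega)
    simp only [Bool.and_eq_true] at this
    exact this.1.1
  · have h := hsq b
    simp only [sqOK, Bool.and_eq_true] at h
    exact h.1.1.1

theorem Pair.exists_shift_mem {P : Pars} (Q Q' : Pair S P) (h : ∀ b, ∃ c, valid c = true ∧ Q'.T b = Q.T b * S.η c)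
    {H : Subgroup G} (hη : ∀ c, valid c = true → S.η c ∈ H) (hT : ∀ b, Q'.T b ∈ H) (b : Bool) : Q.T b ∈ H := by
  obtain ⟨c, hc, e⟩ := h b
  have h1 := hT b
  rw [e] at h1
  exact (H.mul_mem_cancel_right (hη c hc)).mp h1

/-- The group generated by the centraliser and the interchanging elements. -/
def Pair.grp {P : Pars} (Q : Pair S P) : Subgroup G := Subgroup.closure Q.sys.gens

theorem Pair.η_mem {P : Pars} (Q : Pair S P) {c : ℕ} (hc : valid c = true) : S.η c ∈ Q.grp :=
  Subgroup.subset_closure (Or.inl ⟨c, hc, rfl⟩)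

theorem Pair.T_mem {P : Pars} (Q : Pair S P) (b : Bool) : Q.T b ∈ Q.grp :=
  Subgroup.subset_closure (Or.inr ⟨b, rfl⟩)

/-- A system restricted to the subgroup that it generates. -/
def Sys.restrict {P : Pars} {X : Type*} [Group X] (Y : Sys P X) : Sys P (Subgroup.closure Y.gens) where
  f c := if h : valid c = true then ⟨Y.f c, Subgroup.subset_closure (Or.inl ⟨c, h, rfl⟩)⟩ else 1
  T b := ⟨Y.T b, Subgroup.subset_closure (Or.inr ⟨b, rfl⟩)⟩
  f_mul {a b} ha hb := by
    rw [dif_pos ha, dif_pos hb, dif_pos (valid_cm ha hb)]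
    exact Subtype.ext (Y.f_mul ha hb)
  twist b k hk := by
    rw [dif_pos (Y.el_valid b k hk).1, dif_pos (Y.el_valid b k hk).2]
    exact Subtype.ext (Y.twist b k hk)
  el_valid := Y.el_valid
  sq_eq b := by
    rw [dif_pos (Y.sq_valid b)]
    exact Subtype.ext (Y.sq_eq b)
  sq_valid := Y.sq_valid

theorem Sys.restrict_f {P : Pars} {X : Type*} [Group X] (Y : Sys P X) {c : ℕ} (h : valid c = true) :
    (Y.restrict.f c : X) = Y.f c := by
  simp [Sys.restrict, h]

theorem Sys.restrict_top {P : Pars} {X : Type*} [Group X] (Y : Sys P X) :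
    Subgroup.closure Y.restrict.gens = ⊤ := by
  refine top_unique fun x hxt => ?_
  clear hxt
  obtain ⟨x, hx⟩ := x
  induction hx using Subgroup.closure_induction with
  | mem y hy =>
    refine Subgroup.subset_closure ?_
    rcases hy with ⟨c, hc, rfl⟩ | ⟨b, rfl⟩
    · exact Or.inl ⟨c, hc, Subtype.ext (Y.restrict_f hc)⟩
    · exact Or.inr ⟨b, rfl⟩
  | one => exact Subgroup.one_mem _
  | mul a b ha hb iha ihb => exact Subgroup.mul_mem _ iha ihb
  | inv a ha iha => exact Subgroup.inv_mem _ iha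

theorem Sys.restrict_val {P : Pars} {X : Type*} [Group X] (Y : Sys P X) :
    ∀ {w : List Let}, okWord w = true → (Y.restrict.val w : X) = Y.val w
  | [], _ => rfl
  | l :: w, h => by
    have h' : okWord w = true := by
      simp only [okWord, List.all_cons, Bool.and_eq_true] at h
      exact h.2
    have ih := Sys.restrict_val Y (w := w) h'
    simp only [Sys.val, List.map_cons, List.prod_cons, Subgroup.coe_mul] at ih ⊢
    rw [ih]
    congr 1
    cases l with
    | h c =>
      simp only [okWord, List.all_cons, Bool.and_eq_true] at h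
      exact Y.restrict_f h.1
    | t b => rfl

/-- Two systems side by side. -/
def Sys.pair {P : Pars} {X Z : Type*} [Group X] [Group Z] (Y : Sys P X) (W : Sys P Z) : Sys P (X × Z) where
  f c := (Y.f c, W.f c)
  T b := (Y.T b, W.T b)
  f_mul ha hb := Prod.ext (Y.f_mul ha hb) (W.f_mul ha hb)
  twist b k hk := Prod.ext (Y.twist b k hk) (W.twist b k hk)
  el_valid := Y.el_valid
  sq_eq b := Prod.ext (Y.sq_eq b) (W.sq_eq b)
  sq_valid := Y.sq_valid

theorem Sys.pair_val {P : Pars} {X Z : Type*} [Group X] [Group Z] (Y : Sys P X) (W : Sys P Z) :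
    ∀ w : List Let, (Y.pair W).val w = (Y.val w, W.val w)
  | [] => rfl
  | l :: w => by
    have ih := Sys.pair_val Y W w
    simp only [Sys.val, List.map_cons, List.prod_cons] at ih ⊢
    rw [ih]
    cases l <;> rfl

universe u v

theorem CaseD.model_hom {G : Type u} [Group G] [Finite G] {S : Setting G} {M : Type v} [Group M] [Finite M]
    (hM : IsSimpleGroup M) {SM : Setting M} {C : CaseD} (hC : C.Ok) (hne : ∀ b, (C.P.side b).C.x ≠ cZ)
    (QM : Pair SM C.P) (hgen : QM.grp = ⊤) (hcard : 21504 * C.bound.total ≤ Nat.card M) (Q : Pair S C.P) :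
    ∃ φ : M →* G, Function.Injective φ ∧ (∀ c, valid c = true → φ (SM.η c) = S.η c) ∧
      ∀ b, Q.T b ∈ φ.range := by
  classical
  obtain ⟨Q', hQs, hQ⟩ := CaseD.exists_good hC Q hne
  obtain ⟨QM', hMs, hQM⟩ := CaseD.exists_good hC QM hne
  have hgen' : QM'.grp = ⊤ := top_unique (hgen ▸ (Subgroup.closure_le _).mpr fun x hx => by
    rcases hx with ⟨c, hc, rfl⟩ | ⟨b, rfl⟩
    · exact QM'.η_mem hc
    · exact QM.exists_shift_mem QM' hMs (fun c hc => QM'.η_mem hc) QM'.T_mem b)
  let Y : Sys C.P (M × G) := QM'.sys.pair Q'.sys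
  let Z := Y.restrict
  have hd := hC.fullDefs
  have hrels : ∀ w ∈ C.full.rels, Z.val w = 1 := fun w hw => by
    have hd' := hd
    simp only [EnumD.okDefs, Bool.and_eq_true, List.all_eq_true] at hd'
    refine Subtype.ext ?_
    rw [Sys.restrict_val Y (hd'.2 w hw)]
    show (QM'.sys.pair Q'.sys).val w = 1
    rw [Sys.pair_val, hQM w hw, hQ w hw]
    rfl
  have hall : ∀ k < C.full.nf, Z.FOK C.full (C.full.facts.get k) := fun k hk =>
    Z.fact_sound hd hrels fun j hj => hC.fullFacts j (by omega)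
  have hb := Z.card_le (Sys.restrict_top Y) hall (fun b => Q.side_ok b) hC.boundOk
  let π : Subgroup.closure Y.gens →* M := (MonoidHom.fst M G).comp (Subgroup.subtype _)
  have hsurj : Function.Surjective π := by
    refine MonoidHom.range_eq_top.mp (top_unique (hgen' ▸ (Subgroup.closure_le _).mpr fun x hx => ?_))
    rcases hx with ⟨c, hc, rfl⟩ | ⟨b, rfl⟩
    · exact ⟨⟨Y.f c, Subgroup.subset_closure (Or.inl ⟨c, hc, rfl⟩)⟩, rfl⟩
    · exact ⟨⟨Y.T b, Subgroup.subset_closure (Or.inr ⟨b, rfl⟩)⟩, rfl⟩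
  have hbij : Function.Bijective π := hsurj.bijective_of_nat_card_le (hb.trans hcard)
  let e : Subgroup.closure Y.gens ≃* M := MulEquiv.ofBijective π hbij
  let φ : M →* G := ((MonoidHom.snd M G).comp (Subgroup.subtype _)).comp e.symm.toMonoidHom
  have hval : ∀ (x : Subgroup.closure Y.gens), φ (π x) = (x : M × G).2 := fun x => by
    show ((e.symm (e x) : Subgroup.closure Y.gens) : M × G).2 = _
    rw [MulEquiv.symm_apply_apply]
  have hη : ∀ c, valid c = true → φ (SM.η c) = S.η c := fun c hc =>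
    hval ⟨Y.f c, Subgroup.subset_closure (Or.inl ⟨c, hc, rfl⟩)⟩
  refine ⟨φ, ?_, hη, fun b => Q.exists_shift_mem (H := φ.range) Q' hQs (fun c hc => ⟨SM.η c, hη c hc⟩) (fun b' => ?_) b⟩
  · rcases hM.eq_bot_or_eq_top_of_normal φ.ker inferInstance with h | h
    · exact (MonoidHom.ker_eq_bot_iff φ).mp h
    · exfalso
      have h1 : φ (SM.η cZ) = 1 := MonoidHom.mem_ker.mp (h ▸ Subgroup.mem_top _)
      rw [hη _ valid_z, S.η_z] at h1
      exact S.z_ne h1
  · exact ⟨QM'.T b', hval ⟨Y.T b', Subgroup.subset_closure (Or.inr ⟨b', rfl⟩)⟩⟩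

end Cfsg.Lib.HeldType
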