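import Cfsg.Agent.HePres.ClassB
import Cfsg.Agent.HePres.Simple

/-!
No element of order thirty-five centralises the second letter of the Held group.
-/

set_option autoImplicit false
set_option maxRecDepth 100000
set_option Elab.async false

namespace Cfsg.Lib.HeldType.Held

open Cfsg Cfsg.Lib.CosetCert Cfsg.Lib.PermCert Cfsg.Lib.HePres

/-- A word for an element of order five. -/
def fiveW : List ℕ :=
  [2, 3, 0, 2, 1, 2, 0, 3, 2, 1, 2, 3, 0, 2, 6, 4, 2, 3, 0, 2, 1, 2, 0, 3, 2, 1, 2, 3, 0, 2, 1, 3, 6]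

/-- Its fixed points. -/
def fiveFix : List ℕ := [78, 81, 198, 200, 718, 743, 1154, 1881]

theorem fiveW_ok : HePres.sameW (fiveW ++ fiveW ++ fiveW ++ fiveW ++ fiveW) [] = true ∧
    HePres.sameW (1 :: fiveW) (fiveW ++ [1]) = true ∧ inX fiveW = true ∧
    ((List.range 2058).filter fun x => evalW xTabs fiveW x == x) = fiveFix := by decide +kernel

theorem card_centB_le : Nat.card (Subgroup.centralizer {im9 1} : Subgroup Cfsg.Spor.He) ≤ 161280 := by
  haveI : Finite Cfsg.Spor.He := bound_all.1
  set C := (Subgroup.centralizer {im9 1} : Subgroup Cfsg.Spor.He)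
  let h : Fin 1470 × Fin 17 → Cfsg.Spor.He := fun p => (wval imX (repWord p.1.val ++ powWord p.2.val))⁻¹
  have hinj : Function.Injective fun p => (h p : Cfsg.Spor.He ⧸ C) := fun p q e => by
    have h1 := Subgroup.mem_centralizer_singleton_iff.1 (QuotientGroup.eq.1 e)
    obtain ⟨a, b⟩ := rotEl_inj p.1.isLt p.2.isLt q.1.isLt q.2.isLt (by
      rw [rotEl_val p.1.isLt p.2.isLt, rotEl_val q.1.isLt q.2.isLt]
      simp only [h, inv_inv] at h1
      calc _ = (wval imX (repWord p.1.val ++ powWord p.2.val))⁻¹ * (im9 1 * (wval imX (repWord p.1.val ++ powWord p.2.val) *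
            (wval imX (repWord q.1.val ++ powWord q.2.val))⁻¹)) * wval imX (repWord q.1.val ++ powWord q.2.val) := by group
        _ = (wval imX (repWord p.1.val ++ powWord p.2.val))⁻¹ * (wval imX (repWord p.1.val ++ powWord p.2.val) *
            (wval imX (repWord q.1.val ++ powWord q.2.val))⁻¹ * im9 1) * wval imX (repWord q.1.val ++ powWord q.2.val) := by
          rw [h1]
        _ = _ := by group)
    exact Prod.ext (Fin.ext a) (Fin.ext b)
  have hle := Nat.card_le_card_of_injective _ hinj
  rw [Nat.card_prod, Nat.card_fin, Nat.card_fin] at hle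
  have h1 : Nat.card C * Nat.card (Cfsg.Spor.He ⧸ C) = 4030387200 := by
    rw [← card_he]
    exact Subgroup.card_mul_index C
  have h2 := Nat.mul_le_mul_left (Nat.card C) hle
  rw [h1] at h2
  omega

theorem card_centB : Nat.card (Subgroup.centralizer {im9 1} : Subgroup Cfsg.Spor.He) = 161280 :=
  le_antisymm card_centB_le card_centB_ge

theorem psi_fix {w : List ℕ} (hw : inX w = true) (x : Fin 2058) :
    wval imX w • x = x ↔ evalW xTabs w x = x := by
  rw [← evalX_apply hw x, show wval imX w • x = psi (wval imX w) x from rfl]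
  constructor
  · intro h
    rw [Equiv.Perm.inv_def, (Equiv.symm_apply_eq _).mpr h.symm]
  · intro h
    have h' : (psi (wval imX w))⁻¹ x = x := Fin.ext h
    rw [Equiv.Perm.inv_def, Equiv.symm_apply_eq] at h'
    exact h'.symm

theorem not_seven_fix (p : Fin 2058) {y : Cfsg.Spor.He} (hy : orderOf y = 7) : y • p ≠ p := by
  intro h
  haveI : Finite Cfsg.Spor.He := bound_all.1
  haveI := HePres.transitive
  have hidx : (MulAction.stabilizer Cfsg.Spor.He p).index = 2058 := by
    rw [MulAction.index_stabilizer_of_transitive, Nat.card_fin]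
  have hc := Subgroup.card_mul_index (MulAction.stabilizer Cfsg.Spor.He p)
  rw [hidx, card_he] at hc
  have hd := orderOf_dvd_natCard (⟨y, h⟩ : MulAction.stabilizer Cfsg.Spor.He p)
  rw [← Subgroup.orderOf_coe] at hd
  simp only [hy] at hd
  omega

/-- There is no element of order thirty-five centralising the second letter. -/
theorem no_thirty_five {x : Cfsg.Spor.He} (hx : x * im9 1 = im9 1 * x) : orderOf x ≠ 35 := by
  intro ho
  haveI : Finite Cfsg.Spor.He := bound_all.1
  haveI : Fact (Nat.Prime 5) := ⟨by norm_num⟩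
  haveI : Fact (Nat.Prime 7) := ⟨by norm_num⟩
  obtain ⟨hpow, hcom, hin, hfix⟩ := fiveW_ok
  set w := wval imX fiveW with hw
  set C := (Subgroup.centralizer {im9 1} : Subgroup Cfsg.Spor.He) with hC
  have hwC : w ∈ C := by
    have e := sameW_sound hcom
    rw [wval_cons, wvalX_append, wval_cons, wval_nil, mul_one, imX_low (by norm_num)] at e
    exact Subgroup.mem_centralizer_singleton_iff.2 e.symm
  have hw5 : orderOf w = 5 := by
    refine orderOf_eq_prime ?_ fun e => ?_
    · have e := sameW_sound hpow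
      simp only [wvalX_append, wval_nil] at e
      rw [← e, pow_succ, pow_succ, pow_succ, pow_succ, pow_one]
    · have h0 : evalW xTabs fiveW 0 = 0 := (psi_fix hin ⟨0, by norm_num⟩).mp (by rw [← hw, e, one_smul])
      have : (0 : ℕ) ∈ fiveFix := hfix ▸ List.mem_filter.2 ⟨List.mem_range.2 (by norm_num), by rw [h0]; rfl⟩
      revert this; decide
  let y : C := ⟨x ^ 7, Subgroup.pow_mem _ (Subgroup.mem_centralizer_singleton_iff.2 hx) 7⟩
  have hy : orderOf y = 5 := by
    rw [Subgroup.orderOf_mk, orderOf_pow' x (by norm_num), ho]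
    norm_num
  have hyp : IsPGroup 5 (Subgroup.zpowers y) := IsPGroup.of_card (n := 1) (by rw [Nat.card_zpowers, hy]; rfl)
  obtain ⟨P, hP⟩ := hyp.exists_le_sylow
  let wC : C := ⟨w, hwC⟩
  have hwcard : Nat.card (Subgroup.zpowers wC) = 5 ^ (Nat.card C).factorization 5 := by
    rw [Nat.card_zpowers, Subgroup.orderOf_mk, hw5, card_centB]
    have : (161280 : ℕ).factorization 5 = 1 := by
      rw [show (161280 : ℕ) = 5 ^ 1 * 32256 by norm_num, Nat.factorization_mul (by norm_num) (by norm_num),
        Finsupp.add_apply, Nat.Prime.factorization_pow (by norm_num), Finsupp.single_eq_same,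
        Nat.factorization_eq_zero_of_not_dvd (by norm_num), add_zero]
    rw [this, pow_one]
  let W : Sylow 5 C := Sylow.ofCard (Subgroup.zpowers wC) hwcard
  obtain ⟨c, hc⟩ := MulAction.exists_smul_eq C P W
  have hmem : c * y * c⁻¹ ∈ (W : Subgroup C) := by
    rw [← hc]
    exact Subgroup.smul_mem_pointwise_smul _ _ _ (hP (Subgroup.mem_zpowers y))
  have hyne : c * y * c⁻¹ ≠ 1 := fun e => by
    rw [conj_eq_one_iff] at e
    rw [e, orderOf_one] at hy
    norm_num at hy
  -- the conjugate of the element of order five generates the same group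
  have hgen : wC ∈ Subgroup.zpowers (c * y * c⁻¹) := by
    have h1 : Subgroup.zpowers (c * y * c⁻¹) = Subgroup.zpowers wC := by
      refine Subgroup.eq_of_le_of_card_ge (by rw [Subgroup.zpowers_le]; exact hmem) ?_
      rw [Nat.card_zpowers, Nat.card_zpowers, Subgroup.orderOf_mk, hw5,
        show orderOf (c * y * c⁻¹) = orderOf y from orderOf_injective (MulAut.conj c).toMonoidHom
          (MulAut.conj c).injective y, hy]
    rw [h1]; exact Subgroup.mem_zpowers _
  obtain ⟨n, hn⟩ := Subgroup.mem_zpowers_iff.1 hgen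
  set z := (c : Cfsg.Spor.He) * x ^ 5 * (c : Cfsg.Spor.He)⁻¹ with hz
  have hz7 : orderOf z = 7 := by
    rw [hz, show orderOf ((c : Cfsg.Spor.He) * x ^ 5 * (c : Cfsg.Spor.He)⁻¹) = orderOf (x ^ 5) from
      orderOf_injective (MulAut.conj (c : Cfsg.Spor.He)).toMonoidHom (MulAut.conj (c : Cfsg.Spor.He)).injective _,
      orderOf_pow' x (by norm_num), ho]
    norm_num
  have hzw : Commute z w := by
    have h1 : Commute z ((c : Cfsg.Spor.He) * x ^ 7 * (c : Cfsg.Spor.He)⁻¹) :=
      ((Commute.refl x).pow_pow 5 7).map (MulAut.conj (c : Cfsg.Spor.He)).toMonoidHom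
    have h2 := h1.zpow_right n
    have e := congrArg (fun q : C => (q : Cfsg.Spor.He)) hn
    simp only [Subgroup.coe_zpow, Subgroup.coe_mul, Subgroup.coe_inv] at e
    rwa [show ((c : Cfsg.Spor.He) * x ^ 7 * (c : Cfsg.Spor.He)⁻¹) ^ n = w from e] at h2
  -- the element of order seven acts on the fixed points
  let Φ : Set (Fin 2058) := {p | w • p = p}
  let Z : Subgroup Cfsg.Spor.He := Subgroup.zpowers z
  letI act : MulAction Z Φ :=
    { smul := fun g p => ⟨(g : Cfsg.Spor.He) • p.1, by
        have hg : Commute (g : Cfsg.Spor.He) w := by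
          obtain ⟨m, hm⟩ := Subgroup.mem_zpowers_iff.1 g.2
          rw [← hm]
          exact hzw.zpow_left m
        show w • ((g : Cfsg.Spor.He) • p.1) = _
        rw [← mul_smul, ← hg.eq, mul_smul, p.2]⟩
      one_smul := fun p => Subtype.ext (one_smul _ p.1)
      mul_smul := fun g h p => Subtype.ext (mul_smul (g : Cfsg.Spor.He) (h : Cfsg.Spor.He) p.1) }
  have hΦ : Nat.card Φ = 8 := by
    have e : Φ = {p : Fin 2058 | p.val ∈ fiveFix} := Set.ext fun p => by
      rw [← hfix]
      simp only [Φ, Set.mem_setOf_eq, List.mem_filter, List.mem_range, beq_iff_eq, p.isLt, true_and]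
      exact psi_fix hin p
    rw [e]
    let f : Fin 8 → {p : Fin 2058 | p.val ∈ fiveFix} := fun i => ⟨⟨fiveFix.getD i.val 0, by
      have : ∀ i : Fin 8, fiveFix.getD i.val 0 < 2058 := by decide
      exact this i⟩, by
      have : ∀ i : Fin 8, fiveFix.getD i.val 0 ∈ fiveFix := by decide
      exact this i⟩
    rw [← Nat.card_eq_of_bijective f ⟨fun a b h => by
      have : ∀ a b : Fin 8, fiveFix.getD a.val 0 = fiveFix.getD b.val 0 → a = b := by decide
      exact this a b (congrArg (fun p : {p : Fin 2058 | p.val ∈ fiveFix} => (p : Fin 2058).val) h), fun p => by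
      obtain ⟨i, hi, e⟩ := List.getElem_of_mem p.2
      refine ⟨⟨i, hi⟩, Subtype.ext (Fin.ext ?_)⟩
      show fiveFix.getD i 0 = _
      rw [List.getD_eq_getElem _ _ hi, e]⟩, Nat.card_fin]
  have hZ : IsPGroup 7 Z := IsPGroup.of_card (n := 1) (by rw [Nat.card_zpowers, hz7]; rfl)
  obtain ⟨p, hp⟩ := hZ.nonempty_fixed_point_of_prime_not_dvd_card Φ (by rw [hΦ]; norm_num)
  exact not_seven_fix p.1 hz7 (congrArg Subtype.val (hp ⟨z, Subgroup.mem_zpowers z⟩))

end Cfsg.Lib.HeldType.Held
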