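import Cfsg.Agent.Golay.AutM24
import Cfsg.Agent.S5608

/-!
Involutions of the Mathieu group without fixed points and commuting elements of order three and five.
-/

set_option autoImplicit false

namespace Cfsg.Lib.HeldType.Mathieu

open Cfsg Cfsg.Lib.Golay Cfsg.Lib.PermCert Equiv

theorem fix_mod {p : ℕ} [Fact p.Prime] {x : Perm GolayPt} (hx : orderOf x = p) :
    (Finset.univ.filter fun a => x a = a).card % p = 24 % p := by
  classical
  have h := Perm.card_compl_support_modEq (σ := x) (p := p) (n := 1) (by rw [pow_one, ← hx, pow_orderOf_eq_one])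
  rw [show x.supportᶜ = Finset.univ.filter fun a => x a = a by ext a; simp,
    show Fintype.card GolayPt = 24 by decide +kernel] at h
  exact h

theorem no_three_five {s x y : Perm GolayPt} (hs : s ∈ M24) (hx : x ∈ M24) (h2 : orderOf s = 2)
    (hfix : fixCard s = 0) (h3 : orderOf x = 3) (h5 : orderOf y = 5) (hxs : Commute x s) (hys : Commute y s)
    (hxy : Commute x y) : False := by
  classical
  haveI : Fact (Nat.Prime 2) := ⟨Nat.prime_two⟩
  haveI : Fact (Nat.Prime 3) := ⟨Nat.prime_three⟩
  haveI : Fact (Nat.Prime 5) := ⟨by norm_num⟩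
  have hs0 : ∀ a, s a ≠ a := fun a ha => by
    have : a ∈ (Finset.univ.filter fun a => s a = a) := by simp [ha]
    rw [Finset.card_eq_zero.mp hfix] at this
    simp at this
  have hx0 : ∀ a, x a ≠ a := fun a ha => by
    rcases Cfsg.Agent.S5608.result x s hx hs h3 h2 hxs with ⟨-, h⟩ | ⟨h, -⟩
    · exact absurd h (by rw [show (Finset.univ.filter fun p => s p = p).card = fixCard s from rfl, hfix]; norm_num)
    · have : a ∈ (Finset.univ.filter fun a => x a = a) := by simp [ha]
      rw [Finset.card_eq_zero.mp h] at this
      simp at this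
  -- the fixed points of the element of order five form a union of orbits
  set F := Finset.univ.filter fun a => y a = a with hF
  have hinv : ∀ {g : Perm GolayPt}, Commute g y → ∀ a, a ∈ F ↔ g a ∈ F := by
    intro g hg a
    have e : y (g a) = g (y a) := by
      have := congrArg (fun f : Perm GolayPt => f a) hg.eq
      simpa using this.symm
    simp only [hF, Finset.mem_filter, Finset.mem_univ, true_and, e, EmbeddingLike.apply_eq_iff_eq]
  have hdvd : ∀ {p : ℕ}, Fact p.Prime → ∀ {g : Perm GolayPt}, Commute g y → orderOf g = p →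
      (∀ a, g a ≠ a) → p ∣ F.card := by
    intro p hp g hg ho hg0
    haveI := hp
    let g' : Perm F := g.subtypePerm fun a => (hinv hg a).symm
    have hg' : g' ^ p ^ 1 = 1 := by
      rw [pow_one]
      refine Equiv.ext fun a => Subtype.ext ?_
      rw [Perm.subtypePerm_pow]
      show (g ^ p) a.1 = a.1
      rw [← ho, pow_orderOf_eq_one]
      rfl
    have h := Perm.card_compl_support_modEq (σ := g') hg'
    rw [Fintype.card_coe, show g'.supportᶜ = ∅ by
      ext a
      simp only [Finset.mem_compl, Perm.mem_support, ne_eq, not_not, Finset.notMem_empty, iff_false]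
      exact fun e => hg0 a.1 (congrArg Subtype.val e), Finset.card_empty] at h
    exact Nat.modEq_zero_iff_dvd.mp h.symm
  have d2 := hdvd ⟨Nat.prime_two⟩ hys.symm h2 hs0
  have d3 := hdvd ⟨Nat.prime_three⟩ hxy h3 hx0
  have hmod : F.card % 5 = 4 := fix_mod h5
  have hle : F.card ≤ 24 := (Finset.card_le_univ F).trans (le_of_eq (by decide +kernel))
  have h24 : F.card = 24 := by omega
  have hone : y = 1 := Equiv.ext fun a => by
    have : a ∈ F := by
      rw [Finset.eq_univ_of_card F (by rw [h24]; decide +kernel)]
      exact Finset.mem_univ a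
    exact (Finset.mem_filter.mp this).2
  rw [hone, orderOf_one] at h5
  norm_num at h5

end Cfsg.Lib.HeldType.Mathieu
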