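import Cfsg.Agent.HeldType.ModelA
import Cfsg.Agent.Classical.SL

/-!
The interchanging matrices and the centraliser generate the special linear group.
-/

set_option autoImplicit false
set_option maxRecDepth 100000

namespace Cfsg.Lib.HeldType

/-- Words conjugating the central transvection to the elementary ones. -/
def tvWords : Tab (List Let) :=
(.node 12 (.node 6 (.node 3 (.node 1 (.leaf [])
 (.node 1 (.leaf [])
 (.leaf [.t false, .t false, .h 32125001, .t false])))
 (.node 1 (.leaf [.h 32125001, .h 10971209, .t false])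
 (.node 1 (.leaf [.t false])
 (.leaf [.h 10971209, .t false, .h 32125001, .h 32125001, .t true, .h 10971209, .t false]))))
 (.node 3 (.node 1 (.leaf [])
 (.node 1 (.leaf [.h 10971209, .h 10971209, .t false, .h 32125001, .t true, .t false])
 (.leaf [.h 32125001, .h 10971209, .t true, .t false, .h 32125001, .t true])))
 (.node 1 (.leaf [.t false, .t true, .h 32125001, .h 32125001, .t true])
 (.node 1 (.leaf [.t true, .t false, .t false, .h 32125001, .t false])
 (.leaf [.t true])))))
 (.node 6 (.node 3 (.node 1 (.leaf [])
 (.node 1 (.leaf [.t true, .h 10971209, .t false, .h 32125001, .t false])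
 (.leaf [.t true, .t false])))
 (.node 1 (.leaf [.h 10971209, .t true, .t false, .h 32125001, .h 32125001, .t false])
 (.node 1 (.leaf [.h 10971209, .t true])
 (.leaf [.h 10971209, .t true, .h 32125001, .h 10971209, .t false]))))
 (.node 3 (.node 1 (.leaf [])
 (.node 1 (.leaf [.t false, .h 10971209, .t true])
 (.leaf [.h 32125001, .h 10971209, .h 10971209, .t true, .h 10971209, .t false])))
 (.node 2 (.node 1 (.leaf [.h 32125001, .h 10971209, .h 10971209, .t true])
 (.leaf [.h 32125001, .h 10971209, .h 10971209, .t true, .t false]))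
 (.node 1 (.leaf [.h 32125001, .h 10971209, .t false, .h 10971209, .t true])
 (.leaf []))))))

/-- The code of a letter. -/
def letCode : Let → ℕ
  | .h c => c
  | .t b => tCode b

/-- The code of a word. -/
def wordCode : List Let → ℕ
  | [] => cOne
  | l :: w => cm (letCode l) (wordCode w)

theorem tv_ok : ∀ i j : Fin 5, i ≠ j → okWord (tvWords.get (5 * i.val + j.val)) = true ∧
    mat (cm (cOne ||| 2 ^ (5 * i.val + j.val)) (wordCode (tvWords.get (5 * i.val + j.val)))) =
      mat (cm (wordCode (tvWords.get (5 * i.val + j.val))) cZ) ∧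
    mat (cOne ||| 2 ^ (5 * i.val + j.val)) = Matrix.transvection i j 1 := by
  decide +kernel

attribute [local irreducible] elS tCode

theorem word_mem : ∀ {w : List Let}, okWord w = true → ∃ g ∈ pairSL.grp, g.1 = mat (wordCode w)
  | [], _ => ⟨1, Subgroup.one_mem _, mat_one.symm⟩
  | l :: w, h => by
    simp only [okWord, List.all_cons, Bool.and_eq_true] at h
    obtain ⟨g, hg, e⟩ := word_mem (w := w) h.2
    cases l with
    | h c =>
      refine ⟨settingSL.η c * g, Subgroup.mul_mem _ (pairSL.η_mem h.1) hg, ?_⟩
      rw [Matrix.SpecialLinearGroup.coe_mul, e, show settingSL.η c = elS c from rfl, elS_val h.1]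
      simp only [wordCode, letCode, mat_cm]
    | t b =>
      refine ⟨pairSL.T b * g, Subgroup.mul_mem _ (pairSL.T_mem b) hg, ?_⟩
      rw [Matrix.SpecialLinearGroup.coe_mul, e, show pairSL.T b = tSL b from rfl]
      simp only [wordCode, letCode, tSL, mat_cm]

theorem pairSL_top : pairSL.grp = ⊤ := by
  refine Cfsg.Lib.Classical.eq_top_of_transvection_mem _ fun i j hij c => ?_
  have hc : c = 0 ∨ c = 1 := by
    revert c
    decide
  rcases hc with rfl | rfl
  · have e : (Matrix.SpecialLinearGroup.transvection hij (0 : ZMod 2)) = 1 :=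
      Subtype.ext (Matrix.transvection_zero i j)
    rw [e]
    exact Subgroup.one_mem _
  · obtain ⟨h1, h2, h3⟩ := tv_ok i j hij
    obtain ⟨g, hg, e⟩ := word_mem h1
    have hz : settingSL.η cZ ∈ pairSL.grp := pairSL.η_mem valid_z
    have key : Matrix.SpecialLinearGroup.transvection hij (1 : ZMod 2) = g * settingSL.η cZ * g⁻¹ := by
      rw [eq_mul_inv_iff_mul_eq]
      refine Subtype.ext ?_
      rw [Matrix.SpecialLinearGroup.coe_mul, Matrix.SpecialLinearGroup.coe_mul, e,
        show settingSL.η cZ = elS cZ from rfl, elS_val valid_z,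
        show (Matrix.SpecialLinearGroup.transvection hij (1 : ZMod 2)).1 = Matrix.transvection i j 1 from rfl,
        ← h3, ← mat_cm, ← mat_cm, h2]
    rw [key]
    exact Subgroup.mul_mem _ (Subgroup.mul_mem _ hg hz) (Subgroup.inv_mem _ hg)

end Cfsg.Lib.HeldType
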