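import Cfsg.Agent.HeldType.EnumBound

/-!
Normalisation of the two interchanging elements.
-/

set_option autoImplicit false
set_option maxRecDepth 100000

namespace Cfsg.Lib.HeldType

/-- The product of the central involution and the coded conjugate. -/
def SideD.ze (D : SideD) : ℕ := cm cZ D.C.x

/-- The image of a code under an option. -/
def SideD.img (D : SideD) (i c : ℕ) : ℕ := match D.C.ix.find c with
  | some m => (D.fwd.get i).get m
  | none => 0

/-- The square is determined up to a shift. -/
def sqOK (D : SideD) (i r2 : ℕ) : Bool :=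
  let f := D.img i
  valid r2 && valid D.ze && allR (fun j => D.inR (D.g.get j) && D.inR (f (D.g.get j))) 0 3 &&
  allR (fun k => valid ((D.fwd.get i).get k) && comm (D.C.el.get k) cZ &&
    (!(allR (fun j => Nat.beq (cm (D.C.el.get k) (D.g.get j)) (cm (f (f (D.g.get j))) (D.C.el.get k))) 0 3 &&
        Nat.beq ((D.fwd.get i).get k) (D.C.el.get k)) ||
      Nat.beq (D.C.el.get k) r2 ||
      (Nat.beq (D.C.el.get k) (cm r2 D.ze) && Nat.beq (cm (cm D.C.x (D.C.el.get k)) cZ) r2))) 0 D.C.n

/-- The cube is determined. -/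
def cubeOK (P : Pars) (b : Bool) (psi r3 : ℕ) : Bool :=
  let D := P.side b
  let X : List Let := [.t b, .h psi]
  let one := fun c => conjWord P X c
  valid psi && valid r3 && valid D.ze &&
  (match one D.ze with | some _ => true | none => false) &&
  Nat.beq (cm psi D.C.x) (cm D.ze psi) && Nat.beq (cm psi cZ) (cm cZ psi) && comm cZ D.C.x &&
  allR (fun j => (D.inR (D.g.get j)) && ((one (D.g.get j)).bind one >>= one).isSome) 0 3 &&
  allR (fun k => (one (D.C.el.get k)).isSome &&
    (!((match one (D.C.el.get k) with | some d => Nat.beq d (D.C.el.get k) | none => false) &&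
      allR (fun j => match (one (D.g.get j)).bind one >>= one with
        | some d => Nat.beq (cm (D.C.el.get k) (D.g.get j)) (cm d (D.C.el.get k))
        | none => false) 0 3) ||
    Nat.beq (D.C.el.get k) r3)) 0 D.C.n

variable {G : Type*} [Group G] {S : Setting G}

theorem Setting.exists_square {D : SideD} (hD : D.C.ok = true) {i r2 : ℕ} {t : G} (ht : S.Acts D i t)
    (h : sqOK D i r2 = true) : ∃ T, S.Acts D i T ∧ T * T = S.η r2 := by
  simp only [sqOK, Bool.and_eq_true] at h
  obtain ⟨⟨⟨hr, hze⟩, hg⟩, hk⟩ := h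
  have hx := CentData.x_valid hD
  obtain ⟨⟨h1, h2⟩, hact⟩ := ht
  have hz2 : t * t * S.z = S.z * (t * t) := by rw [mul_assoc, h1, ← mul_assoc, h2, mul_assoc]
  have hx2 : t * t * S.η D.C.x = S.η D.C.x * (t * t) := by rw [mul_assoc, h2, ← mul_assoc, h1, mul_assoc]
  obtain ⟨d, hd, hde⟩ := S.η_surj hz2
  obtain ⟨k, hkn, rfl⟩ := CentData.complete hD hd (S.η_inj (valid_cm hd hx) (valid_cm hx hd) (by
    rw [S.η_mul hd hx, S.η_mul hx hd, hde, hx2]))
  have hk1 := allR_sound _ _ _ hk k (Nat.zero_le _) (by omega)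
  simp only [Bool.and_eq_true, Bool.or_eq_true] at hk1
  obtain ⟨⟨hfk, hkz⟩, hk2⟩ := hk1
  have hfix : Nat.beq ((D.fwd.get i).get k) (D.C.el.get k) = true := by
    have e := hact k hkn
    rw [hde, ← mul_assoc] at e
    have e2 := S.η_inj hfk hd ((mul_right_cancel e).symm.trans hde.symm)
    rw [e2]; exact Nat.beq_refl _
  set f : ℕ → ℕ := D.img i with hf
  have hfs : ∀ {c}, D.inR c = true → valid c = true ∧ valid (f c) = true ∧ t * S.η c = S.η (f c) * t := by
    intro c hc
    obtain ⟨m, hm⟩ := Option.isSome_iff_exists.mp hc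
    obtain ⟨m1, m2⟩ := CentData.find_el hD hm
    have hv := allR_sound _ _ _ hk m (Nat.zero_le _) (by omega)
    simp only [Bool.and_eq_true] at hv
    have := hact m m1
    rw [m2] at this
    refine ⟨m2 ▸ (CentData.el_ok hD m1).1, ?_, ?_⟩ <;> simp only [hf, SideD.img, hm]
    exacts [hv.1.1, this]
  have hgens : allR (fun j => Nat.beq (cm (D.C.el.get k) (D.g.get j)) (cm (f (f (D.g.get j))) (D.C.el.get k))) 0 3 = true := by
    have key : ∀ j, j < 3 → Nat.beq (cm (D.C.el.get k) (D.g.get j)) (cm (f (f (D.g.get j))) (D.C.el.get k)) = true := by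
      intro j hj
      have h0 := allR_sound _ _ _ hg j (Nat.zero_le _) (by omega)
      simp only [Bool.and_eq_true] at h0
      obtain ⟨a1, a2, a3⟩ := hfs h0.1
      obtain ⟨-, b2, b3⟩ := hfs h0.2
      rw [S.η_inj (valid_cm hd a1) (valid_cm b2 hd) (by
        rw [S.η_mul hd a1, S.η_mul b2 hd, hde, mul_assoc, a3, ← mul_assoc, b3, mul_assoc])]
      exact Nat.beq_refl _
    simp only [allR, key 0 (by norm_num), key 1 (by norm_num), key 2 (by norm_num), Bool.and_self, Bool.and_true]
  simp only [hgens, hfix, Bool.and_self, Bool.not_true, Bool.false_eq_true, false_or] at hk2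
  rcases hk2 with e | ⟨-, e⟩
  · exact ⟨t, ⟨⟨h1, h2⟩, hact⟩, by rw [← hde, Nat.eq_of_beq_eq_true e]⟩
  · refine ⟨t * S.z, ⟨⟨?_, ?_⟩, fun m hm => ?_⟩, ?_⟩
    · rw [← mul_assoc, ← h1]
    · rw [mul_assoc, ← S.η_comm hx, ← mul_assoc, h2, mul_assoc]
    · rw [mul_assoc, ← S.η_comm (CentData.el_ok hD hm).1, ← mul_assoc, hact m hm, mul_assoc]
    · rw [← Nat.eq_of_beq_eq_true e, S.η_mul (valid_cm hx hd) valid_z, S.η_mul hx hd, hde, S.η_z]
      calc t * S.z * (t * S.z) = (t * S.z) * t * S.z := by simp only [mul_assoc]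
        _ = S.η D.C.x * t * t * S.z := by rw [h1]
        _ = _ := by simp only [mul_assoc]

variable {P : Pars} (Q : Pair S P)

theorem Pair.cube_eq {b : Bool} {psi r3 : ℕ} (h : cubeOK P b psi r3 = true) :
    (Q.T b * S.η psi) ^ 3 = S.η r3 := by
  simp only [cubeOK, Bool.and_eq_true] at h
  obtain ⟨⟨⟨⟨⟨⟨⟨⟨hp, -⟩, hze⟩, -⟩, hpx⟩, hpz⟩, hzx⟩, hg⟩, hk⟩ := h
  set D := P.side b
  have hD : D.C.ok = true := Q.side_ok b
  have hx := CentData.x_valid hD
  obtain ⟨⟨h1, h2⟩, -⟩ := Q.acts b
  set Y := Q.T b * S.η psi with hY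
  clear_value Y
  set z := S.z
  set x := S.η D.C.x
  have hxz : S.η D.ze = z * x := by rw [SideD.ze, S.η_mul valid_z hx, S.η_z]
  have hzx' : z * x = x * z := (S.η_comm hx).symm
  have y1 : Y * z = x * Y := by rw [hY, mul_assoc, S.η_comm hp, ← mul_assoc, h1, mul_assoc]
  have y2 : Y * x = x * z * Y := by
    have e := congrArg S.η (Nat.eq_of_beq_eq_true hpx)
    rw [S.η_mul hp hx, S.η_mul hze hp, hxz] at e
    rw [hY, mul_assoc, e, ← mul_assoc, ← mul_assoc, h1, mul_assoc x (Q.T b), h2, ← mul_assoc, mul_assoc]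
  have y3 : Y * (x * z) = z * Y := by
    rw [← mul_assoc, y2, mul_assoc (x * z), y1, ← mul_assoc, mul_assoc x z x, hzx', ← mul_assoc,
      show x * x = 1 by
        have hxx : cm D.C.x D.C.x = cOne := by
          have e := S.conj_mul valid_z valid_z hx hx (t := Q.T b) (by rw [S.η_z]; exact h1) (by rw [S.η_z]; exact h1)
          rw [show cm cZ cZ = cOne by decide +kernel, S.η_one, mul_one] at e
          refine S.η_inj (valid_cm hx hx) valid_one (mul_right_cancel (b := Q.T b) ?_)
          rw [S.η_one, one_mul, ← e]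
        rw [← S.η_mul hx hx, hxx, S.η_one], one_mul]
  have c3 : ∀ {a p q : G}, Y * a = p * Y → Y * p = q * Y → Y * q = a * Y → Y ^ 3 * a = a * Y ^ 3 :=
    fun {a p q} d1 d2 d3 => by
      rw [pow_succ, pow_two, mul_assoc (Y * Y), d1, ← mul_assoc, mul_assoc Y Y p, d2, ← mul_assoc, d3]
      simp only [mul_assoc]
  obtain ⟨d, hd, hde⟩ := S.η_surj (c3 y1 y2 y3)
  obtain ⟨k, hkn, rfl⟩ := CentData.complete hD hd (S.η_inj (valid_cm hd hx) (valid_cm hx hd) (by
    rw [S.η_mul hd hx, S.η_mul hx hd, hde]; exact c3 y2 y3 y1))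
  have eX : Q.val [.t b, .h psi] = Y := by simp [Pair.val, Pair.letter, hY]
  have hk1 := allR_sound _ _ _ hk k (Nat.zero_le _) (by omega)
  simp only [Bool.and_eq_true, Bool.or_eq_true] at hk1
  obtain ⟨hsome, hk2⟩ := hk1
  obtain ⟨d1, hd1⟩ := Option.isSome_iff_exists.mp hsome
  obtain ⟨-, hd1v, hd1e⟩ := Q.conjWord_sound hd1
  have hfix : Nat.beq d1 (D.C.el.get k) = true := by
    rw [eX, hde, ← pow_succ', pow_succ] at hd1e
    rw [← hde] at hd1e
    rw [← S.η_inj hd hd1v (mul_right_cancel hd1e)]
    exact Nat.beq_refl _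
  have hgens : ∀ j, j < 3 → (match (conjWord P [.t b, .h psi] (D.g.get j)).bind (conjWord P [.t b, .h psi]) >>=
      conjWord P [.t b, .h psi] with
      | some d => Nat.beq (cm (D.C.el.get k) (D.g.get j)) (cm d (D.C.el.get k))
      | none => false) = true := by
    intro j hj
    have h0 := allR_sound _ _ _ hg j (Nat.zero_le _) (by omega)
    simp only [Bool.and_eq_true] at h0
    obtain ⟨e3, he3⟩ := Option.isSome_iff_exists.mp h0.2
    rw [he3]
    simp only [bind, Option.bind_eq_some_iff] at he3
    obtain ⟨e2, ⟨e1, he1, he2⟩, he3⟩ := he3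
    obtain ⟨v0, -, k1⟩ := Q.conjWord_sound he1
    obtain ⟨-, -, k2⟩ := Q.conjWord_sound he2
    obtain ⟨-, v3, k3⟩ := Q.conjWord_sound he3
    rw [eX] at k1 k2 k3
    dsimp only
    rw [S.η_inj (valid_cm hd v0) (valid_cm v3 hd) (by
      rw [S.η_mul hd v0, S.η_mul v3 hd, hde, pow_succ, pow_two, mul_assoc (Y * Y), k1, ← mul_assoc, mul_assoc Y Y,
        k2, ← mul_assoc, k3]
      simp only [mul_assoc])]
    exact Nat.beq_refl _
  have hall : allR (fun j => match (conjWord P [.t b, .h psi] (D.g.get j)).bind (conjWord P [.t b, .h psi]) >>=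
      conjWord P [.t b, .h psi] with
      | some d => Nat.beq (cm (D.C.el.get k) (D.g.get j)) (cm d (D.C.el.get k))
      | none => false) 0 3 = true := by
    simp only [allR, hgens 0 (by norm_num), hgens 1 (by norm_num), hgens 2 (by norm_num), Bool.and_self, Bool.and_true]
  rw [hd1] at hk2
  simp only [hall, hfix, Bool.and_self, Bool.not_true, Bool.false_eq_true, false_or] at hk2
  rw [← Nat.eq_of_beq_eq_true hk2, hde]

/-- The shift of the second interchanging element is allowed. -/
def gaugeOK (P : Pars) : Bool :=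
  let D := P.side true
  let c := D.ze
  valid c && Nat.beq (cm c cZ) (cm cZ c) &&
  (match D.C.ix.find c with | some k => Nat.beq ((D.fwd.get (P.opt true)).get k) c | none => false) &&
  Nat.beq (cm c c) cOne && allR (fun k => comm c (D.C.el.get k)) 0 D.C.n

/-- The shifted pair. -/
theorem Pair.exists_shift (h : gaugeOK P = true) : ∃ Q' : Pair S P, Q'.T false = Q.T false ∧
    Q'.T true = Q.T true * S.η (P.side true).ze := by
  simp only [gaugeOK, Bool.and_eq_true] at h
  obtain ⟨⟨⟨⟨hc, hcz⟩, hfix⟩, hcc⟩, hcomm⟩ := h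
  set D := P.side true
  set c := D.ze
  have hD : D.C.ok = true := Q.side_ok true
  obtain ⟨⟨h1, h2⟩, hact⟩ := Q.acts true
  have hcom : ∀ k < D.C.n, S.η c * S.η (D.C.el.get k) = S.η (D.C.el.get k) * S.η c := fun k hk => by
    have := allR_sound _ _ _ hcomm k (Nat.zero_le _) (by omega)
    rw [← S.η_mul hc (CentData.el_ok hD hk).1, ← S.η_mul (CentData.el_ok hD hk).1 hc,
      show cm c (D.C.el.get k) = cm (D.C.el.get k) c from Nat.eq_of_beq_eq_true this]
  have hcR : S.η c * S.η D.C.x = S.η D.C.x * S.η c := by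
    have hx := CentData.x_valid hD
    obtain ⟨m, hm, hme⟩ := CentData.complete hD hx rfl
    rw [← hme]; exact hcom m hm
  have hTc : Q.T true * S.η c = S.η c * Q.T true := by
    cases hf : D.C.ix.find c with
    | none => rw [hf] at hfix; simp at hfix
    | some k =>
      rw [hf] at hfix
      obtain ⟨k1, k2⟩ := CentData.find_el hD hf
      have := hact k k1
      rwa [k2, Nat.eq_of_beq_eq_true hfix] at this
  refine ⟨⟨fun b => bif b then Q.T true * S.η c else Q.T false, fun b => ?_, fun b => ?_, Q.side_ok, Q.opt_ok,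
    Q.sq_valid⟩, rfl, rfl⟩
  · cases b with
    | false => exact Q.acts false
    | true =>
      refine ⟨⟨?_, ?_⟩, fun k hk => ?_⟩
      · rw [cond_true, mul_assoc, S.η_comm hc, ← mul_assoc, h1, mul_assoc]
      · rw [cond_true, mul_assoc, hcR, ← mul_assoc, h2, mul_assoc]
      · rw [cond_true, mul_assoc, hcom k hk, ← mul_assoc, hact k hk, mul_assoc]
  · cases b with
    | false => exact Q.sq_eq false
    | true =>
      rw [cond_true, mul_assoc, ← mul_assoc (S.η c), ← hTc, mul_assoc (Q.T true), ← S.η_mul hc hc,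
        Nat.eq_of_beq_eq_true hcc, S.η_one, mul_one, Q.sq_eq]

/-- The correction of a word under the shift. -/
def gaugeK (P : Pars) : List Let → Option ℕ
  | [] => some cOne
  | .h g :: w => (gaugeK P w).bind fun K => conjWord P [.h g] K
  | .t b :: w => (gaugeK P w).bind fun K => conjWord P [.t b] (bif b then cm (P.side true).ze K else K)

theorem Pair.gaugeK_sound {Q' : Pair S P} (h0 : Q'.T false = Q.T false)
    (h1 : Q'.T true = Q.T true * S.η (P.side true).ze) (hc : valid (P.side true).ze = true) :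
    ∀ {w : List Let} {K : ℕ}, gaugeK P w = some K → valid K = true ∧ Q'.val w = S.η K * Q.val w
  | [], K, h => by
    simp only [gaugeK, Option.some.injEq] at h
    subst h
    exact ⟨valid_one, by rw [S.η_one, one_mul, Pair.val_nil, Pair.val_nil]⟩
  | .h g :: w, K, h => by
    simp only [gaugeK, Option.bind_eq_some_iff] at h
    obtain ⟨M, hM, hl⟩ := h
    obtain ⟨-, e⟩ := Pair.gaugeK_sound h0 h1 hc hM
    obtain ⟨-, hK, k1⟩ := Q.conjWord_sound hl
    refine ⟨hK, ?_⟩
    simp only [Q.val_cons, Q.val_nil, mul_one] at k1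
    rw [Q'.val_cons, Q.val_cons, e, ← mul_assoc, ← mul_assoc]
    exact congrArg (· * _) k1
  | .t b :: w, K, h => by
    simp only [gaugeK, Option.bind_eq_some_iff] at h
    obtain ⟨M, hM, hl⟩ := h
    obtain ⟨hMv, e⟩ := Pair.gaugeK_sound h0 h1 hc hM
    obtain ⟨-, hK, k1⟩ := Q.conjWord_sound hl
    refine ⟨hK, ?_⟩
    simp only [Q.val_cons, Q.val_nil, mul_one, Pair.letter] at k1
    rw [Q'.val_cons, Q.val_cons, e]
    cases b with
    | false =>
      simp only [cond_false] at k1
      show Q'.T false * _ = _ * (Q.T false * _)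
      rw [h0, ← mul_assoc, ← mul_assoc, k1]
    | true =>
      simp only [cond_true] at k1
      show Q'.T true * _ = _ * (Q.T true * _)
      rw [h1, ← mul_assoc, mul_assoc (Q.T true), ← S.η_mul hc hMv, k1, mul_assoc]

/-- The data of a case. -/
structure CaseD where
  P : Pars
  cu : Bool → CubeD
  loc : Bool → LocCert
  bit5 : Bool
  gauge : ℕ
  full : EnumD
  fullFrom : List (Bool × ℕ)
  bound : BoundD
  triv : EnumD
  trivFrom : List (Bool × ℕ)
  last : ℕ

/-- The relators come from the cubic relations and the paths. -/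
def CaseD.relsOK (C : CaseD) (E : EnumD) (src : List (Bool × ℕ)) (bit5 : Bool) : Bool :=
  match E.rels with
  | r0 :: r1 :: rest =>
    let cubic := fun b => [Let.t b, .h (C.cu b).psi, .t b, .h (C.cu b).psi, .t b, .h (C.cu b).psi,
      .h (cInv (C.cu b).r3)]
    sameW r0 (cubic false) && sameW r1 (cubic true) &&
    ([false, true].all fun b => valid (cInv (C.cu b).r3) && Nat.beq (cm (C.cu b).r3 (cInv (C.cu b).r3)) cOne) &&
    Nat.beq rest.length src.length &&
    (rest.zip src).all fun p => match (C.loc p.2.1).loops[p.2.2]? with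
      | some l => sameVal p.1 ((C.loc p.2.1).D.raw l.w ++
          [.h ((C.loc p.2.1).D.el.get (bif (p.2.1 && bit5) then l.u1 else l.u0))])
      | none => false
  | _ => false

/-- The normalisation path separates the two values. -/
def CaseD.gaugePathOK (C : CaseD) : Bool :=
  let L := C.loc false
  match L.loops[C.gauge]? with
  | some l => (match gaugeK C.P (L.D.raw l.w) with
      | some K => Nat.beq K (L.D.el.get (Nat.xor l.u0 l.u1))
      | none => false) && !Nat.beq l.u0 l.u1 && Nat.blt l.u0 64 && Nat.blt l.u1 64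
  | none => false

/-- The check of a case, apart from the enumerations. -/
def CaseD.okBase (C : CaseD) : Bool :=
  cubeOK C.P false (C.cu false).psi (C.cu false).r3 && cubeOK C.P true (C.cu true).psi (C.cu true).r3 &&
  gaugeOK C.P && C.gaugePathOK && C.relsOK C.full C.fullFrom C.bit5 && C.relsOK C.triv C.trivFrom (!C.bit5)

/-- All checks. -/
structure CaseD.Ok (C : CaseD) : Prop where
  base : C.okBase = true
  loc : ∀ b, (C.loc b).ok C.P C.cu = true
  fullDefs : C.full.okDefs = true
  fullFacts : ∀ k < C.full.nf, C.full.okAt C.P k = true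
  boundOk : C.bound.ok C.full C.P = true
  trivDefs : C.triv.okDefs = true
  trivFacts : ∀ k < C.triv.nf, C.triv.okAt C.P k = true
  lastOk : C.last < C.triv.nf ∧ (C.triv.facts.get C.last).a = 0 ∧ (C.triv.facts.get C.last).b = 0 ∧
    (C.triv.facts.get C.last).t.isSome = true

/-- The system of a pair. -/
def Pair.sys {P : Pars} (Q : Pair S P) : Sys P G where
  f := S.η
  T := Q.T
  f_mul := S.η_mul
  twist := fun b k hk => (Q.acts b).2 k hk
  el_valid := fun b k hk => ⟨(CentData.el_ok (Q.side_ok b) hk).1, Q.opt_ok b k hk⟩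
  sq_eq := Q.sq_eq
  sq_valid := Q.sq_valid

theorem Pair.sys_val {P : Pars} (Q : Pair S P) (w : List Let) : Q.sys.val w = Q.val w := by
  unfold Sys.val Pair.val
  congr 1

theorem CaseD.exists_good {C : CaseD} (hC : C.Ok) (Q : Pair S C.P)
    (hne : ∀ b, (C.P.side b).C.x ≠ cZ) :
    ∃ Q' : Pair S C.P, (∀ b, ∃ c, valid c = true ∧ Q'.T b = Q.T b * S.η c) ∧
      ∀ w ∈ C.full.rels, Q'.sys.val w = 1 := by
  obtain ⟨hbase, hloc, -, -, -, htd, htf, hlast, ha, hb, ht⟩ := hC
  simp only [CaseD.okBase, Bool.and_eq_true] at hbase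
  obtain ⟨⟨⟨⟨⟨hc0, hc1⟩, hga⟩, hgp⟩, hrf⟩, hrt⟩ := hbase
  have cubes : ∀ Q : Pair S C.P, Q.Cubes C.cu := fun Q b => by
    cases b
    exacts [Q.cube_eq hc0, Q.cube_eq hc1]
  have rels : ∀ (Q : Pair S C.P) (E : EnumD) (src : List (Bool × ℕ)) (b5 : Bool), C.relsOK E src b5 = true →
      (∀ l ∈ (C.loc false).loops, Q.val ((C.loc false).D.raw l.w) = (C.loc false).D.ee S l.u0) →
      (∀ l ∈ (C.loc true).loops, Q.val ((C.loc true).D.raw l.w) = (C.loc true).D.ee S (bif b5 then l.u1 else l.u0)) →
      ∀ w ∈ E.rels, Q.sys.val w = 1 := by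
    intro Q E src b5 h h0 h1 w hw
    rw [Q.sys_val]
    simp only [CaseD.relsOK] at h
    split at h
    · rename_i r0 r1 rest hr
      simp only [Bool.and_eq_true, List.all_eq_true] at h
      obtain ⟨⟨⟨⟨e0, e1⟩, hinv⟩, hlen⟩, hrest⟩ := h
      have hcubic : ∀ b, Q.val [Let.t b, .h (C.cu b).psi, .t b, .h (C.cu b).psi, .t b, .h (C.cu b).psi,
          .h (cInv (C.cu b).r3)] = 1 := fun b => by
        have hb : b ∈ [false, true] := by cases b <;> simp
        obtain ⟨i1, i2⟩ := hinv b hb
        have hr3 : valid (C.cu b).r3 = true := by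
          cases b
          · simp only [cubeOK, Bool.and_eq_true] at hc0; exact hc0.1.1.1.1.1.1.1.2
          · simp only [cubeOK, Bool.and_eq_true] at hc1; exact hc1.1.1.1.1.1.1.1.2
        have e := congrArg (· * S.η (cInv (C.cu b).r3)) (cubes Q b)
        simp only [pow_succ, pow_zero, one_mul, ← S.η_mul hr3 i1, Nat.eq_of_beq_eq_true i2, S.η_one] at e
        simp only [Q.val_cons, Q.val_nil, mul_one, Pair.letter]
        rw [← e]
        simp only [mul_assoc]
      rw [hr] at hw
      rcases List.mem_cons.mp hw with rfl | hw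
      · rw [sameW_eq e0]; exact hcubic false
      rcases List.mem_cons.mp hw with rfl | hw
      · rw [sameW_eq e1]; exact hcubic true
      obtain ⟨n, hn, rfl⟩ := List.getElem_of_mem hw
      have hn' : n < src.length := by rw [← Nat.eq_of_beq_eq_true hlen]; exact hn
      have hp := hrest (rest[n], src[n]) (List.mem_iff_getElem.mpr ⟨n, by simp [hn, hn'], by simp⟩)
      dsimp only at hp
      cases hl : (C.loc src[n].1).loops[src[n].2]? with
      | none => rw [hl] at hp; simp at hp
      | some l =>
        rw [hl] at hp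
        dsimp only at hp
        rw [Q.sameVal_sound hp, Q.val_append, Q.val_cons, Q.val_nil, mul_one]
        obtain ⟨-, hel, emul, -⟩ := grp_facts (S := S) (D := (C.loc src[n].1).D) (P := C.P) (by
          have := hloc src[n].1
          simp only [LocCert.ok, Bool.and_eq_true] at this
          exact this.1.1.1)
        have hlm := List.mem_of_getElem? hl
        have hu : l.u0 < 64 ∧ l.u1 < 64 := by
          have := hloc src[n].1
          simp only [LocCert.ok, Bool.and_eq_true, List.all_eq_true] at this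
          have := this.2 l hlm
          exact ⟨Nat.blt_eq.mp this.1.1.2, Nat.blt_eq.mp this.1.2⟩
        have hval : Q.val ((C.loc src[n].1).D.raw l.w) =
            (C.loc src[n].1).D.ee S (bif (src[n].1 && b5) then l.u1 else l.u0) := by
          cases hs : src[n].1 with
          | false => rw [hs] at hlm; rw [Bool.false_and, cond_false]; exact h0 l hlm
          | true => rw [hs] at hlm; rw [Bool.true_and]; exact h1 l hlm
        rw [hval]
        show _ * (C.loc src[n].1).D.ee S _ = 1
        have hlt : (bif (src[n].1 && b5) then l.u1 else l.u0) < 64 := by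
          cases (src[n].1 && b5)
          exacts [hu.1, hu.2]
        rw [emul _ _ hlt hlt, Nat.xor_self]
        exact (congrArg S.η (grp_facts (S := S) (D := (C.loc src[n].1).D) (P := C.P) (by
          have := hloc src[n].1
          simp only [LocCert.ok, Bool.and_eq_true] at this
          exact this.1.1.1)).1).trans S.η_one
    · simp at h
  suffices hsuf : ∃ Q' : Pair S C.P, (∀ b, ∃ c, valid c = true ∧ Q'.T b = Q.T b * S.η c) ∧ (∀ l ∈ (C.loc false).loops,
      Q'.val ((C.loc false).D.raw l.w) = (C.loc false).D.ee S l.u0) by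
    obtain ⟨Q', hsh, hQ⟩ := hsuf
    obtain ⟨b5, hb5⟩ := (C.loc true).sound Q' (cubes Q') (hloc true)
    by_cases hbit : b5 = C.bit5
    · subst hbit
      exact ⟨Q', hsh, rels Q' C.full C.fullFrom C.bit5 hrf hQ hb5⟩
    · have hb5n : b5 = !C.bit5 := by
        revert hbit
        cases b5 <;> cases C.bit5 <;> simp
      subst hb5n
      exfalso
      obtain ⟨b, hbt⟩ := Option.isSome_iff_exists.mp ht
      have hf : allR (C.triv.okAt C.P) 0 C.triv.nf = true := by
        have key : ∀ n lo, (∀ k, lo ≤ k → k < lo + n → C.triv.okAt C.P k = true) →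
            allR (C.triv.okAt C.P) lo n = true := by
          intro n
          induction n with
          | zero => intro lo _; rfl
          | succ n ih =>
            intro lo hh
            simp only [allR, hh lo le_rfl (by omega), ih (lo + 1) fun k h1 h2 => hh k (by omega) (by omega),
              Bool.and_self]
        exact key _ _ fun k _ hk => htf k (by omega)
      have hT := Q'.sys.collapse htd (rels Q' C.triv C.trivFrom _ hrt hQ hb5) hf hlast ⟨ha, hb, hbt⟩
      have hcen : ∀ g ∈ Q'.sys.K, g * S.z = S.z * g := by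
        intro g hg
        induction hg using Subgroup.closure_induction with
        | mem y hy => obtain ⟨c, hc, rfl⟩ := hy; exact S.η_comm hc
        | one => rw [one_mul, mul_one]
        | mul p q _ _ hp hq => rw [mul_assoc, hq, ← mul_assoc, hp, mul_assoc]
        | inv p _ hp => rw [inv_mul_eq_iff_eq_mul, ← mul_assoc, hp, mul_inv_cancel_right]
      have e := hcen _ hT
      obtain ⟨⟨e1, -⟩, -⟩ := Q'.acts b
      rw [show Q'.sys.T b = Q'.T b from rfl, e1] at e
      exact hne b (S.η_inj (CentData.x_valid (Q'.side_ok b)) valid_z (by rw [S.η_z]; exact mul_right_cancel e))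
  obtain ⟨b0, hb0⟩ := (C.loc false).sound Q (cubes Q) (hloc false)
  cases b0 with
  | false => exact ⟨Q, fun b => ⟨cOne, valid_one, by rw [S.η_one, mul_one]⟩, hb0⟩
  | true =>
    obtain ⟨Q', q0, q1⟩ := Q.exists_shift hga
    obtain ⟨b', hb'⟩ := (C.loc false).sound Q' (cubes Q') (hloc false)
    refine ⟨Q', fun b => ?_, ?_⟩
    · cases b with
      | false => exact ⟨cOne, valid_one, by rw [S.η_one, mul_one, q0]⟩
      | true => exact ⟨_, (by
          simp only [gaugeOK, Bool.and_eq_true] at hga
          exact hga.1.1.1.1), q1⟩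
    cases b' with
    | false => exact hb'
    | true =>
      exfalso
      simp only [CaseD.gaugePathOK] at hgp
      cases hl : (C.loc false).loops[C.gauge]? with
      | none => rw [hl] at hgp; simp at hgp
      | some l =>
        rw [hl] at hgp
        simp only [Bool.and_eq_true, Bool.not_eq_true', Nat.blt_eq] at hgp
        obtain ⟨⟨⟨hK, hdiff⟩, hu0⟩, hu1⟩ := hgp
        have hlm := List.mem_of_getElem? hl
        cases hk : gaugeK C.P ((C.loc false).D.raw l.w) with
        | none => rw [hk] at hK; simp at hK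
        | some K =>
          rw [hk] at hK
          have hze : valid (C.P.side true).ze = true := by
            simp only [gaugeOK, Bool.and_eq_true] at hga
            exact hga.1.1.1.1
          obtain ⟨-, e⟩ := Q.gaugeK_sound q0 q1 hze hk
          rw [hb' l hlm, hb0 l hlm] at e
          simp only [cond_true] at e
          obtain ⟨-, hel, emul, einj⟩ := grp_facts (S := S) (D := (C.loc false).D) (P := C.P) (by
            have := hloc false
            simp only [LocCert.ok, Bool.and_eq_true] at this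
            exact this.1.1.1)
          rw [show S.η K = (C.loc false).D.ee S (l.u0 ^^^ l.u1) from congrArg S.η (Nat.eq_of_beq_eq_true hK),
            emul _ _ (xor_lt hu0 hu1) hu1, Nat.xor_assoc, Nat.xor_self, Nat.xor_zero] at e
          rw [einj _ _ hu1 hu0 e, Nat.beq_refl] at hdiff
          simp at hdiff

end Cfsg.Lib.HeldType
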