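import Cfsg.Agent.HeldType.CheckB
import Cfsg.Agent.HeldType.Norm
import Cfsg.Agent.HeldType.CheckOne
import Cfsg.Agent.HeldType.CheckTwo

/-!
One case of two sides.
-/

set_option autoImplicit false
set_option maxRecDepth 100000

namespace Cfsg.Lib.HeldType

/-- The data of the case. -/
def caseB : CaseD where
  P := caseBPars
  cu := caseBCube
  loc := fun b => bif b then caseBLoc1Cert else caseBLoc0Cert
  bit5 := true
  gauge := caseBGauge
  full := caseBFull
  fullFrom := caseBFullFrom
  bound := caseBFullBound
  triv := caseBTrivial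
  trivFrom := caseBTrivialFrom
  last := caseBTrivialLast

theorem caseB_base : caseB.okBase = true := by decide +kernel

theorem caseB_sq : ∀ b, sqOK (caseBPars.side b) (caseBPars.opt b) (caseBPars.sq b) = true := by decide +kernel

theorem caseB_last : caseBTrivial.nf = 90 ∧ caseBFull.nf = 3756 ∧ caseBTrivialLast < caseBTrivial.nf ∧
    (caseBTrivial.facts.get caseBTrivialLast).a = 0 ∧ (caseBTrivial.facts.get caseBTrivialLast).b = 0 ∧
    (caseBTrivial.facts.get caseBTrivialLast).t.isSome = true ∧ caseBFullBound.total = 11385 := by decide +kernel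

theorem caseB_ok : caseB.Ok where
  base := caseB_base
  loc := fun b => by cases b; exacts [caseBLoc0_ok, caseBLoc1_ok]
  fullDefs := caseBFull_defs
  fullFacts := fun k hk => caseBFull_facts k (caseB_last.2.1 ▸ hk)
  boundOk := caseBFull_bound
  trivDefs := caseBTrivial_defs
  trivFacts := fun k hk => caseBTrivial_facts k (caseB_last.1 ▸ hk)
  lastOk := ⟨caseB_last.2.2.1, caseB_last.2.2.2.1, caseB_last.2.2.2.2.1, caseB_last.2.2.2.2.2.1⟩

end Cfsg.Lib.HeldType
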