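import Cfsg.Agent.Golay.AffineSixteen

/-!
Data of the interchanging permutations.
-/

set_option autoImplicit false

namespace Cfsg.Lib.HeldType.MathieuMirror

open Cfsg.Lib.PermCert

/-- The interchanging permutations. -/
def tPerm (b : Bool) : PP :=
  bif b then (1202518022581235661265084848673389478863022285369827676200817789438458847054783148878902803705852450960210722821, 1202518022581235661265084848673389478863022285369827676200817789438458847054783148878902803705852450960210722821)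
  else (13828365512543656820036110012329878861369240473355093641693578931732500806495025615782771136794007585892501487616, 13828402209221422213012720599838534791445005520751543987715447946677973420495677949950480370123074040463396438016)

/-- The codes of the generators of the centraliser. -/
def genCodes : List ℕ := [27529281, 29626433, 21237825, 29888577, 6705217, 23400533]

/-- Words for codes. -/
def codeWords : List (ℕ × List ℕ) := [(17043523, [2, 5, 2, 5]),
  (17043537, [0, 4, 4, 4, 0, 5, 2]),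
  (17127489, [4, 2, 4, 4]),
  (17260611, [0, 5, 5, 5, 4, 1, 5, 5]),
  (17127517, [3, 5, 1, 4, 2, 5]),
  (17051729, [0, 4, 1, 4, 4, 0, 5, 2]),
  (17461329, [3, 4, 0, 4, 5, 2]),
  (17127513, [3, 5, 1, 4, 5, 2]),
  (16984131, [1, 3, 4, 0, 3, 5, 2, 5]),
  (17045569, [1, 4, 2, 4, 2, 3]),
  (17043521, []),
  (25770065, [0, 2, 4, 1, 3, 2, 5, 2]),
  (19150929, [5, 2, 4, 1, 4, 4]),
  (11079747, [3, 0, 5, 2, 5, 3, 3]),
  (11366475, [2, 4, 5, 1, 4]),
  (19214403, [3, 5, 2, 5, 4, 1, 3]),
  (25440323, [3, 5, 5, 4, 4, 5, 1, 3])]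

/-- Words for generators of the whole group. -/
def genWords : List (List ℕ) := [
  [3, 7, 2, 5, 1, 7, 3, 7, 5, 7, 4, 1],
  [0, 5, 3, 3, 4, 4, 6, 7, 4, 5],
  [0, 4, 5, 7, 3, 5, 3, 6, 7, 0, 2, 6],
  [5, 7, 1, 4, 7, 5, 6, 4, 1],
  [5, 1, 6, 1, 7, 6, 7, 4, 6, 4, 0, 3],
  [3, 2, 4, 6, 1, 7, 1, 6, 7, 2, 5],
  [6, 6, 6, 5, 5, 6],
  [0, 3, 6, 6, 0, 6, 5, 0],
  [0, 5, 1, 2, 5],
  [0, 4, 4, 4, 5, 1],
  [1, 5, 0, 2, 5]]

end Cfsg.Lib.HeldType.MathieuMirror
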