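import Cfsg.Agent.HeldType.Model
import Cfsg.Agent.HeldType.CaseB
import Cfsg.Agent.HeldType.ModelBData
import Cfsg.Agent.Golay.M24

/-!
The second case inside the Mathieu group, by the mirrored identification.
-/

set_option autoImplicit false
set_option maxRecDepth 100000

namespace Cfsg.Lib.HeldType.MathieuMirror

open Cfsg Cfsg.Lib.PermCert Cfsg.Lib.Golay Matrix
open Cfsg.Lib.HeldType (cs mat cm cOne cZ exists_setting_rel Pair caseB caseBPars caseB_sq Setting)

/-- The table of a letter. -/
def lt (l : ℕ) : PP := if l < 6 then (cgInvA.gens[l]!).1 else tPerm (Nat.beq l 7)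

/-- The permutation of a word. -/
def wP (w : List ℕ) : Equiv.Perm GolayPt := (w.map fun l => toP (lt l)).prod

theorem lt_ok : ∀ l : Fin 8, PermCert.valid 24 (lt l.val) = true ∧ preserves (lt l.val) = true := by decide +kernel

/-- Two words give the same permutation. -/
def sameWord (v w : List ℕ) : Bool :=
  (v ++ w).all (fun l => decide (l < 8)) &&
    (List.range 24).all fun x => evalWord (v.map lt) x == evalWord (w.map lt) x

theorem sameWord_sound {v w : List ℕ} (h : sameWord v w = true) : wP v = wP w := by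
  simp only [sameWord, Bool.and_eq_true, List.all_eq_true, List.mem_append, decide_eq_true_eq] at h
  have hv : ∀ u : List ℕ, (∀ l ∈ u, l < 8) → ∀ g ∈ u.map lt, PermCert.valid 24 g = true := fun u hu g hg => by
    obtain ⟨l, hl, rfl⟩ := List.mem_map.mp hg
    exact (lt_ok ⟨l, hu l hl⟩).1
  have key : ∀ u : List ℕ, wP u = permHom (wperm 24 (u.map lt)) := fun u => by
    rw [wP, wperm, map_list_prod, List.map_map, List.map_map]
    rfl
  rw [key, key]
  congr 1
  refine Equiv.ext fun x => Fin.ext ?_
  rw [wperm_apply (hv v fun l hl => h.1 l (Or.inl hl)), wperm_apply (hv w fun l hl => h.1 l (Or.inr hl))]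
  exact eq_of_beq (h.2 x.val (List.mem_range.mpr x.isLt))

/-- The distinguished involution. -/
def zM : M24 := ⟨toP invA.1, toP_mem_M24 reps_ok.2.2.2.2.1⟩

theorem zM_ord : orderOf zM = 2 := by
  haveI : Fact (Nat.Prime 2) := ⟨Nat.prime_two⟩
  have h2 : toP invA.1 * toP invA.1 = 1 ∧ toP invA.1 ≠ 1 := by decide +kernel
  exact orderOf_eq_prime (Subtype.ext (by rw [pow_two]; exact h2.1)) fun e => h2.2 (congrArg Subtype.val e)

/-- The pairs of permutations and matrices. -/
def relM : Subgroup (M24 × Cfsg.Lib.Golay.SL5) := affPairs.comap (M24.subtype.prodMap (MonoidHom.id _))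

theorem relM_card : 21504 ≤ Nat.card relM := by
  classical
  have hM : ∀ x : cgInvA.grp, (x : Equiv.Perm GolayPt) ∈ M24 := fun x => (centralizer_invA.mpr x.2).1
  choose A hA using fun x : cgInvA.grp => aff_fst_surj x.2
  let f : cgInvA.grp → relM := fun x => ⟨(⟨x, hM x⟩, A x), hA x⟩
  have hf : Function.Injective f := fun a b h =>
    Subtype.ext (congrArg (fun q : relM => ((q : M24 × Cfsg.Lib.Golay.SL5).1 : Equiv.Perm GolayPt)) h)
  have := Nat.card_le_card_of_injective f hf
  rwa [CG.card_grp cgInvA_ok, show size cgInvA.chain = 21504 by decide +kernel] at this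

/-- A permutation matrix exchanging the first two coordinates. -/
def swapMat : Cfsg.Lib.HeldType.SL5 := ⟨mat 17043490, by decide +kernel⟩

theorem swapMat_sq : swapMat * swapMat = 1 := Subtype.ext (show mat 17043490 * mat 17043490 = 1 by
  rw [← Cfsg.Lib.HeldType.mat_cm, ← Cfsg.Lib.HeldType.mat_one]; decide +kernel)

theorem transpose_mul (g h : Cfsg.Lib.HeldType.SL5) : (g * h).transpose = h.transpose * g.transpose :=
  Subtype.ext (by
    simp only [Matrix.SpecialLinearGroup.transpose, Matrix.SpecialLinearGroup.coe_mul, Matrix.transpose_mul]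
    rfl)

theorem swapMat_cancel (x : Cfsg.Lib.HeldType.SL5) : swapMat * (swapMat * x) = x := by
  rw [← mul_assoc, swapMat_sq, one_mul]

/-- The mirror. -/
def mirror : Cfsg.Lib.HeldType.SL5 →* Cfsg.Lib.HeldType.SL5 where
  toFun g := swapMat * (g⁻¹).transpose * swapMat
  map_one' := by
    rw [inv_one, show (1 : Cfsg.Lib.HeldType.SL5).transpose = 1 from
      Subtype.ext (by simp [Matrix.SpecialLinearGroup.transpose]), mul_one, swapMat_sq]
  map_mul' g h := by
    rw [_root_.mul_inv_rev, transpose_mul]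
    simp only [mul_assoc, swapMat_cancel]

theorem mirror_inj : Function.Injective mirror := (injective_iff_map_eq_one mirror).mpr fun g hg => by
  have h2 : swapMat * (g⁻¹).transpose * swapMat = 1 := hg
  have key : ∀ x : Cfsg.Lib.HeldType.SL5, x.transpose = 1 → x = 1 := fun x hx =>
    Subtype.ext (Matrix.transpose_eq_one.mp (congrArg Subtype.val hx))
  have h4 : swapMat * (swapMat * (g⁻¹).transpose * swapMat) * swapMat = (g⁻¹).transpose := by
    simp only [mul_assoc, swapMat_cancel, swapMat_sq, mul_one]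
  rw [h2, mul_one, swapMat_sq] at h4
  exact inv_eq_one.mp (key _ h4.symm)

theorem mirror_fix : mirror Cfsg.Lib.HeldType.sEl = Cfsg.Lib.HeldType.sEl := by decide +kernel

theorem exists_settingM : ∃ S : Setting M24, S.z = zM ∧ ∀ (g : M24) (A : Cfsg.Lib.HeldType.SL5) (c : ℕ),
    ((g : Equiv.Perm GolayPt), A) ∈ affPairs → Cfsg.Lib.HeldType.valid c = true → (mirror A).1 = mat c →
      S.η c = g := by
  have hsEl : Cfsg.Lib.HeldType.sEl = transFive := Subtype.ext Cfsg.Lib.HeldType.mat_z
  obtain ⟨S, h1, h2⟩ := exists_setting_rel zM zM_ord (relM.map ((MonoidHom.id M24).prodMap mirror))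
    (by
      rintro _ ⟨q, hq, rfl⟩
      refine ⟨Subtype.ext (centralizer_invA.mpr hq.1).2, Subgroup.mem_centralizer_singleton_iff.mpr ?_⟩
      show mirror q.2 * Cfsg.Lib.HeldType.sEl = Cfsg.Lib.HeldType.sEl * mirror q.2
      have e : q.2 * transFive = transFive * q.2 := hq.2.1
      rw [← hsEl] at e
      rw [← mirror_fix, ← map_mul, ← map_mul, e])
    (fun g hg => by
      obtain ⟨A, hA⟩ := aff_fst_surj (centralizer_invA.mp ⟨g.2, congrArg Subtype.val hg⟩)
      exact ⟨mirror A, Subgroup.mem_map.mpr ⟨(g, A), hA, rfl⟩⟩)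
    (by
      rintro A ⟨⟨g, B⟩, hq, e⟩
      obtain ⟨e1, e2⟩ := Prod.mk.inj e
      simp only [MonoidHom.id_apply] at e1
      subst e1
      rw [← e2]
      show mirror B = 1
      have hB : B = 1 := aff_fst_inj hq
      rw [hB, map_one])
    (by
      rintro g ⟨⟨g', B⟩, hq, e⟩
      obtain ⟨e1, e2⟩ := Prod.mk.inj e
      simp only [MonoidHom.id_apply] at e1
      subst e1
      obtain rfl : B = 1 := mirror_inj (e2.trans (map_one mirror).symm)
      exact Subtype.ext (aff_snd_inj g'.2 hq))
    (relM_card.trans (Nat.card_congr (Subgroup.equivMapOfInjective relM _ (Prod.map_injective.mpr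
      ⟨Function.injective_id, mirror_inj⟩)).toEquiv).le)
  exact ⟨S, h1, fun g A c hq hc hA => h2 g (mirror A) c (Subgroup.mem_map.mpr ⟨(g, A), hq, rfl⟩) hc hA⟩

/-- The setting of the Mathieu group. -/
noncomputable def settingM : Setting M24 := exists_settingM.choose

theorem settingM_spec : settingM.z = zM ∧ ∀ (g : M24) (A : Cfsg.Lib.HeldType.SL5) (c : ℕ),
    ((g : Equiv.Perm GolayPt), A) ∈ affPairs → Cfsg.Lib.HeldType.valid c = true → (mirror A).1 = mat c → settingM.η c = g :=
  exists_settingM.choose_spec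

theorem genCode_ok : ∀ k : Fin 6, Cfsg.Lib.HeldType.valid (genCodes.getD k.val 0) = true ∧
    mat (genCodes.getD k.val 0) * (mat 17043490 * (affMatOf (affMats[k.val]!))ᵀ * mat 17043490) = 1 := by
  decide +kernel

theorem gen_val (k : Fin 6) : (settingM.η (genCodes.getD k.val 0) : Equiv.Perm GolayPt) = toP (lt k.val) := by
  have hlen : cgInvA.gens.length = 6 := rfl
  have hk : k.val < cgInvA.gens.length := by omega
  have hlt : lt k.val = (cgInvA.gens[k.val]!).1 := by rw [lt, if_pos k.isLt]
  obtain ⟨-, h2, h3, h4⟩ := aff_gens k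
  have hmem : toP (lt k.val) ∈ cgInvA.grp := by
    rw [← (CG.ok_spec cgInvA_ok).2.2, hlt, getElem!_pos cgInvA.gens k.val hk]
    exact Subgroup.subset_closure ⟨_, List.getElem_mem hk, rfl⟩
  obtain ⟨v, e⟩ := genCode_ok k
  rw [settingM_spec.2 ⟨_, (centralizer_invA.mpr hmem).1⟩ ⟨affMatOf (affMats[k.val]!), h2⟩ _
    ⟨hmem, Subtype.ext h3, fun p hp => by have := h4 p hp; rwa [← hlt] at this⟩ v ?_]
  obtain ⟨g, -, hg⟩ := Cfsg.Lib.HeldType.exists_el v
  have key : ∀ A : Cfsg.Lib.HeldType.SL5, A.1 = affMatOf (affMats[k.val]!) → g * mirror A⁻¹ = 1 := fun A hA => by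
    refine Subtype.ext ?_
    simp only [mirror, MonoidHom.coe_mk, OneHom.coe_mk, inv_inv, Matrix.SpecialLinearGroup.coe_mul, hg]
    rw [← hA] at e
    exact e
  rw [← hg]
  refine congrArg Subtype.val ?_
  have key2 : ∀ A : Cfsg.Lib.HeldType.SL5, g * mirror A⁻¹ = 1 → mirror A = g := fun A h => by
    rw [map_inv, mul_inv_eq_one] at h
    exact h.symm
  exact key2 _ (key ⟨affMatOf (affMats[k.val]!), h2⟩ rfl)

/-- The code of a word in the generators. -/
def wCode : List ℕ → ℕ
  | [] => cOne
  | l :: w => cm (genCodes.getD l 0) (wCode w)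

theorem word_val : ∀ {w : List ℕ}, (∀ l ∈ w, l < 6) → Cfsg.Lib.HeldType.valid (wCode w) = true ∧
    (settingM.η (wCode w) : Equiv.Perm GolayPt) = wP w
  | [], _ => by
    refine ⟨Cfsg.Lib.HeldType.valid_one, ?_⟩
    rw [wCode, settingM.η_one]
    rfl
  | l :: w, h => by
    obtain ⟨a, b⟩ := word_val (w := w) fun x hx => h x (List.mem_cons_of_mem _ hx)
    have hl := h l List.mem_cons_self
    refine ⟨Cfsg.Lib.HeldType.valid_cm (genCode_ok ⟨l, hl⟩).1 a, ?_⟩
    rw [wCode, settingM.η_mul (genCode_ok ⟨l, hl⟩).1 a, Subgroup.coe_mul, b, gen_val ⟨l, hl⟩]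
    simp [wP]

/-- The word of a code. -/
def wordOf (c : ℕ) : List ℕ := match codeWords.find? (fun p => Nat.beq p.1 c) with
  | some p => p.2
  | none => [9]

/-- A tabulated code has a correct word. -/
def goodCode (c : ℕ) : Bool := (wordOf c).all (fun l => decide (l < 6)) && Nat.beq (wCode (wordOf c)) c

theorem good_val {c : ℕ} (h : goodCode c = true) :
    Cfsg.Lib.HeldType.valid c = true ∧ (settingM.η c : Equiv.Perm GolayPt) = wP (wordOf c) := by
  simp only [goodCode, Bool.and_eq_true, List.all_eq_true, decide_eq_true_eq] at h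
  have := word_val h.1
  rwa [Nat.eq_of_beq_eq_true h.2] at this

/-- The equation of two products holds. -/
def eqCheck (b : Bool) (c d : ℕ) : Bool :=
  let t := if b then 7 else 6
  goodCode c && goodCode d && sameWord (t :: wordOf c) (wordOf d ++ [t])

/-- The interchanging elements. -/
def tM (b : Bool) : M24 := ⟨toP (lt (if b then 7 else 6)), by
  cases b
  exacts [toP_mem_M24 (lt_ok ⟨6, by decide⟩).2, toP_mem_M24 (lt_ok ⟨7, by decide⟩).2]⟩

theorem eq_of_check {b : Bool} {c d : ℕ} (h : eqCheck b c d = true) :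
    tM b * settingM.η c = settingM.η d * tM b := by
  simp only [eqCheck, Bool.and_eq_true] at h
  have e := sameWord_sound h.2
  simp only [wP, List.map_cons, List.prod_cons, List.map_append, List.map_nil, List.prod_append, List.prod_nil,
    mul_one] at e
  refine Subtype.ext ?_
  rw [Subgroup.coe_mul, Subgroup.coe_mul, (good_val h.1.1).2, (good_val h.1.2).2]
  exact e

theorem model_checks : ∀ b : Bool, caseBPars.opt b < 4 ∧
    (∀ j : Fin 3, eqCheck b ((caseBPars.side b).g.get j.val)
      (((caseBPars.side b).im.get (caseBPars.opt b)).get j.val) = true) ∧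
    eqCheck b cZ (caseBPars.side b).C.x = true ∧ eqCheck b (caseBPars.side b).C.x cZ = true ∧
    goodCode (caseBPars.sq b) = true ∧
    sameWord [if b then 7 else 6, if b then 7 else 6] (wordOf (caseBPars.sq b)) = true := by
  decide +kernel

theorem side_ok_B : ∀ b, (caseBPars.side b).Ok := fun b => by
  cases b
  exacts [Cfsg.Lib.HeldType.one_ok, Cfsg.Lib.HeldType.two_ok]

/-- The interchanging elements in the Mathieu group. -/
noncomputable def pairM : Pair settingM caseBPars where
  T := tM
  acts b := by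
    obtain ⟨h0, h1, h2, h3, -, -⟩ := model_checks b
    refine Cfsg.Lib.HeldType.Setting.acts_of_gens (side_ok_B b) h0 (fun j hj => eq_of_check (h1 ⟨j, hj⟩)) ?_ ?_
    · have := eq_of_check h2
      rwa [settingM.η_z] at this
    · have := eq_of_check h3
      rwa [settingM.η_z] at this
  sq_eq b := by
    obtain ⟨-, -, -, -, hg, h⟩ := model_checks b
    refine Subtype.ext ?_
    rw [Subgroup.coe_mul, (good_val hg).2, ← sameWord_sound h]
    simp only [wP, List.map_cons, List.prod_cons, List.map_nil, List.prod_nil, mul_one]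
    rfl
  side_ok b := (side_ok_B b).cent
  opt_ok b k hk := by
    have h := caseB_sq b
    simp only [Cfsg.Lib.HeldType.sqOK, Bool.and_eq_true] at h
    have := Cfsg.Lib.HeldType.allR_sound _ _ _ h.2 k (Nat.zero_le _) (by omega)
    simp only [Bool.and_eq_true] at this
    exact this.1.1
  sq_valid b := (good_val (model_checks b).2.2.2.2.1).1

theorem gen_checks : (List.range (topGens m24Chain).length).all (fun i =>
    let g := (topGens m24Chain)[i]!
    let w := genWords.getD i [9]
    w.all (fun l => decide (l < 8)) && PermCert.valid 24 g &&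
      (List.range 24).all fun x => evalWord (w.map lt) x == ap g.1 x) = true := by
  decide +kernel

theorem wP_mem : ∀ {w : List ℕ}, (∀ l ∈ w, l < 8) → ∃ g ∈ pairM.grp, (g : Equiv.Perm GolayPt) = wP w
  | [], _ => ⟨1, Subgroup.one_mem _, rfl⟩
  | l :: w, h => by
    obtain ⟨g, hg, e⟩ := wP_mem (w := w) fun x hx => h x (List.mem_cons_of_mem _ hx)
    have hl := h l List.mem_cons_self
    have key : ∃ a ∈ pairM.grp, (a : Equiv.Perm GolayPt) = toP (lt l) := by
      by_cases h6 : l < 6
      · exact ⟨_, pairM.η_mem (genCode_ok ⟨l, h6⟩).1, gen_val ⟨l, h6⟩⟩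
      · obtain rfl | rfl : l = 6 ∨ l = 7 := by omega
        exacts [⟨_, pairM.T_mem false, rfl⟩, ⟨_, pairM.T_mem true, rfl⟩]
    obtain ⟨a, ha, ea⟩ := key
    refine ⟨a * g, Subgroup.mul_mem _ ha hg, ?_⟩
    rw [Subgroup.coe_mul, ea, e]
    simp [wP]

theorem pairM_top : pairM.grp = ⊤ := by
  refine top_unique fun x _ => ?_
  have hx : (x : Equiv.Perm GolayPt) ∈ certGrp := by
    rw [certGrp_eq]; exact x.2
  obtain ⟨y, hy, hxy⟩ := hx
  have key : ∀ y ∈ Cfsg.Lib.PermCert.grp 24 m24Chain, ∃ g ∈ pairM.grp, (g : Equiv.Perm GolayPt) = permHom y := by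
    intro y hy
    induction hy using Subgroup.closure_induction with
    | mem p hp =>
      obtain ⟨s, hs, rfl⟩ := hp
      obtain ⟨i, hi, rfl⟩ := List.getElem_of_mem hs
      have hc := List.all_eq_true.mp gen_checks i (List.mem_range.mpr hi)
      simp only [Bool.and_eq_true, List.all_eq_true, decide_eq_true_eq, getElem!_pos (topGens m24Chain) i hi] at hc
      obtain ⟨⟨hw, hv⟩, he⟩ := hc
      obtain ⟨g, hg, e⟩ := wP_mem hw
      refine ⟨g, hg, ?_⟩
      rw [e, wP, show ((genWords.getD i [9]).map fun l => toP (lt l)).prod =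
          permHom (wperm 24 ((genWords.getD i [9]).map lt)) by
        rw [wperm, map_list_prod, List.map_map, List.map_map]; rfl]
      congr 1
      refine Equiv.ext fun p => Fin.ext ?_
      rw [wperm_apply (fun q hq => by
        obtain ⟨l, hl, rfl⟩ := List.mem_map.mp hq
        exact (lt_ok ⟨l, hw l hl⟩).1), perm_apply hv]
      exact eq_of_beq (he p.val (List.mem_range.mpr p.isLt))
    | one => exact ⟨1, Subgroup.one_mem _, (map_one permHom).symm⟩
    | mul a b _ _ iha ihb =>
      obtain ⟨g, hg, e⟩ := iha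
      obtain ⟨k, hk, e'⟩ := ihb
      exact ⟨g * k, Subgroup.mul_mem _ hg hk, by rw [Subgroup.coe_mul, e, e', map_mul]⟩
    | inv a _ iha =>
      obtain ⟨g, hg, e⟩ := iha
      exact ⟨g⁻¹, Subgroup.inv_mem _ hg, by rw [Subgroup.coe_inv, e, map_inv]⟩
  obtain ⟨g, hg, e⟩ := key y hy
  have : x = g := Subtype.ext (by rw [e]; exact hxy.symm)
  rw [this]
  exact hg

end Cfsg.Lib.HeldType.MathieuMirror
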