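import Cfsg.Agent.HeldType.CheckC
import Cfsg.Agent.HeldType.Norm
import Cfsg.Agent.HeldType.CheckOne
import Cfsg.Agent.HeldType.CheckTwo

/-!
One case of two sides.
-/

set_option autoImplicit false
set_option maxRecDepth 100000

namespace Cfsg.Lib.HeldType

/-- The data of the case. -/
def caseC : CaseD where
  P := caseCPars
  cu := caseCCube
  loc := fun b => bif b then caseCLoc1Cert else caseCLoc0Cert
  bit5 := true
  gauge := caseCGauge
  full := caseCFull
  fullFrom := caseCFullFrom
  bound := caseCFullBound
  triv := caseCTrivial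
  trivFrom := caseCTrivialFrom
  last := caseCTrivialLast

theorem caseC_base : caseC.okBase = true := by decide +kernel

theorem caseC_sq : ∀ b, sqOK (caseCPars.side b) (caseCPars.opt b) (caseCPars.sq b) = true := by decide +kernel

theorem caseC_last : caseCTrivial.nf = 90 ∧ caseCFull.nf = 7815 ∧ caseCTrivialLast < caseCTrivial.nf ∧
    (caseCTrivial.facts.get caseCTrivialLast).a = 0 ∧ (caseCTrivial.facts.get caseCTrivialLast).b = 0 ∧
    (caseCTrivial.facts.get caseCTrivialLast).t.isSome = true ∧ caseCFullBound.total = 187425 := by decide +kernel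

theorem caseC_ok : caseC.Ok where
  base := caseC_base
  loc := fun b => by cases b; exacts [caseCLoc0_ok, caseCLoc1_ok]
  fullDefs := caseCFull_defs
  fullFacts := fun k hk => caseCFull_facts k (caseC_last.2.1 ▸ hk)
  boundOk := caseCFull_bound
  trivDefs := caseCTrivial_defs
  trivFacts := fun k hk => caseCTrivial_facts k (caseC_last.1 ▸ hk)
  lastOk := ⟨caseC_last.2.2.1, caseC_last.2.2.2.1, caseC_last.2.2.2.2.1, caseC_last.2.2.2.2.2.1⟩

end Cfsg.Lib.HeldType
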