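import Cfsg.Agent.HePres.CentEquiv

/-!
Data of the interchanging elements.
-/

set_option autoImplicit false

namespace Cfsg.Lib.HeldType.Held

/-- The words of the interchanging elements. -/
def tWord (b : Bool) : List ℕ :=
  bif b then [22, 1, 9, 26, 29, 35, 6, 0, 22, 1, 9, 26, 29, 35, 6, 5, 4, 7, 22, 31, 14, 36, 19, 22, 1, 9, 26, 29, 35, 6, 7, 22, 31, 14, 36, 19, 7, 22, 31, 14, 36, 19, 7, 22, 31, 14, 36, 19, 7, 22, 31, 14, 36, 19, 7, 22, 31, 14, 36, 19, 22, 1, 9, 26, 29, 35, 6, 22, 1, 9, 26, 29, 35, 6, 22, 1, 9, 26, 29, 35, 6, 22, 1, 9, 26, 29, 35, 6, 22, 1, 9, 26, 29, 35, 6, 7, 22, 31, 14, 36, 19]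
  else [1, 22, 1, 9, 26, 29, 35, 6, 6, 4, 22, 1, 9, 26, 29, 35, 6, 7, 22, 31, 14, 36, 19, 22, 1, 9, 26, 29, 35, 6, 7, 22, 31, 14, 36, 19, 22, 1, 9, 26, 29, 35, 6, 22, 1, 9, 26, 29, 35, 6, 22, 1, 9, 26, 29, 35, 6, 7, 22, 31, 14, 36, 19, 7, 22, 31, 14, 36, 19, 7, 22, 31, 14, 36, 19, 7, 22, 31, 14, 36, 19, 22, 1, 9, 26, 29, 35, 6, 22, 1, 9, 26, 29, 35, 6, 22, 1, 9, 26, 29, 35, 6, 7, 22, 31, 14, 36, 19]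

/-- The codes of the two generators. -/
def genCodes : List ℕ := [4616257, 6973521]

/-- Words for codes. -/
def codeWords : List (ℕ × List ℕ) := [
  (17043523, [1, 1, 1, 1, 1, 1]),
  (17043537, [1, 1, 0, 0, 0, 1, 1, 0, 0, 0]),
  (17127489, [1, 1, 1, 1, 1, 0, 0, 1, 1, 1, 0]),
  (17260611, [0, 1, 0, 0, 1, 0, 1, 0, 0, 0, 1]),
  (17127517, [0, 0, 1, 1, 0, 0, 0, 1, 0, 0, 0, 1, 1, 0, 1]),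
  (17051729, [1, 0, 1, 1, 0, 1, 1, 1, 0, 1, 1, 1, 0, 0]),
  (17461329, [1, 1, 0, 0, 1, 1, 1, 1, 0, 1, 1, 0, 0, 0]),
  (17109067, [1, 0, 1, 0, 1, 1, 1, 1, 0, 1, 1, 1]),
  (16984145, [0, 0, 0, 0, 0, 0, 1, 0, 0, 1, 0, 0, 0]),
  (17045569, [0, 1, 0, 1, 0, 0, 1, 1, 1, 1, 0, 1, 0, 1, 1]),
  (17043521, []),
  (25770065, [1, 0, 1, 1, 1, 0, 1, 0, 0, 0, 1, 0, 1, 1, 1]),
  (19150929, [0, 0, 0, 0, 0, 0, 1, 1, 0, 0, 0, 1, 0, 1, 0]),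
  (11079747, [0, 0, 0, 1, 1, 0, 1, 1, 1, 1, 0, 1, 0, 1]),
  (11366475, [1, 0, 1, 1, 0, 0, 1, 0, 0, 1, 1, 1]),
  (19214403, [0, 0, 0, 1, 1, 0, 1, 0, 1, 1, 1, 1, 1, 1]),
  (25440323, [0, 0, 0, 1, 0, 1, 0, 1, 1, 1, 0])]

/-- Words for the generators. -/
def genWords : List (List ℕ) := [
  [0, 1, 2, 2, 0, 1, 1, 1, 0, 0],
  [0, 3, 1, 0, 1, 3, 0, 0, 1, 1],
  [2, 3, 1, 2, 2, 0, 1, 1, 1, 2, 0, 3, 2],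
  [1, 1, 1, 1, 1, 1],
  [1, 2, 2, 0, 2, 1, 3, 0, 2, 2, 2, 0, 0, 1, 1],
  [2, 3, 1, 1, 2, 0, 2, 0, 1, 3, 0, 0, 1, 1, 3, 0, 0],
  [1, 3, 0, 3, 2, 0, 2, 1, 1, 1, 3, 1, 0, 2, 1, 3, 0, 0]]

end Cfsg.Lib.HeldType.Held
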