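import Cfsg.Agent.HeldType.Model
import Cfsg.Agent.HeldType.CaseC
import Cfsg.Agent.HeldType.ModelCData

/-!
The third case inside the Held group.
-/

set_option autoImplicit false
set_option maxRecDepth 100000

namespace Cfsg.Lib.HeldType.Held

open Cfsg Cfsg.Lib.CosetCert Cfsg.Lib.PermCert
open Cfsg.Lib.HePres (imX imM imH2 imP pairGp pairGens0 heWord im9)
open Cfsg.Lib.HeldType (mat cm cOne cZ exists_setting_rel Pair caseCPars caseC_sq Setting)

/-- The expansion of a letter. -/
def expLet (l : ℕ) : List ℕ :=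
  if l < 2 then HePres.pairWords.getD l [] else tWord (Nat.beq l 3)

/-- The expansion of a word. -/
def expW (w : List ℕ) : List ℕ := w.flatMap expLet

theorem exists_settingH : ∃ S : Setting Cfsg.Spor.He, S.z = im9 3 ∧
    ∀ (g : Cfsg.Spor.He) (A : Cfsg.Lib.HeldType.SL5) (c : ℕ), (g, A) ∈ pairGp pairGens0 →
      Cfsg.Lib.HeldType.valid c = true → A.1 = mat c → S.η c = g := by
  haveI : Finite Cfsg.Spor.He := HePres.bound_all.1
  set R := pairGp pairGens0 with hR
  have hs : Cfsg.Lib.HeldType.sEl.val = HePres.tMat := Cfsg.Lib.HeldType.mat_z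
  have hfst : R.map (MonoidHom.fst Cfsg.Spor.He HePres.SL52) = HePres.centD := by
    refine Subgroup.eq_of_le_of_card_ge ?_ (HePres.card_centD_le.trans HePres.fst_image_ge)
    rintro _ ⟨q, hq, rfl⟩
    exact (HePres.pairs_fst hs hq).1
  have inj : ∀ f : Cfsg.Spor.He × HePres.SL52 →* Cfsg.Spor.He × HePres.SL52,
      21504 ≤ Nat.card (R.map f) → ∀ q ∈ R, f q = 1 → q = 1 := by
    intro f hf q hq h1
    let g : R →* R.map f := (f.comp R.subtype).codRestrict (R.map f) fun x => Subgroup.mem_map_of_mem f x.2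
    have hg : Function.Surjective g := fun x => by
      obtain ⟨y, hy, e⟩ := x.2
      exact ⟨⟨y, hy⟩, Subtype.ext e⟩
    have hb := hg.bijective_of_nat_card_le (HePres.card_pairs_le.trans hf)
    exact congrArg Subtype.val (hb.1 (a₁ := (⟨q, hq⟩ : R)) (a₂ := 1) (Subtype.ext (by
      rw [map_one]
      exact h1)))
  have hcard : ∀ {X : Type} [Group X] (f : Cfsg.Spor.He × HePres.SL52 →* X), Nat.card (R.map f) ≤ Nat.card R :=
    fun f => Nat.card_le_card_of_surjective
      (((f.comp R.subtype).codRestrict (R.map f) fun x => Subgroup.mem_map_of_mem f x.2))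
      fun x => by
        obtain ⟨y, hy, e⟩ := x.2
        exact ⟨⟨y, hy⟩, Subtype.ext e⟩
  have cardeq : ∀ (f : Cfsg.Spor.He × HePres.SL52 →* Cfsg.Spor.He × HePres.SL52) {X : Type} [Group X]
      (π : Cfsg.Spor.He × HePres.SL52 →* X) (ι : X →* Cfsg.Spor.He × HePres.SL52), Function.Injective ι →
      f = ι.comp π → Nat.card (R.map f) = Nat.card (R.map π) := by
    intro f X _ π ι hι hf
    rw [hf, ← Subgroup.map_map]
    exact (Nat.card_congr ((R.map π).equivMapOfInjective ι hι).toEquiv).symm
  have h1 : ∀ A, ((1 : Cfsg.Spor.He), A) ∈ R → A = 1 := fun A hA =>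
    congrArg Prod.snd (inj ((MonoidHom.inl _ _).comp (MonoidHom.fst _ _))
      ((cardeq _ (MonoidHom.fst _ _) (MonoidHom.inl _ _) (fun a b h => congrArg Prod.fst h) rfl).symm ▸
        HePres.fst_image_ge) _ hA rfl)
  have h2 : ∀ g, (g, (1 : HePres.SL52)) ∈ R → g = 1 := fun g hg =>
    congrArg Prod.fst (inj ((MonoidHom.inr _ _).comp (MonoidHom.snd _ _))
      ((cardeq _ (MonoidHom.snd _ _) (MonoidHom.inr _ _) (fun a b h => congrArg Prod.snd h) rfl).symm ▸
        HePres.snd_image_ge) _ hg rfl)
  refine exists_setting_rel (im9 3) HePres.d_facts R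
    (fun q hq => ⟨Subgroup.mem_centralizer_singleton_iff.mp (HePres.pairs_fst hs hq).1,
      (HePres.pairs_fst hs hq).2⟩)
    (fun g hg => ?_) h1 h2 (HePres.fst_image_ge.trans (hcard _))
  have hg' : g ∈ HePres.centD := Subgroup.mem_centralizer_singleton_iff.mpr hg
  rw [← hfst] at hg'
  obtain ⟨⟨g', A⟩, hq, rfl⟩ := hg'
  exact ⟨A, hq⟩

/-- The setting of the Held group. -/
noncomputable def settingH : Setting Cfsg.Spor.He := exists_settingH.choose

theorem settingH_spec : settingH.z = im9 3 ∧ ∀ (g : Cfsg.Spor.He) (A : Cfsg.Lib.HeldType.SL5) (c : ℕ),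
    (g, A) ∈ pairGp pairGens0 → Cfsg.Lib.HeldType.valid c = true → A.1 = mat c → settingH.η c = g :=
  exists_settingH.choose_spec

theorem genCode_ok : ∀ k : Fin 2, Cfsg.Lib.HeldType.valid (genCodes.getD k.val 0) = true ∧
    HePres.pairMat k.val = mat (genCodes.getD k.val 0) ∧ pairGens0.contains k.val = true := by decide +kernel

theorem gen_val (k : Fin 2) : settingH.η (genCodes.getD k.val 0) = wval imX (expLet k.val) := by
  obtain ⟨v, e, m⟩ := genCode_ok k
  rw [settingH_spec.2 (imH2 k.val) (imM k.val) _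
    (Subgroup.subset_closure (List.mem_map.2 ⟨k.val, List.contains_iff_mem.1 m, rfl⟩)) v e, expLet, if_pos k.isLt]
  rfl

theorem expW_cons (l : ℕ) (w : List ℕ) : wval imX (expW (l :: w)) = wval imX (expLet l) * wval imX (expW w) := by
  rw [expW, List.flatMap_cons, HePres.wvalX_append]
  rfl

/-- The code of a word in the generators. -/
def wCode : List ℕ → ℕ
  | [] => cOne
  | l :: w => cm (genCodes.getD l 0) (wCode w)

theorem word_val : ∀ {w : List ℕ}, (∀ l ∈ w, l < 2) → Cfsg.Lib.HeldType.valid (wCode w) = true ∧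
    settingH.η (wCode w) = wval imX (expW w)
  | [], _ => by
    refine ⟨Cfsg.Lib.HeldType.valid_one, ?_⟩
    rw [wCode, settingH.η_one]
    rfl
  | l :: w, h => by
    obtain ⟨a, b⟩ := word_val (w := w) fun x hx => h x (List.mem_cons_of_mem _ hx)
    have hl := h l List.mem_cons_self
    refine ⟨Cfsg.Lib.HeldType.valid_cm (genCode_ok ⟨l, hl⟩).1 a, ?_⟩
    rw [wCode, settingH.η_mul (genCode_ok ⟨l, hl⟩).1 a, b, gen_val ⟨l, hl⟩, expW_cons]

/-- The word of a code. -/
def wordOf (c : ℕ) : List ℕ := match codeWords.find? (fun p => Nat.beq p.1 c) with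
  | some p => p.2
  | none => [9]

/-- A tabulated code has a correct word. -/
def goodCode (c : ℕ) : Bool := (wordOf c).all (fun l => decide (l < 2)) && Nat.beq (wCode (wordOf c)) c

theorem good_val {c : ℕ} (h : goodCode c = true) :
    Cfsg.Lib.HeldType.valid c = true ∧ settingH.η c = wval imX (expW (wordOf c)) := by
  simp only [goodCode, Bool.and_eq_true, List.all_eq_true, decide_eq_true_eq] at h
  have := word_val h.1
  rwa [Nat.eq_of_beq_eq_true h.2] at this

/-- The equation of two products holds. -/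
def eqCheck (b : Bool) (c d : ℕ) : Bool :=
  goodCode c && goodCode d && HePres.sameW (tWord b ++ expW (wordOf c)) (expW (wordOf d) ++ tWord b)

/-- The interchanging elements. -/
def tH (b : Bool) : Cfsg.Spor.He := wval imX (tWord b)

theorem eq_of_check {b : Bool} {c d : ℕ} (h : eqCheck b c d = true) :
    tH b * settingH.η c = settingH.η d * tH b := by
  simp only [eqCheck, Bool.and_eq_true] at h
  rw [(good_val h.1.1).2, (good_val h.1.2).2, tH, ← HePres.wvalX_append, ← HePres.wvalX_append]
  exact HePres.sameW_sound h.2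

theorem model_checks : ∀ b : Bool, caseCPars.opt b < 4 ∧
    (∀ j : Fin 3, eqCheck b ((caseCPars.side b).g.get j.val)
      (((caseCPars.side b).im.get (caseCPars.opt b)).get j.val) = true) ∧
    eqCheck b cZ (caseCPars.side b).C.x = true ∧ eqCheck b (caseCPars.side b).C.x cZ = true ∧
    goodCode (caseCPars.sq b) = true ∧
    HePres.sameW (tWord b ++ tWord b) (expW (wordOf (caseCPars.sq b))) = true := by
  decide +kernel

theorem side_ok_C : ∀ b, (caseCPars.side b).Ok := fun b => by
  cases b
  exacts [Cfsg.Lib.HeldType.one_ok, Cfsg.Lib.HeldType.two_ok]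

/-- The interchanging elements in the Held group. -/
noncomputable def pairH : Pair settingH caseCPars where
  T := tH
  acts b := by
    obtain ⟨h0, h1, h2, h3, -, -⟩ := model_checks b
    refine Cfsg.Lib.HeldType.Setting.acts_of_gens (side_ok_C b) h0 (fun j hj => eq_of_check (h1 ⟨j, hj⟩)) ?_ ?_
    · have := eq_of_check h2
      rwa [settingH.η_z] at this
    · have := eq_of_check h3
      rwa [settingH.η_z] at this
  sq_eq b := by
    obtain ⟨-, -, -, -, hg, h⟩ := model_checks b
    rw [(good_val hg).2, tH, ← HePres.wvalX_append]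
    exact HePres.sameW_sound h
  side_ok b := (side_ok_C b).cent
  opt_ok b k hk := by
    have h := caseC_sq b
    simp only [Cfsg.Lib.HeldType.sqOK, Bool.and_eq_true] at h
    have := Cfsg.Lib.HeldType.allR_sound _ _ _ h.2 k (Nat.zero_le _) (by omega)
    simp only [Bool.and_eq_true] at this
    exact this.1.1
  sq_valid b := (good_val (model_checks b).2.2.2.2.1).1

theorem gen_checks : (List.range 7).all (fun n =>
    (genWords.getD n [9]).all (fun l => decide (l < 4)) && HePres.sameW [n] (expW (genWords.getD n [9]))) = true := by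
  decide +kernel

theorem expW_mem : ∀ {w : List ℕ}, (∀ l ∈ w, l < 4) → wval imX (expW w) ∈ pairH.grp
  | [], _ => Subgroup.one_mem _
  | l :: w, h => by
    rw [expW_cons]
    refine Subgroup.mul_mem _ ?_ (expW_mem fun x hx => h x (List.mem_cons_of_mem _ hx))
    have hl := h l List.mem_cons_self
    by_cases h2 : l < 2
    · rw [← gen_val ⟨l, h2⟩]
      exact pairH.η_mem (genCode_ok ⟨l, h2⟩).1
    · obtain rfl | rfl : l = 2 ∨ l = 3 := by omega
      exacts [pairH.T_mem false, pairH.T_mem true]

theorem pairH_top : pairH.grp = ⊤ := by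
  refine top_le_iff.1 (HePres.closure_im ▸ (Subgroup.closure_le _).2 ?_)
  rintro _ ⟨n, hn, rfl⟩
  have h : n < 7 := hn
  have hc := List.all_eq_true.mp gen_checks n (List.mem_range.mpr h)
  simp only [Bool.and_eq_true, List.all_eq_true, decide_eq_true_eq] at hc
  have e := HePres.sameW_sound hc.2
  rw [HePres.wval_cons, HePres.wval_nil, mul_one, HePres.imX_low (by omega), HePres.im9_low h] at e
  rw [SetLike.mem_coe, e]
  exact expW_mem hc.1

end Cfsg.Lib.HeldType.Held
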