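import Cfsg.Agent.HeldType.CheckD
import Cfsg.Agent.HeldType.Norm
import Cfsg.Agent.HeldType.CheckOne
import Cfsg.Agent.HeldType.CheckTwo

/-!
One case of two sides.
-/

set_option autoImplicit false
set_option maxRecDepth 100000

namespace Cfsg.Lib.HeldType

/-- The data of the case. -/
def caseD : CaseD where
  P := caseDPars
  cu := caseDCube
  loc := fun b => bif b then caseDLoc1Cert else caseDLoc0Cert
  bit5 := false
  gauge := caseDGauge
  full := caseDFull
  fullFrom := caseDFullFrom
  bound := caseDFullBound
  triv := caseDTrivial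
  trivFrom := caseDTrivialFrom
  last := caseDTrivialLast

theorem caseD_base : caseD.okBase = true := by decide +kernel

theorem caseD_sq : ∀ b, sqOK (caseDPars.side b) (caseDPars.opt b) (caseDPars.sq b) = true := by decide +kernel

theorem caseD_last : caseDTrivial.nf = 113 ∧ caseDFull.nf = 4447 ∧ caseDTrivialLast < caseDTrivial.nf ∧
    (caseDTrivial.facts.get caseDTrivialLast).a = 0 ∧ (caseDTrivial.facts.get caseDTrivialLast).b = 0 ∧
    (caseDTrivial.facts.get caseDTrivialLast).t.isSome = true ∧ caseDFullBound.total = 11385 := by decide +kernel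

theorem caseD_ok : caseD.Ok where
  base := caseD_base
  loc := fun b => by cases b; exacts [caseDLoc0_ok, caseDLoc1_ok]
  fullDefs := caseDFull_defs
  fullFacts := fun k hk => caseDFull_facts k (caseD_last.2.1 ▸ hk)
  boundOk := caseDFull_bound
  trivDefs := caseDTrivial_defs
  trivFacts := fun k hk => caseDTrivial_facts k (caseD_last.1 ▸ hk)
  lastOk := ⟨caseD_last.2.2.1, caseD_last.2.2.2.1, caseD_last.2.2.2.2.1, caseD_last.2.2.2.2.2.1⟩

end Cfsg.Lib.HeldType
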