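import Cfsg.Agent.Golay.AffineSixteen

/-!
Data of the interchanging permutations.
-/

set_option autoImplicit false

namespace Cfsg.Lib.HeldType.Mathieu

open Cfsg.Lib.PermCert

/-- The interchanging permutations. -/
def tPerm (b : Bool) : PP :=
  bif b then (6613651874076663531602939021803874133143877183147875182084003520580332449770538809417817310110993512919462576131, 9018596173975020319789276347136970066329977359159668188196990317773968413283831824056099383085781686214002868231)
  else (7816096500922566993553140071956071786705921261659711835462948813304186688415128190865534482834899245447178944521, 9619749683349406805692635609019662067959878096807372130187178389876017077758697588264676583398367288218740850696)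

/-- The codes of the generators of the centraliser. -/
def genCodes : List ℕ := [17567825, 17584193, 17059905, 9187393, 29638749, 19157083]

/-- Words for codes. -/
def codeWords : List (ℕ × List ℕ) := [(17043523, [2, 5, 2, 5]),
  (17043537, [0, 1, 2]),
  (17127489, [0, 2, 5, 1, 2, 5]),
  (17260611, [0, 1, 3, 5, 2, 4, 3, 3]),
  (17127517, [0, 4, 2, 4, 5, 3, 2, 5]),
  (17051729, [3, 1, 2, 3, 0]),
  (17461329, [4, 0, 4, 3, 1]),
  (17109067, [3, 5, 2, 3, 3]),
  (16984145, [0, 5, 3, 4, 5, 1, 3, 5]),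
  (17045569, [2, 5, 2, 5, 5, 5]),
  (17059921, [0, 1]),
  (25770065, [5, 3, 3, 2, 5]),
  (19150929, [0, 2, 3, 5, 0, 5, 3]),
  (11079747, [2, 5, 1, 3, 2, 5]),
  (11352153, [0, 2, 5, 0, 3]),
  (19224665, [0, 2, 5, 1]),
  (25442369, [5, 2, 4, 5, 4, 2])]

/-- Words for generators of the whole group. -/
def genWords : List (List ℕ) := [
  [1, 4, 6, 3, 1, 6, 7, 5, 3, 6, 3, 6],
  [1, 5, 3, 7, 3, 6, 5, 6, 7],
  [3, 2, 5, 0, 6, 4, 4, 6, 7, 5, 1],
  [1, 6, 0, 2, 4, 7, 2, 6, 3, 3],
  [5, 7, 4, 0, 6, 4, 3, 5, 7, 4, 2, 6],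
  [6, 5, 3, 6, 5, 4, 7, 4, 6, 1, 3, 6],
  [1, 3, 2, 5, 0, 5, 3],
  [5, 1, 2, 4, 5, 7, 4, 1, 2],
  [2, 6, 6],
  [0, 4, 4, 4, 5, 1],
  [1, 5, 0, 2, 5]]

end Cfsg.Lib.HeldType.Mathieu
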