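import Cfsg.Agent.HeldType.TwoSided
import Cfsg.Agent.HeldType.Glue
import Cfsg.Agent.HeldType.ModelAGen
import Cfsg.Agent.HeldType.ModelB
import Cfsg.Agent.HeldType.ModelC
import Cfsg.Agent.HeldType.ModelD
import Cfsg.Agent.HeldType.HeOrder
import Cfsg.Agent.HeldType.M24Order
import Cfsg.Agent.Golay.Subgroups
import Cfsg.Agent.S0249
import Cfsg.Agent.Classical.SL

/-!
A group with fusion on both sides is one of three simple groups.
-/

set_option autoImplicit false
set_option maxRecDepth 100000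

namespace Cfsg.Lib.HeldType

open Cfsg

theorem isSimple_SL5 : IsSimpleGroup SL5 := by
  haveI := Cfsg.Agent.S0249.result (F := ZMod 2) 5 (by norm_num)
  have hc : Nat.card (Subgroup.center SL5) = 1 := by
    rw [Cfsg.Lib.Classical.card_center_SL, Nat.card_zmod, Fintype.card_fin]
    rfl
  let f : SL5 →* Matrix.ProjectiveSpecialLinearGroup (Fin 5) (ZMod 2) := QuotientGroup.mk' (Subgroup.center SL5)
  have hb : Function.Bijective f := by
    refine ⟨(MonoidHom.ker_eq_bot_iff _).mp ?_, QuotientGroup.mk'_surjective _⟩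
    rw [QuotientGroup.ker_mk']
    exact Subgroup.card_eq_one.mp hc
  exact (MulEquiv.ofBijective f hb).isSimpleGroup

theorem card_SL5 : Nat.card SL5 = 9999360 := by
  have h := Cfsg.Lib.Classical.card_SL_mul_eq_prod (F := ZMod 2) (n := 5) (by norm_num)
  rw [ZMod.card, Fin.prod_univ_five] at h
  generalize Nat.card (Matrix.SpecialLinearGroup (Fin 5) (ZMod 2)) = c at h ⊢
  norm_num at h
  omega

theorem caseA_x : ∀ b, (caseA.P.side b).C.x ≠ cZ := by decide +kernel

theorem caseB_x : ∀ b, (caseB.P.side b).C.x ≠ cZ := by decide +kernel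

theorem caseC_x : ∀ b, (caseC.P.side b).C.x ≠ cZ := by decide +kernel

theorem caseD_x : ∀ b, (caseD.P.side b).C.x ≠ cZ := by decide +kernel

theorem links_two :
    (link oneSide 1 8 3 0 && link oneSide 1 236 0 2 && link oneSide 1 24 2 1 && link oneSide 1 789 6 4 &&
     link oneSide 2 8 3 0 && link oneSide 2 66 6 2 && link oneSide 2 789 6 4 &&
     link twoSide 0 8 3 5 && link twoSide 0 49 0 1 && link twoSide 0 440 6 7 &&
     link twoSide 1 8 3 5 && link twoSide 1 49 0 1 && link twoSide 1 66 5 7) = true := by decide +kernel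

variable {G : Type*} [Group G] [Finite G] {S : Setting G}

/-- The chosen elements of the two sides. -/
def sel {α : Type*} (a b : α) : Bool → α := fun c => bif c then b else a

theorem case_core {C : CaseD} (hC : C.Ok) (hne : ∀ b, (C.P.side b).C.x ≠ cZ)
    (hsq : ∀ b, sqOK (C.P.side b) (C.P.opt b) (C.P.sq b) = true) (hside : ∀ b, (C.P.side b).C.ok = true)
    {t : Bool → G} (ht : ∀ b, S.Acts (C.P.side b) (C.P.opt b) (t b)) {M : Type} [Group M] [Finite M]
    (hM : IsSimpleGroup M) {SM : Setting M} (QM : Pair SM C.P) (hgen : QM.grp = ⊤)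
    (hcard : 21504 * C.bound.total ≤ Nat.card M) :
    ∃ φ : M →* G, Function.Injective φ ∧ (∀ c, valid c = true → φ (SM.η c) = S.η c) ∧
      (∀ c, valid c = true → S.η c ∈ φ.range) ∧ φ SM.z = S.z ∧
      ∀ b, ∃ T ∈ φ.range, S.Acts (C.P.side b) (C.P.opt b) T := by
  obtain ⟨Q, -⟩ := S.exists_pair hside hsq ht
  obtain ⟨φ, hinj, hη, hT⟩ := CaseD.model_hom hM hC hne QM hgen hcard Q
  refine ⟨φ, hinj, hη, fun c hc => ⟨SM.η c, hη c hc⟩, ?_, fun b => ⟨Q.T b, hT b, Q.acts b⟩⟩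
  rw [← SM.η_z, hη _ valid_z, S.η_z]

/-- An isomorphism from a frame that is everything. -/
theorem iso_of_range {M : Type*} [Group M] {φ : M →* G} (hinj : Function.Injective φ) (F : Frame S)
    (hF : F.L = φ.range) (htop : F.L = ⊤) : Nonempty (G ≃* M) :=
  ⟨(MulEquiv.ofBijective φ ⟨hinj, MonoidHom.range_eq_top.mp (hF ▸ htop)⟩).symm⟩

/-- The centraliser in a frame seen in the model. -/
theorem cen_preimage {M : Type*} [Group M] {φ : M →* G} (hinj : Function.Injective φ) {SM : Setting M}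
    (hη : ∀ c, valid c = true → φ (SM.η c) = S.η c) (hz : φ SM.z = S.z) (F : Frame S) (hF : F.L = φ.range) :
    (∀ x ∈ F.cen 6, ∃ y : M, φ y = x ∧ y * SM.η (rep 6) = SM.η (rep 6) * y) ∧
      Nat.card (F.cen 6) = Nat.card (Subgroup.centralizer ({SM.η (rep 6)} : Set M)) ∧
      SM.η (rep 6) * SM.η (rep 6) = 1 ∧ orderOf (SM.η (rep 6)) = 2 ∧ ¬ IsConj SM.z (SM.η (rep 6)) := by
  have ru := rep_valid ⟨6, by norm_num⟩
  have hu : ∀ y : M, φ y * S.η (rep 6) = S.η (rep 6) * φ y ↔ y * SM.η (rep 6) = SM.η (rep 6) * y := fun y => by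
    rw [← hη _ ru, ← map_mul, ← map_mul]
    exact hinj.eq_iff
  have hmap : F.cen 6 = (Subgroup.centralizer ({SM.η (rep 6)} : Set M)).map φ := by
    ext x
    rw [F.mem_cen, hF, Subgroup.mem_map]
    constructor
    · rintro ⟨⟨y, rfl⟩, h⟩
      exact ⟨y, Subgroup.mem_centralizer_singleton_iff.mpr ((hu y).mp h), rfl⟩
    · rintro ⟨y, hy, rfl⟩
      exact ⟨⟨y, rfl⟩, (hu y).mpr (Subgroup.mem_centralizer_singleton_iff.mp hy)⟩
  refine ⟨fun x hx => ?_, ?_, ?_, SM.rep_order (by norm_num), fun hc => ?_⟩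
  · rw [hmap] at hx
    obtain ⟨y, hy, e⟩ := hx
    exact ⟨y, e, Subgroup.mem_centralizer_singleton_iff.mp hy⟩
  · rw [hmap]
    exact (Nat.card_congr ((Subgroup.centralizer ({SM.η (rep 6)} : Set M)).equivMapOfInjective φ hinj).toEquiv).symm
  · rw [← SM.η_mul ru ru, (rep_sq ⟨6, by norm_num⟩).1, SM.η_one]
  · obtain ⟨g, hg⟩ := isConj_iff.mp hc
    exact S.not_fus_mixed (isConj_iff.mpr ⟨φ g, by rw [← hz, ← map_inv, ← map_mul, ← map_mul, hg, hη _ ru]⟩)

/-- The facts used in the Mathieu cases. -/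
theorem m24_facts {SM : Setting M24} (hz : (SM.z : Equiv.Perm GolayPt) = Cfsg.Lib.Golay.toP Cfsg.Lib.Golay.invA.1)
    (h2 : orderOf (SM.η (rep 6)) = 2) (hnc : ¬ IsConj SM.z (SM.η (rep 6))) :
    Nat.card (Subgroup.centralizer ({SM.η (rep 6)} : Set M24)) = 7680 ∧
      ∀ x y : M24, x * SM.η (rep 6) = SM.η (rep 6) * x → y * SM.η (rep 6) = SM.η (rep 6) * y → x * y = y * x →
        orderOf x = 3 → orderOf y = 5 → False := by
  set u := SM.η (rep 6)
  obtain ⟨g, hg, ⟨e, -⟩ | ⟨e, h0⟩⟩ := Cfsg.Lib.Golay.involution_classes u.2 ((Subgroup.orderOf_coe u).trans h2)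
  · exfalso
    exact hnc (isConj_iff.mpr ⟨⟨g, hg⟩, Subtype.ext (by
      show g * (SM.z : Equiv.Perm GolayPt) * g⁻¹ = _
      rw [hz, e])⟩)
  · refine ⟨?_, fun x y hx hy hxy h3 h5 => Mathieu.no_three_five u.2 x.2 ((Subgroup.orderOf_coe u).trans h2) h0
      ((Subgroup.orderOf_coe x).trans h3) ((Subgroup.orderOf_coe y).trans h5) (congrArg Subtype.val hx)
      (congrArg Subtype.val hy) (congrArg Subtype.val hxy)⟩
    have hB : Cfsg.Lib.Golay.toP Cfsg.Lib.Golay.invB.1 ∈ M24 := Cfsg.Lib.Golay.toP_mem_M24 (by decide +kernel)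
    have eu : u = MulAut.conj (⟨g, hg⟩ : M24) ⟨_, hB⟩ := Subtype.ext e
    have hcg := Cfsg.Lib.Golay.card_centralizer_cg (K := Cfsg.Lib.Golay.cgM24) Cfsg.Lib.Golay.grp_cgM24
      Cfsg.Lib.Golay.cgInvB_ok (x := Cfsg.Lib.Golay.toP Cfsg.Lib.Golay.invB.1)
      (Cfsg.Lib.Golay.grp_cgM24.symm ▸ hB) fun c => Cfsg.Lib.Golay.centralizer_invB
    have he : Nat.card (Subgroup.centralizer ({(⟨_, hB⟩ : M24)} : Set M24)) = 7680 := by
      rw [← Nat.card_congr (Equiv.subtypeEquiv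
        (MulEquiv.subgroupCongr Cfsg.Lib.Golay.grp_cgM24).toEquiv
        (q := fun c : M24 => c ∈ Subgroup.centralizer ({(⟨_, hB⟩ : M24)} : Set M24)) (fun c => ?_))]
      · exact hcg.trans (by decide +kernel)
      · simp only [Subgroup.mem_centralizer_singleton_iff]
        exact ⟨fun h => Subtype.ext (congrArg (fun q : Cfsg.Lib.Golay.cgM24.grp => (q : Equiv.Perm GolayPt)) h),
          fun h => Subtype.ext (congrArg (fun q : M24 => (q : Equiv.Perm GolayPt)) h)⟩
    rw [eu, ← he]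
    exact (Nat.card_congr (Equiv.subtypeEquiv (MulAut.conj (⟨g, hg⟩ : M24)).toEquiv fun c => by
      simp only [Subgroup.mem_centralizer_singleton_iff, MulEquiv.toEquiv_eq_coe, EquivLike.coe_coe]
      rw [← map_mul, ← map_mul, EmbeddingLike.apply_eq_iff_eq])).symm

theorem linear_of_sides {t0 t1 : G} (h0 : S.Acts oneSide 2 t0) (h1 : S.Acts twoSide 0 t1) :
    Nonempty (G ≃* SL5) := by
  have hok : ∀ b, (caseA.P.side b).C.ok = true := fun b => (side_ok_A b).cent
  obtain ⟨φ, hinj, hη, hηm, hz, hT⟩ := case_core caseA_ok caseA_x caseA_sq hok (t := sel t0 t1)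
    (fun b => by cases b; exacts [h0, h1]) isSimple_SL5 pairSL pairSL_top (by
      rw [card_SL5, show caseA.bound.total = 465 from caseA_last.2.2.2.2.2.2])
  obtain ⟨T0, m0, a0⟩ := hT false
  obtain ⟨T1, m1, a1⟩ := hT true
  have hl := links_two
  simp only [Bool.and_eq_true] at hl
  obtain ⟨⟨⟨⟨⟨⟨⟨⟨⟨⟨⟨⟨-, -⟩, -⟩, -⟩, o30⟩, o62⟩, o64⟩, w35⟩, w01⟩, w67⟩, -⟩, -⟩, -⟩ := hl
  have l30 := Setting.link_conj a0 hηm m0 o30
  have l62 := Setting.link_conj a0 hηm m0 o62
  have l64 := Setting.link_conj a0 hηm m0 o64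
  have l35 := Setting.link_conj a1 hηm m1 w35
  have l01 := Setting.link_conj a1 hηm m1 w01
  have l67 := Setting.link_conj a1 hηm m1 w67
  have one : ∀ i, ∃ l ∈ φ.range, l * S.η (rep i) * l⁻¹ = S.η (rep i) := fun i => ⟨1, one_mem _, by group⟩
  have tr : ∀ {i j k : ℕ}, (∃ l ∈ φ.range, l * S.η (rep i) * l⁻¹ = S.η (rep j)) →
      (∃ l ∈ φ.range, l * S.η (rep j) * l⁻¹ = S.η (rep k)) →
      ∃ l ∈ φ.range, l * S.η (rep i) * l⁻¹ = S.η (rep k) := fun {i j k} ⟨l, hl, e⟩ ⟨m, hm, e'⟩ =>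
    ⟨m * l, mul_mem hm hl, by rw [← e', ← e]; group⟩
  let F := S.frameOf φ.range hηm [0, 1, 3, 5] (by decide) (by decide)
    (fun i hi => by
      simp only [List.mem_cons, List.not_mem_nil, or_false] at hi
      rcases hi with rfl | rfl | rfl | rfl
      exacts [l30, tr l30 l01, one 3, l35])
    (fun i hi hn => by interval_cases i <;> first | exact absurd (by decide) hn | exact l62 | exact l64 | exact one 6 | exact l67)
  exact iso_of_range hinj F rfl (F.top_A (fun i hi hF => by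
    have hn := of_decide_eq_false hF
    interval_cases i <;> first | exact absurd (by decide) hn | exact l62 | exact l64 | exact one 6 | exact l67)
    (fun i => rfl))


theorem link_refl {M : Type*} [Group M] {φ : M →* G} (i : ℕ) :
    ∃ l ∈ φ.range, l * S.η (rep i) * l⁻¹ = S.η (rep i) := ⟨1, one_mem _, by group⟩

theorem link_trans {M : Type*} [Group M] {φ : M →* G} {i j k : ℕ}
    (h : ∃ l ∈ φ.range, l * S.η (rep i) * l⁻¹ = S.η (rep j))
    (h' : ∃ l ∈ φ.range, l * S.η (rep j) * l⁻¹ = S.η (rep k)) :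
    ∃ l ∈ φ.range, l * S.η (rep i) * l⁻¹ = S.η (rep k) := by
  obtain ⟨l, hl, e⟩ := h
  obtain ⟨m, hm, e'⟩ := h'
  exact ⟨m * l, mul_mem hm hl, by rw [← e', ← e]; group⟩

theorem m24_of_sides_mirror {t0 t1 : G} (h0 : S.Acts oneSide 2 t0) (h1 : S.Acts twoSide 1 t1) :
    Nonempty (G ≃* M24) := by
  have hok : ∀ b, (caseB.P.side b).C.ok = true := fun b => (MathieuMirror.side_ok_B b).cent
  obtain ⟨φ, hinj, hη, hηm, hz, hT⟩ := case_core caseB_ok caseB_x caseB_sq hok (t := sel t0 t1)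
    (fun b => by cases b; exacts [h0, h1]) Cfsg.Lib.Golay.isSimple_M24 MathieuMirror.pairM MathieuMirror.pairM_top (by
      rw [Cfsg.Lib.Golay.card_M24, show caseB.bound.total = 11385 from caseB_last.2.2.2.2.2.2])
  obtain ⟨T0, m0, a0⟩ := hT false
  obtain ⟨T1, m1, a1⟩ := hT true
  have hl := links_two
  simp only [Bool.and_eq_true] at hl
  obtain ⟨⟨⟨⟨⟨⟨⟨⟨⟨⟨⟨⟨a30, a02⟩, a21⟩, a64⟩, b30⟩, b62⟩, b64⟩, c35⟩, c01⟩, c67⟩, d35⟩, d01⟩, d57⟩ := hl
  have l30 := Setting.link_conj a0 hηm m0 b30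
  have l35 := Setting.link_conj a1 hηm m1 d35
  have l01 := Setting.link_conj a1 hηm m1 d01
  have l64 := Setting.link_conj a0 hηm m0 b64
  have l62 := Setting.link_conj a0 hηm m0 b62
  have l57 := Setting.link_conj a1 hηm m1 d57
  have hin : ∀ i ∈ [0, 1, 3, 5, 7], ∃ l ∈ φ.range, l * S.η (rep 3) * l⁻¹ = S.η (rep i) := fun i hi => by
    simp only [List.mem_cons, List.not_mem_nil, or_false] at hi
    rcases hi with rfl | rfl | rfl | rfl | rfl
    exacts [l30, link_trans l30 l01, link_refl 3, l35, link_trans l35 l57]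
  have hout : ∀ i < 8, i ∉ [0, 1, 3, 5, 7] → ∃ l ∈ φ.range, l * S.η (rep 6) * l⁻¹ = S.η (rep i) := fun i hi hn => by
    interval_cases i <;> first | exact absurd (by decide) hn | exact l64 | exact link_refl 6 | exact l62
  let F := S.frameOf φ.range hηm [0, 1, 3, 5, 7] (by decide) (by decide) hin hout
  have hone : F.One := fun i hi hF => hout i hi (of_decide_eq_false hF)
  obtain ⟨hback, hc, -, h2, hnc⟩ := cen_preimage hinj hη hz F rfl
  obtain ⟨hcard, hno⟩ := m24_facts (by rw [MathieuMirror.settingM_spec.1]; rfl) h2 hnc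
  refine iso_of_range hinj F rfl (F.top_M24 hone (fun i => rfl) (by decide) nonCodes_ok.2.1 freeB_ok (hc.trans hcard)
    fun x hx y hy h3 h5 hxy => ?_)
  obtain ⟨x', rfl, hx'⟩ := hback x hx
  obtain ⟨y', rfl, hy'⟩ := hback y hy
  refine hno x' y' hx' hy' (hinj (by rw [map_mul, map_mul, hxy])) ?_ ?_
  · rwa [← orderOf_injective φ hinj]
  · rwa [← orderOf_injective φ hinj]

theorem m24_of_sides {t0 t1 : G} (h0 : S.Acts oneSide 1 t0) (h1 : S.Acts twoSide 0 t1) :
    Nonempty (G ≃* M24) := by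
  have hok : ∀ b, (caseD.P.side b).C.ok = true := fun b => (Mathieu.side_ok_D b).cent
  obtain ⟨φ, hinj, hη, hηm, hz, hT⟩ := case_core caseD_ok caseD_x caseD_sq hok (t := sel t0 t1)
    (fun b => by cases b; exacts [h0, h1]) Cfsg.Lib.Golay.isSimple_M24 Mathieu.pairM Mathieu.pairM_top (by
      rw [Cfsg.Lib.Golay.card_M24, show caseD.bound.total = 11385 from caseD_last.2.2.2.2.2.2])
  obtain ⟨T0, m0, a0⟩ := hT false
  obtain ⟨T1, m1, a1⟩ := hT true
  have hl := links_two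
  simp only [Bool.and_eq_true] at hl
  obtain ⟨⟨⟨⟨⟨⟨⟨⟨⟨⟨⟨⟨a30, a02⟩, a21⟩, a64⟩, b30⟩, b62⟩, b64⟩, c35⟩, c01⟩, c67⟩, d35⟩, d01⟩, d57⟩ := hl
  have l30 := Setting.link_conj a0 hηm m0 a30
  have l35 := Setting.link_conj a1 hηm m1 c35
  have l01 := Setting.link_conj a1 hηm m1 c01
  have l64 := Setting.link_conj a0 hηm m0 a64
  have l02 := Setting.link_conj a0 hηm m0 a02
  have l67 := Setting.link_conj a1 hηm m1 c67
  have hin : ∀ i ∈ [0, 1, 2, 3, 5], ∃ l ∈ φ.range, l * S.η (rep 3) * l⁻¹ = S.η (rep i) := fun i hi => by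
    simp only [List.mem_cons, List.not_mem_nil, or_false] at hi
    rcases hi with rfl | rfl | rfl | rfl | rfl
    exacts [l30, link_trans l30 l01, link_trans l30 l02, link_refl 3, l35]
  have hout : ∀ i < 8, i ∉ [0, 1, 2, 3, 5] → ∃ l ∈ φ.range, l * S.η (rep 6) * l⁻¹ = S.η (rep i) := fun i hi hn => by
    interval_cases i <;> first | exact absurd (by decide) hn | exact l64 | exact link_refl 6 | exact l67
  let F := S.frameOf φ.range hηm [0, 1, 2, 3, 5] (by decide) (by decide) hin hout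
  have hone : F.One := fun i hi hF => hout i hi (of_decide_eq_false hF)
  obtain ⟨hback, hc, -, h2, hnc⟩ := cen_preimage hinj hη hz F rfl
  obtain ⟨hcard, hno⟩ := m24_facts (by rw [Mathieu.settingM_spec.1]; rfl) h2 hnc
  refine iso_of_range hinj F rfl (F.top_M24 hone (fun i => rfl) (by decide) nonCodes_ok.2.2.2 freeD_ok (hc.trans hcard)
    fun x hx y hy h3 h5 hxy => ?_)
  obtain ⟨x', rfl, hx'⟩ := hback x hx
  obtain ⟨y', rfl, hy'⟩ := hback y hy
  refine hno x' y' hx' hy' (hinj (by rw [map_mul, map_mul, hxy])) ?_ ?_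
  · rwa [← orderOf_injective φ hinj]
  · rwa [← orderOf_injective φ hinj]

theorem he_of_sides {t0 t1 : G} (h0 : S.Acts oneSide 1 t0) (h1 : S.Acts twoSide 1 t1) :
    Nonempty (G ≃* Cfsg.Spor.He) := by
  haveI : Finite Cfsg.Spor.He := Cfsg.Lib.HePres.bound_all.1
  have hok : ∀ b, (caseC.P.side b).C.ok = true := fun b => (Held.side_ok_C b).cent
  obtain ⟨φ, hinj, hη, hηm, hz, hT⟩ := case_core caseC_ok caseC_x caseC_sq hok (t := sel t0 t1)
    (fun b => by cases b; exacts [h0, h1]) Cfsg.Lib.HePres.simple_he Held.pairH Held.pairH_top (by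
      rw [Cfsg.Lib.HePres.card_he, show caseC.bound.total = 187425 from caseC_last.2.2.2.2.2.2])
  obtain ⟨T0, m0, a0⟩ := hT false
  obtain ⟨T1, m1, a1⟩ := hT true
  have hl := links_two
  simp only [Bool.and_eq_true] at hl
  obtain ⟨⟨⟨⟨⟨⟨⟨⟨⟨⟨⟨⟨a30, a02⟩, a21⟩, a64⟩, b30⟩, b62⟩, b64⟩, c35⟩, c01⟩, c67⟩, d35⟩, d01⟩, d57⟩ := hl
  have l30 := Setting.link_conj a0 hηm m0 a30
  have l35 := Setting.link_conj a1 hηm m1 d35
  have l01 := Setting.link_conj a1 hηm m1 d01
  have l64 := Setting.link_conj a0 hηm m0 a64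
  have l02 := Setting.link_conj a0 hηm m0 a02
  have l57 := Setting.link_conj a1 hηm m1 d57
  have hin : ∀ i ∈ [0, 1, 2, 3, 5, 7], ∃ l ∈ φ.range, l * S.η (rep 3) * l⁻¹ = S.η (rep i) := fun i hi => by
    simp only [List.mem_cons, List.not_mem_nil, or_false] at hi
    rcases hi with rfl | rfl | rfl | rfl | rfl | rfl
    exacts [l30, link_trans l30 l01, link_trans l30 l02, link_refl 3, l35, link_trans l35 l57]
  have hout : ∀ i < 8, i ∉ [0, 1, 2, 3, 5, 7] → ∃ l ∈ φ.range, l * S.η (rep 6) * l⁻¹ = S.η (rep i) := fun i hi hn => by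
    interval_cases i <;> first | exact absurd (by decide) hn | exact l64 | exact link_refl 6
  let F := S.frameOf φ.range hηm [0, 1, 2, 3, 5, 7] (by decide) (by decide) hin hout
  have hone : F.One := fun i hi hF => hout i hi (of_decide_eq_false hF)
  obtain ⟨hback, hc, husq, h2, hnc⟩ := cen_preimage hinj hη hz F rfl
  obtain ⟨g, hg | hg⟩ := Cfsg.Lib.HePres.invol_classes husq (fun e => by
    rw [e, orderOf_one] at h2
    norm_num at h2)
  swap
  · exfalso
    refine hnc (isConj_iff.mpr ⟨g⁻¹, ?_⟩)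
    rw [Held.settingH_spec.1, ← hg]
    group
  have hcard : Nat.card (Subgroup.centralizer ({Held.settingH.η (rep 6)} : Set Cfsg.Spor.He)) = 161280 := by
    rw [← Held.card_centB, ← hg]
    exact Nat.card_congr (Equiv.subtypeEquiv (MulAut.conj g).toEquiv fun c => by
      simp only [Subgroup.mem_centralizer_singleton_iff, MulEquiv.toEquiv_eq_coe, EquivLike.coe_coe]
      rw [show g * Held.settingH.η (rep 6) * g⁻¹ = MulAut.conj g (Held.settingH.η (rep 6)) from rfl, ← map_mul,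
        ← map_mul, EmbeddingLike.apply_eq_iff_eq])
  refine iso_of_range hinj F rfl (F.top_He hone (fun i => rfl) (hc.trans hcard) fun x hx ho => ?_)
  obtain ⟨x', rfl, hx'⟩ := hback x hx
  rw [orderOf_injective φ hinj] at ho
  refine Held.no_thirty_five (x := g * x' * g⁻¹) ?_ ?_
  · rw [← hg]
    calc g * x' * g⁻¹ * (g * Held.settingH.η (rep 6) * g⁻¹) = g * (x' * Held.settingH.η (rep 6)) * g⁻¹ := by group
      _ = g * (Held.settingH.η (rep 6) * x') * g⁻¹ := by rw [hx']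
      _ = _ := by group
  · rw [← ho]
    exact orderOf_injective (MulAut.conj g).toMonoidHom (MulAut.conj g).injective x'

end Cfsg.Lib.HeldType
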