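import Cfsg.Agent.HeldType.CheckA
import Cfsg.Agent.HeldType.Norm
import Cfsg.Agent.HeldType.CheckOne
import Cfsg.Agent.HeldType.CheckTwo

/-!
One case of two sides.
-/

set_option autoImplicit false
set_option maxRecDepth 100000

namespace Cfsg.Lib.HeldType

/-- The data of the case. -/
def caseA : CaseD where
  P := caseAPars
  cu := caseACube
  loc := fun b => bif b then caseALoc1Cert else caseALoc0Cert
  bit5 := true
  gauge := caseAGauge
  full := caseAFull
  fullFrom := caseAFullFrom
  bound := caseAFullBound
  triv := caseATrivial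
  trivFrom := caseATrivialFrom
  last := caseATrivialLast

theorem caseA_base : caseA.okBase = true := by decide +kernel

theorem caseA_sq : ∀ b, sqOK (caseAPars.side b) (caseAPars.opt b) (caseAPars.sq b) = true := by decide +kernel

theorem caseA_last : caseATrivial.nf = 68 ∧ caseAFull.nf = 460 ∧ caseATrivialLast < caseATrivial.nf ∧
    (caseATrivial.facts.get caseATrivialLast).a = 0 ∧ (caseATrivial.facts.get caseATrivialLast).b = 0 ∧
    (caseATrivial.facts.get caseATrivialLast).t.isSome = true ∧ caseAFullBound.total = 465 := by decide +kernel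

theorem caseA_ok : caseA.Ok where
  base := caseA_base
  loc := fun b => by cases b; exacts [caseALoc0_ok, caseALoc1_ok]
  fullDefs := caseAFull_defs
  fullFacts := fun k hk => caseAFull_facts k (caseA_last.2.1 ▸ hk)
  boundOk := caseAFull_bound
  trivDefs := caseATrivial_defs
  trivFacts := fun k hk => caseATrivial_facts k (caseA_last.1 ▸ hk)
  lastOk := ⟨caseA_last.2.2.1, caseA_last.2.2.2.1, caseA_last.2.2.2.2.1, caseA_last.2.2.2.2.2.1⟩

end Cfsg.Lib.HeldType
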