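import Cfsg.Agent.HeldType.Setting

/-!
Tables and verified lists of centralisers in the coded group.
-/

set_option autoImplicit false
set_option maxRecDepth 100000

namespace Cfsg.Lib.HeldType

/-- A search tree. -/
inductive BT (α : Type) where
  | tip
  | node (k : ℕ) (v : α) (l r : BT α)

/-- The value at a key. -/
def BT.find {α : Type} : BT α → ℕ → Option α
  | .tip, _ => none
  | .node k v l r, i => bif Nat.blt i k then l.find i else bif Nat.blt k i then r.find i else some v

/-- All entries satisfy a predicate. -/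
def BT.all {α : Type} : BT α → (ℕ → α → Bool) → Bool
  | .tip, _ => true
  | .node k v l r, p => p k v && (l.all p && r.all p)

theorem BT.find_all {α : Type} : ∀ (T : BT α) (p : ℕ → α → Bool), T.all p = true →
    ∀ {i : ℕ} {v : α}, T.find i = some v → p i v = true
  | .tip, _, _, i, v, h => by simp [BT.find] at h
  | .node k w l r, p, ha, i, v, h => by
    simp only [BT.all, Bool.and_eq_true] at ha
    simp only [BT.find] at h
    cases h1 : Nat.blt i k with
    | true => rw [h1, cond_true] at h; exact find_all l p ha.2.1 h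
    | false =>
      rw [h1, cond_false] at h
      cases h2 : Nat.blt k i with
      | true => rw [h2, cond_true] at h; exact find_all r p ha.2.2 h
      | false =>
        rw [h2, cond_false, Option.some.injEq] at h
        have e1 : i = k := by
          have a : ¬ i < k := fun hh => by simp [Nat.blt_eq.mpr hh] at h1
          have b : ¬ k < i := fun hh => by simp [Nat.blt_eq.mpr hh] at h2
          omega
        subst h; subst e1
        exact ha.1

/-- The codes commute. -/
def comm (a b : ℕ) : Bool := Nat.beq (cm a b) (cm b a)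

/-- A list of all elements centralising a code. -/
structure CentData where
  x : ℕ
  n : ℕ
  el : Tab ℕ
  ix : BT ℕ
  N : ℕ
  orb : Tab (ℕ × ℕ)

/-- The check of a centraliser. -/
def CentData.ok (D : CentData) : Bool :=
  valid D.x && Nat.beq (D.n * D.N) 21504 &&
    (allR (fun k => valid (D.el.get k) && comm (D.el.get k) D.x &&
      (match D.ix.find (D.el.get k) with | some j => Nat.beq j k | none => false)) 0 D.n) &&
    (D.ix.all fun c k => Nat.blt k D.n && Nat.beq (D.el.get k) c) &&
    (allR (fun j => valid (D.orb.get j).2 && Nat.beq (cm (D.orb.get j).2 D.x) (cm (D.orb.get j).1 (D.orb.get j).2) &&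
      Nat.blt (D.orb.get j).1 33554432 &&
      (Nat.beq (j + 1) D.N || Nat.blt (D.orb.get j).1 (D.orb.get (j + 1)).1)) 0 D.N)

variable {D : CentData}

theorem CentData.n_pos (h : D.ok = true) : 0 < D.n ∧ 0 < D.N := by
  simp only [CentData.ok, Bool.and_eq_true] at h
  have h2 := Nat.eq_of_beq_eq_true h.1.1.1.2
  constructor <;> · rcases Nat.eq_zero_or_pos D.n with e | e <;> rcases Nat.eq_zero_or_pos D.N with f | f <;> simp_all

theorem CentData.x_valid (h : D.ok = true) : valid D.x = true := by
  simp only [CentData.ok, Bool.and_eq_true] at h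
  exact h.1.1.1.1

theorem CentData.el_ok (h : D.ok = true) {k : ℕ} (hk : k < D.n) :
    valid (D.el.get k) = true ∧ cm (D.el.get k) D.x = cm D.x (D.el.get k) ∧ D.ix.find (D.el.get k) = some k := by
  simp only [CentData.ok, Bool.and_eq_true] at h
  have h1 := allR_sound _ _ _ h.1.1.2 k (Nat.zero_le _) (by omega)
  simp only [Bool.and_eq_true] at h1
  refine ⟨h1.1.1, Nat.eq_of_beq_eq_true h1.1.2, ?_⟩
  cases hf : D.ix.find (D.el.get k) with
  | none => rw [hf] at h1; simp at h1
  | some j => rw [hf] at h1; rw [Nat.eq_of_beq_eq_true h1.2]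

theorem CentData.find_el (h : D.ok = true) {c k : ℕ} (hf : D.ix.find c = some k) : k < D.n ∧ D.el.get k = c := by
  simp only [CentData.ok, Bool.and_eq_true] at h
  have h1 := BT.find_all _ _ h.1.2 hf
  simp only [Bool.and_eq_true, Nat.blt_eq] at h1
  exact ⟨h1.1, Nat.eq_of_beq_eq_true h1.2⟩

theorem cm_assoc {a b c : ℕ} : cm (cm a b) c = cm a (cm b c) :=
  mat_inj (cm_lt _ _) (cm_lt _ _) (by simp only [mat_cm, mul_assoc])

theorem cm_left_cancel {a b c : ℕ} (ha : valid a = true) (hb : valid b = true) (hc : valid c = true)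
    (h : cm a b = cm a c) : b = c := by
  obtain ⟨g, -, hg⟩ := exists_el ha
  obtain ⟨p, -, hp⟩ := exists_el hb
  obtain ⟨q, -, hq⟩ := exists_el hc
  have h1 := congrArg mat h
  rw [mat_cm, mat_cm, ← hg, ← hp, ← hq] at h1
  have h2 : g * p = g * q := Subtype.ext h1
  exact mat_inj (valid_lt hb) (valid_lt hc) (by rw [← hp, ← hq, mul_left_cancel h2])

theorem CentData.orb_ok (h : D.ok = true) {j : ℕ} (hj : j < D.N) : valid (D.orb.get j).2 = true ∧
    cm (D.orb.get j).2 D.x = cm (D.orb.get j).1 (D.orb.get j).2 ∧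
    (j + 1 < D.N → (D.orb.get j).1 < (D.orb.get (j + 1)).1) ∧ (D.orb.get j).1 < 2 ^ 25 := by
  simp only [CentData.ok, Bool.and_eq_true] at h
  have h1 := allR_sound _ _ _ h.2 j (Nat.zero_le _) (by omega)
  simp only [Bool.and_eq_true, Bool.or_eq_true] at h1
  refine ⟨h1.1.1.1, Nat.eq_of_beq_eq_true h1.1.1.2, fun hl => ?_, Nat.blt_eq.mp h1.1.2⟩
  rcases h1.2 with h2 | h2
  · have := Nat.eq_of_beq_eq_true h2; omega
  · exact Nat.blt_eq.mp h2

theorem CentData.complete (h : D.ok = true) {c : ℕ} (hc : valid c = true) (hcx : cm c D.x = cm D.x c) :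
    ∃ k < D.n, D.el.get k = c := by
  classical
  by_contra hne
  push Not at hne
  let g : ℕ → ℕ := fun k => if k < D.n then D.el.get k else c
  have hg : ∀ k, valid (g k) = true ∧ cm (g k) D.x = cm D.x (g k) := fun k => by
    simp only [g]
    split
    · exact ⟨(el_ok h ‹_›).1, (el_ok h ‹_›).2.1⟩
    · exact ⟨hc, hcx⟩
  have hginj : ∀ a b, a ≤ D.n → b ≤ D.n → g a = g b → a = b := fun a b ha hb he => by
    simp only [g] at he
    split at he <;> split at he
    · have e1 := (el_ok h ‹a < D.n›).2.2
      rw [he, (el_ok h ‹b < D.n›).2.2] at e1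
      exact (Option.some.inj e1).symm
    · exact absurd he (hne a ‹_›)
    · exact absurd he.symm (hne b ‹_›)
    · omega
  have hmono : ∀ i j, i < j → j < D.N → (D.orb.get i).1 < (D.orb.get j).1 := by
    intro i j hij hj
    induction j with
    | zero => omega
    | succ j ih =>
      rcases Nat.eq_or_lt_of_le (Nat.le_of_lt_succ hij) with rfl | h1
      · exact (orb_ok h (by omega)).2.2.1 hj
      · exact lt_trans (ih h1 (by omega)) ((orb_ok h (by omega)).2.2.1 hj)
  have hv : ∀ p : Fin D.N × Fin (D.n + 1), valid (cm (D.orb.get p.1.val).2 (g p.2.val)) = true := fun p =>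
    valid_cm (orb_ok h p.1.isLt).1 (hg _).1
  let f : Fin D.N × Fin (D.n + 1) → Fin 21504 := fun p => ⟨kOf (cm (D.orb.get p.1.val).2 (g p.2.val)), by
    have := hv p
    simp only [valid, Bool.and_eq_true, Nat.blt_eq] at this
    exact this.1⟩
  have hf : Function.Injective f := fun p q hpq => by
    have h1 : cm (D.orb.get p.1.val).2 (g p.2.val) = cm (D.orb.get q.1.val).2 (g q.2.val) := by
      have a := hv p; have b := hv q
      simp only [valid, Bool.and_eq_true] at a b
      rw [← Nat.eq_of_beq_eq_true a.2, ← Nat.eq_of_beq_eq_true b.2]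
      exact congrArg (fun x : Fin 21504 => cOf x.val) hpq
    have key : ∀ r : Fin D.N × Fin (D.n + 1), cm (cm (D.orb.get r.1.val).2 (g r.2.val)) D.x =
        cm (D.orb.get r.1.val).1 (cm (D.orb.get r.1.val).2 (g r.2.val)) := fun r => by
      rw [cm_assoc, (hg _).2, ← cm_assoc, (orb_ok h r.1.isLt).2.1, cm_assoc]
    have h2 := key p
    rw [h1, key q] at h2
    obtain ⟨w, -, hw⟩ := exists_el (hv q)
    have h3 : (D.orb.get q.1.val).1 % 2 ^ 25 = (D.orb.get p.1.val).1 % 2 ^ 25 := by
      refine mat_inj (Nat.mod_lt _ (by norm_num)) (Nat.mod_lt _ (by norm_num)) ?_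
      have hm : ∀ a : ℕ, mat (a % 2 ^ 25) = mat a := fun a => by
        ext i j
        have := i.isLt; have := j.isLt
        simp only [mat, Matrix.of_apply, Nat.testBit_mod_two_pow]
        rw [show decide (5 * i.val + j.val < 25) = true from decide_eq_true (by omega), Bool.true_and]
      rw [hm, hm]
      have h4 := congrArg mat h2
      rw [mat_cm (D.orb.get q.1.val).1, mat_cm (D.orb.get p.1.val).1, ← hw] at h4
      have h5 := congrArg (fun M => M * (w⁻¹ : SL5).1) h4
      simp only [mul_assoc] at h5
      rwa [← Matrix.SpecialLinearGroup.coe_mul, mul_inv_cancel, Matrix.SpecialLinearGroup.coe_one, mul_one, mul_one] at h5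
    have hlt : ∀ r : Fin D.N × Fin (D.n + 1), (D.orb.get r.1.val).1 % 2 ^ 25 = (D.orb.get r.1.val).1 := fun r =>
      Nat.mod_eq_of_lt (orb_ok h r.1.isLt).2.2.2
    rw [hlt, hlt] at h3
    have hi : p.1 = q.1 := Fin.ext (by
      rcases Nat.lt_trichotomy p.1.val q.1.val with hl | hl | hl
      · exact absurd h3.symm (ne_of_lt (hmono _ _ hl q.1.isLt))
      · exact hl
      · exact absurd h3 (ne_of_lt (hmono _ _ hl p.1.isLt)))
    refine Prod.ext hi (Fin.ext (hginj _ _ (by omega) (by omega) ?_))
    rw [hi] at h1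
    exact cm_left_cancel (orb_ok h q.1.isLt).1 (hg _).1 (hg _).1 h1
  have hc2 := Fintype.card_le_of_injective f hf
  simp only [Fintype.card_prod, Fintype.card_fin] at hc2
  have hn : D.n * D.N = 21504 := by
    simp only [CentData.ok, Bool.and_eq_true] at h
    exact Nat.eq_of_beq_eq_true h.1.1.1.2
  have := (n_pos h).2
  rw [Nat.mul_succ, Nat.mul_comm D.N] at hc2
  omega

end Cfsg.Lib.HeldType
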