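import Cfsg.Agent.HeldType.LocalA

/-!
An enumeration of double cosets.
-/

set_option autoImplicit false
set_option maxRecDepth 100000

namespace Cfsg.Lib.HeldType

/-- The facts. -/
def caseAFullFactsL : Tab Fct :=
(.node 115 (.node 57 (.node 28 (.node 14 (.node 7 (.node 3 (.node 1 (.leaf ⟨0, 17043521, none, 0, 32125001⟩) (.node 1 (.leaf ⟨0, 17043521, none, 0, 10971209⟩) (.leaf ⟨0, 13310023, (some false), 1, 17043521⟩)))
(.node 2 (.node 1 (.leaf ⟨1, 17043521, (some false), 0, 29511765⟩) (.leaf ⟨0, 31801425, (some false), 1, 17043521⟩)) (.node 1 (.leaf ⟨0, 6776923, (some false), 1, 17043521⟩) (.leaf ⟨0, 17043521, (some false), 1, 17176647⟩))))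
(.node 3 (.node 1 (.leaf ⟨0, 32125001, (some false), 1, 17176647⟩) (.node 1 (.leaf ⟨0, 4808797, (some false), 1, 17176647⟩) (.leaf ⟨0, 13510735, (some false), 1, 17176647⟩)))
(.node 2 (.node 1 (.leaf ⟨0, 7292999, (some false), 1, 17768525⟩) (.leaf ⟨0, 9056345, (some false), 1, 17768525⟩)) (.node 1 (.leaf ⟨0, 19085399, (some false), 1, 17117265⟩) (.leaf ⟨0, 10971209, (some false), 1, 17594445⟩)))))
(.node 7 (.node 3 (.node 1 (.leaf ⟨0, 29904967, (some false), 1, 17594445⟩) (.node 1 (.leaf ⟨0, 27529303, (some false), 1, 17594445⟩) (.leaf ⟨0, 23928925, (some false), 1, 17768525⟩)))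
(.node 2 (.node 1 (.leaf ⟨1, 17176647, none, 1, 17594445⟩) (.leaf ⟨1, 17256521, none, 1, 17768525⟩)) (.node 1 (.leaf ⟨1, 17463363, none, 1, 17176647⟩) (.leaf ⟨1, 17111129, none, 1, 17176647⟩))))
(.node 3 (.node 1 (.leaf ⟨1, 17043521, none, 1, 17174623⟩) (.node 1 (.leaf ⟨1, 17043521, none, 1, 17524825⟩) (.leaf ⟨1, 17043521, none, 1, 17594453⟩)))
(.node 2 (.node 1 (.leaf ⟨1, 17043521, none, 1, 17786957⟩) (.leaf ⟨1, 19085399, (some false), 2, 17043521⟩)) (.node 1 (.leaf ⟨2, 19085399, (some false), 3, 17043521⟩) (.leaf ⟨3, 17043521, (some false), 2, 19560517⟩))))))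
(.node 14 (.node 7 (.node 3 (.node 1 (.leaf ⟨0, 25892945, none, 3, 19664969⟩) (.node 1 (.leaf ⟨3, 17043521, none, 0, 9050185⟩) (.leaf ⟨2, 19812419, none, 1, 17768525⟩)))
(.node 2 (.node 1 (.leaf ⟨2, 17043521, none, 1, 19214425⟩) (.leaf ⟨0, 4808797, (some true), 4, 17043521⟩)) (.node 1 (.leaf ⟨4, 17043521, (some true), 0, 21586013⟩) (.leaf ⟨0, 13510735, (some true), 4, 17043521⟩))))
(.node 3 (.node 1 (.leaf ⟨0, 25385043, (some true), 4, 17043521⟩) (.node 1 (.leaf ⟨0, 11495495, (some true), 4, 8943689⟩) (.leaf ⟨0, 4544593, (some true), 4, 9187411⟩)))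
(.node 2 (.node 1 (.leaf ⟨0, 17043521, (some true), 4, 17043521⟩) (.leaf ⟨0, 32125001, (some true), 4, 17043521⟩)) (.node 1 (.leaf ⟨0, 10971209, (some true), 4, 17043521⟩) (.leaf ⟨0, 29904967, (some true), 4, 17043521⟩)))))
(.node 7 (.node 3 (.node 1 (.leaf ⟨0, 17059919, (some true), 4, 8919113⟩) (.node 1 (.leaf ⟨0, 13310023, (some true), 4, 19746891⟩) (.leaf ⟨0, 31801425, (some true), 4, 19746891⟩)))
(.node 2 (.node 1 (.leaf ⟨0, 32131155, (some true), 4, 11284547⟩) (.leaf ⟨0, 19085399, (some true), 4, 17657921⟩)) (.node 1 (.leaf ⟨4, 19691593, none, 4, 17043521⟩) (.leaf ⟨4, 17043521, none, 4, 11284547⟩))))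
(.node 4 (.node 2 (.node 1 (.leaf ⟨4, 17043521, none, 4, 8919113⟩) (.leaf ⟨4, 17043521, none, 4, 19740763⟩)) (.node 1 (.leaf ⟨4, 17059919, (some true), 5, 17043521⟩) (.leaf ⟨5, 17059919, (some true), 6, 17043521⟩)))
(.node 2 (.node 1 (.leaf ⟨6, 17043521, (some true), 5, 17043535⟩) (.leaf ⟨0, 21323861, none, 6, 9263189⟩)) (.node 1 (.leaf ⟨6, 17043521, none, 0, 6891585⟩) (.leaf ⟨5, 27611229, none, 4, 19746891⟩)))))))
(.node 29 (.node 14 (.node 7 (.node 3 (.node 1 (.leaf ⟨5, 17043521, none, 4, 27791431⟩) (.node 1 (.leaf ⟨4, 11495495, (some true), 7, 17043521⟩) (.leaf ⟨4, 31801425, (some true), 7, 11079745⟩)))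
(.node 2 (.node 1 (.leaf ⟨4, 10971209, (some true), 7, 17051729⟩) (.leaf ⟨4, 4808797, (some true), 7, 27547715⟩)) (.node 1 (.leaf ⟨4, 32131155, (some true), 7, 19230787⟩) (.leaf ⟨4, 13510735, (some true), 7, 27603017⟩))))
(.node 3 (.node 1 (.leaf ⟨4, 29904967, (some true), 7, 27613259⟩) (.node 1 (.leaf ⟨4, 19085399, (some true), 7, 25524289⟩) (.leaf ⟨4, 4544593, (some true), 7, 19232841⟩)))
(.node 2 (.node 1 (.leaf ⟨4, 25385043, (some true), 7, 19664985⟩) (.leaf ⟨4, 13310023, (some true), 7, 17576001⟩)) (.node 1 (.leaf ⟨4, 32125001, (some true), 7, 17061979⟩) (.leaf ⟨7, 32125001, (some true), 8, 17043521⟩)))))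
(.node 7 (.node 3 (.node 1 (.leaf ⟨8, 17043521, (some true), 7, 14839897⟩) (.node 1 (.leaf ⟨0, 13439043, none, 8, 4874329⟩) (.leaf ⟨8, 17043521, none, 0, 12795975⟩)))
(.node 2 (.node 1 (.leaf ⟨7, 30087249, none, 4, 17043521⟩) (.leaf ⟨7, 17043521, none, 4, 13441101⟩)) (.node 1 (.leaf ⟨4, 27529303, (some false), 9, 17043521⟩) (.leaf ⟨9, 17043521, (some false), 4, 25516101⟩))))
(.node 4 (.node 2 (.node 1 (.leaf ⟨4, 4808797, (some false), 9, 17178707⟩) (.leaf ⟨4, 19085399, (some false), 9, 17068123⟩)) (.node 1 (.leaf ⟨4, 13510735, (some false), 9, 16986183⟩) (.leaf ⟨4, 29904967, (some false), 9, 17510473⟩)))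
(.node 2 (.node 1 (.leaf ⟨4, 17043521, (some false), 9, 16934987⟩) (.leaf ⟨9, 17510481, none, 9, 17510473⟩)) (.node 1 (.leaf ⟨9, 17786961, none, 9, 17178707⟩) (.leaf ⟨9, 17125465, none, 9, 16934987⟩))))))
(.node 14 (.node 7 (.node 3 (.node 1 (.leaf ⟨9, 16918619, none, 9, 16934987⟩) (.node 1 (.leaf ⟨9, 17442881, none, 9, 17043521⟩) (.leaf ⟨9, 16922699, none, 9, 17510473⟩)))
(.node 2 (.node 1 (.leaf ⟨9, 17043521, none, 9, 17635395⟩) (.leaf ⟨9, 17043521, none, 9, 16998465⟩)) (.node 1 (.leaf ⟨9, 17043521, none, 9, 17059921⟩) (.leaf ⟨9, 17043521, none, 9, 17457235⟩))))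
(.node 3 (.node 1 (.leaf ⟨9, 17043521, none, 9, 17651779⟩) (.node 1 (.leaf ⟨9, 17043521, none, 9, 17043535⟩) (.leaf ⟨9, 19085399, (some true), 10, 17043521⟩)))
(.node 2 (.node 1 (.leaf ⟨10, 17043521, (some true), 9, 19626071⟩) (.leaf ⟨10, 19085399, (some false), 11, 17043521⟩)) (.node 1 (.leaf ⟨11, 17043521, (some false), 10, 19560517⟩) (.leaf ⟨0, 13443139, none, 11, 17262659⟩)))))
(.node 7 (.node 3 (.node 1 (.leaf ⟨11, 17043521, none, 0, 10639425⟩) (.node 1 (.leaf ⟨10, 19861589, none, 1, 17768525⟩) (.leaf ⟨10, 17043521, none, 1, 19165263⟩)))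
(.node 2 (.node 1 (.leaf ⟨1, 17059919, (some true), 9, 17176663⟩) (.leaf ⟨1, 25385043, (some true), 9, 10965085⟩)) (.node 1 (.leaf ⟨1, 17043521, (some true), 9, 16922703⟩) (.leaf ⟨1, 19085399, (some true), 9, 19017815⟩))))
(.node 4 (.node 2 (.node 1 (.leaf ⟨1, 10971209, (some true), 9, 25628767⟩) (.leaf ⟨1, 11495495, (some true), 9, 25311309⟩)) (.node 1 (.leaf ⟨1, 13510735, (some false), 12, 17043521⟩) (.leaf ⟨1, 9056345, (some false), 12, 17256537⟩)))
(.node 2 (.node 1 (.leaf ⟨1, 7292999, (some false), 12, 16986197⟩) (.leaf ⟨1, 13310023, (some false), 12, 17043551⟩)) (.node 1 (.leaf ⟨1, 29904967, (some false), 12, 17127509⟩) (.leaf ⟨1, 32125001, (some false), 12, 17641557⟩))))))))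
(.node 57 (.node 28 (.node 14 (.node 7 (.node 3 (.node 1 (.leaf ⟨1, 6776923, (some false), 12, 17004629⟩) (.node 1 (.leaf ⟨1, 27529303, (some false), 12, 17715295⟩) (.leaf ⟨1, 31801425, (some false), 12, 17635407⟩)))
(.node 2 (.node 1 (.leaf ⟨1, 23928925, (some false), 12, 16922711⟩) (.leaf ⟨1, 4808797, (some false), 12, 17510481⟩)) (.node 1 (.leaf ⟨1, 10971209, (some false), 12, 17766475⟩) (.leaf ⟨12, 13510735, (some false), 13, 17043521⟩))))
(.node 3 (.node 1 (.leaf ⟨13, 17043521, (some false), 12, 29761631⟩) (.node 1 (.leaf ⟨0, 13443165, none, 13, 11358281⟩) (.leaf ⟨13, 17043521, none, 0, 14960709⟩)))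
(.node 2 (.node 1 (.leaf ⟨12, 9197649, none, 1, 17768525⟩) (.leaf ⟨12, 17043521, none, 1, 25837655⟩)) (.node 1 (.leaf ⟨9, 25385043, (some true), 14, 17043521⟩) (.leaf ⟨14, 17059919, (some true), 15, 17043521⟩)))))
(.node 7 (.node 3 (.node 1 (.leaf ⟨15, 17043521, (some true), 14, 17043535⟩) (.node 1 (.leaf ⟨1, 16982103, none, 15, 11341901⟩) (.leaf ⟨15, 17043521, none, 1, 25380937⟩)))
(.node 2 (.node 1 (.leaf ⟨14, 11350101, none, 9, 25628767⟩) (.leaf ⟨14, 17043521, none, 9, 10704977⟩)) (.node 1 (.leaf ⟨1, 32131155, (some true), 16, 17043521⟩) (.leaf ⟨16, 17043521, (some true), 1, 14829635⟩))))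
(.node 3 (.node 1 (.leaf ⟨1, 4808797, (some true), 16, 25507907⟩) (.node 1 (.leaf ⟨1, 31801425, (some true), 16, 25704529⟩) (.leaf ⟨1, 13310023, (some true), 16, 27621467⟩)))
(.node 2 (.node 1 (.leaf ⟨1, 4544593, (some true), 16, 17051721⟩) (.leaf ⟨1, 32125001, (some true), 16, 17643603⟩)) (.node 1 (.leaf ⟨1, 29904967, (some true), 16, 25434187⟩) (.leaf ⟨1, 13510735, (some true), 16, 9197659⟩))))))
(.node 14 (.node 7 (.node 3 (.node 1 (.leaf ⟨16, 17061953, none, 16, 17643603⟩) (.node 1 (.leaf ⟨16, 11032657, none, 16, 27621467⟩) (.leaf ⟨16, 27859033, none, 16, 25507907⟩)))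
(.node 2 (.node 1 (.leaf ⟨16, 17043521, none, 16, 19755089⟩) (.leaf ⟨16, 17043521, none, 16, 25712721⟩)) (.node 1 (.leaf ⟨16, 17043521, none, 16, 17657939⟩) (.leaf ⟨16, 19085399, (some true), 17, 17043521⟩))))
(.node 3 (.node 1 (.leaf ⟨17, 17043521, (some true), 16, 19626071⟩) (.node 1 (.leaf ⟨16, 11495495, (some true), 17, 25448539⟩) (.leaf ⟨16, 4808797, (some true), 17, 19757121⟩)))
(.node 2 (.node 1 (.leaf ⟨16, 32125001, (some true), 17, 25759809⟩) (.leaf ⟨16, 29904967, (some true), 17, 19232843⟩)) (.node 1 (.leaf ⟨16, 32131155, (some true), 17, 27865155⟩) (.leaf ⟨17, 10971209, (some true), 18, 17043521⟩)))))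
(.node 7 (.node 3 (.node 1 (.leaf ⟨18, 17043521, (some true), 17, 11495513⟩) (.node 1 (.leaf ⟨1, 21905473, none, 18, 7039055⟩) (.leaf ⟨18, 17043521, none, 1, 11165775⟩)))
(.node 2 (.node 1 (.leaf ⟨17, 9398337, none, 9, 25311309⟩) (.leaf ⟨17, 17043521, none, 9, 6715485⟩)) (.node 1 (.leaf ⟨9, 13310023, (some true), 16, 17510477⟩) (.leaf ⟨9, 29904967, (some true), 16, 11472975⟩))))
(.node 4 (.node 2 (.node 1 (.leaf ⟨9, 31801425, (some true), 16, 8878175⟩) (.leaf ⟨9, 32131155, (some true), 16, 10907743⟩)) (.node 1 (.leaf ⟨9, 13510735, (some true), 16, 9384029⟩) (.leaf ⟨9, 4808797, (some true), 16, 25319501⟩)))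
(.node 2 (.node 1 (.leaf ⟨9, 4544593, (some true), 16, 10713181⟩) (.leaf ⟨9, 32125001, (some true), 16, 10901599⟩)) (.node 1 (.leaf ⟨16, 19085399, (some false), 19, 17043521⟩) (.leaf ⟨16, 17043521, (some false), 19, 17053773⟩)))))))
(.node 29 (.node 14 (.node 7 (.node 3 (.node 1 (.leaf ⟨16, 29904967, (some false), 19, 17768543⟩) (.node 1 (.leaf ⟨16, 13510735, (some false), 19, 17197147⟩) (.leaf ⟨16, 4808797, (some false), 19, 17715295⟩)))
(.node 2 (.node 1 (.leaf ⟨16, 27529303, (some false), 19, 17053783⟩) (.leaf ⟨19, 10971209, (some true), 20, 17043521⟩)) (.node 1 (.leaf ⟨20, 17043521, (some true), 19, 11495513⟩) (.leaf ⟨20, 13510735, (some false), 21, 17043521⟩))))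
(.node 3 (.node 1 (.leaf ⟨21, 17043521, (some false), 20, 29761631⟩) (.node 1 (.leaf ⟨1, 14903365, none, 21, 17649731⟩) (.leaf ⟨21, 17043521, none, 1, 13312087⟩)))
(.node 2 (.node 1 (.leaf ⟨20, 15669321, none, 12, 17004629⟩) (.leaf ⟨20, 15669321, none, 1, 23543897⟩)) (.node 1 (.leaf ⟨20, 17043521, none, 1, 29909081⟩) (.leaf ⟨19, 17178715, none, 16, 25704529⟩)))))
(.node 7 (.node 3 (.node 1 (.leaf ⟨19, 17043521, none, 16, 21506119⟩) (.node 1 (.leaf ⟨9, 19085399, (some false), 22, 17043521⟩) (.leaf ⟨22, 19085399, (some false), 23, 17043521⟩)))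
(.node 2 (.node 1 (.leaf ⟨23, 17043521, (some false), 22, 19560517⟩) (.leaf ⟨4, 21526611, none, 23, 19341405⟩)) (.node 1 (.leaf ⟨23, 17043521, none, 4, 29976649⟩) (.leaf ⟨22, 19675229, none, 9, 17178707⟩))))
(.node 4 (.node 2 (.node 1 (.leaf ⟨22, 17043521, none, 9, 19097669⟩) (.leaf ⟨4, 6776923, (some false), 24, 17043521⟩)) (.node 1 (.leaf ⟨24, 17043521, (some false), 4, 21979225⟩) (.leaf ⟨4, 9056345, (some false), 24, 17782859⟩)))
(.node 2 (.node 1 (.leaf ⟨4, 10971209, (some false), 24, 17780803⟩) (.leaf ⟨4, 23928925, (some false), 24, 17705041⟩)) (.node 1 (.leaf ⟨4, 7292999, (some false), 24, 17522783⟩) (.leaf ⟨4, 31801425, (some false), 24, 17260609⟩))))))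
(.node 14 (.node 7 (.node 3 (.node 1 (.leaf ⟨4, 32125001, (some false), 24, 17641549⟩) (.node 1 (.leaf ⟨4, 13310023, (some false), 24, 16922717⟩) (.leaf ⟨24, 17586265, none, 24, 16922717⟩)))
(.node 2 (.node 1 (.leaf ⟨24, 17260635, none, 24, 17782859⟩) (.leaf ⟨24, 17244253, none, 24, 17641549⟩)) (.node 1 (.leaf ⟨24, 17043521, none, 24, 17508433⟩) (.leaf ⟨24, 17043521, none, 24, 17576017⟩))))
(.node 3 (.node 1 (.leaf ⟨24, 17043521, none, 24, 17510487⟩) (.node 1 (.leaf ⟨24, 17043521, (some true), 25, 17043521⟩) (.leaf ⟨24, 10971209, (some true), 25, 25696331⟩)))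
(.node 2 (.node 1 (.leaf ⟨24, 25385043, (some true), 25, 11032667⟩) (.leaf ⟨24, 11495495, (some true), 25, 25442385⟩)) (.node 1 (.leaf ⟨24, 17059919, (some true), 25, 17070155⟩) (.leaf ⟨24, 19085399, (some true), 25, 19157065⟩)))))
(.node 7 (.node 3 (.node 1 (.leaf ⟨25, 17043521, (some false), 26, 17043521⟩) (.node 1 (.leaf ⟨26, 17043521, (some false), 25, 17127489⟩) (.leaf ⟨4, 9136221, none, 26, 17717323⟩)))
(.node 2 (.node 1 (.leaf ⟨26, 17043521, none, 4, 14839877⟩) (.leaf ⟨25, 17059931, none, 24, 17641549⟩)) (.node 1 (.leaf ⟨25, 17043521, none, 24, 17657927⟩) (.leaf ⟨24, 23928925, (some false), 27, 17043521⟩))))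
(.node 4 (.node 2 (.node 1 (.leaf ⟨27, 17043521, (some false), 24, 4991053⟩) (.leaf ⟨24, 6776923, (some false), 27, 17635411⟩)) (.node 1 (.leaf ⟨24, 32125001, (some false), 27, 17721425⟩) (.leaf ⟨24, 29904967, (some false), 27, 17705027⟩)))
(.node 2 (.node 1 (.leaf ⟨24, 7292999, (some false), 27, 17569885⟩) (.leaf ⟨24, 13510735, (some false), 27, 17178703⟩)) (.node 1 (.leaf ⟨27, 10971209, (some false), 28, 17043521⟩) (.leaf ⟨28, 17043521, (some false), 27, 9396299⟩)))))))))

/-- The facts. -/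
def caseAFullFactsR : Tab Fct :=
(.node 115 (.node 57 (.node 28 (.node 14 (.node 7 (.node 3 (.node 1 (.leaf ⟨4, 29700167, none, 28, 10909765⟩) (.node 1 (.leaf ⟨28, 17043521, none, 4, 6824003⟩) (.leaf ⟨27, 31602779, none, 9, 17510473⟩)))
(.node 2 (.node 1 (.leaf ⟨27, 17043521, none, 9, 21960791⟩) (.leaf ⟨9, 32125001, (some false), 24, 11210825⟩)) (.node 1 (.leaf ⟨9, 10971209, (some false), 24, 14833739⟩) (.leaf ⟨9, 27529303, (some false), 24, 12736577⟩))))
(.node 3 (.node 1 (.leaf ⟨9, 29904967, (some false), 24, 27988033⟩) (.node 1 (.leaf ⟨9, 7292999, (some false), 24, 23865439⟩) (.leaf ⟨9, 31801425, (some false), 24, 10702917⟩)))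
(.node 2 (.node 1 (.leaf ⟨9, 4808797, (some false), 24, 7286853⟩) (.leaf ⟨9, 13510735, (some false), 24, 26097733⟩)) (.node 1 (.leaf ⟨9, 9056345, (some false), 29, 17043521⟩) (.leaf ⟨9, 13310023, (some false), 29, 17526877⟩)))))
(.node 7 (.node 3 (.node 1 (.leaf ⟨9, 6776923, (some false), 29, 17592393⟩) (.node 1 (.leaf ⟨9, 23928925, (some false), 29, 17594445⟩) (.leaf ⟨24, 13310023, (some false), 32, 17043521⟩)))
(.node 2 (.node 1 (.leaf ⟨24, 9056345, (some false), 32, 17260617⟩) (.leaf ⟨24, 10971209, (some false), 32, 17770567⟩)) (.node 1 (.leaf ⟨24, 4808797, (some false), 32, 17512513⟩) (.leaf ⟨24, 31801425, (some false), 32, 17635415⟩))))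
(.node 3 (.node 1 (.leaf ⟨24, 27529303, (some false), 32, 17719379⟩) (.node 1 (.leaf ⟨32, 19085399, (some false), 33, 17043521⟩) (.leaf ⟨33, 17043521, (some false), 32, 19560517⟩)))
(.node 2 (.node 1 (.leaf ⟨9, 31670355, none, 33, 19691597⟩) (.leaf ⟨33, 17043521, none, 9, 4606021⟩)) (.node 1 (.leaf ⟨32, 19034197, none, 24, 23865439⟩) (.leaf ⟨32, 17043521, none, 24, 25587805⟩))))))
(.node 14 (.node 7 (.node 3 (.node 1 (.leaf ⟨16, 25385043, (some true), 34, 17043521⟩) (.node 1 (.leaf ⟨16, 10971209, (some true), 34, 19681345⟩) (.leaf ⟨16, 31801425, (some true), 34, 17567819⟩)))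
(.node 2 (.node 1 (.leaf ⟨16, 13310023, (some true), 34, 19148889⟩) (.leaf ⟨16, 4544593, (some true), 34, 19730497⟩)) (.node 1 (.leaf ⟨16, 13510735, (some true), 34, 8992835⟩) (.leaf ⟨34, 17059919, (some true), 35, 17043521⟩))))
(.node 3 (.node 1 (.leaf ⟨35, 17043521, (some true), 34, 17043535⟩) (.node 1 (.leaf ⟨9, 31991881, none, 35, 11030615⟩) (.leaf ⟨35, 17043521, none, 9, 21250133⟩)))
(.node 2 (.node 1 (.leaf ⟨34, 11352135, none, 16, 25319501⟩) (.leaf ⟨34, 17043521, none, 16, 11155537⟩)) (.node 1 (.leaf ⟨16, 17059919, (some true), 36, 17043521⟩) (.leaf ⟨36, 19085399, (some true), 37, 17043521⟩)))))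
(.node 7 (.node 3 (.node 1 (.leaf ⟨37, 17043521, (some true), 36, 19626071⟩) (.node 1 (.leaf ⟨9, 32319583, none, 37, 19032137⟩) (.leaf ⟨37, 17043521, none, 9, 12736601⟩)))
(.node 2 (.node 1 (.leaf ⟨36, 10639437, none, 16, 10901599⟩) (.leaf ⟨36, 17043521, none, 16, 17633357⟩)) (.node 1 (.leaf ⟨16, 6776923, (some false), 38, 17043521⟩) (.leaf ⟨38, 17043521, (some false), 16, 21979225⟩))))
(.node 4 (.node 2 (.node 1 (.leaf ⟨16, 7292999, (some false), 38, 17715289⟩) (.leaf ⟨16, 13310023, (some false), 38, 16918601⟩)) (.node 1 (.leaf ⟨16, 32125001, (some false), 38, 17768515⟩) (.leaf ⟨16, 31801425, (some false), 38, 17641557⟩)))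
(.node 2 (.node 1 (.leaf ⟨16, 23928925, (some false), 38, 17459281⟩) (.leaf ⟨16, 10971209, (some false), 38, 17786955⟩)) (.node 1 (.leaf ⟨16, 9056345, (some false), 38, 17768533⟩) (.leaf ⟨38, 17586249, none, 38, 16918601⟩)))))))
(.node 29 (.node 14 (.node 7 (.node 3 (.node 1 (.leaf ⟨38, 17651797, none, 38, 17768533⟩) (.node 1 (.leaf ⟨38, 17174617, none, 38, 17715289⟩) (.leaf ⟨38, 17043521, none, 38, 17584193⟩)))
(.node 2 (.node 1 (.leaf ⟨38, 17043521, none, 38, 17786945⟩) (.leaf ⟨38, 17043521, none, 38, 17524801⟩)) (.node 1 (.leaf ⟨38, 10971209, (some true), 39, 17043521⟩) (.leaf ⟨39, 17043521, (some true), 38, 11495513⟩))))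
(.node 3 (.node 1 (.leaf ⟨38, 25385043, (some true), 39, 27818075⟩) (.node 1 (.leaf ⟨38, 17043521, (some true), 39, 25450577⟩) (.leaf ⟨39, 13510735, (some false), 40, 17043521⟩)))
(.node 2 (.node 1 (.leaf ⟨40, 17043521, (some false), 39, 29761631⟩) (.leaf ⟨9, 4798559, none, 40, 17576011⟩)) (.node 1 (.leaf ⟨40, 17043521, none, 9, 29956173⟩) (.leaf ⟨39, 11358295, none, 24, 7286853⟩)))))
(.node 7 (.node 3 (.node 1 (.leaf ⟨39, 17043521, none, 24, 32127067⟩) (.node 1 (.leaf ⟨24, 32125001, (some true), 38, 8874073⟩) (.leaf ⟨24, 29904967, (some true), 38, 9332827⟩)))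
(.node 2 (.node 1 (.leaf ⟨24, 31801425, (some true), 38, 10709081⟩) (.leaf ⟨24, 13510735, (some true), 38, 11231307⟩)) (.node 1 (.leaf ⟨24, 4544593, (some true), 38, 17180753⟩) (.leaf ⟨24, 4808797, (some true), 38, 19095633⟩))))
(.node 4 (.node 2 (.node 1 (.leaf ⟨24, 32131155, (some true), 38, 17246297⟩) (.leaf ⟨24, 13310023, (some true), 38, 8601675⟩)) (.node 1 (.leaf ⟨38, 19538009, none, 38, 10709081⟩) (.leaf ⟨38, 17043521, none, 38, 7098433⟩)))
(.node 2 (.node 1 (.leaf ⟨38, 32125001, (some false), 16, 8613955⟩) (.leaf ⟨38, 7292999, (some false), 16, 21979215⟩)) (.node 1 (.leaf ⟨38, 23928925, (some false), 16, 23470163⟩) (.leaf ⟨38, 13510735, (some false), 16, 27473991⟩))))))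
(.node 14 (.node 7 (.node 3 (.node 1 (.leaf ⟨38, 29904967, (some false), 16, 25851977⟩) (.node 1 (.leaf ⟨38, 6776923, (some false), 16, 9121857⟩) (.leaf ⟨38, 32125001, (some true), 39, 27603011⟩)))
(.node 2 (.node 1 (.leaf ⟨38, 31801425, (some true), 39, 27529283⟩) (.leaf ⟨38, 32131155, (some true), 39, 19755083⟩)) (.node 1 (.leaf ⟨38, 4544593, (some true), 39, 19757123⟩) (.leaf ⟨9, 32184415, none, 29, 17111105⟩))))
(.node 3 (.node 1 (.leaf ⟨29, 17043521, none, 9, 32116831⟩) (.node 1 (.leaf ⟨38, 19085399, (some false), 41, 17043521⟩) (.leaf ⟨38, 10971209, (some false), 41, 17768519⟩)))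
(.node 2 (.node 1 (.leaf ⟨38, 31801425, (some false), 41, 17633367⟩) (.leaf ⟨38, 13310023, (some false), 41, 17045569⟩)) (.node 1 (.leaf ⟨38, 27529303, (some false), 41, 17702989⟩) (.leaf ⟨38, 4808797, (some false), 41, 17528917⟩)))))
(.node 7 (.node 3 (.node 1 (.leaf ⟨38, 9056345, (some false), 41, 16986177⟩) (.node 1 (.leaf ⟨41, 19085399, (some false), 42, 17043521⟩) (.leaf ⟨42, 17043521, (some false), 41, 19560517⟩)))
(.node 2 (.node 1 (.leaf ⟨16, 32319561, none, 42, 19755099⟩) (.leaf ⟨42, 17043521, none, 16, 6580305⟩)) (.node 1 (.leaf ⟨41, 19607647, none, 38, 17459281⟩) (.leaf ⟨41, 17043521, none, 38, 19214407⟩))))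
(.node 4 (.node 2 (.node 1 (.leaf ⟨9, 11495495, (some true), 43, 17043521⟩) (.leaf ⟨9, 17059919, (some true), 43, 9181249⟩)) (.node 1 (.leaf ⟨9, 17043521, (some true), 43, 9197649⟩) (.leaf ⟨9, 10971209, (some true), 43, 11079755⟩)))
(.node 2 (.node 1 (.leaf ⟨43, 25385043, (some true), 44, 17043521⟩) (.leaf ⟨44, 17043521, (some true), 43, 25892931⟩)) (.node 1 (.leaf ⟨16, 6635591, none, 44, 6846557⟩) (.leaf ⟨44, 17043521, none, 16, 17768535⟩))))))))
(.node 57 (.node 28 (.node 14 (.node 7 (.node 3 (.node 1 (.leaf ⟨43, 11407441, none, 17, 25448539⟩) (.node 1 (.leaf ⟨43, 11407441, none, 9, 23992415⟩) (.leaf ⟨43, 17043521, none, 9, 25434197⟩)))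
(.node 2 (.node 1 (.leaf ⟨24, 19085399, (some false), 45, 17043521⟩) (.leaf ⟨24, 17256537, none, 45, 19290187⟩)) (.node 1 (.leaf ⟨45, 17043521, none, 24, 19208273⟩) (.leaf ⟨38, 11495495, (some true), 46, 17043521⟩))))
(.node 3 (.node 1 (.leaf ⟨38, 19085399, (some true), 46, 9246795⟩) (.node 1 (.leaf ⟨38, 17059919, (some true), 46, 25442393⟩) (.leaf ⟨38, 29904967, (some true), 46, 11087955⟩)))
(.node 2 (.node 1 (.leaf ⟨38, 13510735, (some true), 46, 8984641⟩) (.leaf ⟨38, 4808797, (some true), 46, 17119299⟩)) (.node 1 (.leaf ⟨38, 13310023, (some true), 46, 11300931⟩) (.leaf ⟨46, 17059919, (some true), 47, 17043521⟩)))))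
(.node 7 (.node 3 (.node 1 (.leaf ⟨47, 17043521, (some true), 46, 17043535⟩) (.node 1 (.leaf ⟨24, 21196893, none, 47, 8927311⟩) (.leaf ⟨47, 17043521, none, 24, 32127051⟩)))
(.node 2 (.node 1 (.leaf ⟨46, 19208271, none, 38, 8874073⟩) (.leaf ⟨46, 17043521, none, 38, 10971223⟩)) (.node 1 (.leaf ⟨1, 32125001, (some false), 1, 11419723⟩) (.leaf ⟨1, 10971209, (some false), 1, 15417439⟩))))
(.node 3 (.node 1 (.leaf ⟨1, 4808797, (some false), 1, 7225423⟩) (.node 1 (.leaf ⟨1, 23928925, (some false), 1, 21971019⟩) (.leaf ⟨1, 29904967, (some false), 1, 27476049⟩)))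
(.node 2 (.node 1 (.leaf ⟨1, 13310023, (some false), 1, 25837641⟩) (.leaf ⟨1, 13510735, (some false), 1, 25837655⟩)) (.node 1 (.leaf ⟨1, 7292999, (some false), 1, 24002635⟩) (.leaf ⟨1, 27529303, (some false), 1, 12730457⟩))))))
(.node 14 (.node 7 (.node 3 (.node 1 (.leaf ⟨1, 19085399, (some false), 1, 19214425⟩) (.node 1 (.leaf ⟨1, 31801425, (some false), 1, 11223131⟩) (.leaf ⟨1, 9056345, (some false), 1, 31604831⟩)))
(.node 2 (.node 1 (.leaf ⟨1, 6776923, (some false), 1, 23543897⟩) (.leaf ⟨4, 32125001, (some true), 4, 32329797⟩)) (.node 1 (.leaf ⟨4, 10971209, (some true), 4, 5060693⟩) (.leaf ⟨4, 4808797, (some true), 4, 32002141⟩))))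
(.node 3 (.node 1 (.leaf ⟨4, 29904967, (some true), 4, 29970519⟩) (.node 1 (.leaf ⟨4, 13310023, (some true), 4, 21313621⟩) (.leaf ⟨4, 13510735, (some true), 4, 6895695⟩)))
(.node 2 (.node 1 (.leaf ⟨4, 17059919, (some true), 4, 27791431⟩) (.leaf ⟨4, 19085399, (some true), 4, 21524565⟩)) (.node 1 (.leaf ⟨4, 31801425, (some true), 4, 23926871⟩) (.leaf ⟨4, 25385043, (some true), 4, 29628485⟩)))))
(.node 7 (.node 3 (.node 1 (.leaf ⟨4, 32131155, (some true), 4, 23951445⟩) (.node 1 (.leaf ⟨4, 11495495, (some true), 4, 13441101⟩) (.leaf ⟨4, 4544593, (some true), 4, 21852253⟩)))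
(.node 2 (.node 1 (.leaf ⟨9, 23928925, (some false), 9, 21461081⟩) (.leaf ⟨9, 13310023, (some false), 9, 25587781⟩)) (.node 1 (.leaf ⟨9, 19085399, (some false), 9, 19097669⟩) (.leaf ⟨9, 9056345, (some false), 9, 32116831⟩))))
(.node 4 (.node 2 (.node 1 (.leaf ⟨9, 6776923, (some false), 9, 23490655⟩) (.leaf ⟨9, 17043521, (some true), 9, 17584207⟩)) (.node 1 (.leaf ⟨9, 10971209, (some true), 9, 25761861⟩) (.leaf ⟨9, 17059919, (some true), 9, 17567823⟩)))
(.node 2 (.node 1 (.leaf ⟨9, 19085399, (some true), 1, 19165263⟩) (.leaf ⟨9, 25385043, (some true), 9, 10704977⟩)) (.node 1 (.leaf ⟨9, 11495495, (some true), 9, 25434197⟩) (.leaf ⟨16, 17043521, (some false), 16, 31991873⟩)))))))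
(.node 29 (.node 14 (.node 7 (.node 3 (.node 1 (.leaf ⟨16, 4808797, (some false), 16, 4749385⟩) (.node 1 (.leaf ⟨16, 29904967, (some false), 16, 25718869⟩) (.leaf ⟨16, 13510735, (some false), 16, 11024451⟩)))
(.node 2 (.node 1 (.leaf ⟨16, 27529303, (some false), 16, 31991899⟩) (.leaf ⟨16, 19085399, (some false), 16, 21506119⟩)) (.node 1 (.leaf ⟨16, 32125001, (some true), 9, 7024719⟩) (.leaf ⟨16, 10971209, (some true), 16, 27474003⟩))))
(.node 3 (.node 1 (.leaf ⟨16, 4808797, (some true), 9, 29511767⟩) (.node 1 (.leaf ⟨16, 29904967, (some true), 9, 30019661⟩) (.leaf ⟨16, 13310023, (some true), 16, 11475019⟩)))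
(.node 2 (.node 1 (.leaf ⟨16, 13510735, (some true), 16, 17004619⟩) (.leaf ⟨16, 17059919, (some true), 16, 17633357⟩)) (.node 1 (.leaf ⟨16, 19085399, (some true), 9, 6715485⟩) (.leaf ⟨16, 31801425, (some true), 16, 27949147⟩)))))
(.node 7 (.node 3 (.node 1 (.leaf ⟨16, 25385043, (some true), 16, 11155537⟩) (.node 1 (.leaf ⟨16, 32131155, (some true), 9, 15669319⟩) (.leaf ⟨16, 11495495, (some true), 9, 23992415⟩)))
(.node 2 (.node 1 (.leaf ⟨16, 4544593, (some true), 16, 25915475⟩) (.leaf ⟨24, 32125001, (some false), 9, 11165785⟩)) (.node 1 (.leaf ⟨24, 10971209, (some false), 24, 15339587⟩) (.leaf ⟨24, 4808797, (some false), 24, 7086153⟩))))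
(.node 4 (.node 2 (.node 1 (.leaf ⟨24, 23928925, (some false), 9, 21960791⟩) (.leaf ⟨24, 29904967, (some false), 9, 27402331⟩)) (.node 1 (.leaf ⟨24, 13310023, (some false), 24, 25587805⟩) (.leaf ⟨24, 13510735, (some false), 9, 25897045⟩)))
(.node 2 (.node 1 (.leaf ⟨24, 7292999, (some false), 9, 23466057⟩) (.leaf ⟨24, 27529303, (some false), 24, 12734535⟩)) (.node 1 (.leaf ⟨24, 19085399, (some false), 24, 19208273⟩) (.leaf ⟨24, 31801425, (some false), 24, 11415643⟩))))))
(.node 14 (.node 7 (.node 3 (.node 1 (.leaf ⟨24, 9056345, (some false), 24, 32184399⟩) (.node 1 (.leaf ⟨24, 6776923, (some false), 9, 23531591⟩) (.leaf ⟨24, 17043521, (some true), 24, 17657927⟩)))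
(.node 2 (.node 1 (.leaf ⟨24, 10971209, (some true), 24, 25507919⟩) (.leaf ⟨24, 17059919, (some true), 24, 17635415⟩)) (.node 1 (.leaf ⟨24, 19085399, (some true), 24, 19675231⟩) (.leaf ⟨24, 25385043, (some true), 24, 11284559⟩))))
(.node 3 (.node 1 (.leaf ⟨24, 11495495, (some true), 24, 25786461⟩) (.node 1 (.leaf ⟨38, 10971209, (some false), 38, 19814477⟩) (.leaf ⟨38, 4808797, (some false), 38, 19537993⟩)))
(.node 2 (.node 1 (.leaf ⟨38, 13310023, (some false), 38, 19216453⟩) (.leaf ⟨38, 27529303, (some false), 38, 19877959⟩)) (.node 1 (.leaf ⟨38, 19085399, (some false), 38, 19214407⟩) (.leaf ⟨38, 31801425, (some false), 38, 19691601⟩)))))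
(.node 7 (.node 3 (.node 1 (.leaf ⟨38, 9056345, (some false), 38, 19015759⟩) (.node 1 (.leaf ⟨38, 17043521, (some true), 24, 4681795⟩) (.leaf ⟨38, 32125001, (some true), 24, 32182353⟩)))
(.node 2 (.node 1 (.leaf ⟨38, 10971209, (some true), 24, 32127067⟩) (.leaf ⟨38, 4808797, (some true), 38, 8609887⟩)) (.node 1 (.leaf ⟨38, 29904967, (some true), 38, 17721431⟩) (.leaf ⟨38, 13310023, (some true), 38, 27476055⟩))))
(.node 4 (.node 2 (.node 1 (.leaf ⟨38, 13510735, (some true), 38, 17522765⟩) (.leaf ⟨38, 17059919, (some true), 38, 10635341⟩)) (.node 1 (.leaf ⟨38, 19085399, (some true), 38, 26165319⟩) (.leaf ⟨38, 31801425, (some true), 24, 21968979⟩)))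
(.node 2 (.node 1 (.leaf ⟨38, 25385043, (some true), 24, 23212115⟩) (.leaf ⟨38, 32131155, (some true), 24, 23531585⟩)) (.node 1 (.leaf ⟨38, 11495495, (some true), 38, 10971223⟩) (.leaf ⟨38, 4544593, (some true), 24, 21370953⟩)))))))))

/-- The facts. -/
def caseAFullFacts : Tab Fct := .node 230 caseAFullFactsL caseAFullFactsR

/-- The reasons. -/
def caseAFullSrcL : Tab Src :=
(.node 115 (.node 57 (.node 28 (.node 14 (.node 7 (.node 3 (.node 1 (.leaf .root) (.node 1 (.leaf .root) (.leaf .dfn)))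
(.node 2 (.node 1 (.leaf (.mov 1 17043521 false [.edge 2 0 true])) (.leaf (.mov 0 31801425 false [.plain 0 13310023 true, .edge 2 0 false]))) (.node 1 (.leaf (.mov 0 6776923 false [.plain 0 31801425 true, .edge 4 0 false])) (.leaf (.mov 0 17043521 false [.plain 0 23951451 true, .edge 5 735 false])))))
(.node 3 (.node 1 (.leaf (.mov 0 32125001 false [.plain 0 17043521 true, .edge 6 0 false])) (.node 1 (.leaf (.mov 0 4808797 false [.plain 0 32125001 true, .edge 7 0 false])) (.leaf (.mov 0 13510735 false [.plain 0 4808797 true, .edge 8 0 false]))))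
(.node 2 (.node 1 (.leaf (.mov 0 7292999 false [.plain 1 21127235 true, .edge 9 1452 false])) (.leaf (.mov 0 9056345 false [.plain 0 7292999 true, .edge 10 0 false]))) (.node 1 (.leaf (.mov 0 19085399 false [.plain 0 32202817 true, .edge 11 342 false])) (.leaf (.mov 0 10971209 false [.plain 0 19099727 true, .edge 12 1376 false]))))))
(.node 7 (.node 3 (.node 1 (.leaf (.mov 0 29904967 false [.plain 0 10971209 true, .edge 13 0 false])) (.node 1 (.leaf (.mov 0 27529303 false [.plain 0 29904967 true, .edge 14 0 false])) (.leaf (.mov 0 23928925 false [.plain 0 29825107 true, .edge 15 751 false]))))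
(.node 2 (.node 1 (.leaf (.eqT 0 10971209 false [.plain 1 17043521 true, .edge 6 0 false] [.edge 13 0 false])) (.leaf (.eqT 0 9056345 false [.plain 1 4550739 true, .edge 5 427 false] [.edge 11 0 false]))) (.node 1 (.leaf (.eqT 0 13510735 false [.plain 1 6766657 true, .edge 4 77 false] [.edge 9 0 false])) (.leaf (.eqT 0 4808797 false [.plain 1 29579355 true, .edge 2 1015 false] [.edge 8 0 false])))))
(.node 3 (.node 1 (.leaf (.eq 1 17043521 [] [.plain 20 17111131 false])) (.node 1 (.leaf (.eq 1 17043521 [] [.plain 19 17260611 false])) (.leaf (.eq 1 17043521 [] [.plain 18 17780831 false]))))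
(.node 2 (.node 1 (.leaf (.eq 1 17043521 [] [.plain 17 17242181 false])) (.leaf .dfn)) (.node 1 (.leaf .dfn) (.leaf (.mov 3 17043521 false [.edge 26 0 true])))))))
(.node 14 (.node 7 (.node 3 (.node 1 (.leaf (.rel 0 25892945 0 [.edge 2 1460 false, .mul, .edge 25 1459 false, .mul, .edge 26 1337 false, .mul, .mul])) (.node 1 (.leaf (.eq 3 17043521 [] [.plain 28 19730523 true])) (.leaf (.eqT 0 23928925 false [.plain 29 17508427 true, .edge 27 1069 false] [.edge 16 0 false]))))
(.node 2 (.node 1 (.leaf (.eq 2 17043521 [] [.plain 30 19290179 false])) (.leaf .dfn)) (.node 1 (.leaf (.mov 4 17043521 true [.edge 32 0 true])) (.leaf (.mov 0 13510735 true [.plain 0 4808797 true, .edge 32 0 false])))))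
(.node 3 (.node 1 (.leaf (.mov 0 25385043 true [.plain 0 13510735 true, .edge 34 0 false])) (.node 1 (.leaf (.mov 0 11495495 true [.plain 0 19607633 true, .edge 35 157 false])) (.leaf (.mov 0 4544593 true [.plain 0 17197149 true, .edge 36 1126 false]))))
(.node 2 (.node 1 (.leaf (.mov 0 17043521 true [.plain 0 23951451 true, .edge 37 181 false])) (.leaf (.mov 0 32125001 true [.plain 0 17043521 true, .edge 38 0 false]))) (.node 1 (.leaf (.mov 0 10971209 true [.plain 1 17043521 true, .edge 38 0 false])) (.leaf (.mov 0 29904967 true [.plain 0 10971209 true, .edge 40 0 false]))))))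
(.node 7 (.node 3 (.node 1 (.leaf (.mov 0 17059919 true [.plain 0 7157845 true, .edge 41 1244 false])) (.node 1 (.leaf (.mov 0 13310023 true [.plain 0 9205855 true, .edge 42 770 false])) (.leaf (.mov 0 31801425 true [.plain 0 13310023 true, .edge 43 0 false]))))
(.node 2 (.node 1 (.leaf (.mov 0 32131155 true [.plain 0 14968923 true, .edge 44 1504 false])) (.leaf (.mov 0 19085399 true [.plain 0 32202817 true, .edge 45 1457 false]))) (.node 1 (.leaf (.eqT 0 29904967 true [.plain 1 9384025 true, .edge 35 105 false] [.edge 41 0 false])) (.leaf (.eqT 0 32131155 true [.plain 1 13510735 true, .edge 34 0 false] [.edge 45 0 false])))))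
(.node 4 (.node 2 (.node 1 (.leaf (.eqT 0 17059919 true [.plain 1 4808797 true, .edge 32 0 false] [.edge 42 0 false])) (.leaf (.eq 4 17043521 [] [.plain 47 19740763 false]))) (.node 1 (.leaf .dfn) (.leaf .dfn)))
(.node 2 (.node 1 (.leaf (.mov 6 17043521 true [.edge 52 0 true])) (.leaf (.rel 0 21323861 1 [.edge 32 708 false, .mul, .edge 51 1446 false, .mul, .edge 52 390 false, .mul, .mul]))) (.node 1 (.leaf (.eq 6 17043521 [] [.plain 54 27816007 true])) (.leaf (.eqT 0 31801425 true [.plain 55 9007185 true, .edge 53 266 false] [.edge 44 0 false]))))))))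
(.node 29 (.node 14 (.node 7 (.node 3 (.node 1 (.leaf (.eq 5 17043521 [] [.plain 56 25522255 false])) (.node 1 (.leaf .dfn) (.leaf (.mov 4 31801425 true [.plain 49 11487311 true, .edge 58 24 false]))))
(.node 2 (.node 1 (.leaf (.mov 4 10971209 true [.plain 49 15032387 true, .edge 59 1070 false])) (.leaf (.mov 4 4808797 true [.plain 49 19032153 true, .edge 60 716 false]))) (.node 1 (.leaf (.mov 4 32131155 true [.plain 50 29714503 true, .edge 61 17 false])) (.leaf (.mov 4 13510735 true [.plain 49 29761603 true, .edge 62 358 false])))))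
(.node 3 (.node 1 (.leaf (.mov 4 29904967 true [.plain 48 15673413 true, .edge 63 860 false])) (.node 1 (.leaf (.mov 4 19085399 true [.plain 49 6893637 true, .edge 64 974 false])) (.leaf (.mov 4 4544593 true [.plain 49 10637397 true, .edge 65 1262 false]))))
(.node 2 (.node 1 (.leaf (.mov 4 25385043 true [.plain 49 7098443 true, .edge 66 364 false])) (.leaf (.mov 4 13310023 true [.plain 50 15562833 true, .edge 66 793 false]))) (.node 1 (.leaf (.mov 4 32125001 true [.plain 49 21968983 true, .edge 68 550 false])) (.leaf .dfn)))))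
(.node 7 (.node 3 (.node 1 (.leaf (.mov 8 17043521 true [.edge 70 0 true])) (.node 1 (.leaf (.rel 0 13439043 2 [.edge 37 838 false, .mul, .edge 58 17 false, .mul, .edge 70 570 false, .mul])) (.leaf (.eq 8 17043521 [] [.plain 72 26099781 true]))))
(.node 2 (.node 1 (.leaf (.eqT 0 13510735 true [.plain 73 11106387 true, .edge 71 280 false] [.edge 34 0 false])) (.leaf (.eq 7 17043521 [] [.plain 74 13441101 false]))) (.node 1 (.leaf .dfn) (.leaf (.mov 9 17043521 false [.edge 76 0 true])))))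
(.node 4 (.node 2 (.node 1 (.leaf (.mov 4 4808797 false [.plain 48 21198943 true, .edge 76 1053 false])) (.leaf (.mov 4 19085399 false [.plain 49 6893637 true, .edge 78 645 false]))) (.node 1 (.leaf (.mov 4 13510735 false [.plain 48 19337293 true, .edge 79 533 false])) (.leaf (.mov 4 29904967 false [.plain 48 15673413 true, .edge 80 1446 false]))))
(.node 2 (.node 1 (.leaf (.mov 4 17043521 false [.plain 49 8919121 true, .edge 81 1507 false])) (.leaf (.eqT 4 29904967 false [.plain 49 17717339 true, .edge 82 899 false] [.edge 81 0 false]))) (.node 1 (.leaf (.eqT 4 4808797 false [.plain 50 7024719 true, .edge 80 420 false] [.edge 78 0 false])) (.leaf (.eqT 4 17043521 false [.plain 50 19691593 true, .edge 79 1434 false] [.edge 82 0 false])))))))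
(.node 14 (.node 7 (.node 3 (.node 1 (.leaf (.eqT 4 17043521 false [.plain 48 27875395 true, .edge 78 819 false] [.edge 82 0 false])) (.node 1 (.leaf (.eqT 4 27529303 false [.plain 50 25776223 true, .edge 78 280 false] [.edge 76 0 false])) (.leaf (.eqT 4 29904967 false [.plain 50 31877207 true, .edge 76 1035 false] [.edge 81 0 false]))))
(.node 2 (.node 1 (.leaf (.eq 9 17043521 [] [.plain 88 17244237 false])) (.leaf (.eq 9 17043521 [] [.plain 87 16998465 false]))) (.node 1 (.leaf (.eq 9 17043521 [] [.plain 86 16982101 false])) (.leaf (.eq 9 17043521 [] [.plain 85 17125467 false])))))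
(.node 3 (.node 1 (.leaf (.eq 9 17043521 [] [.plain 84 17510481 false])) (.node 1 (.leaf (.eq 9 17043521 [] [.plain 83 17786961 false])) (.leaf .dfn)))
(.node 2 (.node 1 (.leaf (.mov 10 17043521 true [.edge 95 0 true])) (.leaf .dfn)) (.node 1 (.leaf (.mov 11 17043521 false [.edge 97 0 true])) (.leaf (.rel 0 13443139 3 [.edge 44 790 false, .edge 76 592 false, .mul, .edge 95 1390 false, .edge 97 1510 false, .mul]))))))
(.node 7 (.node 3 (.node 1 (.leaf (.eq 11 17043521 [] [.plain 99 17526851 true])) (.node 1 (.leaf (.eqT 0 23928925 false [.plain 100 17459293 true, .edge 98 194 false] [.edge 16 0 false])) (.leaf (.eq 10 17043521 [] [.plain 101 19796055 false]))))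
(.node 2 (.node 1 (.leaf (.mov 1 17059919 true [.plain 102 19150923 true, .edge 96 66 false])) (.leaf (.mov 1 25385043 true [.plain 21 25712719 true, .edge 103 242 false]))) (.node 1 (.leaf (.mov 1 17043521 true [.plain 21 17174619 true, .edge 104 810 false])) (.leaf (.mov 1 19085399 true [.plain 21 19150913 true, .edge 105 999 false])))))
(.node 4 (.node 2 (.node 1 (.leaf (.mov 1 10971209 true [.plain 23 10639445 true, .edge 106 680 false])) (.leaf (.mov 1 11495495 true [.plain 21 10643537 true, .edge 107 1100 false]))) (.node 1 (.leaf .dfn) (.leaf (.mov 1 9056345 false [.plain 21 9187399 true, .edge 109 263 false]))))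
(.node 2 (.node 1 (.leaf (.mov 1 7292999 false [.plain 23 7092303 true, .edge 110 770 false])) (.leaf (.mov 1 13310023 false [.plain 23 13453401 true, .edge 111 1057 false]))) (.node 1 (.leaf (.mov 1 29904967 false [.plain 21 29511753 true, .edge 112 434 false])) (.leaf (.mov 1 32125001 false [.plain 22 31989831 true, .edge 113 326 false])))))))))
(.node 57 (.node 28 (.node 14 (.node 7 (.node 3 (.node 1 (.leaf (.mov 1 6776923 false [.plain 24 7295057 true, .edge 114 856 false])) (.node 1 (.leaf (.mov 1 27529303 false [.plain 21 27660359 true, .edge 115 1500 false])) (.leaf (.mov 1 31801425 false [.plain 22 31873091 true, .edge 116 1173 false]))))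
(.node 2 (.node 1 (.leaf (.mov 1 23928925 false [.plain 23 23478363 true, .edge 117 1375 false])) (.leaf (.mov 1 4808797 false [.plain 21 4546633 true, .edge 118 241 false]))) (.node 1 (.leaf (.mov 1 10971209 false [.plain 22 11081809 true, .edge 119 699 false])) (.leaf .dfn))))
(.node 3 (.node 1 (.leaf (.mov 13 17043521 false [.edge 121 0 true])) (.node 1 (.leaf (.rel 0 13443165 4 [.edge 16 1145 false, .mul, .edge 109 715 false, .mul, .edge 121 537 false, .mul])) (.leaf (.eq 13 17043521 [] [.plain 123 25784403 true]))))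
(.node 2 (.node 1 (.leaf (.eqT 0 7292999 false [.plain 124 17786973 true, .edge 122 806 false] [.edge 10 0 false])) (.leaf (.eq 12 17043521 [] [.plain 125 25720921 false]))) (.node 1 (.leaf .dfn) (.leaf .dfn)))))
(.node 7 (.node 3 (.node 1 (.leaf (.mov 15 17043521 true [.edge 128 0 true])) (.node 1 (.leaf (.rel 1 16982103 1 [.edge 108 984 false, .mul, .edge 127 1482 false, .mul, .edge 128 831 false, .mul, .mul])) (.leaf (.eq 15 17043521 [] [.plain 130 25759831 true]))))
(.node 2 (.node 1 (.leaf (.eqT 1 10971209 true [.plain 131 25768027 true, .edge 129 509 false] [.edge 107 0 false])) (.leaf (.eq 14 17043521 [] [.plain 132 25778255 false]))) (.node 1 (.leaf .dfn) (.leaf (.mov 16 17043521 true [.edge 134 0 true])))))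
(.node 3 (.node 1 (.leaf (.mov 1 4808797 true [.plain 23 4923473 true, .edge 134 499 false])) (.node 1 (.leaf (.mov 1 31801425 true [.plain 21 32325703 true, .edge 136 1341 false])) (.leaf (.mov 1 13310023 true [.plain 22 12869699 true, .edge 137 84 false]))))
(.node 2 (.node 1 (.leaf (.mov 1 4544593 true [.plain 21 5134429 true, .edge 138 89 false])) (.leaf (.mov 1 32125001 true [.plain 21 32256065 true, .edge 139 574 false]))) (.node 1 (.leaf (.mov 1 29904967 true [.plain 21 29511753 true, .edge 140 1121 false])) (.leaf (.mov 1 13510735 true [.plain 23 13127767 true, .edge 141 1346 false])))))))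
(.node 14 (.node 7 (.node 3 (.node 1 (.leaf (.eqT 1 32125001 true [.plain 23 31811661 true, .edge 136 1095 false] [.edge 140 0 false])) (.node 1 (.leaf (.eqT 1 13310023 true [.plain 24 12861535 true, .edge 136 412 false] [.edge 138 0 false])) (.leaf (.eqT 1 4808797 true [.plain 24 5187657 true, .edge 134 1445 false] [.edge 136 0 false]))))
(.node 2 (.node 1 (.leaf (.eq 16 17043521 [] [.plain 145 11278419 false])) (.leaf (.eq 16 17043521 [] [.plain 144 8992841 false]))) (.node 1 (.leaf (.eq 16 17043521 [] [.plain 143 17061953 false])) (.leaf .dfn))))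
(.node 3 (.node 1 (.leaf (.mov 17 17043521 true [.edge 149 0 true])) (.node 1 (.leaf (.mov 16 11495495 true [.plain 146 9050191 true, .edge 149 479 false])) (.leaf (.mov 16 4808797 true [.plain 147 19603535 true, .edge 151 812 false]))))
(.node 2 (.node 1 (.leaf (.mov 16 32125001 true [.plain 146 29714517 true, .edge 152 100 false])) (.leaf (.mov 16 29904967 true [.plain 146 31856729 true, .edge 153 1065 false]))) (.node 1 (.leaf (.mov 16 32131155 true [.plain 146 29691983 true, .edge 154 1012 false])) (.leaf .dfn)))))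
(.node 7 (.node 3 (.node 1 (.leaf (.mov 18 17043521 true [.edge 156 0 true])) (.node 1 (.leaf (.rel 1 21905473 2 [.edge 134 910 false, .mul, .edge 149 1361 false, .mul, .edge 156 1363 false, .mul])) (.leaf (.eq 18 17043521 [] [.plain 158 26167375 true]))))
(.node 2 (.node 1 (.leaf (.eqT 1 11495495 true [.plain 159 19148865 true, .edge 157 1301 false] [.edge 108 0 false])) (.leaf (.eq 17 17043521 [] [.plain 160 23605313 false]))) (.node 1 (.leaf (.mov 9 13310023 true [.plain 161 19675203 true, .edge 150 793 false])) (.leaf (.mov 9 29904967 true [.plain 89 29841477 true, .edge 162 1079 false])))))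
(.node 4 (.node 2 (.node 1 (.leaf (.mov 9 31801425 true [.plain 91 31799375 true, .edge 163 1226 false])) (.leaf (.mov 9 32131155 true [.plain 89 31735889 true, .edge 164 1028 false]))) (.node 1 (.leaf (.mov 9 13510735 true [.plain 92 12795969 true, .edge 165 660 false])) (.leaf (.mov 9 4808797 true [.plain 89 4876383 true, .edge 166 794 false]))))
(.node 2 (.node 1 (.leaf (.mov 9 4544593 true [.plain 91 4540501 true, .edge 167 707 false])) (.leaf (.mov 9 32125001 true [.plain 89 31733835 true, .edge 168 974 false]))) (.node 1 (.leaf .dfn) (.leaf (.mov 16 17043521 false [.plain 146 19675219 true, .edge 170 810 false]))))))))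
(.node 29 (.node 14 (.node 7 (.node 3 (.node 1 (.leaf (.mov 16 29904967 false [.plain 147 17176663 true, .edge 171 113 false])) (.node 1 (.leaf (.mov 16 13510735 false [.plain 146 15224897 true, .edge 172 1384 false])) (.leaf (.mov 16 4808797 false [.plain 146 7020635 true, .edge 173 1195 false]))))
(.node 2 (.node 1 (.leaf (.mov 16 27529303 false [.plain 146 25770063 true, .edge 174 934 false])) (.leaf .dfn)) (.node 1 (.leaf (.mov 20 17043521 true [.edge 176 0 true])) (.leaf .dfn))))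
(.node 3 (.node 1 (.leaf (.mov 21 17043521 false [.edge 178 0 true])) (.node 1 (.leaf (.rel 1 14903365 3 [.edge 142 382 false, .edge 170 1375 false, .mul, .edge 176 1380 false, .edge 178 525 false, .mul])) (.leaf (.eq 21 17043521 [] [.plain 180 17649731 true]))))
(.node 2 (.node 1 (.leaf (.eqT 1 6776923 false [.plain 181 17657941 true, .edge 179 201 false] [.edge 115 0 false])) (.leaf (.eq 20 15669321 [] [.plain 182 17043521 false, .plain 126 17004629 false]))) (.node 1 (.leaf (.eq 20 17043521 [] [.plain 183 25827413 false])) (.leaf (.eqT 1 31801425 true [.plain 184 11352129 true, .edge 177 969 false] [.edge 137 0 false]))))))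
(.node 7 (.node 3 (.node 1 (.leaf (.eq 19 17043521 [] [.plain 185 16920663 false])) (.node 1 (.leaf .dfn) (.leaf .dfn)))
(.node 2 (.node 1 (.leaf (.mov 23 17043521 false [.edge 188 0 true])) (.leaf (.rel 4 21526611 0 [.edge 81 638 false, .mul, .edge 187 9 false, .mul, .edge 188 132 false, .mul, .mul]))) (.node 1 (.leaf (.eq 23 17043521 [] [.plain 190 19019865 true])) (.leaf (.eqT 4 4808797 false [.plain 191 17135703 true, .edge 189 740 false] [.edge 78 0 false])))))
(.node 4 (.node 2 (.node 1 (.leaf (.eq 22 17043521 [] [.plain 192 19755093 false])) (.leaf .dfn)) (.node 1 (.leaf (.mov 24 17043521 false [.edge 194 0 true])) (.leaf (.mov 4 9056345 false [.plain 49 21248081 true, .edge 194 549 false]))))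
(.node 2 (.node 1 (.leaf (.mov 4 10971209 false [.plain 50 8548423 true, .edge 196 316 false])) (.leaf (.mov 4 23928925 false [.plain 49 27994187 true, .edge 197 652 false]))) (.node 1 (.leaf (.mov 4 7292999 false [.plain 48 27416645 true, .edge 198 274 false])) (.leaf (.mov 4 31801425 false [.plain 49 11487311 true, .edge 199 231 false])))))))
(.node 14 (.node 7 (.node 3 (.node 1 (.leaf (.mov 4 32125001 false [.plain 48 9322571 true, .edge 200 1216 false])) (.node 1 (.leaf (.mov 4 13310023 false [.plain 49 23466059 true, .edge 201 965 false])) (.leaf (.eqT 4 13310023 false [.plain 50 15562833 true, .edge 197 1414 false] [.edge 202 0 false]))))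
(.node 2 (.node 1 (.leaf (.eqT 4 9056345 false [.plain 48 31791195 true, .edge 194 609 false] [.edge 196 0 false])) (.leaf (.eqT 4 32125001 false [.plain 50 29691997 true, .edge 194 1518 false] [.edge 201 0 false]))) (.node 1 (.leaf (.eq 24 17043521 [] [.plain 205 16922715 false])) (.leaf (.eq 24 17043521 [] [.plain 204 17463367 false])))))
(.node 3 (.node 1 (.leaf (.eq 24 17043521 [] [.plain 203 17586249 false])) (.node 1 (.leaf .dfn) (.leaf (.mov 24 10971209 true [.plain 206 11278403 true, .edge 209 331 false]))))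
(.node 2 (.node 1 (.leaf (.mov 24 25385043 true [.plain 207 26157131 true, .edge 210 1340 false])) (.leaf (.mov 24 11495495 true [.plain 208 10901593 true, .edge 211 41 false]))) (.node 1 (.leaf (.mov 24 17059919 true [.plain 206 17524831 true, .edge 212 643 false])) (.leaf (.mov 24 19085399 true [.plain 207 19556421 true, .edge 212 129 false]))))))
(.node 7 (.node 3 (.node 1 (.leaf .dfn) (.node 1 (.leaf (.mov 26 17043521 false [.edge 215 0 true])) (.leaf (.rel 4 9136221 3 [.edge 58 521 false, .plain 75 19159129 false, .edge 194 590 false, .mul, .edge 209 1527 false, .edge 215 891 false, .mul]))))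
(.node 2 (.node 1 (.leaf (.eq 26 17043521 [] [.plain 217 17258573 true])) (.leaf (.eqT 4 32125001 false [.plain 218 17059933 true, .edge 216 997 false] [.edge 201 0 false]))) (.node 1 (.leaf (.eq 25 17043521 [] [.plain 219 17059931 false])) (.leaf .dfn))))
(.node 4 (.node 2 (.node 1 (.leaf (.mov 27 17043521 false [.edge 221 0 true])) (.leaf (.mov 24 6776923 false [.plain 206 7088221 true, .edge 221 1470 false]))) (.node 1 (.leaf (.mov 24 32125001 false [.plain 207 31791191 true, .edge 223 1 false])) (.leaf (.mov 24 29904967 false [.plain 206 30095451 true, .edge 224 875 false]))))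
(.node 2 (.node 1 (.leaf (.mov 24 7292999 false [.plain 206 6842433 true, .edge 225 637 false])) (.leaf (.mov 24 13510735 false [.plain 206 12863555 true, .edge 226 827 false]))) (.node 1 (.leaf .dfn) (.leaf (.mov 28 17043521 false [.edge 228 0 true]))))))))))

/-- The reasons. -/
def caseAFullSrcR : Tab Src :=
(.node 115 (.node 57 (.node 28 (.node 14 (.node 7 (.node 3 (.node 1 (.leaf (.rel 4 29700167 4 [.edge 197 1524 false, .mul, .edge 221 20 false, .mul, .edge 228 402 false, .mul])) (.node 1 (.leaf (.eq 28 17043521 [] [.plain 230 15296603 true])) (.leaf (.eqT 4 29904967 false [.plain 231 17463365 true, .edge 229 1533 false] [.edge 81 0 false]))))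
(.node 2 (.node 1 (.leaf (.eq 27 17043521 [] [.plain 232 21438553 false])) (.leaf (.mov 9 32125001 false [.plain 233 17053781 true, .edge 222 130 false]))) (.node 1 (.leaf (.mov 9 10971209 false [.plain 89 10707019 true, .edge 234 1507 false])) (.leaf (.mov 9 27529303 false [.plain 90 28256343 true, .edge 235 258 false])))))
(.node 3 (.node 1 (.leaf (.mov 9 29904967 false [.plain 89 29841477 true, .edge 236 1059 false])) (.node 1 (.leaf (.mov 9 7292999 false [.plain 90 6975559 true, .edge 236 1473 false])) (.leaf (.mov 9 31801425 false [.plain 89 32196691 true, .edge 238 1420 false]))))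
(.node 2 (.node 1 (.leaf (.mov 9 4808797 false [.plain 90 5128285 true, .edge 239 160 false])) (.leaf (.mov 9 13510735 false [.plain 89 13181005 true, .edge 240 105 false]))) (.node 1 (.leaf .dfn) (.leaf (.mov 9 13310023 false [.plain 89 13373509 true, .edge 242 847 false]))))))
(.node 7 (.node 3 (.node 1 (.leaf (.mov 9 6776923 false [.plain 90 7221339 true, .edge 243 402 false])) (.node 1 (.leaf (.mov 9 23928925 false [.plain 89 23537759 true, .edge 244 897 false])) (.leaf .dfn)))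
(.node 2 (.node 1 (.leaf (.mov 24 9056345 false [.plain 206 8878161 true, .edge 246 655 false])) (.leaf (.mov 24 10971209 false [.plain 207 10647619 true, .edge 247 854 false]))) (.node 1 (.leaf (.mov 24 4808797 false [.plain 206 5066841 true, .edge 248 76 false])) (.leaf (.mov 24 31801425 false [.plain 206 32069711 true, .edge 249 424 false])))))
(.node 3 (.node 1 (.leaf (.mov 24 27529303 false [.plain 206 27476045 true, .edge 250 1279 false])) (.node 1 (.leaf .dfn) (.leaf (.mov 33 17043521 false [.edge 252 0 true]))))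
(.node 2 (.node 1 (.leaf (.rel 9 31670355 0 [.edge 239 836 false, .mul, .edge 246 1309 false, .mul, .edge 252 347 false, .mul, .mul])) (.leaf (.eq 33 17043521 [] [.plain 254 19740757 true]))) (.node 1 (.leaf (.eqT 9 7292999 false [.plain 255 17569857 true, .edge 253 1351 false] [.edge 238 0 false])) (.leaf (.eq 32 17043521 [] [.plain 256 19865691 false])))))))
(.node 14 (.node 7 (.node 3 (.node 1 (.leaf .dfn) (.node 1 (.leaf (.mov 16 10971209 true [.plain 146 8542273 true, .edge 258 372 false])) (.leaf (.mov 16 31801425 true [.plain 147 11165787 true, .edge 259 719 false]))))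
(.node 2 (.node 1 (.leaf (.mov 16 13310023 true [.plain 146 15550537 true, .edge 260 558 false])) (.leaf (.mov 16 4544593 true [.plain 146 6781015 true, .edge 261 899 false]))) (.node 1 (.leaf (.mov 16 13510735 true [.plain 146 15224897 true, .edge 262 1380 false])) (.leaf .dfn))))
(.node 3 (.node 1 (.leaf (.mov 35 17043521 true [.edge 264 0 true])) (.node 1 (.leaf (.rel 9 31991881 1 [.edge 164 38 false, .mul, .edge 258 799 false, .mul, .edge 264 1048 false, .mul, .mul])) (.leaf (.eq 35 17043521 [] [.plain 266 8990791 true]))))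
(.node 2 (.node 1 (.leaf (.eqT 9 4808797 true [.plain 267 25784409 true, .edge 265 998 false] [.edge 167 0 false])) (.leaf (.eq 34 17043521 [] [.plain 268 25776215 false]))) (.node 1 (.leaf .dfn) (.leaf .dfn)))))
(.node 7 (.node 3 (.node 1 (.leaf (.mov 37 17043521 true [.edge 271 0 true])) (.node 1 (.leaf (.rel 9 32319583 2 [.edge 167 980 false, .mul, .edge 270 603 false, .mul, .edge 271 127 false, .mul])) (.leaf (.eq 37 17043521 [] [.plain 273 19538005 true]))))
(.node 2 (.node 1 (.leaf (.eqT 9 32125001 true [.plain 274 27611225 true, .edge 272 996 false] [.edge 169 0 false])) (.leaf (.eq 36 17043521 [] [.plain 275 15278171 false]))) (.node 1 (.leaf .dfn) (.leaf (.mov 38 17043521 false [.edge 277 0 true])))))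
(.node 4 (.node 2 (.node 1 (.leaf (.mov 16 7292999 false [.plain 146 4995139 true, .edge 277 398 false])) (.leaf (.mov 16 13310023 false [.plain 146 15550537 true, .edge 279 682 false]))) (.node 1 (.leaf (.mov 16 32125001 false [.plain 146 29714517 true, .edge 280 1009 false])) (.leaf (.mov 16 31801425 false [.plain 147 11165787 true, .edge 281 1298 false]))))
(.node 2 (.node 1 (.leaf (.mov 16 23928925 false [.plain 146 21381193 true, .edge 282 431 false])) (.leaf (.mov 16 10971209 false [.plain 146 8542273 true, .edge 283 136 false]))) (.node 1 (.leaf (.mov 16 9056345 false [.plain 146 11429971 true, .edge 284 927 false])) (.leaf (.eqT 16 13310023 false [.plain 147 23939153 true, .edge 279 127 false] [.edge 280 0 false]))))))))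
(.node 29 (.node 14 (.node 7 (.node 3 (.node 1 (.leaf (.eqT 16 9056345 false [.plain 147 21915725 true, .edge 277 1241 false] [.edge 285 0 false])) (.node 1 (.leaf (.eqT 16 7292999 false [.plain 148 7157827 true, .edge 277 185 false] [.edge 279 0 false])) (.leaf (.eq 38 17043521 [] [.plain 288 17174621 false]))))
(.node 2 (.node 1 (.leaf (.eq 38 17043521 [] [.plain 287 17651783 false])) (.leaf (.eq 38 17043521 [] [.plain 286 17586265 false]))) (.node 1 (.leaf .dfn) (.leaf (.mov 39 17043521 true [.edge 292 0 true])))))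
(.node 3 (.node 1 (.leaf (.mov 38 25385043 true [.plain 290 25575507 true, .edge 292 1394 false])) (.node 1 (.leaf (.mov 38 17043521 true [.plain 290 17510465 true, .edge 294 996 false])) (.leaf .dfn)))
(.node 2 (.node 1 (.leaf (.mov 40 17043521 false [.edge 296 0 true])) (.leaf (.rel 9 4798559 3 [.edge 163 1422 false, .edge 277 938 false, .mul, .edge 292 131 false, .edge 296 1418 false, .mul]))) (.node 1 (.leaf (.eq 40 17043521 [] [.plain 298 17592411 true])) (.leaf (.eqT 9 4808797 false [.plain 299 17262665 true, .edge 297 72 false] [.edge 240 0 false]))))))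
(.node 7 (.node 3 (.node 1 (.leaf (.eq 39 17043521 [] [.plain 300 25784391 false])) (.node 1 (.leaf (.mov 24 32125001 true [.plain 301 19142737 true, .edge 293 1343 false])) (.leaf (.mov 24 29904967 true [.plain 206 30095451 true, .edge 302 301 false]))))
(.node 2 (.node 1 (.leaf (.mov 24 31801425 true [.plain 206 32069711 true, .edge 303 1292 false])) (.leaf (.mov 24 13510735 true [.plain 206 12863555 true, .edge 304 572 false]))) (.node 1 (.leaf (.mov 24 4544593 true [.plain 207 4677717 true, .edge 305 1230 false])) (.leaf (.mov 24 4808797 true [.plain 206 5066841 true, .edge 306 1305 false])))))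
(.node 4 (.node 2 (.node 1 (.leaf (.mov 24 32131155 true [.plain 206 31989837 true, .edge 307 923 false])) (.leaf (.mov 24 13310023 true [.plain 206 12738635 true, .edge 308 792 false]))) (.node 1 (.leaf (.eqT 24 31801425 true [.plain 208 31676507 true, .edge 302 709 false] [.edge 304 0 false])) (.leaf (.eq 38 17043521 [] [.plain 310 19032151 false]))))
(.node 2 (.node 1 (.leaf (.mov 38 32125001 false [.plain 311 16937033 true, .edge 278 587 false])) (.leaf (.mov 38 7292999 false [.plain 289 7098439 true, .edge 312 603 false]))) (.node 1 (.leaf (.mov 38 23928925 false [.plain 290 24004701 true, .edge 313 783 false])) (.leaf (.mov 38 13510735 false [.plain 290 12736591 true, .edge 314 153 false])))))))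
(.node 14 (.node 7 (.node 3 (.node 1 (.leaf (.mov 38 29904967 false [.plain 289 29761607 true, .edge 315 2 false])) (.node 1 (.leaf (.mov 38 6776923 false [.plain 311 31985755 true, .edge 316 40 false])) (.leaf (.mov 38 32125001 true [.plain 311 16937033 true, .edge 294 240 false]))))
(.node 2 (.node 1 (.leaf (.mov 38 31801425 true [.plain 289 32127057 true, .edge 318 1366 false])) (.leaf (.mov 38 32131155 true [.plain 290 31922259 true, .edge 318 1185 false]))) (.node 1 (.leaf (.mov 38 4544593 true [.plain 289 4671569 true, .edge 320 1047 false])) (.leaf (.rel 9 32184415 3 [.edge 162 406 false, .edge 171 37 false, .plain 186 17246285 false, .mul, .edge 152 993 false, .plain 161 17070161 false, .edge 245 518 false, .mul])))))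
(.node 3 (.node 1 (.leaf (.eq 29 17043521 [] [.plain 322 17111105 true])) (.node 1 (.leaf .dfn) (.leaf (.mov 38 10971209 false [.plain 311 19800137 true, .edge 324 1533 false]))))
(.node 2 (.node 1 (.leaf (.mov 38 31801425 false [.plain 289 32127057 true, .edge 325 1102 false])) (.leaf (.mov 38 13310023 false [.plain 290 12861511 true, .edge 326 1372 false]))) (.node 1 (.leaf (.mov 38 27529303 false [.plain 290 28192855 true, .edge 327 1492 false])) (.leaf (.mov 38 4808797 false [.plain 289 4943965 true, .edge 328 324 false]))))))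
(.node 7 (.node 3 (.node 1 (.leaf (.mov 38 9056345 false [.plain 311 6891609 true, .edge 329 141 false])) (.node 1 (.leaf .dfn) (.leaf (.mov 42 17043521 false [.edge 331 0 true]))))
(.node 2 (.node 1 (.leaf (.rel 16 32319561 0 [.edge 280 938 false, .mul, .edge 324 932 false, .mul, .edge 331 338 false, .mul, .mul])) (.leaf (.eq 42 17043521 [] [.plain 333 19675209 true]))) (.node 1 (.leaf (.eqT 16 23928925 false [.plain 334 17649741 true, .edge 332 40 false] [.edge 283 0 false])) (.leaf (.eq 41 17043521 [] [.plain 335 19816533 false])))))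
(.node 4 (.node 2 (.node 1 (.leaf .dfn) (.leaf (.mov 9 17059919 true [.plain 90 16918607 true, .edge 337 396 false]))) (.node 1 (.leaf (.mov 9 17043521 true [.plain 94 17043535 true, .edge 338 363 false])) (.leaf (.mov 9 10971209 true [.plain 90 11022409 true, .edge 339 830 false]))))
(.node 2 (.node 1 (.leaf .dfn) (.leaf (.mov 44 17043521 true [.edge 341 0 true]))) (.node 1 (.leaf (.rel 16 6635591 2 [.edge 152 419 false, .plain 161 25524297 false, .mul, .edge 337 258 false, .mul, .edge 341 1356 false, .mul])) (.leaf (.eq 44 17043521 [] [.plain 343 9324615 true])))))))))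
(.node 57 (.node 28 (.node 14 (.node 7 (.node 3 (.node 1 (.leaf (.eqT 16 11495495 true [.plain 344 11350083 true, .edge 342 412 false] [.edge 151 0 false])) (.node 1 (.leaf (.eq 43 11407441 [] [.plain 345 17043521 false, .plain 161 25448539 false])) (.leaf (.eq 43 17043521 [] [.plain 346 32051295 false]))))
(.node 2 (.node 1 (.leaf .dfn) (.leaf (.rel 24 17256537 0 [.edge 195 1062 false, .mul, .edge 196 834 false, .mul, .edge 348 1446 false, .mul, .mul]))) (.node 1 (.leaf (.eq 45 17043521 [] [.plain 349 19812447 true])) (.leaf .dfn))))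
(.node 3 (.node 1 (.leaf (.mov 38 19085399 true [.plain 290 19865687 true, .edge 351 1038 false])) (.node 1 (.leaf (.mov 38 17059919 true [.plain 290 17002575 true, .edge 352 1401 false])) (.leaf (.mov 38 29904967 true [.plain 311 11368519 true, .edge 353 340 false]))))
(.node 2 (.node 1 (.leaf (.mov 38 13510735 true [.plain 289 13113423 true, .edge 354 1234 false])) (.leaf (.mov 38 4808797 true [.plain 290 5187677 true, .edge 355 284 false]))) (.node 1 (.leaf (.mov 38 13310023 true [.plain 289 13445191 true, .edge 356 1333 false])) (.leaf .dfn)))))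
(.node 7 (.node 3 (.node 1 (.leaf (.mov 47 17043521 true [.edge 358 0 true])) (.node 1 (.leaf (.rel 24 21196893 1 [.edge 309 1437 false, .mul, .edge 351 309 false, .mul, .edge 358 696 false, .mul, .mul])) (.leaf (.eq 47 17043521 [] [.plain 360 8935493 true]))))
(.node 2 (.node 1 (.leaf (.eqT 24 32125001 true [.plain 361 19142723 true, .edge 359 1216 false] [.edge 302 0 false])) (.leaf (.eq 46 17043521 [] [.plain 362 19208271 false]))) (.node 1 (.leaf (.mov 1 32125001 false [.edge 114 0 false, .plain 126 17641557 false])) (.leaf (.mov 1 10971209 false [.edge 120 0 false, .plain 126 17766475 false])))))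
(.node 3 (.node 1 (.leaf (.mov 1 4808797 false [.edge 119 0 false, .plain 126 17510481 false])) (.node 1 (.leaf (.mov 1 23928925 false [.edge 118 0 false, .plain 126 16922711 false])) (.leaf (.mov 1 29904967 false [.edge 113 0 false, .plain 126 17127509 false]))))
(.node 2 (.node 1 (.leaf (.mov 1 13310023 false [.edge 112 0 false, .plain 126 17043551 false])) (.leaf (.mov 1 13510735 false [.edge 109 0 false, .plain 126 17043521 false]))) (.node 1 (.leaf (.mov 1 7292999 false [.edge 111 0 false, .plain 126 16986197 false])) (.leaf (.mov 1 27529303 false [.edge 116 0 false, .plain 126 17715295 false])))))))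
(.node 14 (.node 7 (.node 3 (.node 1 (.leaf (.mov 1 19085399 false [.edge 25 0 false, .plain 31 17043521 false])) (.node 1 (.leaf (.mov 1 31801425 false [.edge 117 0 false, .plain 126 17635407 false])) (.leaf (.mov 1 9056345 false [.edge 110 0 false, .plain 126 17256537 false]))))
(.node 2 (.node 1 (.leaf (.mov 1 6776923 false [.edge 115 0 false, .plain 126 17004629 false])) (.leaf (.mov 4 32125001 true [.edge 69 0 false, .plain 75 17061979 false]))) (.node 1 (.leaf (.mov 4 10971209 true [.edge 60 0 false, .plain 75 17051729 false])) (.leaf (.mov 4 4808797 true [.edge 61 0 false, .plain 75 27547715 false])))))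
(.node 3 (.node 1 (.leaf (.mov 4 29904967 true [.edge 64 0 false, .plain 75 27613259 false])) (.node 1 (.leaf (.mov 4 13310023 true [.edge 68 0 false, .plain 75 17576001 false])) (.leaf (.mov 4 13510735 true [.edge 63 0 false, .plain 75 27603017 false]))))
(.node 2 (.node 1 (.leaf (.mov 4 17059919 true [.edge 51 0 false, .plain 57 17043521 false])) (.leaf (.mov 4 19085399 true [.edge 65 0 false, .plain 75 25524289 false]))) (.node 1 (.leaf (.mov 4 31801425 true [.edge 59 0 false, .plain 75 11079745 false])) (.leaf (.mov 4 25385043 true [.edge 67 0 false, .plain 75 19664985 false]))))))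
(.node 7 (.node 3 (.node 1 (.leaf (.mov 4 32131155 true [.edge 62 0 false, .plain 75 19230787 false])) (.node 1 (.leaf (.mov 4 11495495 true [.edge 58 0 false, .plain 75 17043521 false])) (.leaf (.mov 4 4544593 true [.edge 66 0 false, .plain 75 19232841 false]))))
(.node 2 (.node 1 (.leaf (.mov 9 23928925 false [.edge 245 0 false, .plain 323 17594445 false])) (.leaf (.mov 9 13310023 false [.edge 243 0 false, .plain 323 17526877 false]))) (.node 1 (.leaf (.mov 9 19085399 false [.edge 187 0 false, .plain 193 17043521 false])) (.leaf (.mov 9 9056345 false [.edge 242 0 false, .plain 323 17043521 false])))))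
(.node 4 (.node 2 (.node 1 (.leaf (.mov 9 6776923 false [.edge 244 0 false, .plain 323 17592393 false])) (.leaf (.mov 9 17043521 true [.edge 339 0 false, .plain 347 9197649 false]))) (.node 1 (.leaf (.mov 9 10971209 true [.edge 340 0 false, .plain 347 11079755 false])) (.leaf (.mov 9 17059919 true [.edge 338 0 false, .plain 347 9181249 false]))))
(.node 2 (.node 1 (.leaf (.mov 9 19085399 true [.edge 95 0 false, .plain 102 17043521 false])) (.leaf (.mov 9 25385043 true [.edge 127 0 false, .plain 133 17043521 false]))) (.node 1 (.leaf (.mov 9 11495495 true [.edge 337 0 false, .plain 347 17043521 false])) (.leaf (.mov 16 17043521 false [.edge 171 0 false, .plain 186 17053773 false]))))))))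
(.node 29 (.node 14 (.node 7 (.node 3 (.node 1 (.leaf (.mov 16 4808797 false [.edge 174 0 false, .plain 186 17715295 false])) (.node 1 (.leaf (.mov 16 29904967 false [.edge 172 0 false, .plain 186 17768543 false])) (.leaf (.mov 16 13510735 false [.edge 173 0 false, .plain 186 17197147 false]))))
(.node 2 (.node 1 (.leaf (.mov 16 27529303 false [.edge 175 0 false, .plain 186 17053783 false])) (.leaf (.mov 16 19085399 false [.edge 170 0 false, .plain 186 17043521 false]))) (.node 1 (.leaf (.mov 16 32125001 true [.edge 153 0 false, .plain 161 25759809 false])) (.leaf (.mov 16 10971209 true [.edge 259 0 false, .plain 269 19681345 false])))))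
(.node 3 (.node 1 (.leaf (.mov 16 4808797 true [.edge 152 0 false, .plain 161 19757121 false])) (.node 1 (.leaf (.mov 16 29904967 true [.edge 154 0 false, .plain 161 19232843 false])) (.leaf (.mov 16 13310023 true [.edge 261 0 false, .plain 269 19148889 false]))))
(.node 2 (.node 1 (.leaf (.mov 16 13510735 true [.edge 263 0 false, .plain 269 8992835 false])) (.leaf (.mov 16 17059919 true [.edge 270 0 false, .plain 276 17043521 false]))) (.node 1 (.leaf (.mov 16 19085399 true [.edge 149 0 false, .plain 161 17043521 false])) (.leaf (.mov 16 31801425 true [.edge 260 0 false, .plain 269 17567819 false]))))))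
(.node 7 (.node 3 (.node 1 (.leaf (.mov 16 25385043 true [.edge 258 0 false, .plain 269 17043521 false])) (.node 1 (.leaf (.mov 16 32131155 true [.edge 155 0 false, .plain 161 27865155 false])) (.leaf (.mov 16 11495495 true [.edge 151 0 false, .plain 161 25448539 false]))))
(.node 2 (.node 1 (.leaf (.mov 16 4544593 true [.edge 262 0 false, .plain 269 19730497 false])) (.leaf (.mov 24 32125001 false [.edge 224 0 false, .plain 233 17721425 false]))) (.node 1 (.leaf (.mov 24 10971209 false [.edge 248 0 false, .plain 257 17770567 false])) (.leaf (.mov 24 4808797 false [.edge 249 0 false, .plain 257 17512513 false])))))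
(.node 4 (.node 2 (.node 1 (.leaf (.mov 24 23928925 false [.edge 221 0 false, .plain 233 17043521 false])) (.leaf (.mov 24 29904967 false [.edge 225 0 false, .plain 233 17705027 false]))) (.node 1 (.leaf (.mov 24 13310023 false [.edge 246 0 false, .plain 257 17043521 false])) (.leaf (.mov 24 13510735 false [.edge 227 0 false, .plain 233 17178703 false]))))
(.node 2 (.node 1 (.leaf (.mov 24 7292999 false [.edge 226 0 false, .plain 233 17569885 false])) (.leaf (.mov 24 27529303 false [.edge 251 0 false, .plain 257 17719379 false]))) (.node 1 (.leaf (.mov 24 19085399 false [.edge 348 0 false, .plain 350 17043521 false])) (.leaf (.mov 24 31801425 false [.edge 250 0 false, .plain 257 17635415 false])))))))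
(.node 14 (.node 7 (.node 3 (.node 1 (.leaf (.mov 24 9056345 false [.edge 247 0 false, .plain 257 17260617 false])) (.node 1 (.leaf (.mov 24 6776923 false [.edge 223 0 false, .plain 233 17635411 false])) (.leaf (.mov 24 17043521 true [.edge 209 0 false, .plain 220 17043521 false]))))
(.node 2 (.node 1 (.leaf (.mov 24 10971209 true [.edge 210 0 false, .plain 220 25696331 false])) (.leaf (.mov 24 17059919 true [.edge 213 0 false, .plain 220 17070155 false]))) (.node 1 (.leaf (.mov 24 19085399 true [.edge 214 0 false, .plain 220 19157065 false])) (.leaf (.mov 24 25385043 true [.edge 211 0 false, .plain 220 11032667 false])))))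
(.node 3 (.node 1 (.leaf (.mov 24 11495495 true [.edge 212 0 false, .plain 220 25442385 false])) (.node 1 (.leaf (.mov 38 10971209 false [.edge 325 0 false, .plain 336 17768519 false])) (.leaf (.mov 38 4808797 false [.edge 329 0 false, .plain 336 17528917 false]))))
(.node 2 (.node 1 (.leaf (.mov 38 13310023 false [.edge 327 0 false, .plain 336 17045569 false])) (.leaf (.mov 38 27529303 false [.edge 328 0 false, .plain 336 17702989 false]))) (.node 1 (.leaf (.mov 38 19085399 false [.edge 324 0 false, .plain 336 17043521 false])) (.leaf (.mov 38 31801425 false [.edge 326 0 false, .plain 336 17633367 false]))))))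
(.node 7 (.node 3 (.node 1 (.leaf (.mov 38 9056345 false [.edge 330 0 false, .plain 336 16986177 false])) (.node 1 (.leaf (.mov 38 17043521 true [.edge 295 0 false, .plain 301 25450577 false])) (.leaf (.mov 38 32125001 true [.edge 318 0 false, .plain 301 27603011 false]))))
(.node 2 (.node 1 (.leaf (.mov 38 10971209 true [.edge 292 0 false, .plain 301 17043521 false])) (.leaf (.mov 38 4808797 true [.edge 356 0 false, .plain 363 17119299 false]))) (.node 1 (.leaf (.mov 38 29904967 true [.edge 354 0 false, .plain 363 11087955 false])) (.leaf (.mov 38 13310023 true [.edge 357 0 false, .plain 363 11300931 false])))))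
(.node 4 (.node 2 (.node 1 (.leaf (.mov 38 13510735 true [.edge 355 0 false, .plain 363 8984641 false])) (.leaf (.mov 38 17059919 true [.edge 353 0 false, .plain 363 25442393 false]))) (.node 1 (.leaf (.mov 38 19085399 true [.edge 352 0 false, .plain 363 9246795 false])) (.leaf (.mov 38 31801425 true [.edge 319 0 false, .plain 301 27529283 false]))))
(.node 2 (.node 1 (.leaf (.mov 38 25385043 true [.edge 294 0 false, .plain 301 27818075 false])) (.leaf (.mov 38 32131155 true [.edge 320 0 false, .plain 301 19755083 false]))) (.node 1 (.leaf (.mov 38 11495495 true [.edge 351 0 false, .plain 363 17043521 false])) (.leaf (.mov 38 4544593 true [.edge 321 0 false, .plain 301 19757123 false]))))))))))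

/-- The reasons. -/
def caseAFullSrc : Tab Src := .node 230 caseAFullSrcL caseAFullSrcR

/-- The definitions. -/
def caseAFullDefs : Tab (ℕ × ℕ × Bool) :=
(.node 24 (.node 12 (.node 6 (.node 3 (.node 1 (.leaf (0, 17043521, false)) (.node 1 (.leaf (0, 13310023, false)) (.leaf (1, 19085399, false)))) (.node 1 (.leaf (2, 19085399, false)) (.node 1 (.leaf (0, 4808797, true)) (.leaf (4, 17059919, true)))))
(.node 3 (.node 1 (.leaf (5, 17059919, true)) (.node 1 (.leaf (4, 11495495, true)) (.leaf (7, 32125001, true)))) (.node 1 (.leaf (4, 27529303, false)) (.node 1 (.leaf (9, 19085399, true)) (.leaf (10, 19085399, false))))))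
(.node 6 (.node 3 (.node 1 (.leaf (1, 13510735, false)) (.node 1 (.leaf (12, 13510735, false)) (.leaf (9, 25385043, true)))) (.node 1 (.leaf (14, 17059919, true)) (.node 1 (.leaf (1, 32131155, true)) (.leaf (16, 19085399, true)))))
(.node 3 (.node 1 (.leaf (17, 10971209, true)) (.node 1 (.leaf (16, 19085399, false)) (.leaf (19, 10971209, true)))) (.node 1 (.leaf (20, 13510735, false)) (.node 1 (.leaf (9, 19085399, false)) (.leaf (22, 19085399, false)))))))
(.node 12 (.node 6 (.node 3 (.node 1 (.leaf (4, 6776923, false)) (.node 1 (.leaf (24, 17043521, true)) (.leaf (25, 17043521, false)))) (.node 1 (.leaf (24, 23928925, false)) (.node 1 (.leaf (27, 10971209, false)) (.leaf (9, 9056345, false)))))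
(.node 3 (.node 1 (.leaf (29, 19085399, false)) (.node 1 (.leaf (30, 19085399, false)) (.leaf (24, 13310023, false)))) (.node 1 (.leaf (32, 19085399, false)) (.node 1 (.leaf (16, 25385043, true)) (.leaf (34, 17059919, true))))))
(.node 6 (.node 3 (.node 1 (.leaf (16, 17059919, true)) (.node 1 (.leaf (36, 19085399, true)) (.leaf (16, 6776923, false)))) (.node 1 (.leaf (38, 10971209, true)) (.node 1 (.leaf (39, 13510735, false)) (.leaf (38, 19085399, false)))))
(.node 3 (.node 1 (.leaf (41, 19085399, false)) (.node 1 (.leaf (9, 11495495, true)) (.leaf (43, 25385043, true)))) (.node 1 (.leaf (24, 19085399, false)) (.node 1 (.leaf (38, 11495495, true)) (.leaf (46, 17059919, true))))))))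

/-- The relators. -/
def caseAFullRels : List (List Let) :=
  [[.t false, .h 19140673, .t false, .h 19140673, .t false, .h 19140673, .h 17764417],
  [.t true, .h 17043525, .t true, .h 17043525, .t true, .h 17043525, .h 17633345],
  [.t true, .h 16939099, .t true, .h 19355723, .t true, .h 19609677],
  [.t true, .t false, .h 16920641, .t true, .t false, .h 17174601],
  [.t false, .h 26161217, .t false, .h 11219009, .t false, .h 11417665]]

/-- The enumeration. -/
def caseAFull : EnumD := ⟨48, caseAFullDefs, 460, caseAFullFacts, caseAFullSrc, caseAFullRels⟩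

/-- The origin of the relators. -/
def caseAFullFrom : List (Bool × ℕ) := [(false, 1), (true, 0), (true, 1)]

/-- The stabiliser. -/
def caseAFullN0Els : Tab ℕ :=
(.leaf 17043521)

/-- Its index. -/
def caseAFullN0Ix : BT ℕ :=
(.node 17043521 0 .tip .tip)

/-- The reasons. -/
def caseAFullN0How : Tab (ℕ × ℕ) :=
(.leaf (0, 0))

/-- The node. -/
def caseAFullN0Node : NodeD := ⟨0, 1, caseAFullN0Els, caseAFullN0Ix, caseAFullN0How, fun b => bif b then (.node 7 (.node 3 (.node 1 (.leaf 38) (.node 1 (.leaf 42) (.leaf 40)))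
(.node 2 (.node 1 (.leaf 36) (.leaf 35)) (.node 1 (.leaf 46) (.leaf 44))))
(.node 3 (.node 1 (.leaf 32) (.node 1 (.leaf 37) (.leaf 41)))
(.node 2 (.node 1 (.leaf 45) (.leaf 34)) (.node 1 (.leaf 39) (.leaf 43))))) else (.node 7 (.node 3 (.node 1 (.leaf 4) (.node 1 (.leaf 10) (.leaf 14)))
(.node 2 (.node 1 (.leaf 8) (.leaf 2)) (.node 1 (.leaf 16) (.leaf 6))))
(.node 3 (.node 1 (.leaf 12) (.node 1 (.leaf 13) (.leaf 7)))
(.node 2 (.node 1 (.leaf 9) (.leaf 15)) (.node 1 (.leaf 11) (.leaf 5)))))⟩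

/-- The stabiliser. -/
def caseAFullN1ElsLL : Tab ℕ :=
(.node 192 (.node 96 (.node 48 (.node 24 (.node 12 (.node 6 (.node 3 (.node 1 (.leaf 17043521) (.node 1 (.leaf 17174623) (.leaf 17524825))) (.node 1 (.leaf 17594453) (.node 1 (.leaf 17786957) (.leaf 17043525))))
(.node 3 (.node 1 (.leaf 17528899) (.node 1 (.leaf 17721419) (.leaf 17659991))) (.node 1 (.leaf 17197127) (.node 1 (.leaf 17043551) (.leaf 17004627)))))
(.node 6 (.node 3 (.node 1 (.leaf 17764437) (.node 1 (.leaf 17004609) (.leaf 17180765))) (.node 1 (.leaf 17059931) (.node 1 (.leaf 17442899) (.leaf 16935003))))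
(.node 3 (.node 1 (.leaf 17051715) (.node 1 (.leaf 17258567) (.leaf 17510473))) (.node 1 (.leaf 17174619) (.node 1 (.leaf 17524829) (.leaf 17594449))))))
(.node 12 (.node 6 (.node 3 (.node 1 (.leaf 17786953) (.node 1 (.leaf 17070169) (.leaf 17174597))) (.node 1 (.leaf 17000525) (.node 1 (.leaf 17633355) (.leaf 17000543))))
(.node 3 (.node 1 (.leaf 17053767) (.node 1 (.leaf 17190977) (.leaf 17446989))) (.node 1 (.leaf 16939073) (.node 1 (.leaf 17178717) (.leaf 17127513)))))
(.node 6 (.node 3 (.node 1 (.leaf 17506387) (.node 1 (.leaf 17524803) (.leaf 17070171))) (.node 1 (.leaf 17698893) (.node 1 (.leaf 16939089) (.leaf 17174593))))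
(.node 3 (.node 1 (.leaf 17524807) (.node 1 (.leaf 17594443) (.leaf 17786963))) (.node 1 (.leaf 17594457) (.node 1 (.leaf 17190981) (.leaf 17508445)))))))
(.node 24 (.node 12 (.node 6 (.node 3 (.node 1 (.leaf 17125451) (.node 1 (.leaf 17633373) (.leaf 17510491))) (.node 1 (.leaf 17244225) (.node 1 (.leaf 17051727) (.leaf 17190999))))
(.node 3 (.node 1 (.leaf 17508431) (.node 1 (.leaf 17125465) (.leaf 16984137))) (.node 1 (.leaf 17594433) (.node 1 (.leaf 17715271) (.leaf 17463387)))))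
(.node 6 (.node 3 (.node 1 (.leaf 17715285) (.node 1 (.leaf 17000515) (.leaf 17578079))) (.node 1 (.leaf 17262663) (.node 1 (.leaf 17770591) (.leaf 17569879))))
(.node 3 (.node 1 (.leaf 16920649) (.node 1 (.leaf 17176653) (.leaf 17786967))) (.node 1 (.leaf 17061967) (.node 1 (.leaf 17444945) (.leaf 17193029))))))
(.node 12 (.node 6 (.node 3 (.node 1 (.leaf 16920661) (.node 1 (.leaf 17786971) (.leaf 17586271))) (.node 1 (.leaf 17586253) (.node 1 (.leaf 16937049) (.leaf 17770561))))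
(.node 3 (.node 1 (.leaf 17133663) (.node 1 (.leaf 17641537) (.leaf 17764431))) (.node 1 (.leaf 16982101) (.node 1 (.leaf 17043539) (.leaf 17528903)))))
(.node 6 (.node 3 (.node 1 (.leaf 17721423) (.node 1 (.leaf 17659987) (.leaf 17197123))) (.node 1 (.leaf 17043547) (.node 1 (.leaf 17004631) (.leaf 17764433))))
(.node 3 (.node 1 (.leaf 17004613) (.node 1 (.leaf 17180761) (.leaf 17059935))) (.node 1 (.leaf 17442903) (.node 1 (.leaf 16935007) (.leaf 17051719))))))))
(.node 48 (.node 24 (.node 12 (.node 6 (.node 3 (.node 1 (.leaf 17258563) (.node 1 (.leaf 17510477) (.leaf 17528925))) (.node 1 (.leaf 17197121) (.node 1 (.leaf 17567831) (.leaf 16934991))))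
(.node 3 (.node 1 (.leaf 17528921) (.node 1 (.leaf 17721425) (.leaf 17659981))) (.node 1 (.leaf 17721411) (.node 1 (.leaf 17512519) (.leaf 17256529)))))
(.node 6 (.node 3 (.node 1 (.leaf 17764423) (.node 1 (.leaf 17506369) (.leaf 17117279))) (.node 1 (.leaf 17178709) (.node 1 (.leaf 17059913) (.leaf 17512533))))
(.node 3 (.node 1 (.leaf 17256515) (.node 1 (.leaf 16988243) (.leaf 17721439))) (.node 1 (.leaf 17584217) (.node 1 (.leaf 17459265) (.leaf 17584203))))))
(.node 12 (.node 6 (.node 3 (.node 1 (.leaf 17004637) (.node 1 (.leaf 17705029) (.leaf 17135705))) (.node 1 (.leaf 17643589) (.node 1 (.leaf 17700937) (.leaf 16916563))))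
(.node 3 (.node 1 (.leaf 17045591) (.node 1 (.leaf 17659977) (.leaf 17193045))) (.node 1 (.leaf 17440847) (.node 1 (.leaf 17061979) (.leaf 16916555)))))
(.node 6 (.node 3 (.node 1 (.leaf 17659969) (.node 1 (.leaf 17717317) (.leaf 17717335))) (.node 1 (.leaf 16932931) (.node 1 (.leaf 17643615) (.leaf 17260613))))
(.node 3 (.node 1 (.leaf 17768543) (.node 1 (.leaf 17633365) (.leaf 16986187))) (.node 1 (.leaf 17174605) (.node 1 (.leaf 17197149) (.leaf 17004617)))))))
(.node 24 (.node 12 (.node 6 (.node 3 (.node 1 (.leaf 17528927) (.node 1 (.leaf 17567829) (.leaf 16934989))) (.node 1 (.leaf 17567815) (.node 1 (.leaf 17512513) (.leaf 17119317))))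
(.node 3 (.node 1 (.leaf 17659993) (.node 1 (.leaf 17440863) (.leaf 17061963))) (.node 1 (.leaf 17721429) (.node 1 (.leaf 17197145) (.leaf 17004621)))))
(.node 6 (.node 3 (.node 1 (.leaf 17764427) (.node 1 (.leaf 17004639) (.leaf 17180739))) (.node 1 (.leaf 17059909) (.node 1 (.leaf 17442893) (.leaf 16934981))))
(.node 3 (.node 1 (.leaf 17051741) (.node 1 (.leaf 17258585) (.leaf 17510487))) (.node 1 (.leaf 17180753) (.node 1 (.leaf 17059927) (.leaf 17442911))))))
(.node 12 (.node 6 (.node 3 (.node 1 (.leaf 17584207) (.node 1 (.leaf 17004633) (.leaf 17705025))) (.node 1 (.leaf 17135709) (.node 1 (.leaf 17705043) (.leaf 17567835))))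
(.node 3 (.node 1 (.leaf 16988231) (.node 1 (.leaf 17240129) (.leaf 17780807))) (.node 1 (.leaf 16998481) (.node 1 (.leaf 17641551) (.leaf 17195093)))))
(.node 6 (.node 3 (.node 1 (.leaf 17506391) (.node 1 (.leaf 17117257) (.leaf 17178691))) (.node 1 (.leaf 17641555) (.node 1 (.leaf 17764445) (.leaf 16982087))))
(.node 3 (.node 1 (.leaf 17657951) (.node 1 (.leaf 17780825) (.leaf 17461319))) (.node 1 (.leaf 16920665) (.node 1 (.leaf 17586259) (.leaf 17524811)))))))))
(.node 96 (.node 48 (.node 24 (.node 12 (.node 6 (.node 3 (.node 1 (.leaf 17584221) (.node 1 (.leaf 17004619) (.leaf 17135695))) (.node 1 (.leaf 17567817) (.node 1 (.leaf 16988245) (.leaf 17240147))))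
(.node 3 (.node 1 (.leaf 17780821) (.node 1 (.leaf 16998467) (.leaf 17641565))) (.node 1 (.leaf 17195079) (.node 1 (.leaf 17180759) (.leaf 17584223)))))
(.node 6 (.node 3 (.node 1 (.leaf 17528915) (.node 1 (.leaf 17780805) (.leaf 17004629))) (.node 1 (.leaf 17180745) (.node 1 (.leaf 17059919) (.leaf 17442887))))
(.node 3 (.node 1 (.leaf 17059933) (.node 1 (.leaf 16988235) (.leaf 17643599))) (.node 1 (.leaf 17135683) (.node 1 (.leaf 17176671) (.leaf 16932949))))))
(.node 12 (.node 6 (.node 3 (.node 1 (.leaf 17569873) (.node 1 (.leaf 16988249) (.leaf 17197137))) (.node 1 (.leaf 17643613) (.node 1 (.leaf 17721421) (.leaf 17059925))))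
(.node 3 (.node 1 (.leaf 17512521) (.node 1 (.leaf 17256543) (.leaf 17512539))) (.node 1 (.leaf 17705047) (.node 1 (.leaf 16918601) (.leaf 17068121)))))
(.node 6 (.node 3 (.node 1 (.leaf 17766477) (.node 1 (.leaf 17002579) (.leaf 17442905))) (.node 1 (.leaf 17576017) (.node 1 (.leaf 17242181) (.leaf 17766491))))
(.node 3 (.node 1 (.leaf 17051713) (.node 1 (.leaf 17051731) (.leaf 17782877))) (.node 1 (.leaf 17459285) (.node 1 (.leaf 17651777) (.leaf 17111125)))))))
(.node 24 (.node 12 (.node 6 (.node 3 (.node 1 (.leaf 17463377) (.node 1 (.leaf 17719387) (.leaf 17594439))) (.node 1 (.leaf 16934977) (.node 1 (.leaf 17051737) (.leaf 17258589))))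
(.node 3 (.node 1 (.leaf 17510483) (.node 1 (.leaf 17782851) (.leaf 16934999))) (.node 1 (.leaf 17576009) (.node 1 (.leaf 17576027) (.leaf 17766485)))))
(.node 6 (.node 3 (.node 1 (.leaf 16918605) (.node 1 (.leaf 17111113) (.leaf 17651789))) (.node 1 (.leaf 16939097) (.node 1 (.leaf 17702979) (.leaf 17070175))))
(.node 3 (.node 1 (.leaf 17782849) (.node 1 (.leaf 17459273) (.leaf 17651805))) (.node 1 (.leaf 17051733) (.node 1 (.leaf 17258577) (.leaf 17510495))))))
(.node 12 (.node 6 (.node 3 (.node 1 (.leaf 16918615) (.node 1 (.leaf 17705041) (.leaf 16918597))) (.node 1 (.leaf 17068107) (.node 1 (.leaf 17705027) (.leaf 17592403))))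
(.node 3 (.node 1 (.leaf 17258573) (.node 1 (.leaf 17442901) (.leaf 17127489))) (.node 1 (.leaf 17576015) (.node 1 (.leaf 17242203) (.leaf 16986197)))))
(.node 6 (.node 3 (.node 1 (.leaf 17526875) (.node 1 (.leaf 17633363) (.leaf 16932937))) (.node 1 (.leaf 17510469) (.node 1 (.leaf 17768523) (.leaf 17109085))))
(.node 3 (.node 1 (.leaf 16916567) (.node 1 (.leaf 17633351) (.leaf 17510465))) (.node 1 (.leaf 17244251) (.node 1 (.leaf 17244233) (.leaf 17649731))))))))
(.node 48 (.node 24 (.node 12 (.node 6 (.node 3 (.node 1 (.leaf 17526861) (.node 1 (.leaf 17715291) (.leaf 17786975))) (.node 1 (.leaf 17070173) (.node 1 (.leaf 17000521) (.leaf 17633359))))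
(.node 3 (.node 1 (.leaf 17000539) (.node 1 (.leaf 17053763) (.leaf 17446985))) (.node 1 (.leaf 16939077) (.node 1 (.leaf 17178713) (.leaf 17127517)))))
(.node 6 (.node 3 (.node 1 (.leaf 17698889) (.node 1 (.leaf 16939093) (.leaf 17594447))) (.node 1 (.leaf 17594461) (.node 1 (.leaf 17508441) (.leaf 17125455))))
(.node 3 (.node 1 (.leaf 17633369) (.node 1 (.leaf 17244229) (.leaf 17051723))) (.node 1 (.leaf 17190995) (.node 1 (.leaf 17508427) (.leaf 17125469))))))
(.node 12 (.node 6 (.node 3 (.node 1 (.leaf 16984141) (.node 1 (.leaf 17594437) (.leaf 17715267))) (.node 1 (.leaf 17463391) (.node 1 (.leaf 17715281) (.leaf 17000519))))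
(.node 3 (.node 1 (.leaf 17578075) (.node 1 (.leaf 17262659) (.leaf 17770587))) (.node 1 (.leaf 17569875) (.node 1 (.leaf 16920653) (.leaf 17176649)))))
(.node 6 (.node 3 (.node 1 (.leaf 17444949) (.node 1 (.leaf 17193025) (.leaf 16920657))) (.node 1 (.leaf 17586267) (.node 1 (.leaf 17586249) (.leaf 16937053))))
(.node 3 (.node 1 (.leaf 17770565) (.node 1 (.leaf 17133659) (.leaf 17641541))) (.node 1 (.leaf 16982097) (.node 1 (.leaf 17043543) (.leaf 17070151)))))))
(.node 24 (.node 12 (.node 6 (.node 3 (.node 1 (.leaf 17000531) (.node 1 (.leaf 17524805) (.leaf 17698891))) (.node 1 (.leaf 16939095) (.node 1 (.leaf 17698905) (.leaf 17508447))))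
(.node 3 (.node 1 (.leaf 17246283) (.node 1 (.leaf 17786947) (.leaf 17444933))) (.node 1 (.leaf 17193041) (.node 1 (.leaf 17070147) (.leaf 17000535)))))
(.node 6 (.node 3 (.node 1 (.leaf 17633361) (.node 1 (.leaf 17000517) (.leaf 17053789))) (.node 1 (.leaf 17191003) (.node 1 (.leaf 17446999) (.leaf 16939099))))
(.node 3 (.node 1 (.leaf 17178695) (.node 1 (.leaf 17127491) (.leaf 17506377))) (.node 1 (.leaf 17053775) (.node 1 (.leaf 17190985) (.leaf 17446981))))))
(.node 12 (.node 6 (.node 3 (.node 1 (.leaf 17578061) (.node 1 (.leaf 17698881) (.leaf 16984153))) (.node 1 (.leaf 17109087) (.node 1 (.leaf 17649753) (.leaf 17002575))))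
(.node 3 (.node 1 (.leaf 17768533) (.node 1 (.leaf 17244243) (.leaf 17768525))) (.node 1 (.leaf 16986201) (.node 1 (.leaf 17784901) (.leaf 17457241)))))
(.node 6 (.node 3 (.node 1 (.leaf 16916547) (.node 1 (.leaf 17717325) (.leaf 17528913))) (.node 1 (.leaf 17000529) (.node 1 (.leaf 17262677) (.leaf 17698899))))
(.node 3 (.node 1 (.leaf 16984139) (.node 1 (.leaf 17109069) (.leaf 17649739))) (.node 1 (.leaf 17002589) (.node 1 (.leaf 17768519) (.leaf 17053769))))))))))

/-- The stabiliser. -/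
def caseAFullN1ElsLR : Tab ℕ :=
(.node 192 (.node 96 (.node 48 (.node 24 (.node 12 (.node 6 (.node 3 (.node 1 (.leaf 17715269) (.node 1 (.leaf 17524813) (.leaf 17649755))) (.node 1 (.leaf 17000523) (.node 1 (.leaf 17053779) (.leaf 17190997))))
(.node 3 (.node 1 (.leaf 17447001) (.node 1 (.leaf 17190983) (.leaf 16984145))) (.node 1 (.leaf 17770581) (.node 1 (.leaf 17262685) (.leaf 17045573)))))
(.node 6 (.node 3 (.node 1 (.leaf 16937035) (.node 1 (.leaf 17700943) (.leaf 16984131))) (.node 1 (.leaf 17070159) (.node 1 (.leaf 17770567) (.leaf 17594455))))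
(.node 3 (.node 1 (.leaf 17190987) (.node 1 (.leaf 17508435) (.leaf 17125445))) (.node 1 (.leaf 17508417) (.node 1 (.leaf 17578057) (.leaf 16922707))))))
(.node 12 (.node 6 (.node 3 (.node 1 (.leaf 17195075) (.node 1 (.leaf 17635415) (.leaf 16998477))) (.node 1 (.leaf 17446979) (.node 1 (.leaf 17702991) (.leaf 17111131))))
(.node 3 (.node 1 (.leaf 17635393) (.node 1 (.leaf 17178719) (.leaf 17178701))) (.node 1 (.leaf 17651783) (.node 1 (.leaf 17463371) (.leaf 17782879)))))
(.node 6 (.node 3 (.node 1 (.leaf 17242187) (.node 1 (.leaf 17459279) (.leaf 17592385))) (.node 1 (.leaf 17721433) (.node 1 (.leaf 16939103) (.leaf 17127495))))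
(.node 3 (.node 1 (.leaf 17506381) (.node 1 (.leaf 16939081) (.leaf 17702995))) (.node 1 (.leaf 17702977) (.node 1 (.leaf 17635403) (.leaf 16922711)))))))
(.node 24 (.node 12 (.node 6 (.node 3 (.node 1 (.leaf 17242195) (.node 1 (.leaf 17782871) (.leaf 16934979))) (.node 1 (.leaf 17576029) (.node 1 (.leaf 17197125) (.leaf 17651807))))
(.node 3 (.node 1 (.leaf 17463379) (.node 1 (.leaf 17782855) (.leaf 17178699))) (.node 1 (.leaf 17127503) (.node 1 (.leaf 17506373) (.leaf 16922697)))))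
(.node 6 (.node 3 (.node 1 (.leaf 17578063) (.node 1 (.leaf 16922715) (.leaf 17195089))) (.node 1 (.leaf 17578077) (.node 1 (.leaf 17719373) (.leaf 17127511))))
(.node 3 (.node 1 (.leaf 17446987) (.node 1 (.leaf 17258591) (.leaf 17702997))) (.node 1 (.leaf 17111105) (.node 1 (.leaf 16982091) (.leaf 17522753))))))
(.node 12 (.node 6 (.node 3 (.node 1 (.leaf 17764429) (.node 1 (.leaf 16937043) (.leaf 17506395))) (.node 1 (.leaf 17641553) (.node 1 (.leaf 17240135) (.leaf 17764441))))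
(.node 3 (.node 1 (.leaf 17506399) (.node 1 (.leaf 17117249) (.leaf 17117267))) (.node 1 (.leaf 17780829) (.node 1 (.leaf 17522775) (.leaf 17584193)))))
(.node 6 (.node 3 (.node 1 (.leaf 17659973) (.node 1 (.leaf 17070145) (.leaf 17698903))) (.node 1 (.leaf 16939083) (.node 1 (.leaf 17594435) (.leaf 17191007))))
(.node 3 (.node 1 (.leaf 17508423) (.node 1 (.leaf 17125457) (.leaf 17070149))) (.node 1 (.leaf 17174617) (.node 1 (.leaf 17633367) (.leaf 17698907))))))))
(.node 48 (.node 24 (.node 12 (.node 6 (.node 3 (.node 1 (.leaf 17053761) (.node 1 (.leaf 17246281) (.leaf 17786945))) (.node 1 (.leaf 17061977) (.node 1 (.leaf 17444935) (.leaf 17193043))))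
(.node 3 (.node 1 (.leaf 17246299) (.node 1 (.leaf 17578059) (.leaf 17698887))) (.node 1 (.leaf 16984159) (.node 1 (.leaf 17109081) (.leaf 16922691)))))
(.node 6 (.node 3 (.node 1 (.leaf 17719375) (.node 1 (.leaf 17651787) (.leaf 17522769))) (.node 1 (.leaf 16939087) (.node 1 (.leaf 17178707) (.leaf 17506397))))
(.node 3 (.node 1 (.leaf 17702993) (.node 1 (.leaf 17635419) (.leaf 16922695))) (.node 1 (.leaf 17242179) (.node 1 (.leaf 16934995) (.leaf 17576013))))))
(.node 12 (.node 6 (.node 3 (.node 1 (.leaf 17197141) (.node 1 (.leaf 17000513) (.leaf 17053785))) (.node 1 (.leaf 17446995) (.node 1 (.leaf 17508419) (.leaf 17125461))))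
(.node 3 (.node 1 (.leaf 17633347) (.node 1 (.leaf 17244255) (.leaf 17051729))) (.node 1 (.leaf 17508433) (.node 1 (.leaf 17125447) (.leaf 16984151)))))
(.node 6 (.node 3 (.node 1 (.leaf 17594463) (.node 1 (.leaf 17715289) (.leaf 17463365))) (.node 1 (.leaf 17715275) (.node 1 (.leaf 17000541) (.leaf 17578049))))
(.node 3 (.node 1 (.leaf 17262681) (.node 1 (.leaf 17569865) (.leaf 16920663))) (.node 1 (.leaf 17176659) (.node 1 (.leaf 17061969) (.leaf 17444943)))))))
(.node 24 (.node 12 (.node 6 (.node 3 (.node 1 (.leaf 17193051) (.node 1 (.leaf 16920651) (.leaf 17786949))) (.node 1 (.leaf 17586241) (.node 1 (.leaf 16937031) (.leaf 17133633))))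
(.node 3 (.node 1 (.leaf 17641567) (.node 1 (.leaf 17043533) (.leaf 16984133))) (.node 1 (.leaf 17594445) (.node 1 (.leaf 17463383) (.leaf 17000527)))))
(.node 6 (.node 3 (.node 1 (.leaf 17578067) (.node 1 (.leaf 17262667) (.leaf 17770579))) (.node 1 (.leaf 17569883) (.node 1 (.leaf 16920645) (.leaf 17176641))))
(.node 3 (.node 1 (.leaf 17190993) (.node 1 (.leaf 16984135) (.leaf 17070155))) (.node 1 (.leaf 17770563) (.node 1 (.leaf 17594451) (.leaf 17190991))))))
(.node 12 (.node 6 (.node 3 (.node 1 (.leaf 17508439) (.node 1 (.leaf 17125441) (.leaf 17508421))) (.node 1 (.leaf 17635411) (.node 1 (.leaf 16998473) (.leaf 17174601))))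
(.node 3 (.node 1 (.leaf 16922693) (.node 1 (.leaf 17698901) (.leaf 17246279))) (.node 1 (.leaf 17649743) (.node 1 (.leaf 17526879) (.leaf 17784917)))))
(.node 6 (.node 3 (.node 1 (.leaf 17592395) (.node 1 (.leaf 17125471) (.leaf 16986185))) (.node 1 (.leaf 17260611) (.node 1 (.leaf 17784925) (.leaf 17510489))))
(.node 3 (.node 1 (.leaf 17510475) (.node 1 (.leaf 17768517) (.leaf 17109075))) (.node 1 (.leaf 16916569) (.node 1 (.leaf 17457235) (.leaf 17135689)))))))))
(.node 96 (.node 48 (.node 24 (.node 12 (.node 6 (.node 3 (.node 1 (.leaf 17700957) (.node 1 (.leaf 17768539) (.leaf 16986191))) (.node 1 (.leaf 16986205) (.node 1 (.leaf 17784915) (.leaf 17649749))))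
(.node 3 (.node 1 (.leaf 17457231) (.node 1 (.leaf 16916565) (.leaf 17659999))) (.node 1 (.leaf 17717339) (.node 1 (.leaf 17768537) (.leaf 17109071)))))
(.node 6 (.node 3 (.node 1 (.leaf 16916549) (.node 1 (.leaf 17649745) (.leaf 17715273))) (.node 1 (.leaf 17002571) (.node 1 (.leaf 17244245) (.leaf 17125459))))
(.node 3 (.node 1 (.leaf 17440857) (.node 1 (.leaf 16986199) (.leaf 17260637))) (.node 1 (.leaf 17576019) (.node 1 (.leaf 17068125) (.leaf 16934987))))))
(.node 12 (.node 6 (.node 3 (.node 1 (.leaf 17635407) (.node 1 (.leaf 17782861) (.leaf 17459269))) (.node 1 (.leaf 17651793) (.node 1 (.leaf 17258575) (.leaf 16918619))))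
(.node 3 (.node 1 (.leaf 17068117) (.node 1 (.leaf 17705053) (.leaf 17190979))) (.node 1 (.leaf 16984149) (.node 1 (.leaf 17770577) (.leaf 17191005)))))
(.node 6 (.node 3 (.node 1 (.leaf 17463369) (.node 1 (.leaf 16998491) (.leaf 17246293))) (.node 1 (.leaf 17649757) (.node 1 (.leaf 17109067) (.leaf 17784903))))
(.node 3 (.node 1 (.leaf 17592409) (.node 1 (.leaf 17125453) (.leaf 16986203))) (.node 1 (.leaf 17260625) (.node 1 (.leaf 17576031) (.leaf 17784911)))))))
(.node 24 (.node 12 (.node 6 (.node 3 (.node 1 (.leaf 17768535) (.node 1 (.leaf 17109057) (.leaf 17457217))) (.node 1 (.leaf 17135707) (.node 1 (.leaf 17715277) (.leaf 17070153))))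
(.node 3 (.node 1 (.leaf 17174613) (.node 1 (.leaf 17633371) (.leaf 17260609))) (.node 1 (.leaf 17508443) (.node 1 (.leaf 16984157) (.leaf 17715283)))))
(.node 6 (.node 3 (.node 1 (.leaf 17463375) (.node 1 (.leaf 17715265) (.leaf 17262675))) (.node 1 (.leaf 17770571) (.node 1 (.leaf 17569859) (.leaf 16920669))))
(.node 3 (.node 1 (.leaf 17176665) (.node 1 (.leaf 17578073) (.leaf 17262657))) (.node 1 (.leaf 17053777) (.node 1 (.leaf 17715293) (.leaf 17524821))))))
(.node 12 (.node 6 (.node 3 (.node 1 (.leaf 17702981) (.node 1 (.leaf 17111121) (.leaf 16982107))) (.node 1 (.leaf 17195097) (.node 1 (.leaf 17635405) (.leaf 16998487))))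
(.node 3 (.node 1 (.leaf 17111111) (.node 1 (.leaf 17463363) (.leaf 17719369))) (.node 1 (.leaf 17447005) (.node 1 (.leaf 17258569) (.leaf 17766493)))))
(.node 6 (.node 3 (.node 1 (.leaf 17180751) (.node 1 (.leaf 17715279) (.leaf 17070157))) (.node 1 (.leaf 16939079) (.node 1 (.leaf 17447003) (.leaf 17702999))))
(.node 3 (.node 1 (.leaf 17111107) (.node 1 (.leaf 16982089) (.leaf 17000537))) (.node 1 (.leaf 17578065) (.node 1 (.leaf 17262665) (.leaf 17578051))))))))
(.node 48 (.node 24 (.node 12 (.node 6 (.node 3 (.node 1 (.leaf 17698895) (.node 1 (.leaf 17109073) (.leaf 17649751))) (.node 1 (.leaf 17002561) (.node 1 (.leaf 17068101) (.leaf 17698909))))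
(.node 3 (.node 1 (.leaf 17109059) (.node 1 (.leaf 16922689) (.leaf 17586269))) (.node 1 (.leaf 17461331) (.node 1 (.leaf 17717319) (.leaf 17461343)))))
(.node 6 (.node 3 (.node 1 (.leaf 17569877) (.node 1 (.leaf 17569863) (.leaf 17444931))) (.node 1 (.leaf 17117269) (.node 1 (.leaf 17657947) (.leaf 17256517))))
(.node 3 (.node 1 (.leaf 17569885) (.node 1 (.leaf 16920643) (.leaf 17176647))) (.node 1 (.leaf 17444951) (.node 1 (.leaf 17770585) (.leaf 17045581))))))
(.node 12 (.node 6 (.node 3 (.node 1 (.leaf 17045599) (.node 1 (.leaf 17461339) (.leaf 17657933))) (.node 1 (.leaf 17246285) (.node 1 (.leaf 17117251) (.leaf 17786969))))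
(.node 3 (.node 1 (.leaf 17786955) (.node 1 (.leaf 17586255) (.leaf 17524823))) (.node 1 (.leaf 17061959) (.node 1 (.leaf 16920659) (.leaf 17262683)))))
(.node 6 (.node 3 (.node 1 (.leaf 17641557) (.node 1 (.leaf 17045585) (.leaf 16937055))) (.node 1 (.leaf 17700955) (.node 1 (.leaf 17193055) (.leaf 17135687))))
(.node 3 (.node 1 (.leaf 17176651) (.node 1 (.leaf 17659971) (.leaf 17784921))) (.node 1 (.leaf 17176661) (.node 1 (.leaf 16932959) (.leaf 16932941)))))))
(.node 24 (.node 12 (.node 6 (.node 3 (.node 1 (.leaf 17119319) (.node 1 (.leaf 17512543) (.leaf 17442881))) (.node 1 (.leaf 17061973) (.node 1 (.leaf 17444939) (.leaf 16920655))))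
(.node 3 (.node 1 (.leaf 17586245) (.node 1 (.leaf 17586263) (.leaf 16937027))) (.node 1 (.leaf 17133637) (.node 1 (.leaf 17641563) (.leaf 16982095)))))
(.node 6 (.node 3 (.node 1 (.leaf 17043529) (.node 1 (.leaf 17262661) (.leaf 17641547))) (.node 1 (.leaf 17061955) (.node 1 (.leaf 17444957) (.leaf 17193033))))
(.node 3 (.node 1 (.leaf 17045589) (.node 1 (.leaf 17045575) (.leaf 16984143))) (.node 1 (.leaf 17569887) (.node 1 (.leaf 17444955) (.leaf 17246275))))))
(.node 12 (.node 6 (.node 3 (.node 1 (.leaf 17117261) (.node 1 (.leaf 17246289) (.leaf 17586265))) (.node 1 (.leaf 17461335) (.node 1 (.leaf 17717315) (.leaf 17176663))))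
(.node 3 (.node 1 (.leaf 16916551) (.node 1 (.leaf 17135691) (.leaf 17768513))) (.node 1 (.leaf 17659985) (.node 1 (.leaf 17193037) (.leaf 17440855)))))
(.node 6 (.node 3 (.node 1 (.leaf 17440837) (.node 1 (.leaf 17176667) (.leaf 16988247))) (.node 1 (.leaf 17528923) (.node 1 (.leaf 17567825) (.leaf 16934985))))
(.node 3 (.node 1 (.leaf 17641545) (.node 1 (.leaf 17700935) (.leaf 17193027))) (.node 1 (.leaf 17768529) (.node 1 (.leaf 17524817) (.leaf 16937039))))))))))

/-- The stabiliser. -/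
def caseAFullN1ElsL : Tab ℕ := .node 384 caseAFullN1ElsLL caseAFullN1ElsLR

/-- The stabiliser. -/
def caseAFullN1ElsRL : Tab ℕ :=
(.node 192 (.node 96 (.node 48 (.node 24 (.node 12 (.node 6 (.node 3 (.node 1 (.leaf 17770583) (.node 1 (.leaf 17133641) (.leaf 17641559))) (.node 1 (.leaf 16982083) (.node 1 (.leaf 17586243) (.leaf 17461325))))
(.node 3 (.node 1 (.leaf 17717337) (.node 1 (.leaf 17508437) (.leaf 17174603))) (.node 1 (.leaf 17246297) (.node 1 (.leaf 17586257) (.leaf 17717323)))))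
(.node 6 (.node 3 (.node 1 (.leaf 16922709) (.node 1 (.leaf 16937029) (.leaf 17061983))) (.node 1 (.leaf 17586247) (.node 1 (.leaf 17133653) (.leaf 17717327))))
(.node 3 (.node 1 (.leaf 16932955) (.node 1 (.leaf 17643591) (.leaf 17444937))) (.node 1 (.leaf 17045587) (.node 1 (.leaf 16984155) (.leaf 17045569))))))
(.node 12 (.node 6 (.node 3 (.node 1 (.leaf 17461317) (.node 1 (.leaf 17657939) (.leaf 17780803))) (.node 1 (.leaf 17522761) (.node 1 (.leaf 17133635) (.leaf 17240157))))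
(.node 3 (.node 1 (.leaf 17764447) (.node 1 (.leaf 17506393) (.leaf 17117255))) (.node 1 (.leaf 17719367) (.node 1 (.leaf 17446977) (.leaf 17258581)))))
(.node 6 (.node 3 (.node 1 (.leaf 17641549) (.node 1 (.leaf 17764419) (.leaf 16982105))) (.node 1 (.leaf 17506383) (.node 1 (.leaf 17522759) (.leaf 17657929))))
(.node 3 (.node 1 (.leaf 17719379) (.node 1 (.leaf 17178697) (.leaf 17651779))) (.node 1 (.leaf 17782875) (.node 1 (.leaf 16982109) (.leaf 17657925)))))))
(.node 24 (.node 12 (.node 6 (.node 3 (.node 1 (.leaf 17461341) (.node 1 (.leaf 17657943) (.leaf 17780817))) (.node 1 (.leaf 17461327) (.node 1 (.leaf 17133639) (.leaf 17702989))))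
(.node 3 (.node 1 (.leaf 17240139) (.node 1 (.leaf 16998465) (.leaf 17059905))) (.node 1 (.leaf 17197151) (.node 1 (.leaf 17643603) (.leaf 17567827)))))
(.node 6 (.node 3 (.node 1 (.leaf 17721415) (.node 1 (.leaf 17512515) (.leaf 17256533))) (.node 1 (.leaf 17117275) (.node 1 (.leaf 17178705) (.leaf 17059917))))
(.node 3 (.node 1 (.leaf 17512529) (.node 1 (.leaf 17256519) (.leaf 17721435))) (.node 1 (.leaf 17643585) (.node 1 (.leaf 17700941) (.leaf 17440843))))))
(.node 12 (.node 6 (.node 3 (.node 1 (.leaf 16916559) (.node 1 (.leaf 17717313) (.leaf 17717331))) (.node 1 (.leaf 16932935) (.node 1 (.leaf 17643611) (.leaf 17567811))))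
(.node 3 (.node 1 (.leaf 17512517) (.node 1 (.leaf 17119313) (.leaf 17659997))) (.node 1 (.leaf 17440859) (.node 1 (.leaf 17004635) (.leaf 17180743)))))
(.node 6 (.node 3 (.node 1 (.leaf 17442889) (.node 1 (.leaf 17180757) (.leaf 17059923))) (.node 1 (.leaf 17442907) (.node 1 (.leaf 17567839) (.leaf 16988227))))
(.node 3 (.node 1 (.leaf 17240133) (.node 1 (.leaf 16998485) (.leaf 17461315))) (.node 1 (.leaf 17524815) (.node 1 (.leaf 17004623) (.leaf 17567821))))))))
(.node 48 (.node 24 (.node 12 (.node 6 (.node 3 (.node 1 (.leaf 16988241) (.node 1 (.leaf 17240151) (.leaf 16998471))) (.node 1 (.leaf 17641561) (.node 1 (.leaf 17180755) (.leaf 17584219))))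
(.node 3 (.node 1 (.leaf 17528919) (.node 1 (.leaf 17780801) (.leaf 17004625))) (.node 1 (.leaf 17180749) (.node 1 (.leaf 17059915) (.leaf 17442883)))))
(.node 6 (.node 3 (.node 1 (.leaf 17059929) (.node 1 (.leaf 16988239) (.leaf 17643595))) (.node 1 (.leaf 16932945) (.node 1 (.leaf 16988253) (.leaf 17643609))))
(.node 3 (.node 1 (.leaf 17721417) (.node 1 (.leaf 17059921) (.leaf 17512525))) (.node 1 (.leaf 17256539) (.node 1 (.leaf 17766473) (.leaf 17002583))))))
(.node 12 (.node 6 (.node 3 (.node 1 (.leaf 17442909) (.node 1 (.leaf 17576021) (.leaf 17242177))) (.node 1 (.leaf 17766495) (.node 1 (.leaf 17051717) (.leaf 17051735))))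
(.node 3 (.node 1 (.leaf 17782873) (.node 1 (.leaf 17459281) (.leaf 17651781))) (.node 1 (.leaf 17463381) (.node 1 (.leaf 17719391) (.leaf 17766481)))))
(.node 6 (.node 3 (.node 1 (.leaf 17111117) (.node 1 (.leaf 17651785) (.leaf 16939101))) (.node 1 (.leaf 17702983) (.node 1 (.leaf 17782853) (.leaf 17459277))))
(.node 3 (.node 1 (.leaf 17651801) (.node 1 (.leaf 16918611) (.leaf 17705045))) (.node 1 (.leaf 16918593) (.node 1 (.leaf 17068111) (.leaf 17705031)))))))
(.node 24 (.node 12 (.node 6 (.node 3 (.node 1 (.leaf 17592407) (.node 1 (.leaf 17442897) (.leaf 17127493))) (.node 1 (.leaf 17576011) (.node 1 (.leaf 17242207) (.leaf 16986193))))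
(.node 3 (.node 1 (.leaf 17768527) (.node 1 (.leaf 17244237) (.leaf 17649735))) (.node 1 (.leaf 17526857) (.node 1 (.leaf 17715295) (.leaf 16934993)))))
(.node 6 (.node 3 (.node 1 (.leaf 17721437) (.node 1 (.leaf 17512537) (.leaf 17256527))) (.node 1 (.leaf 17197147) (.node 1 (.leaf 17043523) (.leaf 17764425))))
(.node 3 (.node 1 (.leaf 17567809) (.node 1 (.leaf 17180767) (.leaf 17119315))) (.node 1 (.leaf 17061965) (.node 1 (.leaf 17119297) (.leaf 17567833))))))
(.node 12 (.node 6 (.node 3 (.node 1 (.leaf 16988229) (.node 1 (.leaf 17240131) (.leaf 16918621))) (.node 1 (.leaf 17592405) (.node 1 (.leaf 17782865) (.leaf 17526863))))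
(.node 3 (.node 1 (.leaf 16934997) (.node 1 (.leaf 17051725) (.leaf 17510471))) (.node 1 (.leaf 17766465) (.node 1 (.leaf 16918617) (.leaf 17111133)))))
(.node 6 (.node 3 (.node 1 (.leaf 16939085) (.node 1 (.leaf 17512541) (.leaf 17256523))) (.node 1 (.leaf 17117253) (.node 1 (.leaf 17178703) (.leaf 17512527))))
(.node 3 (.node 1 (.leaf 17256537) (.node 1 (.leaf 16988233) (.leaf 17721413))) (.node 1 (.leaf 17584195) (.node 1 (.leaf 17459291) (.leaf 17584209)))))))))
(.node 96 (.node 48 (.node 24 (.node 12 (.node 6 (.node 3 (.node 1 (.leaf 17004615) (.node 1 (.leaf 17705055) (.leaf 17700947))) (.node 1 (.leaf 16916553) (.node 1 (.leaf 17193039) (.leaf 17440853))))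
(.node 3 (.node 1 (.leaf 17061953) (.node 1 (.leaf 16916561) (.leaf 17659995))) (.node 1 (.leaf 17717343) (.node 1 (.leaf 16932953) (.leaf 17260639)))))
(.node 6 (.node 3 (.node 1 (.leaf 17174615) (.node 1 (.leaf 16988251) (.leaf 17721431))) (.node 1 (.leaf 17705037) (.node 1 (.leaf 17135697) (.leaf 17643597))))
(.node 3 (.node 1 (.leaf 17700929) (.node 1 (.leaf 16916571) (.leaf 17567819))) (.node 1 (.leaf 17119321) (.node 1 (.leaf 17522757) (.leaf 17657931))))))
(.node 12 (.node 6 (.node 3 (.node 1 (.leaf 17719377) (.node 1 (.leaf 16982099) (.leaf 17133661))) (.node 1 (.leaf 17657927) (.node 1 (.leaf 17506371) (.leaf 17506385))))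
(.node 3 (.node 1 (.leaf 17240141) (.node 1 (.leaf 17780811) (.leaf 17461333))) (.node 1 (.leaf 17641539) (.node 1 (.leaf 17240149) (.leaf 16920667)))))
(.node 6 (.node 3 (.node 1 (.leaf 17780815) (.node 1 (.leaf 17584211) (.leaf 17117259))) (.node 1 (.leaf 17256525) (.node 1 (.leaf 17651799) (.leaf 17782863))))
(.node 3 (.node 1 (.leaf 17127509) (.node 1 (.leaf 17195083) (.leaf 17578055))) (.node 1 (.leaf 17059911) (.node 1 (.leaf 17459283) (.leaf 17119307)))))))
(.node 24 (.node 12 (.node 6 (.node 3 (.node 1 (.leaf 17240145) (.node 1 (.leaf 17657945) (.leaf 17719363))) (.node 1 (.leaf 17256535) (.node 1 (.leaf 16982081) (.leaf 17133647))))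
(.node 3 (.node 1 (.leaf 17657941) (.node 1 (.leaf 17240159) (.leaf 17584215))) (.node 1 (.leaf 17197139) (.node 1 (.leaf 17043531) (.leaf 17764417)))))
(.node 6 (.node 3 (.node 1 (.leaf 17584205) (.node 1 (.leaf 17135693) (.leaf 17643601))) (.node 1 (.leaf 17045571) (.node 1 (.leaf 17135711) (.leaf 17584199))))
(.node 3 (.node 1 (.leaf 17528907) (.node 1 (.leaf 17242191) (.leaf 16986177))) (.node 1 (.leaf 17068099) (.node 1 (.leaf 17766487) (.leaf 17002569))))))
(.node 12 (.node 6 (.node 3 (.node 1 (.leaf 17242201) (.node 1 (.leaf 17459293) (.leaf 17127507))) (.node 1 (.leaf 17635399) (.node 1 (.leaf 17053781) (.leaf 17584213))))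
(.node 3 (.node 1 (.leaf 17197143) (.node 1 (.leaf 16935001) (.leaf 17242205))) (.node 1 (.leaf 16986195) (.node 1 (.leaf 17004611) (.leaf 17705039)))))
(.node 6 (.node 3 (.node 1 (.leaf 17135699) (.node 1 (.leaf 17240143) (.leaf 17780809))) (.node 1 (.leaf 16998495) (.node 1 (.leaf 17195099) (.leaf 16918623))))
(.node 3 (.node 1 (.leaf 17457229) (.node 1 (.leaf 17457221) (.leaf 17700939))) (.node 1 (.leaf 17700953) (.node 1 (.leaf 17440861) (.leaf 17244235))))))))
(.node 48 (.node 24 (.node 12 (.node 6 (.node 3 (.node 1 (.leaf 17784897) (.node 1 (.leaf 17125467) (.leaf 16916573))) (.node 1 (.leaf 17045593) (.node 1 (.leaf 17440841) (.leaf 17643587))))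
(.node 3 (.node 1 (.leaf 17176645) (.node 1 (.leaf 17784919) (.leaf 17244253))) (.node 1 (.leaf 17717333) (.node 1 (.leaf 17528905) (.leaf 17193049)))))
(.node 6 (.node 3 (.node 1 (.leaf 16916557) (.node 1 (.leaf 17135681) (.leaf 17176655))) (.node 1 (.leaf 16932933) (.node 1 (.leaf 17569857) (.leaf 17061957))))
(.node 3 (.node 1 (.leaf 17786973) (.node 1 (.leaf 17657923) (.leaf 17045579))) (.node 1 (.leaf 16937047) (.node 1 (.leaf 17447007) (.leaf 17193035))))))
(.node 12 (.node 6 (.node 3 (.node 1 (.leaf 17440849) (.node 1 (.leaf 17717321) (.leaf 16932957))) (.node 1 (.leaf 17260635) (.node 1 (.leaf 17174611) (.leaf 17193053))))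
(.node 3 (.node 1 (.leaf 17440839) (.node 1 (.leaf 17061971) (.leaf 17700933))) (.node 1 (.leaf 17440833) (.node 1 (.leaf 17119325) (.leaf 17244247)))))
(.node 6 (.node 3 (.node 1 (.leaf 17119311) (.node 1 (.leaf 17457225) (.leaf 17045577))) (.node 1 (.leaf 17262673) (.node 1 (.leaf 17786959) (.leaf 17061975))))
(.node 3 (.node 1 (.leaf 17524801) (.node 1 (.leaf 16939091) (.leaf 17768531))) (.node 1 (.leaf 17569881) (.node 1 (.leaf 17061981) (.leaf 17528911)))))))
(.node 24 (.node 12 (.node 6 (.node 3 (.node 1 (.leaf 17643593) (.node 1 (.leaf 17260627) (.leaf 17768521))) (.node 1 (.leaf 17717341) (.node 1 (.leaf 17457239) (.leaf 17512523))))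
(.node 3 (.node 1 (.leaf 17043537) (.node 1 (.leaf 17119299) (.leaf 16918603))) (.node 1 (.leaf 17260619) (.node 1 (.leaf 17586261) (.leaf 16937025)))))
(.node 6 (.node 3 (.node 1 (.leaf 17440851) (.node 1 (.leaf 16988225) (.leaf 17457243))) (.node 1 (.leaf 17784909) (.node 1 (.leaf 17526867) (.leaf 17109063))))
(.node 3 (.node 1 (.leaf 17633349) (.node 1 (.leaf 17510467) (.leaf 17244249))) (.node 1 (.leaf 17127499) (.node 1 (.leaf 16986179) (.leaf 17510485))))))
(.node 12 (.node 6 (.node 3 (.node 1 (.leaf 17526873) (.node 1 (.leaf 17592397) (.leaf 16986183))) (.node 1 (.leaf 17784923) (.node 1 (.leaf 17457223) (.leaf 17784905))))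
(.node 3 (.node 1 (.leaf 17457237) (.node 1 (.leaf 17260633) (.leaf 17576023))) (.node 1 (.leaf 17002591) (.node 1 (.leaf 17770573) (.leaf 17528901)))))
(.node 6 (.node 3 (.node 1 (.leaf 17567823) (.node 1 (.leaf 17567837) (.leaf 17180747))) (.node 1 (.leaf 17442885) (.node 1 (.leaf 17705051) (.leaf 17705033))))
(.node 3 (.node 1 (.leaf 17240155) (.node 1 (.leaf 16998475) (.leaf 17195087))) (.node 1 (.leaf 17528897) (.node 1 (.leaf 17764443) (.leaf 17512535))))))))))

/-- The stabiliser. -/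
def caseAFullN1ElsRR : Tab ℕ :=
(.node 192 (.node 96 (.node 48 (.node 24 (.node 12 (.node 6 (.node 3 (.node 1 (.leaf 17459271) (.node 1 (.leaf 17782867) (.leaf 17258571))) (.node 1 (.leaf 17782869) (.node 1 (.leaf 17766467) (.leaf 17111135))))
(.node 3 (.node 1 (.leaf 17651803) (.node 1 (.leaf 17592389) (.leaf 17043541))) (.node 1 (.leaf 17119327) (.node 1 (.leaf 17180737) (.leaf 17584201)))))
(.node 6 (.node 3 (.node 1 (.leaf 17780819) (.node 1 (.leaf 17522755) (.leaf 17719383))) (.node 1 (.leaf 17119323) (.node 1 (.leaf 17457245) (.leaf 17193031))))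
(.node 3 (.node 1 (.leaf 16916545) (.node 1 (.leaf 17260621) (.leaf 17109079))) (.node 1 (.leaf 17002585) (.node 1 (.leaf 17698911) (.leaf 17659975))))))
(.node 12 (.node 6 (.node 3 (.node 1 (.leaf 17659983) (.node 1 (.leaf 16986181) (.leaf 17174595))) (.node 1 (.leaf 17700949) (.node 1 (.leaf 17119309) (.leaf 17244231))))
(.node 3 (.node 1 (.leaf 17786965) (.node 1 (.leaf 17444953) (.leaf 16939075))) (.node 1 (.leaf 17256541) (.node 1 (.leaf 16988237) (.leaf 17721409)))))
(.node 6 (.node 3 (.node 1 (.leaf 17459295) (.node 1 (.leaf 17700951) (.leaf 17567813))) (.node 1 (.leaf 16998479) (.node 1 (.leaf 17117271) (.leaf 17657921))))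
(.node 3 (.node 1 (.leaf 17461337) (.node 1 (.leaf 16920647) (.leaf 16998493))) (.node 1 (.leaf 17528909) (.node 1 (.leaf 17780827) (.leaf 17059907)))))))
(.node 24 (.node 12 (.node 6 (.node 3 (.node 1 (.leaf 16932939) (.node 1 (.leaf 17569871) (.leaf 17197135))) (.node 1 (.leaf 17721427) (.node 1 (.leaf 17256513) (.leaf 17068103))))
(.node 3 (.node 1 (.leaf 17766483) (.node 1 (.leaf 17002573) (.leaf 17766469))) (.node 1 (.leaf 17051743) (.node 1 (.leaf 17459275) (.leaf 17111115)))))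
(.node 6 (.node 3 (.node 1 (.leaf 17719365) (.node 1 (.leaf 17576005) (.leaf 17766475))) (.node 1 (.leaf 17111127) (.node 1 (.leaf 17651795) (.leaf 17703005))))
(.node 3 (.node 1 (.leaf 17459287) (.node 1 (.leaf 17258579) (.leaf 17442891))) (.node 1 (.leaf 17127519) (.node 1 (.leaf 17526853) (.leaf 17633357))))))
(.node 12 (.node 6 (.node 3 (.node 1 (.leaf 16932951) (.node 1 (.leaf 17180763) (.leaf 17180741))) (.node 1 (.leaf 17256531) (.node 1 (.leaf 17242185) (.leaf 17459289))))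
(.node 3 (.node 1 (.leaf 17111129) (.node 1 (.leaf 17463389) (.leaf 16935005))) (.node 1 (.leaf 17584197) (.node 1 (.leaf 17705035) (.leaf 17135703)))))
(.node 6 (.node 3 (.node 1 (.leaf 17705049) (.node 1 (.leaf 17780813) (.leaf 17195103))) (.node 1 (.leaf 16988255) (.node 1 (.leaf 17240153) (.leaf 17119301))))
(.node 3 (.node 1 (.leaf 17244239) (.node 1 (.leaf 17528917) (.leaf 17717329))) (.node 1 (.leaf 16918609) (.node 1 (.leaf 17526851) (.leaf 16982085))))))))
(.node 48 (.node 24 (.node 12 (.node 6 (.node 3 (.node 1 (.leaf 17133643) (.node 1 (.leaf 16998483) (.leaf 17444947))) (.node 1 (.leaf 16998469) (.node 1 (.leaf 17195073) (.leaf 17117265))))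
(.node 3 (.node 1 (.leaf 17780831) (.node 1 (.leaf 17522773) (.leaf 16937045))) (.node 1 (.leaf 16982103) (.node 1 (.leaf 17719389) (.leaf 17463361)))))
(.node 6 (.node 3 (.node 1 (.leaf 17195085) (.node 1 (.leaf 17195091) (.leaf 17635413))) (.node 1 (.leaf 17446993) (.node 1 (.leaf 17522771) (.leaf 17117277))))
(.node 3 (.node 1 (.leaf 17256521) (.node 1 (.leaf 16982111) (.leaf 17133649))) (.node 1 (.leaf 17703003) (.node 1 (.leaf 17463373) (.leaf 17127505))))))
(.node 12 (.node 6 (.node 3 (.node 1 (.leaf 17195101) (.node 1 (.leaf 17719361) (.leaf 17178715))) (.node 1 (.leaf 17782857) (.node 1 (.leaf 17703007) (.leaf 17197133))))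
(.node 3 (.node 1 (.leaf 17506375) (.node 1 (.leaf 17635421) (.leaf 17117263))) (.node 1 (.leaf 17522763) (.node 1 (.leaf 17522777) (.leaf 17045583)))))
(.node 6 (.node 3 (.node 1 (.leaf 17786951) (.node 1 (.leaf 17444929) (.leaf 17768541))) (.node 1 (.leaf 16937041) (.node 1 (.leaf 17770569) (.leaf 17133655))))
(.node 3 (.node 1 (.leaf 17461313) (.node 1 (.leaf 17262669) (.leaf 17174599))) (.node 1 (.leaf 16922699) (.node 1 (.leaf 17135685) (.leaf 16918595)))))))
(.node 24 (.node 12 (.node 6 (.node 3 (.node 1 (.leaf 17526865) (.node 1 (.leaf 17133657) (.leaf 16920641))) (.node 1 (.leaf 17522779) (.node 1 (.leaf 17111109) (.leaf 17197129))))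
(.node 3 (.node 1 (.leaf 17043535) (.node 1 (.leaf 17764439) (.leaf 17178693))) (.node 1 (.leaf 16932929) (.node 1 (.leaf 17569861) (.leaf 17068109)))))
(.node 6 (.node 3 (.node 1 (.leaf 17766489) (.node 1 (.leaf 17002567) (.leaf 17242193))) (.node 1 (.leaf 16986207) (.node 1 (.leaf 17766479) (.leaf 17651797))))
(.node 3 (.node 1 (.leaf 17043527) (.node 1 (.leaf 16918607) (.leaf 17068127))) (.node 1 (.leaf 17002581) (.node 1 (.leaf 17643605) (.leaf 17197131))))))
(.node 12 (.node 6 (.node 3 (.node 1 (.leaf 17440835) (.node 1 (.leaf 17176669) (.leaf 17457227))) (.node 1 (.leaf 17649741) (.node 1 (.leaf 17457247) (.leaf 17700945))))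
(.node 3 (.node 1 (.leaf 17700931) (.node 1 (.leaf 17244241) (.leaf 17784907))) (.node 1 (.leaf 17770575) (.node 1 (.leaf 17700959) (.leaf 17659989)))))
(.node 6 (.node 3 (.node 1 (.leaf 17649759) (.node 1 (.leaf 17512531) (.leaf 16918599))) (.node 1 (.leaf 17068119) (.node 1 (.leaf 17043549) (.leaf 16918613))))
(.node 3 (.node 1 (.leaf 17133651) (.node 1 (.leaf 17703001) (.leaf 17586251))) (.node 1 (.leaf 17258561) (.node 1 (.leaf 17068123) (.leaf 17068105)))))))))
(.node 96 (.node 48 (.node 24 (.node 12 (.node 6 (.node 3 (.node 1 (.leaf 17242199) (.node 1 (.leaf 17442895) (.leaf 17766471))) (.node 1 (.leaf 17649737) (.node 1 (.leaf 17125463) (.leaf 17002587))))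
(.node 3 (.node 1 (.leaf 17111119) (.node 1 (.leaf 16986189) (.leaf 17592411))) (.node 1 (.leaf 17592393) (.node 1 (.leaf 17068097) (.leaf 17510493)))))
(.node 6 (.node 3 (.node 1 (.leaf 17510479) (.node 1 (.leaf 17782859) (.leaf 17576001))) (.node 1 (.leaf 17051721) (.node 1 (.leaf 17510481) (.leaf 17109065))))
(.node 3 (.node 1 (.leaf 17242189) (.node 1 (.leaf 17592391) (.leaf 17635401))) (.node 1 (.leaf 17111123) (.node 1 (.leaf 17127501) (.leaf 17444959))))))
(.node 12 (.node 6 (.node 3 (.node 1 (.leaf 17578069) (.node 1 (.leaf 16984129) (.leaf 17068113))) (.node 1 (.leaf 17258583) (.node 1 (.leaf 17127515) (.leaf 17526849))))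
(.node 3 (.node 1 (.leaf 17633353) (.node 1 (.leaf 16932947) (.leaf 17526871))) (.node 1 (.leaf 17459267) (.node 1 (.leaf 17002577) (.leaf 17070163)))))
(.node 6 (.node 3 (.node 1 (.leaf 17592387) (.node 1 (.leaf 17592401) (.leaf 17592413))) (.node 1 (.leaf 17526855) (.node 1 (.leaf 17592399) (.leaf 17526869))))
(.node 3 (.node 1 (.leaf 17258565) (.node 1 (.leaf 17635423) (.leaf 16922703))) (.node 1 (.leaf 17195077) (.node 1 (.leaf 17635397) (.leaf 17506389)))))))
(.node 24 (.node 12 (.node 6 (.node 3 (.node 1 (.leaf 17702987) (.node 1 (.leaf 17070167) (.leaf 16922717))) (.node 1 (.leaf 17463367) (.node 1 (.leaf 17053773) (.leaf 17524809))))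
(.node 3 (.node 1 (.leaf 17174621) (.node 1 (.leaf 17000533) (.leaf 17053765))) (.node 1 (.leaf 17193047) (.node 1 (.leaf 17768515) (.leaf 17109077)))))
(.node 6 (.node 3 (.node 1 (.leaf 16916575) (.node 1 (.leaf 17240137) (.leaf 17258587))) (.node 1 (.leaf 17576025) (.node 1 (.leaf 17526877) (.leaf 16934983))))
(.node 3 (.node 1 (.leaf 17260623) (.node 1 (.leaf 17195081) (.leaf 17578053))) (.node 1 (.leaf 17719381) (.node 1 (.leaf 17576003) (.leaf 17780823))))))
(.node 12 (.node 6 (.node 3 (.node 1 (.leaf 17260615) (.node 1 (.leaf 17260629) (.leaf 17109061))) (.node 1 (.leaf 17633375) (.node 1 (.leaf 17045595) (.leaf 17133645))))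
(.node 3 (.node 1 (.leaf 17715287) (.node 1 (.leaf 17174609) (.leaf 17244227))) (.node 1 (.leaf 17125449) (.node 1 (.leaf 17002563) (.leaf 17784927)))))
(.node 6 (.node 3 (.node 1 (.leaf 17524827) (.node 1 (.leaf 17446997) (.leaf 17246287))) (.node 1 (.leaf 17053771) (.node 1 (.leaf 17190989) (.leaf 17698885))))
(.node 3 (.node 1 (.leaf 17109083) (.node 1 (.leaf 17053783) (.leaf 17446983))) (.node 1 (.leaf 16922701) (.node 1 (.leaf 16922719) (.leaf 17446991))))))))
(.node 48 (.node 24 (.node 12 (.node 6 (.node 3 (.node 1 (.leaf 17246303) (.node 1 (.leaf 17698883) (.leaf 17719371))) (.node 1 (.leaf 17651791) (.node 1 (.leaf 17178711) (.leaf 17242183))))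
(.node 3 (.node 1 (.leaf 17125443) (.node 1 (.leaf 16984147) (.leaf 17594459))) (.node 1 (.leaf 17569869) (.node 1 (.leaf 17594441) (.leaf 17578071)))))
(.node 6 (.node 3 (.node 1 (.leaf 17262671) (.node 1 (.leaf 17698897) (.leaf 17784913))) (.node 1 (.leaf 17191001) (.node 1 (.leaf 17784899) (.leaf 17262679))))
(.node 3 (.node 1 (.leaf 16982093) (.node 1 (.leaf 17649747) (.leaf 17002565))) (.node 1 (.leaf 17176643) (.node 1 (.leaf 17770589) (.leaf 17524819))))))
(.node 12 (.node 6 (.node 3 (.node 1 (.leaf 17262687) (.node 1 (.leaf 16937051) (.leaf 17176657))) (.node 1 (.leaf 17461321) (.node 1 (.leaf 17174607) (.leaf 17246301))))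
(.node 3 (.node 1 (.leaf 16922705) (.node 1 (.leaf 17444941) (.leaf 17522765))) (.node 1 (.leaf 17506379) (.node 1 (.leaf 17461323) (.leaf 17702985)))))
(.node 6 (.node 3 (.node 1 (.leaf 17643607) (.node 1 (.leaf 17524831) (.leaf 17633345))) (.node 1 (.leaf 17508425) (.node 1 (.leaf 17463385) (.leaf 17246277))))
(.node 3 (.node 1 (.leaf 17053791) (.node 1 (.leaf 17246273) (.leaf 16920671))) (.node 1 (.leaf 17569867) (.node 1 (.leaf 17246295) (.leaf 17117273)))))))
(.node 24 (.node 12 (.node 6 (.node 3 (.node 1 (.leaf 17659979) (.node 1 (.leaf 17457219) (.leaf 17649729))) (.node 1 (.leaf 17070165) (.node 1 (.leaf 17635409) (.leaf 17576007))))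
(.node 3 (.node 1 (.leaf 16937033) (.node 1 (.leaf 17053787) (.leaf 17522781))) (.node 1 (.leaf 17440845) (.node 1 (.leaf 17649733) (.leaf 17526859)))))
(.node 6 (.node 3 (.node 1 (.leaf 17592415) (.node 1 (.leaf 17641543) (.leaf 16932943))) (.node 1 (.leaf 17260617) (.node 1 (.leaf 17043545) (.leaf 17522767))))
(.node 3 (.node 1 (.leaf 17051739) (.node 1 (.leaf 17195095) (.leaf 17635395))) (.node 1 (.leaf 16998489) (.node 1 (.leaf 17070161) (.leaf 17461329))))))
(.node 12 (.node 6 (.node 3 (.node 1 (.leaf 17657937) (.node 1 (.leaf 17508429) (.leaf 16922713))) (.node 1 (.leaf 17635417) (.node 1 (.leaf 17242197) (.leaf 17719385))))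
(.node 3 (.node 1 (.leaf 17127497) (.node 1 (.leaf 17522783) (.leaf 17764435))) (.node 1 (.leaf 16937037) (.node 1 (.leaf 17061961) (.leaf 17068115)))))
(.node 6 (.node 3 (.node 1 (.leaf 17764421) (.node 1 (.leaf 17260631) (.leaf 17246291))) (.node 1 (.leaf 17119303) (.node 1 (.leaf 17178689) (.leaf 17457233))))
(.node 3 (.node 1 (.leaf 17119305) (.node 1 (.leaf 17135701) (.leaf 17045597))) (.node 1 (.leaf 17786961) (.node 1 (.leaf 17657935) (.leaf 17657949))))))))))

/-- The stabiliser. -/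
def caseAFullN1ElsR : Tab ℕ := .node 384 caseAFullN1ElsRL caseAFullN1ElsRR

/-- The stabiliser. -/
def caseAFullN1Els : Tab ℕ := .node 768 caseAFullN1ElsL caseAFullN1ElsR

/-- Its index. -/
def caseAFullN1Ix : BT ℕ :=
(.node 17440833 1089
(.node 17109057 625
(.node 16998465 823
(.node 16937025 1115
(.node 16922689 679
(.node 16918609 1245
(.node 16916569 573
(.node 16916557 1068
(.node 16916551 750 (.node 16916547 372 (.node 16916545 1170 .tip .tip) (.node 16916549 588 .tip .tip)) (.node 16916555 131 (.node 16916553 963 .tip .tip) .tip))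
(.node 16916563 125 (.node 16916561 967 (.node 16916559 840 .tip .tip) .tip) (.node 16916567 282 (.node 16916565 583 .tip .tip) .tip)))
(.node 16918597 266
(.node 16916575 1404 (.node 16916573 1058 (.node 16916571 979 .tip .tip) .tip) (.node 16918595 1295 (.node 16918593 909 .tip .tip) .tip))
(.node 16918603 1112 (.node 16918601 226 (.node 16918599 1334 .tip .tip) .tip) (.node 16918607 1315 (.node 16918605 252 .tip .tip) .tip))))
(.node 16920649 66
(.node 16918621 938
(.node 16918615 264 (.node 16918613 1337 (.node 16918611 907 .tip .tip) .tip) (.node 16918619 605 (.node 16918617 946 .tip .tip) .tip))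
(.node 16920643 691 (.node 16920641 1298 (.node 16918623 1049 .tip .tip) .tip) (.node 16920647 1195 (.node 16920645 544 .tip .tip) .tip)))
(.node 16920661 72
(.node 16920655 725 (.node 16920653 322 (.node 16920651 529 .tip .tip) .tip) (.node 16920659 706 (.node 16920657 326 .tip .tip) .tip))
(.node 16920667 995 (.node 16920665 189 (.node 16920663 524 .tip .tip) .tip) (.node 16920671 1484 (.node 16920669 641 .tip .tip) .tip)))))
(.node 16932945 879
(.node 16922713 1514
(.node 16922701 1437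
(.node 16922695 500 (.node 16922693 558 (.node 16922691 491 .tip .tip) .tip) (.node 16922699 1293 (.node 16922697 443 .tip .tip) .tip))
(.node 16922707 407 (.node 16922705 1470 (.node 16922703 1388 .tip .tip) .tip) (.node 16922711 431 (.node 16922709 780 .tip .tip) .tip)))
(.node 16932933 1071
(.node 16922719 1438 (.node 16922717 1394 (.node 16922715 445 .tip .tip) .tip) (.node 16932931 135 (.node 16932929 1305 .tip .tip) .tip))
(.node 16932939 1200 (.node 16932937 278 (.node 16932935 843 .tip .tip) .tip) (.node 16932943 1502 (.node 16932941 719 .tip .tip) .tip))))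
(.node 16934985 761
(.node 16932957 1082
(.node 16932951 1224 (.node 16932949 215 (.node 16932947 1375 .tip .tip) .tip) (.node 16932955 786 (.node 16932953 970 .tip .tip) .tip))
(.node 16934979 434 (.node 16934977 243 (.node 16932959 718 .tip .tip) .tip) (.node 16934983 1409 (.node 16934981 161 .tip .tip) .tip)))
(.node 16934997 942
(.node 16934991 101 (.node 16934989 146 (.node 16934987 599 .tip .tip) .tip) (.node 16934995 502 (.node 16934993 923 .tip .tip) .tip))
(.node 16935003 17 (.node 16935001 1039 (.node 16934999 248 .tip .tip) .tip) (.node 16935007 94 (.node 16935005 1232 .tip .tip) .tip))))))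
(.node 16984129 1369
(.node 16939089 40
(.node 16937049 76
(.node 16937037 1521
(.node 16937031 532 (.node 16937029 781 (.node 16937027 728 .tip .tip) .tip) (.node 16937035 396 (.node 16937033 1494 .tip .tip) .tip))
(.node 16937043 457 (.node 16937041 1287 (.node 16937039 767 .tip .tip) .tip) (.node 16937047 1077 (.node 16937045 1256 .tip .tip) .tip)))
(.node 16939077 297
(.node 16937055 710 (.node 16937053 329 (.node 16937051 1465 .tip .tip) .tip) (.node 16939075 1184 (.node 16939073 33 .tip .tip) .tip))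
(.node 16939083 471 (.node 16939081 427 (.node 16939079 663 .tip .tip) .tip) (.node 16939087 495 (.node 16939085 948 .tip .tip) .tip))))
(.node 16982089 667
(.node 16939101 902
(.node 16939095 339 (.node 16939093 301 (.node 16939091 1099 .tip .tip) .tip) (.node 16939099 353 (.node 16939097 255 .tip .tip) .tip))
(.node 16982083 771 (.node 16982081 1012 (.node 16939103 424 .tip .tip) .tip) (.node 16982087 185 (.node 16982085 1247 .tip .tip) .tip)))
(.node 16982101 81
(.node 16982095 731 (.node 16982093 1458 (.node 16982091 454 .tip .tip) .tip) (.node 16982099 985 (.node 16982097 333 .tip .tip) .tip))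
(.node 16982107 650 (.node 16982105 806 (.node 16982103 1257 .tip .tip) .tip) (.node 16982111 1267 (.node 16982109 814 .tip .tip) .tip)))))
(.node 16986193 917
(.node 16984153 362
(.node 16984141 312
(.node 16984135 547 (.node 16984133 536 (.node 16984131 398 .tip .tip) .tip) (.node 16984139 378 (.node 16984137 56 .tip .tip) .tip))
(.node 16984147 1447 (.node 16984145 392 (.node 16984143 740 .tip .tip) .tip) (.node 16984151 515 (.node 16984149 609 .tip .tip) .tip)))
(.node 16986181 1177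
(.node 16984159 489 (.node 16984157 634 (.node 16984155 790 .tip .tip) .tip) (.node 16986179 1126 (.node 16986177 1028 .tip .tip) .tip))
(.node 16986187 140 (.node 16986185 566 (.node 16986183 1130 .tip .tip) .tip) (.node 16986191 578 (.node 16986189 1351 .tip .tip) .tip))))
(.node 16988233 955
(.node 16986205 579
(.node 16986199 595 (.node 16986197 275 (.node 16986195 1041 .tip .tip) .tip) (.node 16986203 620 (.node 16986201 369 .tip .tip) .tip))
(.node 16988227 857 (.node 16988225 1117 (.node 16986207 1311 .tip .tip) .tip) (.node 16988231 174 (.node 16988229 936 .tip .tip) .tip)))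
(.node 16988245 196
(.node 16988239 877 (.node 16988237 1186 (.node 16988235 211 .tip .tip) .tip) (.node 16988243 115 (.node 16988241 864 .tip .tip) .tip))
(.node 16988251 973 (.node 16988249 217 (.node 16988247 758 .tip .tip) .tip) (.node 16988255 1239 (.node 16988253 880 .tip .tip) .tip)))))))
(.node 17051713 234
(.node 17004609 13
(.node 17000529 375
(.node 16998489 1509
(.node 16998477 410
(.node 16998471 866 (.node 16998469 1251 (.node 16998467 199 .tip .tip) .tip) (.node 16998475 1147 (.node 16998473 556 .tip .tip) .tip))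
(.node 16998483 1249 (.node 16998481 177 (.node 16998479 1191 .tip .tip) .tip) (.node 16998487 653 (.node 16998485 859 .tip .tip) .tip)))
(.node 17000517 349
(.node 16998495 1047 (.node 16998493 1196 (.node 16998491 613 .tip .tip) .tip) (.node 17000515 61 (.node 17000513 505 .tip .tip) .tip))
(.node 17000523 387 (.node 17000521 292 (.node 17000519 317 .tip .tip) .tip) (.node 17000527 539 (.node 17000525 27 .tip .tip) .tip))))
(.node 17002569 1031
(.node 17000541 520
(.node 17000535 347 (.node 17000533 1399 (.node 17000531 336 .tip .tip) .tip) (.node 17000539 294 (.node 17000537 668 .tip .tip) .tip))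
(.node 17002563 1426 (.node 17002561 675 (.node 17000543 29 .tip .tip) .tip) (.node 17002567 1309 (.node 17002565 1460 .tip .tip) .tip)))
(.node 17002581 1317
(.node 17002575 365 (.node 17002573 1207 (.node 17002571 591 .tip .tip) .tip) (.node 17002579 229 (.node 17002577 1378 .tip .tip) .tip))
(.node 17002587 1349 (.node 17002585 1173 (.node 17002583 887 .tip .tip) .tip) (.node 17002591 1137 (.node 17002589 381 .tip .tip) .tip)))))
(.node 17043537 1110
(.node 17004633 169
(.node 17004621 155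
(.node 17004615 960 (.node 17004613 90 (.node 17004611 1042 .tip .tip) .tip) (.node 17004619 193 (.node 17004617 143 .tip .tip) .tip))
(.node 17004627 11 (.node 17004625 872 (.node 17004623 862 .tip .tip) .tip) (.node 17004631 88 (.node 17004629 206 .tip .tip) .tip)))
(.node 17043525 5
(.node 17004639 157 (.node 17004637 120 (.node 17004635 850 .tip .tip) .tip) (.node 17043523 928 (.node 17043521 0 .tip .tip) .tip))
(.node 17043531 1018 (.node 17043529 732 (.node 17043527 1314 .tip .tip) .tip) (.node 17043535 1302 (.node 17043533 535 .tip .tip) .tip))))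
(.node 17045577 1094
(.node 17043549 1336
(.node 17043543 334 (.node 17043541 1160 (.node 17043539 82 .tip .tip) .tip) (.node 17043547 87 (.node 17043545 1504 .tip .tip) .tip))
(.node 17045571 1023 (.node 17045569 791 (.node 17043551 10 .tip .tip) .tip) (.node 17045575 739 (.node 17045573 395 .tip .tip) .tip)))
(.node 17045589 738
(.node 17045583 1283 (.node 17045581 695 (.node 17045579 1076 .tip .tip) .tip) (.node 17045587 789 (.node 17045585 709 .tip .tip) .tip))
(.node 17045595 1420 (.node 17045593 1059 (.node 17045591 126 .tip .tip) .tip) (.node 17045599 696 (.node 17045597 1532 .tip .tip) .tip))))))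
(.node 17061953 966
(.node 17053777 645
(.node 17051737 244
(.node 17051725 943
(.node 17051719 95 (.node 17051717 892 (.node 17051715 18 .tip .tip) .tip) (.node 17051723 308 (.node 17051721 1359 .tip .tip) .tip))
(.node 17051731 235 (.node 17051729 512 (.node 17051727 52 .tip .tip) .tip) (.node 17051735 893 (.node 17051733 261 .tip .tip) .tip)))
(.node 17053765 1400
(.node 17051743 1209 (.node 17051741 162 (.node 17051739 1506 .tip .tip) .tip) (.node 17053763 295 (.node 17053761 480 .tip .tip) .tip))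
(.node 17053771 1431 (.node 17053769 383 (.node 17053767 30 .tip .tip) .tip) (.node 17053775 357 (.node 17053773 1396 .tip .tip) .tip))))
(.node 17059913 112
(.node 17053789 350
(.node 17053783 1435 (.node 17053781 1036 (.node 17053779 388 .tip .tip) .tip) (.node 17053787 1495 (.node 17053785 506 .tip .tip) .tip))
(.node 17059907 1199 (.node 17059905 824 (.node 17053791 1482 .tip .tip) .tip) (.node 17059911 1005 (.node 17059909 159 .tip .tip) .tip)))
(.node 17059925 221
(.node 17059919 208 (.node 17059917 833 (.node 17059915 874 .tip .tip) .tip) (.node 17059923 854 (.node 17059921 883 .tip .tip) .tip))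
(.node 17059931 15 (.node 17059929 876 (.node 17059927 166 .tip .tip) .tip) (.node 17059935 92 (.node 17059933 210 .tip .tip) .tip)))))
(.node 17068113 1370
(.node 17061977 483
(.node 17061965 933
(.node 17061959 705 (.node 17061957 1073 (.node 17061955 735 .tip .tip) .tip) (.node 17061963 152 (.node 17061961 1522 .tip .tip) .tip))
(.node 17061971 1087 (.node 17061969 526 (.node 17061967 69 .tip .tip) .tip) (.node 17061975 1097 (.node 17061973 723 .tip .tip) .tip)))
(.node 17068101 676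
(.node 17061983 782 (.node 17061981 1102 (.node 17061979 130 .tip .tip) .tip) (.node 17068099 1029 (.node 17068097 1354 .tip .tip) .tip))
(.node 17068107 267 (.node 17068105 1343 (.node 17068103 1205 .tip .tip) .tip) (.node 17068111 910 (.node 17068109 1307 .tip .tip) .tip))))
(.node 17070153 629
(.node 17068125 598
(.node 17068119 1335 (.node 17068117 606 (.node 17068115 1523 .tip .tip) .tip) (.node 17068123 1342 (.node 17068121 227 .tip .tip) .tip))
(.node 17070147 346 (.node 17070145 469 (.node 17068127 1316 .tip .tip) .tip) (.node 17070151 335 (.node 17070149 476 .tip .tip) .tip)))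
(.node 17070165 1491
(.node 17070159 399 (.node 17070157 662 (.node 17070155 548 .tip .tip) .tip) (.node 17070163 1379 (.node 17070161 1510 .tip .tip) .tip))
(.node 17070171 38 (.node 17070169 25 (.node 17070167 1393 .tip .tip) .tip) (.node 17070175 257 (.node 17070173 291 .tip .tip) .tip))))))))
(.node 17190977 31
(.node 17133633 533
(.node 17119297 934
(.node 17111121 649
(.node 17109081 490
(.node 17109069 379
(.node 17109063 1121 (.node 17109061 1418 (.node 17109059 678 .tip .tip) .tip) (.node 17109067 616 (.node 17109065 1361 .tip .tip) .tip))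
(.node 17109075 572 (.node 17109073 673 (.node 17109071 587 .tip .tip) .tip) (.node 17109079 1172 (.node 17109077 1403 .tip .tip) .tip)))
(.node 17111109 1300
(.node 17109087 363 (.node 17109085 281 (.node 17109083 1434 .tip .tip) .tip) (.node 17111107 666 (.node 17111105 453 .tip .tip) .tip))
(.node 17111115 1211 (.node 17111113 253 (.node 17111111 654 .tip .tip) .tip) (.node 17111119 1350 (.node 17111117 900 .tip .tip) .tip))))
(.node 17117257 181
(.node 17111133 947
(.node 17111127 1215 (.node 17111125 239 (.node 17111123 1365 .tip .tip) .tip) (.node 17111131 413 (.node 17111129 1230 .tip .tip) .tip))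
(.node 17117251 700 (.node 17117249 463 (.node 17111135 1157 .tip .tip) .tip) (.node 17117255 800 (.node 17117253 951 .tip .tip) .tip)))
(.node 17117269 687
(.node 17117263 1280 (.node 17117261 744 (.node 17117259 998 .tip .tip) .tip) (.node 17117267 464 (.node 17117265 1253 .tip .tip) .tip))
(.node 17117275 831 (.node 17117273 1487 (.node 17117271 1192 .tip .tip) .tip) (.node 17117279 110 (.node 17117277 1265 .tip .tip) .tip)))))
(.node 17125457 475
(.node 17119321 981
(.node 17119309 1180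
(.node 17119303 1527 (.node 17119301 1241 (.node 17119299 1111 .tip .tip) .tip) (.node 17119307 1007 (.node 17119305 1530 .tip .tip) .tip))
(.node 17119315 932 (.node 17119313 847 (.node 17119311 1092 .tip .tip) .tip) (.node 17119319 720 (.node 17119317 149 .tip .tip) .tip)))
(.node 17125445 404
(.node 17119327 1161 (.node 17119325 1090 (.node 17119323 1167 .tip .tip) .tip) (.node 17125443 1446 (.node 17125441 553 .tip .tip) .tip))
(.node 17125451 48 (.node 17125449 1425 (.node 17125447 514 .tip .tip) .tip) (.node 17125455 305 (.node 17125453 619 .tip .tip) .tip))))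
(.node 17127497 1518
(.node 17125469 311
(.node 17125463 1348 (.node 17125461 509 (.node 17125459 593 .tip .tip) .tip) (.node 17125467 1057 (.node 17125465 55 .tip .tip) .tip))
(.node 17127491 355 (.node 17127489 272 (.node 17125471 565 .tip .tip) .tip) (.node 17127495 425 (.node 17127493 914 .tip .tip) .tip)))
(.node 17127509 1002
(.node 17127503 441 (.node 17127501 1366 (.node 17127499 1125 .tip .tip) .tip) (.node 17127507 1034 (.node 17127505 1271 .tip .tip) .tip))
(.node 17127515 1372 (.node 17127513 35 (.node 17127511 449 .tip .tip) .tip) (.node 17127519 1221 (.node 17127517 299 .tip .tip) .tip))))))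
(.node 17176641 545
(.node 17135697 976
(.node 17133657 1297
(.node 17133645 1421
(.node 17133639 820 (.node 17133637 729 (.node 17133635 796 .tip .tip) .tip) (.node 17133643 1248 (.node 17133641 769 .tip .tip) .tip))
(.node 17133651 1338 (.node 17133649 1268 (.node 17133647 1013 .tip .tip) .tip) (.node 17133655 1289 (.node 17133653 784 .tip .tip) .tip)))
(.node 17135685 1294
(.node 17133663 78 (.node 17133661 986 (.node 17133659 331 .tip .tip) .tip) (.node 17135683 213 (.node 17135681 1069 .tip .tip) .tip))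
(.node 17135691 751 (.node 17135689 575 (.node 17135687 713 .tip .tip) .tip) (.node 17135695 194 (.node 17135693 1021 .tip .tip) .tip))))
(.node 17174601 557
(.node 17135709 171
(.node 17135703 1235 (.node 17135701 1531 (.node 17135699 1044 .tip .tip) .tip) (.node 17135707 627 (.node 17135705 122 .tip .tip) .tip))
(.node 17174595 1178 (.node 17174593 41 (.node 17135711 1024 .tip .tip) .tip) (.node 17174599 1292 (.node 17174597 26 .tip .tip) .tip)))
(.node 17174613 630
(.node 17174607 1468 (.node 17174605 141 (.node 17174603 776 .tip .tip) .tip) (.node 17174611 1084 (.node 17174609 1423 .tip .tip) .tip))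
(.node 17174619 21 (.node 17174617 477 (.node 17174615 972 .tip .tip) .tip) (.node 17174623 1 (.node 17174621 1398 .tip .tip) .tip)))))
(.node 17178705 832
(.node 17176665 642
(.node 17176653 67
(.node 17176647 692 (.node 17176645 1062 (.node 17176643 1461 .tip .tip) .tip) (.node 17176651 714 (.node 17176649 323 .tip .tip) .tip))
(.node 17176659 525 (.node 17176657 1466 (.node 17176655 1070 .tip .tip) .tip) (.node 17176663 749 (.node 17176661 717 .tip .tip) .tip)))
(.node 17178693 1304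
(.node 17176671 214 (.node 17176669 1321 (.node 17176667 757 .tip .tip) .tip) (.node 17178691 182 (.node 17178689 1528 .tip .tip) .tip))
(.node 17178699 440 (.node 17178697 811 (.node 17178695 354 .tip .tip) .tip) (.node 17178703 952 (.node 17178701 416 .tip .tip) .tip))))
(.node 17180745 207
(.node 17178717 34
(.node 17178711 1444 (.node 17178709 111 (.node 17178707 496 .tip .tip) .tip) (.node 17178715 1274 (.node 17178713 298 .tip .tip) .tip))
(.node 17180739 158 (.node 17180737 1162 (.node 17178719 415 .tip .tip) .tip) (.node 17180743 851 (.node 17180741 1226 .tip .tip) .tip)))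
(.node 17180757 853
(.node 17180751 660 (.node 17180749 873 (.node 17180747 1142 .tip .tip) .tip) (.node 17180755 868 (.node 17180753 165 .tip .tip) .tip))
(.node 17180763 1225 (.node 17180761 91 (.node 17180759 202 .tip .tip) .tip) (.node 17180767 931 (.node 17180765 14 .tip .tip) .tip)))))))
(.node 17244225 51
(.node 17197121 99
(.node 17193041 345
(.node 17191001 1455
(.node 17190989 1432
(.node 17190983 391 (.node 17190981 46 (.node 17190979 608 .tip .tip) .tip) (.node 17190987 402 (.node 17190985 358 .tip .tip) .tip))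
(.node 17190995 309 (.node 17190993 546 (.node 17190991 551 .tip .tip) .tip) (.node 17190999 53 (.node 17190997 389 .tip .tip) .tip)))
(.node 17193029 71
(.node 17191007 473 (.node 17191005 611 (.node 17191003 351 .tip .tip) .tip) (.node 17193027 764 (.node 17193025 325 .tip .tip) .tip))
(.node 17193035 1079 (.node 17193033 737 (.node 17193031 1169 .tip .tip) .tip) (.node 17193039 964 (.node 17193037 754 .tip .tip) .tip))))
(.node 17195081 1411
(.node 17193053 1085
(.node 17193047 1401 (.node 17193045 128 (.node 17193043 485 .tip .tip) .tip) (.node 17193051 528 (.node 17193049 1067 .tip .tip) .tip))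
(.node 17195075 408 (.node 17195073 1252 (.node 17193055 712 .tip .tip) .tip) (.node 17195079 201 (.node 17195077 1389 .tip .tip) .tip)))
(.node 17195093 179
(.node 17195087 1148 (.node 17195085 1260 (.node 17195083 1003 .tip .tip) .tip) (.node 17195091 1261 (.node 17195089 446 .tip .tip) .tip))
(.node 17195099 1048 (.node 17195097 651 (.node 17195095 1507 .tip .tip) .tip) (.node 17195103 1238 (.node 17195101 1272 .tip .tip) .tip)))))
(.node 17240145 1008
(.node 17197145 154
(.node 17197133 1277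
(.node 17197127 9 (.node 17197125 436 (.node 17197123 86 .tip .tip) .tip) (.node 17197131 1319 (.node 17197129 1301 .tip .tip) .tip))
(.node 17197139 1017 (.node 17197137 218 (.node 17197135 1202 .tip .tip) .tip) (.node 17197143 1038 (.node 17197141 504 .tip .tip) .tip)))
(.node 17240133 858
(.node 17197151 825 (.node 17197149 142 (.node 17197147 927 .tip .tip) .tip) (.node 17240131 937 (.node 17240129 175 .tip .tip) .tip))
(.node 17240139 822 (.node 17240137 1405 (.node 17240135 460 .tip .tip) .tip) (.node 17240143 1045 (.node 17240141 990 .tip .tip) .tip))))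
(.node 17242185 1228
(.node 17240157 797
(.node 17240151 865 (.node 17240149 994 (.node 17240147 197 .tip .tip) .tip) (.node 17240155 1146 (.node 17240153 1240 .tip .tip) .tip))
(.node 17242179 501 (.node 17242177 890 (.node 17240159 1015 .tip .tip) .tip) (.node 17242183 1445 (.node 17242181 232 .tip .tip) .tip)))
(.node 17242197 1516
(.node 17242191 1027 (.node 17242189 1362 (.node 17242187 420 .tip .tip) .tip) (.node 17242195 432 (.node 17242193 1310 .tip .tip) .tip))
(.node 17242203 274 (.node 17242201 1032 (.node 17242199 1344 .tip .tip) .tip) (.node 17242207 916 (.node 17242205 1040 .tip .tip) .tip))))))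
(.node 17258561 1341
(.node 17246289 745
(.node 17244249 1124
(.node 17244237 919
(.node 17244231 1181 (.node 17244229 307 (.node 17244227 1424 .tip .tip) .tip) (.node 17244235 1055 (.node 17244233 286 .tip .tip) .tip))
(.node 17244243 367 (.node 17244241 1327 (.node 17244239 1242 .tip .tip) .tip) (.node 17244247 1091 (.node 17244245 592 .tip .tip) .tip)))
(.node 17246277 1481
(.node 17244255 511 (.node 17244253 1064 (.node 17244251 285 .tip .tip) .tip) (.node 17246275 743 (.node 17246273 1483 .tip .tip) .tip))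
(.node 17246283 342 (.node 17246281 481 (.node 17246279 560 .tip .tip) .tip) (.node 17246287 1430 (.node 17246285 699 .tip .tip) .tip))))
(.node 17256521 1266
(.node 17246301 1469
(.node 17246295 1486 (.node 17246293 614 (.node 17246291 1526 .tip .tip) .tip) (.node 17246299 486 (.node 17246297 777 .tip .tip) .tip))
(.node 17256515 114 (.node 17256513 1204 (.node 17246303 1440 .tip .tip) .tip) (.node 17256519 835 (.node 17256517 689 .tip .tip) .tip)))
(.node 17256533 830
(.node 17256527 926 (.node 17256525 999 (.node 17256523 950 .tip .tip) .tip) (.node 17256531 1227 (.node 17256529 107 .tip .tip) .tip))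
(.node 17256539 885 (.node 17256537 954 (.node 17256535 1011 .tip .tip) .tip) (.node 17256543 223 (.node 17256541 1185 .tip .tip) .tip)))))
(.node 17260625 621
(.node 17258585 163
(.node 17258573 270
(.node 17258567 19 (.node 17258565 1386 (.node 17258563 96 .tip .tip) .tip) (.node 17258571 1154 (.node 17258569 658 .tip .tip) .tip))
(.node 17258579 1219 (.node 17258577 262 (.node 17258575 604 .tip .tip) .tip) (.node 17258583 1371 (.node 17258581 803 .tip .tip) .tip)))
(.node 17260613 137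
(.node 17258591 451 (.node 17258589 245 (.node 17258587 1406 .tip .tip) .tip) (.node 17260611 567 (.node 17260609 632 .tip .tip) .tip))
(.node 17260619 1113 (.node 17260617 1503 (.node 17260615 1416 .tip .tip) .tip) (.node 17260623 1410 (.node 17260621 1171 .tip .tip) .tip))))
(.node 17262665 670
(.node 17260637 596
(.node 17260631 1525 (.node 17260629 1417 (.node 17260627 1105 .tip .tip) .tip) (.node 17260635 1083 (.node 17260633 1135 .tip .tip) .tip))
(.node 17262659 319 (.node 17262657 644 (.node 17260639 971 .tip .tip) .tip) (.node 17262663 63 (.node 17262661 733 .tip .tip) .tip)))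
(.node 17262677 376
(.node 17262671 1452 (.node 17262669 1291 (.node 17262667 541 .tip .tip) .tip) (.node 17262675 638 (.node 17262673 1095 .tip .tip) .tip))
(.node 17262683 707 (.node 17262681 522 (.node 17262679 1457 .tip .tip) .tip) (.node 17262687 1464 (.node 17262685 394 .tip .tip) .tip)))))))))
(.node 17633345 1478
(.node 17522753 455
(.node 17461313 1290
(.node 17446977 802
(.node 17442897 913
(.node 17440857 594
(.node 17440845 1497
(.node 17440839 1086 (.node 17440837 756 (.node 17440835 1320 .tip .tip) .tip) (.node 17440843 839 (.node 17440841 1060 .tip .tip) .tip))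
(.node 17440851 1116 (.node 17440849 1080 (.node 17440847 129 .tip .tip) .tip) (.node 17440855 755 (.node 17440853 965 .tip .tip) .tip)))
(.node 17442885 1143
(.node 17440863 151 (.node 17440861 1054 (.node 17440859 849 .tip .tip) .tip) (.node 17442883 875 (.node 17442881 722 .tip .tip) .tip))
(.node 17442891 1220 (.node 17442889 852 (.node 17442887 209 .tip .tip) .tip) (.node 17442895 1345 (.node 17442893 160 .tip .tip) .tip))))
(.node 17444937 788
(.node 17442909 888
(.node 17442903 93 (.node 17442901 271 (.node 17442899 16 .tip .tip) .tip) (.node 17442907 855 (.node 17442905 230 .tip .tip) .tip))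
(.node 17444931 686 (.node 17444929 1285 (.node 17442911 167 .tip .tip) .tip) (.node 17444935 484 (.node 17444933 344 .tip .tip) .tip)))
(.node 17444949 324
(.node 17444943 527 (.node 17444941 1471 (.node 17444939 724 .tip .tip) .tip) (.node 17444947 1250 (.node 17444945 70 .tip .tip) .tip))
(.node 17444955 742 (.node 17444953 1183 (.node 17444951 693 .tip .tip) .tip) (.node 17444959 1367 (.node 17444957 736 .tip .tip) .tip)))))
(.node 17457233 1529
(.node 17447001 390
(.node 17446989 32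
(.node 17446983 1436 (.node 17446981 359 (.node 17446979 411 .tip .tip) .tip) (.node 17446987 450 (.node 17446985 296 .tip .tip) .tip))
(.node 17446995 507 (.node 17446993 1263 (.node 17446991 1439 .tip .tip) .tip) (.node 17446999 352 (.node 17446997 1429 .tip .tip) .tip)))
(.node 17457221 1051
(.node 17447007 1078 (.node 17447005 657 (.node 17447003 664 .tip .tip) .tip) (.node 17457219 1489 (.node 17457217 626 .tip .tip) .tip))
(.node 17457227 1322 (.node 17457225 1093 (.node 17457223 1132 .tip .tip) .tip) (.node 17457231 582 (.node 17457229 1050 .tip .tip) .tip))))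
(.node 17459273 259
(.node 17457245 1168
(.node 17457239 1108 (.node 17457237 1134 (.node 17457235 574 .tip .tip) .tip) (.node 17457243 1118 (.node 17457241 371 .tip .tip) .tip))
(.node 17459267 1377 (.node 17459265 118 (.node 17457247 1324 .tip .tip) .tip) (.node 17459271 1152 (.node 17459269 602 .tip .tip) .tip)))
(.node 17459285 237
(.node 17459279 421 (.node 17459277 905 (.node 17459275 1210 .tip .tip) .tip) (.node 17459283 1006 (.node 17459281 895 .tip .tip) .tip))
(.node 17459291 958 (.node 17459289 1229 (.node 17459287 1218 .tip .tip) .tip) (.node 17459295 1188 (.node 17459293 1033 .tip .tip) .tip))))))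
(.node 17508417 405
(.node 17463377 240
(.node 17461337 1194
(.node 17461325 773
(.node 17461319 188 (.node 17461317 792 (.node 17461315 860 .tip .tip) .tip) (.node 17461323 1474 (.node 17461321 1467 .tip .tip) .tip))
(.node 17461331 681 (.node 17461329 1511 (.node 17461327 819 .tip .tip) .tip) (.node 17461335 747 (.node 17461333 992 .tip .tip) .tip)))
(.node 17463365 518
(.node 17461343 683 (.node 17461341 816 (.node 17461339 697 .tip .tip) .tip) (.node 17463363 655 (.node 17463361 1259 .tip .tip) .tip))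
(.node 17463371 418 (.node 17463369 612 (.node 17463367 1395 .tip .tip) .tip) (.node 17463375 636 (.node 17463373 1270 .tip .tip) .tip))))
(.node 17506377 356
(.node 17463389 1231
(.node 17463383 538 (.node 17463381 897 (.node 17463379 438 .tip .tip) .tip) (.node 17463387 59 (.node 17463385 1480 .tip .tip) .tip))
(.node 17506371 988 (.node 17506369 109 (.node 17463391 315 .tip .tip) .tip) (.node 17506375 1278 (.node 17506373 442 .tip .tip) .tip)))
(.node 17506389 1391
(.node 17506383 807 (.node 17506381 426 (.node 17506379 1473 .tip .tip) .tip) (.node 17506387 36 (.node 17506385 989 .tip .tip) .tip))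
(.node 17506395 458 (.node 17506393 799 (.node 17506391 180 .tip .tip) .tip) (.node 17506399 462 (.node 17506397 497 .tip .tip) .tip)))))
(.node 17510481 1360
(.node 17508441 304
(.node 17508429 1513
(.node 17508423 474 (.node 17508421 554 (.node 17508419 508 .tip .tip) .tip) (.node 17508427 310 (.node 17508425 1479 .tip .tip) .tip))
(.node 17508435 403 (.node 17508433 513 (.node 17508431 54 .tip .tip) .tip) (.node 17508439 552 (.node 17508437 775 .tip .tip) .tip)))
(.node 17510469 279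
(.node 17508447 341 (.node 17508445 47 (.node 17508443 633 .tip .tip) .tip) (.node 17510467 1123 (.node 17510465 284 .tip .tip) .tip))
(.node 17510475 570 (.node 17510473 20 (.node 17510471 944 .tip .tip) .tip) (.node 17510479 1356 (.node 17510477 97 .tip .tip) .tip))))
(.node 17512521 222
(.node 17510493 1355
(.node 17510487 164 (.node 17510485 1127 (.node 17510483 246 .tip .tip) .tip) (.node 17510491 50 (.node 17510489 569 .tip .tip) .tip))
(.node 17512515 829 (.node 17512513 148 (.node 17510495 263 .tip .tip) .tip) (.node 17512519 106 (.node 17512517 846 .tip .tip) .tip)))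
(.node 17512533 113
(.node 17512527 953 (.node 17512525 884 (.node 17512523 1109 .tip .tip) .tip) (.node 17512531 1333 (.node 17512529 834 .tip .tip) .tip))
(.node 17512539 224 (.node 17512537 925 (.node 17512535 1151 .tip .tip) .tip) (.node 17512543 721 (.node 17512541 949 .tip .tip) .tip)))))))
(.node 17576001 1358
(.node 17528897 1149
(.node 17524817 766
(.node 17522777 1282
(.node 17522765 1472
(.node 17522759 808 (.node 17522757 982 (.node 17522755 1165 .tip .tip) .tip) (.node 17522763 1281 (.node 17522761 795 .tip .tip) .tip))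
(.node 17522771 1264 (.node 17522769 494 (.node 17522767 1505 .tip .tip) .tip) (.node 17522775 466 (.node 17522773 1255 .tip .tip) .tip)))
(.node 17524805 337
(.node 17522783 1519 (.node 17522781 1496 (.node 17522779 1299 .tip .tip) .tip) (.node 17524803 37 (.node 17524801 1098 .tip .tip) .tip))
(.node 17524811 191 (.node 17524809 1397 (.node 17524807 42 .tip .tip) .tip) (.node 17524815 861 (.node 17524813 385 .tip .tip) .tip))))
(.node 17526857 921
(.node 17524829 22
(.node 17524823 704 (.node 17524821 647 (.node 17524819 1463 .tip .tip) .tip) (.node 17524827 1428 (.node 17524825 2 .tip .tip) .tip))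
(.node 17526851 1246 (.node 17526849 1373 (.node 17524831 1477 .tip .tip) .tip) (.node 17526855 1383 (.node 17526853 1222 .tip .tip) .tip)))
(.node 17526869 1385
(.node 17526863 941 (.node 17526861 288 (.node 17526859 1499 .tip .tip) .tip) (.node 17526867 1120 (.node 17526865 1296 .tip .tip) .tip))
(.node 17526875 276 (.node 17526873 1128 (.node 17526871 1376 .tip .tip) .tip) (.node 17526879 562 (.node 17526877 1408 .tip .tip) .tip)))))
(.node 17567825 760
(.node 17528921 102
(.node 17528909 1197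
(.node 17528903 83 (.node 17528901 1139 (.node 17528899 6 .tip .tip) .tip) (.node 17528907 1026 (.node 17528905 1066 .tip .tip) .tip))
(.node 17528915 204 (.node 17528913 374 (.node 17528911 1103 .tip .tip) .tip) (.node 17528919 870 (.node 17528917 1243 .tip .tip) .tip)))
(.node 17567813 1190
(.node 17528927 144 (.node 17528925 98 (.node 17528923 759 .tip .tip) .tip) (.node 17567811 845 (.node 17567809 930 .tip .tip) .tip))
(.node 17567819 980 (.node 17567817 195 (.node 17567815 147 .tip .tip) .tip) (.node 17567823 1140 (.node 17567821 863 .tip .tip) .tip))))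
(.node 17569865 523
(.node 17567837 1141
(.node 17567831 100 (.node 17567829 145 (.node 17567827 827 .tip .tip) .tip) (.node 17567835 173 (.node 17567833 935 .tip .tip) .tip))
(.node 17569859 640 (.node 17569857 1072 (.node 17567839 856 .tip .tip) .tip) (.node 17569863 685 (.node 17569861 1306 .tip .tip) .tip)))
(.node 17569877 684
(.node 17569871 1201 (.node 17569869 1449 (.node 17569867 1485 .tip .tip) .tip) (.node 17569875 321 (.node 17569873 216 .tip .tip) .tip))
(.node 17569883 543 (.node 17569881 1101 (.node 17569879 65 .tip .tip) .tip) (.node 17569887 741 (.node 17569885 690 .tip .tip) .tip))))))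
(.node 17586241 531
(.node 17578065 669
(.node 17576025 1407
(.node 17576013 503
(.node 17576007 1493 (.node 17576005 1213 (.node 17576003 1414 .tip .tip) .tip) (.node 17576011 915 (.node 17576009 249 .tip .tip) .tip))
(.node 17576019 597 (.node 17576017 231 (.node 17576015 273 .tip .tip) .tip) (.node 17576023 1136 (.node 17576021 889 .tip .tip) .tip)))
(.node 17578053 1412
(.node 17576031 622 (.node 17576029 435 (.node 17576027 250 .tip .tip) .tip) (.node 17578051 671 (.node 17578049 521 .tip .tip) .tip))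
(.node 17578059 487 (.node 17578057 406 (.node 17578055 1004 .tip .tip) .tip) (.node 17578063 444 (.node 17578061 360 .tip .tip) .tip))))
(.node 17584201 1163
(.node 17578077 447
(.node 17578071 1451 (.node 17578069 1368 (.node 17578067 540 .tip .tip) .tip) (.node 17578075 318 (.node 17578073 643 .tip .tip) .tip))
(.node 17584195 957 (.node 17584193 467 (.node 17578079 62 .tip .tip) .tip) (.node 17584199 1025 (.node 17584197 1233 .tip .tip) .tip)))
(.node 17584213 1037
(.node 17584207 168 (.node 17584205 1020 (.node 17584203 119 .tip .tip) .tip) (.node 17584211 997 (.node 17584209 959 .tip .tip) .tip))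
(.node 17584219 869 (.node 17584217 117 (.node 17584215 1016 .tip .tip) .tip) (.node 17584223 203 (.node 17584221 192 .tip .tip) .tip)))))
(.node 17592401 1381
(.node 17586265 746
(.node 17586253 75
(.node 17586247 783 (.node 17586245 726 (.node 17586243 772 .tip .tip) .tip) (.node 17586251 1340 (.node 17586249 328 .tip .tip) .tip))
(.node 17586259 190 (.node 17586257 778 (.node 17586255 703 .tip .tip) .tip) (.node 17586263 727 (.node 17586261 1114 .tip .tip) .tip)))
(.node 17592389 1159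
(.node 17586271 74 (.node 17586269 680 (.node 17586267 327 .tip .tip) .tip) (.node 17592387 1380 (.node 17592385 422 .tip .tip) .tip))
(.node 17592395 564 (.node 17592393 1353 (.node 17592391 1363 .tip .tip) .tip) (.node 17592399 1384 (.node 17592397 1129 .tip .tip) .tip))))
(.node 17594441 1450
(.node 17592413 1382
(.node 17592407 912 (.node 17592405 939 (.node 17592403 269 .tip .tip) .tip) (.node 17592411 1352 (.node 17592409 618 .tip .tip) .tip))
(.node 17594435 472 (.node 17594433 57 (.node 17592415 1500 .tip .tip) .tip) (.node 17594439 242 (.node 17594437 313 .tip .tip) .tip)))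
(.node 17594453 3
(.node 17594447 302 (.node 17594445 537 (.node 17594443 43 .tip .tip) .tip) (.node 17594451 550 (.node 17594449 23 .tip .tip) .tip))
(.node 17594459 1448 (.node 17594457 45 (.node 17594455 401 .tip .tip) .tip) (.node 17594463 516 (.node 17594461 303 .tip .tip) .tip))))))))
(.node 17715265 637
(.node 17657921 1193
(.node 17643585 837
(.node 17635409 1492
(.node 17633369 306
(.node 17633357 1223
(.node 17633351 283 (.node 17633349 1122 (.node 17633347 510 .tip .tip) .tip) (.node 17633355 28 (.node 17633353 1374 .tip .tip) .tip))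
(.node 17633363 277 (.node 17633361 348 (.node 17633359 293 .tip .tip) .tip) (.node 17633367 478 (.node 17633365 139 .tip .tip) .tip)))
(.node 17635397 1390
(.node 17633375 1419 (.node 17633373 49 (.node 17633371 631 .tip .tip) .tip) (.node 17635395 1508 (.node 17635393 414 .tip .tip) .tip))
(.node 17635403 430 (.node 17635401 1364 (.node 17635399 1035 .tip .tip) .tip) (.node 17635407 600 (.node 17635405 652 .tip .tip) .tip))))
(.node 17641545 762
(.node 17635421 1279
(.node 17635415 409 (.node 17635413 1262 (.node 17635411 555 .tip .tip) .tip) (.node 17635419 499 (.node 17635417 1515 .tip .tip) .tip))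
(.node 17641539 993 (.node 17641537 79 (.node 17635423 1387 .tip .tip) .tip) (.node 17641543 1501 (.node 17641541 332 .tip .tip) .tip)))
(.node 17641557 708
(.node 17641551 178 (.node 17641549 804 (.node 17641547 734 .tip .tip) .tip) (.node 17641555 183 (.node 17641553 459 .tip .tip) .tip))
(.node 17641563 730 (.node 17641561 867 (.node 17641559 770 .tip .tip) .tip) (.node 17641567 534 (.node 17641565 200 .tip .tip) .tip)))))
(.node 17649745 589
(.node 17643609 881
(.node 17643597 977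
(.node 17643591 787 (.node 17643589 123 (.node 17643587 1061 .tip .tip) .tip) (.node 17643595 878 (.node 17643593 1104 .tip .tip) .tip))
(.node 17643603 826 (.node 17643601 1022 (.node 17643599 212 .tip .tip) .tip) (.node 17643607 1476 (.node 17643605 1318 .tip .tip) .tip)))
(.node 17649733 1498
(.node 17643615 136 (.node 17643613 219 (.node 17643611 844 .tip .tip) .tip) (.node 17649731 287 (.node 17649729 1490 .tip .tip) .tip))
(.node 17649739 380 (.node 17649737 1347 (.node 17649735 920 .tip .tip) .tip) (.node 17649743 561 (.node 17649741 1323 .tip .tip) .tip))))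
(.node 17651785 901
(.node 17649757 615
(.node 17649751 674 (.node 17649749 581 (.node 17649747 1459 .tip .tip) .tip) (.node 17649755 386 (.node 17649753 364 .tip .tip) .tip))
(.node 17651779 812 (.node 17651777 238 (.node 17649759 1332 .tip .tip) .tip) (.node 17651783 417 (.node 17651781 896 .tip .tip) .tip)))
(.node 17651797 1313
(.node 17651791 1443 (.node 17651789 254 (.node 17651787 493 .tip .tip) .tip) (.node 17651795 1216 (.node 17651793 603 .tip .tip) .tip))
(.node 17651803 1158 (.node 17651801 906 (.node 17651799 1000 .tip .tip) .tip) (.node 17651807 437 (.node 17651805 260 .tip .tip) .tip))))))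
(.node 17700929 978
(.node 17659985 753
(.node 17657945 1009
(.node 17657933 698
(.node 17657927 987 (.node 17657925 815 (.node 17657923 1075 .tip .tip) .tip) (.node 17657931 983 (.node 17657929 809 .tip .tip) .tip))
(.node 17657939 793 (.node 17657937 1512 (.node 17657935 1534 .tip .tip) .tip) (.node 17657943 817 (.node 17657941 1014 .tip .tip) .tip)))
(.node 17659973 468
(.node 17657951 186 (.node 17657949 1535 (.node 17657947 688 .tip .tip) .tip) (.node 17659971 715 (.node 17659969 132 .tip .tip) .tip))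
(.node 17659979 1488 (.node 17659977 127 (.node 17659975 1175 .tip .tip) .tip) (.node 17659983 1176 (.node 17659981 104 .tip .tip) .tip))))
(.node 17698889 300
(.node 17659997 848
(.node 17659991 8 (.node 17659989 1331 (.node 17659987 85 .tip .tip) .tip) (.node 17659995 968 (.node 17659993 150 .tip .tip) .tip))
(.node 17698883 1441 (.node 17698881 361 (.node 17659999 584 .tip .tip) .tip) (.node 17698887 488 (.node 17698885 1433 .tip .tip) .tip)))
(.node 17698901 559
(.node 17698895 672 (.node 17698893 39 (.node 17698891 338 .tip .tip) .tip) (.node 17698899 377 (.node 17698897 1453 .tip .tip) .tip))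
(.node 17698907 479 (.node 17698905 340 (.node 17698903 470 .tip .tip) .tip) (.node 17698911 1174 (.node 17698909 677 .tip .tip) .tip)))))
(.node 17702993 498
(.node 17700953 1053
(.node 17700941 838
(.node 17700935 763 (.node 17700933 1088 (.node 17700931 1326 .tip .tip) .tip) (.node 17700939 1052 (.node 17700937 124 .tip .tip) .tip))
(.node 17700947 962 (.node 17700945 1325 (.node 17700943 397 .tip .tip) .tip) (.node 17700951 1189 (.node 17700949 1179 .tip .tip) .tip)))
(.node 17702981 648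
(.node 17700959 1330 (.node 17700957 576 (.node 17700955 711 .tip .tip) .tip) (.node 17702979 256 (.node 17702977 429 .tip .tip) .tip))
(.node 17702987 1392 (.node 17702985 1475 (.node 17702983 903 .tip .tip) .tip) (.node 17702991 412 (.node 17702989 821 .tip .tip) .tip))))
(.node 17705033 1145
(.node 17703005 1217
(.node 17702999 665 (.node 17702997 452 (.node 17702995 428 .tip .tip) .tip) (.node 17703003 1269 (.node 17703001 1339 .tip .tip) .tip))
(.node 17705027 268 (.node 17705025 170 (.node 17703007 1276 .tip .tip) .tip) (.node 17705031 911 (.node 17705029 121 .tip .tip) .tip)))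
(.node 17705045 908
(.node 17705039 1043 (.node 17705037 975 (.node 17705035 1234 .tip .tip) .tip) (.node 17705043 172 (.node 17705041 265 .tip .tip) .tip))
(.node 17705051 1144 (.node 17705049 1236 (.node 17705047 225 .tip .tip) .tip) (.node 17705055 961 (.node 17705053 607 .tip .tip) .tip)))))))
(.node 17768513 752
(.node 17721409 1187
(.node 17717329 1244
(.node 17715289 517
(.node 17715277 628
(.node 17715271 58 (.node 17715269 384 (.node 17715267 314 .tip .tip) .tip) (.node 17715275 519 (.node 17715273 590 .tip .tip) .tip))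
(.node 17715283 635 (.node 17715281 316 (.node 17715279 661 .tip .tip) .tip) (.node 17715287 1422 (.node 17715285 60 .tip .tip) .tip)))
(.node 17717317 133
(.node 17715295 922 (.node 17715293 646 (.node 17715291 289 .tip .tip) .tip) (.node 17717315 748 (.node 17717313 841 .tip .tip) .tip))
(.node 17717323 779 (.node 17717321 1081 (.node 17717319 682 .tip .tip) .tip) (.node 17717327 785 (.node 17717325 373 .tip .tip) .tip))))
(.node 17719369 656
(.node 17717341 1107
(.node 17717335 134 (.node 17717333 1065 (.node 17717331 842 .tip .tip) .tip) (.node 17717339 585 (.node 17717337 774 .tip .tip) .tip))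
(.node 17719363 1010 (.node 17719361 1273 (.node 17717343 969 .tip .tip) .tip) (.node 17719367 801 (.node 17719365 1212 .tip .tip) .tip)))
(.node 17719381 1413
(.node 17719375 492 (.node 17719373 448 (.node 17719371 1442 .tip .tip) .tip) (.node 17719379 810 (.node 17719377 984 .tip .tip) .tip))
(.node 17719387 241 (.node 17719385 1517 (.node 17719383 1166 .tip .tip) .tip) (.node 17719391 898 (.node 17719389 1258 .tip .tip) .tip)))))
(.node 17764433 89
(.node 17721433 423
(.node 17721421 220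
(.node 17721415 828 (.node 17721413 956 (.node 17721411 105 .tip .tip) .tip) (.node 17721419 7 (.node 17721417 882 .tip .tip) .tip))
(.node 17721427 1203 (.node 17721425 103 (.node 17721423 84 .tip .tip) .tip) (.node 17721431 974 (.node 17721429 153 .tip .tip) .tip)))
(.node 17764421 1524
(.node 17721439 116 (.node 17721437 924 (.node 17721435 836 .tip .tip) .tip) (.node 17764419 805 (.node 17764417 1019 .tip .tip) .tip))
(.node 17764427 156 (.node 17764425 929 (.node 17764423 108 .tip .tip) .tip) (.node 17764431 80 (.node 17764429 456 .tip .tip) .tip))))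
(.node 17766473 886
(.node 17764445 184
(.node 17764439 1303 (.node 17764437 12 (.node 17764435 1520 .tip .tip) .tip) (.node 17764443 1150 (.node 17764441 461 .tip .tip) .tip))
(.node 17766467 1156 (.node 17766465 945 (.node 17764447 798 .tip .tip) .tip) (.node 17766471 1346 (.node 17766469 1208 .tip .tip) .tip)))
(.node 17766485 251
(.node 17766479 1312 (.node 17766477 228 (.node 17766475 1214 .tip .tip) .tip) (.node 17766483 1206 (.node 17766481 899 .tip .tip) .tip))
(.node 17766491 233 (.node 17766489 1308 (.node 17766487 1030 .tip .tip) .tip) (.node 17766495 891 (.node 17766493 659 .tip .tip) .tip))))))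
(.node 17782849 258
(.node 17770577 610
(.node 17768537 586
(.node 17768525 368
(.node 17768519 382 (.node 17768517 571 (.node 17768515 1402 .tip .tip) .tip) (.node 17768523 280 (.node 17768521 1106 .tip .tip) .tip))
(.node 17768531 1100 (.node 17768529 765 (.node 17768527 918 .tip .tip) .tip) (.node 17768535 624 (.node 17768533 366 .tip .tip) .tip)))
(.node 17770565 330
(.node 17768543 138 (.node 17768541 1286 (.node 17768539 577 .tip .tip) .tip) (.node 17770563 549 (.node 17770561 77 .tip .tip) .tip))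
(.node 17770571 639 (.node 17770569 1288 (.node 17770567 400 .tip .tip) .tip) (.node 17770575 1329 (.node 17770573 1138 .tip .tip) .tip))))
(.node 17780809 1046
(.node 17770589 1462
(.node 17770583 768 (.node 17770581 393 (.node 17770579 542 .tip .tip) .tip) (.node 17770587 320 (.node 17770585 694 .tip .tip) .tip))
(.node 17780803 794 (.node 17780801 871 (.node 17770591 64 .tip .tip) .tip) (.node 17780807 176 (.node 17780805 205 .tip .tip) .tip)))
(.node 17780821 198
(.node 17780815 996 (.node 17780813 1237 (.node 17780811 991 .tip .tip) .tip) (.node 17780819 1164 (.node 17780817 818 .tip .tip) .tip))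
(.node 17780827 1198 (.node 17780825 187 (.node 17780823 1415 .tip .tip) .tip) (.node 17780831 1254 (.node 17780829 465 .tip .tip) .tip)))))
(.node 17784913 1454
(.node 17782873 894
(.node 17782861 601
(.node 17782855 439 (.node 17782853 904 (.node 17782851 247 .tip .tip) .tip) (.node 17782859 1357 (.node 17782857 1275 .tip .tip) .tip))
(.node 17782867 1153 (.node 17782865 940 (.node 17782863 1001 .tip .tip) .tip) (.node 17782871 433 (.node 17782869 1155 .tip .tip) .tip)))
(.node 17784901 370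
(.node 17782879 419 (.node 17782877 236 (.node 17782875 813 .tip .tip) .tip) (.node 17784899 1456 (.node 17784897 1056 .tip .tip) .tip))
(.node 17784907 1328 (.node 17784905 1133 (.node 17784903 617 .tip .tip) .tip) (.node 17784911 623 (.node 17784909 1119 .tip .tip) .tip))))
(.node 17786953 24
(.node 17784925 568
(.node 17784919 1063 (.node 17784917 563 (.node 17784915 580 .tip .tip) .tip) (.node 17784923 1131 (.node 17784921 716 .tip .tip) .tip))
(.node 17786947 343 (.node 17786945 482 (.node 17784927 1427 .tip .tip) .tip) (.node 17786951 1284 (.node 17786949 530 .tip .tip) .tip)))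
(.node 17786965 1182
(.node 17786959 1096 (.node 17786957 4 (.node 17786955 702 .tip .tip) .tip) (.node 17786963 44 (.node 17786961 1533 .tip .tip) .tip))
(.node 17786971 73 (.node 17786969 701 (.node 17786967 68 .tip .tip) .tip) (.node 17786975 290 (.node 17786973 1074 .tip .tip) .tip))))))))))

/-- The reasons. -/
def caseAFullN1HowLL : Tab (ℕ × ℕ) :=
(.node 192 (.node 96 (.node 48 (.node 24 (.node 12 (.node 6 (.node 3 (.node 1 (.leaf (0, 0)) (.node 1 (.leaf (21, 0)) (.leaf (22, 0)))) (.node 1 (.leaf (23, 0)) (.node 1 (.leaf (24, 0)) (.leaf (21, 1)))))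
(.node 3 (.node 1 (.leaf (22, 1)) (.node 1 (.leaf (23, 1)) (.leaf (24, 1)))) (.node 1 (.leaf (21, 2)) (.node 1 (.leaf (22, 2)) (.leaf (23, 2))))))
(.node 6 (.node 3 (.node 1 (.leaf (24, 2)) (.node 1 (.leaf (21, 3)) (.leaf (22, 3)))) (.node 1 (.leaf (23, 3)) (.node 1 (.leaf (24, 3)) (.leaf (21, 4)))))
(.node 3 (.node 1 (.leaf (22, 4)) (.node 1 (.leaf (23, 4)) (.leaf (24, 4)))) (.node 1 (.leaf (21, 5)) (.node 1 (.leaf (22, 5)) (.leaf (23, 5)))))))
(.node 12 (.node 6 (.node 3 (.node 1 (.leaf (24, 5)) (.node 1 (.leaf (21, 6)) (.leaf (22, 6)))) (.node 1 (.leaf (23, 6)) (.node 1 (.leaf (24, 6)) (.leaf (21, 7)))))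
(.node 3 (.node 1 (.leaf (22, 7)) (.node 1 (.leaf (23, 7)) (.leaf (24, 7)))) (.node 1 (.leaf (21, 8)) (.node 1 (.leaf (22, 8)) (.leaf (23, 8))))))
(.node 6 (.node 3 (.node 1 (.leaf (24, 8)) (.node 1 (.leaf (21, 9)) (.leaf (22, 9)))) (.node 1 (.leaf (23, 9)) (.node 1 (.leaf (24, 9)) (.leaf (21, 10)))))
(.node 3 (.node 1 (.leaf (22, 10)) (.node 1 (.leaf (23, 10)) (.leaf (24, 10)))) (.node 1 (.leaf (21, 11)) (.node 1 (.leaf (22, 11)) (.leaf (23, 11))))))))
(.node 24 (.node 12 (.node 6 (.node 3 (.node 1 (.leaf (24, 11)) (.node 1 (.leaf (21, 12)) (.leaf (22, 12)))) (.node 1 (.leaf (23, 12)) (.node 1 (.leaf (24, 12)) (.leaf (22, 13)))))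
(.node 3 (.node 1 (.leaf (23, 13)) (.node 1 (.leaf (24, 13)) (.leaf (21, 14)))) (.node 1 (.leaf (22, 14)) (.node 1 (.leaf (23, 14)) (.leaf (24, 14))))))
(.node 6 (.node 3 (.node 1 (.leaf (21, 15)) (.node 1 (.leaf (22, 15)) (.leaf (23, 15)))) (.node 1 (.leaf (24, 15)) (.node 1 (.leaf (21, 16)) (.leaf (22, 16)))))
(.node 3 (.node 1 (.leaf (23, 16)) (.node 1 (.leaf (24, 16)) (.leaf (21, 17)))) (.node 1 (.leaf (22, 17)) (.node 1 (.leaf (23, 17)) (.leaf (24, 17)))))))
(.node 12 (.node 6 (.node 3 (.node 1 (.leaf (21, 18)) (.node 1 (.leaf (22, 18)) (.leaf (23, 18)))) (.node 1 (.leaf (21, 19)) (.node 1 (.leaf (22, 19)) (.leaf (23, 19)))))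
(.node 3 (.node 1 (.leaf (24, 19)) (.node 1 (.leaf (21, 20)) (.leaf (22, 20)))) (.node 1 (.leaf (23, 20)) (.node 1 (.leaf (24, 20)) (.leaf (22, 21))))))
(.node 6 (.node 3 (.node 1 (.leaf (23, 21)) (.node 1 (.leaf (24, 21)) (.leaf (21, 22)))) (.node 1 (.leaf (22, 22)) (.node 1 (.leaf (23, 22)) (.leaf (24, 22)))))
(.node 3 (.node 1 (.leaf (21, 23)) (.node 1 (.leaf (22, 23)) (.leaf (23, 23)))) (.node 1 (.leaf (24, 23)) (.node 1 (.leaf (21, 24)) (.leaf (22, 24)))))))))
(.node 48 (.node 24 (.node 12 (.node 6 (.node 3 (.node 1 (.leaf (23, 24)) (.node 1 (.leaf (24, 24)) (.leaf (21, 25)))) (.node 1 (.leaf (22, 25)) (.node 1 (.leaf (23, 25)) (.leaf (24, 25)))))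
(.node 3 (.node 1 (.leaf (22, 26)) (.node 1 (.leaf (23, 26)) (.leaf (24, 26)))) (.node 1 (.leaf (21, 27)) (.node 1 (.leaf (23, 27)) (.leaf (24, 27))))))
(.node 6 (.node 3 (.node 1 (.leaf (21, 28)) (.node 1 (.leaf (22, 28)) (.leaf (23, 28)))) (.node 1 (.leaf (24, 28)) (.node 1 (.leaf (22, 29)) (.leaf (23, 29)))))
(.node 3 (.node 1 (.leaf (24, 29)) (.node 1 (.leaf (21, 30)) (.leaf (22, 30)))) (.node 1 (.leaf (23, 30)) (.node 1 (.leaf (24, 30)) (.leaf (21, 31)))))))
(.node 12 (.node 6 (.node 3 (.node 1 (.leaf (22, 31)) (.node 1 (.leaf (23, 31)) (.leaf (24, 31)))) (.node 1 (.leaf (21, 32)) (.node 1 (.leaf (22, 32)) (.leaf (23, 32)))))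
(.node 3 (.node 1 (.leaf (24, 32)) (.node 1 (.leaf (21, 33)) (.leaf (22, 33)))) (.node 1 (.leaf (23, 33)) (.node 1 (.leaf (24, 33)) (.leaf (21, 34))))))
(.node 6 (.node 3 (.node 1 (.leaf (22, 34)) (.node 1 (.leaf (23, 34)) (.leaf (21, 35)))) (.node 1 (.leaf (22, 35)) (.node 1 (.leaf (23, 35)) (.leaf (24, 35)))))
(.node 3 (.node 1 (.leaf (21, 36)) (.node 1 (.leaf (22, 36)) (.leaf (23, 36)))) (.node 1 (.leaf (24, 36)) (.node 1 (.leaf (21, 37)) (.leaf (23, 37))))))))
(.node 24 (.node 12 (.node 6 (.node 3 (.node 1 (.leaf (21, 38)) (.node 1 (.leaf (23, 38)) (.leaf (24, 38)))) (.node 1 (.leaf (21, 39)) (.node 1 (.leaf (22, 39)) (.leaf (24, 39)))))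
(.node 3 (.node 1 (.leaf (21, 40)) (.node 1 (.leaf (23, 40)) (.leaf (24, 40)))) (.node 1 (.leaf (23, 41)) (.node 1 (.leaf (21, 42)) (.leaf (23, 42))))))
(.node 6 (.node 3 (.node 1 (.leaf (24, 42)) (.node 1 (.leaf (21, 43)) (.leaf (22, 43)))) (.node 1 (.leaf (23, 43)) (.node 1 (.leaf (24, 43)) (.leaf (21, 44)))))
(.node 3 (.node 1 (.leaf (22, 44)) (.node 1 (.leaf (23, 44)) (.leaf (24, 44)))) (.node 1 (.leaf (22, 45)) (.node 1 (.leaf (23, 45)) (.leaf (24, 45)))))))
(.node 12 (.node 6 (.node 3 (.node 1 (.leaf (21, 46)) (.node 1 (.leaf (22, 46)) (.leaf (23, 46)))) (.node 1 (.leaf (24, 46)) (.node 1 (.leaf (21, 47)) (.leaf (22, 47)))))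
(.node 3 (.node 1 (.leaf (23, 47)) (.node 1 (.leaf (24, 47)) (.leaf (21, 48)))) (.node 1 (.leaf (22, 48)) (.node 1 (.leaf (23, 48)) (.leaf (24, 48))))))
(.node 6 (.node 3 (.node 1 (.leaf (22, 49)) (.node 1 (.leaf (23, 49)) (.leaf (24, 49)))) (.node 1 (.leaf (21, 50)) (.node 1 (.leaf (22, 50)) (.leaf (23, 50)))))
(.node 3 (.node 1 (.leaf (22, 51)) (.node 1 (.leaf (23, 51)) (.leaf (24, 51)))) (.node 1 (.leaf (21, 52)) (.node 1 (.leaf (23, 52)) (.leaf (24, 52))))))))))
(.node 96 (.node 48 (.node 24 (.node 12 (.node 6 (.node 3 (.node 1 (.leaf (21, 53)) (.node 1 (.leaf (22, 53)) (.leaf (24, 53)))) (.node 1 (.leaf (22, 54)) (.node 1 (.leaf (23, 54)) (.leaf (24, 54)))))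
(.node 3 (.node 1 (.leaf (21, 55)) (.node 1 (.leaf (22, 55)) (.leaf (23, 55)))) (.node 1 (.leaf (24, 55)) (.node 1 (.leaf (21, 56)) (.leaf (22, 56))))))
(.node 6 (.node 3 (.node 1 (.leaf (23, 56)) (.node 1 (.leaf (24, 56)) (.leaf (21, 57)))) (.node 1 (.leaf (22, 57)) (.node 1 (.leaf (23, 57)) (.leaf (24, 57)))))
(.node 3 (.node 1 (.leaf (21, 58)) (.node 1 (.leaf (22, 58)) (.leaf (24, 58)))) (.node 1 (.leaf (21, 59)) (.node 1 (.leaf (22, 59)) (.leaf (23, 59)))))))
(.node 12 (.node 6 (.node 3 (.node 1 (.leaf (24, 59)) (.node 1 (.leaf (22, 60)) (.leaf (23, 60)))) (.node 1 (.leaf (24, 60)) (.node 1 (.leaf (21, 61)) (.leaf (22, 61)))))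
(.node 3 (.node 1 (.leaf (23, 61)) (.node 1 (.leaf (24, 61)) (.leaf (21, 62)))) (.node 1 (.leaf (22, 62)) (.node 1 (.leaf (24, 62)) (.leaf (22, 63))))))
(.node 6 (.node 3 (.node 1 (.leaf (23, 63)) (.node 1 (.leaf (24, 63)) (.leaf (21, 64)))) (.node 1 (.leaf (22, 64)) (.node 1 (.leaf (23, 64)) (.leaf (21, 65)))))
(.node 3 (.node 1 (.leaf (23, 65)) (.node 1 (.leaf (21, 66)) (.leaf (22, 66)))) (.node 1 (.leaf (23, 66)) (.node 1 (.leaf (24, 66)) (.leaf (21, 67))))))))
(.node 24 (.node 12 (.node 6 (.node 3 (.node 1 (.leaf (22, 67)) (.node 1 (.leaf (23, 67)) (.leaf (24, 67)))) (.node 1 (.leaf (21, 68)) (.node 1 (.leaf (22, 68)) (.leaf (23, 68)))))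
(.node 3 (.node 1 (.leaf (24, 68)) (.node 1 (.leaf (21, 69)) (.leaf (22, 69)))) (.node 1 (.leaf (23, 69)) (.node 1 (.leaf (21, 70)) (.leaf (22, 70))))))
(.node 6 (.node 3 (.node 1 (.leaf (23, 70)) (.node 1 (.leaf (24, 70)) (.leaf (21, 71)))) (.node 1 (.leaf (22, 71)) (.node 1 (.leaf (23, 71)) (.leaf (24, 71)))))
(.node 3 (.node 1 (.leaf (22, 72)) (.node 1 (.leaf (23, 72)) (.leaf (24, 72)))) (.node 1 (.leaf (22, 73)) (.node 1 (.leaf (23, 73)) (.leaf (24, 73)))))))
(.node 12 (.node 6 (.node 3 (.node 1 (.leaf (22, 74)) (.node 1 (.leaf (24, 74)) (.leaf (22, 75)))) (.node 1 (.leaf (23, 75)) (.node 1 (.leaf (24, 75)) (.leaf (21, 76)))))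
(.node 3 (.node 1 (.leaf (22, 76)) (.node 1 (.leaf (23, 76)) (.leaf (24, 76)))) (.node 1 (.leaf (22, 77)) (.node 1 (.leaf (23, 77)) (.leaf (24, 77))))))
(.node 6 (.node 3 (.node 1 (.leaf (21, 78)) (.node 1 (.leaf (23, 78)) (.leaf (24, 78)))) (.node 1 (.leaf (21, 79)) (.node 1 (.leaf (22, 79)) (.leaf (23, 79)))))
(.node 3 (.node 1 (.leaf (24, 79)) (.node 1 (.leaf (21, 80)) (.leaf (22, 80)))) (.node 1 (.leaf (23, 80)) (.node 1 (.leaf (21, 81)) (.leaf (22, 81)))))))))
(.node 48 (.node 24 (.node 12 (.node 6 (.node 3 (.node 1 (.leaf (23, 81)) (.node 1 (.leaf (24, 81)) (.leaf (24, 82)))) (.node 1 (.leaf (21, 83)) (.node 1 (.leaf (23, 83)) (.leaf (24, 83)))))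
(.node 3 (.node 1 (.leaf (21, 84)) (.node 1 (.leaf (22, 84)) (.leaf (24, 84)))) (.node 1 (.leaf (21, 85)) (.node 1 (.leaf (22, 85)) (.leaf (23, 85))))))
(.node 6 (.node 3 (.node 1 (.leaf (23, 86)) (.node 1 (.leaf (24, 86)) (.leaf (23, 87)))) (.node 1 (.leaf (21, 88)) (.node 1 (.leaf (23, 88)) (.leaf (24, 88)))))
(.node 3 (.node 1 (.leaf (21, 89)) (.node 1 (.leaf (23, 89)) (.leaf (24, 89)))) (.node 1 (.leaf (22, 90)) (.node 1 (.leaf (23, 90)) (.leaf (24, 90)))))))
(.node 12 (.node 6 (.node 3 (.node 1 (.leaf (21, 91)) (.node 1 (.leaf (22, 91)) (.leaf (23, 91)))) (.node 1 (.leaf (24, 91)) (.node 1 (.leaf (21, 92)) (.leaf (22, 92)))))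
(.node 3 (.node 1 (.leaf (23, 92)) (.node 1 (.leaf (24, 92)) (.leaf (21, 93)))) (.node 1 (.leaf (22, 93)) (.node 1 (.leaf (23, 93)) (.leaf (24, 93))))))
(.node 6 (.node 3 (.node 1 (.leaf (23, 94)) (.node 1 (.leaf (24, 94)) (.leaf (21, 95)))) (.node 1 (.leaf (23, 95)) (.node 1 (.leaf (21, 96)) (.leaf (22, 96)))))
(.node 3 (.node 1 (.leaf (23, 96)) (.node 1 (.leaf (24, 96)) (.leaf (21, 97)))) (.node 1 (.leaf (23, 97)) (.node 1 (.leaf (24, 97)) (.leaf (21, 98))))))))
(.node 24 (.node 12 (.node 6 (.node 3 (.node 1 (.leaf (23, 98)) (.node 1 (.leaf (21, 99)) (.leaf (23, 99)))) (.node 1 (.leaf (24, 99)) (.node 1 (.leaf (21, 100)) (.leaf (22, 100)))))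
(.node 3 (.node 1 (.leaf (24, 100)) (.node 1 (.leaf (21, 101)) (.leaf (23, 101)))) (.node 1 (.leaf (24, 101)) (.node 1 (.leaf (21, 102)) (.leaf (23, 102))))))
(.node 6 (.node 3 (.node 1 (.leaf (24, 102)) (.node 1 (.leaf (21, 103)) (.leaf (22, 103)))) (.node 1 (.leaf (23, 103)) (.node 1 (.leaf (24, 103)) (.leaf (21, 104)))))
(.node 3 (.node 1 (.leaf (22, 104)) (.node 1 (.leaf (23, 104)) (.leaf (24, 104)))) (.node 1 (.leaf (22, 105)) (.node 1 (.leaf (23, 105)) (.leaf (24, 105)))))))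
(.node 12 (.node 6 (.node 3 (.node 1 (.leaf (21, 106)) (.node 1 (.leaf (22, 106)) (.leaf (23, 106)))) (.node 1 (.leaf (24, 106)) (.node 1 (.leaf (21, 107)) (.leaf (22, 107)))))
(.node 3 (.node 1 (.leaf (23, 107)) (.node 1 (.leaf (23, 108)) (.leaf (21, 109)))) (.node 1 (.leaf (23, 109)) (.node 1 (.leaf (22, 110)) (.leaf (24, 110))))))
(.node 6 (.node 3 (.node 1 (.leaf (21, 111)) (.node 1 (.leaf (23, 111)) (.leaf (24, 111)))) (.node 1 (.leaf (22, 112)) (.node 1 (.leaf (24, 112)) (.leaf (22, 113)))))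
(.node 3 (.node 1 (.leaf (23, 113)) (.node 1 (.leaf (24, 113)) (.leaf (21, 114)))) (.node 1 (.leaf (22, 114)) (.node 1 (.leaf (23, 114)) (.leaf (21, 115)))))))))))

/-- The reasons. -/
def caseAFullN1HowLR : Tab (ℕ × ℕ) :=
(.node 192 (.node 96 (.node 48 (.node 24 (.node 12 (.node 6 (.node 3 (.node 1 (.leaf (22, 115)) (.node 1 (.leaf (23, 115)) (.leaf (24, 115)))) (.node 1 (.leaf (21, 116)) (.node 1 (.leaf (22, 116)) (.leaf (23, 116)))))
(.node 3 (.node 1 (.leaf (24, 116)) (.node 1 (.leaf (21, 117)) (.leaf (22, 117)))) (.node 1 (.leaf (24, 117)) (.node 1 (.leaf (21, 118)) (.leaf (22, 118))))))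
(.node 6 (.node 3 (.node 1 (.leaf (23, 118)) (.node 1 (.leaf (24, 118)) (.leaf (22, 119)))) (.node 1 (.leaf (23, 119)) (.node 1 (.leaf (24, 119)) (.leaf (21, 120)))))
(.node 3 (.node 1 (.leaf (22, 120)) (.node 1 (.leaf (23, 120)) (.leaf (24, 120)))) (.node 1 (.leaf (21, 121)) (.node 1 (.leaf (22, 121)) (.leaf (24, 121)))))))
(.node 12 (.node 6 (.node 3 (.node 1 (.leaf (22, 122)) (.node 1 (.leaf (23, 122)) (.leaf (24, 122)))) (.node 1 (.leaf (21, 123)) (.node 1 (.leaf (22, 123)) (.leaf (23, 123)))))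
(.node 3 (.node 1 (.leaf (21, 124)) (.node 1 (.leaf (23, 124)) (.leaf (21, 125)))) (.node 1 (.leaf (22, 125)) (.node 1 (.leaf (23, 125)) (.leaf (24, 125))))))
(.node 6 (.node 3 (.node 1 (.leaf (21, 126)) (.node 1 (.leaf (22, 126)) (.leaf (23, 126)))) (.node 1 (.leaf (24, 126)) (.node 1 (.leaf (21, 127)) (.leaf (23, 127)))))
(.node 3 (.node 1 (.leaf (24, 127)) (.node 1 (.leaf (22, 128)) (.leaf (23, 128)))) (.node 1 (.leaf (21, 129)) (.node 1 (.leaf (22, 129)) (.leaf (23, 129))))))))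
(.node 24 (.node 12 (.node 6 (.node 3 (.node 1 (.leaf (24, 129)) (.node 1 (.leaf (21, 130)) (.leaf (22, 130)))) (.node 1 (.leaf (23, 130)) (.node 1 (.leaf (24, 130)) (.leaf (22, 131)))))
(.node 3 (.node 1 (.leaf (23, 131)) (.node 1 (.leaf (24, 131)) (.leaf (22, 132)))) (.node 1 (.leaf (23, 132)) (.node 1 (.leaf (24, 132)) (.leaf (22, 133))))))
(.node 6 (.node 3 (.node 1 (.leaf (24, 133)) (.node 1 (.leaf (22, 134)) (.leaf (23, 134)))) (.node 1 (.leaf (24, 134)) (.node 1 (.leaf (21, 135)) (.leaf (22, 135)))))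
(.node 3 (.node 1 (.leaf (23, 135)) (.node 1 (.leaf (24, 135)) (.leaf (22, 136)))) (.node 1 (.leaf (23, 136)) (.node 1 (.leaf (24, 136)) (.leaf (21, 137)))))))
(.node 12 (.node 6 (.node 3 (.node 1 (.leaf (23, 137)) (.node 1 (.leaf (24, 137)) (.leaf (21, 138)))) (.node 1 (.leaf (22, 138)) (.node 1 (.leaf (23, 138)) (.leaf (21, 139)))))
(.node 3 (.node 1 (.leaf (22, 139)) (.node 1 (.leaf (23, 139)) (.leaf (21, 140)))) (.node 1 (.leaf (22, 140)) (.node 1 (.leaf (23, 140)) (.leaf (24, 140))))))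
(.node 6 (.node 3 (.node 1 (.leaf (24, 141)) (.node 1 (.leaf (22, 142)) (.leaf (23, 142)))) (.node 1 (.leaf (24, 142)) (.node 1 (.leaf (21, 143)) (.leaf (22, 143)))))
(.node 3 (.node 1 (.leaf (23, 143)) (.node 1 (.leaf (24, 143)) (.leaf (21, 144)))) (.node 1 (.leaf (22, 144)) (.node 1 (.leaf (24, 144)) (.leaf (21, 145)))))))))
(.node 48 (.node 24 (.node 12 (.node 6 (.node 3 (.node 1 (.leaf (23, 145)) (.node 1 (.leaf (24, 145)) (.leaf (21, 146)))) (.node 1 (.leaf (22, 146)) (.node 1 (.leaf (23, 146)) (.leaf (24, 146)))))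
(.node 3 (.node 1 (.leaf (24, 147)) (.node 1 (.leaf (21, 148)) (.leaf (22, 148)))) (.node 1 (.leaf (23, 148)) (.node 1 (.leaf (24, 148)) (.leaf (21, 149))))))
(.node 6 (.node 3 (.node 1 (.leaf (22, 149)) (.node 1 (.leaf (23, 149)) (.leaf (24, 149)))) (.node 1 (.leaf (21, 150)) (.node 1 (.leaf (22, 150)) (.leaf (24, 150)))))
(.node 3 (.node 1 (.leaf (21, 151)) (.node 1 (.leaf (22, 151)) (.leaf (23, 151)))) (.node 1 (.leaf (24, 151)) (.node 1 (.leaf (22, 152)) (.leaf (23, 152)))))))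
(.node 12 (.node 6 (.node 3 (.node 1 (.leaf (24, 152)) (.node 1 (.leaf (21, 153)) (.leaf (22, 153)))) (.node 1 (.leaf (24, 153)) (.node 1 (.leaf (23, 155)) (.leaf (24, 155)))))
(.node 3 (.node 1 (.leaf (21, 156)) (.node 1 (.leaf (23, 156)) (.leaf (24, 156)))) (.node 1 (.leaf (23, 157)) (.node 1 (.leaf (24, 157)) (.leaf (21, 158))))))
(.node 6 (.node 3 (.node 1 (.leaf (22, 158)) (.node 1 (.leaf (23, 158)) (.leaf (24, 158)))) (.node 1 (.leaf (21, 159)) (.node 1 (.leaf (22, 159)) (.leaf (23, 159)))))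
(.node 3 (.node 1 (.leaf (24, 159)) (.node 1 (.leaf (22, 160)) (.leaf (23, 160)))) (.node 1 (.leaf (24, 160)) (.node 1 (.leaf (22, 161)) (.leaf (23, 161))))))))
(.node 24 (.node 12 (.node 6 (.node 3 (.node 1 (.leaf (24, 161)) (.node 1 (.leaf (21, 162)) (.leaf (22, 162)))) (.node 1 (.leaf (23, 162)) (.node 1 (.leaf (22, 163)) (.leaf (24, 163)))))
(.node 3 (.node 1 (.leaf (21, 164)) (.node 1 (.leaf (24, 164)) (.leaf (21, 165)))) (.node 1 (.leaf (22, 165)) (.node 1 (.leaf (24, 165)) (.leaf (22, 166))))))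
(.node 6 (.node 3 (.node 1 (.leaf (23, 166)) (.node 1 (.leaf (24, 166)) (.leaf (21, 167)))) (.node 1 (.leaf (22, 167)) (.node 1 (.leaf (23, 167)) (.leaf (24, 167)))))
(.node 3 (.node 1 (.leaf (21, 168)) (.node 1 (.leaf (22, 168)) (.leaf (23, 168)))) (.node 1 (.leaf (24, 168)) (.node 1 (.leaf (21, 169)) (.leaf (22, 169)))))))
(.node 12 (.node 6 (.node 3 (.node 1 (.leaf (23, 169)) (.node 1 (.leaf (24, 169)) (.leaf (21, 170)))) (.node 1 (.leaf (23, 171)) (.node 1 (.leaf (24, 171)) (.leaf (23, 172)))))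
(.node 3 (.node 1 (.leaf (24, 172)) (.node 1 (.leaf (21, 173)) (.leaf (24, 173)))) (.node 1 (.leaf (24, 174)) (.node 1 (.leaf (22, 175)) (.leaf (23, 175))))))
(.node 6 (.node 3 (.node 1 (.leaf (24, 175)) (.node 1 (.leaf (21, 176)) (.leaf (22, 176)))) (.node 1 (.leaf (23, 176)) (.node 1 (.leaf (21, 177)) (.leaf (23, 177)))))
(.node 3 (.node 1 (.leaf (21, 178)) (.node 1 (.leaf (22, 178)) (.leaf (23, 178)))) (.node 1 (.leaf (24, 178)) (.node 1 (.leaf (21, 179)) (.leaf (22, 179))))))))))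
(.node 96 (.node 48 (.node 24 (.node 12 (.node 6 (.node 3 (.node 1 (.leaf (23, 179)) (.node 1 (.leaf (21, 180)) (.leaf (23, 180)))) (.node 1 (.leaf (21, 181)) (.node 1 (.leaf (22, 181)) (.leaf (23, 181)))))
(.node 3 (.node 1 (.leaf (24, 181)) (.node 1 (.leaf (21, 182)) (.leaf (22, 182)))) (.node 1 (.leaf (23, 182)) (.node 1 (.leaf (22, 183)) (.leaf (23, 183))))))
(.node 6 (.node 3 (.node 1 (.leaf (24, 183)) (.node 1 (.leaf (22, 185)) (.leaf (24, 185)))) (.node 1 (.leaf (21, 186)) (.node 1 (.leaf (22, 186)) (.leaf (23, 186)))))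
(.node 3 (.node 1 (.leaf (24, 186)) (.node 1 (.leaf (22, 187)) (.leaf (23, 187)))) (.node 1 (.leaf (24, 187)) (.node 1 (.leaf (21, 188)) (.leaf (23, 188)))))))
(.node 12 (.node 6 (.node 3 (.node 1 (.leaf (24, 188)) (.node 1 (.leaf (22, 189)) (.leaf (23, 189)))) (.node 1 (.leaf (24, 189)) (.node 1 (.leaf (21, 190)) (.leaf (22, 190)))))
(.node 3 (.node 1 (.leaf (23, 190)) (.node 1 (.leaf (24, 190)) (.leaf (21, 192)))) (.node 1 (.leaf (22, 192)) (.node 1 (.leaf (24, 192)) (.leaf (22, 193))))))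
(.node 6 (.node 3 (.node 1 (.leaf (21, 194)) (.node 1 (.leaf (24, 194)) (.leaf (24, 195)))) (.node 1 (.leaf (24, 196)) (.node 1 (.leaf (21, 197)) (.leaf (23, 197)))))
(.node 3 (.node 1 (.leaf (24, 197)) (.node 1 (.leaf (21, 198)) (.leaf (22, 198)))) (.node 1 (.leaf (23, 198)) (.node 1 (.leaf (24, 198)) (.leaf (21, 199))))))))
(.node 24 (.node 12 (.node 6 (.node 3 (.node 1 (.leaf (22, 200)) (.node 1 (.leaf (23, 200)) (.leaf (21, 201)))) (.node 1 (.leaf (22, 201)) (.node 1 (.leaf (23, 202)) (.leaf (21, 204)))))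
(.node 3 (.node 1 (.leaf (22, 204)) (.node 1 (.leaf (24, 204)) (.leaf (23, 205)))) (.node 1 (.leaf (23, 206)) (.node 1 (.leaf (21, 207)) (.leaf (23, 207))))))
(.node 6 (.node 3 (.node 1 (.leaf (24, 207)) (.node 1 (.leaf (21, 208)) (.leaf (24, 208)))) (.node 1 (.leaf (21, 209)) (.node 1 (.leaf (22, 209)) (.leaf (23, 209)))))
(.node 3 (.node 1 (.leaf (24, 209)) (.node 1 (.leaf (23, 210)) (.leaf (24, 210)))) (.node 1 (.leaf (21, 211)) (.node 1 (.leaf (22, 211)) (.leaf (23, 211)))))))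
(.node 12 (.node 6 (.node 3 (.node 1 (.leaf (22, 212)) (.node 1 (.leaf (23, 212)) (.leaf (24, 212)))) (.node 1 (.leaf (22, 213)) (.node 1 (.leaf (23, 213)) (.leaf (24, 213)))))
(.node 3 (.node 1 (.leaf (21, 214)) (.node 1 (.leaf (22, 214)) (.leaf (23, 214)))) (.node 1 (.leaf (23, 215)) (.node 1 (.leaf (24, 215)) (.leaf (21, 216))))))
(.node 6 (.node 3 (.node 1 (.leaf (24, 216)) (.node 1 (.leaf (22, 217)) (.leaf (22, 218)))) (.node 1 (.leaf (24, 218)) (.node 1 (.leaf (21, 219)) (.leaf (22, 219)))))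
(.node 3 (.node 1 (.leaf (23, 219)) (.node 1 (.leaf (24, 219)) (.leaf (21, 220)))) (.node 1 (.leaf (23, 221)) (.node 1 (.leaf (24, 221)) (.leaf (21, 222)))))))))
(.node 48 (.node 24 (.node 12 (.node 6 (.node 3 (.node 1 (.leaf (22, 222)) (.node 1 (.leaf (24, 222)) (.leaf (21, 223)))) (.node 1 (.leaf (22, 223)) (.node 1 (.leaf (24, 223)) (.leaf (22, 224)))))
(.node 3 (.node 1 (.leaf (24, 224)) (.node 1 (.leaf (24, 225)) (.leaf (22, 226)))) (.node 1 (.leaf (23, 226)) (.node 1 (.leaf (24, 226)) (.leaf (21, 227))))))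
(.node 6 (.node 3 (.node 1 (.leaf (23, 227)) (.node 1 (.leaf (21, 228)) (.leaf (22, 228)))) (.node 1 (.leaf (24, 228)) (.node 1 (.leaf (21, 229)) (.leaf (22, 229)))))
(.node 3 (.node 1 (.leaf (22, 230)) (.node 1 (.leaf (23, 230)) (.leaf (24, 230)))) (.node 1 (.leaf (21, 231)) (.node 1 (.leaf (22, 231)) (.leaf (23, 231)))))))
(.node 12 (.node 6 (.node 3 (.node 1 (.leaf (21, 232)) (.node 1 (.leaf (22, 232)) (.leaf (24, 232)))) (.node 1 (.leaf (23, 233)) (.node 1 (.leaf (24, 233)) (.leaf (22, 234)))))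
(.node 3 (.node 1 (.leaf (22, 235)) (.node 1 (.leaf (23, 235)) (.leaf (24, 235)))) (.node 1 (.leaf (21, 236)) (.node 1 (.leaf (22, 236)) (.leaf (23, 236))))))
(.node 6 (.node 3 (.node 1 (.leaf (24, 236)) (.node 1 (.leaf (22, 237)) (.leaf (23, 237)))) (.node 1 (.leaf (24, 237)) (.node 1 (.leaf (21, 238)) (.leaf (23, 238)))))
(.node 3 (.node 1 (.leaf (21, 239)) (.node 1 (.leaf (23, 239)) (.leaf (24, 239)))) (.node 1 (.leaf (22, 240)) (.node 1 (.leaf (23, 240)) (.leaf (21, 241))))))))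
(.node 24 (.node 12 (.node 6 (.node 3 (.node 1 (.leaf (22, 241)) (.node 1 (.leaf (24, 241)) (.leaf (24, 242)))) (.node 1 (.leaf (22, 243)) (.node 1 (.leaf (23, 243)) (.leaf (21, 244)))))
(.node 3 (.node 1 (.leaf (23, 244)) (.node 1 (.leaf (21, 245)) (.leaf (22, 245)))) (.node 1 (.leaf (24, 245)) (.node 1 (.leaf (21, 246)) (.leaf (23, 246))))))
(.node 6 (.node 3 (.node 1 (.leaf (24, 246)) (.node 1 (.leaf (23, 247)) (.leaf (24, 247)))) (.node 1 (.leaf (22, 248)) (.node 1 (.leaf (23, 248)) (.leaf (24, 248)))))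
(.node 3 (.node 1 (.leaf (23, 249)) (.node 1 (.leaf (23, 250)) (.leaf (24, 250)))) (.node 1 (.leaf (21, 251)) (.node 1 (.leaf (22, 251)) (.leaf (23, 251)))))))
(.node 12 (.node 6 (.node 3 (.node 1 (.leaf (24, 251)) (.node 1 (.leaf (21, 252)) (.leaf (22, 252)))) (.node 1 (.leaf (23, 252)) (.node 1 (.leaf (24, 252)) (.leaf (21, 253)))))
(.node 3 (.node 1 (.leaf (22, 254)) (.node 1 (.leaf (23, 254)) (.leaf (24, 254)))) (.node 1 (.leaf (21, 255)) (.node 1 (.leaf (22, 255)) (.leaf (23, 255))))))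
(.node 6 (.node 3 (.node 1 (.leaf (21, 256)) (.node 1 (.leaf (23, 256)) (.leaf (24, 256)))) (.node 1 (.leaf (21, 257)) (.node 1 (.leaf (23, 257)) (.leaf (24, 257)))))
(.node 3 (.node 1 (.leaf (24, 258)) (.node 1 (.leaf (24, 259)) (.leaf (21, 260)))) (.node 1 (.leaf (24, 260)) (.node 1 (.leaf (24, 261)) (.leaf (22, 262)))))))))))

/-- The reasons. -/
def caseAFullN1HowL : Tab (ℕ × ℕ) := .node 384 caseAFullN1HowLL caseAFullN1HowLR

/-- The reasons. -/
def caseAFullN1HowRL : Tab (ℕ × ℕ) :=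
(.node 192 (.node 96 (.node 48 (.node 24 (.node 12 (.node 6 (.node 3 (.node 1 (.leaf (23, 262)) (.node 1 (.leaf (24, 262)) (.leaf (21, 263)))) (.node 1 (.leaf (23, 263)) (.node 1 (.leaf (22, 264)) (.leaf (23, 264)))))
(.node 3 (.node 1 (.leaf (24, 264)) (.node 1 (.leaf (21, 265)) (.leaf (23, 265)))) (.node 1 (.leaf (21, 266)) (.node 1 (.leaf (22, 266)) (.leaf (24, 266))))))
(.node 6 (.node 3 (.node 1 (.leaf (24, 268)) (.node 1 (.leaf (21, 269)) (.leaf (23, 269)))) (.node 1 (.leaf (21, 270)) (.node 1 (.leaf (24, 270)) (.leaf (21, 272)))))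
(.node 3 (.node 1 (.leaf (22, 272)) (.node 1 (.leaf (23, 272)) (.leaf (21, 273)))) (.node 1 (.leaf (23, 273)) (.node 1 (.leaf (24, 273)) (.leaf (21, 274)))))))
(.node 12 (.node 6 (.node 3 (.node 1 (.leaf (22, 274)) (.node 1 (.leaf (24, 274)) (.leaf (22, 275)))) (.node 1 (.leaf (23, 275)) (.node 1 (.leaf (21, 276)) (.leaf (22, 276)))))
(.node 3 (.node 1 (.leaf (21, 277)) (.node 1 (.leaf (22, 277)) (.leaf (23, 277)))) (.node 1 (.leaf (21, 278)) (.node 1 (.leaf (23, 278)) (.leaf (24, 278))))))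
(.node 6 (.node 3 (.node 1 (.leaf (21, 279)) (.node 1 (.leaf (22, 279)) (.leaf (23, 279)))) (.node 1 (.leaf (21, 280)) (.node 1 (.leaf (22, 281)) (.leaf (23, 281)))))
(.node 3 (.node 1 (.leaf (24, 281)) (.node 1 (.leaf (21, 282)) (.leaf (22, 282)))) (.node 1 (.leaf (24, 282)) (.node 1 (.leaf (23, 284)) (.leaf (22, 285))))))))
(.node 24 (.node 12 (.node 6 (.node 3 (.node 1 (.leaf (24, 285)) (.node 1 (.leaf (22, 286)) (.leaf (23, 286)))) (.node 1 (.leaf (24, 286)) (.node 1 (.leaf (23, 287)) (.leaf (24, 287)))))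
(.node 3 (.node 1 (.leaf (22, 288)) (.node 1 (.leaf (23, 288)) (.leaf (21, 289)))) (.node 1 (.leaf (23, 289)) (.node 1 (.leaf (24, 289)) (.leaf (23, 291))))))
(.node 6 (.node 3 (.node 1 (.leaf (21, 292)) (.node 1 (.leaf (23, 292)) (.leaf (24, 292)))) (.node 1 (.leaf (23, 293)) (.node 1 (.leaf (24, 293)) (.leaf (22, 294)))))
(.node 3 (.node 1 (.leaf (23, 294)) (.node 1 (.leaf (24, 294)) (.leaf (22, 295)))) (.node 1 (.leaf (21, 296)) (.node 1 (.leaf (22, 296)) (.leaf (23, 297)))))))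
(.node 12 (.node 6 (.node 3 (.node 1 (.leaf (21, 298)) (.node 1 (.leaf (23, 298)) (.leaf (21, 299)))) (.node 1 (.leaf (22, 299)) (.node 1 (.leaf (23, 299)) (.leaf (21, 300)))))
(.node 3 (.node 1 (.leaf (22, 300)) (.node 1 (.leaf (24, 300)) (.leaf (21, 301)))) (.node 1 (.leaf (23, 301)) (.node 1 (.leaf (21, 302)) (.leaf (22, 302))))))
(.node 6 (.node 3 (.node 1 (.leaf (24, 302)) (.node 1 (.leaf (22, 303)) (.leaf (23, 303)))) (.node 1 (.leaf (24, 303)) (.node 1 (.leaf (22, 304)) (.leaf (23, 304)))))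
(.node 3 (.node 1 (.leaf (24, 304)) (.node 1 (.leaf (22, 305)) (.leaf (24, 307)))) (.node 1 (.leaf (24, 308)) (.node 1 (.leaf (22, 309)) (.leaf (22, 310)))))))))
(.node 48 (.node 24 (.node 12 (.node 6 (.node 3 (.node 1 (.leaf (23, 310)) (.node 1 (.leaf (24, 310)) (.leaf (22, 311)))) (.node 1 (.leaf (23, 311)) (.node 1 (.leaf (21, 312)) (.leaf (22, 312)))))
(.node 3 (.node 1 (.leaf (23, 312)) (.node 1 (.leaf (24, 312)) (.leaf (21, 313)))) (.node 1 (.leaf (22, 313)) (.node 1 (.leaf (23, 313)) (.leaf (24, 313))))))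
(.node 6 (.node 3 (.node 1 (.leaf (21, 314)) (.node 1 (.leaf (22, 314)) (.leaf (24, 314)))) (.node 1 (.leaf (23, 315)) (.node 1 (.leaf (22, 316)) (.leaf (24, 316)))))
(.node 3 (.node 1 (.leaf (21, 317)) (.node 1 (.leaf (22, 317)) (.leaf (23, 317)))) (.node 1 (.leaf (24, 317)) (.node 1 (.leaf (23, 319)) (.leaf (24, 319)))))))
(.node 12 (.node 6 (.node 3 (.node 1 (.leaf (21, 320)) (.node 1 (.leaf (22, 320)) (.leaf (23, 320)))) (.node 1 (.leaf (21, 321)) (.node 1 (.leaf (23, 321)) (.leaf (21, 322)))))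
(.node 3 (.node 1 (.leaf (22, 322)) (.node 1 (.leaf (23, 322)) (.leaf (24, 322)))) (.node 1 (.leaf (22, 323)) (.node 1 (.leaf (23, 323)) (.leaf (22, 324))))))
(.node 6 (.node 3 (.node 1 (.leaf (24, 324)) (.node 1 (.leaf (21, 325)) (.leaf (22, 325)))) (.node 1 (.leaf (23, 325)) (.node 1 (.leaf (22, 326)) (.leaf (23, 326)))))
(.node 3 (.node 1 (.leaf (24, 326)) (.node 1 (.leaf (22, 327)) (.leaf (24, 327)))) (.node 1 (.leaf (22, 328)) (.node 1 (.leaf (23, 328)) (.leaf (24, 328))))))))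
(.node 24 (.node 12 (.node 6 (.node 3 (.node 1 (.leaf (21, 329)) (.node 1 (.leaf (23, 329)) (.leaf (24, 329)))) (.node 1 (.leaf (22, 330)) (.node 1 (.leaf (23, 330)) (.leaf (24, 330)))))
(.node 3 (.node 1 (.leaf (22, 332)) (.node 1 (.leaf (21, 333)) (.leaf (22, 333)))) (.node 1 (.leaf (23, 333)) (.node 1 (.leaf (24, 333)) (.leaf (24, 335))))))
(.node 6 (.node 3 (.node 1 (.leaf (21, 336)) (.node 1 (.leaf (23, 336)) (.leaf (24, 336)))) (.node 1 (.leaf (21, 337)) (.node 1 (.leaf (22, 337)) (.leaf (24, 337)))))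
(.node 3 (.node 1 (.leaf (21, 338)) (.node 1 (.leaf (23, 338)) (.leaf (24, 338)))) (.node 1 (.leaf (24, 339)) (.node 1 (.leaf (24, 340)) (.leaf (22, 341)))))))
(.node 12 (.node 6 (.node 3 (.node 1 (.leaf (23, 341)) (.node 1 (.leaf (24, 341)) (.leaf (21, 342)))) (.node 1 (.leaf (22, 342)) (.node 1 (.leaf (23, 342)) (.leaf (24, 342)))))
(.node 3 (.node 1 (.leaf (21, 343)) (.node 1 (.leaf (22, 343)) (.leaf (24, 343)))) (.node 1 (.leaf (22, 344)) (.node 1 (.leaf (23, 344)) (.leaf (24, 344))))))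
(.node 6 (.node 3 (.node 1 (.leaf (22, 345)) (.node 1 (.leaf (23, 347)) (.leaf (24, 347)))) (.node 1 (.leaf (23, 348)) (.node 1 (.leaf (24, 348)) (.leaf (23, 349)))))
(.node 3 (.node 1 (.leaf (24, 349)) (.node 1 (.leaf (21, 350)) (.leaf (22, 350)))) (.node 1 (.leaf (23, 350)) (.node 1 (.leaf (24, 350)) (.leaf (21, 351))))))))))
(.node 96 (.node 48 (.node 24 (.node 12 (.node 6 (.node 3 (.node 1 (.leaf (22, 351)) (.node 1 (.leaf (23, 351)) (.leaf (22, 352)))) (.node 1 (.leaf (23, 352)) (.node 1 (.leaf (22, 353)) (.leaf (23, 353)))))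
(.node 3 (.node 1 (.leaf (24, 353)) (.node 1 (.leaf (21, 354)) (.leaf (22, 354)))) (.node 1 (.leaf (23, 354)) (.node 1 (.leaf (22, 355)) (.leaf (24, 355))))))
(.node 6 (.node 3 (.node 1 (.leaf (24, 356)) (.node 1 (.leaf (21, 357)) (.leaf (22, 357)))) (.node 1 (.leaf (23, 358)) (.node 1 (.leaf (24, 358)) (.leaf (21, 359)))))
(.node 3 (.node 1 (.leaf (22, 359)) (.node 1 (.leaf (23, 359)) (.leaf (21, 361)))) (.node 1 (.leaf (24, 361)) (.node 1 (.leaf (22, 363)) (.leaf (23, 363)))))))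
(.node 12 (.node 6 (.node 3 (.node 1 (.leaf (24, 363)) (.node 1 (.leaf (22, 364)) (.leaf (23, 364)))) (.node 1 (.leaf (21, 365)) (.node 1 (.leaf (23, 365)) (.leaf (21, 366)))))
(.node 3 (.node 1 (.leaf (23, 366)) (.node 1 (.leaf (23, 367)) (.leaf (24, 367)))) (.node 1 (.leaf (22, 368)) (.node 1 (.leaf (23, 368)) (.leaf (24, 368))))))
(.node 6 (.node 3 (.node 1 (.leaf (22, 369)) (.node 1 (.leaf (24, 369)) (.leaf (22, 370)))) (.node 1 (.leaf (23, 370)) (.node 1 (.leaf (22, 372)) (.leaf (24, 372)))))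
(.node 3 (.node 1 (.leaf (21, 373)) (.node 1 (.leaf (23, 373)) (.leaf (24, 373)))) (.node 1 (.leaf (22, 375)) (.node 1 (.leaf (21, 376)) (.leaf (24, 377))))))))
(.node 24 (.node 12 (.node 6 (.node 3 (.node 1 (.leaf (21, 379)) (.node 1 (.leaf (23, 379)) (.leaf (24, 379)))) (.node 1 (.leaf (21, 380)) (.node 1 (.leaf (22, 380)) (.leaf (23, 380)))))
(.node 3 (.node 1 (.leaf (21, 381)) (.node 1 (.leaf (23, 382)) (.leaf (23, 383)))) (.node 1 (.leaf (21, 385)) (.node 1 (.leaf (22, 385)) (.leaf (24, 385))))))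
(.node 6 (.node 3 (.node 1 (.leaf (23, 388)) (.node 1 (.leaf (24, 389)) (.leaf (21, 390)))) (.node 1 (.leaf (24, 390)) (.node 1 (.leaf (24, 391)) (.leaf (22, 392)))))
(.node 3 (.node 1 (.leaf (23, 392)) (.node 1 (.leaf (23, 393)) (.leaf (24, 393)))) (.node 1 (.leaf (22, 394)) (.node 1 (.leaf (23, 394)) (.leaf (24, 394)))))))
(.node 12 (.node 6 (.node 3 (.node 1 (.leaf (21, 395)) (.node 1 (.leaf (22, 395)) (.leaf (24, 396)))) (.node 1 (.leaf (21, 397)) (.node 1 (.leaf (24, 397)) (.leaf (22, 398)))))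
(.node 3 (.node 1 (.leaf (22, 399)) (.node 1 (.leaf (24, 399)) (.leaf (23, 400)))) (.node 1 (.leaf (24, 400)) (.node 1 (.leaf (21, 401)) (.leaf (23, 402))))))
(.node 6 (.node 3 (.node 1 (.leaf (24, 402)) (.node 1 (.leaf (24, 403)) (.leaf (21, 404)))) (.node 1 (.leaf (22, 404)) (.node 1 (.leaf (24, 404)) (.leaf (24, 406)))))
(.node 3 (.node 1 (.leaf (23, 407)) (.node 1 (.leaf (21, 408)) (.leaf (23, 408)))) (.node 1 (.leaf (21, 409)) (.node 1 (.leaf (22, 409)) (.leaf (24, 409)))))))))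
(.node 48 (.node 24 (.node 12 (.node 6 (.node 3 (.node 1 (.leaf (21, 410)) (.node 1 (.leaf (22, 410)) (.leaf (23, 411)))) (.node 1 (.leaf (24, 411)) (.node 1 (.leaf (21, 412)) (.leaf (22, 412)))))
(.node 3 (.node 1 (.leaf (21, 413)) (.node 1 (.leaf (24, 413)) (.leaf (24, 414)))) (.node 1 (.leaf (23, 416)) (.node 1 (.leaf (24, 416)) (.leaf (21, 417))))))
(.node 6 (.node 3 (.node 1 (.leaf (22, 417)) (.node 1 (.leaf (23, 417)) (.leaf (22, 418)))) (.node 1 (.leaf (23, 418)) (.node 1 (.leaf (24, 418)) (.leaf (21, 419)))))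
(.node 3 (.node 1 (.leaf (23, 420)) (.node 1 (.leaf (24, 420)) (.leaf (22, 421)))) (.node 1 (.leaf (21, 422)) (.node 1 (.leaf (24, 423)) (.leaf (22, 424)))))))
(.node 12 (.node 6 (.node 3 (.node 1 (.leaf (23, 424)) (.node 1 (.leaf (21, 425)) (.leaf (22, 425)))) (.node 1 (.leaf (24, 425)) (.node 1 (.leaf (24, 426)) (.leaf (22, 427)))))
(.node 3 (.node 1 (.leaf (23, 427)) (.node 1 (.leaf (24, 427)) (.leaf (21, 430)))) (.node 1 (.leaf (22, 430)) (.node 1 (.leaf (23, 430)) (.leaf (24, 430))))))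
(.node 6 (.node 3 (.node 1 (.leaf (21, 431)) (.node 1 (.leaf (23, 431)) (.leaf (21, 432)))) (.node 1 (.leaf (23, 433)) (.node 1 (.leaf (21, 434)) (.leaf (22, 434)))))
(.node 3 (.node 1 (.leaf (21, 436)) (.node 1 (.leaf (24, 436)) (.leaf (24, 437)))) (.node 1 (.leaf (24, 438)) (.node 1 (.leaf (21, 439)) (.leaf (24, 440))))))))
(.node 24 (.node 12 (.node 6 (.node 3 (.node 1 (.leaf (23, 441)) (.node 1 (.leaf (24, 441)) (.leaf (21, 442)))) (.node 1 (.leaf (22, 443)) (.node 1 (.leaf (23, 443)) (.leaf (21, 444)))))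
(.node 3 (.node 1 (.leaf (23, 444)) (.node 1 (.leaf (21, 445)) (.leaf (24, 447)))) (.node 1 (.leaf (24, 449)) (.node 1 (.leaf (21, 451)) (.leaf (22, 451))))))
(.node 6 (.node 3 (.node 1 (.leaf (21, 452)) (.node 1 (.leaf (24, 452)) (.leaf (22, 453)))) (.node 1 (.leaf (24, 453)) (.node 1 (.leaf (23, 454)) (.leaf (22, 455)))))
(.node 3 (.node 1 (.leaf (21, 456)) (.node 1 (.leaf (22, 456)) (.leaf (23, 456)))) (.node 1 (.leaf (24, 457)) (.node 1 (.leaf (23, 458)) (.leaf (21, 459)))))))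
(.node 12 (.node 6 (.node 3 (.node 1 (.leaf (22, 460)) (.node 1 (.leaf (24, 460)) (.leaf (23, 462)))) (.node 1 (.leaf (22, 463)) (.node 1 (.leaf (24, 463)) (.leaf (22, 464)))))
(.node 3 (.node 1 (.leaf (24, 464)) (.node 1 (.leaf (23, 465)) (.leaf (24, 465)))) (.node 1 (.leaf (23, 466)) (.node 1 (.leaf (24, 467)) (.leaf (21, 469))))))
(.node 6 (.node 3 (.node 1 (.leaf (23, 469)) (.node 1 (.leaf (21, 470)) (.leaf (22, 472)))) (.node 1 (.leaf (24, 472)) (.node 1 (.leaf (23, 473)) (.leaf (21, 474)))))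
(.node 3 (.node 1 (.leaf (24, 474)) (.node 1 (.leaf (22, 475)) (.leaf (24, 475)))) (.node 1 (.leaf (21, 476)) (.node 1 (.leaf (21, 478)) (.leaf (22, 479)))))))))))

/-- The reasons. -/
def caseAFullN1HowRR : Tab (ℕ × ℕ) :=
(.node 192 (.node 96 (.node 48 (.node 24 (.node 12 (.node 6 (.node 3 (.node 1 (.leaf (24, 480)) (.node 1 (.leaf (23, 481)) (.leaf (23, 482)))) (.node 1 (.leaf (21, 483)) (.node 1 (.leaf (22, 484)) (.leaf (24, 484)))))
(.node 3 (.node 1 (.leaf (21, 485)) (.node 1 (.leaf (22, 486)) (.leaf (23, 487)))) (.node 1 (.leaf (24, 488)) (.node 1 (.leaf (21, 489)) (.leaf (22, 489))))))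
(.node 6 (.node 3 (.node 1 (.leaf (24, 489)) (.node 1 (.leaf (22, 490)) (.leaf (24, 490)))) (.node 1 (.leaf (21, 491)) (.node 1 (.leaf (23, 491)) (.leaf (23, 492)))))
(.node 3 (.node 1 (.leaf (22, 493)) (.node 1 (.leaf (21, 494)) (.leaf (22, 494)))) (.node 1 (.leaf (23, 494)) (.node 1 (.leaf (24, 494)) (.leaf (21, 495)))))))
(.node 12 (.node 6 (.node 3 (.node 1 (.leaf (22, 496)) (.node 1 (.leaf (23, 497)) (.leaf (24, 497)))) (.node 1 (.leaf (21, 499)) (.node 1 (.leaf (23, 499)) (.leaf (24, 499)))))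
(.node 3 (.node 1 (.leaf (23, 501)) (.node 1 (.leaf (23, 502)) (.leaf (24, 504)))) (.node 1 (.leaf (24, 505)) (.node 1 (.leaf (21, 506)) (.leaf (22, 506))))))
(.node 6 (.node 3 (.node 1 (.leaf (24, 506)) (.node 1 (.leaf (22, 507)) (.leaf (22, 508)))) (.node 1 (.leaf (22, 509)) (.node 1 (.leaf (23, 510)) (.leaf (22, 511)))))
(.node 3 (.node 1 (.leaf (24, 511)) (.node 1 (.leaf (21, 512)) (.leaf (22, 514)))) (.node 1 (.leaf (23, 515)) (.node 1 (.leaf (24, 515)) (.leaf (21, 517))))))))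
(.node 24 (.node 12 (.node 6 (.node 3 (.node 1 (.leaf (23, 518)) (.node 1 (.leaf (24, 518)) (.leaf (23, 519)))) (.node 1 (.leaf (21, 520)) (.node 1 (.leaf (24, 520)) (.leaf (22, 522)))))
(.node 3 (.node 1 (.leaf (23, 522)) (.node 1 (.leaf (24, 522)) (.leaf (21, 523)))) (.node 1 (.leaf (23, 523)) (.node 1 (.leaf (23, 524)) (.leaf (21, 525))))))
(.node 6 (.node 3 (.node 1 (.leaf (23, 525)) (.node 1 (.leaf (21, 527)) (.leaf (22, 527)))) (.node 1 (.leaf (24, 527)) (.node 1 (.leaf (21, 528)) (.leaf (23, 528)))))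
(.node 3 (.node 1 (.leaf (23, 529)) (.node 1 (.leaf (22, 532)) (.leaf (23, 532)))) (.node 1 (.leaf (24, 532)) (.node 1 (.leaf (21, 533)) (.leaf (23, 533)))))))
(.node 12 (.node 6 (.node 3 (.node 1 (.leaf (24, 533)) (.node 1 (.leaf (21, 536)) (.leaf (22, 537)))) (.node 1 (.leaf (24, 539)) (.node 1 (.leaf (23, 542)) (.leaf (23, 544)))))
(.node 3 (.node 1 (.leaf (21, 545)) (.node 1 (.leaf (22, 545)) (.leaf (24, 548)))) (.node 1 (.leaf (21, 551)) (.node 1 (.leaf (23, 551)) (.leaf (24, 551))))))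
(.node 6 (.node 3 (.node 1 (.leaf (21, 552)) (.node 1 (.leaf (21, 553)) (.leaf (24, 553)))) (.node 1 (.leaf (23, 554)) (.node 1 (.leaf (24, 554)) (.leaf (23, 555)))))
(.node 3 (.node 1 (.leaf (24, 555)) (.node 1 (.leaf (22, 557)) (.leaf (22, 558)))) (.node 1 (.leaf (21, 560)) (.node 1 (.leaf (24, 560)) (.leaf (22, 561)))))))))
(.node 48 (.node 24 (.node 12 (.node 6 (.node 3 (.node 1 (.leaf (23, 561)) (.node 1 (.leaf (23, 562)) (.leaf (24, 563)))) (.node 1 (.leaf (22, 565)) (.node 1 (.leaf (24, 565)) (.leaf (21, 566)))))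
(.node 3 (.node 1 (.leaf (22, 566)) (.node 1 (.leaf (23, 566)) (.leaf (24, 567)))) (.node 1 (.leaf (23, 570)) (.node 1 (.leaf (24, 572)) (.leaf (23, 573))))))
(.node 6 (.node 3 (.node 1 (.leaf (21, 574)) (.node 1 (.leaf (22, 575)) (.leaf (21, 576)))) (.node 1 (.leaf (22, 576)) (.node 1 (.leaf (23, 578)) (.leaf (22, 580)))))
(.node 3 (.node 1 (.leaf (21, 581)) (.node 1 (.leaf (22, 581)) (.leaf (23, 581)))) (.node 1 (.leaf (24, 581)) (.node 1 (.leaf (23, 583)) (.leaf (23, 584)))))))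
(.node 12 (.node 6 (.node 3 (.node 1 (.leaf (23, 585)) (.node 1 (.leaf (24, 587)) (.leaf (21, 588)))) (.node 1 (.leaf (24, 588)) (.node 1 (.leaf (24, 589)) (.leaf (23, 590)))))
(.node 3 (.node 1 (.leaf (23, 591)) (.node 1 (.leaf (22, 594)) (.leaf (21, 595)))) (.node 1 (.leaf (23, 595)) (.node 1 (.leaf (21, 596)) (.leaf (23, 597))))))
(.node 6 (.node 3 (.node 1 (.leaf (21, 599)) (.node 1 (.leaf (23, 599)) (.leaf (24, 603)))) (.node 1 (.leaf (22, 604)) (.node 1 (.leaf (23, 604)) (.leaf (24, 604)))))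
(.node 3 (.node 1 (.leaf (23, 605)) (.node 1 (.leaf (22, 606)) (.leaf (23, 607)))) (.node 1 (.leaf (24, 607)) (.node 1 (.leaf (24, 611)) (.leaf (21, 614))))))))
(.node 24 (.node 12 (.node 6 (.node 3 (.node 1 (.leaf (24, 614)) (.node 1 (.leaf (23, 615)) (.leaf (24, 624)))) (.node 1 (.leaf (22, 625)) (.node 1 (.leaf (22, 626)) (.leaf (23, 628)))))
(.node 3 (.node 1 (.leaf (21, 630)) (.node 1 (.leaf (21, 631)) (.leaf (24, 631)))) (.node 1 (.leaf (23, 636)) (.node 1 (.leaf (24, 636)) (.leaf (22, 638))))))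
(.node 6 (.node 3 (.node 1 (.leaf (23, 638)) (.node 1 (.leaf (24, 638)) (.leaf (23, 639)))) (.node 1 (.leaf (24, 639)) (.node 1 (.leaf (21, 640)) (.leaf (24, 641)))))
(.node 3 (.node 1 (.leaf (23, 643)) (.node 1 (.leaf (24, 643)) (.leaf (22, 644)))) (.node 1 (.leaf (24, 644)) (.node 1 (.leaf (24, 646)) (.leaf (21, 647)))))))
(.node 12 (.node 6 (.node 3 (.node 1 (.leaf (21, 648)) (.node 1 (.leaf (23, 648)) (.leaf (22, 649)))) (.node 1 (.leaf (22, 650)) (.node 1 (.leaf (21, 651)) (.leaf (23, 651)))))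
(.node 3 (.node 1 (.leaf (21, 652)) (.node 1 (.leaf (24, 652)) (.leaf (24, 654)))) (.node 1 (.leaf (23, 658)) (.node 1 (.leaf (22, 664)) (.leaf (23, 666))))))
(.node 6 (.node 3 (.node 1 (.leaf (22, 667)) (.node 1 (.leaf (23, 668)) (.leaf (24, 669)))) (.node 1 (.leaf (22, 670)) (.node 1 (.leaf (23, 671)) (.leaf (24, 671)))))
(.node 3 (.node 1 (.leaf (23, 674)) (.node 1 (.leaf (24, 674)) (.leaf (24, 679)))) (.node 1 (.leaf (21, 680)) (.node 1 (.leaf (23, 680)) (.leaf (21, 681))))))))))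
(.node 96 (.node 48 (.node 24 (.node 12 (.node 6 (.node 3 (.node 1 (.leaf (22, 681)) (.node 1 (.leaf (22, 685)) (.leaf (22, 686)))) (.node 1 (.leaf (23, 687)) (.node 1 (.leaf (23, 688)) (.leaf (22, 689)))))
(.node 3 (.node 1 (.leaf (24, 693)) (.node 1 (.leaf (24, 694)) (.leaf (23, 695)))) (.node 1 (.leaf (23, 696)) (.node 1 (.leaf (21, 697)) (.leaf (24, 701))))))
(.node 6 (.node 3 (.node 1 (.leaf (24, 702)) (.node 1 (.leaf (21, 705)) (.leaf (23, 705)))) (.node 1 (.leaf (21, 706)) (.node 1 (.leaf (21, 708)) (.leaf (23, 708)))))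
(.node 3 (.node 1 (.leaf (21, 709)) (.node 1 (.leaf (23, 709)) (.leaf (23, 713)))) (.node 1 (.leaf (21, 714)) (.node 1 (.leaf (23, 715)) (.leaf (24, 716)))))))
(.node 12 (.node 6 (.node 3 (.node 1 (.leaf (21, 721)) (.node 1 (.leaf (23, 721)) (.leaf (23, 727)))) (.node 1 (.leaf (22, 728)) (.node 1 (.leaf (24, 728)) (.leaf (21, 729)))))
(.node 3 (.node 1 (.leaf (23, 729)) (.node 1 (.leaf (24, 729)) (.leaf (23, 731)))) (.node 1 (.leaf (21, 733)) (.node 1 (.leaf (24, 733)) (.leaf (24, 737))))))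
(.node 6 (.node 3 (.node 1 (.leaf (23, 738)) (.node 1 (.leaf (23, 739)) (.leaf (22, 743)))) (.node 1 (.leaf (24, 743)) (.node 1 (.leaf (22, 745)) (.leaf (24, 745)))))
(.node 3 (.node 1 (.leaf (21, 746)) (.node 1 (.leaf (24, 747)) (.leaf (22, 748)))) (.node 1 (.leaf (23, 748)) (.node 1 (.leaf (23, 751)) (.leaf (24, 753))))))))
(.node 24 (.node 12 (.node 6 (.node 3 (.node 1 (.leaf (23, 754)) (.node 1 (.leaf (24, 754)) (.leaf (23, 756)))) (.node 1 (.leaf (22, 757)) (.node 1 (.leaf (21, 758)) (.leaf (23, 758)))))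
(.node 3 (.node 1 (.leaf (22, 759)) (.node 1 (.leaf (23, 759)) (.leaf (23, 760)))) (.node 1 (.leaf (24, 761)) (.node 1 (.leaf (22, 762)) (.leaf (23, 762))))))
(.node 6 (.node 3 (.node 1 (.leaf (24, 762)) (.node 1 (.leaf (23, 765)) (.leaf (22, 767)))) (.node 1 (.leaf (22, 768)) (.node 1 (.leaf (24, 777)) (.leaf (22, 782)))))
(.node 3 (.node 1 (.leaf (22, 784)) (.node 1 (.leaf (23, 785)) (.leaf (24, 785)))) (.node 1 (.leaf (21, 786)) (.node 1 (.leaf (21, 788)) (.leaf (24, 790)))))))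
(.node 12 (.node 6 (.node 3 (.node 1 (.leaf (23, 794)) (.node 1 (.leaf (21, 795)) (.leaf (21, 797)))) (.node 1 (.leaf (22, 799)) (.node 1 (.leaf (24, 802)) (.leaf (24, 803)))))
(.node 3 (.node 1 (.leaf (24, 806)) (.node 1 (.leaf (24, 807)) (.leaf (22, 809)))) (.node 1 (.leaf (23, 815)) (.node 1 (.leaf (21, 817)) (.leaf (23, 822))))))
(.node 6 (.node 3 (.node 1 (.leaf (21, 825)) (.node 1 (.leaf (21, 826)) (.leaf (24, 827)))) (.node 1 (.leaf (22, 828)) (.node 1 (.leaf (23, 828)) (.leaf (22, 829)))))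
(.node 3 (.node 1 (.leaf (24, 829)) (.node 1 (.leaf (22, 836)) (.leaf (21, 837)))) (.node 1 (.leaf (22, 841)) (.node 1 (.leaf (22, 842)) (.leaf (23, 843)))))))))
(.node 48 (.node 24 (.node 12 (.node 6 (.node 3 (.node 1 (.leaf (24, 845)) (.node 1 (.leaf (22, 846)) (.leaf (22, 847)))) (.node 1 (.leaf (23, 847)) (.node 1 (.leaf (22, 848)) (.leaf (24, 849)))))
(.node 3 (.node 1 (.leaf (24, 850)) (.node 1 (.leaf (21, 851)) (.leaf (22, 851)))) (.node 1 (.leaf (22, 852)) (.node 1 (.leaf (22, 853)) (.leaf (23, 854))))))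
(.node 6 (.node 3 (.node 1 (.leaf (24, 854)) (.node 1 (.leaf (21, 856)) (.leaf (23, 858)))) (.node 1 (.leaf (22, 862)) (.node 1 (.leaf (23, 865)) (.leaf (24, 874)))))
(.node 3 (.node 1 (.leaf (24, 881)) (.node 1 (.leaf (21, 885)) (.leaf (22, 885)))) (.node 1 (.leaf (24, 888)) (.node 1 (.leaf (22, 889)) (.leaf (24, 893)))))))
(.node 12 (.node 6 (.node 3 (.node 1 (.leaf (23, 894)) (.node 1 (.leaf (23, 895)) (.leaf (22, 897)))) (.node 1 (.leaf (23, 907)) (.node 1 (.leaf (23, 908)) (.leaf (21, 909)))))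
(.node 3 (.node 1 (.leaf (24, 911)) (.node 1 (.leaf (21, 915)) (.leaf (23, 917)))) (.node 1 (.leaf (21, 918)) (.node 1 (.leaf (24, 919)) (.leaf (24, 920))))))
(.node 6 (.node 3 (.node 1 (.leaf (24, 922)) (.node 1 (.leaf (21, 927)) (.leaf (21, 929)))) (.node 1 (.leaf (22, 930)) (.node 1 (.leaf (24, 931)) (.leaf (24, 935)))))
(.node 3 (.node 1 (.leaf (21, 936)) (.node 1 (.leaf (21, 938)) (.leaf (22, 940)))) (.node 1 (.leaf (21, 945)) (.node 1 (.leaf (23, 945)) (.leaf (24, 945))))))))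
(.node 24 (.node 12 (.node 6 (.node 3 (.node 1 (.leaf (23, 947)) (.node 1 (.leaf (24, 951)) (.leaf (24, 955)))) (.node 1 (.leaf (23, 959)) (.node 1 (.leaf (22, 965)) (.leaf (23, 966)))))
(.node 3 (.node 1 (.leaf (24, 971)) (.node 1 (.leaf (22, 974)) (.leaf (24, 981)))) (.node 1 (.leaf (24, 983)) (.node 1 (.leaf (22, 985)) (.leaf (23, 985))))))
(.node 6 (.node 3 (.node 1 (.leaf (24, 994)) (.node 1 (.leaf (24, 1001)) (.leaf (22, 1002)))) (.node 1 (.leaf (24, 1002)) (.node 1 (.leaf (23, 1004)) (.leaf (24, 1007)))))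
(.node 3 (.node 1 (.leaf (24, 1019)) (.node 1 (.leaf (22, 1021)) (.leaf (23, 1021)))) (.node 1 (.leaf (24, 1021)) (.node 1 (.leaf (21, 1026)) (.leaf (22, 1027)))))))
(.node 12 (.node 6 (.node 3 (.node 1 (.leaf (24, 1032)) (.node 1 (.leaf (23, 1042)) (.leaf (24, 1043)))) (.node 1 (.leaf (22, 1054)) (.node 1 (.leaf (24, 1060)) (.leaf (23, 1070)))))
(.node 3 (.node 1 (.leaf (22, 1082)) (.node 1 (.leaf (21, 1083)) (.leaf (23, 1083)))) (.node 1 (.leaf (24, 1083)) (.node 1 (.leaf (24, 1099)) (.leaf (23, 1114))))))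
(.node 6 (.node 3 (.node 1 (.leaf (22, 1123)) (.node 1 (.leaf (24, 1125)) (.leaf (24, 1140)))) (.node 1 (.leaf (24, 1174)) (.node 1 (.leaf (23, 1189)) (.leaf (24, 1192)))))
(.node 3 (.node 1 (.leaf (22, 1212)) (.node 1 (.leaf (23, 1216)) (.leaf (22, 1229)))) (.node 1 (.leaf (21, 1232)) (.node 1 (.leaf (21, 1309)) (.leaf (21, 1317)))))))))))

/-- The reasons. -/
def caseAFullN1HowR : Tab (ℕ × ℕ) := .node 384 caseAFullN1HowRL caseAFullN1HowRR

/-- The reasons. -/
def caseAFullN1How : Tab (ℕ × ℕ) := .node 768 caseAFullN1HowL caseAFullN1HowR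

/-- The node. -/
def caseAFullN1Node : NodeD := ⟨1, 1536, caseAFullN1Els, caseAFullN1Ix, caseAFullN1How, fun b => bif b then (.node 7 (.node 3 (.node 1 (.leaf 105) (.node 1 (.leaf 103) (.leaf 107)))
(.node 2 (.node 1 (.leaf 108) (.leaf 104)) (.node 1 (.leaf 106) (.leaf 137))))
(.node 3 (.node 1 (.leaf 136) (.node 1 (.leaf 139) (.leaf 141)))
(.node 2 (.node 1 (.leaf 134) (.leaf 142)) (.node 1 (.leaf 140) (.leaf 138))))) else (.node 7 (.node 3 (.node 1 (.leaf 374) (.node 1 (.leaf 371) (.leaf 368)))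
(.node 2 (.node 1 (.leaf 366) (.leaf 369)) (.node 1 (.leaf 367) (.leaf 3))))
(.node 3 (.node 1 (.leaf 373) (.node 1 (.leaf 365) (.leaf 364)))
(.node 2 (.node 1 (.leaf 370) (.leaf 372)) (.node 1 (.leaf 375) (.leaf 376)))))⟩

/-- The stabiliser. -/
def caseAFullN4ElsLL : Tab ℕ :=
(.node 192 (.node 96 (.node 48 (.node 24 (.node 12 (.node 6 (.node 3 (.node 1 (.leaf 17043521) (.node 1 (.leaf 8919113) (.leaf 11284547))) (.node 1 (.leaf 19740763) (.node 1 (.leaf 17043545) (.leaf 19683403))))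
(.node 3 (.node 1 (.leaf 11358291) (.node 1 (.leaf 25507931) (.leaf 27873345))) (.node 1 (.leaf 8935507) (.node 1 (.leaf 27865153) (.leaf 25448537)))))
(.node 6 (.node 3 (.node 1 (.leaf 17127505) (.node 1 (.leaf 8919121) (.leaf 11284571))) (.node 1 (.leaf 19740739) (.node 1 (.leaf 25776211) (.leaf 27605065))))
(.node 3 (.node 1 (.leaf 17051715) (.node 1 (.leaf 27613257) (.leaf 25704529))) (.node 1 (.leaf 8990785) (.node 1 (.leaf 11284561) (.leaf 8982617))))))
(.node 12 (.node 6 (.node 3 (.node 1 (.leaf 27793483) (.node 1 (.leaf 19748947) (.leaf 17045571))) (.node 1 (.leaf 25497675) (.node 1 (.leaf 17059907) (.leaf 19667025))))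
(.node 3 (.node 1 (.leaf 11341897) (.node 1 (.leaf 19740755) (.leaf 17070147))) (.node 1 (.leaf 25522251) (.node 1 (.leaf 9197649) (.leaf 11038811)))))
(.node 6 (.node 3 (.node 1 (.leaf 27883595) (.node 1 (.leaf 11030619) (.leaf 9269331))) (.node 1 (.leaf 19691593) (.node 1 (.leaf 19683411) (.leaf 11358283))))
(.node 3 (.node 1 (.leaf 25507907) (.node 1 (.leaf 27873369) (.leaf 8935499))) (.node 1 (.leaf 27865177) (.node 1 (.leaf 25448513) (.leaf 17127497)))))))
(.node 24 (.node 12 (.node 6 (.node 3 (.node 1 (.leaf 19683393) (.node 1 (.leaf 17111121) (.leaf 27529307))) (.node 1 (.leaf 11350083) (.node 1 (.leaf 8917067) (.leaf 25761883))))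
(.node 3 (.node 1 (.leaf 8927307) (.node 1 (.leaf 11276353) (.leaf 19732569))) (.node 1 (.leaf 11358275) (.node 1 (.leaf 8941643) (.leaf 25786459)))))
(.node 6 (.node 3 (.node 1 (.leaf 17576001) (.node 1 (.leaf 19167315) (.leaf 27619419))) (.node 1 (.leaf 19150931) (.node 1 (.leaf 17659971) (.leaf 11300953))))
(.node 3 (.node 1 (.leaf 25507913) (.node 1 (.leaf 27873363) (.leaf 8935489))) (.node 1 (.leaf 19142731) (.node 1 (.leaf 17651803) (.leaf 11292737))))))
(.node 12 (.node 6 (.node 3 (.node 1 (.leaf 17633371) (.node 1 (.leaf 19224649) (.leaf 25448515))) (.node 1 (.leaf 27873353) (.node 1 (.leaf 25440337) (.leaf 17119321))))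
(.node 3 (.node 1 (.leaf 11286593) (.node 1 (.leaf 19738713) (.leaf 11278401))) (.node 1 (.leaf 8992841) (.node 1 (.leaf 27799643) (.leaf 11300929)))))
(.node 6 (.node 3 (.node 1 (.leaf 19757145) (.node 1 (.leaf 25759817) (.leaf 27621459))) (.node 1 (.leaf 17068121) (.node 1 (.leaf 27596883) (.leaf 25720907))))
(.node 3 (.node 1 (.leaf 9007195) (.node 1 (.leaf 27865161) (.leaf 25448529))) (.node 1 (.leaf 17127513) (.node 1 (.leaf 11294785) (.leaf 19746905))))))))
(.node 48 (.node 24 (.node 12 (.node 6 (.node 3 (.node 1 (.leaf 11302977) (.node 1 (.leaf 9001033) (.leaf 27807835))) (.node 1 (.leaf 25448521) (.node 1 (.leaf 27801683) (.leaf 11087939))))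
(.node 3 (.node 1 (.leaf 17135691) (.node 1 (.leaf 9189443) (.leaf 19755097))) (.node 1 (.leaf 17051721) (.node 1 (.leaf 25507905) (.leaf 17127499)))))
(.node 6 (.node 3 (.node 1 (.leaf 19730521) (.node 1 (.leaf 9181251) (.leaf 27555913))) (.node 1 (.leaf 25761873) (.node 1 (.leaf 11014211) (.leaf 25784401))))
(.node 3 (.node 1 (.leaf 27596875) (.node 1 (.leaf 25776203) (.leaf 27605073))) (.node 1 (.leaf 17051739) (.node 1 (.leaf 27613265) (.leaf 25704521))))))
(.node 12 (.node 6 (.node 3 (.node 1 (.leaf 8990809) (.node 1 (.leaf 11284553) (.leaf 8982593))) (.node 1 (.leaf 27793491) (.node 1 (.leaf 19748939) (.leaf 17045595))))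
(.node 3 (.node 1 (.leaf 25497683) (.node 1 (.leaf 17059931) (.leaf 19667017))) (.node 1 (.leaf 11341905) (.node 1 (.leaf 19740747) (.leaf 17070171)))))
(.node 6 (.node 3 (.node 1 (.leaf 25522259) (.node 1 (.leaf 9197641) (.leaf 11038787))) (.node 1 (.leaf 27883603) (.node 1 (.leaf 11030595) (.leaf 9269323))))
(.node 3 (.node 1 (.leaf 19691601) (.node 1 (.leaf 25776217) (.leaf 27605059))) (.node 1 (.leaf 11014235) (.node 1 (.leaf 9252947) (.leaf 19675209)))))))
(.node 24 (.node 12 (.node 6 (.node 3 (.node 1 (.leaf 9246803) (.node 1 (.leaf 11087961) (.leaf 25704523))) (.node 1 (.leaf 27605081) (.node 1 (.leaf 25712705) (.leaf 8998993))))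
(.node 3 (.node 1 (.leaf 19681353) (.node 1 (.leaf 11360337) (.leaf 19664969))) (.node 1 (.leaf 17125465) (.node 1 (.leaf 27547731) (.leaf 11366481)))))
(.node 6 (.node 3 (.node 1 (.leaf 25499737) (.node 1 (.leaf 27881539) (.leaf 8943697))) (.node 1 (.leaf 27856963) (.node 1 (.leaf 25456731) (.leaf 17135699))))
(.node 3 (.node 1 (.leaf 27613273) (.node 1 (.leaf 25704513) (.leaf 8990801))) (.node 1 (.leaf 19673161) (.node 1 (.leaf 11352145) (.leaf 19689545))))))
(.node 12 (.node 6 (.node 3 (.node 1 (.leaf 17117273) (.node 1 (.leaf 27539539) (.leaf 25704537))) (.node 1 (.leaf 27545667) (.node 1 (.leaf 19224651) (.leaf 17584203))))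
(.node 3 (.node 1 (.leaf 11368529) (.node 1 (.leaf 8935513) (.leaf 25776201))) (.node 1 (.leaf 8990811) (.node 1 (.leaf 11343953) (.leaf 17567819)))))
(.node 6 (.node 3 (.node 1 (.leaf 27816025) (.node 1 (.leaf 25497665) (.leaf 25524289))) (.node 1 (.leaf 27856987) (.node 1 (.leaf 8982603) (.leaf 27793497))))
(.node 3 (.node 1 (.leaf 19748929) (.node 1 (.leaf 17045585) (.leaf 25497689))) (.node 1 (.leaf 17059921) (.node 1 (.leaf 19667011) (.leaf 11341915)))))))))
(.node 96 (.node 48 (.node 24 (.node 12 (.node 6 (.node 3 (.node 1 (.leaf 8982595) (.node 1 (.leaf 11352137) (.leaf 17576019))) (.node 1 (.leaf 27807809) (.node 1 (.leaf 25505881) (.leaf 25516121))))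
(.node 3 (.node 1 (.leaf 27865155) (.node 1 (.leaf 8927313) (.leaf 27793473))) (.node 1 (.leaf 25524313) (.node 1 (.leaf 19165267) (.leaf 11096131)))))
(.node 6 (.node 3 (.node 1 (.leaf 9203787) (.node 1 (.leaf 17659987) (.leaf 9197643))) (.node 1 (.leaf 11038785) (.node 1 (.leaf 27883601) (.leaf 19748955))))
(.node 3 (.node 1 (.leaf 17045579) (.node 1 (.leaf 25497667) (.leaf 9189465))) (.node 1 (.leaf 11014227) (.node 1 (.leaf 27859011) (.leaf 11022419))))))
(.node 12 (.node 6 (.node 3 (.node 1 (.leaf 9244763) (.node 1 (.leaf 19667009) (.leaf 27875395))) (.node 1 (.leaf 8933457) (.node 1 (.leaf 27867203) (.leaf 25450587))))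
(.node 3 (.node 1 (.leaf 17125459) (.node 1 (.leaf 27883587) (.leaf 8941649))) (.node 1 (.leaf 19148891) (.node 1 (.leaf 17657931) (.leaf 11302993)))))
(.node 6 (.node 3 (.node 1 (.leaf 17643595) (.node 1 (.leaf 19230809) (.leaf 25458771))) (.node 1 (.leaf 25432155) (.node 1 (.leaf 17111123) (.leaf 19667035))))
(.node 3 (.node 1 (.leaf 27545665) (.node 1 (.leaf 11366489) (.leaf 25778241))) (.node 1 (.leaf 11292763) (.node 1 (.leaf 19748931) (.leaf 11341913)))))))
(.node 24 (.node 12 (.node 6 (.node 3 (.node 1 (.leaf 8925265) (.node 1 (.leaf 25770049) (.leaf 17592411))) (.node 1 (.leaf 19150921) (.node 1 (.leaf 27603009) (.leaf 19167305))))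
(.node 3 (.node 1 (.leaf 17643609) (.node 1 (.leaf 17070155) (.leaf 25522243))) (.node 1 (.leaf 9197657) (.node 1 (.leaf 11038803) (.leaf 11030611)))))
(.node 6 (.node 3 (.node 1 (.leaf 9269339) (.node 1 (.leaf 19691585) (.leaf 25514073))) (.node 1 (.leaf 25442395) (.node 1 (.leaf 17117267) (.leaf 25522265))))
(.node 3 (.node 1 (.leaf 8917073) (.node 1 (.leaf 19157083) (.leaf 17633355))) (.node 1 (.leaf 11278417) (.node 1 (.leaf 17651787) (.leaf 19206233))))))
(.node 12 (.node 6 (.node 3 (.node 1 (.leaf 25434195) (.node 1 (.leaf 9197633) (.leaf 11038795))) (.node 1 (.leaf 27883611) (.node 1 (.leaf 17641539) (.leaf 19232849))))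
(.node 3 (.node 1 (.leaf 19216465) (.node 1 (.leaf 17594433) (.leaf 9269337))) (.node 1 (.leaf 9261129) (.node 1 (.leaf 25440347) (.leaf 27809857)))))
(.node 6 (.node 3 (.node 1 (.leaf 11096145) (.node 1 (.leaf 25434203) (.leaf 17109075))) (.node 1 (.leaf 8927297) (.node 1 (.leaf 11276363) (.leaf 19732563))))
(.node 3 (.node 1 (.leaf 11284555) (.node 1 (.leaf 27793489) (.leaf 11030593))) (.node 1 (.leaf 9269321) (.node 1 (.leaf 19691603) (.leaf 25458779))))))))
(.node 48 (.node 24 (.node 12 (.node 6 (.node 3 (.node 1 (.leaf 17133651) (.node 1 (.leaf 27818049) (.leaf 11104337))) (.node 1 (.leaf 9269313) (.node 1 (.leaf 11098187) (.leaf 25710681))))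
(.node 3 (.node 1 (.leaf 19664963) (.node 1 (.leaf 27547737) (.leaf 19746881))) (.node 1 (.leaf 9197659) (.node 1 (.leaf 19691587) (.leaf 17119315)))))
(.node 6 (.node 3 (.node 1 (.leaf 27537497) (.node 1 (.leaf 11341889) (.leaf 8925257))) (.node 1 (.leaf 25770073) (.node 1 (.leaf 19683417) (.leaf 17111113))))
(.node 3 (.node 1 (.leaf 27529283) (.node 1 (.leaf 11350107) (.leaf 8917075))) (.node 1 (.leaf 25761859) (.node 1 (.leaf 8927315) (.leaf 11276377))))))
(.node 12 (.node 6 (.node 3 (.node 1 (.leaf 19732545) (.node 1 (.leaf 11358299) (.leaf 8941651))) (.node 1 (.leaf 25786435) (.node 1 (.leaf 17576025) (.leaf 19167307))))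
(.node 3 (.node 1 (.leaf 27619395) (.node 1 (.leaf 19150923) (.leaf 17659995))) (.node 1 (.leaf 25507921) (.node 1 (.leaf 27873355) (.leaf 19142739)))))
(.node 6 (.node 3 (.node 1 (.leaf 17651779) (.node 1 (.leaf 11292761) (.leaf 17633347))) (.node 1 (.leaf 19224657) (.node 1 (.leaf 25448539) (.leaf 27873361))))
(.node 3 (.node 1 (.leaf 25440329) (.node 1 (.leaf 17119297) (.leaf 11286617))) (.node 1 (.leaf 19738689) (.node 1 (.leaf 11278425) (.leaf 8992849)))))))
(.node 24 (.node 12 (.node 6 (.node 3 (.node 1 (.leaf 27799619) (.node 1 (.leaf 19757121) (.leaf 25759825))) (.node 1 (.leaf 27621451) (.node 1 (.leaf 17068097) (.leaf 25720915))))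
(.node 3 (.node 1 (.leaf 9007171) (.node 1 (.leaf 27865169) (.leaf 17127489))) (.node 1 (.leaf 11294809) (.node 1 (.leaf 11303001) (.leaf 9001041)))))
(.node 6 (.node 3 (.node 1 (.leaf 27807811) (.node 1 (.leaf 27801675) (.leaf 11087963))) (.node 1 (.leaf 9189467) (.node 1 (.leaf 19755073) (.leaf 17051729))))
(.node 3 (.node 1 (.leaf 25507929) (.node 1 (.leaf 17127507) (.leaf 19730497))) (.node 1 (.leaf 9181275) (.node 1 (.leaf 27555921) (.leaf 25761865))))))
(.node 12 (.node 6 (.node 3 (.node 1 (.leaf 25784393) (.node 1 (.leaf 17111131) (.leaf 27529297))) (.node 1 (.leaf 11350089) (.node 1 (.leaf 8917057) (.leaf 17111115))))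
(.node 3 (.node 1 (.leaf 9197635) (.node 1 (.leaf 27539529) (.leaf 25778257))) (.node 1 (.leaf 25768017) (.node 1 (.leaf 27613259) (.leaf 17059905)))))
(.node 6 (.node 3 (.node 1 (.leaf 27529289) (.node 1 (.leaf 11040835) (.leaf 19216459))) (.node 1 (.leaf 17594459) (.node 1 (.leaf 9269315) (.leaf 17576027))))
(.node 3 (.node 1 (.leaf 27619393) (.node 1 (.leaf 11350099) (.leaf 8917083))) (.node 1 (.leaf 25761867) (.node 1 (.leaf 17584209) (.leaf 19142723))))))))))

/-- The stabiliser. -/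
def caseAFullN4ElsLR : Tab ℕ :=
(.node 192 (.node 96 (.node 48 (.node 24 (.node 12 (.node 6 (.node 3 (.node 1 (.leaf 27594827) (.node 1 (.leaf 19159107) (.leaf 17635411))) (.node 1 (.leaf 11276361) (.node 1 (.leaf 27603019) (.leaf 17053761))))
(.node 3 (.node 1 (.leaf 27611211) (.node 1 (.leaf 25702483) (.leaf 8992835))) (.node 1 (.leaf 27619403) (.node 1 (.leaf 17070145) (.leaf 11032659)))))
(.node 6 (.node 3 (.node 1 (.leaf 9271387) (.node 1 (.leaf 19689537) (.leaf 9261147))) (.node 1 (.leaf 11106385) (.node 1 (.leaf 25718851) (.leaf 25696339))))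
(.node 3 (.node 1 (.leaf 11276371) (.node 1 (.leaf 27801673) (.leaf 19757137))) (.node 1 (.leaf 25505865) (.node 1 (.leaf 19675219) (.leaf 11350091))))))
(.node 12 (.node 6 (.node 3 (.node 1 (.leaf 19732561) (.node 1 (.leaf 17061953) (.leaf 25514057))) (.node 1 (.leaf 9205843) (.node 1 (.leaf 11030617) (.leaf 27875401))))
(.node 3 (.node 1 (.leaf 11038809) (.node 1 (.leaf 9261137) (.leaf 8941659))) (.node 1 (.leaf 25786443) (.node 1 (.leaf 17576017) (.leaf 19167299)))))
(.node 6 (.node 3 (.node 1 (.leaf 19150915) (.node 1 (.leaf 11300937) (.leaf 25770065))) (.node 1 (.leaf 25710675) (.node 1 (.leaf 9001027) (.leaf 25786449))))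
(.node 3 (.node 1 (.leaf 17045569) (.node 1 (.leaf 11024467) (.leaf 9246811))) (.node 1 (.leaf 19664961) (.node 1 (.leaf 9252955) (.leaf 11081809)))))))
(.node 24 (.node 12 (.node 6 (.node 3 (.node 1 (.leaf 25694275) (.node 1 (.leaf 17576009) (.leaf 19167323))) (.node 1 (.leaf 27619411) (.node 1 (.leaf 9263179) (.leaf 11104321))))
(.node 3 (.node 1 (.leaf 11096129) (.node 1 (.leaf 9203785) (.leaf 17659985))) (.node 1 (.leaf 25712723) (.node 1 (.leaf 27537481) (.leaf 19216449)))))
(.node 6 (.node 3 (.node 1 (.leaf 25694291) (.node 1 (.leaf 8984643) (.leaf 17059913))) (.node 1 (.leaf 11341891) (.node 1 (.leaf 19683419) (.leaf 27529281))))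
(.node 3 (.node 1 (.leaf 17659993) (.node 1 (.leaf 11300931) (.leaf 25718867))) (.node 1 (.leaf 9009219) (.node 1 (.leaf 27553865) (.leaf 19232833))))))
(.node 12 (.node 6 (.node 3 (.node 1 (.leaf 17659977) (.node 1 (.leaf 19214427) (.leaf 25442385))) (.node 1 (.leaf 11278411) (.node 1 (.leaf 27799633) (.leaf 11300939))))
(.node 3 (.node 1 (.leaf 8998979) (.node 1 (.leaf 27809873) (.leaf 19732553))) (.node 1 (.leaf 17061977) (.node 1 (.leaf 25514065) (.leaf 19142745)))))
(.node 6 (.node 3 (.node 1 (.leaf 17651785) (.node 1 (.leaf 11292755) (.leaf 17633353))) (.node 1 (.leaf 19224667) (.node 1 (.leaf 27873371) (.leaf 25440323))))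
(.node 3 (.node 1 (.leaf 17119307) (.node 1 (.leaf 8917081) (.leaf 11286611))) (.node 1 (.leaf 19738699) (.node 1 (.leaf 11278419) (.leaf 8992859))))))))
(.node 48 (.node 24 (.node 12 (.node 6 (.node 3 (.node 1 (.leaf 27799625) (.node 1 (.leaf 11300947) (.leaf 19757131))) (.node 1 (.leaf 25759835) (.node 1 (.leaf 27621441) (.leaf 17068107))))
(.node 3 (.node 1 (.leaf 27596865) (.node 1 (.leaf 25720921) (.leaf 9007177))) (.node 1 (.leaf 19142737) (.node 1 (.leaf 17651777) (.leaf 27603027)))))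
(.node 6 (.node 3 (.node 1 (.leaf 25710667) (.node 1 (.leaf 9001051) (.leaf 27545681))) (.node 1 (.leaf 19224665) (.node 1 (.leaf 17651793) (.leaf 19206211))))
(.node 3 (.node 1 (.leaf 25434185) (.node 1 (.leaf 8984667) (.leaf 27791433))) (.node 1 (.leaf 27818057) (.node 1 (.leaf 19740753) (.leaf 25522249))))))
(.node 12 (.node 6 (.node 3 (.node 1 (.leaf 17051713) (.node 1 (.leaf 11366475) (.leaf 17633361))) (.node 1 (.leaf 19224643) (.node 1 (.leaf 8999003) (.leaf 27809865))))
(.node 3 (.node 1 (.leaf 9009243) (.node 1 (.leaf 11358289) (.leaf 17586251))) (.node 1 (.leaf 17569857) (.node 1 (.leaf 9244761) (.leaf 11081817)))))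
(.node 6 (.node 3 (.node 1 (.leaf 27816009) (.node 1 (.leaf 25497681) (.leaf 19142747))) (.node 1 (.leaf 25448531) (.node 1 (.leaf 17135697) (.leaf 19738691))))
(.node 3 (.node 1 (.leaf 19755075) (.node 1 (.leaf 17051731) (.leaf 25440345))) (.node 1 (.leaf 17119313) (.node 1 (.leaf 8917059) (.leaf 11286601)))))))
(.node 24 (.node 12 (.node 6 (.node 3 (.node 1 (.leaf 19738705) (.node 1 (.leaf 11278409) (.leaf 8992833))) (.node 1 (.leaf 27799635) (.node 1 (.leaf 25440321) (.leaf 27809883))))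
(.node 3 (.node 1 (.leaf 11096139) (.node 1 (.leaf 17111107) (.leaf 19746897))) (.node 1 (.leaf 19730513) (.node 1 (.leaf 25516105) (.leaf 17119299)))))
(.node 6 (.node 3 (.node 1 (.leaf 19755089) (.node 1 (.leaf 9205835) (.leaf 27531329))) (.node 1 (.leaf 25786457) (.node 1 (.leaf 25759833) (.leaf 27621443))))
(.node 3 (.node 1 (.leaf 17068105) (.node 1 (.leaf 25499721) (.leaf 19664979))) (.node 1 (.leaf 11343947) (.node 1 (.leaf 25524297) (.leaf 9195603))))))
(.node 12 (.node 6 (.node 3 (.node 1 (.leaf 11040857) (.node 1 (.leaf 27881545) (.leaf 11032665))) (.node 1 (.leaf 9271377) (.node 1 (.leaf 19689547) (.leaf 19673171))))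
(.node 3 (.node 1 (.leaf 11352139) (.node 1 (.leaf 8992851) (.leaf 17569859))) (.node 1 (.leaf 27818065) (.node 1 (.leaf 19140675) (.leaf 27859027)))))
(.node 6 (.node 3 (.node 1 (.leaf 11106387) (.node 1 (.leaf 17649731) (.leaf 9203803))) (.node 1 (.leaf 11032657) (.node 1 (.leaf 9181267) (.leaf 11022425))))
(.node 3 (.node 1 (.leaf 27867209) (.node 1 (.leaf 11014233) (.leaf 9252945))) (.node 1 (.leaf 19675211) (.node 1 (.leaf 25759811) (.leaf 27621465)))))))))
(.node 96 (.node 48 (.node 24 (.node 12 (.node 6 (.node 3 (.node 1 (.leaf 17068115) (.node 1 (.leaf 9263177) (.leaf 11104323))) (.node 1 (.leaf 25720913) (.node 1 (.leaf 25696347) (.leaf 19681363))))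
(.node 3 (.node 1 (.leaf 17109059) (.node 1 (.leaf 27531337) (.leaf 25516099))) (.node 1 (.leaf 17119305) (.node 1 (.leaf 27596867) (.leaf 25720923)))))
(.node 6 (.node 3 (.node 1 (.leaf 9007179) (.node 1 (.leaf 19689555) (.leaf 11368523))) (.node 1 (.leaf 17133635) (.node 1 (.leaf 25720899) (.leaf 27529305))))
(.node 3 (.node 1 (.leaf 19208273) (.node 1 (.leaf 17567825) (.leaf 8919107))) (.node 1 (.leaf 25759827) (.node 1 (.leaf 9007169) (.leaf 11360331))))))
(.node 12 (.node 6 (.node 3 (.node 1 (.leaf 25514075) (.node 1 (.leaf 19159121) (.leaf 8941635))) (.node 1 (.leaf 11294793) (.node 1 (.leaf 11302985) (.leaf 9001025))))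
(.node 3 (.node 1 (.leaf 27807827) (.node 1 (.leaf 27801691) (.leaf 11087947))) (.node 1 (.leaf 17135683) (.node 1 (.leaf 9189451) (.leaf 17127491)))))
(.node 6 (.node 3 (.node 1 (.leaf 9181259) (.node 1 (.leaf 27555905) (.leaf 25761881))) (.node 1 (.leaf 11014219) (.node 1 (.leaf 25784409) (.leaf 17043529))))
(.node 3 (.node 1 (.leaf 11294803) (.node 1 (.leaf 9187411) (.leaf 11016281))) (.node 1 (.leaf 27856969) (.node 1 (.leaf 11024473) (.leaf 9246801)))))))
(.node 24 (.node 12 (.node 6 (.node 3 (.node 1 (.leaf 19664971) (.node 1 (.leaf 11302995) (.leaf 27807817))) (.node 1 (.leaf 9001043) (.node 1 (.leaf 17594435) (.leaf 19165251))))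
(.node 3 (.node 1 (.leaf 25497673) (.node 1 (.leaf 8941633) (.leaf 27807825))) (.node 1 (.leaf 11081811) (.node 1 (.leaf 9179227) (.leaf 11024465)))))
(.node 6 (.node 3 (.node 1 (.leaf 27801667) (.node 1 (.leaf 11087955) (.leaf 17135707))) (.node 1 (.leaf 19738697) (.node 1 (.leaf 9189459) (.leaf 19755081))))
(.node 3 (.node 1 (.leaf 17051737) (.node 1 (.leaf 27801689) (.leaf 25516097))) (.node 1 (.leaf 19157067) (.node 1 (.leaf 11104347) (.leaf 9179219))))))
(.node 12 (.node 6 (.node 3 (.node 1 (.leaf 17635403) (.node 1 (.leaf 25718873) (.leaf 27531331))) (.node 1 (.leaf 19206219) (.node 1 (.leaf 27555907) (.leaf 11014217))))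
(.node 3 (.node 1 (.leaf 25770059) (.node 1 (.leaf 27859017) (.leaf 17649745))) (.node 1 (.leaf 19208259) (.node 1 (.leaf 25432137) (.leaf 17569875)))))
(.node 6 (.node 3 (.node 1 (.leaf 9244747) (.node 1 (.leaf 9254993) (.leaf 19673163))) (.node 1 (.leaf 11366491) (.node 1 (.leaf 25499731) (.leaf 8943707))))
(.node 3 (.node 1 (.leaf 25456721) (.node 1 (.leaf 17135705) (.leaf 25507923))) (.node 1 (.leaf 8935515) (.node 1 (.leaf 17633345) (.leaf 19224659))))))))
(.node 48 (.node 24 (.node 12 (.node 6 (.node 3 (.node 1 (.leaf 19730499) (.node 1 (.leaf 9181273) (.leaf 27555923))) (.node 1 (.leaf 25784395) (.node 1 (.leaf 27596881) (.leaf 17043547))))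
(.node 3 (.node 1 (.leaf 9203795) (.node 1 (.leaf 9263185) (.leaf 19681355))) (.node 1 (.leaf 17657937) (.node 1 (.leaf 19216451) (.leaf 19232835)))))
(.node 6 (.node 3 (.node 1 (.leaf 17578067) (.node 1 (.leaf 9252939) (.leaf 27555931))) (.node 1 (.leaf 11014225) (.node 1 (.leaf 19222617) (.leaf 17567817))))
(.node 3 (.node 1 (.leaf 17586249) (.node 1 (.leaf 19140699) (.leaf 11106395))) (.node 1 (.leaf 25718857) (.node 1 (.leaf 27875419) (.leaf 25442371))))))
(.node 12 (.node 6 (.node 3 (.node 1 (.leaf 17117259) (.node 1 (.leaf 11087945) (.leaf 25784411))) (.node 1 (.leaf 17043531) (.node 1 (.leaf 9244753) (.leaf 19667019))))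
(.node 3 (.node 1 (.leaf 11079771) (.node 1 (.leaf 25696329) (.leaf 27596891))) (.node 1 (.leaf 9007187) (.node 1 (.leaf 17053785) (.leaf 11368531)))))
(.node 6 (.node 3 (.node 1 (.leaf 17133659) (.node 1 (.leaf 25776193) (.leaf 27605083))) (.node 1 (.leaf 19675217) (.node 1 (.leaf 9246795) (.leaf 11087937))))
(.node 3 (.node 1 (.leaf 25704531) (.node 1 (.leaf 27605057) (.leaf 25712729))) (.node 1 (.leaf 8998985) (.node 1 (.leaf 19681361) (.leaf 11360329)))))))
(.node 24 (.node 12 (.node 6 (.node 3 (.node 1 (.leaf 19664977) (.node 1 (.leaf 17125441) (.leaf 27547723))) (.node 1 (.leaf 11366473) (.node 1 (.leaf 25499713) (.leaf 27881563))))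
(.node 3 (.node 1 (.leaf 8943689) (.node 1 (.leaf 25456707) (.leaf 27613249))) (.node 1 (.leaf 8990793) (.node 1 (.leaf 19673169) (.leaf 19689553)))))
(.node 6 (.node 3 (.node 1 (.leaf 17117249) (.node 1 (.leaf 27539531) (.leaf 27545691))) (.node 1 (.leaf 17584211) (.node 1 (.leaf 11368521) (.leaf 25776209))))
(.node 3 (.node 1 (.leaf 8990787) (.node 1 (.leaf 11343945) (.leaf 17567827))) (.node 1 (.leaf 27816001) (.node 1 (.leaf 8982611) (.leaf 19748953))))))
(.node 12 (.node 6 (.node 3 (.node 1 (.leaf 17045577) (.node 1 (.leaf 8982619) (.leaf 17576011))) (.node 1 (.leaf 27807833) (.node 1 (.leaf 25505857) (.leaf 27865179))))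
(.node 3 (.node 1 (.leaf 8927305) (.node 1 (.leaf 19165259) (.leaf 11096155))) (.node 1 (.leaf 17659979) (.node 1 (.leaf 9197651) (.leaf 27883593)))))
(.node 6 (.node 3 (.node 1 (.leaf 17045587) (.node 1 (.leaf 25497691) (.leaf 9189441))) (.node 1 (.leaf 27859035) (.node 1 (.leaf 11022411) (.leaf 9244739))))
(.node 3 (.node 1 (.leaf 19667033) (.node 1 (.leaf 8933449) (.leaf 27867227))) (.node 1 (.leaf 25450563) (.node 1 (.leaf 17125451) (.leaf 8941641))))))))))

/-- The stabiliser. -/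
def caseAFullN4ElsL : Tab ℕ := .node 384 caseAFullN4ElsLL caseAFullN4ElsLR

/-- The stabiliser. -/
def caseAFullN4ElsRL : Tab ℕ :=
(.node 192 (.node 96 (.node 48 (.node 24 (.node 12 (.node 6 (.node 3 (.node 1 (.leaf 19148867) (.node 1 (.leaf 17657939) (.leaf 17643603))) (.node 1 (.leaf 19230785) (.node 1 (.leaf 25458763) (.leaf 25432131))))
(.node 3 (.node 1 (.leaf 27545689) (.node 1 (.leaf 11366465) (.leaf 25778265))) (.node 1 (.leaf 11292739) (.node 1 (.leaf 17592387) (.leaf 19150929)))))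
(.node 6 (.node 3 (.node 1 (.leaf 27603033) (.node 1 (.leaf 19167313) (.leaf 17643585))) (.node 1 (.leaf 17070163) (.node 1 (.leaf 25522267) (.leaf 11030603))))
(.node 3 (.node 1 (.leaf 19691609) (.node 1 (.leaf 25514049) (.leaf 25522241))) (.node 1 (.leaf 8917065) (.node 1 (.leaf 19157059) (.leaf 17633363))))))
(.node 12 (.node 6 (.node 3 (.node 1 (.leaf 17651795) (.node 1 (.leaf 19206209) (.leaf 25434187))) (.node 1 (.leaf 17641563) (.node 1 (.leaf 19232841) (.leaf 19216457))))
(.node 3 (.node 1 (.leaf 17594457) (.node 1 (.leaf 27809881) (.leaf 11096137))) (.node 1 (.leaf 25434179) (.node 1 (.leaf 17109067) (.leaf 8927321)))))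
(.node 6 (.node 3 (.node 1 (.leaf 19732555) (.node 1 (.leaf 11284563) (.leaf 27793481))) (.node 1 (.leaf 9269329) (.node 1 (.leaf 19691595) (.leaf 25458755))))
(.node 3 (.node 1 (.leaf 17133643) (.node 1 (.leaf 27818073) (.leaf 11104329))) (.node 1 (.leaf 11098195) (.node 1 (.leaf 25710657) (.leaf 19664987)))))))
(.node 24 (.node 12 (.node 6 (.node 3 (.node 1 (.leaf 27547713) (.node 1 (.leaf 19691611) (.leaf 27537473))) (.node 1 (.leaf 9252953) (.node 1 (.leaf 19675203) (.leaf 9246809))))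
(.node 3 (.node 1 (.leaf 27605075) (.node 1 (.leaf 25712715) (.leaf 19681347))) (.node 1 (.leaf 11360347) (.node 1 (.leaf 11014209) (.leaf 9252937)))))
(.node 6 (.node 3 (.node 1 (.leaf 27801665) (.node 1 (.leaf 11087953) (.leaf 9252929))) (.node 1 (.leaf 11081803) (.node 1 (.leaf 25694297) (.leaf 27531353))))
(.node 3 (.node 1 (.leaf 27553881) (.node 1 (.leaf 11358273) (.leaf 8935497))) (.node 1 (.leaf 19757147) (.node 1 (.leaf 9246785) (.leaf 19740737))))))
(.node 12 (.node 6 (.node 3 (.node 1 (.leaf 9187419) (.node 1 (.leaf 9179209) (.leaf 17635409))) (.node 1 (.leaf 19206225) (.node 1 (.leaf 27555929) (.leaf 25761857))))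
(.node 3 (.node 1 (.leaf 25704515) (.node 1 (.leaf 8935491) (.leaf 25712721))) (.node 1 (.leaf 8998977) (.node 1 (.leaf 19681369) (.leaf 11360321)))))
(.node 6 (.node 3 (.node 1 (.leaf 19664985) (.node 1 (.leaf 17125449) (.leaf 27547715))) (.node 1 (.leaf 25712713) (.node 1 (.leaf 27537491) (.leaf 19216475))))
(.node 3 (.node 1 (.leaf 11352129) (.node 1 (.leaf 11343937) (.leaf 25768025))) (.node 1 (.leaf 8998987) (.node 1 (.leaf 11368513) (.leaf 25522257))))))))
(.node 48 (.node 24 (.node 12 (.node 6 (.node 3 (.node 1 (.leaf 25499729) (.node 1 (.leaf 27881547) (.leaf 8943705))) (.node 1 (.leaf 11278403) (.node 1 (.leaf 19730523) (.leaf 17578051))))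
(.node 3 (.node 1 (.leaf 19165265) (.node 1 (.leaf 19148881) (.leaf 17657921))) (.node 1 (.leaf 11303003) (.node 1 (.leaf 11294787) (.leaf 19746907)))))
(.node 6 (.node 3 (.node 1 (.leaf 17125443) (.node 1 (.leaf 9179211) (.leaf 27553857))) (.node 1 (.leaf 11016267) (.node 1 (.leaf 27594819) (.leaf 19230787))))
(.node 3 (.node 1 (.leaf 9254987) (.node 1 (.leaf 17594451) (.leaf 19148865))) (.node 1 (.leaf 17567811) (.node 1 (.leaf 27611225) (.leaf 25499723))))))
(.node 12 (.node 6 (.node 3 (.node 1 (.leaf 27881553) (.node 1 (.leaf 8943683) (.leaf 17641561))) (.node 1 (.leaf 19232843) (.node 1 (.leaf 25456705) (.leaf 25432147))))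
(.node 3 (.node 1 (.leaf 11286595) (.node 1 (.leaf 8984651) (.leaf 27791449))) (.node 1 (.leaf 25768011) (.node 1 (.leaf 8999001) (.leaf 27856971)))))
(.node 6 (.node 3 (.node 1 (.leaf 25456723) (.node 1 (.leaf 11302979) (.leaf 19755099))) (.node 1 (.leaf 9009227) (.node 1 (.leaf 25456715) (.leaf 11079745))))
(.node 3 (.node 1 (.leaf 9181249) (.node 1 (.leaf 25499715) (.leaf 17135689))) (.node 1 (.leaf 19738715) (.node 1 (.leaf 25770067) (.leaf 11022401)))))))
(.node 24 (.node 12 (.node 6 (.node 3 (.node 1 (.leaf 19673177) (.node 1 (.leaf 19689561) (.leaf 17117257))) (.node 1 (.leaf 27539523) (.node 1 (.leaf 27545683) (.leaf 17584219))))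
(.node 3 (.node 1 (.leaf 8990795) (.node 1 (.leaf 17567835) (.leaf 25524305))) (.node 1 (.leaf 8919129) (.node 1 (.leaf 19673155) (.leaf 17586243)))))
(.node 6 (.node 3 (.node 1 (.leaf 19140689) (.node 1 (.leaf 27596889) (.leaf 19157073))) (.node 1 (.leaf 11278427) (.node 1 (.leaf 19689539) (.leaf 27539545))))
(.node 3 (.node 1 (.leaf 17117251) (.node 1 (.leaf 11040843) (.leaf 17070153))) (.node 1 (.leaf 27539521) (.node 1 (.leaf 19157057) (.leaf 27545675))))))
(.node 12 (.node 6 (.node 3 (.node 1 (.leaf 11360345) (.node 1 (.leaf 17584195) (.leaf 11368537))) (.node 1 (.leaf 8935505) (.node 1 (.leaf 25768009) (.leaf 11024475))))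
(.node 3 (.node 1 (.leaf 19232851) (.node 1 (.leaf 25458769) (.leaf 27791435))) (.node 1 (.leaf 11081819) (.node 1 (.leaf 27816011) (.leaf 27594841)))))
(.node 6 (.node 3 (.node 1 (.leaf 9254977) (.node 1 (.leaf 11079755) (.leaf 25696345))) (.node 1 (.leaf 9179203) (.node 1 (.leaf 17635419) (.leaf 17649729))))
(.node 3 (.node 1 (.leaf 11294811) (.node 1 (.leaf 19757139) (.leaf 25720897))) (.node 1 (.leaf 9007185) (.node 1 (.leaf 25776195) (.leaf 9246793)))))))))
(.node 96 (.node 48 (.node 24 (.node 12 (.node 6 (.node 3 (.node 1 (.leaf 27816003) (.node 1 (.leaf 25524315) (.leaf 27856961))) (.node 1 (.leaf 8919123) (.node 1 (.leaf 17641537) (.leaf 11286619))))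
(.node 3 (.node 1 (.leaf 9271361) (.node 1 (.leaf 11104331) (.leaf 9195587))) (.node 1 (.leaf 27816019) (.node 1 (.leaf 19142721) (.leaf 11090001)))))
(.node 6 (.node 3 (.node 1 (.leaf 9187417) (.node 1 (.leaf 11016275) (.leaf 19230803))) (.node 1 (.leaf 25458777) (.node 1 (.leaf 25524307) (.leaf 8919131))))
(.node 3 (.node 1 (.leaf 17635393) (.node 1 (.leaf 11276379) (.leaf 19208275))) (.node 1 (.leaf 25432153) (.node 1 (.leaf 27856979) (.leaf 9009235))))))
(.node 12 (.node 6 (.node 3 (.node 1 (.leaf 8982609) (.node 1 (.leaf 11352155) (.leaf 25505867))) (.node 1 (.leaf 19150913) (.node 1 (.leaf 25516107) (.leaf 8927299))))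
(.node 3 (.node 1 (.leaf 25524299) (.node 1 (.leaf 19165249) (.leaf 9203801))) (.node 1 (.leaf 17659969) (.node 1 (.leaf 19748937) (.leaf 17045593)))))
(.node 6 (.node 3 (.node 1 (.leaf 27859025) (.node 1 (.leaf 9244745) (.leaf 19667027))) (.node 1 (.leaf 19681371) (.node 1 (.leaf 11360323) (.leaf 27875409))))
(.node 3 (.node 1 (.leaf 8933443) (.node 1 (.leaf 27867217) (.leaf 25450569))) (.node 1 (.leaf 19148873) (.node 1 (.leaf 17657945) (.leaf 19230795)))))))
(.node 24 (.node 12 (.node 6 (.node 3 (.node 1 (.leaf 25458753) (.node 1 (.leaf 27856977) (.leaf 17111105))) (.node 1 (.leaf 25778259) (.node 1 (.leaf 11292745) (.leaf 19748945))))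
(.node 3 (.node 1 (.leaf 11341899) (.node 1 (.leaf 8925251) (.leaf 17592393))) (.node 1 (.leaf 19150939) (.node 1 (.leaf 11352147) (.leaf 25505859)))))
(.node 6 (.node 3 (.node 1 (.leaf 11352153) (.node 1 (.leaf 25759809) (.leaf 17586267))) (.node 1 (.leaf 19140681) (.node 1 (.leaf 19157065) (.leaf 17633369))))
(.node 3 (.node 1 (.leaf 9263193) (.node 1 (.leaf 11104339) (.leaf 11096147))) (.node 1 (.leaf 27807819) (.node 1 (.leaf 25505875) (.leaf 19150937))))))
(.node 12 (.node 6 (.node 3 (.node 1 (.leaf 11081801) (.node 1 (.leaf 9179201) (.leaf 11024459))) (.node 1 (.leaf 17649753) (.node 1 (.leaf 17635417) (.leaf 19222603))))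
(.node 3 (.node 1 (.leaf 25450561) (.node 1 (.leaf 27865163) (.leaf 17127515))) (.node 1 (.leaf 9001035) (.node 1 (.leaf 11276355) (.leaf 19732571)))))
(.node 6 (.node 3 (.node 1 (.leaf 27621457) (.node 1 (.leaf 19165273) (.leaf 9203777))) (.node 1 (.leaf 19159113) (.node 1 (.leaf 19208267) (.leaf 25432129))))
(.node 3 (.node 1 (.leaf 19165257) (.node 1 (.leaf 19214401) (.leaf 11038793))) (.node 1 (.leaf 9263171) (.node 1 (.leaf 19214411) (.leaf 25442369))))))))
(.node 48 (.node 24 (.node 12 (.node 6 (.node 3 (.node 1 (.leaf 27799617) (.node 1 (.leaf 17576003) (.leaf 11038801))) (.node 1 (.leaf 27883585) (.node 1 (.leaf 9261139) (.leaf 19683401))))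
(.node 3 (.node 1 (.leaf 27867225) (.node 1 (.leaf 27883609) (.leaf 25434177))) (.node 1 (.leaf 17109065) (.node 1 (.leaf 8927323) (.leaf 11276369)))))
(.node 6 (.node 3 (.node 1 (.leaf 9189457) (.node 1 (.leaf 27859019) (.leaf 11022427))) (.node 1 (.leaf 9244755) (.node 1 (.leaf 19681345) (.leaf 25505873))))
(.node 3 (.node 1 (.leaf 27875403) (.node 1 (.leaf 8933465) (.leaf 27867211))) (.node 1 (.leaf 25450579) (.node 1 (.leaf 17125467) (.leaf 8941657))))))
(.node 12 (.node 6 (.node 3 (.node 1 (.leaf 19148883) (.node 1 (.leaf 17657923) (.leaf 17643587))) (.node 1 (.leaf 19230801) (.node 1 (.leaf 9189449) (.leaf 17649739))))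
(.node 3 (.node 1 (.leaf 19208281) (.node 1 (.leaf 17569865) (.leaf 19675227))) (.node 1 (.leaf 25442387) (.node 1 (.leaf 17117275) (.leaf 11022409)))))
(.node 6 (.node 3 (.node 1 (.leaf 9244737) (.node 1 (.leaf 17109083) (.leaf 11079769))) (.node 1 (.leaf 11089987) (.node 1 (.leaf 25702481) (.leaf 27539537))))
(.node 3 (.node 1 (.leaf 8933441) (.node 1 (.leaf 8943681) (.leaf 11292747))) (.node 1 (.leaf 27619409) (.node 1 (.leaf 27594833) (.leaf 9009241)))))))
(.node 24 (.node 12 (.node 6 (.node 3 (.node 1 (.leaf 25450571) (.node 1 (.leaf 11089985) (.leaf 17133641))) (.node 1 (.leaf 9187393) (.node 1 (.leaf 17053771) (.leaf 27553867))))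
(.node 3 (.node 1 (.leaf 11016257) (.node 1 (.leaf 25786451) (.leaf 27594825))) (.node 1 (.leaf 27611217) (.node 1 (.leaf 17061979) (.leaf 27603025)))))
(.node 6 (.node 3 (.node 1 (.leaf 25710665) (.node 1 (.leaf 9001049) (.leaf 11302987))) (.node 1 (.leaf 25694299) (.node 1 (.leaf 19230793) (.leaf 19216467))))
(.node 3 (.node 1 (.leaf 11350081) (.node 1 (.leaf 17578075) (.leaf 9254985))) (.node 1 (.leaf 19148875) (.node 1 (.leaf 25432139) (.leaf 9205825))))))
(.node 12 (.node 6 (.node 3 (.node 1 (.leaf 25524291) (.node 1 (.leaf 25768019) (.leaf 11366483))) (.node 1 (.leaf 8933467) (.node 1 (.leaf 25778251) (.leaf 11292753))))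
(.node 3 (.node 1 (.leaf 17578049) (.node 1 (.leaf 17592385) (.leaf 27603035))) (.node 1 (.leaf 19159129) (.node 1 (.leaf 17053787) (.leaf 11016265)))))
(.node 6 (.node 3 (.node 1 (.leaf 19673179) (.node 1 (.leaf 11089995) (.leaf 25702489))) (.node 1 (.leaf 27818067) (.node 1 (.leaf 11022403) (.leaf 8925249))))
(.node 3 (.node 1 (.leaf 17592395) (.node 1 (.leaf 19167321) (.leaf 17643593))) (.node 1 (.leaf 25694281) (.node 1 (.leaf 8984665) (.leaf 11040841))))))))))

/-- The stabiliser. -/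
def caseAFullN4ElsRR : Tab ℕ :=
(.node 192 (.node 96 (.node 48 (.node 24 (.node 12 (.node 6 (.node 3 (.node 1 (.leaf 9263169) (.node 1 (.leaf 17592403) (.leaf 27603017))) (.node 1 (.leaf 27553875) (.node 1 (.leaf 19232859) (.leaf 17043539))))
(.node 3 (.node 1 (.leaf 11358297) (.node 1 (.leaf 11284569) (.leaf 25702473))) (.node 1 (.leaf 8992857) (.node 1 (.leaf 11294801) (.leaf 19673153)))))
(.node 6 (.node 3 (.node 1 (.leaf 8925273) (.node 1 (.leaf 19157075) (.leaf 17641547))) (.node 1 (.leaf 19232857) (.node 1 (.leaf 19216473) (.leaf 17594441))))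
(.node 3 (.node 1 (.leaf 9261121) (.node 1 (.leaf 25440339) (.leaf 11096153))) (.node 1 (.leaf 11030601) (.node 1 (.leaf 11104345) (.leaf 11098179))))))
(.node 12 (.node 6 (.node 3 (.node 1 (.leaf 25710673) (.node 1 (.leaf 27547729) (.leaf 19746889))) (.node 1 (.leaf 17119323) (.node 1 (.leaf 27537489) (.leaf 8919105))))
(.node 3 (.node 1 (.leaf 25514059) (.node 1 (.leaf 25442379) (.leaf 11098177))) (.node 1 (.leaf 9195585) (.node 1 (.leaf 17061963) (.leaf 25514051)))))
(.node 6 (.node 3 (.node 1 (.leaf 27529291) (.node 1 (.leaf 25784403) (.leaf 11040833))) (.node 1 (.leaf 25761875) (.node 1 (.leaf 27619401) (.leaf 17651801))))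
(.node 3 (.node 1 (.leaf 25718875) (.node 1 (.leaf 19206217) (.leaf 8992843))) (.node 1 (.leaf 27799641) (.node 1 (.leaf 17070161) (.leaf 19206227)))))))
(.node 24 (.node 12 (.node 6 (.node 3 (.node 1 (.leaf 25434201) (.node 1 (.leaf 11106377) (.leaf 17641555))) (.node 1 (.leaf 17594449) (.node 1 (.leaf 9261145) (.leaf 19683395))))
(.node 3 (.node 1 (.leaf 27867219) (.node 1 (.leaf 25440331) (.leaf 19732547))) (.node 1 (.leaf 17641545) (.node 1 (.leaf 17578073) (.leaf 27816017)))))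
(.node 6 (.node 3 (.node 1 (.leaf 11106369) (.node 1 (.leaf 27791441) (.leaf 11081793))) (.node 1 (.leaf 17641553) (.node 1 (.leaf 17111129) (.leaf 19746891))))
(.node 3 (.node 1 (.leaf 17059915) (.node 1 (.leaf 27809867) (.leaf 19148889))) (.node 1 (.leaf 11079753) (.node 1 (.leaf 25694283) (.leaf 27531345))))))
(.node 12 (.node 6 (.node 3 (.node 1 (.leaf 25786441) (.node 1 (.leaf 27537483) (.leaf 11032641))) (.node 1 (.leaf 27611209) (.node 1 (.leaf 17061955) (.leaf 8982601))))
(.node 3 (.node 1 (.leaf 19675225) (.node 1 (.leaf 9205849) (.leaf 27793475))) (.node 1 (.leaf 27793499) (.node 1 (.leaf 9203793) (.leaf 27859033)))))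
(.node 6 (.node 3 (.node 1 (.leaf 27818075) (.node 1 (.leaf 11098193) (.leaf 25710659))) (.node 1 (.leaf 27537475) (.node 1 (.leaf 8925267) (.leaf 25770051))))
(.node 3 (.node 1 (.leaf 11024449) (.node 1 (.leaf 17053763) (.leaf 27818059))) (.node 1 (.leaf 19140697) (.node 1 (.leaf 25702475) (.leaf 25778249))))))))
(.node 48 (.node 24 (.node 12 (.node 6 (.node 3 (.node 1 (.leaf 11098201) (.node 1 (.leaf 19746899) (.leaf 9205851))) (.node 1 (.leaf 25696337) (.node 1 (.leaf 19214403) (.leaf 8984659))))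
(.node 3 (.node 1 (.leaf 11350105) (.node 1 (.leaf 9187403) (.leaf 17594443))) (.node 1 (.leaf 27531339) (.node 1 (.leaf 27621449) (.leaf 17068099)))))
(.node 6 (.node 3 (.node 1 (.leaf 19208265) (.node 1 (.leaf 17586265) (.leaf 17567833))) (.node 1 (.leaf 19159115) (.node 1 (.leaf 27611203) (.leaf 25770057))))
(.node 3 (.node 1 (.leaf 19167297) (.node 1 (.leaf 17643601) (.leaf 25694289))) (.node 1 (.leaf 8984641) (.node 1 (.leaf 11040849) (.leaf 11350097))))))
(.node 12 (.node 6 (.node 3 (.node 1 (.leaf 27613267) (.node 1 (.leaf 17059929) (.leaf 11040859))) (.node 1 (.leaf 27619417) (.node 1 (.leaf 17584201) (.leaf 27594835))))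
(.node 3 (.node 1 (.leaf 19159131) (.node 1 (.leaf 27611219) (.leaf 17070169))) (.node 1 (.leaf 11032651) (.node 1 (.leaf 9271363) (.leaf 9261123)))))
(.node 6 (.node 3 (.node 1 (.leaf 25696331) (.node 1 (.leaf 27801681) (.leaf 19757129))) (.node 1 (.leaf 11300945) (.node 1 (.leaf 9246787) (.leaf 9252931))))
(.node 3 (.node 1 (.leaf 9263187) (.node 1 (.leaf 11300955) (.leaf 25718859))) (.node 1 (.leaf 27553873) (.node 1 (.leaf 25442377) (.leaf 27873347)))))))
(.node 24 (.node 12 (.node 6 (.node 3 (.node 1 (.leaf 11286603) (.node 1 (.leaf 19738707) (.leaf 19142729))) (.node 1 (.leaf 27545673) (.node 1 (.leaf 19224641) (.leaf 19206235))))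
(.node 3 (.node 1 (.leaf 25434193) (.node 1 (.leaf 19740745) (.leaf 11358281))) (.node 1 (.leaf 17586259) (.node 1 (.leaf 17569881) (.leaf 25448523)))))
(.node 6 (.node 3 (.node 1 (.leaf 17051723) (.node 1 (.leaf 11286609) (.leaf 27799627))) (.node 1 (.leaf 27809859) (.node 1 (.leaf 19730505) (.leaf 25516113))))
(.node 3 (.node 1 (.leaf 25786433) (.node 1 (.leaf 27621467) (.leaf 17068113))) (.node 1 (.leaf 11343955) (.node 1 (.leaf 9195595) (.leaf 9271369))))))
(.node 12 (.node 6 (.node 3 (.node 1 (.leaf 17569883) (.node 1 (.leaf 11106379) (.leaf 17649755))) (.node 1 (.leaf 9203779) (.node 1 (.leaf 11032649) (.leaf 25720905))))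
(.node 3 (.node 1 (.leaf 25696323) (.node 1 (.leaf 25516123) (.leaf 25759819))) (.node 1 (.leaf 9007193) (.node 1 (.leaf 11360339) (.leaf 25784385)))))
(.node 6 (.node 3 (.node 1 (.leaf 17043537) (.node 1 (.leaf 11294795) (.leaf 19165275))) (.node 1 (.leaf 11024457) (.node 1 (.leaf 25718849) (.leaf 27531355))))
(.node 3 (.node 1 (.leaf 17649737) (.node 1 (.leaf 19208283) (.leaf 25432145))) (.node 1 (.leaf 17569867) (.node 1 (.leaf 11366467) (.leaf 25456713)))))))))
(.node 96 (.node 48 (.node 24 (.node 12 (.node 6 (.node 3 (.node 1 (.leaf 17135681) (.node 1 (.leaf 25507915) (.leaf 27555915))) (.node 1 (.leaf 27596873) (.node 1 (.leaf 17043523) (.leaf 17657929))))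
(.node 3 (.node 1 (.leaf 17578059) (.node 1 (.leaf 19222593) (.leaf 17586257))) (.node 1 (.leaf 11106371) (.node 1 (.leaf 25718865) (.leaf 25784387)))))
(.node 6 (.node 3 (.node 1 (.leaf 11079747) (.node 1 (.leaf 25778267) (.leaf 25768027))) (.node 1 (.leaf 27594817) (.node 1 (.leaf 27611201) (.leaf 19746883))))
(.node 3 (.node 1 (.leaf 27539547) (.node 1 (.leaf 25778243) (.leaf 11030609))) (.node 1 (.leaf 11090011) (.node 1 (.leaf 27613275) (.leaf 8990803))))))
(.node 12 (.node 6 (.node 3 (.node 1 (.leaf 11341907) (.node 1 (.leaf 27881537) (.leaf 11098185))) (.node 1 (.leaf 11098203) (.node 1 (.leaf 27547721) (.leaf 17059923))))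
(.node 3 (.node 1 (.leaf 17584193) (.node 1 (.leaf 27594843) (.leaf 19159123))) (.node 1 (.leaf 17635395) (.node 1 (.leaf 17053777) (.leaf 27611227)))))
(.node 6 (.node 3 (.node 1 (.leaf 25702467) (.node 1 (.leaf 11032643) (.leaf 9271371))) (.node 1 (.leaf 9261131) (.node 1 (.leaf 17584217) (.leaf 9255003))))
(.node 3 (.node 1 (.leaf 11079761) (.node 1 (.leaf 9179225) (.leaf 17635401))) (.node 1 (.leaf 17053769) (.node 1 (.leaf 27859009) (.leaf 17133649)))))))
(.node 24 (.node 12 (.node 6 (.node 3 (.node 1 (.leaf 25702491) (.node 1 (.leaf 19222601) (.leaf 27867201))) (.node 1 (.leaf 27875393) (.node 1 (.leaf 25442393) (.leaf 17117265))))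
(.node 3 (.node 1 (.leaf 19689563) (.node 1 (.leaf 11106393) (.leaf 11032667))) (.node 1 (.leaf 19757123) (.node 1 (.leaf 17053779) (.leaf 25505883)))))
(.node 6 (.node 3 (.node 1 (.leaf 19675201) (.node 1 (.leaf 9195593) (.leaf 9205833))) (.node 1 (.leaf 27875411) (.node 1 (.leaf 11022417) (.leaf 8933459))))
(.node 3 (.node 1 (.leaf 19222619) (.node 1 (.leaf 25450577) (.leaf 27553859))) (.node 1 (.leaf 17061961) (.node 1 (.leaf 17109073) (.leaf 9205827))))))
(.node 12 (.node 6 (.node 3 (.node 1 (.leaf 27875417) (.node 1 (.leaf 27818051) (.leaf 19683409))) (.node 1 (.leaf 25450585) (.node 1 (.leaf 17125457) (.leaf 17061969))))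
(.node 3 (.node 1 (.leaf 11024451) (.node 1 (.leaf 9263195) (.leaf 25712707))) (.node 1 (.leaf 8998995) (.node 1 (.leaf 25770075) (.leaf 25710683)))))
(.node 6 (.node 3 (.node 1 (.leaf 19214409) (.node 1 (.leaf 17578057) (.leaf 8925275))) (.node 1 (.leaf 11081795) (.node 1 (.leaf 25712731) (.leaf 9195601))))
(.node 3 (.node 1 (.leaf 27537499) (.node 1 (.leaf 27791425) (.leaf 8925259))) (.node 1 (.leaf 17592401) (.node 1 (.leaf 27529299) (.leaf 8933451))))))))
(.node 48 (.node 24 (.node 12 (.node 6 (.node 3 (.node 1 (.leaf 27553883) (.node 1 (.leaf 11016273) (.leaf 19214417))) (.node 1 (.leaf 11352131) (.node 1 (.leaf 27791451) (.leaf 27881561))))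
(.node 3 (.node 1 (.leaf 8943691) (.node 1 (.leaf 9187409) (.leaf 9181265))) (.node 1 (.leaf 8984649) (.node 1 (.leaf 11343939) (.leaf 9009225)))))
(.node 6 (.node 3 (.node 1 (.leaf 27816027) (.node 1 (.leaf 27531347) (.leaf 17068123))) (.node 1 (.leaf 25702465) (.node 1 (.leaf 25499739) (.leaf 17061971))))
(.node 3 (.node 1 (.leaf 11343961) (.node 1 (.leaf 17569873) (.leaf 27791443))) (.node 1 (.leaf 27603011) (.node 1 (.leaf 17578065) (.leaf 8984657))))))
(.node 12 (.node 6 (.node 3 (.node 1 (.leaf 27791427) (.node 1 (.leaf 11343963) (.leaf 17567809))) (.node 1 (.leaf 27881555) (.node 1 (.leaf 19740761) (.leaf 19157081))))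
(.node 3 (.node 1 (.leaf 8943699) (.node 1 (.leaf 25456729) (.leaf 9009233))) (.node 1 (.leaf 17586241) (.node 1 (.leaf 9187401) (.leaf 9181257)))))
(.node 6 (.node 3 (.node 1 (.leaf 9009217) (.node 1 (.leaf 25768001) (.leaf 11016259))) (.node 1 (.leaf 25458761) (.node 1 (.leaf 25704539) (.leaf 19755091))))
(.node 3 (.node 1 (.leaf 27605067) (.node 1 (.leaf 19755083) (.leaf 27865171))) (.node 1 (.leaf 27809875) (.node 1 (.leaf 9195611) (.leaf 9271385)))))))
(.node 24 (.node 12 (.node 6 (.node 3 (.node 1 (.leaf 19140683) (.node 1 (.leaf 11079763) (.leaf 25768003))) (.node 1 (.leaf 9205841) (.node 1 (.leaf 9255001) (.leaf 25694273))))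
(.node 3 (.node 1 (.leaf 25516115) (.node 1 (.leaf 11368539) (.leaf 19214419))) (.node 1 (.leaf 9195609) (.node 1 (.leaf 17649747) (.leaf 9179217)))))
(.node 6 (.node 3 (.node 1 (.leaf 19222609) (.node 1 (.leaf 17109081) (.leaf 19214425))) (.node 1 (.leaf 19208257) (.node 1 (.leaf 19159105) (.leaf 27613251))))
(.node 3 (.node 1 (.leaf 17133657) (.node 1 (.leaf 8919115) (.leaf 17657947))) (.node 1 (.leaf 11368515) (.node 1 (.leaf 27547739) (.leaf 19730507))))))
(.node 12 (.node 6 (.node 3 (.node 1 (.leaf 19140691) (.node 1 (.leaf 25696321) (.leaf 9187395))) (.node 1 (.leaf 27856985) (.node 1 (.leaf 19222611) (.leaf 11090003))))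
(.node 3 (.node 1 (.leaf 25776219) (.node 1 (.leaf 19230811) (.leaf 9254995))) (.node 1 (.leaf 9254979) (.node 1 (.leaf 19222595) (.leaf 19140673)))))
(.node 6 (.node 3 (.node 1 (.leaf 17133633) (.node 1 (.leaf 11089993) (.leaf 25514067))) (.node 1 (.leaf 11040851) (.node 1 (.leaf 17643611) (.leaf 11090009))))
(.node 3 (.node 1 (.leaf 17592409) (.node 1 (.leaf 11284545) (.leaf 17109057))) (.node 1 (.leaf 19730515) (.node 1 (.leaf 11016283) (.leaf 9271379))))))))))

/-- The stabiliser. -/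
def caseAFullN4ElsR : Tab ℕ := .node 384 caseAFullN4ElsRL caseAFullN4ElsRR

/-- The stabiliser. -/
def caseAFullN4Els : Tab ℕ := .node 768 caseAFullN4ElsL caseAFullN4ElsR

/-- Its index. -/
def caseAFullN4Ix : BT ℕ :=
(.node 19140673 1523
(.node 11276353 55
(.node 9244737 1092
(.node 8998977 849
(.node 8941633 631
(.node 8927297 279
(.node 8919121 13
(.node 8917081 475
(.node 8917067 52 (.node 8917059 526 (.node 8917057 364 .tip .tip) (.node 8917065 789 .tip .tip)) (.node 8917075 308 (.node 8917073 258 .tip .tip) .tip))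
(.node 8919107 596 (.node 8919105 1181 (.node 8917083 380 .tip .tip) .tip) (.node 8919115 1507 (.node 8919113 1 .tip .tip) .tip)))
(.node 8925257 302
(.node 8919131 977 (.node 8919129 921 (.node 8919123 963 .tip .tip) .tip) (.node 8925251 1015 (.node 8925249 1145 .tip .tip) .tip))
(.node 8925267 1240 (.node 8925265 240 (.node 8925259 1436 .tip .tip) .tip) (.node 8925275 1430 (.node 8925273 1164 .tip .tip) .tip))))
(.node 8933457 219
(.node 8927321 803
(.node 8927307 54 (.node 8927305 750 (.node 8927299 989 .tip .tip) .tip) (.node 8927315 310 (.node 8927313 199 .tip .tip) .tip))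
(.node 8933443 1002 (.node 8933441 1098 (.node 8927323 1066 .tip .tip) .tip) (.node 8933451 1439 (.node 8933449 763 .tip .tip) .tip)))
(.node 8935497 836
(.node 8933467 1131 (.node 8933465 1075 (.node 8933459 1409 .tip .tip) .tip) (.node 8935491 847 (.node 8935489 68 .tip .tip) .tip))
(.node 8935507 9 (.node 8935505 939 (.node 8935499 44 .tip .tip) .tip) (.node 8935515 669 (.node 8935513 175 .tip .tip) .tip)))))
(.node 8984641 1269
(.node 8943697 158
(.node 8941657 1079
(.node 8941643 58 (.node 8941641 767 (.node 8941635 602 .tip .tip) .tip) (.node 8941651 314 (.node 8941649 224 .tip .tip) .tip))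
(.node 8943683 889 (.node 8943681 1099 (.node 8941659 416 .tip .tip) .tip) (.node 8943691 1446 (.node 8943689 726 .tip .tip) .tip)))
(.node 8982601 1229
(.node 8943707 665 (.node 8943705 866 (.node 8943699 1470 .tip .tip) .tip) (.node 8982595 192 (.node 8982593 122 .tip .tip) .tip))
(.node 8982611 742 (.node 8982609 984 (.node 8982603 184 .tip .tip) .tip) (.node 8982619 745 (.node 8982617 23 .tip .tip) .tip))))
(.node 8990801 164
(.node 8984665 1150
(.node 8984651 895 (.node 8984649 1449 (.node 8984643 445 .tip .tip) .tip) (.node 8984659 1253 (.node 8984657 1463 .tip .tip) .tip))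
(.node 8990787 738 (.node 8990785 21 (.node 8984667 499 .tip .tip) .tip) (.node 8990795 918 (.node 8990793 729 .tip .tip) .tip)))
(.node 8992841 81
(.node 8990811 177 (.node 8990809 120 (.node 8990803 1367 .tip .tip) .tip) (.node 8992835 392 (.node 8992833 530 .tip .tip) .tip))
(.node 8992851 559 (.node 8992849 335 (.node 8992843 1196 .tip .tip) .tip) (.node 8992859 479 (.node 8992857 1161 .tip .tip) .tip))))))
(.node 9187393 1107
(.node 9009217 1476
(.node 9001041 347
(.node 8999001 898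
(.node 8998987 861 (.node 8998985 717 (.node 8998979 462 .tip .tip) .tip) (.node 8998995 1425 (.node 8998993 149 .tip .tip) .tip))
(.node 9001027 424 (.node 9001025 605 (.node 8999003 508 .tip .tip) .tip) (.node 9001035 1041 (.node 9001033 97 .tip .tip) .tip)))
(.node 9007177 488
(.node 9001051 493 (.node 9001049 1117 (.node 9001043 627 .tip .tip) .tip) (.node 9007171 342 (.node 9007169 598 .tip .tip) .tip))
(.node 9007187 705 (.node 9007185 957 (.node 9007179 588 .tip .tip) .tip) (.node 9007195 90 (.node 9007193 1329 .tip .tip) .tip))))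
(.node 9179217 1499
(.node 9009241 1103
(.node 9009227 903 (.node 9009225 1451 (.node 9009219 453 .tip .tip) .tip) (.node 9009235 983 (.node 9009233 1472 .tip .tip) .tip))
(.node 9179203 951 (.node 9179201 1033 (.node 9009243 510 .tip .tip) .tip) (.node 9179211 877 (.node 9179209 841 .tip .tip) .tip)))
(.node 9181257 1475
(.node 9179227 634 (.node 9179225 1387 (.node 9179219 647 .tip .tip) .tip) (.node 9181251 109 (.node 9181249 906 .tip .tip) .tip))
(.node 9181267 568 (.node 9181265 1448 (.node 9181259 612 .tip .tip) .tip) (.node 9181275 357 (.node 9181273 673 .tip .tip) .tip)))))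
(.node 9197633 265
(.node 9189457 1068
(.node 9187417 972
(.node 9187403 1255 (.node 9187401 1474 (.node 9187395 1514 .tip .tip) .tip) (.node 9187411 619 (.node 9187409 1447 .tip .tip) .tip))
(.node 9189443 103 (.node 9189441 758 (.node 9187419 840 .tip .tip) .tip) (.node 9189451 610 (.node 9189449 1084 .tip .tip) .tip)))
(.node 9195593 1405
(.node 9189467 351 (.node 9189465 212 (.node 9189459 640 .tip .tip) .tip) (.node 9195587 968 (.node 9195585 1185 .tip .tip) .tip))
(.node 9195603 551 (.node 9195601 1433 (.node 9195595 1318 .tip .tip) .tip) (.node 9195611 1486 (.node 9195609 1497 .tip .tip) .tip))))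
(.node 9203793 1234
(.node 9197657 249
(.node 9197643 206 (.node 9197641 133 (.node 9197635 366 .tip .tip) .tip) (.node 9197651 754 (.node 9197649 34 .tip .tip) .tip))
(.node 9203779 1323 (.node 9203777 1046 (.node 9197659 297 .tip .tip) .tip) (.node 9203787 204 (.node 9203785 439 .tip .tip) .tip)))
(.node 9205833 1406
(.node 9203803 566 (.node 9203801 992 (.node 9203795 678 .tip .tip) .tip) (.node 9205827 1415 (.node 9205825 1127 .tip .tip) .tip))
(.node 9205843 411 (.node 9205841 1491 (.node 9205835 541 .tip .tip) .tip) (.node 9205851 1250 (.node 9205849 1231 .tip .tip) .tip)))))))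
(.node 11030593 284
(.node 9269313 291
(.node 9254977 948
(.node 9246801 623
(.node 9244761 514
(.node 9244747 660 (.node 9244745 997 (.node 9244739 761 .tip .tip) .tip) (.node 9244755 1071 (.node 9244753 700 .tip .tip) .tip))
(.node 9246787 1288 (.node 9246785 838 (.node 9244763 216 .tip .tip) .tip) (.node 9246795 712 (.node 9246793 959 .tip .tip) .tip)))
(.node 9252937 827
(.node 9246811 428 (.node 9246809 821 (.node 9246803 144 .tip .tip) .tip) (.node 9252931 1289 (.node 9252929 830 .tip .tip) .tip))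
(.node 9252947 142 (.node 9252945 572 (.node 9252939 685 .tip .tip) .tip) (.node 9252955 430 (.node 9252953 819 .tip .tip) .tip))))
(.node 9261137 415
(.node 9255001 1492
(.node 9254987 882 (.node 9254985 1124 (.node 9254979 1521 .tip .tip) .tip) (.node 9254995 1520 (.node 9254993 661 .tip .tip) .tip))
(.node 9261123 1283 (.node 9261121 1170 (.node 9255003 1385 .tip .tip) .tip) (.node 9261131 1383 (.node 9261129 273 .tip .tip) .tip)))
(.node 9263177 577
(.node 9261147 398 (.node 9261145 1204 (.node 9261139 1060 .tip .tip) .tip) (.node 9263171 1053 (.node 9263169 1152 .tip .tip) .tip))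
(.node 9263187 1290 (.node 9263185 679 (.node 9263179 436 .tip .tip) .tip) (.node 9263195 1423 (.node 9263193 1026 .tip .tip) .tip)))))
(.node 11016257 1110
(.node 9271377 555
(.node 9269337 272
(.node 9269323 137 (.node 9269321 285 (.node 9269315 376 .tip .tip) .tip) (.node 9269331 38 (.node 9269329 807 .tip .tip) .tip))
(.node 9271363 1282 (.node 9271361 966 (.node 9269339 252 .tip .tip) .tip) (.node 9271371 1382 (.node 9271369 1319 .tip .tip) .tip)))
(.node 11014217 653
(.node 9271387 396 (.node 9271385 1487 (.node 9271379 1535 .tip .tip) .tip) (.node 11014211 112 (.node 11014209 826 .tip .tip) .tip))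
(.node 11014227 213 (.node 11014225 687 (.node 11014219 615 .tip .tip) .tip) (.node 11014235 141 (.node 11014233 571 .tip .tip) .tip))))
(.node 11022417 1408
(.node 11016281 620
(.node 11016267 879 (.node 11016265 1139 (.node 11016259 1478 .tip .tip) .tip) (.node 11016275 973 (.node 11016273 1441 .tip .tip) .tip))
(.node 11022403 1144 (.node 11022401 911 (.node 11016283 1534 .tip .tip) .tip) (.node 11022411 760 (.node 11022409 1091 .tip .tip) .tip)))
(.node 11024457 1335
(.node 11022427 1070 (.node 11022425 569 (.node 11022419 215 .tip .tip) .tip) (.node 11024451 1422 (.node 11024449 1242 .tip .tip) .tip))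
(.node 11024467 427 (.node 11024465 635 (.node 11024459 1034 .tip .tip) .tip) (.node 11024475 941 (.node 11024473 622 .tip .tip) .tip))))))
(.node 11087937 713
(.node 11040833 1190
(.node 11032657 567
(.node 11030617 412
(.node 11030603 785 (.node 11030601 1173 (.node 11030595 136 .tip .tip) .tip) (.node 11030611 251 (.node 11030609 1364 .tip .tip) .tip))
(.node 11032643 1381 (.node 11032641 1226 (.node 11030619 37 .tip .tip) .tip) (.node 11032651 1281 (.node 11032649 1324 .tip .tip) .tip)))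
(.node 11038793 1052
(.node 11032667 1400 (.node 11032665 554 (.node 11032659 395 .tip .tip) .tip) (.node 11038787 134 (.node 11038785 207 .tip .tip) .tip))
(.node 11038803 250 (.node 11038801 1058 (.node 11038795 266 .tip .tip) .tip) (.node 11038811 35 (.node 11038809 414 .tip .tip) .tip))))
(.node 11079761 1386
(.node 11040857 552
(.node 11040843 931 (.node 11040841 1151 (.node 11040835 373 .tip .tip) .tip) (.node 11040851 1527 (.node 11040849 1270 .tip .tip) .tip))
(.node 11079747 1356 (.node 11079745 905 (.node 11040859 1274 .tip .tip) .tip) (.node 11079755 949 (.node 11079753 1221 .tip .tip) .tip)))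
(.node 11081801 1032
(.node 11079771 702 (.node 11079769 1094 (.node 11079763 1489 .tip .tip) .tip) (.node 11081795 1431 (.node 11081793 1214 .tip .tip) .tip))
(.node 11081811 633 (.node 11081809 431 (.node 11081803 831 .tip .tip) .tip) (.node 11081819 945 (.node 11081817 515 .tip .tip) .tip)))))
(.node 11098177 1184
(.node 11090001 971
(.node 11087961 145
(.node 11087947 608 (.node 11087945 697 (.node 11087939 101 .tip .tip) .tip) (.node 11087955 637 (.node 11087953 829 .tip .tip) .tip))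
(.node 11089987 1095 (.node 11089985 1105 (.node 11087963 350 .tip .tip) .tip) (.node 11089995 1141 (.node 11089993 1525 .tip .tip) .tip)))
(.node 11096137 800
(.node 11090011 1365 (.node 11090009 1529 (.node 11090003 1517 .tip .tip) .tip) (.node 11096131 203 (.node 11096129 438 .tip .tip) .tip))
(.node 11096147 1028 (.node 11096145 276 (.node 11096139 534 .tip .tip) .tip) (.node 11096155 752 (.node 11096153 1172 .tip .tip) .tip))))
(.node 11104337 290
(.node 11098201 1248
(.node 11098187 292 (.node 11098185 1370 (.node 11098179 1175 .tip .tip) .tip) (.node 11098195 813 (.node 11098193 1237 .tip .tip) .tip))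
(.node 11104323 578 (.node 11104321 437 (.node 11098203 1371 .tip .tip) .tip) (.node 11104331 967 (.node 11104329 812 .tip .tip) .tip)))
(.node 11106377 1201
(.node 11104347 646 (.node 11104345 1174 (.node 11104339 1027 .tip .tip) .tip) (.node 11106371 1353 (.node 11106369 1212 .tip .tip) .tip))
(.node 11106387 564 (.node 11106385 399 (.node 11106379 1321 .tip .tip) .tip) (.node 11106395 692 (.node 11106393 1399 .tip .tip) .tip))))))))
(.node 17109057 1532
(.node 11358273 835
(.node 11300929 83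
(.node 11286593 78
(.node 11278417 261
(.node 11276377 311
(.node 11276363 280 (.node 11276361 387 (.node 11276355 1042 .tip .tip) .tip) (.node 11276371 402 (.node 11276369 1067 .tip .tip) .tip))
(.node 11278403 867 (.node 11278401 80 (.node 11276379 979 .tip .tip) .tip) (.node 11278411 459 (.node 11278409 529 .tip .tip) .tip)))
(.node 11284553 121
(.node 11278427 927 (.node 11278425 334 (.node 11278419 478 .tip .tip) .tip) (.node 11284547 2 (.node 11284545 1531 .tip .tip) .tip))
(.node 11284563 805 (.node 11284561 22 (.node 11284555 282 .tip .tip) .tip) (.node 11284571 14 (.node 11284569 1159 .tip .tip) .tip))))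
(.node 11292753 1133
(.node 11286617 332
(.node 11286603 1296 (.node 11286601 527 (.node 11286595 894 .tip .tip) .tip) (.node 11286611 476 (.node 11286609 1309 .tip .tip) .tip))
(.node 11292739 777 (.node 11292737 71 (.node 11286619 965 .tip .tip) .tip) (.node 11292747 1100 (.node 11292745 1012 .tip .tip) .tip)))
(.node 11294793 603
(.node 11292763 237 (.node 11292761 325 (.node 11292755 469 .tip .tip) .tip) (.node 11294787 874 (.node 11294785 94 .tip .tip) .tip))
(.node 11294803 618 (.node 11294801 1162 (.node 11294795 1333 .tip .tip) .tip) (.node 11294811 954 (.node 11294809 345 .tip .tip) .tip)))))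
(.node 11343937 859
(.node 11302993 227
(.node 11300953 65
(.node 11300939 461 (.node 11300937 421 (.node 11300931 451 .tip .tip) .tip) (.node 11300947 481 (.node 11300945 1287 .tip .tip) .tip))
(.node 11302979 901 (.node 11302977 96 (.node 11300955 1291 .tip .tip) .tip) (.node 11302987 1118 (.node 11302985 604 .tip .tip) .tip)))
(.node 11341897 30
(.node 11303003 873 (.node 11303001 346 (.node 11302995 625 .tip .tip) .tip) (.node 11341891 447 (.node 11341889 301 .tip .tip) .tip))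
(.node 11341907 1368 (.node 11341905 129 (.node 11341899 1014 .tip .tip) .tip) (.node 11341915 191 (.node 11341913 239 .tip .tip) .tip))))
(.node 11350097 1271
(.node 11343961 1458
(.node 11343947 549 (.node 11343945 739 (.node 11343939 1450 .tip .tip) .tip) (.node 11343955 1317 (.node 11343953 178 .tip .tip) .tip))
(.node 11350083 51 (.node 11350081 1122 (.node 11343963 1465 .tip .tip) .tip) (.node 11350091 407 (.node 11350089 363 .tip .tip) .tip)))
(.node 11352137 193
(.node 11350107 307 (.node 11350105 1254 (.node 11350099 379 .tip .tip) .tip) (.node 11352131 1443 (.node 11352129 858 .tip .tip) .tip))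
(.node 11352147 1018 (.node 11352145 166 (.node 11352139 558 .tip .tip) .tip) (.node 11352155 985 (.node 11352153 1020 .tip .tip) .tip))))))
(.node 17051713 504
(.node 11368513 862
(.node 11360337 151
(.node 11358297 1158
(.node 11358283 41 (.node 11358281 1304 (.node 11358275 57 .tip .tip) .tip) (.node 11358291 6 (.node 11358289 511 .tip .tip) .tip))
(.node 11360323 1000 (.node 11360321 851 (.node 11358299 313 .tip .tip) .tip) (.node 11360331 599 (.node 11360329 719 .tip .tip) .tip)))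
(.node 11366473 723
(.node 11360347 825 (.node 11360345 936 (.node 11360339 1330 .tip .tip) .tip) (.node 11366467 1342 (.node 11366465 775 .tip .tip) .tip))
(.node 11366483 1130 (.node 11366481 155 (.node 11366475 505 .tip .tip) .tip) (.node 11366491 663 (.node 11366489 235 .tip .tip) .tip))))
(.node 17043537 1332
(.node 11368537 938
(.node 11368523 590 (.node 11368521 736 (.node 11368515 1509 .tip .tip) .tip) (.node 11368531 707 (.node 11368529 174 .tip .tip) .tip))
(.node 17043523 1348 (.node 17043521 0 (.node 11368539 1495 .tip .tip) .tip) (.node 17043531 699 (.node 17043529 617 .tip .tip) .tip)))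
(.node 17045577 744
(.node 17043547 677 (.node 17043545 4 (.node 17043539 1157 .tip .tip) .tip) (.node 17045571 26 (.node 17045569 426 .tip .tip) .tip))
(.node 17045587 756 (.node 17045585 187 (.node 17045579 210 .tip .tip) .tip) (.node 17045595 125 (.node 17045593 995 .tip .tip) .tip)))))
(.node 17061953 409
(.node 17053777 1378
(.node 17051737 642
(.node 17051723 1308 (.node 17051721 105 (.node 17051715 18 .tip .tip) .tip) (.node 17051731 523 (.node 17051729 353 .tip .tip) .tip))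
(.node 17053763 1243 (.node 17053761 389 (.node 17051739 117 .tip .tip) .tip) (.node 17053771 1108 (.node 17053769 1389 .tip .tip) .tip)))
(.node 17059913 446
(.node 17053787 1138 (.node 17053785 706 (.node 17053779 1402 .tip .tip) .tip) (.node 17059907 28 (.node 17059905 371 .tip .tip) .tip))
(.node 17059923 1373 (.node 17059921 189 (.node 17059915 1218 .tip .tip) .tip) (.node 17059931 127 (.node 17059929 1273 .tip .tip) .tip))))
(.node 17068113 1316
(.node 17061977 465
(.node 17061963 1186 (.node 17061961 1413 (.node 17061955 1228 .tip .tip) .tip) (.node 17061971 1457 (.node 17061969 1421 .tip .tip) .tip))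
(.node 17068099 1259 (.node 17068097 340 (.node 17061979 1114 .tip .tip) .tip) (.node 17068107 485 (.node 17068105 546 .tip .tip) .tip)))
(.node 17070153 932
(.node 17068123 1454 (.node 17068121 87 (.node 17068115 576 .tip .tip) .tip) (.node 17070147 32 (.node 17070145 394 .tip .tip) .tip))
(.node 17070163 783 (.node 17070161 1198 (.node 17070155 247 .tip .tip) .tip) (.node 17070171 131 (.node 17070169 1280 .tip .tip) .tip)))))))
(.node 17584193 1374
(.node 17133633 1524
(.node 17119297 331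
(.node 17111121 49
(.node 17109081 1501
(.node 17109067 802 (.node 17109065 1065 (.node 17109059 582 .tip .tip) .tip) (.node 17109075 278 (.node 17109073 1414 .tip .tip) .tip))
(.node 17111107 535 (.node 17111105 1010 (.node 17109083 1093 .tip .tip) .tip) (.node 17111115 365 (.node 17111113 305 .tip .tip) .tip)))
(.node 17117257 914
(.node 17111131 361 (.node 17111129 1216 (.node 17111123 232 .tip .tip) .tip) (.node 17117251 930 (.node 17117249 732 .tip .tip) .tip))
(.node 17117267 256 (.node 17117265 1397 (.node 17117259 696 .tip .tip) .tip) (.node 17117275 1090 (.node 17117273 168 .tip .tip) .tip))))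
(.node 17125457 1420
(.node 17119321 77
(.node 17119307 474 (.node 17119305 585 (.node 17119299 539 .tip .tip) .tip) (.node 17119315 299 (.node 17119313 525 .tip .tip) .tip))
(.node 17125443 876 (.node 17125441 721 (.node 17119323 1179 .tip .tip) .tip) (.node 17125451 766 (.node 17125449 853 .tip .tip) .tip)))
(.node 17127497 47
(.node 17125467 1078 (.node 17125465 153 (.node 17125459 222 .tip .tip) .tip) (.node 17127491 611 (.node 17127489 344 .tip .tip) .tip))
(.node 17127507 355 (.node 17127505 12 (.node 17127499 107 .tip .tip) .tip) (.node 17127515 1040 (.node 17127513 93 .tip .tip) .tip)))))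
(.node 17569857 513
(.node 17135697 520
(.node 17133657 1506
(.node 17133643 810 (.node 17133641 1106 (.node 17133635 591 .tip .tip) .tip) (.node 17133651 288 (.node 17133649 1391 .tip .tip) .tip))
(.node 17135683 609 (.node 17135681 1344 (.node 17133659 708 .tip .tip) .tip) (.node 17135691 102 (.node 17135689 908 .tip .tip) .tip)))
(.node 17567817 689
(.node 17135707 638 (.node 17135705 667 (.node 17135699 161 .tip .tip) .tip) (.node 17567811 885 (.node 17567809 1466 .tip .tip) .tip))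
(.node 17567827 740 (.node 17567825 595 (.node 17567819 179 .tip .tip) .tip) (.node 17567835 919 (.node 17567833 1262 .tip .tip) .tip))))
(.node 17576017 418
(.node 17569881 1306
(.node 17569867 1341 (.node 17569865 1087 (.node 17569859 560 .tip .tip) .tip) (.node 17569875 659 (.node 17569873 1459 .tip .tip) .tip))
(.node 17576003 1057 (.node 17576001 60 (.node 17569883 1320 .tip .tip) .tip) (.node 17576011 746 (.node 17576009 433 .tip .tip) .tip)))
(.node 17578057 1429
(.node 17576027 377 (.node 17576025 316 (.node 17576019 194 .tip .tip) .tip) (.node 17578051 869 (.node 17578049 1134 .tip .tip) .tip))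
(.node 17578067 684 (.node 17578065 1462 (.node 17578059 1350 .tip .tip) .tip) (.node 17578075 1123 (.node 17578073 1210 .tip .tip) .tip))))))
(.node 17641537 964
(.node 17594433 271
(.node 17586257 1352
(.node 17584217 1384
(.node 17584203 173 (.node 17584201 1276 (.node 17584195 937 .tip .tip) .tip) (.node 17584211 735 (.node 17584209 382 .tip .tip) .tip))
(.node 17586243 923 (.node 17586241 1473 (.node 17584219 917 .tip .tip) .tip) (.node 17586251 512 (.node 17586249 690 .tip .tip) .tip)))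
(.node 17592393 1016
(.node 17586267 1022 (.node 17586265 1261 (.node 17586259 1305 .tip .tip) .tip) (.node 17592387 778 (.node 17592385 1135 .tip .tip) .tip))
(.node 17592403 1153 (.node 17592401 1437 (.node 17592395 1146 .tip .tip) .tip) (.node 17592411 242 (.node 17592409 1530 .tip .tip) .tip))))
(.node 17633361 506
(.node 17594457 798
(.node 17594443 1256 (.node 17594441 1169 (.node 17594435 628 .tip .tip) .tip) (.node 17594451 883 (.node 17594449 1203 .tip .tip) .tip))
(.node 17633347 326 (.node 17633345 670 (.node 17594459 375 .tip .tip) .tip) (.node 17633355 260 (.node 17633353 470 .tip .tip) .tip)))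
(.node 17635401 1388
(.node 17633371 72 (.node 17633369 1025 (.node 17633363 791 .tip .tip) .tip) (.node 17635395 1377 (.node 17635393 978 .tip .tip) .tip))
(.node 17635411 386 (.node 17635409 842 (.node 17635403 648 .tip .tip) .tip) (.node 17635419 952 (.node 17635417 1036 .tip .tip) .tip)))))
(.node 17651777 490
(.node 17643601 1267
(.node 17641561 890
(.node 17641547 1166 (.node 17641545 1209 (.node 17641539 268 .tip .tip) .tip) (.node 17641555 1202 (.node 17641553 1215 .tip .tip) .tip))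
(.node 17643587 1082 (.node 17643585 782 (.node 17641563 795 .tip .tip) .tip) (.node 17643595 228 (.node 17643593 1148 .tip .tip) .tip)))
(.node 17649737 1338
(.node 17643611 1528 (.node 17643609 246 (.node 17643603 770 .tip .tip) .tip) (.node 17649731 565 (.node 17649729 953 .tip .tip) .tip))
(.node 17649747 1498 (.node 17649745 656 (.node 17649739 1085 .tip .tip) .tip) (.node 17649755 1322 (.node 17649753 1035 .tip .tip) .tip))))
(.node 17657937 681
(.node 17651801 1193
(.node 17651787 262 (.node 17651785 468 (.node 17651779 324 .tip .tip) .tip) (.node 17651795 792 (.node 17651793 496 .tip .tip) .tip))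
(.node 17657923 1081 (.node 17657921 872 (.node 17651803 70 .tip .tip) .tip) (.node 17657931 226 (.node 17657929 1349 .tip .tip) .tip)))
(.node 17659977 456
(.node 17657947 1508 (.node 17657945 1006 (.node 17657939 769 .tip .tip) .tip) (.node 17659971 64 (.node 17659969 993 .tip .tip) .tip))
(.node 17659987 205 (.node 17659985 440 (.node 17659979 753 .tip .tip) .tip) (.node 17659995 320 (.node 17659993 450 .tip .tip) .tip)))))))))
(.node 25694273 1493
(.node 19730497 356
(.node 19222593 1351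
(.node 19165249 991
(.node 19150913 987
(.node 19142737 489
(.node 19140697 1245
(.node 19140683 1488 (.node 19140681 1023 (.node 19140675 562 .tip .tip) .tip) (.node 19140691 1512 (.node 19140689 924 .tip .tip) .tip))
(.node 19142723 383 (.node 19142721 970 (.node 19140699 691 .tip .tip) .tip) (.node 19142731 69 (.node 19142729 1298 .tip .tip) .tip)))
(.node 19148873 1005
(.node 19142747 518 (.node 19142745 467 (.node 19142739 323 .tip .tip) .tip) (.node 19148867 768 (.node 19148865 884 .tip .tip) .tip))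
(.node 19148883 1080 (.node 19148881 871 (.node 19148875 1125 .tip .tip) .tip) (.node 19148891 225 (.node 19148889 1220 .tip .tip) .tip))))
(.node 19157073 926
(.node 19150937 1031
(.node 19150923 319 (.node 19150921 243 (.node 19150915 420 .tip .tip) .tip) (.node 19150931 63 (.node 19150929 779 .tip .tip) .tip))
(.node 19157059 790 (.node 19157057 934 (.node 19150939 1017 .tip .tip) .tip) (.node 19157067 645 (.node 19157065 1024 .tip .tip) .tip)))
(.node 19159113 1047
(.node 19157083 259 (.node 19157081 1469 (.node 19157075 1165 .tip .tip) .tip) (.node 19159107 385 (.node 19159105 1504 .tip .tip) .tip))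
(.node 19159123 1376 (.node 19159121 601 (.node 19159115 1263 .tip .tip) .tip) (.node 19159131 1278 (.node 19159129 1137 .tip .tip) .tip)))))
(.node 19208257 1503
(.node 19167313 781
(.node 19165273 1045
(.node 19165259 751 (.node 19165257 1050 (.node 19165251 629 .tip .tip) .tip) (.node 19165267 202 (.node 19165265 870 .tip .tip) .tip))
(.node 19167299 419 (.node 19167297 1266 (.node 19165275 1334 .tip .tip) .tip) (.node 19167307 317 (.node 19167305 245 .tip .tip) .tip)))
(.node 19206217 1195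
(.node 19167323 434 (.node 19167321 1147 (.node 19167315 61 .tip .tip) .tip) (.node 19206211 497 (.node 19206209 793 .tip .tip) .tip))
(.node 19206227 1199 (.node 19206225 843 (.node 19206219 651 .tip .tip) .tip) (.node 19206235 1301 (.node 19206233 263 .tip .tip) .tip))))
(.node 19214417 1442
(.node 19208281 1086
(.node 19208267 1048 (.node 19208265 1260 (.node 19208259 657 .tip .tip) .tip) (.node 19208275 980 (.node 19208273 594 .tip .tip) .tip))
(.node 19214403 1252 (.node 19214401 1051 (.node 19208283 1339 .tip .tip) .tip) (.node 19214411 1054 (.node 19214409 1428 .tip .tip) .tip)))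
(.node 19216457 797
(.node 19214427 457 (.node 19214425 1502 (.node 19214419 1496 .tip .tip) .tip) (.node 19216451 682 (.node 19216449 443 .tip .tip) .tip))
(.node 19216467 1121 (.node 19216465 270 (.node 19216459 374 .tip .tip) .tip) (.node 19216475 857 (.node 19216473 1168 .tip .tip) .tip))))))
(.node 19673153 1163
(.node 19232833 455
(.node 19224657 327
(.node 19222617 688
(.node 19222603 1037 (.node 19222601 1393 (.node 19222595 1522 .tip .tip) .tip) (.node 19222611 1516 (.node 19222609 1500 .tip .tip) .tip))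
(.node 19224643 507 (.node 19224641 1300 (.node 19222619 1410 .tip .tip) .tip) (.node 19224651 172 (.node 19224649 73 .tip .tip) .tip)))
(.node 19230793 1120
(.node 19224667 471 (.node 19224665 495 (.node 19224659 671 .tip .tip) .tip) (.node 19230787 881 (.node 19230785 771 .tip .tip) .tip))
(.node 19230803 974 (.node 19230801 1083 (.node 19230795 1007 .tip .tip) .tip) (.node 19230811 1519 (.node 19230809 229 .tip .tip) .tip))))
(.node 19664977 720
(.node 19232857 1167
(.node 19232843 891 (.node 19232841 796 (.node 19232835 683 .tip .tip) .tip) (.node 19232851 942 (.node 19232849 269 .tip .tip) .tip))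
(.node 19664963 294 (.node 19664961 429 (.node 19232859 1156 .tip .tip) .tip) (.node 19664971 624 (.node 19664969 152 .tip .tip) .tip)))
(.node 19667017 128
(.node 19664987 815 (.node 19664985 852 (.node 19664979 548 .tip .tip) .tip) (.node 19667011 190 (.node 19667009 217 .tip .tip) .tip))
(.node 19667027 998 (.node 19667025 29 (.node 19667019 701 .tip .tip) .tip) (.node 19667035 233 (.node 19667033 762 .tip .tip) .tip)))))
(.node 19683393 48
(.node 19675217 711
(.node 19673177 912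
(.node 19673163 662 (.node 19673161 165 (.node 19673155 922 .tip .tip) .tip) (.node 19673171 557 (.node 19673169 730 .tip .tip) .tip))
(.node 19675203 820 (.node 19675201 1404 (.node 19673179 1140 .tip .tip) .tip) (.node 19675211 573 (.node 19675209 143 .tip .tip) .tip)))
(.node 19681353 150
(.node 19675227 1088 (.node 19675225 1230 (.node 19675219 406 .tip .tip) .tip) (.node 19681347 824 (.node 19681345 1072 .tip .tip) .tip))
(.node 19681363 581 (.node 19681361 718 (.node 19681355 680 .tip .tip) .tip) (.node 19681371 999 (.node 19681369 850 .tip .tip) .tip))))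
(.node 19689553 731
(.node 19683417 304
(.node 19683403 5 (.node 19683401 1061 (.node 19683395 1205 .tip .tip) .tip) (.node 19683411 40 (.node 19683409 1418 .tip .tip) .tip))
(.node 19689539 928 (.node 19689537 397 (.node 19683419 448 .tip .tip) .tip) (.node 19689547 556 (.node 19689545 167 .tip .tip) .tip)))
(.node 19691593 39
(.node 19689563 1398 (.node 19689561 913 (.node 19689555 589 .tip .tip) .tip) (.node 19691587 298 (.node 19691585 253 .tip .tip) .tip))
(.node 19691603 286 (.node 19691601 138 (.node 19691595 808 .tip .tip) .tip) (.node 19691611 817 (.node 19691609 786 .tip .tip) .tip)))))))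
(.node 25448513 46
(.node 19755073 352
(.node 19740737 839
(.node 19732561 408
(.node 19730521 108
(.node 19730507 1511 (.node 19730505 1312 (.node 19730499 672 .tip .tip) .tip) (.node 19730515 1533 (.node 19730513 537 .tip .tip) .tip))
(.node 19732547 1208 (.node 19732545 312 (.node 19730523 868 .tip .tip) .tip) (.node 19732555 804 (.node 19732553 464 .tip .tip) .tip)))
(.node 19738697 639
(.node 19732571 1043 (.node 19732569 56 (.node 19732563 281 .tip .tip) .tip) (.node 19738691 521 (.node 19738689 333 .tip .tip) .tip))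
(.node 19738707 1297 (.node 19738705 528 (.node 19738699 477 .tip .tip) .tip) (.node 19738715 909 (.node 19738713 79 .tip .tip) .tip))))
(.node 19746897 536
(.node 19740761 1468
(.node 19740747 130 (.node 19740745 1303 (.node 19740739 15 .tip .tip) .tip) (.node 19740755 31 (.node 19740753 502 .tip .tip) .tip))
(.node 19746883 1361 (.node 19746881 296 (.node 19740763 3 .tip .tip) .tip) (.node 19746891 1217 (.node 19746889 1178 .tip .tip) .tip)))
(.node 19748937 994
(.node 19746907 875 (.node 19746905 95 (.node 19746899 1249 .tip .tip) .tip) (.node 19748931 238 (.node 19748929 186 .tip .tip) .tip))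
(.node 19748947 25 (.node 19748945 1013 (.node 19748939 124 .tip .tip) .tip) (.node 19748955 209 (.node 19748953 743 .tip .tip) .tip)))))
(.node 25434177 1064
(.node 19757137 404
(.node 19755097 104
(.node 19755083 1483 (.node 19755081 641 (.node 19755075 522 .tip .tip) .tip) (.node 19755091 1481 (.node 19755089 540 .tip .tip) .tip))
(.node 19757123 1401 (.node 19757121 337 (.node 19755099 902 .tip .tip) .tip) (.node 19757131 482 (.node 19757129 1286 .tip .tip) .tip)))
(.node 25432137 658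
(.node 19757147 837 (.node 19757145 84 (.node 19757139 955 .tip .tip) .tip) (.node 25432131 773 (.node 25432129 1049 .tip .tip) .tip))
(.node 25432147 893 (.node 25432145 1340 (.node 25432139 1126 .tip .tip) .tip) (.node 25432155 231 (.node 25432153 981 .tip .tip) .tip))))
(.node 25440337 76
(.node 25434201 1200
(.node 25434187 794 (.node 25434185 498 (.node 25434179 801 .tip .tip) .tip) (.node 25434195 264 (.node 25434193 1302 .tip .tip) .tip))
(.node 25440323 473 (.node 25440321 532 (.node 25434203 277 .tip .tip) .tip) (.node 25440331 1207 (.node 25440329 330 .tip .tip) .tip)))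
(.node 25442377 1294
(.node 25440347 274 (.node 25440345 524 (.node 25440339 1171 .tip .tip) .tip) (.node 25442371 695 (.node 25442369 1055 .tip .tip) .tip))
(.node 25442387 1089 (.node 25442385 458 (.node 25442379 1183 .tip .tip) .tip) (.node 25442395 255 (.node 25442393 1396 .tip .tip) .tip))))))
(.node 25505857 748
(.node 25458753 1008
(.node 25450577 1411
(.node 25448537 11
(.node 25448523 1307 (.node 25448521 99 (.node 25448515 74 .tip .tip) .tip) (.node 25448531 519 (.node 25448529 92 .tip .tip) .tip))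
(.node 25450563 765 (.node 25450561 1038 (.node 25448539 328 .tip .tip) .tip) (.node 25450571 1104 (.node 25450569 1004 .tip .tip) .tip)))
(.node 25456713 1343
(.node 25450587 221 (.node 25450585 1419 (.node 25450579 1077 .tip .tip) .tip) (.node 25456707 727 (.node 25456705 892 .tip .tip) .tip))
(.node 25456723 900 (.node 25456721 666 (.node 25456715 904 .tip .tip) .tip) (.node 25456731 160 (.node 25456729 1471 .tip .tip) .tip))))
(.node 25497681 517
(.node 25458777 975
(.node 25458763 772 (.node 25458761 1479 (.node 25458755 809 .tip .tip) .tip) (.node 25458771 230 (.node 25458769 943 .tip .tip) .tip))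
(.node 25497667 211 (.node 25497665 181 (.node 25458779 287 .tip .tip) .tip) (.node 25497675 27 (.node 25497673 630 .tip .tip) .tip)))
(.node 25499721 547
(.node 25497691 757 (.node 25497689 188 (.node 25497683 126 .tip .tip) .tip) (.node 25499715 907 (.node 25499713 724 .tip .tip) .tip))
(.node 25499731 664 (.node 25499729 864 (.node 25499723 887 .tip .tip) .tip) (.node 25499739 1456 (.node 25499737 156 .tip .tip) .tip)))))
(.node 25516097 644
(.node 25507921 321
(.node 25505881 196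
(.node 25505867 986 (.node 25505865 405 (.node 25505859 1019 .tip .tip) .tip) (.node 25505875 1030 (.node 25505873 1073 .tip .tip) .tip))
(.node 25507907 42 (.node 25507905 106 (.node 25505883 1403 .tip .tip) .tip) (.node 25507915 1345 (.node 25507913 66 .tip .tip) .tip)))
(.node 25514057 410
(.node 25507931 7 (.node 25507929 354 (.node 25507923 668 .tip .tip) .tip) (.node 25514051 1187 (.node 25514049 787 .tip .tip) .tip))
(.node 25514067 1526 (.node 25514065 466 (.node 25514059 1182 .tip .tip) .tip) (.node 25514075 600 (.node 25514073 254 .tip .tip) .tip))))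
(.node 25522257 863
(.node 25516121 197
(.node 25516107 988 (.node 25516105 538 (.node 25516099 584 .tip .tip) .tip) (.node 25516115 1494 (.node 25516113 1313 .tip .tip) .tip))
(.node 25522243 248 (.node 25522241 788 (.node 25516123 1327 .tip .tip) .tip) (.node 25522251 33 (.node 25522249 503 .tip .tip) .tip)))
(.node 25524297 550
(.node 25522267 784 (.node 25522265 257 (.node 25522259 132 .tip .tip) .tip) (.node 25524291 1128 (.node 25524289 182 .tip .tip) .tip))
(.node 25524307 976 (.node 25524305 920 (.node 25524299 990 .tip .tip) .tip) (.node 25524315 961 (.node 25524313 201 .tip .tip) .tip))))))))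
(.node 27594817 1359
(.node 25776193 709
(.node 25718849 1336
(.node 25704513 163
(.node 25696337 1251
(.node 25694297 832
(.node 25694283 1222 (.node 25694281 1149 (.node 25694275 432 .tip .tip) .tip) (.node 25694291 444 (.node 25694289 1268 .tip .tip) .tip))
(.node 25696323 1326 (.node 25696321 1513 (.node 25694299 1119 .tip .tip) .tip) (.node 25696331 1284 (.node 25696329 703 .tip .tip) .tip)))
(.node 25702473 1160
(.node 25696347 580 (.node 25696345 950 (.node 25696339 401 .tip .tip) .tip) (.node 25702467 1380 (.node 25702465 1455 .tip .tip) .tip))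
(.node 25702483 391 (.node 25702481 1096 (.node 25702475 1246 .tip .tip) .tip) (.node 25702491 1392 (.node 25702489 1142 .tip .tip) .tip))))
(.node 25710673 1176
(.node 25704537 170
(.node 25704523 146 (.node 25704521 119 (.node 25704515 846 .tip .tip) .tip) (.node 25704531 714 (.node 25704529 20 .tip .tip) .tip))
(.node 25710659 1238 (.node 25710657 814 (.node 25704539 1480 .tip .tip) .tip) (.node 25710667 492 (.node 25710665 1116 .tip .tip) .tip)))
(.node 25712713 855
(.node 25710683 1427 (.node 25710681 293 (.node 25710675 423 .tip .tip) .tip) (.node 25712707 1424 (.node 25712705 148 .tip .tip) .tip))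
(.node 25712723 441 (.node 25712721 848 (.node 25712715 823 .tip .tip) .tip) (.node 25712731 1432 (.node 25712729 716 .tip .tip) .tip)))))
(.node 25761857 845
(.node 25720913 579
(.node 25718873 649
(.node 25718859 1292 (.node 25718857 693 (.node 25718851 400 .tip .tip) .tip) (.node 25718867 452 (.node 25718865 1354 .tip .tip) .tip))
(.node 25720899 592 (.node 25720897 956 (.node 25718875 1194 .tip .tip) .tip) (.node 25720907 89 (.node 25720905 1325 .tip .tip) .tip)))
(.node 25759817 85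
(.node 25720923 587 (.node 25720921 487 (.node 25720915 341 .tip .tip) .tip) (.node 25759811 574 (.node 25759809 1021 .tip .tip) .tip))
(.node 25759827 597 (.node 25759825 338 (.node 25759819 1328 .tip .tip) .tip) (.node 25759835 483 (.node 25759833 544 .tip .tip) .tip))))
(.node 25768017 369
(.node 25761881 614
(.node 25761867 381 (.node 25761865 359 (.node 25761859 309 .tip .tip) .tip) (.node 25761875 1191 (.node 25761873 111 .tip .tip) .tip))
(.node 25768003 1490 (.node 25768001 1477 (.node 25761883 53 .tip .tip) .tip) (.node 25768011 897 (.node 25768009 940 .tip .tip) .tip)))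
(.node 25770057 1265
(.node 25768027 1358 (.node 25768025 860 (.node 25768019 1129 .tip .tip) .tip) (.node 25770051 1241 (.node 25770049 241 .tip .tip) .tip))
(.node 25770067 910 (.node 25770065 422 (.node 25770059 654 .tip .tip) .tip) (.node 25770075 1426 (.node 25770073 303 .tip .tip) .tip))))))
(.node 27537473 818
(.node 25786433 1314
(.node 25778257 368
(.node 25776217 139
(.node 25776203 115 (.node 25776201 176 (.node 25776195 958 .tip .tip) .tip) (.node 25776211 16 (.node 25776209 737 .tip .tip) .tip))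
(.node 25778243 1363 (.node 25778241 236 (.node 25776219 1518 .tip .tip) .tip) (.node 25778251 1132 (.node 25778249 1247 .tip .tip) .tip)))
(.node 25784393 360
(.node 25778267 1357 (.node 25778265 776 (.node 25778259 1011 .tip .tip) .tip) (.node 25784387 1355 (.node 25784385 1331 .tip .tip) .tip))
(.node 25784403 1189 (.node 25784401 113 (.node 25784395 675 .tip .tip) .tip) (.node 25784411 698 (.node 25784409 616 .tip .tip) .tip))))
(.node 27529297 362
(.node 25786457 543
(.node 25786443 417 (.node 25786441 1224 (.node 25786435 315 .tip .tip) .tip) (.node 25786451 1111 (.node 25786449 425 .tip .tip) .tip))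
(.node 27529283 306 (.node 27529281 449 (.node 25786459 59 .tip .tip) .tip) (.node 27529291 1188 (.node 27529289 372 .tip .tip) .tip)))
(.node 27531337 583
(.node 27529307 50 (.node 27529305 593 (.node 27529299 1438 .tip .tip) .tip) (.node 27531331 650 (.node 27531329 542 .tip .tip) .tip))
(.node 27531347 1453 (.node 27531345 1223 (.node 27531339 1257 .tip .tip) .tip) (.node 27531355 1337 (.node 27531353 833 .tip .tip) .tip)))))
(.node 27547713 816
(.node 27539537 1097
(.node 27537497 300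
(.node 27537483 1225 (.node 27537481 442 (.node 27537475 1239 .tip .tip) .tip) (.node 27537491 856 (.node 27537489 1180 .tip .tip) .tip))
(.node 27539523 915 (.node 27539521 933 (.node 27537499 1434 .tip .tip) .tip) (.node 27539531 733 (.node 27539529 367 .tip .tip) .tip)))
(.node 27545673 1299
(.node 27539547 1362 (.node 27539545 929 (.node 27539539 169 .tip .tip) .tip) (.node 27545667 171 (.node 27545665 234 .tip .tip) .tip))
(.node 27545683 916 (.node 27545681 494 (.node 27545675 935 .tip .tip) .tip) (.node 27545691 734 (.node 27545689 774 .tip .tip) .tip))))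
(.node 27553873 1293
(.node 27547737 295
(.node 27547723 722 (.node 27547721 1372 (.node 27547715 854 .tip .tip) .tip) (.node 27547731 154 (.node 27547729 1177 .tip .tip) .tip))
(.node 27553859 1412 (.node 27553857 878 (.node 27547739 1510 .tip .tip) .tip) (.node 27553867 1109 (.node 27553865 454 .tip .tip) .tip)))
(.node 27555913 110
(.node 27553883 1440 (.node 27553881 834 (.node 27553875 1155 .tip .tip) .tip) (.node 27555907 652 (.node 27555905 613 .tip .tip) .tip))
(.node 27555923 674 (.node 27555921 358 (.node 27555915 1346 .tip .tip) .tip) (.node 27555931 686 (.node 27555929 844 .tip .tip) .tip)))))))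
(.node 27807809 195
(.node 27619393 378
(.node 27605057 715
(.node 27596881 676
(.node 27594841 947
(.node 27594827 384 (.node 27594825 1112 (.node 27594819 880 .tip .tip) .tip) (.node 27594835 1277 (.node 27594833 1102 .tip .tip) .tip))
(.node 27596867 586 (.node 27596865 486 (.node 27594843 1375 .tip .tip) .tip) (.node 27596875 114 (.node 27596873 1347 .tip .tip) .tip)))
(.node 27603017 1154
(.node 27596891 704 (.node 27596889 925 (.node 27596883 88 .tip .tip) .tip) (.node 27603011 1461 (.node 27603009 244 .tip .tip) .tip))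
(.node 27603027 491 (.node 27603025 1115 (.node 27603019 388 .tip .tip) .tip) (.node 27603035 1136 (.node 27603033 780 .tip .tip) .tip))))
(.node 27611217 1113
(.node 27605081 147
(.node 27605067 1482 (.node 27605065 17 (.node 27605059 140 .tip .tip) .tip) (.node 27605075 822 (.node 27605073 116 .tip .tip) .tip))
(.node 27611203 1264 (.node 27611201 1360 (.node 27605083 710 .tip .tip) .tip) (.node 27611211 390 (.node 27611209 1227 .tip .tip) .tip)))
(.node 27613257 19
(.node 27611227 1379 (.node 27611225 886 (.node 27611219 1279 .tip .tip) .tip) (.node 27613251 1505 (.node 27613249 728 .tip .tip) .tip))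
(.node 27613267 1272 (.node 27613265 118 (.node 27613259 370 .tip .tip) .tip) (.node 27613275 1366 (.node 27613273 162 .tip .tip) .tip)))))
(.node 27793473 200
(.node 27621457 1044
(.node 27619417 1275
(.node 27619403 393 (.node 27619401 1192 (.node 27619395 318 .tip .tip) .tip) (.node 27619411 435 (.node 27619409 1101 .tip .tip) .tip))
(.node 27621443 545 (.node 27621441 484 (.node 27619419 62 .tip .tip) .tip) (.node 27621451 339 (.node 27621449 1258 .tip .tip) .tip)))
(.node 27791433 500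
(.node 27621467 1315 (.node 27621465 575 (.node 27621459 86 .tip .tip) .tip) (.node 27791427 1464 (.node 27791425 1435 .tip .tip) .tip))
(.node 27791443 1460 (.node 27791441 1213 (.node 27791435 944 .tip .tip) .tip) (.node 27791451 1444 (.node 27791449 896 .tip .tip) .tip))))
(.node 27799633 460
(.node 27793497 185
(.node 27793483 24 (.node 27793481 806 (.node 27793475 1232 .tip .tip) .tip) (.node 27793491 123 (.node 27793489 283 .tip .tip) .tip))
(.node 27799619 336 (.node 27799617 1056 (.node 27793499 1233 .tip .tip) .tip) (.node 27799627 1310 (.node 27799625 480 .tip .tip) .tip)))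
(.node 27801673 403
(.node 27799643 82 (.node 27799641 1197 (.node 27799635 531 .tip .tip) .tip) (.node 27801667 636 (.node 27801665 828 .tip .tip) .tip))
(.node 27801683 100 (.node 27801681 1285 (.node 27801675 349 .tip .tip) .tip) (.node 27801691 607 (.node 27801689 643 .tip .tip) .tip))))))
(.node 27865153 10
(.node 27818049 289
(.node 27809873 463
(.node 27807833 747
(.node 27807819 1029 (.node 27807817 626 (.node 27807811 348 .tip .tip) .tip) (.node 27807827 606 (.node 27807825 632 .tip .tip) .tip))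
(.node 27809859 1311 (.node 27809857 275 (.node 27807835 98 .tip .tip) .tip) (.node 27809867 1219 (.node 27809865 509 .tip .tip) .tip)))
(.node 27816009 516
(.node 27809883 533 (.node 27809881 799 (.node 27809875 1485 .tip .tip) .tip) (.node 27816003 960 (.node 27816001 741 .tip .tip) .tip))
(.node 27816019 969 (.node 27816017 1211 (.node 27816011 946 .tip .tip) .tip) (.node 27816027 1452 (.node 27816025 180 .tip .tip) .tip))))
(.node 27856977 1009
(.node 27818073 811
(.node 27818059 1244 (.node 27818057 501 (.node 27818051 1417 .tip .tip) .tip) (.node 27818067 1143 (.node 27818065 561 .tip .tip) .tip))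
(.node 27856963 159 (.node 27856961 962 (.node 27818075 1236 .tip .tip) .tip) (.node 27856971 899 (.node 27856969 621 .tip .tip) .tip)))
(.node 27859017 655
(.node 27856987 183 (.node 27856985 1515 (.node 27856979 982 .tip .tip) .tip) (.node 27859011 214 (.node 27859009 1390 .tip .tip) .tip))
(.node 27859027 563 (.node 27859025 996 (.node 27859019 1069 .tip .tip) .tip) (.node 27859035 759 (.node 27859033 1235 .tip .tip) .tip)))))
(.node 27875393 1395
(.node 27867217 1003
(.node 27865177 45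
(.node 27865163 1039 (.node 27865161 91 (.node 27865155 198 .tip .tip) .tip) (.node 27865171 1484 (.node 27865169 343 .tip .tip) .tip))
(.node 27867203 220 (.node 27867201 1394 (.node 27865179 749 .tip .tip) .tip) (.node 27867211 1076 (.node 27867209 570 .tip .tip) .tip)))
(.node 27873353 75
(.node 27867227 764 (.node 27867225 1062 (.node 27867219 1206 .tip .tip) .tip) (.node 27873347 1295 (.node 27873345 8 .tip .tip) .tip))
(.node 27873363 67 (.node 27873361 329 (.node 27873355 322 .tip .tip) .tip) (.node 27873371 472 (.node 27873369 43 .tip .tip) .tip))))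
(.node 27881553 888
(.node 27875417 1416
(.node 27875403 1074 (.node 27875401 413 (.node 27875395 218 .tip .tip) .tip) (.node 27875411 1407 (.node 27875409 1001 .tip .tip) .tip))
(.node 27881539 157 (.node 27881537 1369 (.node 27875419 694 .tip .tip) .tip) (.node 27881547 865 (.node 27881545 553 .tip .tip) .tip)))
(.node 27883593 755
(.node 27881563 725 (.node 27881561 1445 (.node 27881555 1467 .tip .tip) .tip) (.node 27883587 223 (.node 27883585 1059 .tip .tip) .tip))
(.node 27883603 135 (.node 27883601 208 (.node 27883595 36 .tip .tip) .tip) (.node 27883611 267 (.node 27883609 1063 .tip .tip) .tip))))))))))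

/-- The reasons. -/
def caseAFullN4HowLL : Tab (ℕ × ℕ) :=
(.node 192 (.node 96 (.node 48 (.node 24 (.node 12 (.node 6 (.node 3 (.node 1 (.leaf (0, 0)) (.node 1 (.leaf (49, 0)) (.leaf (48, 0)))) (.node 1 (.leaf (50, 0)) (.node 1 (.leaf (49, 1)) (.leaf (48, 1)))))
(.node 3 (.node 1 (.leaf (50, 1)) (.node 1 (.leaf (49, 2)) (.leaf (48, 2)))) (.node 1 (.leaf (50, 2)) (.node 1 (.leaf (49, 3)) (.leaf (48, 3))))))
(.node 6 (.node 3 (.node 1 (.leaf (50, 3)) (.node 1 (.leaf (49, 4)) (.leaf (48, 4)))) (.node 1 (.leaf (50, 4)) (.node 1 (.leaf (49, 5)) (.leaf (48, 5)))))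
(.node 3 (.node 1 (.leaf (50, 5)) (.node 1 (.leaf (49, 6)) (.leaf (48, 6)))) (.node 1 (.leaf (50, 6)) (.node 1 (.leaf (49, 7)) (.leaf (48, 7)))))))
(.node 12 (.node 6 (.node 3 (.node 1 (.leaf (50, 7)) (.node 1 (.leaf (49, 8)) (.leaf (48, 8)))) (.node 1 (.leaf (50, 8)) (.node 1 (.leaf (49, 9)) (.leaf (48, 9)))))
(.node 3 (.node 1 (.leaf (50, 9)) (.node 1 (.leaf (49, 10)) (.leaf (48, 10)))) (.node 1 (.leaf (50, 10)) (.node 1 (.leaf (49, 11)) (.leaf (48, 11))))))
(.node 6 (.node 3 (.node 1 (.leaf (50, 11)) (.node 1 (.leaf (49, 12)) (.leaf (48, 12)))) (.node 1 (.leaf (50, 12)) (.node 1 (.leaf (48, 13)) (.leaf (50, 13)))))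
(.node 3 (.node 1 (.leaf (49, 14)) (.node 1 (.leaf (48, 14)) (.leaf (50, 14)))) (.node 1 (.leaf (49, 15)) (.node 1 (.leaf (48, 15)) (.leaf (50, 15))))))))
(.node 24 (.node 12 (.node 6 (.node 3 (.node 1 (.leaf (49, 16)) (.node 1 (.leaf (48, 16)) (.leaf (50, 16)))) (.node 1 (.leaf (49, 17)) (.node 1 (.leaf (48, 17)) (.leaf (50, 17)))))
(.node 3 (.node 1 (.leaf (49, 18)) (.node 1 (.leaf (48, 18)) (.leaf (50, 18)))) (.node 1 (.leaf (49, 19)) (.node 1 (.leaf (48, 19)) (.leaf (50, 19))))))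
(.node 6 (.node 3 (.node 1 (.leaf (49, 20)) (.node 1 (.leaf (48, 20)) (.leaf (50, 20)))) (.node 1 (.leaf (49, 21)) (.node 1 (.leaf (48, 21)) (.leaf (50, 21)))))
(.node 3 (.node 1 (.leaf (49, 22)) (.node 1 (.leaf (48, 22)) (.leaf (50, 22)))) (.node 1 (.leaf (49, 23)) (.node 1 (.leaf (48, 23)) (.leaf (50, 23)))))))
(.node 12 (.node 6 (.node 3 (.node 1 (.leaf (49, 24)) (.node 1 (.leaf (48, 24)) (.leaf (50, 24)))) (.node 1 (.leaf (49, 25)) (.node 1 (.leaf (48, 25)) (.leaf (50, 25)))))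
(.node 3 (.node 1 (.leaf (48, 26)) (.node 1 (.leaf (50, 26)) (.leaf (49, 27)))) (.node 1 (.leaf (48, 27)) (.node 1 (.leaf (50, 27)) (.leaf (48, 28))))))
(.node 6 (.node 3 (.node 1 (.leaf (50, 28)) (.node 1 (.leaf (49, 29)) (.leaf (48, 29)))) (.node 1 (.leaf (50, 29)) (.node 1 (.leaf (49, 30)) (.leaf (48, 30)))))
(.node 3 (.node 1 (.leaf (50, 30)) (.node 1 (.leaf (49, 31)) (.leaf (48, 31)))) (.node 1 (.leaf (50, 31)) (.node 1 (.leaf (48, 32)) (.leaf (50, 32)))))))))
(.node 48 (.node 24 (.node 12 (.node 6 (.node 3 (.node 1 (.leaf (49, 33)) (.node 1 (.leaf (48, 33)) (.leaf (50, 33)))) (.node 1 (.leaf (49, 34)) (.node 1 (.leaf (48, 34)) (.leaf (50, 34)))))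
(.node 3 (.node 1 (.leaf (49, 35)) (.node 1 (.leaf (50, 35)) (.leaf (49, 36)))) (.node 1 (.leaf (48, 36)) (.node 1 (.leaf (50, 36)) (.leaf (49, 37))))))
(.node 6 (.node 3 (.node 1 (.leaf (48, 37)) (.node 1 (.leaf (50, 37)) (.leaf (49, 38)))) (.node 1 (.leaf (48, 38)) (.node 1 (.leaf (50, 38)) (.leaf (49, 39)))))
(.node 3 (.node 1 (.leaf (48, 39)) (.node 1 (.leaf (49, 40)) (.leaf (48, 40)))) (.node 1 (.leaf (50, 40)) (.node 1 (.leaf (49, 41)) (.leaf (48, 41)))))))
(.node 12 (.node 6 (.node 3 (.node 1 (.leaf (50, 41)) (.node 1 (.leaf (49, 42)) (.leaf (48, 42)))) (.node 1 (.leaf (50, 42)) (.node 1 (.leaf (49, 43)) (.leaf (48, 43)))))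
(.node 3 (.node 1 (.leaf (50, 43)) (.node 1 (.leaf (49, 44)) (.leaf (48, 44)))) (.node 1 (.leaf (50, 44)) (.node 1 (.leaf (49, 45)) (.leaf (48, 45))))))
(.node 6 (.node 3 (.node 1 (.leaf (50, 45)) (.node 1 (.leaf (49, 46)) (.leaf (48, 46)))) (.node 1 (.leaf (50, 46)) (.node 1 (.leaf (49, 47)) (.leaf (48, 47)))))
(.node 3 (.node 1 (.leaf (50, 47)) (.node 1 (.leaf (49, 48)) (.leaf (48, 48)))) (.node 1 (.leaf (49, 49)) (.node 1 (.leaf (48, 49)) (.leaf (50, 49))))))))
(.node 24 (.node 12 (.node 6 (.node 3 (.node 1 (.leaf (49, 50)) (.node 1 (.leaf (48, 50)) (.leaf (50, 50)))) (.node 1 (.leaf (49, 51)) (.node 1 (.leaf (48, 51)) (.leaf (50, 51)))))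
(.node 3 (.node 1 (.leaf (48, 52)) (.node 1 (.leaf (50, 52)) (.leaf (49, 53)))) (.node 1 (.leaf (48, 53)) (.node 1 (.leaf (50, 53)) (.leaf (50, 54))))))
(.node 6 (.node 3 (.node 1 (.leaf (49, 55)) (.node 1 (.leaf (48, 55)) (.leaf (50, 55)))) (.node 1 (.leaf (49, 56)) (.node 1 (.leaf (48, 56)) (.leaf (50, 56)))))
(.node 3 (.node 1 (.leaf (49, 57)) (.node 1 (.leaf (48, 57)) (.leaf (50, 57)))) (.node 1 (.leaf (48, 58)) (.node 1 (.leaf (50, 58)) (.leaf (49, 59)))))))
(.node 12 (.node 6 (.node 3 (.node 1 (.leaf (48, 59)) (.node 1 (.leaf (50, 59)) (.leaf (49, 60)))) (.node 1 (.leaf (48, 60)) (.node 1 (.leaf (50, 60)) (.leaf (50, 61)))))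
(.node 3 (.node 1 (.leaf (49, 62)) (.node 1 (.leaf (48, 62)) (.leaf (50, 62)))) (.node 1 (.leaf (49, 63)) (.node 1 (.leaf (48, 63)) (.leaf (50, 63))))))
(.node 6 (.node 3 (.node 1 (.leaf (49, 64)) (.node 1 (.leaf (48, 64)) (.leaf (49, 65)))) (.node 1 (.leaf (48, 65)) (.node 1 (.leaf (48, 66)) (.leaf (50, 66)))))
(.node 3 (.node 1 (.leaf (49, 67)) (.node 1 (.leaf (48, 67)) (.leaf (50, 67)))) (.node 1 (.leaf (49, 68)) (.node 1 (.leaf (48, 68)) (.leaf (50, 68))))))))))
(.node 96 (.node 48 (.node 24 (.node 12 (.node 6 (.node 3 (.node 1 (.leaf (49, 69)) (.node 1 (.leaf (48, 69)) (.leaf (50, 69)))) (.node 1 (.leaf (49, 70)) (.node 1 (.leaf (48, 70)) (.leaf (49, 71)))))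
(.node 3 (.node 1 (.leaf (48, 71)) (.node 1 (.leaf (50, 71)) (.leaf (49, 72)))) (.node 1 (.leaf (48, 72)) (.node 1 (.leaf (50, 72)) (.leaf (49, 73))))))
(.node 6 (.node 3 (.node 1 (.leaf (48, 73)) (.node 1 (.leaf (50, 73)) (.leaf (49, 74)))) (.node 1 (.leaf (48, 74)) (.node 1 (.leaf (50, 74)) (.leaf (49, 75)))))
(.node 3 (.node 1 (.leaf (48, 75)) (.node 1 (.leaf (50, 75)) (.leaf (49, 76)))) (.node 1 (.leaf (48, 76)) (.node 1 (.leaf (50, 76)) (.leaf (49, 77)))))))
(.node 12 (.node 6 (.node 3 (.node 1 (.leaf (48, 77)) (.node 1 (.leaf (50, 77)) (.leaf (48, 78)))) (.node 1 (.leaf (50, 78)) (.node 1 (.leaf (49, 79)) (.leaf (48, 79)))))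
(.node 3 (.node 1 (.leaf (50, 79)) (.node 1 (.leaf (48, 80)) (.leaf (50, 80)))) (.node 1 (.leaf (49, 81)) (.node 1 (.leaf (48, 81)) (.leaf (50, 81))))))
(.node 6 (.node 3 (.node 1 (.leaf (49, 82)) (.node 1 (.leaf (48, 82)) (.leaf (50, 82)))) (.node 1 (.leaf (48, 84)) (.node 1 (.leaf (50, 84)) (.leaf (49, 85)))))
(.node 3 (.node 1 (.leaf (50, 85)) (.node 1 (.leaf (49, 86)) (.leaf (50, 86)))) (.node 1 (.leaf (48, 87)) (.node 1 (.leaf (50, 87)) (.leaf (49, 88))))))))
(.node 24 (.node 12 (.node 6 (.node 3 (.node 1 (.leaf (48, 88)) (.node 1 (.leaf (50, 88)) (.leaf (49, 89)))) (.node 1 (.leaf (48, 89)) (.node 1 (.leaf (50, 89)) (.leaf (49, 90)))))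
(.node 3 (.node 1 (.leaf (48, 90)) (.node 1 (.leaf (48, 91)) (.leaf (50, 91)))) (.node 1 (.leaf (49, 92)) (.node 1 (.leaf (48, 92)) (.leaf (49, 93))))))
(.node 6 (.node 3 (.node 1 (.leaf (48, 93)) (.node 1 (.leaf (50, 93)) (.leaf (49, 94)))) (.node 1 (.leaf (48, 95)) (.node 1 (.leaf (50, 95)) (.leaf (49, 96)))))
(.node 3 (.node 1 (.leaf (50, 96)) (.node 1 (.leaf (49, 97)) (.leaf (48, 97)))) (.node 1 (.leaf (50, 97)) (.node 1 (.leaf (49, 98)) (.leaf (48, 98)))))))
(.node 12 (.node 6 (.node 3 (.node 1 (.leaf (50, 98)) (.node 1 (.leaf (49, 99)) (.leaf (48, 99)))) (.node 1 (.leaf (50, 99)) (.node 1 (.leaf (49, 100)) (.leaf (48, 100)))))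
(.node 3 (.node 1 (.leaf (49, 101)) (.node 1 (.leaf (48, 101)) (.leaf (50, 101)))) (.node 1 (.leaf (48, 102)) (.node 1 (.leaf (49, 103)) (.leaf (48, 103))))))
(.node 6 (.node 3 (.node 1 (.leaf (50, 103)) (.node 1 (.leaf (48, 104)) (.leaf (50, 104)))) (.node 1 (.leaf (49, 105)) (.node 1 (.leaf (48, 105)) (.leaf (50, 105)))))
(.node 3 (.node 1 (.leaf (49, 106)) (.node 1 (.leaf (50, 106)) (.leaf (49, 107)))) (.node 1 (.leaf (48, 107)) (.node 1 (.leaf (50, 107)) (.leaf (48, 108)))))))))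
(.node 48 (.node 24 (.node 12 (.node 6 (.node 3 (.node 1 (.leaf (50, 108)) (.node 1 (.leaf (48, 109)) (.leaf (50, 109)))) (.node 1 (.leaf (49, 110)) (.node 1 (.leaf (48, 110)) (.leaf (50, 110)))))
(.node 3 (.node 1 (.leaf (49, 111)) (.node 1 (.leaf (50, 111)) (.leaf (48, 112)))) (.node 1 (.leaf (50, 112)) (.node 1 (.leaf (49, 113)) (.leaf (48, 113))))))
(.node 6 (.node 3 (.node 1 (.leaf (50, 113)) (.node 1 (.leaf (49, 114)) (.leaf (48, 114)))) (.node 1 (.leaf (50, 114)) (.node 1 (.leaf (49, 115)) (.leaf (48, 115)))))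
(.node 3 (.node 1 (.leaf (50, 115)) (.node 1 (.leaf (49, 116)) (.leaf (48, 116)))) (.node 1 (.leaf (50, 116)) (.node 1 (.leaf (49, 117)) (.leaf (48, 117)))))))
(.node 12 (.node 6 (.node 3 (.node 1 (.leaf (50, 117)) (.node 1 (.leaf (49, 118)) (.leaf (48, 118)))) (.node 1 (.leaf (50, 118)) (.node 1 (.leaf (49, 119)) (.leaf (48, 119)))))
(.node 3 (.node 1 (.leaf (50, 119)) (.node 1 (.leaf (49, 120)) (.leaf (48, 120)))) (.node 1 (.leaf (49, 121)) (.node 1 (.leaf (48, 121)) (.leaf (49, 122))))))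
(.node 6 (.node 3 (.node 1 (.leaf (48, 122)) (.node 1 (.leaf (50, 122)) (.leaf (49, 123)))) (.node 1 (.leaf (48, 123)) (.node 1 (.leaf (50, 123)) (.leaf (49, 124)))))
(.node 3 (.node 1 (.leaf (48, 124)) (.node 1 (.leaf (50, 124)) (.leaf (48, 125)))) (.node 1 (.leaf (50, 125)) (.node 1 (.leaf (49, 126)) (.leaf (48, 126))))))))
(.node 24 (.node 12 (.node 6 (.node 3 (.node 1 (.leaf (50, 126)) (.node 1 (.leaf (50, 127)) (.leaf (49, 128)))) (.node 1 (.leaf (48, 128)) (.node 1 (.leaf (50, 128)) (.leaf (48, 129)))))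
(.node 3 (.node 1 (.leaf (50, 129)) (.node 1 (.leaf (49, 130)) (.leaf (50, 130)))) (.node 1 (.leaf (48, 131)) (.node 1 (.leaf (49, 132)) (.leaf (48, 132))))))
(.node 6 (.node 3 (.node 1 (.leaf (50, 132)) (.node 1 (.leaf (48, 133)) (.leaf (50, 133)))) (.node 1 (.leaf (50, 134)) (.node 1 (.leaf (49, 135)) (.leaf (48, 135)))))
(.node 3 (.node 1 (.leaf (50, 135)) (.node 1 (.leaf (49, 136)) (.leaf (48, 136)))) (.node 1 (.leaf (50, 136)) (.node 1 (.leaf (49, 137)) (.leaf (48, 137)))))))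
(.node 12 (.node 6 (.node 3 (.node 1 (.leaf (49, 138)) (.node 1 (.leaf (48, 139)) (.leaf (50, 139)))) (.node 1 (.leaf (49, 140)) (.node 1 (.leaf (48, 140)) (.leaf (49, 141)))))
(.node 3 (.node 1 (.leaf (50, 141)) (.node 1 (.leaf (49, 142)) (.leaf (48, 142)))) (.node 1 (.leaf (49, 143)) (.node 1 (.leaf (48, 143)) (.leaf (50, 143))))))
(.node 6 (.node 3 (.node 1 (.leaf (49, 144)) (.node 1 (.leaf (50, 144)) (.leaf (49, 145)))) (.node 1 (.leaf (48, 145)) (.node 1 (.leaf (50, 145)) (.leaf (49, 146)))))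
(.node 3 (.node 1 (.leaf (50, 146)) (.node 1 (.leaf (49, 147)) (.leaf (48, 147)))) (.node 1 (.leaf (50, 147)) (.node 1 (.leaf (49, 148)) (.leaf (48, 148)))))))))))

/-- The reasons. -/
def caseAFullN4HowLR : Tab (ℕ × ℕ) :=
(.node 192 (.node 96 (.node 48 (.node 24 (.node 12 (.node 6 (.node 3 (.node 1 (.leaf (50, 148)) (.node 1 (.leaf (49, 149)) (.leaf (48, 149)))) (.node 1 (.leaf (50, 149)) (.node 1 (.leaf (48, 150)) (.leaf (50, 150)))))
(.node 3 (.node 1 (.leaf (49, 151)) (.node 1 (.leaf (48, 151)) (.leaf (50, 151)))) (.node 1 (.leaf (48, 152)) (.node 1 (.leaf (50, 152)) (.leaf (49, 153))))))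
(.node 6 (.node 3 (.node 1 (.leaf (48, 153)) (.node 1 (.leaf (50, 153)) (.leaf (49, 154)))) (.node 1 (.leaf (48, 154)) (.node 1 (.leaf (50, 154)) (.leaf (48, 155)))))
(.node 3 (.node 1 (.leaf (49, 156)) (.node 1 (.leaf (50, 156)) (.leaf (49, 157)))) (.node 1 (.leaf (50, 157)) (.node 1 (.leaf (48, 158)) (.leaf (50, 158)))))))
(.node 12 (.node 6 (.node 3 (.node 1 (.leaf (49, 159)) (.node 1 (.leaf (48, 159)) (.leaf (50, 159)))) (.node 1 (.leaf (49, 160)) (.node 1 (.leaf (48, 160)) (.leaf (50, 160)))))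
(.node 3 (.node 1 (.leaf (49, 161)) (.node 1 (.leaf (48, 161)) (.leaf (48, 162)))) (.node 1 (.leaf (50, 162)) (.node 1 (.leaf (49, 163)) (.leaf (48, 163))))))
(.node 6 (.node 3 (.node 1 (.leaf (49, 164)) (.node 1 (.leaf (50, 164)) (.leaf (49, 165)))) (.node 1 (.leaf (48, 166)) (.node 1 (.leaf (50, 166)) (.leaf (49, 167)))))
(.node 3 (.node 1 (.leaf (50, 167)) (.node 1 (.leaf (49, 168)) (.leaf (48, 168)))) (.node 1 (.leaf (50, 168)) (.node 1 (.leaf (49, 169)) (.leaf (48, 169))))))))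
(.node 24 (.node 12 (.node 6 (.node 3 (.node 1 (.leaf (50, 169)) (.node 1 (.leaf (49, 170)) (.leaf (48, 170)))) (.node 1 (.leaf (50, 170)) (.node 1 (.leaf (49, 171)) (.leaf (48, 171)))))
(.node 3 (.node 1 (.leaf (49, 172)) (.node 1 (.leaf (48, 172)) (.leaf (50, 172)))) (.node 1 (.leaf (49, 173)) (.node 1 (.leaf (48, 173)) (.leaf (50, 173))))))
(.node 6 (.node 3 (.node 1 (.leaf (48, 174)) (.node 1 (.leaf (50, 174)) (.leaf (49, 175)))) (.node 1 (.leaf (50, 175)) (.node 1 (.leaf (49, 176)) (.leaf (50, 176)))))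
(.node 3 (.node 1 (.leaf (48, 177)) (.node 1 (.leaf (50, 177)) (.leaf (48, 178)))) (.node 1 (.leaf (50, 178)) (.node 1 (.leaf (48, 179)) (.leaf (50, 179)))))))
(.node 12 (.node 6 (.node 3 (.node 1 (.leaf (49, 180)) (.node 1 (.leaf (48, 180)) (.leaf (50, 180)))) (.node 1 (.leaf (49, 181)) (.node 1 (.leaf (50, 181)) (.leaf (49, 182)))))
(.node 3 (.node 1 (.leaf (48, 182)) (.node 1 (.leaf (50, 182)) (.leaf (49, 183)))) (.node 1 (.leaf (48, 183)) (.node 1 (.leaf (50, 183)) (.leaf (49, 184))))))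
(.node 6 (.node 3 (.node 1 (.leaf (48, 184)) (.node 1 (.leaf (50, 184)) (.leaf (49, 185)))) (.node 1 (.leaf (48, 185)) (.node 1 (.leaf (49, 186)) (.leaf (48, 186)))))
(.node 3 (.node 1 (.leaf (50, 186)) (.node 1 (.leaf (49, 187)) (.leaf (48, 187)))) (.node 1 (.leaf (50, 187)) (.node 1 (.leaf (49, 188)) (.leaf (48, 188)))))))))
(.node 48 (.node 24 (.node 12 (.node 6 (.node 3 (.node 1 (.leaf (50, 188)) (.node 1 (.leaf (48, 189)) (.leaf (50, 189)))) (.node 1 (.leaf (49, 190)) (.node 1 (.leaf (48, 190)) (.leaf (50, 190)))))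
(.node 3 (.node 1 (.leaf (49, 191)) (.node 1 (.leaf (48, 191)) (.leaf (50, 191)))) (.node 1 (.leaf (49, 192)) (.node 1 (.leaf (48, 192)) (.leaf (49, 193))))))
(.node 6 (.node 3 (.node 1 (.leaf (48, 193)) (.node 1 (.leaf (50, 193)) (.leaf (48, 194)))) (.node 1 (.leaf (50, 194)) (.node 1 (.leaf (49, 195)) (.leaf (48, 195)))))
(.node 3 (.node 1 (.leaf (50, 195)) (.node 1 (.leaf (48, 196)) (.leaf (50, 196)))) (.node 1 (.leaf (50, 197)) (.node 1 (.leaf (49, 198)) (.leaf (50, 198)))))))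
(.node 12 (.node 6 (.node 3 (.node 1 (.leaf (49, 199)) (.node 1 (.leaf (50, 199)) (.leaf (49, 200)))) (.node 1 (.leaf (48, 200)) (.node 1 (.leaf (48, 201)) (.leaf (50, 201)))))
(.node 3 (.node 1 (.leaf (49, 202)) (.node 1 (.leaf (48, 202)) (.leaf (50, 202)))) (.node 1 (.leaf (48, 203)) (.node 1 (.leaf (50, 203)) (.leaf (50, 204))))))
(.node 6 (.node 3 (.node 1 (.leaf (49, 205)) (.node 1 (.leaf (48, 205)) (.leaf (50, 205)))) (.node 1 (.leaf (49, 206)) (.node 1 (.leaf (49, 207)) (.leaf (48, 207)))))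
(.node 3 (.node 1 (.leaf (49, 208)) (.node 1 (.leaf (48, 208)) (.leaf (48, 209)))) (.node 1 (.leaf (50, 209)) (.node 1 (.leaf (49, 210)) (.leaf (48, 210))))))))
(.node 24 (.node 12 (.node 6 (.node 3 (.node 1 (.leaf (50, 210)) (.node 1 (.leaf (49, 211)) (.leaf (48, 211)))) (.node 1 (.leaf (50, 211)) (.node 1 (.leaf (49, 212)) (.leaf (48, 212)))))
(.node 3 (.node 1 (.leaf (50, 212)) (.node 1 (.leaf (49, 213)) (.leaf (48, 213)))) (.node 1 (.leaf (49, 214)) (.node 1 (.leaf (50, 214)) (.leaf (49, 215))))))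
(.node 6 (.node 3 (.node 1 (.leaf (48, 215)) (.node 1 (.leaf (50, 215)) (.leaf (49, 216)))) (.node 1 (.leaf (48, 216)) (.node 1 (.leaf (49, 217)) (.leaf (48, 217)))))
(.node 3 (.node 1 (.leaf (50, 217)) (.node 1 (.leaf (50, 218)) (.leaf (48, 219)))) (.node 1 (.leaf (50, 219)) (.node 1 (.leaf (50, 220)) (.leaf (49, 221)))))))
(.node 12 (.node 6 (.node 3 (.node 1 (.leaf (48, 221)) (.node 1 (.leaf (50, 221)) (.leaf (49, 222)))) (.node 1 (.leaf (48, 222)) (.node 1 (.leaf (50, 222)) (.leaf (48, 224)))))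
(.node 3 (.node 1 (.leaf (50, 224)) (.node 1 (.leaf (49, 225)) (.leaf (50, 225)))) (.node 1 (.leaf (49, 226)) (.node 1 (.leaf (50, 226)) (.leaf (48, 227))))))
(.node 6 (.node 3 (.node 1 (.leaf (49, 229)) (.node 1 (.leaf (50, 229)) (.leaf (49, 230)))) (.node 1 (.leaf (48, 230)) (.node 1 (.leaf (49, 231)) (.leaf (48, 231)))))
(.node 3 (.node 1 (.leaf (50, 231)) (.node 1 (.leaf (49, 232)) (.leaf (48, 232)))) (.node 1 (.leaf (50, 232)) (.node 1 (.leaf (49, 233)) (.leaf (48, 233))))))))))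
(.node 96 (.node 48 (.node 24 (.node 12 (.node 6 (.node 3 (.node 1 (.leaf (50, 233)) (.node 1 (.leaf (49, 234)) (.leaf (48, 234)))) (.node 1 (.leaf (50, 234)) (.node 1 (.leaf (48, 235)) (.leaf (49, 236)))))
(.node 3 (.node 1 (.leaf (48, 236)) (.node 1 (.leaf (50, 236)) (.leaf (49, 237)))) (.node 1 (.leaf (50, 238)) (.node 1 (.leaf (49, 239)) (.leaf (48, 239))))))
(.node 6 (.node 3 (.node 1 (.leaf (50, 239)) (.node 1 (.leaf (48, 240)) (.leaf (50, 240)))) (.node 1 (.leaf (48, 241)) (.node 1 (.leaf (49, 242)) (.leaf (48, 242)))))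
(.node 3 (.node 1 (.leaf (50, 242)) (.node 1 (.leaf (50, 243)) (.leaf (48, 244)))) (.node 1 (.leaf (50, 244)) (.node 1 (.leaf (49, 245)) (.leaf (48, 245)))))))
(.node 12 (.node 6 (.node 3 (.node 1 (.leaf (48, 246)) (.node 1 (.leaf (50, 246)) (.leaf (49, 247)))) (.node 1 (.leaf (48, 247)) (.node 1 (.leaf (49, 248)) (.leaf (48, 248)))))
(.node 3 (.node 1 (.leaf (50, 248)) (.node 1 (.leaf (48, 249)) (.leaf (50, 249)))) (.node 1 (.leaf (49, 250)) (.node 1 (.leaf (50, 250)) (.leaf (49, 251))))))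
(.node 6 (.node 3 (.node 1 (.leaf (50, 251)) (.node 1 (.leaf (49, 252)) (.leaf (48, 252)))) (.node 1 (.leaf (50, 252)) (.node 1 (.leaf (49, 253)) (.leaf (50, 253)))))
(.node 3 (.node 1 (.leaf (49, 254)) (.node 1 (.leaf (49, 255)) (.leaf (48, 255)))) (.node 1 (.leaf (50, 255)) (.node 1 (.leaf (49, 256)) (.leaf (48, 256))))))))
(.node 24 (.node 12 (.node 6 (.node 3 (.node 1 (.leaf (50, 256)) (.node 1 (.leaf (49, 257)) (.leaf (50, 257)))) (.node 1 (.leaf (49, 259)) (.node 1 (.leaf (50, 259)) (.leaf (50, 260)))))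
(.node 3 (.node 1 (.leaf (49, 261)) (.node 1 (.leaf (50, 261)) (.leaf (49, 262)))) (.node 1 (.leaf (49, 263)) (.node 1 (.leaf (49, 264)) (.leaf (48, 264))))))
(.node 6 (.node 3 (.node 1 (.leaf (48, 265)) (.node 1 (.leaf (50, 265)) (.leaf (49, 266)))) (.node 1 (.leaf (48, 266)) (.node 1 (.leaf (50, 266)) (.leaf (49, 267)))))
(.node 3 (.node 1 (.leaf (48, 267)) (.node 1 (.leaf (49, 268)) (.leaf (48, 268)))) (.node 1 (.leaf (50, 268)) (.node 1 (.leaf (49, 269)) (.leaf (48, 270)))))))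
(.node 12 (.node 6 (.node 3 (.node 1 (.leaf (50, 270)) (.node 1 (.leaf (49, 271)) (.leaf (48, 271)))) (.node 1 (.leaf (50, 271)) (.node 1 (.leaf (49, 272)) (.leaf (50, 272)))))
(.node 3 (.node 1 (.leaf (48, 273)) (.node 1 (.leaf (50, 274)) (.leaf (49, 275)))) (.node 1 (.leaf (48, 275)) (.node 1 (.leaf (50, 275)) (.leaf (48, 276))))))
(.node 6 (.node 3 (.node 1 (.leaf (50, 276)) (.node 1 (.leaf (48, 278)) (.leaf (50, 278)))) (.node 1 (.leaf (50, 279)) (.node 1 (.leaf (49, 280)) (.leaf (50, 280)))))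
(.node 3 (.node 1 (.leaf (48, 281)) (.node 1 (.leaf (50, 281)) (.leaf (49, 282)))) (.node 1 (.leaf (50, 282)) (.node 1 (.leaf (49, 283)) (.leaf (48, 283)))))))))
(.node 48 (.node 24 (.node 12 (.node 6 (.node 3 (.node 1 (.leaf (48, 284)) (.node 1 (.leaf (50, 284)) (.leaf (49, 285)))) (.node 1 (.leaf (49, 286)) (.node 1 (.leaf (48, 286)) (.leaf (50, 286)))))
(.node 3 (.node 1 (.leaf (49, 287)) (.node 1 (.leaf (48, 288)) (.leaf (50, 288)))) (.node 1 (.leaf (49, 289)) (.node 1 (.leaf (48, 289)) (.leaf (49, 290))))))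
(.node 6 (.node 3 (.node 1 (.leaf (48, 290)) (.node 1 (.leaf (50, 290)) (.leaf (49, 291)))) (.node 1 (.leaf (50, 291)) (.node 1 (.leaf (49, 292)) (.leaf (48, 292)))))
(.node 3 (.node 1 (.leaf (49, 293)) (.node 1 (.leaf (48, 293)) (.leaf (48, 295)))) (.node 1 (.leaf (50, 295)) (.node 1 (.leaf (49, 296)) (.leaf (48, 296)))))))
(.node 12 (.node 6 (.node 3 (.node 1 (.leaf (50, 296)) (.node 1 (.leaf (50, 297)) (.leaf (49, 298)))) (.node 1 (.leaf (50, 298)) (.node 1 (.leaf (48, 299)) (.leaf (50, 299)))))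
(.node 3 (.node 1 (.leaf (48, 300)) (.node 1 (.leaf (50, 300)) (.leaf (49, 301)))) (.node 1 (.leaf (50, 301)) (.node 1 (.leaf (49, 302)) (.leaf (50, 302))))))
(.node 6 (.node 3 (.node 1 (.leaf (48, 303)) (.node 1 (.leaf (49, 304)) (.leaf (48, 304)))) (.node 1 (.leaf (50, 305)) (.node 1 (.leaf (49, 306)) (.leaf (48, 306)))))
(.node 3 (.node 1 (.leaf (50, 306)) (.node 1 (.leaf (49, 307)) (.leaf (48, 307)))) (.node 1 (.leaf (50, 307)) (.node 1 (.leaf (48, 308)) (.leaf (50, 308))))))))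
(.node 24 (.node 12 (.node 6 (.node 3 (.node 1 (.leaf (49, 309)) (.node 1 (.leaf (48, 309)) (.leaf (50, 309)))) (.node 1 (.leaf (50, 310)) (.node 1 (.leaf (49, 311)) (.leaf (48, 311)))))
(.node 3 (.node 1 (.leaf (50, 311)) (.node 1 (.leaf (48, 312)) (.leaf (49, 313)))) (.node 1 (.leaf (50, 313)) (.node 1 (.leaf (48, 314)) (.leaf (49, 315))))))
(.node 6 (.node 3 (.node 1 (.leaf (48, 315)) (.node 1 (.leaf (50, 315)) (.leaf (48, 316)))) (.node 1 (.leaf (50, 317)) (.node 1 (.leaf (49, 318)) (.leaf (50, 318)))))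
(.node 3 (.node 1 (.leaf (49, 319)) (.node 1 (.leaf (48, 319)) (.leaf (50, 319)))) (.node 1 (.leaf (49, 320)) (.node 1 (.leaf (48, 321)) (.leaf (49, 322)))))))
(.node 12 (.node 6 (.node 3 (.node 1 (.leaf (48, 322)) (.node 1 (.leaf (49, 323)) (.leaf (50, 323)))) (.node 1 (.leaf (49, 324)) (.node 1 (.leaf (48, 324)) (.leaf (48, 325)))))
(.node 3 (.node 1 (.leaf (50, 325)) (.node 1 (.leaf (50, 326)) (.leaf (49, 327)))) (.node 1 (.leaf (50, 327)) (.node 1 (.leaf (49, 328)) (.leaf (50, 328))))))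
(.node 6 (.node 3 (.node 1 (.leaf (48, 329)) (.node 1 (.leaf (50, 329)) (.leaf (49, 330)))) (.node 1 (.leaf (50, 330)) (.node 1 (.leaf (49, 331)) (.leaf (48, 331)))))
(.node 3 (.node 1 (.leaf (50, 331)) (.node 1 (.leaf (50, 332)) (.leaf (49, 333)))) (.node 1 (.leaf (48, 333)) (.node 1 (.leaf (50, 333)) (.leaf (50, 334)))))))))))

/-- The reasons. -/
def caseAFullN4HowL : Tab (ℕ × ℕ) := .node 384 caseAFullN4HowLL caseAFullN4HowLR

/-- The reasons. -/
def caseAFullN4HowRL : Tab (ℕ × ℕ) :=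
(.node 192 (.node 96 (.node 48 (.node 24 (.node 12 (.node 6 (.node 3 (.node 1 (.leaf (49, 335)) (.node 1 (.leaf (48, 335)) (.leaf (49, 336)))) (.node 1 (.leaf (48, 336)) (.node 1 (.leaf (50, 336)) (.leaf (48, 337)))))
(.node 3 (.node 1 (.leaf (50, 338)) (.node 1 (.leaf (49, 339)) (.leaf (50, 339)))) (.node 1 (.leaf (48, 340)) (.node 1 (.leaf (49, 341)) (.leaf (48, 341))))))
(.node 6 (.node 3 (.node 1 (.leaf (50, 341)) (.node 1 (.leaf (49, 342)) (.leaf (48, 342)))) (.node 1 (.leaf (48, 343)) (.node 1 (.leaf (50, 343)) (.leaf (49, 344)))))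
(.node 3 (.node 1 (.leaf (50, 344)) (.node 1 (.leaf (49, 345)) (.leaf (49, 346)))) (.node 1 (.leaf (50, 346)) (.node 1 (.leaf (49, 347)) (.leaf (48, 347)))))))
(.node 12 (.node 6 (.node 3 (.node 1 (.leaf (49, 348)) (.node 1 (.leaf (48, 348)) (.leaf (50, 348)))) (.node 1 (.leaf (49, 349)) (.node 1 (.leaf (48, 349)) (.leaf (49, 350)))))
(.node 3 (.node 1 (.leaf (48, 350)) (.node 1 (.leaf (48, 351)) (.leaf (50, 351)))) (.node 1 (.leaf (48, 352)) (.node 1 (.leaf (50, 352)) (.leaf (49, 353))))))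
(.node 6 (.node 3 (.node 1 (.leaf (50, 353)) (.node 1 (.leaf (49, 354)) (.leaf (50, 354)))) (.node 1 (.leaf (48, 355)) (.node 1 (.leaf (50, 355)) (.leaf (48, 356)))))
(.node 3 (.node 1 (.leaf (50, 356)) (.node 1 (.leaf (48, 357)) (.leaf (50, 357)))) (.node 1 (.leaf (48, 358)) (.node 1 (.leaf (50, 358)) (.leaf (49, 359))))))))
(.node 24 (.node 12 (.node 6 (.node 3 (.node 1 (.leaf (50, 359)) (.node 1 (.leaf (49, 360)) (.leaf (50, 360)))) (.node 1 (.leaf (48, 361)) (.node 1 (.leaf (50, 361)) (.leaf (49, 362)))))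
(.node 3 (.node 1 (.leaf (49, 363)) (.node 1 (.leaf (48, 363)) (.leaf (48, 364)))) (.node 1 (.leaf (50, 364)) (.node 1 (.leaf (49, 365)) (.leaf (48, 365))))))
(.node 6 (.node 3 (.node 1 (.leaf (48, 366)) (.node 1 (.leaf (50, 366)) (.leaf (49, 367)))) (.node 1 (.leaf (48, 367)) (.node 1 (.leaf (50, 367)) (.leaf (50, 368)))))
(.node 3 (.node 1 (.leaf (50, 369)) (.node 1 (.leaf (49, 370)) (.leaf (49, 371)))) (.node 1 (.leaf (50, 371)) (.node 1 (.leaf (49, 372)) (.leaf (48, 373)))))))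
(.node 12 (.node 6 (.node 3 (.node 1 (.leaf (50, 373)) (.node 1 (.leaf (48, 374)) (.leaf (50, 374)))) (.node 1 (.leaf (50, 375)) (.node 1 (.leaf (49, 376)) (.leaf (48, 376)))))
(.node 3 (.node 1 (.leaf (49, 377)) (.node 1 (.leaf (48, 378)) (.leaf (48, 379)))) (.node 1 (.leaf (50, 379)) (.node 1 (.leaf (48, 380)) (.leaf (50, 380))))))
(.node 6 (.node 3 (.node 1 (.leaf (49, 381)) (.node 1 (.leaf (48, 381)) (.leaf (50, 381)))) (.node 1 (.leaf (49, 382)) (.node 1 (.leaf (48, 382)) (.leaf (50, 382)))))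
(.node 3 (.node 1 (.leaf (48, 383)) (.node 1 (.leaf (49, 384)) (.leaf (50, 384)))) (.node 1 (.leaf (49, 385)) (.node 1 (.leaf (48, 385)) (.leaf (48, 386)))))))))
(.node 48 (.node 24 (.node 12 (.node 6 (.node 3 (.node 1 (.leaf (49, 387)) (.node 1 (.leaf (48, 387)) (.leaf (50, 387)))) (.node 1 (.leaf (48, 389)) (.node 1 (.leaf (50, 389)) (.leaf (49, 391)))))
(.node 3 (.node 1 (.leaf (48, 391)) (.node 1 (.leaf (49, 392)) (.leaf (48, 392)))) (.node 1 (.leaf (50, 392)) (.node 1 (.leaf (48, 394)) (.leaf (50, 394))))))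
(.node 6 (.node 3 (.node 1 (.leaf (49, 395)) (.node 1 (.leaf (50, 395)) (.leaf (49, 396)))) (.node 1 (.leaf (50, 396)) (.node 1 (.leaf (48, 397)) (.leaf (49, 399)))))
(.node 3 (.node 1 (.leaf (50, 399)) (.node 1 (.leaf (49, 400)) (.leaf (48, 400)))) (.node 1 (.leaf (49, 401)) (.node 1 (.leaf (50, 401)) (.leaf (49, 402)))))))
(.node 12 (.node 6 (.node 3 (.node 1 (.leaf (48, 402)) (.node 1 (.leaf (50, 402)) (.leaf (49, 403)))) (.node 1 (.leaf (48, 403)) (.node 1 (.leaf (50, 403)) (.leaf (48, 404)))))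
(.node 3 (.node 1 (.leaf (49, 405)) (.node 1 (.leaf (48, 405)) (.leaf (50, 405)))) (.node 1 (.leaf (49, 406)) (.node 1 (.leaf (50, 407)) (.leaf (49, 408))))))
(.node 6 (.node 3 (.node 1 (.leaf (48, 408)) (.node 1 (.leaf (48, 409)) (.leaf (50, 409)))) (.node 1 (.leaf (48, 410)) (.node 1 (.leaf (49, 411)) (.leaf (50, 411)))))
(.node 3 (.node 1 (.leaf (50, 412)) (.node 1 (.leaf (50, 413)) (.leaf (49, 414)))) (.node 1 (.leaf (48, 414)) (.node 1 (.leaf (48, 415)) (.leaf (50, 415))))))))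
(.node 24 (.node 12 (.node 6 (.node 3 (.node 1 (.leaf (48, 416)) (.node 1 (.leaf (49, 417)) (.leaf (48, 417)))) (.node 1 (.leaf (50, 417)) (.node 1 (.leaf (48, 418)) (.leaf (50, 419)))))
(.node 3 (.node 1 (.leaf (49, 420)) (.node 1 (.leaf (50, 420)) (.leaf (49, 421)))) (.node 1 (.leaf (50, 421)) (.node 1 (.leaf (49, 422)) (.leaf (49, 423))))))
(.node 6 (.node 3 (.node 1 (.leaf (48, 423)) (.node 1 (.leaf (50, 423)) (.leaf (49, 424)))) (.node 1 (.leaf (50, 424)) (.node 1 (.leaf (49, 425)) (.leaf (50, 425)))))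
(.node 3 (.node 1 (.leaf (49, 427)) (.node 1 (.leaf (50, 428)) (.leaf (50, 429)))) (.node 1 (.leaf (49, 430)) (.node 1 (.leaf (48, 432)) (.leaf (48, 433)))))))
(.node 12 (.node 6 (.node 3 (.node 1 (.leaf (48, 434)) (.node 1 (.leaf (50, 434)) (.leaf (49, 435)))) (.node 1 (.leaf (48, 435)) (.node 1 (.leaf (48, 436)) (.leaf (50, 436)))))
(.node 3 (.node 1 (.leaf (49, 437)) (.node 1 (.leaf (49, 439)) (.leaf (48, 439)))) (.node 1 (.leaf (50, 439)) (.node 1 (.leaf (49, 440)) (.leaf (50, 441))))))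
(.node 6 (.node 3 (.node 1 (.leaf (49, 442)) (.node 1 (.leaf (48, 442)) (.leaf (50, 442)))) (.node 1 (.leaf (48, 443)) (.node 1 (.leaf (50, 443)) (.leaf (48, 445)))))
(.node 3 (.node 1 (.leaf (50, 445)) (.node 1 (.leaf (50, 446)) (.leaf (48, 447)))) (.node 1 (.leaf (50, 447)) (.node 1 (.leaf (49, 448)) (.leaf (49, 449))))))))))
(.node 96 (.node 48 (.node 24 (.node 12 (.node 6 (.node 3 (.node 1 (.leaf (49, 450)) (.node 1 (.leaf (49, 451)) (.leaf (48, 451)))) (.node 1 (.leaf (50, 451)) (.node 1 (.leaf (48, 453)) (.leaf (50, 453)))))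
(.node 3 (.node 1 (.leaf (49, 454)) (.node 1 (.leaf (49, 455)) (.leaf (48, 455)))) (.node 1 (.leaf (49, 456)) (.node 1 (.leaf (50, 456)) (.leaf (49, 457))))))
(.node 6 (.node 3 (.node 1 (.leaf (49, 458)) (.node 1 (.leaf (48, 458)) (.leaf (48, 460)))) (.node 1 (.leaf (50, 460)) (.node 1 (.leaf (49, 461)) (.leaf (50, 461)))))
(.node 3 (.node 1 (.leaf (48, 462)) (.node 1 (.leaf (50, 462)) (.leaf (48, 463)))) (.node 1 (.leaf (50, 463)) (.node 1 (.leaf (49, 464)) (.leaf (48, 466)))))))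
(.node 12 (.node 6 (.node 3 (.node 1 (.leaf (49, 467)) (.node 1 (.leaf (48, 467)) (.leaf (48, 468)))) (.node 1 (.leaf (50, 468)) (.node 1 (.leaf (49, 469)) (.leaf (50, 469)))))
(.node 3 (.node 1 (.leaf (48, 470)) (.node 1 (.leaf (50, 470)) (.leaf (48, 471)))) (.node 1 (.leaf (50, 471)) (.node 1 (.leaf (49, 472)) (.leaf (48, 472))))))
(.node 6 (.node 3 (.node 1 (.leaf (50, 473)) (.node 1 (.leaf (48, 474)) (.leaf (50, 474)))) (.node 1 (.leaf (48, 475)) (.node 1 (.leaf (50, 475)) (.leaf (48, 476)))))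
(.node 3 (.node 1 (.leaf (50, 476)) (.node 1 (.leaf (49, 477)) (.leaf (48, 477)))) (.node 1 (.leaf (49, 479)) (.node 1 (.leaf (48, 479)) (.leaf (48, 480))))))))
(.node 24 (.node 12 (.node 6 (.node 3 (.node 1 (.leaf (50, 480)) (.node 1 (.leaf (48, 481)) (.leaf (50, 482)))) (.node 1 (.leaf (50, 484)) (.node 1 (.leaf (48, 485)) (.leaf (50, 485)))))
(.node 3 (.node 1 (.leaf (49, 486)) (.node 1 (.leaf (48, 486)) (.leaf (49, 487)))) (.node 1 (.leaf (48, 487)) (.node 1 (.leaf (48, 489)) (.leaf (48, 490))))))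
(.node 6 (.node 3 (.node 1 (.leaf (49, 491)) (.node 1 (.leaf (50, 491)) (.leaf (49, 492)))) (.node 1 (.leaf (48, 492)) (.node 1 (.leaf (49, 493)) (.leaf (48, 493)))))
(.node 3 (.node 1 (.leaf (49, 494)) (.node 1 (.leaf (48, 494)) (.leaf (49, 495)))) (.node 1 (.leaf (49, 496)) (.node 1 (.leaf (48, 496)) (.leaf (50, 496)))))))
(.node 12 (.node 6 (.node 3 (.node 1 (.leaf (49, 497)) (.node 1 (.leaf (49, 498)) (.leaf (48, 498)))) (.node 1 (.leaf (48, 499)) (.node 1 (.leaf (49, 500)) (.leaf (48, 500)))))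
(.node 3 (.node 1 (.leaf (50, 500)) (.node 1 (.leaf (49, 502)) (.leaf (50, 502)))) (.node 1 (.leaf (48, 503)) (.node 1 (.leaf (48, 504)) (.leaf (50, 504))))))
(.node 6 (.node 3 (.node 1 (.leaf (49, 505)) (.node 1 (.leaf (50, 506)) (.leaf (48, 507)))) (.node 1 (.leaf (49, 508)) (.node 1 (.leaf (48, 509)) (.leaf (50, 509)))))
(.node 3 (.node 1 (.leaf (49, 510)) (.node 1 (.leaf (50, 512)) (.leaf (50, 514)))) (.node 1 (.leaf (50, 515)) (.node 1 (.leaf (48, 516)) (.leaf (50, 516)))))))))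
(.node 48 (.node 24 (.node 12 (.node 6 (.node 3 (.node 1 (.leaf (50, 517)) (.node 1 (.leaf (50, 518)) (.leaf (48, 519)))) (.node 1 (.leaf (50, 519)) (.node 1 (.leaf (48, 520)) (.leaf (50, 520)))))
(.node 3 (.node 1 (.leaf (49, 521)) (.node 1 (.leaf (49, 522)) (.leaf (48, 522)))) (.node 1 (.leaf (50, 522)) (.node 1 (.leaf (49, 523)) (.leaf (48, 523))))))
(.node 6 (.node 3 (.node 1 (.leaf (49, 524)) (.node 1 (.leaf (50, 524)) (.leaf (49, 525)))) (.node 1 (.leaf (48, 525)) (.node 1 (.leaf (48, 526)) (.leaf (49, 527)))))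
(.node 3 (.node 1 (.leaf (48, 527)) (.node 1 (.leaf (50, 527)) (.leaf (49, 528)))) (.node 1 (.leaf (48, 528)) (.node 1 (.leaf (50, 528)) (.leaf (50, 529)))))))
(.node 12 (.node 6 (.node 3 (.node 1 (.leaf (49, 530)) (.node 1 (.leaf (48, 530)) (.leaf (49, 531)))) (.node 1 (.leaf (48, 531)) (.node 1 (.leaf (49, 532)) (.leaf (49, 533)))))
(.node 3 (.node 1 (.leaf (48, 533)) (.node 1 (.leaf (48, 534)) (.leaf (50, 535)))) (.node 1 (.leaf (48, 536)) (.node 1 (.leaf (50, 536)) (.leaf (49, 539))))))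
(.node 6 (.node 3 (.node 1 (.leaf (48, 539)) (.node 1 (.leaf (50, 540)) (.leaf (50, 541)))) (.node 1 (.leaf (48, 542)) (.node 1 (.leaf (50, 542)) (.leaf (50, 543)))))
(.node 3 (.node 1 (.leaf (48, 545)) (.node 1 (.leaf (49, 546)) (.leaf (48, 546)))) (.node 1 (.leaf (48, 548)) (.node 1 (.leaf (49, 549)) (.leaf (50, 549))))))))
(.node 24 (.node 12 (.node 6 (.node 3 (.node 1 (.leaf (49, 551)) (.node 1 (.leaf (50, 551)) (.leaf (49, 552)))) (.node 1 (.leaf (50, 552)) (.node 1 (.leaf (48, 553)) (.leaf (49, 555)))))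
(.node 3 (.node 1 (.leaf (50, 555)) (.node 1 (.leaf (49, 556)) (.leaf (48, 556)))) (.node 1 (.leaf (48, 557)) (.node 1 (.leaf (50, 557)) (.leaf (49, 558))))))
(.node 6 (.node 3 (.node 1 (.leaf (48, 558)) (.node 1 (.leaf (50, 558)) (.leaf (50, 559)))) (.node 1 (.leaf (49, 560)) (.node 1 (.leaf (50, 560)) (.leaf (48, 561)))))
(.node 3 (.node 1 (.leaf (48, 562)) (.node 1 (.leaf (50, 562)) (.leaf (50, 564)))) (.node 1 (.leaf (50, 565)) (.node 1 (.leaf (49, 568)) (.leaf (50, 569)))))))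
(.node 12 (.node 6 (.node 3 (.node 1 (.leaf (50, 570)) (.node 1 (.leaf (49, 573)) (.leaf (49, 575)))) (.node 1 (.leaf (48, 575)) (.node 1 (.leaf (50, 575)) (.leaf (48, 576)))))
(.node 3 (.node 1 (.leaf (48, 578)) (.node 1 (.leaf (49, 579)) (.leaf (50, 579)))) (.node 1 (.leaf (48, 580)) (.node 1 (.leaf (50, 581)) (.leaf (49, 582))))))
(.node 6 (.node 3 (.node 1 (.leaf (50, 582)) (.node 1 (.leaf (48, 583)) (.leaf (50, 583)))) (.node 1 (.leaf (50, 584)) (.node 1 (.leaf (49, 585)) (.leaf (48, 586)))))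
(.node 3 (.node 1 (.leaf (49, 587)) (.node 1 (.leaf (49, 588)) (.leaf (48, 588)))) (.node 1 (.leaf (48, 590)) (.node 1 (.leaf (50, 590)) (.leaf (49, 591)))))))))))

/-- The reasons. -/
def caseAFullN4HowRR : Tab (ℕ × ℕ) :=
(.node 192 (.node 96 (.node 48 (.node 24 (.node 12 (.node 6 (.node 3 (.node 1 (.leaf (48, 591)) (.node 1 (.leaf (49, 592)) (.leaf (50, 592)))) (.node 1 (.leaf (48, 595)) (.node 1 (.leaf (50, 595)) (.leaf (49, 596)))))
(.node 3 (.node 1 (.leaf (50, 596)) (.node 1 (.leaf (50, 598)) (.leaf (48, 599)))) (.node 1 (.leaf (50, 599)) (.node 1 (.leaf (49, 600)) (.leaf (48, 602))))))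
(.node 6 (.node 3 (.node 1 (.leaf (50, 603)) (.node 1 (.leaf (49, 605)) (.leaf (49, 607)))) (.node 1 (.leaf (48, 607)) (.node 1 (.leaf (49, 608)) (.leaf (48, 608)))))
(.node 3 (.node 1 (.leaf (48, 609)) (.node 1 (.leaf (49, 610)) (.leaf (50, 610)))) (.node 1 (.leaf (49, 611)) (.node 1 (.leaf (50, 612)) (.leaf (48, 613)))))))
(.node 12 (.node 6 (.node 3 (.node 1 (.leaf (50, 613)) (.node 1 (.leaf (50, 614)) (.leaf (48, 615)))) (.node 1 (.leaf (48, 616)) (.node 1 (.leaf (50, 616)) (.leaf (49, 617)))))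
(.node 3 (.node 1 (.leaf (49, 618)) (.node 1 (.leaf (49, 619)) (.leaf (50, 619)))) (.node 1 (.leaf (50, 620)) (.node 1 (.leaf (48, 621)) (.leaf (50, 621))))))
(.node 6 (.node 3 (.node 1 (.leaf (49, 623)) (.node 1 (.leaf (48, 623)) (.leaf (50, 623)))) (.node 1 (.leaf (49, 624)) (.node 1 (.leaf (48, 624)) (.leaf (49, 626)))))
(.node 3 (.node 1 (.leaf (49, 628)) (.node 1 (.leaf (50, 628)) (.leaf (48, 630)))) (.node 1 (.leaf (50, 630)) (.node 1 (.leaf (49, 631)) (.leaf (48, 632))))))))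
(.node 24 (.node 12 (.node 6 (.node 3 (.node 1 (.leaf (50, 632)) (.node 1 (.leaf (50, 634)) (.leaf (49, 636)))) (.node 1 (.leaf (48, 637)) (.node 1 (.leaf (48, 638)) (.leaf (50, 638)))))
(.node 3 (.node 1 (.leaf (49, 639)) (.node 1 (.leaf (49, 640)) (.leaf (50, 642)))) (.node 1 (.leaf (49, 643)) (.node 1 (.leaf (48, 646)) (.leaf (48, 647))))))
(.node 6 (.node 3 (.node 1 (.leaf (50, 647)) (.node 1 (.leaf (49, 648)) (.leaf (49, 651)))) (.node 1 (.leaf (50, 651)) (.node 1 (.leaf (49, 653)) (.leaf (48, 653)))))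
(.node 3 (.node 1 (.leaf (48, 655)) (.node 1 (.leaf (49, 656)) (.leaf (50, 656)))) (.node 1 (.leaf (49, 657)) (.node 1 (.leaf (49, 659)) (.leaf (49, 660)))))))
(.node 12 (.node 6 (.node 3 (.node 1 (.leaf (48, 660)) (.node 1 (.leaf (49, 661)) (.leaf (50, 661)))) (.node 1 (.leaf (48, 662)) (.node 1 (.leaf (50, 662)) (.leaf (50, 663)))))
(.node 3 (.node 1 (.leaf (48, 665)) (.node 1 (.leaf (49, 666)) (.leaf (50, 668)))) (.node 1 (.leaf (49, 670)) (.node 1 (.leaf (48, 671)) (.leaf (49, 672))))))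
(.node 6 (.node 3 (.node 1 (.leaf (48, 673)) (.node 1 (.leaf (48, 674)) (.leaf (50, 674)))) (.node 1 (.leaf (50, 675)) (.node 1 (.leaf (48, 676)) (.leaf (50, 676)))))
(.node 3 (.node 1 (.leaf (50, 679)) (.node 1 (.leaf (50, 680)) (.leaf (49, 681)))) (.node 1 (.leaf (50, 681)) (.node 1 (.leaf (49, 684)) (.leaf (48, 685)))))))))
(.node 48 (.node 24 (.node 12 (.node 6 (.node 3 (.node 1 (.leaf (48, 686)) (.node 1 (.leaf (48, 687)) (.leaf (48, 688)))) (.node 1 (.leaf (49, 689)) (.node 1 (.leaf (50, 690)) (.leaf (49, 691)))))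
(.node 3 (.node 1 (.leaf (48, 691)) (.node 1 (.leaf (49, 695)) (.leaf (48, 697)))) (.node 1 (.leaf (49, 700)) (.node 1 (.leaf (48, 701)) (.leaf (50, 701))))))
(.node 6 (.node 3 (.node 1 (.leaf (49, 702)) (.node 1 (.leaf (48, 702)) (.leaf (49, 703)))) (.node 1 (.leaf (48, 703)) (.node 1 (.leaf (50, 703)) (.leaf (50, 704)))))
(.node 3 (.node 1 (.leaf (49, 705)) (.node 1 (.leaf (48, 705)) (.leaf (48, 707)))) (.node 1 (.leaf (50, 707)) (.node 1 (.leaf (49, 708)) (.leaf (49, 710)))))))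
(.node 12 (.node 6 (.node 3 (.node 1 (.leaf (48, 711)) (.node 1 (.leaf (50, 711)) (.leaf (50, 712)))) (.node 1 (.leaf (50, 714)) (.node 1 (.leaf (49, 716)) (.leaf (50, 716)))))
(.node 3 (.node 1 (.leaf (49, 717)) (.node 1 (.leaf (49, 719)) (.leaf (50, 720)))) (.node 1 (.leaf (49, 721)) (.node 1 (.leaf (48, 721)) (.leaf (49, 722))))))
(.node 6 (.node 3 (.node 1 (.leaf (48, 723)) (.node 1 (.leaf (50, 724)) (.leaf (49, 725)))) (.node 1 (.leaf (50, 729)) (.node 1 (.leaf (48, 732)) (.leaf (49, 733)))))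
(.node 3 (.node 1 (.leaf (49, 734)) (.node 1 (.leaf (50, 738)) (.leaf (48, 739)))) (.node 1 (.leaf (48, 740)) (.node 1 (.leaf (50, 741)) (.leaf (49, 743))))))))
(.node 24 (.node 12 (.node 6 (.node 3 (.node 1 (.leaf (48, 744)) (.node 1 (.leaf (50, 744)) (.leaf (49, 745)))) (.node 1 (.leaf (48, 746)) (.node 1 (.leaf (50, 746)) (.leaf (48, 747)))))
(.node 3 (.node 1 (.leaf (50, 747)) (.node 1 (.leaf (49, 749)) (.leaf (48, 751)))) (.node 1 (.leaf (50, 751)) (.node 1 (.leaf (48, 752)) (.leaf (49, 754))))))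
(.node 6 (.node 3 (.node 1 (.leaf (48, 755)) (.node 1 (.leaf (48, 756)) (.leaf (50, 757)))) (.node 1 (.leaf (48, 758)) (.node 1 (.leaf (49, 759)) (.leaf (50, 759)))))
(.node 3 (.node 1 (.leaf (48, 761)) (.node 1 (.leaf (48, 762)) (.leaf (50, 762)))) (.node 1 (.leaf (50, 763)) (.node 1 (.leaf (49, 765)) (.leaf (48, 766)))))))
(.node 12 (.node 6 (.node 3 (.node 1 (.leaf (50, 768)) (.node 1 (.leaf (49, 771)) (.leaf (50, 771)))) (.node 1 (.leaf (49, 772)) (.node 1 (.leaf (48, 772)) (.leaf (50, 774)))))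
(.node 3 (.node 1 (.leaf (48, 775)) (.node 1 (.leaf (49, 777)) (.leaf (50, 780)))) (.node 1 (.leaf (49, 781)) (.node 1 (.leaf (48, 781)) (.leaf (49, 786))))))
(.node 6 (.node 3 (.node 1 (.leaf (50, 786)) (.node 1 (.leaf (49, 787)) (.leaf (50, 791)))) (.node 1 (.leaf (48, 794)) (.node 1 (.leaf (49, 798)) (.leaf (48, 798)))))
(.node 3 (.node 1 (.leaf (49, 799)) (.node 1 (.leaf (48, 799)) (.leaf (50, 799)))) (.node 1 (.leaf (48, 800)) (.node 1 (.leaf (50, 803)) (.leaf (48, 804))))))))))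
(.node 96 (.node 48 (.node 24 (.node 12 (.node 6 (.node 3 (.node 1 (.leaf (50, 804)) (.node 1 (.leaf (49, 805)) (.leaf (49, 807)))) (.node 1 (.leaf (48, 808)) (.node 1 (.leaf (50, 808)) (.leaf (49, 811)))))
(.node 3 (.node 1 (.leaf (48, 812)) (.node 1 (.leaf (49, 813)) (.leaf (49, 814)))) (.node 1 (.leaf (48, 816)) (.node 1 (.leaf (50, 816)) (.leaf (49, 817))))))
(.node 6 (.node 3 (.node 1 (.leaf (48, 818)) (.node 1 (.leaf (48, 819)) (.leaf (49, 820)))) (.node 1 (.leaf (50, 823)) (.node 1 (.leaf (49, 825)) (.leaf (48, 826)))))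
(.node 3 (.node 1 (.leaf (49, 830)) (.node 1 (.leaf (48, 830)) (.leaf (50, 830)))) (.node 1 (.leaf (48, 833)) (.node 1 (.leaf (49, 835)) (.leaf (50, 835)))))))
(.node 12 (.node 6 (.node 3 (.node 1 (.leaf (50, 836)) (.node 1 (.leaf (49, 837)) (.leaf (50, 840)))) (.node 1 (.leaf (48, 844)) (.node 1 (.leaf (50, 845)) (.leaf (49, 847)))))
(.node 3 (.node 1 (.leaf (49, 848)) (.node 1 (.leaf (50, 848)) (.leaf (49, 849)))) (.node 1 (.leaf (48, 849)) (.node 1 (.leaf (50, 850)) (.leaf (49, 851))))))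
(.node 6 (.node 3 (.node 1 (.leaf (48, 851)) (.node 1 (.leaf (49, 853)) (.leaf (48, 853)))) (.node 1 (.leaf (49, 854)) (.node 1 (.leaf (49, 855)) (.leaf (49, 856)))))
(.node 3 (.node 1 (.leaf (48, 856)) (.node 1 (.leaf (48, 857)) (.leaf (48, 861)))) (.node 1 (.leaf (48, 865)) (.node 1 (.leaf (49, 868)) (.leaf (50, 868))))))))
(.node 24 (.node 12 (.node 6 (.node 3 (.node 1 (.leaf (49, 869)) (.node 1 (.leaf (50, 869)) (.leaf (48, 874)))) (.node 1 (.leaf (49, 875)) (.node 1 (.leaf (48, 875)) (.leaf (50, 875)))))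
(.node 3 (.node 1 (.leaf (50, 876)) (.node 1 (.leaf (50, 877)) (.leaf (50, 882)))) (.node 1 (.leaf (49, 888)) (.node 1 (.leaf (48, 888)) (.leaf (50, 888))))))
(.node 6 (.node 3 (.node 1 (.leaf (48, 889)) (.node 1 (.leaf (48, 891)) (.leaf (49, 892)))) (.node 1 (.leaf (50, 892)) (.node 1 (.leaf (48, 893)) (.leaf (50, 894)))))
(.node 3 (.node 1 (.leaf (48, 896)) (.node 1 (.leaf (50, 896)) (.leaf (50, 897)))) (.node 1 (.leaf (48, 899)) (.node 1 (.leaf (50, 902)) (.leaf (49, 904)))))))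
(.node 12 (.node 6 (.node 3 (.node 1 (.leaf (50, 904)) (.node 1 (.leaf (48, 906)) (.leaf (50, 908)))) (.node 1 (.leaf (48, 909)) (.node 1 (.leaf (50, 909)) (.leaf (50, 912)))))
(.node 3 (.node 1 (.leaf (49, 914)) (.node 1 (.leaf (49, 916)) (.leaf (49, 917)))) (.node 1 (.leaf (48, 920)) (.node 1 (.leaf (49, 922)) (.leaf (49, 923))))))
(.node 6 (.node 3 (.node 1 (.leaf (50, 923)) (.node 1 (.leaf (50, 924)) (.leaf (48, 925)))) (.node 1 (.leaf (48, 933)) (.node 1 (.leaf (49, 937)) (.leaf (48, 942)))))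
(.node 3 (.node 1 (.leaf (49, 948)) (.node 1 (.leaf (49, 952)) (.leaf (50, 954)))) (.node 1 (.leaf (49, 956)) (.node 1 (.leaf (49, 959)) (.leaf (50, 965)))))))))
(.node 48 (.node 24 (.node 12 (.node 6 (.node 3 (.node 1 (.leaf (49, 966)) (.node 1 (.leaf (50, 966)) (.leaf (48, 969)))) (.node 1 (.leaf (48, 970)) (.node 1 (.leaf (49, 978)) (.leaf (48, 979)))))
(.node 3 (.node 1 (.leaf (50, 979)) (.node 1 (.leaf (48, 980)) (.leaf (49, 981)))) (.node 1 (.leaf (48, 986)) (.node 1 (.leaf (48, 987)) (.leaf (49, 991))))))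
(.node 6 (.node 3 (.node 1 (.leaf (49, 993)) (.node 1 (.leaf (49, 997)) (.leaf (50, 998)))) (.node 1 (.leaf (48, 1000)) (.node 1 (.leaf (50, 1001)) (.leaf (49, 1002)))))
(.node 3 (.node 1 (.leaf (50, 1002)) (.node 1 (.leaf (50, 1005)) (.leaf (50, 1019)))) (.node 1 (.leaf (49, 1020)) (.node 1 (.leaf (50, 1023)) (.leaf (48, 1030)))))))
(.node 12 (.node 6 (.node 3 (.node 1 (.leaf (50, 1030)) (.node 1 (.leaf (48, 1031)) (.leaf (50, 1031)))) (.node 1 (.leaf (50, 1038)) (.node 1 (.leaf (49, 1039)) (.leaf (49, 1041)))))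
(.node 3 (.node 1 (.leaf (50, 1042)) (.node 1 (.leaf (48, 1043)) (.leaf (49, 1045)))) (.node 1 (.leaf (50, 1045)) (.node 1 (.leaf (48, 1048)) (.leaf (49, 1049))))))
(.node 6 (.node 3 (.node 1 (.leaf (49, 1050)) (.node 1 (.leaf (48, 1053)) (.leaf (48, 1055)))) (.node 1 (.leaf (50, 1056)) (.node 1 (.leaf (49, 1057)) (.leaf (49, 1059)))))
(.node 3 (.node 1 (.leaf (48, 1061)) (.node 1 (.leaf (49, 1063)) (.leaf (50, 1064)))) (.node 1 (.leaf (48, 1068)) (.node 1 (.leaf (49, 1077)) (.leaf (48, 1078))))))))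
(.node 24 (.node 12 (.node 6 (.node 3 (.node 1 (.leaf (50, 1081)) (.node 1 (.leaf (49, 1086)) (.leaf (49, 1088)))) (.node 1 (.leaf (50, 1091)) (.node 1 (.leaf (48, 1093)) (.leaf (50, 1097)))))
(.node 3 (.node 1 (.leaf (49, 1100)) (.node 1 (.leaf (49, 1101)) (.leaf (49, 1105)))) (.node 1 (.leaf (50, 1110)) (.node 1 (.leaf (50, 1120)) (.leaf (48, 1121))))))
(.node 6 (.node 3 (.node 1 (.leaf (50, 1123)) (.node 1 (.leaf (49, 1139)) (.leaf (49, 1141)))) (.node 1 (.leaf (50, 1146)) (.node 1 (.leaf (50, 1148)) (.leaf (50, 1149)))))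
(.node 3 (.node 1 (.leaf (49, 1151)) (.node 1 (.leaf (48, 1154)) (.leaf (48, 1161)))) (.node 1 (.leaf (50, 1164)) (.node 1 (.leaf (49, 1170)) (.leaf (48, 1173)))))))
(.node 12 (.node 6 (.node 3 (.node 1 (.leaf (48, 1176)) (.node 1 (.leaf (50, 1180)) (.leaf (49, 1183)))) (.node 1 (.leaf (50, 1183)) (.node 1 (.leaf (49, 1184)) (.leaf (50, 1185)))))
(.node 3 (.node 1 (.leaf (50, 1192)) (.node 1 (.leaf (48, 1197)) (.leaf (50, 1201)))) (.node 1 (.leaf (49, 1225)) (.node 1 (.leaf (49, 1237)) (.leaf (48, 1238))))))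
(.node 6 (.node 3 (.node 1 (.leaf (48, 1241)) (.node 1 (.leaf (49, 1252)) (.leaf (48, 1267)))) (.node 1 (.leaf (50, 1288)) (.node 1 (.leaf (49, 1310)) (.leaf (50, 1318)))))
(.node 3 (.node 1 (.leaf (49, 1325)) (.node 1 (.leaf (50, 1329)) (.leaf (48, 1363)))) (.node 1 (.leaf (48, 1364)) (.node 1 (.leaf (50, 1382)) (.leaf (48, 1420)))))))))))

/-- The reasons. -/
def caseAFullN4HowR : Tab (ℕ × ℕ) := .node 384 caseAFullN4HowRL caseAFullN4HowRR

/-- The reasons. -/
def caseAFullN4How : Tab (ℕ × ℕ) := .node 768 caseAFullN4HowL caseAFullN4HowR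

/-- The node. -/
def caseAFullN4Node : NodeD := ⟨4, 1536, caseAFullN4Els, caseAFullN4Ix, caseAFullN4How, fun b => bif b then (.node 7 (.node 3 (.node 1 (.leaf 33) (.node 1 (.leaf 383) (.leaf 378)))
(.node 2 (.node 1 (.leaf 388) (.leaf 386)) (.node 1 (.leaf 384) (.leaf 385))))
(.node 3 (.node 1 (.leaf 379) (.node 1 (.leaf 389) (.leaf 380)))
(.node 2 (.node 1 (.leaf 387) (.leaf 382)) (.node 1 (.leaf 377) (.leaf 381))))) else (.node 7 (.node 3 (.node 1 (.leaf 200) (.node 1 (.leaf 199) (.leaf 81)))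
(.node 2 (.node 1 (.leaf 78) (.leaf 202)) (.node 1 (.leaf 198) (.leaf 82))))
(.node 3 (.node 1 (.leaf 79) (.node 1 (.leaf 197) (.leaf 201)))
(.node 2 (.node 1 (.leaf 80) (.leaf 76)) (.node 1 (.leaf 196) (.leaf 194)))))⟩

/-- The stabiliser. -/
def caseAFullN9Els : Tab ℕ :=
(.node 128 (.node 64 (.node 32 (.node 16 (.node 8 (.node 4 (.node 2 (.node 1 (.leaf 17043521) (.leaf 17635395)) (.node 1 (.leaf 16998465) (.leaf 17059921)))
(.node 2 (.node 1 (.leaf 17457235) (.leaf 17651779)) (.node 1 (.leaf 17043535) (.leaf 16918595))))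
(.node 4 (.node 2 (.node 1 (.leaf 17651795) (.leaf 17508433)) (.node 1 (.leaf 17059905) (.leaf 17635421)))
(.node 2 (.node 1 (.leaf 17459267) (.leaf 17651777)) (.node 1 (.leaf 16982097) (.leaf 17061971)))))
(.node 8 (.node 4 (.node 2 (.node 1 (.leaf 17442883) (.leaf 16998493)) (.node 1 (.leaf 17522769) (.leaf 16932931)))
(.node 2 (.node 1 (.leaf 17635411) (.leaf 17059919)) (.node 1 (.leaf 17000529) (.leaf 17633363))))
(.node 4 (.node 2 (.node 1 (.leaf 17440835) (.leaf 16984145)) (.node 1 (.leaf 17457245) (.leaf 17651789)))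
(.node 2 (.node 1 (.leaf 17635405) (.leaf 16998479)) (.node 1 (.leaf 17059935) (.leaf 17506369))))))
(.node 16 (.node 8 (.node 4 (.node 2 (.node 1 (.leaf 17059907) (.leaf 16934995)) (.node 1 (.leaf 17649745) (.leaf 17522753)))
(.node 2 (.node 1 (.leaf 16918607) (.leaf 17442899)) (.node 1 (.leaf 16984129) (.leaf 17043537))))
(.node 4 (.node 2 (.node 1 (.leaf 17651805) (.leaf 16916563)) (.node 1 (.leaf 17045585) (.leaf 17524801)))
(.node 2 (.node 1 (.leaf 16932947) (.leaf 17508431)) (.node 1 (.leaf 17043551) (.leaf 16918621)))))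
(.node 8 (.node 4 (.node 2 (.node 1 (.leaf 17567811) (.leaf 17109073)) (.node 1 (.leaf 16982081) (.leaf 17459279)))
(.node 2 (.node 1 (.leaf 17442881) (.leaf 17635409)) (.node 1 (.leaf 16984147) (.leaf 17043523))))
(.node 4 (.node 2 (.node 1 (.leaf 17651791) (.leaf 17127505)) (.node 1 (.leaf 17586243) (.leaf 17459283)))
(.node 2 (.node 1 (.leaf 16982109) (.leaf 17045571)) (.node 1 (.leaf 17633361) (.leaf 17061967)))))))
(.node 32 (.node 16 (.node 8 (.node 4 (.node 2 (.node 1 (.leaf 17442911) (.leaf 17459295)) (.node 1 (.leaf 16982093) (.leaf 16918611)))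
(.node 2 (.node 1 (.leaf 17522781) (.leaf 17649731)) (.node 1 (.leaf 17508417) (.leaf 16932957))))
(.node 4 (.node 2 (.node 1 (.leaf 17522767) (.leaf 17586257)) (.node 1 (.leaf 17127491) (.leaf 17440851)))
(.node 2 (.node 1 (.leaf 17000527) (.leaf 17061969)) (.node 1 (.leaf 17633359) (.leaf 17109059)))))
(.node 8 (.node 4 (.node 2 (.node 1 (.leaf 17567825) (.leaf 17000513)) (.node 1 (.leaf 17440861) (.leaf 16984159)))
(.node 2 (.node 1 (.leaf 17000543) (.leaf 17633373)) (.node 1 (.leaf 17440845) (.leaf 17442893))))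
(.node 4 (.node 2 (.node 1 (.leaf 16918605) (.leaf 17508447)) (.node 1 (.leaf 17459277) (.leaf 16982111)))
(.node 2 (.node 1 (.leaf 17061981) (.leaf 16998483)) (.node 1 (.leaf 17522783) (.leaf 16932941))))))
(.node 16 (.node 8 (.node 4 (.node 2 (.node 1 (.leaf 17111105) (.leaf 17569875)) (.node 1 (.leaf 16934979) (.leaf 17506397)))
(.node 2 (.node 1 (.leaf 17522755) (.leaf 17043539)) (.node 1 (.leaf 16932945) (.leaf 17635393))))
(.node 4 (.node 2 (.node 1 (.leaf 17059933) (.leaf 17584211)) (.node 1 (.leaf 17125441) (.leaf 17506385)))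
(.node 2 (.node 1 (.leaf 16934991) (.leaf 17633345)) (.node 1 (.leaf 17045587) (.leaf 17649757)))))
(.node 8 (.node 4 (.node 2 (.node 1 (.leaf 17522765) (.leaf 17506381)) (.node 1 (.leaf 16935007) (.leaf 16998481)))
(.node 2 (.node 1 (.leaf 17442895) (.leaf 17061953)) (.node 1 (.leaf 17457219) (.leaf 16984143))))
(.node 4 (.node 2 (.node 1 (.leaf 17442909) (.leaf 17125459)) (.node 1 (.leaf 17584193) (.leaf 17524817)))
(.node 2 (.node 1 (.leaf 16916573) (.leaf 17649747)) (.node 1 (.leaf 17045597) (.leaf 17569857))))))))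
(.node 64 (.node 32 (.node 16 (.node 8 (.node 4 (.node 2 (.node 1 (.leaf 17111123) (.leaf 16916547)) (.node 1 (.leaf 17524815) (.leaf 16916557)))
(.node 2 (.node 1 (.leaf 17045583) (.leaf 17524831)) (.node 1 (.leaf 16998495) (.leaf 17457229))))
(.node 4 (.node 2 (.node 1 (.leaf 17506399) (.leaf 16934989)) (.node 1 (.leaf 17649743) (.leaf 16918609)))
(.node 2 (.node 1 (.leaf 16982083) (.leaf 17440849)) (.node 1 (.leaf 17127489) (.leaf 17567837)))))
(.node 8 (.node 4 (.node 2 (.node 1 (.leaf 17586259) (.leaf 17109085)) (.node 1 (.leaf 16998477) (.leaf 17567823)))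
(.node 2 (.node 1 (.leaf 17459281) (.leaf 16998467)) (.node 1 (.leaf 17508419) (.leaf 17059923))))
(.node 4 (.node 2 (.node 1 (.leaf 17635407) (.leaf 17000515)) (.node 1 (.leaf 17457233) (.leaf 16984157)))
(.node 2 (.node 1 (.leaf 17043533) (.leaf 17059917)) (.node 1 (.leaf 17635423) (.leaf 17567827))))))
(.node 16 (.node 8 (.node 4 (.node 2 (.node 1 (.leaf 17127503) (.leaf 17109057)) (.node 1 (.leaf 17586255) (.leaf 17127517)))
(.node 2 (.node 1 (.leaf 17649729) (.leaf 17633357)) (.node 1 (.leaf 17649741) (.leaf 17457231))))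
(.node 4 (.node 2 (.node 1 (.leaf 17045599) (.leaf 17567839)) (.node 1 (.leaf 17109069) (.leaf 17127501)))
(.node 2 (.node 1 (.leaf 17586271) (.leaf 16918623)) (.node 1 (.leaf 17045569) (.leaf 17109075)))))
(.node 8 (.node 4 (.node 2 (.node 1 (.leaf 17586269) (.leaf 17567809)) (.node 1 (.leaf 17061965) (.leaf 17045581)))
(.node 2 (.node 1 (.leaf 17649759) (.leaf 17586241)) (.node 1 (.leaf 17109071) (.leaf 17127507))))
(.node 4 (.node 2 (.node 1 (.leaf 17061983) (.leaf 16982095)) (.node 1 (.leaf 17459293) (.leaf 17633375)))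
(.node 2 (.node 1 (.leaf 17442897) (.leaf 17506383)) (.node 1 (.leaf 16935005) (.leaf 16918593)))))))
(.node 32 (.node 16 (.node 8 (.node 4 (.node 2 (.node 1 (.leaf 17567821) (.leaf 17109087)) (.node 1 (.leaf 17459265) (.leaf 17127519)))
(.node 2 (.node 1 (.leaf 17586253) (.leaf 16982099)) (.node 1 (.leaf 17522771) (.leaf 16934977))))
(.node 4 (.node 2 (.node 1 (.leaf 17524819) (.leaf 17584195)) (.node 1 (.leaf 17111119) (.leaf 17125457)))
(.node 2 (.node 1 (.leaf 17569871) (.leaf 17111133)) (.node 1 (.leaf 17506387) (.leaf 17457217)))))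
(.node 8 (.node 4 (.node 2 (.node 1 (.leaf 17651793) (.leaf 17043549)) (.node 1 (.leaf 16916545) (.leaf 17508435)))
(.node 2 (.node 1 (.leaf 16932943) (.leaf 17651807)) (.node 1 (.leaf 17111121) (.leaf 17584221))))
(.node 4 (.node 2 (.node 1 (.leaf 17569859) (.leaf 17125469)) (.node 1 (.leaf 17584207) (.leaf 17061955)))
(.node 2 (.node 1 (.leaf 17508445) (.leaf 17111117)) (.node 1 (.leaf 17569887) (.leaf 17584223))))))
(.node 16 (.node 8 (.node 4 (.node 2 (.node 1 (.leaf 17125453) (.leaf 17633347)) (.node 1 (.leaf 17569873) (.leaf 17125455)))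
(.node 2 (.node 1 (.leaf 17111107) (.leaf 17125443)) (.node 1 (.leaf 17569885) (.leaf 17584209))))
(.node 4 (.node 2 (.node 1 (.leaf 17111135) (.leaf 17569869)) (.node 1 (.leaf 17506371) (.leaf 17584205)))
(.node 2 (.node 1 (.leaf 17125471) (.leaf 16934993)) (.node 1 (.leaf 17000531) (.leaf 17440847)))))
(.node 8 (.node 4 (.node 2 (.node 1 (.leaf 17000541) (.leaf 16932929)) (.node 1 (.leaf 17440833) (.leaf 17457247)))
(.node 2 (.node 1 (.leaf 17440863) (.leaf 17000525)) (.node 1 (.leaf 16932959) (.leaf 17508429))))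
(.node 4 (.node 2 (.node 1 (.leaf 16984141) (.leaf 16916561)) (.node 1 (.leaf 17524829) (.leaf 16916559)))
(.node 2 (.node 1 (.leaf 16984131) (.leaf 17524803)) (.node 1 (.leaf 17524813) (.leaf 16916575)))))))))

/-- Its index. -/
def caseAFullN9Ix : BT ℕ :=
(.node 17440833 242
(.node 17043521 0
(.node 16982081 50
(.node 16932929 241
(.node 16918593 191
(.node 16916561 249
(.node 16916557 131 (.node 16916547 129 (.node 16916545 210 .tip .tip) .tip) (.node 16916559 251 .tip .tip))
(.node 16916573 124 (.node 16916563 41 .tip .tip) (.node 16916575 255 .tip .tip)))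
(.node 16918609 139
(.node 16918605 88 (.node 16918595 7 .tip .tip) (.node 16918607 36 .tip .tip))
(.node 16918621 47 (.node 16918611 67 .tip .tip) (.node 16918623 173 .tip .tip))))
(.node 16934977 199
(.node 16932945 102
(.node 16932941 95 (.node 16932931 19 .tip .tip) (.node 16932943 212 .tip .tip))
(.node 16932957 71 (.node 16932947 44 .tip .tip) (.node 16932959 246 .tip .tip)))
(.node 16934993 237
(.node 16934989 137 (.node 16934979 98 .tip .tip) (.node 16934991 108 .tip .tip))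
(.node 16935005 190 (.node 16934995 33 .tip .tip) (.node 16935007 114 .tip .tip)))))
(.node 16998465 2
(.node 16984129 38
(.node 16982097 14
(.node 16982093 66 (.node 16982083 140 .tip .tip) (.node 16982095 185 .tip .tip))
(.node 16982109 60 (.node 16982099 197 .tip .tip) (.node 16982111 91 .tip .tip)))
(.node 16984145 25
(.node 16984141 248 (.node 16984131 252 .tip .tip) (.node 16984143 119 .tip .tip))
(.node 16984157 155 (.node 16984147 54 .tip .tip) (.node 16984159 83 .tip .tip))))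
(.node 17000513 81
(.node 16998481 115
(.node 16998477 146 (.node 16998467 149 .tip .tip) (.node 16998479 29 .tip .tip))
(.node 16998493 17 (.node 16998483 93 .tip .tip) (.node 16998495 134 .tip .tip)))
(.node 17000529 22
(.node 17000525 245 (.node 17000515 153 .tip .tip) (.node 17000527 76 .tip .tip))
(.node 17000541 240 (.node 17000531 238 .tip .tip) (.node 17000543 84 .tip .tip))))))
(.node 17109057 161
(.node 17059905 10
(.node 17045569 174
(.node 17043537 39
(.node 17043533 156 (.node 17043523 55 .tip .tip) (.node 17043535 6 .tip .tip))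
(.node 17043549 209 (.node 17043539 101 .tip .tip) (.node 17043551 46 .tip .tip)))
(.node 17045585 42
(.node 17045581 179 (.node 17045571 61 .tip .tip) (.node 17045583 132 .tip .tip))
(.node 17045597 126 (.node 17045587 110 .tip .tip) (.node 17045599 168 .tip .tip))))
(.node 17061953 117
(.node 17059921 3
(.node 17059917 157 (.node 17059907 32 .tip .tip) (.node 17059919 21 .tip .tip))
(.node 17059933 104 (.node 17059923 151 .tip .tip) (.node 17059935 30 .tip .tip)))
(.node 17061969 77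
(.node 17061965 178 (.node 17061955 219 .tip .tip) (.node 17061967 63 .tip .tip))
(.node 17061981 92 (.node 17061971 15 .tip .tip) (.node 17061983 184 .tip .tip)))))
(.node 17125441 106
(.node 17111105 96
(.node 17109073 49
(.node 17109069 170 (.node 17109059 79 .tip .tip) (.node 17109071 182 .tip .tip))
(.node 17109085 145 (.node 17109075 175 .tip .tip) (.node 17109087 193 .tip .tip)))
(.node 17111121 214
(.node 17111117 221 (.node 17111107 228 .tip .tip) (.node 17111119 202 .tip .tip))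
(.node 17111133 205 (.node 17111123 128 .tip .tip) (.node 17111135 232 .tip .tip))))
(.node 17127489 142
(.node 17125457 203
(.node 17125453 224 (.node 17125443 229 .tip .tip) (.node 17125455 227 .tip .tip))
(.node 17125469 217 (.node 17125459 121 .tip .tip) (.node 17125471 236 .tip .tip)))
(.node 17127505 57
(.node 17127501 171 (.node 17127491 74 .tip .tip) (.node 17127503 160 .tip .tip))
(.node 17127517 163 (.node 17127507 183 .tip .tip) (.node 17127519 195 .tip .tip)))))))
(.node 17567809 177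
(.node 17506369 31
(.node 17457217 207
(.node 17442881 52
(.node 17440849 141
(.node 17440845 86 (.node 17440835 24 .tip .tip) (.node 17440847 239 .tip .tip))
(.node 17440861 82 (.node 17440851 75 .tip .tip) (.node 17440863 244 .tip .tip)))
(.node 17442897 188
(.node 17442893 87 (.node 17442883 16 .tip .tip) (.node 17442895 116 .tip .tip))
(.node 17442909 120 (.node 17442899 37 .tip .tip) (.node 17442911 64 .tip .tip))))
(.node 17459265 194
(.node 17457233 154
(.node 17457229 135 (.node 17457219 118 .tip .tip) (.node 17457231 167 .tip .tip))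
(.node 17457245 26 (.node 17457235 4 .tip .tip) (.node 17457247 243 .tip .tip)))
(.node 17459281 148
(.node 17459277 90 (.node 17459267 12 .tip .tip) (.node 17459279 51 .tip .tip))
(.node 17459293 186 (.node 17459283 59 .tip .tip) (.node 17459295 65 .tip .tip)))))
(.node 17522753 35
(.node 17508417 70
(.node 17506385 107
(.node 17506381 113 (.node 17506371 234 .tip .tip) (.node 17506383 189 .tip .tip))
(.node 17506397 99 (.node 17506387 206 .tip .tip) (.node 17506399 136 .tip .tip)))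
(.node 17508433 9
(.node 17508429 247 (.node 17508419 150 .tip .tip) (.node 17508431 45 .tip .tip))
(.node 17508445 220 (.node 17508435 211 .tip .tip) (.node 17508447 89 .tip .tip))))
(.node 17524801 43
(.node 17522769 18
(.node 17522765 112 (.node 17522755 100 .tip .tip) (.node 17522767 72 .tip .tip))
(.node 17522781 68 (.node 17522771 198 .tip .tip) (.node 17522783 94 .tip .tip)))
(.node 17524817 123
(.node 17524813 254 (.node 17524803 253 .tip .tip) (.node 17524815 130 .tip .tip))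
(.node 17524829 250 (.node 17524819 200 .tip .tip) (.node 17524831 133 .tip .tip))))))
(.node 17633345 109
(.node 17584193 122
(.node 17569857 127
(.node 17567825 80
(.node 17567821 192 (.node 17567811 48 .tip .tip) (.node 17567823 147 .tip .tip))
(.node 17567837 143 (.node 17567827 159 .tip .tip) (.node 17567839 169 .tip .tip)))
(.node 17569873 226
(.node 17569869 233 (.node 17569859 216 .tip .tip) (.node 17569871 204 .tip .tip))
(.node 17569885 230 (.node 17569875 97 .tip .tip) (.node 17569887 222 .tip .tip))))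
(.node 17586241 181
(.node 17584209 231
(.node 17584205 235 (.node 17584195 201 .tip .tip) (.node 17584207 218 .tip .tip))
(.node 17584221 215 (.node 17584211 105 .tip .tip) (.node 17584223 223 .tip .tip)))
(.node 17586257 73
(.node 17586253 196 (.node 17586243 58 .tip .tip) (.node 17586255 162 .tip .tip))
(.node 17586269 176 (.node 17586259 144 .tip .tip) (.node 17586271 172 .tip .tip)))))
(.node 17649729 164
(.node 17635393 103
(.node 17633361 62
(.node 17633357 165 (.node 17633347 225 .tip .tip) (.node 17633359 78 .tip .tip))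
(.node 17633373 85 (.node 17633363 23 .tip .tip) (.node 17633375 187 .tip .tip)))
(.node 17635409 53
(.node 17635405 28 (.node 17635395 1 .tip .tip) (.node 17635407 152 .tip .tip))
(.node 17635421 11 (.node 17635411 20 .tip .tip) (.node 17635423 158 .tip .tip))))
(.node 17651777 13
(.node 17649745 34
(.node 17649741 166 (.node 17649731 69 .tip .tip) (.node 17649743 138 .tip .tip))
(.node 17649757 111 (.node 17649747 125 .tip .tip) (.node 17649759 180 .tip .tip)))
(.node 17651793 208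
(.node 17651789 27 (.node 17651779 5 .tip .tip) (.node 17651791 56 .tip .tip))
(.node 17651805 40 (.node 17651795 8 .tip .tip) (.node 17651807 213 .tip .tip))))))))

/-- The reasons. -/
def caseAFullN9How : Tab (ℕ × ℕ) :=
(.node 128 (.node 64 (.node 32 (.node 16 (.node 8 (.node 4 (.node 2 (.node 1 (.leaf (0, 0)) (.leaf (89, 0))) (.node 1 (.leaf (90, 0)) (.leaf (91, 0))))
(.node 2 (.node 1 (.leaf (92, 0)) (.leaf (93, 0))) (.node 1 (.leaf (94, 0)) (.leaf (90, 1)))))
(.node 4 (.node 2 (.node 1 (.leaf (91, 1)) (.leaf (92, 1))) (.node 1 (.leaf (93, 1)) (.leaf (94, 1))))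
(.node 2 (.node 1 (.leaf (89, 2)) (.leaf (90, 2))) (.node 1 (.leaf (91, 2)) (.leaf (92, 2))))))
(.node 8 (.node 4 (.node 2 (.node 1 (.leaf (93, 2)) (.leaf (94, 2))) (.node 1 (.leaf (90, 3)) (.leaf (92, 3))))
(.node 2 (.node 1 (.leaf (93, 3)) (.leaf (94, 3))) (.node 1 (.leaf (89, 4)) (.leaf (90, 4)))))
(.node 4 (.node 2 (.node 1 (.leaf (91, 4)) (.leaf (93, 4))) (.node 1 (.leaf (94, 4)) (.leaf (94, 5))))
(.node 2 (.node 1 (.leaf (89, 6)) (.leaf (90, 6))) (.node 1 (.leaf (91, 6)) (.leaf (89, 7)))))))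
(.node 16 (.node 8 (.node 4 (.node 2 (.node 1 (.leaf (90, 7)) (.leaf (91, 7))) (.node 1 (.leaf (92, 7)) (.leaf (93, 7))))
(.node 2 (.node 1 (.leaf (94, 7)) (.leaf (90, 8))) (.node 1 (.leaf (92, 8)) (.leaf (93, 8)))))
(.node 4 (.node 2 (.node 1 (.leaf (94, 8)) (.leaf (89, 9))) (.node 1 (.leaf (90, 9)) (.leaf (91, 9))))
(.node 2 (.node 1 (.leaf (93, 9)) (.leaf (94, 9))) (.node 1 (.leaf (89, 11)) (.leaf (90, 11))))))
(.node 8 (.node 4 (.node 2 (.node 1 (.leaf (90, 12)) (.leaf (92, 12))) (.node 1 (.leaf (93, 12)) (.leaf (94, 12))))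
(.node 2 (.node 1 (.leaf (90, 13)) (.leaf (91, 13))) (.node 1 (.leaf (92, 13)) (.leaf (93, 13)))))
(.node 4 (.node 2 (.node 1 (.leaf (94, 13)) (.leaf (90, 14))) (.node 1 (.leaf (92, 14)) (.leaf (93, 14))))
(.node 2 (.node 1 (.leaf (94, 14)) (.leaf (91, 15))) (.node 1 (.leaf (93, 15)) (.leaf (94, 15))))))))
(.node 32 (.node 16 (.node 8 (.node 4 (.node 2 (.node 1 (.leaf (94, 16)) (.leaf (89, 17))) (.node 1 (.leaf (91, 17)) (.leaf (93, 18))))
(.node 2 (.node 1 (.leaf (94, 18)) (.leaf (90, 19))) (.node 1 (.leaf (93, 19)) (.leaf (94, 19)))))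
(.node 4 (.node 2 (.node 1 (.leaf (90, 21)) (.leaf (90, 22))) (.node 1 (.leaf (92, 22)) (.leaf (93, 22))))
(.node 2 (.node 1 (.leaf (94, 22)) (.leaf (93, 23))) (.node 1 (.leaf (94, 23)) (.leaf (90, 24))))))
(.node 8 (.node 4 (.node 2 (.node 1 (.leaf (92, 24)) (.leaf (93, 24))) (.node 1 (.leaf (94, 24)) (.leaf (94, 25))))
(.node 2 (.node 1 (.leaf (89, 26)) (.leaf (90, 26))) (.node 1 (.leaf (91, 26)) (.leaf (90, 27)))))
(.node 4 (.node 2 (.node 1 (.leaf (90, 28)) (.leaf (92, 28))) (.node 1 (.leaf (89, 29)) (.leaf (91, 29))))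
(.node 2 (.node 1 (.leaf (92, 29)) (.leaf (94, 29))) (.node 1 (.leaf (90, 30)) (.leaf (92, 30)))))))
(.node 16 (.node 8 (.node 4 (.node 2 (.node 1 (.leaf (90, 31)) (.leaf (92, 31))) (.node 1 (.leaf (93, 31)) (.leaf (94, 31))))
(.node 2 (.node 1 (.leaf (90, 32)) (.leaf (91, 32))) (.node 1 (.leaf (92, 32)) (.leaf (93, 32)))))
(.node 4 (.node 2 (.node 1 (.leaf (94, 32)) (.leaf (90, 33))) (.node 1 (.leaf (92, 33)) (.leaf (93, 33))))
(.node 2 (.node 1 (.leaf (94, 33)) (.leaf (91, 34))) (.node 1 (.leaf (93, 34)) (.leaf (94, 34))))))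
(.node 8 (.node 4 (.node 2 (.node 1 (.leaf (94, 35)) (.leaf (89, 36))) (.node 1 (.leaf (91, 36)) (.leaf (93, 37))))
(.node 2 (.node 1 (.leaf (94, 37)) (.leaf (90, 38))) (.node 1 (.leaf (93, 38)) (.leaf (94, 38)))))
(.node 4 (.node 2 (.node 1 (.leaf (90, 40)) (.leaf (90, 41))) (.node 1 (.leaf (92, 41)) (.leaf (93, 41))))
(.node 2 (.node 1 (.leaf (94, 41)) (.leaf (93, 42))) (.node 1 (.leaf (94, 42)) (.leaf (90, 43)))))))))
(.node 64 (.node 32 (.node 16 (.node 8 (.node 4 (.node 2 (.node 1 (.leaf (92, 43)) (.leaf (93, 43))) (.node 1 (.leaf (94, 43)) (.leaf (89, 45))))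
(.node 2 (.node 1 (.leaf (90, 45)) (.leaf (91, 45))) (.node 1 (.leaf (90, 46)) (.leaf (92, 46)))))
(.node 4 (.node 2 (.node 1 (.leaf (89, 47)) (.leaf (91, 47))) (.node 1 (.leaf (92, 47)) (.leaf (94, 47))))
(.node 2 (.node 1 (.leaf (90, 48)) (.leaf (92, 48))) (.node 1 (.leaf (93, 48)) (.leaf (94, 48))))))
(.node 8 (.node 4 (.node 2 (.node 1 (.leaf (93, 49)) (.leaf (94, 49))) (.node 1 (.leaf (89, 51)) (.leaf (90, 51))))
(.node 2 (.node 1 (.leaf (91, 52)) (.leaf (93, 52))) (.node 1 (.leaf (92, 53)) (.leaf (93, 53)))))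
(.node 4 (.node 2 (.node 1 (.leaf (94, 53)) (.leaf (91, 54))) (.node 1 (.leaf (93, 54)) (.leaf (94, 54))))
(.node 2 (.node 1 (.leaf (94, 55)) (.leaf (89, 56))) (.node 1 (.leaf (91, 56)) (.leaf (93, 57)))))))
(.node 16 (.node 8 (.node 4 (.node 2 (.node 1 (.leaf (94, 57)) (.leaf (93, 58))) (.node 1 (.leaf (94, 58)) (.leaf (90, 60))))
(.node 2 (.node 1 (.leaf (93, 61)) (.leaf (94, 62))) (.node 1 (.leaf (89, 63)) (.leaf (90, 63)))))
(.node 4 (.node 2 (.node 1 (.leaf (91, 63)) (.leaf (90, 65))) (.node 1 (.leaf (92, 65)) (.leaf (90, 66))))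
(.node 2 (.node 1 (.leaf (92, 66)) (.leaf (94, 67))) (.node 1 (.leaf (93, 69)) (.leaf (93, 73))))))
(.node 8 (.node 4 (.node 2 (.node 1 (.leaf (94, 73)) (.leaf (93, 74))) (.node 1 (.leaf (94, 77)) (.leaf (89, 78))))
(.node 2 (.node 1 (.leaf (91, 78)) (.leaf (93, 79))) (.node 1 (.leaf (94, 79)) (.leaf (93, 80)))))
(.node 4 (.node 2 (.node 1 (.leaf (90, 83)) (.leaf (89, 87))) (.node 1 (.leaf (91, 87)) (.leaf (92, 87))))
(.node 2 (.node 1 (.leaf (94, 87)) (.leaf (89, 88))) (.node 1 (.leaf (91, 88)) (.leaf (94, 88))))))))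
(.node 32 (.node 16 (.node 8 (.node 4 (.node 2 (.node 1 (.leaf (90, 90)) (.leaf (92, 90))) (.node 1 (.leaf (94, 90)) (.leaf (90, 91))))
(.node 2 (.node 1 (.leaf (92, 91)) (.leaf (94, 91))) (.node 1 (.leaf (94, 94)) (.leaf (90, 96)))))
(.node 4 (.node 2 (.node 1 (.leaf (92, 96)) (.leaf (93, 96))) (.node 1 (.leaf (94, 96)) (.leaf (93, 97))))
(.node 2 (.node 1 (.leaf (94, 97)) (.leaf (90, 99))) (.node 1 (.leaf (91, 100)) (.leaf (92, 101))))))
(.node 8 (.node 4 (.node 2 (.node 1 (.leaf (93, 101)) (.leaf (94, 101))) (.node 1 (.leaf (91, 102)) (.leaf (93, 102))))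
(.node 2 (.node 1 (.leaf (94, 102)) (.leaf (89, 104))) (.node 1 (.leaf (93, 105)) (.leaf (94, 105)))))
(.node 4 (.node 2 (.node 1 (.leaf (93, 106)) (.leaf (94, 106))) (.node 1 (.leaf (90, 108)) (.leaf (93, 109))))
(.node 2 (.node 1 (.leaf (90, 111)) (.leaf (90, 113))) (.node 1 (.leaf (92, 113)) (.leaf (90, 114)))))))
(.node 16 (.node 8 (.node 4 (.node 2 (.node 1 (.leaf (92, 114)) (.leaf (93, 117))) (.node 1 (.leaf (93, 121)) (.leaf (94, 121))))
(.node 2 (.node 1 (.leaf (93, 122)) (.leaf (93, 127))) (.node 1 (.leaf (94, 127)) (.leaf (93, 128)))))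
(.node 4 (.node 2 (.node 1 (.leaf (90, 136)) (.leaf (92, 136))) (.node 1 (.leaf (94, 136)) (.leaf (90, 137))))
(.node 2 (.node 1 (.leaf (92, 137)) (.leaf (94, 137))) (.node 1 (.leaf (93, 141)) (.leaf (94, 141))))))
(.node 8 (.node 4 (.node 2 (.node 1 (.leaf (90, 145)) (.leaf (93, 150))) (.node 1 (.leaf (93, 153)) (.leaf (94, 154))))
(.node 2 (.node 1 (.leaf (89, 155)) (.leaf (91, 155))) (.node 1 (.leaf (92, 157)) (.leaf (92, 158)))))
(.node 4 (.node 2 (.node 1 (.leaf (90, 165)) (.leaf (93, 200))) (.node 1 (.leaf (94, 200)) (.leaf (90, 204))))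
(.node 2 (.node 1 (.leaf (93, 207)) (.leaf (93, 210))) (.node 1 (.leaf (89, 212)) (.leaf (91, 212))))))))))

/-- The node. -/
def caseAFullN9Node : NodeD := ⟨9, 256, caseAFullN9Els, caseAFullN9Ix, caseAFullN9How, fun b => bif b then (.node 7 (.node 3 (.node 1 (.leaf 395) (.node 1 (.leaf 397) (.leaf 396)))
(.node 2 (.node 1 (.leaf 400) (.leaf 399)) (.node 1 (.leaf 398) (.leaf 164))))
(.node 3 (.node 1 (.leaf 167) (.node 1 (.leaf 168) (.leaf 163)))
(.node 2 (.node 1 (.leaf 165) (.leaf 166)) (.node 1 (.leaf 169) (.leaf 162))))) else (.node 7 (.node 3 (.node 1 (.leaf 239) (.node 1 (.leaf 238) (.leaf 237)))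
(.node 2 (.node 1 (.leaf 240) (.leaf 391)) (.node 1 (.leaf 390) (.leaf 77))))
(.node 3 (.node 1 (.leaf 392) (.node 1 (.leaf 235) (.leaf 234)))
(.node 2 (.node 1 (.leaf 241) (.leaf 236)) (.node 1 (.leaf 393) (.leaf 394)))))⟩

/-- The stabiliser. -/
def caseAFullN16Els : Tab ℕ :=
(.node 96 (.node 48 (.node 24 (.node 12 (.node 6 (.node 3 (.node 1 (.leaf 17043521) (.node 1 (.leaf 19755089) (.leaf 25712721))) (.node 1 (.leaf 17657939) (.node 1 (.leaf 17125443) (.leaf 8990787))))
(.node 3 (.node 1 (.leaf 19222593) (.node 1 (.leaf 27621449) (.leaf 9187401))) (.node 1 (.leaf 25524299) (.node 1 (.leaf 19159107) (.leaf 11024451)))))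
(.node 6 (.node 3 (.node 1 (.leaf 17061953) (.node 1 (.leaf 19675219) (.leaf 27793491))) (.node 1 (.leaf 17578065) (.node 1 (.leaf 11294795) (.leaf 27531339))))
(.node 3 (.node 1 (.leaf 9197641) (.node 1 (.leaf 17641555) (.leaf 25759827))) (.node 1 (.leaf 19738705) (.node 1 (.leaf 25770067) (.leaf 17635411))))))
(.node 12 (.node 6 (.node 3 (.node 1 (.leaf 27867217) (.node 1 (.leaf 11104321) (.leaf 17045569))) (.node 1 (.leaf 9007171) (.node 1 (.leaf 27799635) (.leaf 19664979))))
(.node 3 (.node 1 (.leaf 25702481) (.node 1 (.leaf 17576017) (.leaf 27859025))) (.node 1 (.leaf 19673171) (.node 1 (.leaf 9195593) (.leaf 27596873)))))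
(.node 6 (.node 3 (.node 1 (.leaf 11292747) (.node 1 (.leaf 19740753) (.leaf 25694289))) (.node 1 (.leaf 17643603) (.node 1 (.leaf 11106369) (.leaf 19140675))))
(.node 3 (.node 1 (.leaf 25440329) (.node 1 (.leaf 11368521) (.leaf 27537483))) (.node 1 (.leaf 19208257) (.node 1 (.leaf 8941633) (.leaf 17111107)))))))
(.node 24 (.node 12 (.node 6 (.node 3 (.node 1 (.leaf 8917057) (.node 1 (.leaf 19232833) (.leaf 11014211))) (.node 1 (.leaf 25710673) (.node 1 (.leaf 19757137) (.leaf 27807827))))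
(.node 3 (.node 1 (.leaf 11081793) (.node 1 (.leaf 17068097) (.leaf 8984643))) (.node 1 (.leaf 19142723) (.node 1 (.leaf 11040835) (.leaf 27539531)))))
(.node 6 (.node 3 (.node 1 (.leaf 11302987) (.node 1 (.leaf 25442377) (.leaf 17109059))) (.node 1 (.leaf 19206209) (.node 1 (.leaf 27529291) (.leaf 25432137))))
(.node 3 (.node 1 (.leaf 19148867) (.node 1 (.leaf 11030595) (.leaf 17051713))) (.node 1 (.leaf 25499723) (.node 1 (.leaf 9263179) (.leaf 9244747))))))
(.node 12 (.node 6 (.node 3 (.node 1 (.leaf 25514059) (.node 1 (.leaf 11341897) (.leaf 17659987))) (.node 1 (.leaf 11278411) (.node 1 (.leaf 27547723) (.leaf 9181257))))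
(.node 3 (.node 1 (.leaf 25434185) (.node 1 (.leaf 11358281) (.leaf 17053761))) (.node 1 (.leaf 11096129) (.node 1 (.leaf 19150915) (.leaf 27594825)))))
(.node 6 (.node 3 (.node 1 (.leaf 25497675) (.node 1 (.leaf 8943681) (.leaf 25507915))) (.node 1 (.leaf 9271371) (.node 1 (.leaf 27605065) (.leaf 11079745))))
(.node 3 (.node 1 (.leaf 17070145) (.node 1 (.leaf 8982595) (.leaf 25778259))) (.node 1 (.leaf 27875409) (.node 1 (.leaf 8919105) (.leaf 19230785))))))))
(.node 48 (.node 24 (.node 12 (.node 6 (.node 3 (.node 1 (.leaf 11016259) (.node 1 (.leaf 9009219) (.leaf 27603017))) (.node 1 (.leaf 9205833) (.node 1 (.leaf 25505867) (.leaf 11038787))))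
(.node 3 (.node 1 (.leaf 9246795) (.node 1 (.leaf 25516107) (.leaf 11343945))) (.node 1 (.leaf 17594449) (.node 1 (.leaf 27873361) (.leaf 19691603)))))
(.node 6 (.node 3 (.node 1 (.leaf 27881553) (.node 1 (.leaf 17586257) (.leaf 25784403))) (.node 1 (.leaf 8992835) (.node 1 (.leaf 17127491) (.leaf 11089985))))
(.node 3 (.node 1 (.leaf 25720913) (.node 1 (.leaf 19746897) (.leaf 27818067))) (.node 1 (.leaf 25450569) (.node 1 (.leaf 19689555) (.leaf 17592401))))))
(.node 12 (.node 6 (.node 3 (.node 1 (.leaf 11366473) (.node 1 (.leaf 9269323) (.leaf 19732561))) (.node 1 (.leaf 27619401) (.node 1 (.leaf 9189449) (.leaf 25522251))))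
(.node 3 (.node 1 (.leaf 19224641) (.node 1 (.leaf 25458761) (.leaf 11350089))) (.node 1 (.leaf 27555915) (.node 1 (.leaf 19730513) (.leaf 25704529)))))
(.node 6 (.node 3 (.node 1 (.leaf 17633363) (.node 1 (.leaf 11300939) (.leaf 9203785))) (.node 1 (.leaf 9179209) (.node 1 (.leaf 27613257) (.leaf 11276363))))
(.node 3 (.node 1 (.leaf 25718865) (.node 1 (.leaf 19748945) (.leaf 27816019))) (.node 1 (.leaf 8925249) (.node 1 (.leaf 11022403) (.leaf 27883601)))))))
(.node 24 (.node 12 (.node 6 (.node 3 (.node 1 (.leaf 17584209) (.node 1 (.leaf 25786451) (.leaf 27809875))) (.node 1 (.leaf 25776211) (.node 1 (.leaf 19683411) (.leaf 11286603))))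
(.node 3 (.node 1 (.leaf 17649747) (.node 1 (.leaf 19165251) (.leaf 11032643))) (.node 1 (.leaf 8935489) (.node 1 (.leaf 25696337) (.leaf 8998979)))))
(.node 6 (.node 3 (.node 1 (.leaf 17117251) (.node 1 (.leaf 19157059) (.leaf 17059905))) (.node 1 (.leaf 8933441) (.node 1 (.leaf 19216449) (.leaf 27791443))))
(.node 3 (.node 1 (.leaf 11098177) (.node 1 (.leaf 9001027) (.leaf 17133635))) (.node 1 (.leaf 17651795) (.node 1 (.leaf 9252939) (.leaf 19681363))))))
(.node 12 (.node 6 (.node 3 (.node 1 (.leaf 25448521) (.node 1 (.leaf 27553867) (.leaf 11284555))) (.node 1 (.leaf 25456713) (.node 1 (.leaf 9254987) (.leaf 25768019))))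
(.node 3 (.node 1 (.leaf 27545675) (.node 1 (.leaf 27611209) (.leaf 17119299))) (.node 1 (.leaf 17135683) (.node 1 (.leaf 11360329) (.leaf 25761875)))))
(.node 6 (.node 3 (.node 1 (.leaf 11087937) (.node 1 (.leaf 8927297) (.leaf 27865169))) (.node 1 (.leaf 27801683) (.node 1 (.leaf 19667027) (.leaf 17567825))))
(.node 3 (.node 1 (.leaf 19214401) (.node 1 (.leaf 9261131) (.leaf 11352137))) (.node 1 (.leaf 19167299) (.node 1 (.leaf 17569873) (.leaf 27856977)))))))))

/-- Its index. -/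
def caseAFullN16Ix : BT ℕ :=
(.node 19140675 41
(.node 11276363 137
(.node 9244747 71
(.node 8998979 155
(.node 8941633 46
(.node 8927297 181 (.node 8919105 94 (.node 8917057 48 .tip .tip) (.node 8925249 141 .tip .tip)) (.node 8935489 153 (.node 8933441 159 .tip .tip) .tip))
(.node 8984643 56 (.node 8982595 91 (.node 8943681 85 .tip .tip) .tip) (.node 8992835 111 (.node 8990787 5 .tip .tip) .tip)))
(.node 9187401 8
(.node 9009219 97 (.node 9007171 27 (.node 9001027 163 .tip .tip) .tip) (.node 9181257 77 (.node 9179209 135 .tip .tip) .tip))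
(.node 9197641 18 (.node 9195593 34 (.node 9189449 124 .tip .tip) .tip) (.node 9205833 99 (.node 9203785 134 .tip .tip) .tip))))
(.node 11030595 67
(.node 9269323 121
(.node 9254987 172 (.node 9252939 166 (.node 9246795 102 .tip .tip) .tip) (.node 9263179 70 (.node 9261131 187 .tip .tip) .tip))
(.node 11016259 96 (.node 11014211 50 (.node 9271371 87 .tip .tip) .tip) (.node 11024451 11 (.node 11022403 142 .tip .tip) .tip)))
(.node 11087937 180
(.node 11040835 58 (.node 11038787 101 (.node 11032643 152 .tip .tip) .tip) (.node 11081793 54 (.node 11079745 89 .tip .tip) .tip))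
(.node 11098177 162 (.node 11096129 81 (.node 11089985 113 .tip .tip) .tip) (.node 11106369 40 (.node 11104321 25 .tip .tip) .tip)))))
(.node 17109059 62
(.node 11358281 79
(.node 11300939 133
(.node 11286603 149 (.node 11284555 170 (.node 11278411 75 .tip .tip) .tip) (.node 11294795 16 (.node 11292747 36 .tip .tip) .tip))
(.node 11343945 104 (.node 11341897 73 (.node 11302987 60 .tip .tip) .tip) (.node 11352137 188 (.node 11350089 128 .tip .tip) .tip)))
(.node 17051713 68
(.node 11368521 43 (.node 11366473 120 (.node 11360329 178 .tip .tip) .tip) (.node 17045569 26 (.node 17043521 0 .tip .tip) .tip))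
(.node 17061953 12 (.node 17059905 158 (.node 17053761 80 .tip .tip) .tip) (.node 17070145 90 (.node 17068097 55 .tip .tip) .tip))))
(.node 17584209 144
(.node 17133635 164
(.node 17119299 176 (.node 17117251 156 (.node 17111107 47 .tip .tip) .tip) (.node 17127491 112 (.node 17125443 4 .tip .tip) .tip))
(.node 17569873 190 (.node 17567825 185 (.node 17135683 177 .tip .tip) .tip) (.node 17578065 15 (.node 17576017 31 .tip .tip) .tip)))
(.node 17641555 19
(.node 17594449 105 (.node 17592401 119 (.node 17586257 109 .tip .tip) .tip) (.node 17635411 23 (.node 17633363 132 .tip .tip) .tip))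
(.node 17651795 165 (.node 17649747 150 (.node 17643603 39 .tip .tip) .tip) (.node 17659987 74 (.node 17657939 3 .tip .tip) .tip))))))
(.node 25694289 38
(.node 19730513 130
(.node 19222593 6
(.node 19165251 151
(.node 19150915 82 (.node 19148867 66 (.node 19142723 57 .tip .tip) .tip) (.node 19159107 10 (.node 19157059 157 .tip .tip) .tip))
(.node 19208257 45 (.node 19206209 63 (.node 19167299 189 .tip .tip) .tip) (.node 19216449 160 (.node 19214401 186 .tip .tip) .tip)))
(.node 19673171 33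
(.node 19232833 49 (.node 19230785 95 (.node 19224641 126 .tip .tip) .tip) (.node 19667027 184 (.node 19664979 29 .tip .tip) .tip))
(.node 19683411 148 (.node 19681363 167 (.node 19675219 13 .tip .tip) .tip) (.node 19691603 107 (.node 19689555 118 .tip .tip) .tip))))
(.node 25448521 168
(.node 19755089 1
(.node 19740753 37 (.node 19738705 21 (.node 19732561 122 .tip .tip) .tip) (.node 19748945 139 (.node 19746897 115 .tip .tip) .tip))
(.node 25434185 78 (.node 25432137 65 (.node 19757137 52 .tip .tip) .tip) (.node 25442377 61 (.node 25440329 42 .tip .tip) .tip)))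
(.node 25505867 100
(.node 25458761 127 (.node 25456713 171 (.node 25450569 117 .tip .tip) .tip) (.node 25499723 69 (.node 25497675 84 .tip .tip) .tip))
(.node 25516107 103 (.node 25514059 72 (.node 25507915 86 .tip .tip) .tip) (.node 25524299 9 (.node 25522251 125 .tip .tip) .tip)))))
(.node 27594825 83
(.node 25776211 147
(.node 25718865 138
(.node 25704529 131 (.node 25702481 30 (.node 25696337 154 .tip .tip) .tip) (.node 25712721 2 (.node 25710673 51 .tip .tip) .tip))
(.node 25761875 179 (.node 25759827 20 (.node 25720913 114 .tip .tip) .tip) (.node 25770067 22 (.node 25768019 173 .tip .tip) .tip)))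
(.node 27537483 44
(.node 25786451 145 (.node 25784403 110 (.node 25778259 92 .tip .tip) .tip) (.node 27531339 17 (.node 27529291 64 .tip .tip) .tip))
(.node 27547723 76 (.node 27545675 174 (.node 27539531 59 .tip .tip) .tip) (.node 27555915 129 (.node 27553867 169 .tip .tip) .tip))))
(.node 27807827 53
(.node 27619401 123
(.node 27605065 88 (.node 27603017 98 (.node 27596873 35 .tip .tip) .tip) (.node 27613257 136 (.node 27611209 175 .tip .tip) .tip))
(.node 27793491 14 (.node 27791443 161 (.node 27621449 7 .tip .tip) .tip) (.node 27801683 183 (.node 27799635 28 .tip .tip) .tip)))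
(.node 27865169 182
(.node 27818067 116 (.node 27816019 140 (.node 27809875 146 .tip .tip) .tip) (.node 27859025 32 (.node 27856977 191 .tip .tip) .tip))
(.node 27875409 93 (.node 27873361 106 (.node 27867217 24 .tip .tip) .tip) (.node 27883601 143 (.node 27881553 108 .tip .tip) .tip)))))))

/-- The reasons. -/
def caseAFullN16How : Tab (ℕ × ℕ) :=
(.node 96 (.node 48 (.node 24 (.node 12 (.node 6 (.node 3 (.node 1 (.leaf (0, 0)) (.node 1 (.leaf (146, 0)) (.leaf (147, 0)))) (.node 1 (.leaf (148, 0)) (.node 1 (.leaf (146, 1)) (.leaf (147, 1)))))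
(.node 3 (.node 1 (.leaf (148, 1)) (.node 1 (.leaf (146, 2)) (.leaf (147, 2)))) (.node 1 (.leaf (148, 2)) (.node 1 (.leaf (146, 3)) (.leaf (147, 3))))))
(.node 6 (.node 3 (.node 1 (.leaf (148, 3)) (.node 1 (.leaf (146, 4)) (.leaf (147, 4)))) (.node 1 (.leaf (148, 4)) (.node 1 (.leaf (146, 5)) (.leaf (147, 5)))))
(.node 3 (.node 1 (.leaf (148, 5)) (.node 1 (.leaf (146, 6)) (.leaf (147, 6)))) (.node 1 (.leaf (148, 6)) (.node 1 (.leaf (146, 7)) (.leaf (147, 7)))))))
(.node 12 (.node 6 (.node 3 (.node 1 (.leaf (148, 7)) (.node 1 (.leaf (146, 8)) (.leaf (147, 8)))) (.node 1 (.leaf (148, 8)) (.node 1 (.leaf (146, 9)) (.leaf (147, 9)))))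
(.node 3 (.node 1 (.leaf (148, 9)) (.node 1 (.leaf (146, 10)) (.leaf (147, 10)))) (.node 1 (.leaf (148, 10)) (.node 1 (.leaf (146, 11)) (.leaf (147, 11))))))
(.node 6 (.node 3 (.node 1 (.leaf (148, 11)) (.node 1 (.leaf (146, 12)) (.leaf (147, 12)))) (.node 1 (.leaf (148, 12)) (.node 1 (.leaf (147, 13)) (.leaf (148, 13)))))
(.node 3 (.node 1 (.leaf (146, 14)) (.node 1 (.leaf (147, 14)) (.leaf (148, 14)))) (.node 1 (.leaf (146, 15)) (.node 1 (.leaf (147, 15)) (.leaf (148, 15))))))))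
(.node 24 (.node 12 (.node 6 (.node 3 (.node 1 (.leaf (146, 16)) (.node 1 (.leaf (147, 16)) (.leaf (148, 16)))) (.node 1 (.leaf (146, 17)) (.node 1 (.leaf (147, 17)) (.leaf (148, 17)))))
(.node 3 (.node 1 (.leaf (146, 18)) (.node 1 (.leaf (147, 18)) (.leaf (148, 18)))) (.node 1 (.leaf (146, 19)) (.node 1 (.leaf (147, 19)) (.leaf (146, 20))))))
(.node 6 (.node 3 (.node 1 (.leaf (147, 20)) (.node 1 (.leaf (148, 20)) (.leaf (146, 21)))) (.node 1 (.leaf (148, 21)) (.node 1 (.leaf (146, 22)) (.leaf (148, 22)))))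
(.node 3 (.node 1 (.leaf (146, 23)) (.node 1 (.leaf (147, 23)) (.leaf (148, 23)))) (.node 1 (.leaf (146, 24)) (.node 1 (.leaf (147, 24)) (.leaf (146, 25)))))))
(.node 12 (.node 6 (.node 3 (.node 1 (.leaf (147, 25)) (.node 1 (.leaf (148, 25)) (.leaf (148, 26)))) (.node 1 (.leaf (146, 27)) (.node 1 (.leaf (147, 27)) (.leaf (148, 27)))))
(.node 3 (.node 1 (.leaf (146, 28)) (.node 1 (.leaf (147, 28)) (.leaf (146, 29)))) (.node 1 (.leaf (147, 29)) (.node 1 (.leaf (148, 29)) (.leaf (146, 30))))))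
(.node 6 (.node 3 (.node 1 (.leaf (148, 30)) (.node 1 (.leaf (147, 31)) (.leaf (146, 32)))) (.node 1 (.leaf (147, 32)) (.node 1 (.leaf (148, 32)) (.leaf (146, 34)))))
(.node 3 (.node 1 (.leaf (147, 34)) (.node 1 (.leaf (148, 34)) (.leaf (146, 35)))) (.node 1 (.leaf (148, 35)) (.node 1 (.leaf (146, 36)) (.leaf (147, 36)))))))))
(.node 48 (.node 24 (.node 12 (.node 6 (.node 3 (.node 1 (.leaf (148, 36)) (.node 1 (.leaf (147, 37)) (.leaf (146, 38)))) (.node 1 (.leaf (147, 38)) (.node 1 (.leaf (148, 38)) (.leaf (147, 39)))))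
(.node 3 (.node 1 (.leaf (146, 40)) (.node 1 (.leaf (147, 40)) (.leaf (148, 40)))) (.node 1 (.leaf (146, 41)) (.node 1 (.leaf (147, 41)) (.leaf (148, 41))))))
(.node 6 (.node 3 (.node 1 (.leaf (146, 42)) (.node 1 (.leaf (147, 42)) (.leaf (148, 42)))) (.node 1 (.leaf (146, 43)) (.node 1 (.leaf (147, 43)) (.leaf (148, 43)))))
(.node 3 (.node 1 (.leaf (146, 44)) (.node 1 (.leaf (147, 44)) (.leaf (148, 44)))) (.node 1 (.leaf (147, 46)) (.node 1 (.leaf (146, 47)) (.leaf (148, 47)))))))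
(.node 12 (.node 6 (.node 3 (.node 1 (.leaf (146, 48)) (.node 1 (.leaf (148, 48)) (.leaf (148, 49)))) (.node 1 (.leaf (146, 51)) (.node 1 (.leaf (147, 51)) (.leaf (148, 51)))))
(.node 3 (.node 1 (.leaf (148, 52)) (.node 1 (.leaf (146, 53)) (.leaf (147, 53)))) (.node 1 (.leaf (148, 53)) (.node 1 (.leaf (146, 55)) (.leaf (147, 55))))))
(.node 6 (.node 3 (.node 1 (.leaf (148, 55)) (.node 1 (.leaf (146, 56)) (.leaf (148, 56)))) (.node 1 (.leaf (146, 58)) (.node 1 (.leaf (147, 58)) (.leaf (148, 58)))))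
(.node 3 (.node 1 (.leaf (146, 59)) (.node 1 (.leaf (147, 59)) (.leaf (148, 59)))) (.node 1 (.leaf (146, 60)) (.node 1 (.leaf (148, 60)) (.leaf (146, 61))))))))
(.node 24 (.node 12 (.node 6 (.node 3 (.node 1 (.leaf (147, 61)) (.node 1 (.leaf (148, 61)) (.leaf (147, 62)))) (.node 1 (.leaf (147, 63)) (.node 1 (.leaf (148, 66)) (.leaf (148, 67)))))
(.node 3 (.node 1 (.leaf (148, 68)) (.node 1 (.leaf (147, 70)) (.leaf (146, 71)))) (.node 1 (.leaf (148, 71)) (.node 1 (.leaf (148, 72)) (.leaf (146, 73))))))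
(.node 6 (.node 3 (.node 1 (.leaf (147, 73)) (.node 1 (.leaf (146, 74)) (.leaf (148, 74)))) (.node 1 (.leaf (146, 75)) (.node 1 (.leaf (147, 75)) (.leaf (148, 76)))))
(.node 3 (.node 1 (.leaf (146, 77)) (.node 1 (.leaf (148, 77)) (.leaf (147, 79)))) (.node 1 (.leaf (148, 80)) (.node 1 (.leaf (146, 81)) (.leaf (148, 82)))))))
(.node 12 (.node 6 (.node 3 (.node 1 (.leaf (147, 85)) (.node 1 (.leaf (146, 92)) (.leaf (147, 92)))) (.node 1 (.leaf (148, 92)) (.node 1 (.leaf (147, 93)) (.leaf (147, 95)))))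
(.node 3 (.node 1 (.leaf (147, 97)) (.node 1 (.leaf (147, 101)) (.leaf (147, 104)))) (.node 1 (.leaf (148, 109)) (.node 1 (.leaf (148, 113)) (.leaf (148, 117))))))
(.node 6 (.node 3 (.node 1 (.leaf (147, 118)) (.node 1 (.leaf (147, 119)) (.leaf (148, 123)))) (.node 1 (.leaf (146, 125)) (.node 1 (.leaf (147, 125)) (.leaf (147, 127)))))
(.node 3 (.node 1 (.leaf (148, 130)) (.node 1 (.leaf (148, 141)) (.leaf (147, 146)))) (.node 1 (.leaf (146, 150)) (.node 1 (.leaf (146, 151)) (.leaf (147, 157))))))))))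

/-- The node. -/
def caseAFullN16Node : NodeD := ⟨16, 192, caseAFullN16Els, caseAFullN16Ix, caseAFullN16How, fun b => bif b then (.node 7 (.node 3 (.node 1 (.leaf 135) (.node 1 (.leaf 413) (.leaf 408)))
(.node 2 (.node 1 (.leaf 418) (.leaf 416)) (.node 1 (.leaf 414) (.leaf 415))))
(.node 3 (.node 1 (.leaf 409) (.node 1 (.leaf 419) (.leaf 410)))
(.node 2 (.node 1 (.leaf 417) (.leaf 412)) (.node 1 (.leaf 407) (.leaf 411))))) else (.node 7 (.node 3 (.node 1 (.leaf 282) (.node 1 (.leaf 279) (.leaf 403)))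
(.node 2 (.node 1 (.leaf 402) (.leaf 280)) (.node 1 (.leaf 283) (.leaf 401))))
(.node 3 (.node 1 (.leaf 406) (.node 1 (.leaf 284) (.leaf 281)))
(.node 2 (.node 1 (.leaf 404) (.leaf 405)) (.node 1 (.leaf 285) (.leaf 277)))))⟩

/-- The stabiliser. -/
def caseAFullN24Els : Tab ℕ :=
(.node 96 (.node 48 (.node 24 (.node 12 (.node 6 (.node 3 (.node 1 (.leaf 17043521) (.node 1 (.leaf 17508433) (.leaf 17576017))) (.node 1 (.leaf 17510487) (.node 1 (.leaf 17584193) (.leaf 17002561))))
(.node 3 (.node 1 (.leaf 17592393) (.node 1 (.leaf 17786945) (.leaf 17059905))) (.node 1 (.leaf 17780815) (.node 1 (.leaf 17780807) (.leaf 17000519)))))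
(.node 6 (.node 3 (.node 1 (.leaf 17786953) (.node 1 (.leaf 17000529) (.leaf 17051729))) (.node 1 (.leaf 16986183) (.node 1 (.leaf 17240145) (.leaf 17524817))))
(.node 3 (.node 1 (.leaf 17262671) (.node 1 (.leaf 17262681) (.leaf 17043545))) (.node 1 (.leaf 17240135) (.node 1 (.leaf 17068113) (.leaf 17043529))))))
(.node 12 (.node 6 (.node 3 (.node 1 (.leaf 16984145) (.node 1 (.leaf 17592401) (.leaf 17002567))) (.node 1 (.leaf 17002591) (.node 1 (.leaf 17246303) (.leaf 16984137))))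
(.node 3 (.node 1 (.leaf 17002583) (.node 1 (.leaf 17246295) (.leaf 16984129))) (.node 1 (.leaf 17043543) (.node 1 (.leaf 17526871) (.leaf 17068111)))))
(.node 6 (.node 3 (.node 1 (.leaf 17068121) (.node 1 (.leaf 17240153) (.leaf 17526849))) (.node 1 (.leaf 17770561) (.node 1 (.leaf 17567809) (.leaf 17764431))))
(.node 3 (.node 1 (.leaf 17764439) (.node 1 (.leaf 17508439) (.leaf 17770585))) (.node 1 (.leaf 17510465) (.node 1 (.leaf 17508423) (.leaf 16986177)))))))
(.node 24 (.node 12 (.node 6 (.node 3 (.node 1 (.leaf 17051737) (.node 1 (.leaf 17051743) (.leaf 17780831))) (.node 1 (.leaf 17059911) (.node 1 (.leaf 17051721) (.leaf 17780809))))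
(.node 3 (.node 1 (.leaf 17059921) (.node 1 (.leaf 17508425) (.leaf 17576009))) (.node 1 (.leaf 17510479) (.node 1 (.leaf 17770583) (.leaf 17246273)))))
(.node 6 (.node 3 (.node 1 (.leaf 17256543) (.node 1 (.leaf 17508441) (.leaf 17576025))) (.node 1 (.leaf 17510495) (.node 1 (.leaf 17262657) (.leaf 17240159))))
(.node 3 (.node 1 (.leaf 17240151) (.node 1 (.leaf 17524823) (.leaf 17262665))) (.node 1 (.leaf 17240143) (.node 1 (.leaf 17524815) (.leaf 17262673))))))
(.node 12 (.node 6 (.node 3 (.node 1 (.leaf 17576015) (.node 1 (.leaf 17567815) (.leaf 17567833))) (.node 1 (.leaf 17510489) (.node 1 (.leaf 17524807) (.leaf 17576007))))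
(.node 3 (.node 1 (.leaf 17764423) (.node 1 (.leaf 17567823) (.leaf 17567825))) (.node 1 (.leaf 17510481) (.node 1 (.leaf 17256519) (.leaf 16984135)))))
(.node 6 (.node 3 (.node 1 (.leaf 17246297) (.node 1 (.leaf 17584223) (.leaf 17256513))) (.node 1 (.leaf 17246281) (.node 1 (.leaf 17584201) (.leaf 17256535))))
(.node 3 (.node 1 (.leaf 17510473) (.node 1 (.leaf 17770569) (.leaf 17508431))) (.node 1 (.leaf 17256529) (.node 1 (.leaf 17246287) (.leaf 17584217))))))))
(.node 48 (.node 24 (.node 12 (.node 6 (.node 3 (.node 1 (.leaf 17526879) (.node 1 (.leaf 17262687) (.leaf 17524825))) (.node 1 (.leaf 17526855) (.node 1 (.leaf 17262663) (.leaf 17524801))))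
(.node 3 (.node 1 (.leaf 17584199) (.node 1 (.leaf 17592399) (.leaf 17256521))) (.node 1 (.leaf 17780817) (.node 1 (.leaf 17786975) (.leaf 17584215)))))
(.node 6 (.node 3 (.node 1 (.leaf 17592415) (.node 1 (.leaf 17764433) (.leaf 17770591))) (.node 1 (.leaf 17567817) (.node 1 (.leaf 17770575) (.leaf 17764417))))
(.node 3 (.node 1 (.leaf 17002575) (.node 1 (.leaf 16984153) (.leaf 16984151))) (.node 1 (.leaf 17592407) (.node 1 (.leaf 17002585) (.leaf 16984143))))))
(.node 12 (.node 6 (.node 3 (.node 1 (.leaf 17592385) (.node 1 (.leaf 17786969) (.leaf 17059929))) (.node 1 (.leaf 17780823) (.node 1 (.leaf 17000543) (.leaf 17786961))))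
(.node 3 (.node 1 (.leaf 17592391) (.node 1 (.leaf 17584207) (.leaf 16986191))) (.node 1 (.leaf 17786959) (.node 1 (.leaf 17000537) (.leaf 17002569)))))
(.node 6 (.node 3 (.node 1 (.leaf 17059913) (.node 1 (.leaf 17000527) (.leaf 17510471))) (.node 1 (.leaf 17770567) (.node 1 (.leaf 17508417) (.leaf 17780825))))
(.node 3 (.node 1 (.leaf 17059935) (.node 1 (.leaf 16986207) (.leaf 17051719))) (.node 1 (.leaf 17051713) (.node 1 (.leaf 17780801) (.leaf 17068119)))))))
(.node 24 (.node 12 (.node 6 (.node 3 (.node 1 (.leaf 17526865) (.node 1 (.leaf 17524809) (.leaf 17068105))) (.node 1 (.leaf 17526863) (.node 1 (.leaf 17000521) (.leaf 17786951))))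
(.node 3 (.node 1 (.leaf 17059927) (.node 1 (.leaf 16986199) (.leaf 17051727))) (.node 1 (.leaf 17786967) (.node 1 (.leaf 17262679) (.leaf 17524831)))))
(.node 6 (.node 3 (.node 1 (.leaf 17068127) (.node 1 (.leaf 17526873) (.leaf 17068097))) (.node 1 (.leaf 17000513) (.node 1 (.leaf 17567831) (.leaf 17576031))))
(.node 3 (.node 1 (.leaf 17764425) (.node 1 (.leaf 16986201) (.leaf 16986193))) (.node 1 (.leaf 17764441) (.node 1 (.leaf 17592409) (.leaf 17256537))))))
(.node 12 (.node 6 (.node 3 (.node 1 (.leaf 17584209) (.node 1 (.leaf 17000535) (.leaf 17764447))) (.node 1 (.leaf 17256527) (.node 1 (.leaf 17246289) (.leaf 16986185))))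
(.node 3 (.node 1 (.leaf 17051735) (.node 1 (.leaf 17059919) (.leaf 17043551))) (.node 1 (.leaf 17240129) (.node 1 (.leaf 17043535) (.leaf 17576001)))))
(.node 6 (.node 3 (.node 1 (.leaf 17043527) (.node 1 (.leaf 17240137) (.leaf 17567839))) (.node 1 (.leaf 17576023) (.node 1 (.leaf 17043537) (.leaf 17246279))))
(.node 3 (.node 1 (.leaf 17508447) (.node 1 (.leaf 17770577) (.leaf 17526857))) (.node 1 (.leaf 17068103) (.node 1 (.leaf 17002577) (.leaf 16984159)))))))))

/-- Its index. -/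
def caseAFullN24Ix : BT ℕ :=
(.node 17508417 136
(.node 17059905 8
(.node 17002561 5
(.node 16986193 164
(.node 16984153 115
(.node 16984143 119 (.node 16984135 83 (.node 16984129 32 .tip .tip) (.node 16984137 29 .tip .tip)) (.node 16984151 116 (.node 16984145 24 .tip .tip) .tip))
(.node 16986183 15 (.node 16986177 47 (.node 16984159 191 .tip .tip) .tip) (.node 16986191 128 (.node 16986185 173 .tip .tip) .tip)))
(.node 17000521 148
(.node 16986207 139 (.node 16986201 163 (.node 16986199 151 .tip .tip) .tip) (.node 17000519 11 (.node 17000513 159 .tip .tip) .tip))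
(.node 17000535 169 (.node 17000529 13 (.node 17000527 133 .tip .tip) .tip) (.node 17000543 124 (.node 17000537 130 .tip .tip) .tip))))
(.node 17043537 184
(.node 17002585 118
(.node 17002575 114 (.node 17002569 131 (.node 17002567 26 .tip .tip) .tip) (.node 17002583 30 (.node 17002577 190 .tip .tip) .tip))
(.node 17043527 180 (.node 17043521 0 (.node 17002591 27 .tip .tip) .tip) (.node 17043535 178 (.node 17043529 23 .tip .tip) .tip)))
(.node 17051721 52
(.node 17043551 176 (.node 17043545 20 (.node 17043543 33 .tip .tip) .tip) (.node 17051719 140 (.node 17051713 141 .tip .tip) .tip))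
(.node 17051735 174 (.node 17051729 14 (.node 17051727 152 .tip .tip) .tip) (.node 17051743 49 (.node 17051737 48 .tip .tip) .tip)))))
(.node 17246273 59
(.node 17068113 22
(.node 17059929 122
(.node 17059919 175 (.node 17059913 132 (.node 17059911 51 .tip .tip) .tip) (.node 17059927 150 (.node 17059921 54 .tip .tip) .tip))
(.node 17068103 189 (.node 17068097 158 (.node 17059935 138 .tip .tip) .tip) (.node 17068111 35 (.node 17068105 146 .tip .tip) .tip)))
(.node 17240137 181
(.node 17068127 156 (.node 17068121 36 (.node 17068119 143 .tip .tip) .tip) (.node 17240135 21 (.node 17240129 177 .tip .tip) .tip))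
(.node 17240151 66 (.node 17240145 16 (.node 17240143 69 .tip .tip) .tip) (.node 17240159 65 (.node 17240153 37 .tip .tip) .tip))))
(.node 17256529 93
(.node 17246297 84
(.node 17246287 94 (.node 17246281 87 (.node 17246279 185 .tip .tip) .tip) (.node 17246295 31 (.node 17246289 172 .tip .tip) .tip))
(.node 17256519 82 (.node 17256513 86 (.node 17246303 28 .tip .tip) .tip) (.node 17256527 171 (.node 17256521 104 .tip .tip) .tip)))
(.node 17262665 68
(.node 17256543 60 (.node 17256537 167 (.node 17256535 89 .tip .tip) .tip) (.node 17262663 100 (.node 17262657 64 .tip .tip) .tip))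
(.node 17262679 154 (.node 17262673 71 (.node 17262671 18 .tip .tip) .tip) (.node 17262687 97 (.node 17262681 19 .tip .tip) .tip))))))
(.node 17584193 4
(.node 17526849 38
(.node 17510481 81
(.node 17508441 61
(.node 17508431 92 (.node 17508425 55 (.node 17508423 46 .tip .tip) .tip) (.node 17508439 43 (.node 17508433 1 .tip .tip) .tip))
(.node 17510471 134 (.node 17510465 45 (.node 17508447 186 .tip .tip) .tip) (.node 17510479 57 (.node 17510473 90 .tip .tip) .tip)))
(.node 17524809 145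
(.node 17510495 63 (.node 17510489 75 (.node 17510487 3 .tip .tip) .tip) (.node 17524807 76 (.node 17524801 101 .tip .tip) .tip))
(.node 17524823 67 (.node 17524817 17 (.node 17524815 70 .tip .tip) .tip) (.node 17524831 155 (.node 17524825 98 .tip .tip) .tip))))
(.node 17567825 80
(.node 17526873 157
(.node 17526863 147 (.node 17526857 188 (.node 17526855 99 .tip .tip) .tip) (.node 17526871 34 (.node 17526865 144 .tip .tip) .tip))
(.node 17567815 73 (.node 17567809 40 (.node 17526879 96 .tip .tip) .tip) (.node 17567823 79 (.node 17567817 111 .tip .tip) .tip)))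
(.node 17576009 56
(.node 17567839 182 (.node 17567833 74 (.node 17567831 160 .tip .tip) .tip) (.node 17576007 77 (.node 17576001 179 .tip .tip) .tip))
(.node 17576023 183 (.node 17576017 2 (.node 17576015 72 .tip .tip) .tip) (.node 17576031 161 (.node 17576025 62 .tip .tip) .tip)))))
(.node 17770561 39
(.node 17592401 25
(.node 17584217 95
(.node 17584207 127 (.node 17584201 88 (.node 17584199 102 .tip .tip) .tip) (.node 17584215 107 (.node 17584209 168 .tip .tip) .tip))
(.node 17592391 126 (.node 17592385 120 (.node 17584223 85 .tip .tip) .tip) (.node 17592399 103 (.node 17592393 6 .tip .tip) .tip)))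
(.node 17764425 162
(.node 17592415 108 (.node 17592409 166 (.node 17592407 117 .tip .tip) .tip) (.node 17764423 78 (.node 17764417 113 .tip .tip) .tip))
(.node 17764439 42 (.node 17764433 109 (.node 17764431 41 .tip .tip) .tip) (.node 17764447 170 (.node 17764441 165 .tip .tip) .tip))))
(.node 17780817 105
(.node 17770585 44
(.node 17770575 112 (.node 17770569 91 (.node 17770567 135 .tip .tip) .tip) (.node 17770583 58 (.node 17770577 187 .tip .tip) .tip))
(.node 17780807 10 (.node 17780801 142 (.node 17770591 110 .tip .tip) .tip) (.node 17780815 9 (.node 17780809 53 .tip .tip) .tip)))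
(.node 17786953 12
(.node 17780831 50 (.node 17780825 137 (.node 17780823 123 .tip .tip) .tip) (.node 17786951 149 (.node 17786945 7 .tip .tip) .tip))
(.node 17786967 153 (.node 17786961 125 (.node 17786959 129 .tip .tip) .tip) (.node 17786975 106 (.node 17786969 121 .tip .tip) .tip)))))))

/-- The reasons. -/
def caseAFullN24How : Tab (ℕ × ℕ) :=
(.node 96 (.node 48 (.node 24 (.node 12 (.node 6 (.node 3 (.node 1 (.leaf (0, 0)) (.node 1 (.leaf (206, 0)) (.leaf (207, 0)))) (.node 1 (.leaf (208, 0)) (.node 1 (.leaf (206, 1)) (.leaf (207, 1)))))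
(.node 3 (.node 1 (.leaf (208, 1)) (.node 1 (.leaf (206, 2)) (.leaf (207, 2)))) (.node 1 (.leaf (208, 2)) (.node 1 (.leaf (206, 3)) (.leaf (207, 3))))))
(.node 6 (.node 3 (.node 1 (.leaf (208, 3)) (.node 1 (.leaf (206, 4)) (.leaf (207, 4)))) (.node 1 (.leaf (208, 4)) (.node 1 (.leaf (206, 5)) (.leaf (207, 5)))))
(.node 3 (.node 1 (.leaf (208, 5)) (.node 1 (.leaf (206, 6)) (.leaf (207, 6)))) (.node 1 (.leaf (208, 6)) (.node 1 (.leaf (206, 7)) (.leaf (208, 7)))))))
(.node 12 (.node 6 (.node 3 (.node 1 (.leaf (206, 8)) (.node 1 (.leaf (207, 8)) (.leaf (208, 8)))) (.node 1 (.leaf (206, 9)) (.node 1 (.leaf (207, 9)) (.leaf (208, 9)))))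
(.node 3 (.node 1 (.leaf (206, 10)) (.node 1 (.leaf (207, 10)) (.leaf (208, 10)))) (.node 1 (.leaf (206, 11)) (.node 1 (.leaf (207, 11)) (.leaf (208, 11))))))
(.node 6 (.node 3 (.node 1 (.leaf (206, 12)) (.node 1 (.leaf (207, 12)) (.leaf (207, 13)))) (.node 1 (.leaf (206, 14)) (.node 1 (.leaf (207, 14)) (.leaf (208, 14)))))
(.node 3 (.node 1 (.leaf (206, 15)) (.node 1 (.leaf (207, 15)) (.leaf (208, 15)))) (.node 1 (.leaf (206, 16)) (.node 1 (.leaf (208, 16)) (.leaf (207, 17))))))))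
(.node 24 (.node 12 (.node 6 (.node 3 (.node 1 (.leaf (208, 17)) (.node 1 (.leaf (206, 18)) (.leaf (207, 18)))) (.node 1 (.leaf (208, 18)) (.node 1 (.leaf (206, 19)) (.leaf (207, 19)))))
(.node 3 (.node 1 (.leaf (208, 19)) (.node 1 (.leaf (206, 20)) (.leaf (207, 20)))) (.node 1 (.leaf (208, 20)) (.node 1 (.leaf (207, 21)) (.leaf (206, 22))))))
(.node 6 (.node 3 (.node 1 (.leaf (208, 22)) (.node 1 (.leaf (206, 23)) (.leaf (207, 23)))) (.node 1 (.leaf (208, 23)) (.node 1 (.leaf (206, 25)) (.leaf (208, 25)))))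
(.node 3 (.node 1 (.leaf (206, 26)) (.node 1 (.leaf (207, 26)) (.leaf (208, 26)))) (.node 1 (.leaf (206, 27)) (.node 1 (.leaf (207, 27)) (.leaf (208, 27)))))))
(.node 12 (.node 6 (.node 3 (.node 1 (.leaf (206, 28)) (.node 1 (.leaf (208, 28)) (.leaf (206, 29)))) (.node 1 (.leaf (207, 29)) (.node 1 (.leaf (207, 30)) (.leaf (206, 31)))))
(.node 3 (.node 1 (.leaf (207, 31)) (.node 1 (.leaf (208, 31)) (.leaf (206, 32)))) (.node 1 (.leaf (207, 32)) (.node 1 (.leaf (206, 34)) (.leaf (207, 34))))))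
(.node 6 (.node 3 (.node 1 (.leaf (208, 34)) (.node 1 (.leaf (207, 35)) (.leaf (208, 35)))) (.node 1 (.leaf (206, 36)) (.node 1 (.leaf (207, 36)) (.leaf (208, 36)))))
(.node 3 (.node 1 (.leaf (206, 37)) (.node 1 (.leaf (207, 37)) (.leaf (208, 37)))) (.node 1 (.leaf (206, 38)) (.node 1 (.leaf (208, 38)) (.leaf (208, 39)))))))))
(.node 48 (.node 24 (.node 12 (.node 6 (.node 3 (.node 1 (.leaf (206, 41)) (.node 1 (.leaf (207, 41)) (.leaf (208, 41)))) (.node 1 (.leaf (206, 42)) (.node 1 (.leaf (207, 42)) (.leaf (208, 42)))))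
(.node 3 (.node 1 (.leaf (206, 43)) (.node 1 (.leaf (208, 43)) (.leaf (207, 44)))) (.node 1 (.leaf (206, 45)) (.node 1 (.leaf (208, 45)) (.leaf (206, 46))))))
(.node 6 (.node 3 (.node 1 (.leaf (208, 46)) (.node 1 (.leaf (206, 47)) (.leaf (208, 47)))) (.node 1 (.leaf (207, 48)) (.node 1 (.leaf (206, 49)) (.leaf (208, 49)))))
(.node 3 (.node 1 (.leaf (206, 50)) (.node 1 (.leaf (208, 50)) (.leaf (206, 51)))) (.node 1 (.leaf (207, 51)) (.node 1 (.leaf (206, 53)) (.leaf (208, 53)))))))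
(.node 12 (.node 6 (.node 3 (.node 1 (.leaf (207, 54)) (.node 1 (.leaf (206, 56)) (.leaf (207, 56)))) (.node 1 (.leaf (208, 56)) (.node 1 (.leaf (207, 57)) (.leaf (208, 57)))))
(.node 3 (.node 1 (.leaf (206, 58)) (.node 1 (.leaf (208, 58)) (.leaf (206, 60)))) (.node 1 (.leaf (207, 60)) (.node 1 (.leaf (208, 60)) (.leaf (207, 61))))))
(.node 6 (.node 3 (.node 1 (.leaf (207, 62)) (.node 1 (.leaf (207, 63)) (.leaf (206, 66)))) (.node 1 (.leaf (207, 66)) (.node 1 (.leaf (208, 66)) (.leaf (207, 68)))))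
(.node 3 (.node 1 (.leaf (206, 70)) (.node 1 (.leaf (207, 70)) (.leaf (208, 70)))) (.node 1 (.leaf (206, 71)) (.node 1 (.leaf (207, 71)) (.leaf (207, 73))))))))
(.node 24 (.node 12 (.node 6 (.node 3 (.node 1 (.leaf (208, 73)) (.node 1 (.leaf (206, 74)) (.leaf (207, 74)))) (.node 1 (.leaf (208, 74)) (.node 1 (.leaf (207, 75)) (.leaf (208, 75)))))
(.node 3 (.node 1 (.leaf (206, 76)) (.node 1 (.leaf (207, 76)) (.leaf (208, 76)))) (.node 1 (.leaf (206, 77)) (.node 1 (.leaf (207, 78)) (.leaf (206, 79))))))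
(.node 6 (.node 3 (.node 1 (.leaf (207, 79)) (.node 1 (.leaf (208, 79)) (.leaf (207, 80)))) (.node 1 (.leaf (207, 81)) (.node 1 (.leaf (206, 83)) (.leaf (208, 83)))))
(.node 3 (.node 1 (.leaf (207, 84)) (.node 1 (.leaf (208, 85)) (.leaf (206, 86)))) (.node 1 (.leaf (207, 87)) (.node 1 (.leaf (206, 91)) (.leaf (207, 91)))))))
(.node 12 (.node 6 (.node 3 (.node 1 (.leaf (208, 91)) (.node 1 (.leaf (208, 93)) (.leaf (207, 94)))) (.node 1 (.leaf (206, 96)) (.node 1 (.leaf (208, 96)) (.leaf (207, 98)))))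
(.node 3 (.node 1 (.leaf (206, 100)) (.node 1 (.leaf (208, 100)) (.leaf (207, 103)))) (.node 1 (.leaf (208, 103)) (.node 1 (.leaf (207, 108)) (.leaf (208, 115))))))
(.node 6 (.node 3 (.node 1 (.leaf (207, 117)) (.node 1 (.leaf (206, 118)) (.leaf (206, 119)))) (.node 1 (.leaf (208, 119)) (.node 1 (.leaf (207, 120)) (.leaf (207, 123)))))
(.node 3 (.node 1 (.leaf (207, 128)) (.node 1 (.leaf (208, 128)) (.leaf (207, 130)))) (.node 1 (.leaf (208, 133)) (.node 1 (.leaf (207, 136)) (.leaf (208, 137))))))))))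

/-- The node. -/
def caseAFullN24Node : NodeD := ⟨24, 192, caseAFullN24Els, caseAFullN24Ix, caseAFullN24How, fun b => bif b then (.node 7 (.node 3 (.node 1 (.leaf 433) (.node 1 (.leaf 435) (.leaf 434)))
(.node 2 (.node 1 (.leaf 438) (.leaf 437)) (.node 1 (.leaf 436) (.leaf 304))))
(.node 3 (.node 1 (.leaf 307) (.node 1 (.leaf 306) (.leaf 303)))
(.node 2 (.node 1 (.leaf 308) (.leaf 305)) (.node 1 (.leaf 302) (.leaf 309))))) else (.node 7 (.node 3 (.node 1 (.leaf 430) (.node 1 (.leaf 427) (.leaf 424)))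
(.node 2 (.node 1 (.leaf 422) (.leaf 425)) (.node 1 (.leaf 423) (.leaf 195))))
(.node 3 (.node 1 (.leaf 429) (.node 1 (.leaf 421) (.leaf 420)))
(.node 2 (.node 1 (.leaf 426) (.leaf 428)) (.node 1 (.leaf 431) (.leaf 432)))))⟩

/-- The stabiliser. -/
def caseAFullN38Els : Tab ℕ :=
(.node 84 (.node 42 (.node 21 (.node 10 (.node 5 (.node 2 (.node 1 (.leaf 17043521) (.leaf 17584193)) (.node 1 (.leaf 17786945) (.node 1 (.leaf 17524801) (.leaf 7098433))))
(.node 2 (.node 1 (.leaf 17770561) (.leaf 16984129)) (.node 1 (.leaf 23334977) (.node 1 (.leaf 17246273) (.leaf 17510465)))))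
(.node 5 (.node 2 (.node 1 (.leaf 17051713) (.leaf 25634881)) (.node 1 (.leaf 17764417) (.node 1 (.leaf 25372737) (.leaf 7292993))))
(.node 3 (.node 1 (.leaf 6582337) (.node 1 (.leaf 6844481) (.leaf 24070209))) (.node 1 (.leaf 17262657) (.node 1 (.leaf 16986177) (.leaf 17576001))))))
(.node 10 (.node 5 (.node 2 (.node 1 (.leaf 8874049) (.leaf 17780801)) (.node 1 (.leaf 9136193) (.node 1 (.leaf 23883841) (.leaf 23621697))))
(.node 2 (.node 1 (.leaf 17526849) (.leaf 17592385)) (.node 1 (.leaf 9398337) (.node 1 (.leaf 17002561) (.leaf 14905409)))))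
(.node 5 (.node 2 (.node 1 (.leaf 15495233) (.leaf 25905217)) (.node 1 (.leaf 26169409) (.node 1 (.leaf 25710657) (.leaf 9128001))))
(.node 3 (.node 1 (.leaf 17256513) (.node 1 (.leaf 6770753) (.leaf 26167361))) (.node 1 (.leaf 25915457) (.node 1 (.leaf 25718849) (.leaf 9390145)))))))
(.node 21 (.node 10 (.node 5 (.node 2 (.node 1 (.leaf 6580289) (.leaf 7039041)) (.node 1 (.leaf 6776897) (.node 1 (.leaf 6828097) (.leaf 7090241))))
(.node 2 (.node 1 (.leaf 31942721) (.leaf 6574145)) (.node 1 (.leaf 32204865) (.node 1 (.leaf 23865409) (.leaf 23275585)))))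
(.node 5 (.node 2 (.node 1 (.leaf 17068097) (.leaf 26159169)) (.node 1 (.leaf 15429697) (.node 1 (.leaf 14970945) (.leaf 8603713))))
(.node 3 (.node 1 (.leaf 9375809) (.node 1 (.leaf 8917057) (.leaf 25380929))) (.node 1 (.leaf 17240129) (.node 1 (.leaf 23531585) (.leaf 8613953))))))
(.node 10 (.node 5 (.node 2 (.node 1 (.leaf 8941633) (.leaf 23537729)) (.node 1 (.leaf 23605313) (.node 1 (.leaf 23343169) (.leaf 31926337))))
(.node 2 (.node 1 (.leaf 23859265) (.leaf 31664193)) (.node 1 (.leaf 17567809) (.node 1 (.leaf 31666241) (.leaf 17508417)))))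
(.node 5 (.node 2 (.node 1 (.leaf 31731777) (.leaf 8867905)) (.node 1 (.leaf 8933441) (.node 1 (.leaf 17059905) (.leaf 32190529))))
(.node 3 (.node 1 (.leaf 14960705) (.node 1 (.leaf 15411265) (.leaf 15214657))) (.node 1 (.leaf 31737921) (.node 1 (.leaf 15419457) (.leaf 14962753))))))))
(.node 42 (.node 21 (.node 10 (.node 5 (.node 2 (.node 1 (.leaf 15224897) (.leaf 32196673)) (.node 1 (.leaf 26161217) (.node 1 (.leaf 25440321) (.leaf 25374785))))
(.node 2 (.node 1 (.leaf 25694273) (.leaf 25628737)) (.node 1 (.leaf 23277633) (.node 1 (.leaf 8876097) (.leaf 9203777)))))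
(.node 5 (.node 2 (.node 1 (.leaf 24055873) (.leaf 6572097)) (.node 1 (.leaf 7284801) (.node 1 (.leaf 6826049) (.leaf 23349313))))
(.node 3 (.node 1 (.leaf 25890881) (.node 1 (.leaf 25432129) (.leaf 25702465))) (.node 1 (.leaf 31920193) (.node 1 (.leaf 25897025) (.leaf 31723585))))))
(.node 10 (.node 5 (.node 2 (.node 1 (.leaf 8605761) (.leaf 9195585)) (.node 1 (.leaf 6778945) (.node 1 (.leaf 7024705) (.leaf 7286849))))
(.node 2 (.node 1 (.leaf 25653313) (.leaf 25456705)) (.node 1 (.leaf 7022657) (.node 1 (.leaf 15673409) (.leaf 31985729)))))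
(.node 5 (.node 2 (.node 1 (.leaf 31672385) (.leaf 6768705)) (.node 1 (.leaf 23545921) (.node 1 (.leaf 31991873) (.leaf 23556161))))
(.node 3 (.node 1 (.leaf 24064065) (.node 1 (.leaf 23873601) (.leaf 17000513))) (.node 1 (.leaf 32256065) (.node 1 (.leaf 15484993) (.leaf 14903361)))))))
(.node 21 (.node 10 (.node 5 (.node 2 (.node 1 (.leaf 15231041) (.leaf 32262209)) (.node 1 (.leaf 14895169) (.node 1 (.leaf 15470657) (.leaf 15208513))))
(.node 2 (.node 1 (.leaf 9384001) (.leaf 9187393)) (.node 1 (.leaf 9121857) (.node 1 (.leaf 7295041) (.leaf 24078401)))))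
(.node 5 (.node 2 (.node 1 (.leaf 23619649) (.leaf 7096385)) (.node 1 (.leaf 8925249) (.node 1 (.leaf 31936577) (.leaf 8611905))))
(.node 3 (.node 1 (.leaf 32264257) (.node 1 (.leaf 23291969) (.leaf 15689793))) (.node 1 (.leaf 32002113) (.node 1 (.leaf 32008257) (.leaf 23294017))))))
(.node 10 (.node 5 (.node 2 (.node 1 (.leaf 15405121) (.leaf 15667265)) (.node 1 (.leaf 9179201) (.node 1 (.leaf 31674433) (.leaf 14968897))))
(.node 2 (.node 1 (.leaf 32254017) (.leaf 25382977)) (.node 1 (.leaf 14897217) (.node 1 (.leaf 15683649) (.leaf 7041089)))))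
(.node 5 (.node 2 (.node 1 (.leaf 9113665) (.leaf 8865857)) (.node 1 (.leaf 23603265) (.node 1 (.leaf 6842433) (.leaf 25448513))))
(.node 3 (.node 1 (.leaf 25643073) (.node 1 (.leaf 7088193) (.leaf 31746113))) (.node 1 (.leaf 15476801) (.node 1 (.leaf 32182337) (.leaf 23357505)))))))))

/-- Its index. -/
def caseAFullN38Ix : BT ℕ :=
(.node 17508417 72
(.node 9195585 106
(.node 7286849 109
(.node 6842433 160
(.node 6770753 37
(.node 6580289 42 (.node 6574145 48 (.node 6572097 95 .tip .tip) .tip) (.node 6768705 116 (.node 6582337 15 .tip .tip) .tip))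
(.node 6826049 97 (.node 6778945 107 (.node 6776897 44 .tip .tip) .tip) (.node 6828097 45 .tip .tip)))
(.node 7088193 163
(.node 7024705 108 (.node 7022657 112 (.node 6844481 16 .tip .tip) .tip) (.node 7041089 156 (.node 7039041 43 .tip .tip) .tip))
(.node 7098433 4 (.node 7096385 137 (.node 7090241 46 .tip .tip) .tip) (.node 7284801 96 .tip .tip))))
(.node 8917057 58
(.node 8613953 62
(.node 8603713 56 (.node 7295041 134 (.node 7292993 14 .tip .tip) .tip) (.node 8611905 140 (.node 8605761 105 .tip .tip) .tip))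
(.node 8874049 21 (.node 8867905 74 (.node 8865857 158 .tip .tip) .tip) (.node 8876097 92 .tip .tip)))
(.node 9121857 133
(.node 8941633 63 (.node 8933441 75 (.node 8925249 138 .tip .tip) .tip) (.node 9113665 157 .tip .tip))
(.node 9179201 149 (.node 9136193 23 (.node 9128001 35 .tip .tip) .tip) (.node 9187393 132 .tip .tip)))))
(.node 15429697 54
(.node 14962753 83
(.node 14895169 128
(.node 9384001 131 (.node 9375809 57 (.node 9203777 93 .tip .tip) .tip) (.node 9398337 28 (.node 9390145 41 .tip .tip) .tip))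
(.node 14905409 30 (.node 14903361 125 (.node 14897217 154 .tip .tip) .tip) (.node 14960705 78 .tip .tip)))
(.node 15224897 84
(.node 15208513 130 (.node 14970945 55 (.node 14968897 151 .tip .tip) .tip) (.node 15214657 80 .tip .tip))
(.node 15411265 79 (.node 15405121 147 (.node 15231041 126 .tip .tip) .tip) (.node 15419457 82 .tip .tip))))
(.node 17000513 122
(.node 15673409 113
(.node 15484993 124 (.node 15476801 165 (.node 15470657 129 .tip .tip) .tip) (.node 15667265 148 (.node 15495233 31 .tip .tip) .tip))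
(.node 16984129 6 (.node 15689793 143 (.node 15683649 155 .tip .tip) .tip) (.node 16986177 19 .tip .tip)))
(.node 17068097 52
(.node 17051713 10 (.node 17043521 0 (.node 17002561 29 .tip .tip) .tip) (.node 17059905 76 .tip .tip))
(.node 17256513 36 (.node 17246273 8 (.node 17240129 60 .tip .tip) .tip) (.node 17262657 18 .tip .tip))))))
(.node 25448513 161
(.node 23537729 64
(.node 17786945 2
(.node 17584193 1
(.node 17526849 26 (.node 17524801 3 (.node 17510465 9 .tip .tip) .tip) (.node 17576001 20 (.node 17567809 70 .tip .tip) .tip))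
(.node 17770561 5 (.node 17764417 12 (.node 17592385 27 .tip .tip) .tip) (.node 17780801 22 .tip .tip)))
(.node 23334977 7
(.node 23291969 142 (.node 23277633 91 (.node 23275585 51 .tip .tip) .tip) (.node 23294017 146 .tip .tip))
(.node 23357505 167 (.node 23349313 98 (.node 23343169 66 .tip .tip) .tip) (.node 23531585 61 .tip .tip))))
(.node 24055873 94
(.node 23621697 25
(.node 23603265 159 (.node 23556161 119 (.node 23545921 117 .tip .tip) .tip) (.node 23619649 136 (.node 23605313 65 .tip .tip) .tip))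
(.node 23873601 121 (.node 23865409 50 (.node 23859265 68 .tip .tip) .tip) (.node 23883841 24 .tip .tip)))
(.node 25374785 88
(.node 24078401 135 (.node 24070209 17 (.node 24064065 120 .tip .tip) .tip) (.node 25372737 13 .tip .tip))
(.node 25432129 100 (.node 25382977 153 (.node 25380929 59 .tip .tip) .tip) (.node 25440321 87 .tip .tip)))))
(.node 31674433 150
(.node 25897025 103
(.node 25694273 89
(.node 25634881 11 (.node 25628737 90 (.node 25456705 111 .tip .tip) .tip) (.node 25653313 110 (.node 25643073 162 .tip .tip) .tip))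
(.node 25718849 40 (.node 25710657 34 (.node 25702465 101 .tip .tip) .tip) (.node 25890881 99 .tip .tip)))
(.node 26167361 38
(.node 26159169 53 (.node 25915457 39 (.node 25905217 32 .tip .tip) .tip) (.node 26161217 86 .tip .tip))
(.node 31666241 71 (.node 31664193 69 (.node 26169409 33 .tip .tip) .tip) (.node 31672385 115 .tip .tip))))
(.node 32002113 144
(.node 31926337 67
(.node 31737921 81 (.node 31731777 73 (.node 31723585 104 .tip .tip) .tip) (.node 31920193 102 (.node 31746113 164 .tip .tip) .tip))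
(.node 31985729 114 (.node 31942721 47 (.node 31936577 139 .tip .tip) .tip) (.node 31991873 118 .tip .tip)))
(.node 32204865 49
(.node 32190529 77 (.node 32182337 166 (.node 32008257 145 .tip .tip) .tip) (.node 32196673 85 .tip .tip))
(.node 32262209 127 (.node 32256065 123 (.node 32254017 152 .tip .tip) .tip) (.node 32264257 141 .tip .tip)))))))

/-- The reasons. -/
def caseAFullN38How : Tab (ℕ × ℕ) :=
(.node 84 (.node 42 (.node 21 (.node 10 (.node 5 (.node 2 (.node 1 (.leaf (0, 0)) (.leaf (289, 0))) (.node 1 (.leaf (290, 0)) (.node 1 (.leaf (291, 0)) (.leaf (311, 0)))))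
(.node 2 (.node 1 (.leaf (290, 1)) (.leaf (291, 1))) (.node 1 (.leaf (311, 1)) (.node 1 (.leaf (289, 2)) (.leaf (290, 2))))))
(.node 5 (.node 2 (.node 1 (.leaf (291, 2)) (.leaf (311, 2))) (.node 1 (.leaf (290, 3)) (.node 1 (.leaf (311, 3)) (.leaf (289, 4)))))
(.node 3 (.node 1 (.leaf (290, 4)) (.node 1 (.leaf (291, 4)) (.leaf (311, 4)))) (.node 1 (.leaf (289, 5)) (.node 1 (.leaf (290, 5)) (.leaf (291, 5)))))))
(.node 10 (.node 5 (.node 2 (.node 1 (.leaf (311, 5)) (.leaf (290, 6))) (.node 1 (.leaf (311, 6)) (.node 1 (.leaf (290, 7)) (.leaf (291, 7)))))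
(.node 2 (.node 1 (.leaf (290, 8)) (.leaf (291, 8))) (.node 1 (.leaf (311, 8)) (.node 1 (.leaf (289, 9)) (.leaf (311, 9))))))
(.node 5 (.node 2 (.node 1 (.leaf (311, 10)) (.leaf (289, 11))) (.node 1 (.leaf (290, 11)) (.node 1 (.leaf (291, 11)) (.leaf (311, 11)))))
(.node 3 (.node 1 (.leaf (289, 12)) (.node 1 (.leaf (311, 12)) (.leaf (289, 13)))) (.node 1 (.leaf (290, 13)) (.node 1 (.leaf (291, 13)) (.leaf (311, 13))))))))
(.node 21 (.node 10 (.node 5 (.node 2 (.node 1 (.leaf (290, 14)) (.leaf (291, 14))) (.node 1 (.leaf (289, 15)) (.node 1 (.leaf (290, 15)) (.leaf (291, 15)))))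
(.node 2 (.node 1 (.leaf (311, 15)) (.leaf (290, 16))) (.node 1 (.leaf (311, 16)) (.node 1 (.leaf (290, 17)) (.leaf (291, 17))))))
(.node 5 (.node 2 (.node 1 (.leaf (291, 18)) (.leaf (311, 18))) (.node 1 (.leaf (311, 19)) (.node 1 (.leaf (311, 20)) (.leaf (289, 21)))))
(.node 3 (.node 1 (.leaf (290, 21)) (.node 1 (.leaf (291, 21)) (.leaf (311, 21)))) (.node 1 (.leaf (289, 22)) (.node 1 (.leaf (311, 22)) (.leaf (290, 23)))))))
(.node 10 (.node 5 (.node 2 (.node 1 (.leaf (291, 23)) (.leaf (289, 24))) (.node 1 (.leaf (290, 24)) (.node 1 (.leaf (291, 24)) (.leaf (311, 24)))))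
(.node 2 (.node 1 (.leaf (290, 25)) (.leaf (311, 25))) (.node 1 (.leaf (290, 26)) (.node 1 (.leaf (311, 26)) (.leaf (290, 27))))))
(.node 5 (.node 2 (.node 1 (.leaf (311, 27)) (.leaf (290, 28))) (.node 1 (.leaf (291, 28)) (.node 1 (.leaf (290, 29)) (.leaf (311, 29)))))
(.node 3 (.node 1 (.leaf (289, 30)) (.node 1 (.leaf (290, 30)) (.leaf (291, 30)))) (.node 1 (.leaf (311, 30)) (.node 1 (.leaf (289, 31)) (.leaf (290, 31)))))))))
(.node 42 (.node 21 (.node 10 (.node 5 (.node 2 (.node 1 (.leaf (291, 31)) (.leaf (311, 31))) (.node 1 (.leaf (290, 32)) (.node 1 (.leaf (291, 32)) (.leaf (289, 33)))))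
(.node 2 (.node 1 (.leaf (290, 33)) (.leaf (291, 33))) (.node 1 (.leaf (311, 33)) (.node 1 (.leaf (290, 35)) (.leaf (291, 35))))))
(.node 5 (.node 2 (.node 1 (.leaf (311, 36)) (.leaf (289, 37))) (.node 1 (.leaf (290, 37)) (.node 1 (.leaf (291, 37)) (.leaf (311, 37)))))
(.node 3 (.node 1 (.leaf (290, 38)) (.node 1 (.leaf (291, 38)) (.leaf (290, 39)))) (.node 1 (.leaf (311, 39)) (.node 1 (.leaf (290, 40)) (.leaf (311, 40)))))))
(.node 10 (.node 5 (.node 2 (.node 1 (.leaf (290, 41)) (.leaf (291, 41))) (.node 1 (.leaf (289, 42)) (.node 1 (.leaf (290, 42)) (.leaf (291, 42)))))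
(.node 2 (.node 1 (.leaf (311, 42)) (.leaf (311, 44))) (.node 1 (.leaf (289, 45)) (.node 1 (.leaf (311, 46)) (.leaf (289, 47))))))
(.node 5 (.node 2 (.node 1 (.leaf (291, 47)) (.leaf (289, 48))) (.node 1 (.leaf (311, 48)) (.node 1 (.leaf (290, 49)) (.leaf (289, 50)))))
(.node 3 (.node 1 (.leaf (291, 50)) (.node 1 (.leaf (290, 51)) (.leaf (290, 52)))) (.node 1 (.leaf (311, 52)) (.node 1 (.leaf (289, 54)) (.leaf (290, 54))))))))
(.node 21 (.node 10 (.node 5 (.node 2 (.node 1 (.leaf (291, 54)) (.leaf (311, 54))) (.node 1 (.leaf (289, 55)) (.node 1 (.leaf (290, 55)) (.leaf (291, 55)))))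
(.node 2 (.node 1 (.leaf (290, 56)) (.leaf (291, 56))) (.node 1 (.leaf (289, 57)) (.node 1 (.leaf (311, 60)) (.leaf (290, 61))))))
(.node 5 (.node 2 (.node 1 (.leaf (291, 61)) (.leaf (311, 61))) (.node 1 (.leaf (290, 62)) (.node 1 (.leaf (311, 62)) (.leaf (290, 63)))))
(.node 3 (.node 1 (.leaf (311, 63)) (.node 1 (.leaf (289, 65)) (.leaf (311, 66)))) (.node 1 (.leaf (289, 67)) (.node 1 (.leaf (290, 69)) (.leaf (311, 74)))))))
(.node 10 (.node 5 (.node 2 (.node 1 (.leaf (290, 78)) (.leaf (291, 78))) (.node 1 (.leaf (311, 79)) (.node 1 (.leaf (290, 81)) (.leaf (290, 82)))))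
(.node 2 (.node 1 (.leaf (290, 85)) (.leaf (289, 86))) (.node 1 (.leaf (311, 86)) (.node 1 (.leaf (311, 88)) (.leaf (311, 90))))))
(.node 5 (.node 2 (.node 1 (.leaf (291, 92)) (.leaf (290, 93))) (.node 1 (.leaf (291, 94)) (.node 1 (.leaf (290, 96)) (.leaf (289, 101)))))
(.node 3 (.node 1 (.leaf (289, 103)) (.node 1 (.leaf (291, 107)) (.leaf (311, 107)))) (.node 1 (.leaf (311, 109)) (.node 1 (.leaf (311, 110)) (.leaf (290, 117))))))))))

/-- The node. -/
def caseAFullN38Node : NodeD := ⟨38, 168, caseAFullN38Els, caseAFullN38Ix, caseAFullN38How, fun b => bif b then (.node 7 (.node 3 (.node 1 (.leaf 446) (.node 1 (.leaf 453) (.leaf 448)))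
(.node 2 (.node 1 (.leaf 458) (.leaf 456)) (.node 1 (.leaf 454) (.leaf 455))))
(.node 3 (.node 1 (.leaf 449) (.node 1 (.leaf 459) (.leaf 450)))
(.node 2 (.node 1 (.leaf 457) (.leaf 452)) (.node 1 (.leaf 447) (.leaf 451))))) else (.node 7 (.node 3 (.node 1 (.leaf 444) (.node 1 (.leaf 313) (.leaf 316)))
(.node 2 (.node 1 (.leaf 440) (.leaf 441)) (.node 1 (.leaf 314) (.leaf 278))))
(.node 3 (.node 1 (.leaf 443) (.node 1 (.leaf 439) (.leaf 312)))
(.node 2 (.node 1 (.leaf 315) (.leaf 442)) (.node 1 (.leaf 445) (.leaf 317)))))⟩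

/-- The inverse action. -/
def caseAFullInv0LL : Tab ℕ :=
(.node 192 (.node 96 (.node 48 (.node 24 (.node 12 (.node 6 (.node 3 (.node 1 (.leaf 0) (.node 1 (.leaf 631) (.leaf 434))) (.node 1 (.leaf 270) (.node 1 (.leaf 134) (.leaf 913))))
(.node 3 (.node 1 (.leaf 178) (.node 1 (.leaf 1444) (.leaf 12))) (.node 1 (.leaf 579) (.node 1 (.leaf 692) (.leaf 227)))))
(.node 6 (.node 3 (.node 1 (.leaf 8) (.node 1 (.leaf 993) (.leaf 1197))) (.node 1 (.leaf 271) (.node 1 (.leaf 1022) (.leaf 206))))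
(.node 3 (.node 1 (.leaf 1165) (.node 1 (.leaf 98) (.leaf 626))) (.node 1 (.leaf 904) (.node 1 (.leaf 1242) (.leaf 588))))))
(.node 12 (.node 6 (.node 3 (.node 1 (.leaf 1161) (.node 1 (.leaf 685) (.leaf 1459))) (.node 1 (.leaf 1388) (.node 1 (.leaf 446) (.leaf 1527))))
(.node 3 (.node 1 (.leaf 466) (.node 1 (.leaf 797) (.leaf 1190))) (.node 1 (.leaf 610) (.node 1 (.leaf 931) (.leaf 674)))))
(.node 6 (.node 3 (.node 1 (.leaf 729) (.node 1 (.leaf 279) (.leaf 34))) (.node 1 (.leaf 828) (.node 1 (.leaf 513) (.leaf 688))))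
(.node 3 (.node 1 (.leaf 1318) (.node 1 (.leaf 786) (.leaf 18))) (.node 1 (.leaf 220) (.node 1 (.leaf 1512) (.leaf 968)))))))
(.node 24 (.node 12 (.node 6 (.node 3 (.node 1 (.leaf 820) (.node 1 (.leaf 245) (.leaf 1122))) (.node 1 (.leaf 1314) (.node 1 (.leaf 932) (.leaf 522))))
(.node 3 (.node 1 (.leaf 619) (.node 1 (.leaf 1018) (.leaf 11))) (.node 1 (.leaf 1128) (.node 1 (.leaf 1040) (.leaf 310)))))
(.node 6 (.node 3 (.node 1 (.leaf 777) (.node 1 (.leaf 1149) (.leaf 350))) (.node 1 (.leaf 988) (.node 1 (.leaf 582) (.leaf 1114))))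
(.node 3 (.node 1 (.leaf 871) (.node 1 (.leaf 1097) (.leaf 501))) (.node 1 (.leaf 59) (.node 1 (.leaf 380) (.leaf 71))))))
(.node 12 (.node 6 (.node 3 (.node 1 (.leaf 1350) (.node 1 (.leaf 401) (.leaf 1408))) (.node 1 (.leaf 518) (.node 1 (.leaf 512) (.leaf 552))))
(.node 3 (.node 1 (.leaf 806) (.node 1 (.leaf 708) (.leaf 1188))) (.node 1 (.leaf 81) (.node 1 (.leaf 148) (.leaf 921)))))
(.node 6 (.node 3 (.node 1 (.leaf 46) (.node 1 (.leaf 603) (.leaf 888))) (.node 1 (.leaf 1428) (.node 1 (.leaf 1389) (.leaf 954))))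
(.node 3 (.node 1 (.leaf 48) (.node 1 (.leaf 1284) (.leaf 573))) (.node 1 (.leaf 226) (.node 1 (.leaf 1317) (.leaf 346))))))))
(.node 48 (.node 24 (.node 12 (.node 6 (.node 3 (.node 1 (.leaf 1522) (.node 1 (.leaf 716) (.leaf 182))) (.node 1 (.leaf 421) (.node 1 (.leaf 973) (.leaf 1099))))
(.node 3 (.node 1 (.leaf 1153) (.node 1 (.leaf 433) (.leaf 278))) (.node 1 (.leaf 264) (.node 1 (.leaf 411) (.leaf 103)))))
(.node 6 (.node 3 (.node 1 (.leaf 679) (.node 1 (.leaf 1070) (.leaf 145))) (.node 1 (.leaf 1290) (.node 1 (.leaf 623) (.leaf 1210))))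
(.node 3 (.node 1 (.leaf 35) (.node 1 (.leaf 1221) (.leaf 1307))) (.node 1 (.leaf 293) (.node 1 (.leaf 1332) (.leaf 348))))))
(.node 12 (.node 6 (.node 3 (.node 1 (.leaf 601) (.node 1 (.leaf 792) (.leaf 1404))) (.node 1 (.leaf 1414) (.node 1 (.leaf 1009) (.leaf 1199))))
(.node 3 (.node 1 (.leaf 114) (.node 1 (.leaf 1246) (.leaf 880))) (.node 1 (.leaf 575) (.node 1 (.leaf 107) (.leaf 1064)))))
(.node 6 (.node 3 (.node 1 (.leaf 1083) (.node 1 (.leaf 1207) (.leaf 569))) (.node 1 (.leaf 763) (.node 1 (.leaf 1124) (.leaf 412))))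
(.node 3 (.node 1 (.leaf 926) (.node 1 (.leaf 1053) (.leaf 698))) (.node 1 (.leaf 497) (.node 1 (.leaf 1286) (.leaf 914)))))))
(.node 24 (.node 12 (.node 6 (.node 3 (.node 1 (.leaf 1386) (.node 1 (.leaf 1019) (.leaf 1005))) (.node 1 (.leaf 254) (.node 1 (.leaf 1494) (.leaf 287))))
(.node 3 (.node 1 (.leaf 804) (.node 1 (.leaf 327) (.leaf 1452))) (.node 1 (.leaf 1466) (.node 1 (.leaf 780) (.leaf 204)))))
(.node 6 (.node 3 (.node 1 (.leaf 167) (.node 1 (.leaf 724) (.leaf 1082))) (.node 1 (.leaf 33) (.node 1 (.leaf 1016) (.leaf 596))))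
(.node 3 (.node 1 (.leaf 671) (.node 1 (.leaf 906) (.leaf 1322))) (.node 1 (.leaf 9) (.node 1 (.leaf 749) (.leaf 858))))))
(.node 12 (.node 6 (.node 3 (.node 1 (.leaf 945) (.node 1 (.leaf 897) (.leaf 1287))) (.node 1 (.leaf 1211) (.node 1 (.leaf 416) (.leaf 545))))
(.node 3 (.node 1 (.leaf 311) (.node 1 (.leaf 408) (.leaf 362))) (.node 1 (.leaf 656) (.node 1 (.leaf 385) (.leaf 442)))))
(.node 6 (.node 3 (.node 1 (.leaf 1129) (.node 1 (.leaf 329) (.leaf 1088))) (.node 1 (.leaf 159) (.node 1 (.leaf 450) (.leaf 1337))))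
(.node 3 (.node 1 (.leaf 1468) (.node 1 (.leaf 615) (.leaf 1250))) (.node 1 (.leaf 1120) (.node 1 (.leaf 113) (.leaf 1372)))))))))
(.node 96 (.node 48 (.node 24 (.node 12 (.node 6 (.node 3 (.node 1 (.leaf 84) (.node 1 (.leaf 467) (.leaf 128))) (.node 1 (.leaf 639) (.node 1 (.leaf 816) (.leaf 798))))
(.node 3 (.node 1 (.leaf 3) (.node 1 (.leaf 695) (.leaf 1361))) (.node 1 (.leaf 813) (.node 1 (.leaf 54) (.leaf 1499)))))
(.node 6 (.node 3 (.node 1 (.leaf 212) (.node 1 (.leaf 1420) (.leaf 402))) (.node 1 (.leaf 694) (.node 1 (.leaf 519) (.leaf 1478))))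
(.node 3 (.node 1 (.leaf 93) (.node 1 (.leaf 1104) (.leaf 982))) (.node 1 (.leaf 146) (.node 1 (.leaf 505) (.leaf 1380))))))
(.node 12 (.node 6 (.node 3 (.node 1 (.leaf 1036) (.node 1 (.leaf 1191) (.leaf 928))) (.node 1 (.leaf 1071) (.node 1 (.leaf 774) (.leaf 818))))
(.node 3 (.node 1 (.leaf 665) (.node 1 (.leaf 1299) (.leaf 551))) (.node 1 (.leaf 296) (.node 1 (.leaf 528) (.leaf 1498)))))
(.node 6 (.node 3 (.node 1 (.leaf 554) (.node 1 (.leaf 877) (.leaf 430))) (.node 1 (.leaf 1203) (.node 1 (.leaf 620) (.leaf 925))))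
(.node 3 (.node 1 (.leaf 667) (.node 1 (.leaf 257) (.leaf 1308))) (.node 1 (.leaf 1146) (.node 1 (.leaf 169) (.leaf 1441)))))))
(.node 24 (.node 12 (.node 6 (.node 3 (.node 1 (.leaf 137) (.node 1 (.leaf 842) (.leaf 1186))) (.node 1 (.leaf 1355) (.node 1 (.leaf 1147) (.leaf 49))))
(.node 3 (.node 1 (.leaf 809) (.node 1 (.leaf 765) (.leaf 392))) (.node 1 (.leaf 1119) (.node 1 (.leaf 171) (.leaf 1010)))))
(.node 6 (.node 3 (.node 1 (.leaf 824) (.node 1 (.leaf 769) (.leaf 1025))) (.node 1 (.leaf 426) (.node 1 (.leaf 283) (.leaf 1315))))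
(.node 3 (.node 1 (.leaf 717) (.node 1 (.leaf 742) (.leaf 1259))) (.node 1 (.leaf 461) (.node 1 (.leaf 1245) (.leaf 1062))))))
(.node 12 (.node 6 (.node 3 (.node 1 (.leaf 723) (.node 1 (.leaf 451) (.leaf 1216))) (.node 1 (.leaf 1302) (.node 1 (.leaf 485) (.leaf 541))))
(.node 3 (.node 1 (.leaf 1505) (.node 1 (.leaf 889) (.leaf 992))) (.node 1 (.leaf 905) (.node 1 (.leaf 1412) (.leaf 366)))))
(.node 6 (.node 3 (.node 1 (.leaf 644) (.node 1 (.leaf 1467) (.leaf 830))) (.node 1 (.leaf 543) (.node 1 (.leaf 1443) (.leaf 627))))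
(.node 3 (.node 1 (.leaf 964) (.node 1 (.leaf 20) (.leaf 478))) (.node 1 (.leaf 1222) (.node 1 (.leaf 645) (.leaf 943))))))))
(.node 48 (.node 24 (.node 12 (.node 6 (.node 3 (.node 1 (.leaf 511) (.node 1 (.leaf 1525) (.leaf 156))) (.node 1 (.leaf 491) (.node 1 (.leaf 1377) (.leaf 1392))))
(.node 3 (.node 1 (.leaf 1417) (.node 1 (.leaf 1373) (.leaf 907))) (.node 1 (.leaf 386) (.node 1 (.leaf 51) (.leaf 315)))))
(.node 6 (.node 3 (.node 1 (.leaf 827) (.node 1 (.leaf 810) (.leaf 1049))) (.node 1 (.leaf 328) (.node 1 (.leaf 249) (.leaf 632))))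
(.node 3 (.node 1 (.leaf 490) (.node 1 (.leaf 606) (.leaf 72))) (.node 1 (.leaf 775) (.node 1 (.leaf 1504) (.leaf 1375))))))
(.node 12 (.node 6 (.node 3 (.node 1 (.leaf 1008) (.node 1 (.leaf 94) (.leaf 1160))) (.node 1 (.leaf 299) (.node 1 (.leaf 119) (.leaf 611))))
(.node 3 (.node 1 (.leaf 747) (.node 1 (.leaf 240) (.leaf 896))) (.node 1 (.leaf 1243) (.node 1 (.leaf 1042) (.leaf 649)))))
(.node 6 (.node 3 (.node 1 (.leaf 139) (.node 1 (.leaf 1201) (.leaf 67))) (.node 1 (.leaf 1121) (.node 1 (.leaf 1046) (.leaf 1091))))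
(.node 3 (.node 1 (.leaf 1312) (.node 1 (.leaf 80) (.leaf 231))) (.node 1 (.leaf 1435) (.node 1 (.leaf 162) (.leaf 597)))))))
(.node 24 (.node 12 (.node 6 (.node 3 (.node 1 (.leaf 153) (.node 1 (.leaf 313) (.leaf 1391))) (.node 1 (.leaf 994) (.node 1 (.leaf 523) (.leaf 251))))
(.node 3 (.node 1 (.leaf 710) (.node 1 (.leaf 1035) (.leaf 796))) (.node 1 (.leaf 855) (.node 1 (.leaf 826) (.leaf 431)))))
(.node 6 (.node 3 (.node 1 (.leaf 472) (.node 1 (.leaf 1458) (.leaf 394))) (.node 1 (.leaf 862) (.node 1 (.leaf 1475) (.leaf 845))))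
(.node 3 (.node 1 (.leaf 1105) (.node 1 (.leaf 150) (.leaf 884))) (.node 1 (.leaf 657) (.node 1 (.leaf 502) (.leaf 1223))))))
(.node 12 (.node 6 (.node 3 (.node 1 (.leaf 1198) (.node 1 (.leaf 60) (.leaf 1039))) (.node 1 (.leaf 1081) (.node 1 (.leaf 43) (.leaf 1167))))
(.node 3 (.node 1 (.leaf 531) (.node 1 (.leaf 1231) (.leaf 1477))) (.node 1 (.leaf 751) (.node 1 (.leaf 184) (.leaf 1382)))))
(.node 6 (.node 3 (.node 1 (.leaf 494) (.node 1 (.leaf 104) (.leaf 721))) (.node 1 (.leaf 1510) (.node 1 (.leaf 1431) (.leaf 223))))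
(.node 3 (.node 1 (.leaf 846) (.node 1 (.leaf 760) (.leaf 1033))) (.node 1 (.leaf 778) (.node 1 (.leaf 357) (.leaf 61))))))))))

/-- The inverse action. -/
def caseAFullInv0LR : Tab ℕ :=
(.node 192 (.node 96 (.node 48 (.node 24 (.node 12 (.node 6 (.node 3 (.node 1 (.leaf 1423) (.node 1 (.leaf 456) (.leaf 740))) (.node 1 (.leaf 1059) (.node 1 (.leaf 375) (.leaf 326))))
(.node 3 (.node 1 (.leaf 1266) (.node 1 (.leaf 151) (.leaf 915))) (.node 1 (.leaf 970) (.node 1 (.leaf 1235) (.leaf 1152)))))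
(.node 6 (.node 3 (.node 1 (.leaf 542) (.node 1 (.leaf 129) (.leaf 1416))) (.node 1 (.leaf 681) (.node 1 (.leaf 1138) (.leaf 998))))
(.node 3 (.node 1 (.leaf 711) (.node 1 (.leaf 1090) (.leaf 1234))) (.node 1 (.leaf 101) (.node 1 (.leaf 883) (.leaf 1356))))))
(.node 12 (.node 6 (.node 3 (.node 1 (.leaf 10) (.node 1 (.leaf 1189) (.leaf 377))) (.node 1 (.leaf 865) (.node 1 (.leaf 319) (.leaf 1074))))
(.node 3 (.node 1 (.leaf 675) (.node 1 (.leaf 930) (.leaf 1402))) (.node 1 (.leaf 533) (.node 1 (.leaf 660) (.leaf 509)))))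
(.node 6 (.node 3 (.node 1 (.leaf 1224) (.node 1 (.leaf 779) (.leaf 654))) (.node 1 (.leaf 1472) (.node 1 (.leaf 147) (.leaf 1378))))
(.node 3 (.node 1 (.leaf 1066) (.node 1 (.leaf 960) (.leaf 1168))) (.node 1 (.leaf 562) (.node 1 (.leaf 230) (.leaf 1421)))))))
(.node 24 (.node 12 (.node 6 (.node 3 (.node 1 (.leaf 314) (.node 1 (.leaf 130) (.leaf 23))) (.node 1 (.leaf 1442) (.node 1 (.leaf 399) (.leaf 908))))
(.node 3 (.node 1 (.leaf 534) (.node 1 (.leaf 1001) (.leaf 1045))) (.node 1 (.leaf 388) (.node 1 (.leaf 22) (.leaf 652)))))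
(.node 6 (.node 3 (.node 1 (.leaf 1139) (.node 1 (.leaf 1291) (.leaf 1141))) (.node 1 (.leaf 521) (.node 1 (.leaf 1228) (.leaf 233))))
(.node 3 (.node 1 (.leaf 1529) (.node 1 (.leaf 514) (.leaf 618))) (.node 1 (.leaf 76) (.node 1 (.leaf 924) (.leaf 701))))))
(.node 12 (.node 6 (.node 3 (.node 1 (.leaf 6) (.node 1 (.leaf 920) (.leaf 1159))) (.node 1 (.leaf 276) (.node 1 (.leaf 707) (.leaf 854))))
(.node 3 (.node 1 (.leaf 1100) (.node 1 (.leaf 738) (.leaf 1115))) (.node 1 (.leaf 991) (.node 1 (.leaf 524) (.leaf 97)))))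
(.node 6 (.node 3 (.node 1 (.leaf 1471) (.node 1 (.leaf 852) (.leaf 1174))) (.node 1 (.leaf 1065) (.node 1 (.leaf 316) (.leaf 918))))
(.node 3 (.node 1 (.leaf 604) (.node 1 (.leaf 32) (.leaf 801))) (.node 1 (.leaf 282) (.node 1 (.leaf 1027) (.leaf 253))))))))
(.node 48 (.node 24 (.node 12 (.node 6 (.node 3 (.node 1 (.leaf 244) (.node 1 (.leaf 481) (.leaf 7))) (.node 1 (.leaf 715) (.node 1 (.leaf 539) (.leaf 1249))))
(.node 3 (.node 1 (.leaf 683) (.node 1 (.leaf 607) (.leaf 861))) (.node 1 (.leaf 1515) (.node 1 (.leaf 1486) (.leaf 221)))))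
(.node 6 (.node 3 (.node 1 (.leaf 1142) (.node 1 (.leaf 795) (.leaf 1007))) (.node 1 (.leaf 912) (.node 1 (.leaf 1041) (.leaf 191))))
(.node 3 (.node 1 (.leaf 882) (.node 1 (.leaf 1248) (.leaf 745))) (.node 1 (.leaf 438) (.node 1 (.leaf 463) (.leaf 515))))))
(.node 12 (.node 6 (.node 3 (.node 1 (.leaf 168) (.node 1 (.leaf 609) (.leaf 1112))) (.node 1 (.leaf 382) (.node 1 (.leaf 50) (.leaf 1180))))
(.node 3 (.node 1 (.leaf 300) (.node 1 (.leaf 200) (.leaf 1427))) (.node 1 (.leaf 121) (.node 1 (.leaf 1047) (.leaf 771)))))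
(.node 6 (.node 3 (.node 1 (.leaf 1241) (.node 1 (.leaf 1509) (.leaf 1085))) (.node 1 (.leaf 1171) (.node 1 (.leaf 1244) (.leaf 1251))))
(.node 3 (.node 1 (.leaf 730) (.node 1 (.leaf 374) (.leaf 893))) (.node 1 (.leaf 553) (.node 1 (.leaf 267) (.leaf 1520)))))))
(.node 24 (.node 12 (.node 6 (.node 3 (.node 1 (.leaf 210) (.node 1 (.leaf 1507) (.leaf 1026))) (.node 1 (.leaf 832) (.node 1 (.leaf 744) (.leaf 133))))
(.node 3 (.node 1 (.leaf 68) (.node 1 (.leaf 477) (.leaf 1457))) (.node 1 (.leaf 320) (.node 1 (.leaf 1262) (.leaf 13)))))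
(.node 6 (.node 3 (.node 1 (.leaf 397) (.node 1 (.leaf 558) (.leaf 1117))) (.node 1 (.leaf 1029) (.node 1 (.leaf 1110) (.leaf 979))))
(.node 3 (.node 1 (.leaf 526) (.node 1 (.leaf 1526) (.leaf 1328))) (.node 1 (.leaf 1331) (.node 1 (.leaf 817) (.leaf 957))))))
(.node 12 (.node 6 (.node 3 (.node 1 (.leaf 1261) (.node 1 (.leaf 42) (.leaf 1004))) (.node 1 (.leaf 1111) (.node 1 (.leaf 396) (.leaf 549))))
(.node 3 (.node 1 (.leaf 1340) (.node 1 (.leaf 1293) (.leaf 788))) (.node 1 (.leaf 1063) (.node 1 (.leaf 166) (.leaf 493)))))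
(.node 6 (.node 3 (.node 1 (.leaf 345) (.node 1 (.leaf 1095) (.leaf 1260))) (.node 1 (.leaf 172) (.node 1 (.leaf 398) (.leaf 689))))
(.node 3 (.node 1 (.leaf 239) (.node 1 (.leaf 664) (.leaf 1335))) (.node 1 (.leaf 841) (.node 1 (.leaf 635) (.leaf 540)))))))))
(.node 96 (.node 48 (.node 24 (.node 12 (.node 6 (.node 3 (.node 1 (.leaf 1240) (.node 1 (.leaf 213) (.leaf 143))) (.node 1 (.leaf 1521) (.node 1 (.leaf 1170) (.leaf 1352))))
(.node 3 (.node 1 (.leaf 517) (.node 1 (.leaf 1438) (.leaf 581))) (.node 1 (.leaf 537) (.node 1 (.leaf 295) (.leaf 894)))))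
(.node 6 (.node 3 (.node 1 (.leaf 2) (.node 1 (.leaf 587) (.leaf 1479))) (.node 1 (.leaf 334) (.node 1 (.leaf 500) (.leaf 82))))
(.node 3 (.node 1 (.leaf 1205) (.node 1 (.leaf 281) (.leaf 808))) (.node 1 (.leaf 1294) (.node 1 (.leaf 1455) (.leaf 923))))))
(.node 12 (.node 6 (.node 3 (.node 1 (.leaf 1252) (.node 1 (.leaf 285) (.leaf 557))) (.node 1 (.leaf 1396) (.node 1 (.leaf 965) (.leaf 1384))))
(.node 3 (.node 1 (.leaf 594) (.node 1 (.leaf 1324) (.leaf 52))) (.node 1 (.leaf 1480) (.node 1 (.leaf 183) (.leaf 301)))))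
(.node 6 (.node 3 (.node 1 (.leaf 1354) (.node 1 (.leaf 471) (.leaf 170))) (.node 1 (.leaf 142) (.node 1 (.leaf 1395) (.leaf 1276))))
(.node 3 (.node 1 (.leaf 211) (.node 1 (.leaf 860) (.leaf 686))) (.node 1 (.leaf 849) (.node 1 (.leaf 1366) (.leaf 289)))))))
(.node 24 (.node 12 (.node 6 (.node 3 (.node 1 (.leaf 1084) (.node 1 (.leaf 181) (.leaf 256))) (.node 1 (.leaf 1028) (.node 1 (.leaf 1265) (.leaf 5))))
(.node 3 (.node 1 (.leaf 718) (.node 1 (.leaf 1418) (.leaf 1500))) (.node 1 (.leaf 678) (.node 1 (.leaf 962) (.leaf 951)))))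
(.node 6 (.node 3 (.node 1 (.leaf 1133) (.node 1 (.leaf 510) (.leaf 1069))) (.node 1 (.leaf 127) (.node 1 (.leaf 1488) (.leaf 838))))
(.node 3 (.node 1 (.leaf 261) (.node 1 (.leaf 318) (.leaf 1196))) (.node 1 (.leaf 1316) (.node 1 (.leaf 108) (.leaf 1182))))))
(.node 12 (.node 6 (.node 3 (.node 1 (.leaf 110) (.node 1 (.leaf 437) (.leaf 647))) (.node 1 (.leaf 614) (.node 1 (.leaf 1381) (.leaf 475))))
(.node 3 (.node 1 (.leaf 57) (.node 1 (.leaf 1390) (.leaf 811))) (.node 1 (.leaf 507) (.node 1 (.leaf 985) (.leaf 1239)))))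
(.node 6 (.node 3 (.node 1 (.leaf 633) (.node 1 (.leaf 574) (.leaf 333))) (.node 1 (.leaf 819) (.node 1 (.leaf 420) (.leaf 699))))
(.node 3 (.node 1 (.leaf 856) (.node 1 (.leaf 262) (.leaf 435))) (.node 1 (.leaf 650) (.node 1 (.leaf 1256) (.leaf 591))))))))
(.node 48 (.node 24 (.node 12 (.node 6 (.node 3 (.node 1 (.leaf 584) (.node 1 (.leaf 995) (.leaf 126))) (.node 1 (.leaf 870) (.node 1 (.leaf 190) (.leaf 1305))))
(.node 3 (.node 1 (.leaf 418) (.node 1 (.leaf 712) (.leaf 1462))) (.node 1 (.leaf 1385) (.node 1 (.leaf 984) (.leaf 486)))))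
(.node 6 (.node 3 (.node 1 (.leaf 1406) (.node 1 (.leaf 100) (.leaf 1176))) (.node 1 (.leaf 403) (.node 1 (.leaf 499) (.leaf 4))))
(.node 3 (.node 1 (.leaf 684) (.node 1 (.leaf 443) (.leaf 175))) (.node 1 (.leaf 885) (.node 1 (.leaf 353) (.leaf 188))))))
(.node 12 (.node 6 (.node 3 (.node 1 (.leaf 177) (.node 1 (.leaf 990) (.leaf 363))) (.node 1 (.leaf 1072) (.node 1 (.leaf 361) (.leaf 229))))
(.node 3 (.node 1 (.leaf 901) (.node 1 (.leaf 45) (.leaf 1050))) (.node 1 (.leaf 1013) (.node 1 (.leaf 1237) (.leaf 922)))))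
(.node 6 (.node 3 (.node 1 (.leaf 58) (.node 1 (.leaf 194) (.leaf 91))) (.node 1 (.leaf 17) (.node 1 (.leaf 646) (.leaf 668))))
(.node 3 (.node 1 (.leaf 576) (.node 1 (.leaf 1445) (.leaf 193))) (.node 1 (.leaf 1108) (.node 1 (.leaf 65) (.leaf 1015)))))))
(.node 24 (.node 12 (.node 6 (.node 3 (.node 1 (.leaf 971) (.node 1 (.leaf 340) (.leaf 1341))) (.node 1 (.leaf 1440) (.node 1 (.leaf 144) (.leaf 460))))
(.node 3 (.node 1 (.leaf 1524) (.node 1 (.leaf 863) (.leaf 423))) (.node 1 (.leaf 944) (.node 1 (.leaf 1485) (.leaf 1430)))))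
(.node 6 (.node 3 (.node 1 (.leaf 92) (.node 1 (.leaf 758) (.leaf 1463))) (.node 1 (.leaf 255) (.node 1 (.leaf 781) (.leaf 1137))))
(.node 3 (.node 1 (.leaf 358) (.node 1 (.leaf 851) (.leaf 1303))) (.node 1 (.leaf 961) (.node 1 (.leaf 1489) (.leaf 1003))))))
(.node 12 (.node 6 (.node 3 (.node 1 (.leaf 351) (.node 1 (.leaf 1464) (.leaf 1323))) (.node 1 (.leaf 1473) (.node 1 (.leaf 1080) (.leaf 429))))
(.node 3 (.node 1 (.leaf 96) (.node 1 (.leaf 755) (.leaf 1087))) (.node 1 (.leaf 1365) (.node 1 (.leaf 180) (.leaf 898)))))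
(.node 6 (.node 3 (.node 1 (.leaf 1255) (.node 1 (.leaf 1320) (.leaf 39))) (.node 1 (.leaf 972) (.node 1 (.leaf 454) (.leaf 727))))
(.node 3 (.node 1 (.leaf 544) (.node 1 (.leaf 381) (.leaf 734))) (.node 1 (.leaf 634) (.node 1 (.leaf 405) (.leaf 88))))))))))

/-- The inverse action. -/
def caseAFullInv0L : Tab ℕ := .node 384 caseAFullInv0LL caseAFullInv0LR

/-- The inverse action. -/
def caseAFullInv0RL : Tab ℕ :=
(.node 192 (.node 96 (.node 48 (.node 24 (.node 12 (.node 6 (.node 3 (.node 1 (.leaf 1304) (.node 1 (.leaf 1148) (.leaf 1454))) (.node 1 (.leaf 1002) (.node 1 (.leaf 306) (.leaf 589))))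
(.node 3 (.node 1 (.leaf 703) (.node 1 (.leaf 1219) (.leaf 1379))) (.node 1 (.leaf 700) (.node 1 (.leaf 135) (.leaf 1533)))))
(.node 6 (.node 3 (.node 1 (.leaf 999) (.node 1 (.leaf 31) (.leaf 1359))) (.node 1 (.leaf 1048) (.node 1 (.leaf 821) (.leaf 465))))
(.node 3 (.node 1 (.leaf 802) (.node 1 (.leaf 916) (.leaf 947))) (.node 1 (.leaf 853) (.node 1 (.leaf 243) (.leaf 568))))))
(.node 12 (.node 6 (.node 3 (.node 1 (.leaf 40) (.node 1 (.leaf 608) (.leaf 767))) (.node 1 (.leaf 805) (.node 1 (.leaf 1407) (.leaf 736))))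
(.node 3 (.node 1 (.leaf 164) (.node 1 (.leaf 1339) (.leaf 286))) (.node 1 (.leaf 799) (.node 1 (.leaf 364) (.leaf 238)))))
(.node 6 (.node 3 (.node 1 (.leaf 1400) (.node 1 (.leaf 563) (.leaf 338))) (.node 1 (.leaf 176) (.node 1 (.leaf 1297) (.leaf 1363))))
(.node 3 (.node 1 (.leaf 317) (.node 1 (.leaf 696) (.leaf 969))) (.node 1 (.leaf 448) (.node 1 (.leaf 1058) (.leaf 1270)))))))
(.node 24 (.node 12 (.node 6 (.node 3 (.node 1 (.leaf 1495) (.node 1 (.leaf 782) (.leaf 291))) (.node 1 (.leaf 1103) (.node 1 (.leaf 1257) (.leaf 1434))))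
(.node 3 (.node 1 (.leaf 468) (.node 1 (.leaf 1535) (.leaf 1415))) (.node 1 (.leaf 949) (.node 1 (.leaf 1506) (.leaf 637)))))
(.node 6 (.node 3 (.node 1 (.leaf 733) (.node 1 (.leaf 529) (.leaf 373))) (.node 1 (.leaf 489) (.node 1 (.leaf 275) (.leaf 909))))
(.node 3 (.node 1 (.leaf 332) (.node 1 (.leaf 890) (.leaf 1011))) (.node 1 (.leaf 445) (.node 1 (.leaf 464) (.leaf 1229))))))
(.node 12 (.node 6 (.node 3 (.node 1 (.leaf 1519) (.node 1 (.leaf 732) (.leaf 1067))) (.node 1 (.leaf 347) (.node 1 (.leaf 977) (.leaf 207))))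
(.node 3 (.node 1 (.leaf 378) (.node 1 (.leaf 1502) (.leaf 783))) (.node 1 (.leaf 1346) (.node 1 (.leaf 548) (.leaf 1336)))))
(.node 6 (.node 3 (.node 1 (.leaf 116) (.node 1 (.leaf 789) (.leaf 642))) (.node 1 (.leaf 1487) (.node 1 (.leaf 1247) (.leaf 1281))))
(.node 3 (.node 1 (.leaf 290) (.node 1 (.leaf 622) (.leaf 202))) (.node 1 (.leaf 1409) (.node 1 (.leaf 532) (.leaf 1094))))))))
(.node 48 (.node 24 (.node 12 (.node 6 (.node 3 (.node 1 (.leaf 154) (.node 1 (.leaf 953) (.leaf 753))) (.node 1 (.leaf 850) (.node 1 (.leaf 1230) (.leaf 16))))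
(.node 3 (.node 1 (.leaf 1179) (.node 1 (.leaf 393) (.leaf 308))) (.node 1 (.leaf 447) (.node 1 (.leaf 406) (.leaf 1370)))))
(.node 6 (.node 3 (.node 1 (.leaf 1523) (.node 1 (.leaf 455) (.leaf 28))) (.node 1 (.leaf 1422) (.node 1 (.leaf 709) (.leaf 359))))
(.node 3 (.node 1 (.leaf 325) (.node 1 (.leaf 1118) (.leaf 1017))) (.node 1 (.leaf 272) (.node 1 (.leaf 663) (.leaf 322))))))
(.node 12 (.node 6 (.node 3 (.node 1 (.leaf 215) (.node 1 (.leaf 1367) (.leaf 958))) (.node 1 (.leaf 1531) (.node 1 (.leaf 1401) (.leaf 30))))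
(.node 3 (.node 1 (.leaf 773) (.node 1 (.leaf 1429) (.leaf 585))) (.node 1 (.leaf 803) (.node 1 (.leaf 369) (.leaf 235)))))
(.node 6 (.node 3 (.node 1 (.leaf 504) (.node 1 (.leaf 407) (.leaf 1253))) (.node 1 (.leaf 1193) (.node 1 (.leaf 655) (.leaf 847))))
(.node 3 (.node 1 (.leaf 617) (.node 1 (.leaf 1215) (.leaf 323))) (.node 1 (.leaf 833) (.node 1 (.leaf 1143) (.leaf 1154)))))))
(.node 24 (.node 12 (.node 6 (.node 3 (.node 1 (.leaf 946) (.node 1 (.leaf 1037) (.leaf 1474))) (.node 1 (.leaf 942) (.node 1 (.leaf 1279) (.leaf 1184))))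
(.node 3 (.node 1 (.leaf 825) (.node 1 (.leaf 831) (.leaf 547))) (.node 1 (.leaf 14) (.node 1 (.leaf 725) (.leaf 1233)))))
(.node 6 (.node 3 (.node 1 (.leaf 379) (.node 1 (.leaf 1078) (.leaf 371))) (.node 1 (.leaf 1282) (.node 1 (.leaf 910) (.leaf 837))))
(.node 3 (.node 1 (.leaf 1383) (.node 1 (.leaf 1283) (.leaf 793))) (.node 1 (.leaf 599) (.node 1 (.leaf 304) (.leaf 508))))))
(.node 12 (.node 6 (.node 3 (.node 1 (.leaf 1263) (.node 1 (.leaf 892) (.leaf 44))) (.node 1 (.leaf 1226) (.node 1 (.leaf 1344) (.leaf 1426))))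
(.node 3 (.node 1 (.leaf 248) (.node 1 (.leaf 1024) (.leaf 1482))) (.node 1 (.leaf 900) (.node 1 (.leaf 1274) (.leaf 1012)))))
(.node 6 (.node 3 (.node 1 (.leaf 1130) (.node 1 (.leaf 473) (.leaf 250))) (.node 1 (.leaf 661) (.node 1 (.leaf 1125) (.leaf 106))))
(.node 3 (.node 1 (.leaf 387) (.node 1 (.leaf 1021) (.leaf 1484))) (.node 1 (.leaf 1204) (.node 1 (.leaf 1325) (.leaf 840)))))))))
(.node 96 (.node 48 (.node 24 (.node 12 (.node 6 (.node 3 (.node 1 (.leaf 302) (.node 1 (.leaf 876) (.leaf 247))) (.node 1 (.leaf 785) (.node 1 (.leaf 535) (.leaf 1306))))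
(.node 3 (.node 1 (.leaf 726) (.node 1 (.leaf 252) (.leaf 330))) (.node 1 (.leaf 527) (.node 1 (.leaf 66) (.leaf 538)))))
(.node 6 (.node 3 (.node 1 (.leaf 927) (.node 1 (.leaf 25) (.leaf 790))) (.node 1 (.leaf 1280) (.node 1 (.leaf 1) (.leaf 983))))
(.node 3 (.node 1 (.leaf 356) (.node 1 (.leaf 1374) (.leaf 1127))) (.node 1 (.leaf 425) (.node 1 (.leaf 155) (.leaf 1269))))))
(.node 12 (.node 6 (.node 3 (.node 1 (.leaf 598) (.node 1 (.leaf 658) (.leaf 335))) (.node 1 (.leaf 1054) (.node 1 (.leaf 722) (.leaf 117))))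
(.node 3 (.node 1 (.leaf 1364) (.node 1 (.leaf 963) (.leaf 693))) (.node 1 (.leaf 484) (.node 1 (.leaf 312) (.leaf 704)))))
(.node 6 (.node 3 (.node 1 (.leaf 996) (.node 1 (.leaf 719) (.leaf 1348))) (.node 1 (.leaf 864) (.node 1 (.leaf 881) (.leaf 343))))
(.node 3 (.node 1 (.leaf 503) (.node 1 (.leaf 1492) (.leaf 1425))) (.node 1 (.leaf 577) (.node 1 (.leaf 259) (.leaf 1023)))))))
(.node 24 (.node 12 (.node 6 (.node 3 (.node 1 (.leaf 339) (.node 1 (.leaf 413) (.leaf 1157))) (.node 1 (.leaf 496) (.node 1 (.leaf 560) (.leaf 1349))))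
(.node 3 (.node 1 (.leaf 246) (.node 1 (.leaf 1116) (.leaf 677))) (.node 1 (.leaf 978) (.node 1 (.leaf 1481) (.leaf 648)))))
(.node 6 (.node 3 (.node 1 (.leaf 1329) (.node 1 (.leaf 955) (.leaf 1093))) (.node 1 (.leaf 372) (.node 1 (.leaf 149) (.leaf 424))))
(.node 3 (.node 1 (.leaf 118) (.node 1 (.leaf 1460) (.leaf 595))) (.node 1 (.leaf 37) (.node 1 (.leaf 566) (.leaf 1296))))))
(.node 12 (.node 6 (.node 3 (.node 1 (.leaf 242) (.node 1 (.leaf 1131) (.leaf 1387))) (.node 1 (.leaf 439) (.node 1 (.leaf 1300) (.leaf 629))))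
(.node 3 (.node 1 (.leaf 1465) (.node 1 (.leaf 807) (.leaf 79))) (.node 1 (.leaf 836) (.node 1 (.leaf 1109) (.leaf 1098)))))
(.node 6 (.node 3 (.node 1 (.leaf 152) (.node 1 (.leaf 605) (.leaf 1132))) (.node 1 (.leaf 265) (.node 1 (.leaf 1185) (.leaf 427))))
(.node 3 (.node 1 (.leaf 673) (.node 1 (.leaf 324) (.leaf 1347))) (.node 1 (.leaf 1051) (.node 1 (.leaf 1273) (.leaf 659))))))))
(.node 48 (.node 24 (.node 12 (.node 6 (.node 3 (.node 1 (.leaf 352) (.node 1 (.leaf 298) (.leaf 814))) (.node 1 (.leaf 89) (.node 1 (.leaf 1419) (.leaf 666))))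
(.node 3 (.node 1 (.leaf 74) (.node 1 (.leaf 492) (.leaf 1319))) (.node 1 (.leaf 1342) (.node 1 (.leaf 735) (.leaf 1156)))))
(.node 6 (.node 3 (.node 1 (.leaf 570) (.node 1 (.leaf 952) (.leaf 770))) (.node 1 (.leaf 404) (.node 1 (.leaf 222) (.leaf 277))))
(.node 3 (.node 1 (.leaf 124) (.node 1 (.leaf 258) (.leaf 966))) (.node 1 (.leaf 354) (.node 1 (.leaf 449) (.leaf 419))))))
(.node 12 (.node 6 (.node 3 (.node 1 (.leaf 1034) (.node 1 (.leaf 140) (.leaf 209))) (.node 1 (.leaf 956) (.node 1 (.leaf 624) (.leaf 1214))))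
(.node 3 (.node 1 (.leaf 937) (.node 1 (.leaf 948) (.leaf 19))) (.node 1 (.leaf 482) (.node 1 (.leaf 1369) (.leaf 625)))))
(.node 6 (.node 3 (.node 1 (.leaf 136) (.node 1 (.leaf 869) (.leaf 761))) (.node 1 (.leaf 367) (.node 1 (.leaf 756) (.leaf 389))))
(.node 3 (.node 1 (.leaf 1437) (.node 1 (.leaf 766) (.leaf 205))) (.node 1 (.leaf 1225) (.node 1 (.leaf 743) (.leaf 886)))))))
(.node 24 (.node 12 (.node 6 (.node 3 (.node 1 (.leaf 452) (.node 1 (.leaf 1285) (.leaf 583))) (.node 1 (.leaf 1123) (.node 1 (.leaf 1075) (.leaf 887))))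
(.node 3 (.node 1 (.leaf 1516) (.node 1 (.leaf 555) (.leaf 376))) (.node 1 (.leaf 87) (.node 1 (.leaf 630) (.leaf 641)))))
(.node 6 (.node 3 (.node 1 (.leaf 997) (.node 1 (.leaf 556) (.leaf 874))) (.node 1 (.leaf 934) (.node 1 (.leaf 600) (.leaf 391))))
(.node 3 (.node 1 (.leaf 935) (.node 1 (.leaf 616) (.leaf 1497))) (.node 1 (.leaf 638) (.node 1 (.leaf 384) (.leaf 368))))))
(.node 12 (.node 6 (.node 3 (.node 1 (.leaf 422) (.node 1 (.leaf 1158) (.leaf 752))) (.node 1 (.leaf 70) (.node 1 (.leaf 303) (.leaf 470))))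
(.node 3 (.node 1 (.leaf 1368) (.node 1 (.leaf 111) (.leaf 911))) (.node 1 (.leaf 27) (.node 1 (.leaf 1264) (.leaf 670)))))
(.node 6 (.node 3 (.node 1 (.leaf 24) (.node 1 (.leaf 878) (.leaf 561))) (.node 1 (.leaf 218) (.node 1 (.leaf 174) (.leaf 1371))))
(.node 3 (.node 1 (.leaf 776) (.node 1 (.leaf 1183) (.leaf 479))) (.node 1 (.leaf 1295) (.node 1 (.leaf 1192) (.leaf 1212))))))))))

/-- The inverse action. -/
def caseAFullInv0RR : Tab ℕ :=
(.node 192 (.node 96 (.node 48 (.node 24 (.node 12 (.node 6 (.node 3 (.node 1 (.leaf 895) (.node 1 (.leaf 757) (.leaf 1217))) (.node 1 (.leaf 1321) (.node 1 (.leaf 241) (.leaf 341))))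
(.node 3 (.node 1 (.leaf 754) (.node 1 (.leaf 458) (.leaf 1268))) (.node 1 (.leaf 1513) (.node 1 (.leaf 309) (.leaf 400)))))
(.node 6 (.node 3 (.node 1 (.leaf 1055) (.node 1 (.leaf 938) (.leaf 1450))) (.node 1 (.leaf 1483) (.node 1 (.leaf 122) (.leaf 1155))))
(.node 3 (.node 1 (.leaf 572) (.node 1 (.leaf 1309) (.leaf 586))) (.node 1 (.leaf 829) (.node 1 (.leaf 636) (.leaf 1446))))))
(.node 12 (.node 6 (.node 3 (.node 1 (.leaf 232) (.node 1 (.leaf 787) (.leaf 487))) (.node 1 (.leaf 414) (.node 1 (.leaf 1079) (.leaf 621))))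
(.node 3 (.node 1 (.leaf 669) (.node 1 (.leaf 480) (.leaf 29))) (.node 1 (.leaf 848) (.node 1 (.leaf 1213) (.leaf 714)))))
(.node 6 (.node 3 (.node 1 (.leaf 1397) (.node 1 (.leaf 409) (.leaf 653))) (.node 1 (.leaf 123) (.node 1 (.leaf 1277) (.leaf 1476))))
(.node 3 (.node 1 (.leaf 415) (.node 1 (.leaf 1232) (.leaf 459))) (.node 1 (.leaf 83) (.node 1 (.leaf 360) (.leaf 390)))))))
(.node 24 (.node 12 (.node 6 (.node 3 (.node 1 (.leaf 1145) (.node 1 (.leaf 498) (.leaf 196))) (.node 1 (.leaf 834) (.node 1 (.leaf 224) (.leaf 307))))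
(.node 3 (.node 1 (.leaf 1073) (.node 1 (.leaf 417) (.leaf 739))) (.node 1 (.leaf 981) (.node 1 (.leaf 676) (.leaf 950)))))
(.node 6 (.node 3 (.node 1 (.leaf 1151) (.node 1 (.leaf 1032) (.leaf 75))) (.node 1 (.leaf 225) (.node 1 (.leaf 185) (.leaf 1136))))
(.node 3 (.node 1 (.leaf 131) (.node 1 (.leaf 1162) (.leaf 690))) (.node 1 (.leaf 940) (.node 1 (.leaf 120) (.leaf 1000))))))
(.node 12 (.node 6 (.node 3 (.node 1 (.leaf 571) (.node 1 (.leaf 640) (.leaf 768))) (.node 1 (.leaf 1351) (.node 1 (.leaf 201) (.leaf 236))))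
(.node 3 (.node 1 (.leaf 1288) (.node 1 (.leaf 565) (.leaf 902))) (.node 1 (.leaf 933) (.node 1 (.leaf 219) (.leaf 62)))))
(.node 6 (.node 3 (.node 1 (.leaf 1052) (.node 1 (.leaf 1433) (.leaf 1272))) (.node 1 (.leaf 1164) (.node 1 (.leaf 1187) (.leaf 1447))))
(.node 3 (.node 1 (.leaf 179) (.node 1 (.leaf 1020) (.leaf 520))) (.node 1 (.leaf 234) (.node 1 (.leaf 195) (.leaf 1061))))))))
(.node 48 (.node 24 (.node 12 (.node 6 (.node 3 (.node 1 (.leaf 41) (.node 1 (.leaf 1511) (.leaf 199))) (.node 1 (.leaf 873) (.node 1 (.leaf 189) (.leaf 1195))))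
(.node 3 (.node 1 (.leaf 1393) (.node 1 (.leaf 1326) (.leaf 444))) (.node 1 (.leaf 90) (.node 1 (.leaf 1200) (.leaf 260)))))
(.node 6 (.node 3 (.node 1 (.leaf 1424) (.node 1 (.leaf 1405) (.leaf 720))) (.node 1 (.leaf 746) (.node 1 (.leaf 1163) (.leaf 1267))))
(.node 3 (.node 1 (.leaf 125) (.node 1 (.leaf 1360) (.leaf 432))) (.node 1 (.leaf 844) (.node 1 (.leaf 349) (.leaf 305))))))
(.node 12 (.node 6 (.node 3 (.node 1 (.leaf 1238) (.node 1 (.leaf 1508) (.leaf 495))) (.node 1 (.leaf 1411) (.node 1 (.leaf 163) (.leaf 1436))))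
(.node 3 (.node 1 (.leaf 55) (.node 1 (.leaf 1177) (.leaf 879))) (.node 1 (.leaf 857) (.node 1 (.leaf 759) (.leaf 38)))))
(.node 6 (.node 3 (.node 1 (.leaf 342) (.node 1 (.leaf 1077) (.leaf 187))) (.node 1 (.leaf 651) (.node 1 (.leaf 1496) (.leaf 1289))))
(.node 3 (.node 1 (.leaf 1394) (.node 1 (.leaf 929) (.leaf 706))) (.node 1 (.leaf 1330) (.node 1 (.leaf 986) (.leaf 383)))))))
(.node 24 (.node 12 (.node 6 (.node 3 (.node 1 (.leaf 1031) (.node 1 (.leaf 161) (.leaf 959))) (.node 1 (.leaf 410) (.node 1 (.leaf 1313) (.leaf 483))))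
(.node 3 (.node 1 (.leaf 546) (.node 1 (.leaf 297) (.leaf 939))) (.node 1 (.leaf 160) (.node 1 (.leaf 474) (.leaf 469)))))
(.node 6 (.node 3 (.node 1 (.leaf 839) (.node 1 (.leaf 208) (.leaf 559))) (.node 1 (.leaf 1311) (.node 1 (.leaf 47) (.leaf 216))))
(.node 3 (.node 1 (.leaf 1057) (.node 1 (.leaf 899) (.leaf 800))) (.node 1 (.leaf 337) (.node 1 (.leaf 525) (.leaf 1218))))))
(.node 12 (.node 6 (.node 3 (.node 1 (.leaf 102) (.node 1 (.leaf 1334) (.leaf 197))) (.node 1 (.leaf 936) (.node 1 (.leaf 1178) (.leaf 835))))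
(.node 3 (.node 1 (.leaf 1096) (.node 1 (.leaf 1534) (.leaf 867))) (.node 1 (.leaf 321) (.node 1 (.leaf 1310) (.leaf 602)))))
(.node 6 (.node 3 (.node 1 (.leaf 530) (.node 1 (.leaf 764) (.leaf 1169))) (.node 1 (.leaf 580) (.node 1 (.leaf 1208) (.leaf 266))))
(.node 3 (.node 1 (.leaf 784) (.node 1 (.leaf 476) (.leaf 269))) (.node 1 (.leaf 63) (.node 1 (.leaf 613) (.leaf 728)))))))))
(.node 96 (.node 48 (.node 24 (.node 12 (.node 6 (.node 3 (.node 1 (.leaf 115) (.node 1 (.leaf 866) (.leaf 1181))) (.node 1 (.leaf 1518) (.node 1 (.leaf 73) (.leaf 1432))))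
(.node 3 (.node 1 (.leaf 872) (.node 1 (.leaf 1227) (.leaf 672))) (.node 1 (.leaf 344) (.node 1 (.leaf 612) (.leaf 974)))))
(.node 6 (.node 3 (.node 1 (.leaf 702) (.node 1 (.leaf 1470) (.leaf 516))) (.node 1 (.leaf 550) (.node 1 (.leaf 628) (.leaf 288))))
(.node 3 (.node 1 (.leaf 750) (.node 1 (.leaf 1014) (.leaf 1453))) (.node 1 (.leaf 1345) (.node 1 (.leaf 1491) (.leaf 15))))))
(.node 12 (.node 6 (.node 3 (.node 1 (.leaf 203) (.node 1 (.leaf 687) (.leaf 875))) (.node 1 (.leaf 1258) (.node 1 (.leaf 141) (.leaf 1172))))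
(.node 3 (.node 1 (.leaf 173) (.node 1 (.leaf 1144) (.leaf 488))) (.node 1 (.leaf 680) (.node 1 (.leaf 1209) (.leaf 237)))))
(.node 6 (.node 3 (.node 1 (.leaf 86) (.node 1 (.leaf 691) (.leaf 138))) (.node 1 (.leaf 1194) (.node 1 (.leaf 440) (.leaf 436))))
(.node 3 (.node 1 (.leaf 157) (.node 1 (.leaf 748) (.leaf 737))) (.node 1 (.leaf 794) (.node 1 (.leaf 21) (.leaf 78)))))))
(.node 24 (.node 12 (.node 6 (.node 3 (.node 1 (.leaf 989) (.node 1 (.leaf 1275) (.leaf 1135))) (.node 1 (.leaf 1107) (.node 1 (.leaf 1461) (.leaf 331))))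
(.node 3 (.node 1 (.leaf 1126) (.node 1 (.leaf 365) (.leaf 355))) (.node 1 (.leaf 1086) (.node 1 (.leaf 567) (.leaf 274)))))
(.node 6 (.node 3 (.node 1 (.leaf 428) (.node 1 (.leaf 77) (.leaf 1220))) (.node 1 (.leaf 1353) (.node 1 (.leaf 263) (.leaf 1376))))
(.node 3 (.node 1 (.leaf 903) (.node 1 (.leaf 1254) (.leaf 1528))) (.node 1 (.leaf 1043) (.node 1 (.leaf 217) (.leaf 967))))))
(.node 12 (.node 6 (.node 3 (.node 1 (.leaf 791) (.node 1 (.leaf 1175) (.leaf 976))) (.node 1 (.leaf 536) (.node 1 (.leaf 462) (.leaf 843))))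
(.node 3 (.node 1 (.leaf 975) (.node 1 (.leaf 1398) (.leaf 1030))) (.node 1 (.leaf 228) (.node 1 (.leaf 941) (.leaf 453)))))
(.node 6 (.node 3 (.node 1 (.leaf 1503) (.node 1 (.leaf 395) (.leaf 1517))) (.node 1 (.leaf 506) (.node 1 (.leaf 705) (.leaf 1292))))
(.node 3 (.node 1 (.leaf 1338) (.node 1 (.leaf 1530) (.leaf 1150))) (.node 1 (.leaf 1413) (.node 1 (.leaf 1501) (.leaf 731))))))))
(.node 48 (.node 24 (.node 12 (.node 6 (.node 3 (.node 1 (.leaf 105) (.node 1 (.leaf 1068) (.leaf 713))) (.node 1 (.leaf 823) (.node 1 (.leaf 1089) (.leaf 1301))))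
(.node 3 (.node 1 (.leaf 294) (.node 1 (.leaf 1358) (.leaf 186))) (.node 1 (.leaf 1056) (.node 1 (.leaf 1038) (.leaf 1044)))))
(.node 6 (.node 3 (.node 1 (.leaf 1451) (.node 1 (.leaf 697) (.leaf 109))) (.node 1 (.leaf 682) (.node 1 (.leaf 1532) (.leaf 1060))))
(.node 3 (.node 1 (.leaf 815) (.node 1 (.leaf 1327) (.leaf 284))) (.node 1 (.leaf 85) (.node 1 (.leaf 292) (.leaf 1333))))))
(.node 12 (.node 6 (.node 3 (.node 1 (.leaf 592) (.node 1 (.leaf 1166) (.leaf 1469))) (.node 1 (.leaf 1206) (.node 1 (.leaf 1490) (.leaf 336))))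
(.node 3 (.node 1 (.leaf 1357) (.node 1 (.leaf 1514) (.leaf 1343))) (.node 1 (.leaf 643) (.node 1 (.leaf 578) (.leaf 1449)))))
(.node 6 (.node 3 (.node 1 (.leaf 1410) (.node 1 (.leaf 980) (.leaf 158))) (.node 1 (.leaf 1456) (.node 1 (.leaf 214) (.leaf 1278))))
(.node 3 (.node 1 (.leaf 36) (.node 1 (.leaf 1399) (.leaf 132))) (.node 1 (.leaf 53) (.node 1 (.leaf 772) (.leaf 564)))))))
(.node 24 (.node 12 (.node 6 (.node 3 (.node 1 (.leaf 1101) (.node 1 (.leaf 1006) (.leaf 1448))) (.node 1 (.leaf 859) (.node 1 (.leaf 1102) (.leaf 1493))))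
(.node 3 (.node 1 (.leaf 593) (.node 1 (.leaf 1202) (.leaf 868))) (.node 1 (.leaf 1092) (.node 1 (.leaf 56) (.leaf 1134)))))
(.node 6 (.node 3 (.node 1 (.leaf 1271) (.node 1 (.leaf 1106) (.leaf 273))) (.node 1 (.leaf 1113) (.node 1 (.leaf 69) (.leaf 198))))
(.node 3 (.node 1 (.leaf 95) (.node 1 (.leaf 1173) (.leaf 987))) (.node 1 (.leaf 64) (.node 1 (.leaf 441) (.leaf 268))))))
(.node 12 (.node 6 (.node 3 (.node 1 (.leaf 192) (.node 1 (.leaf 1140) (.leaf 822))) (.node 1 (.leaf 919) (.node 1 (.leaf 762) (.leaf 1439))))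
(.node 3 (.node 1 (.leaf 1236) (.node 1 (.leaf 1298) (.leaf 812))) (.node 1 (.leaf 165) (.node 1 (.leaf 1362) (.leaf 741)))))
(.node 6 (.node 3 (.node 1 (.leaf 1076) (.node 1 (.leaf 112) (.leaf 457))) (.node 1 (.leaf 917) (.node 1 (.leaf 1403) (.leaf 370))))
(.node 3 (.node 1 (.leaf 662) (.node 1 (.leaf 891) (.leaf 590))) (.node 1 (.leaf 99) (.node 1 (.leaf 26) (.leaf 280))))))))))

/-- The inverse action. -/
def caseAFullInv0R : Tab ℕ := .node 384 caseAFullInv0RL caseAFullInv0RR

/-- The inverse action. -/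
def caseAFullInv0 : Tab ℕ := .node 768 caseAFullInv0L caseAFullInv0R

/-- The inverse action. -/
def caseAFullInv1LL : Tab ℕ :=
(.node 192 (.node 96 (.node 48 (.node 24 (.node 12 (.node 6 (.node 3 (.node 1 (.leaf 0) (.node 1 (.leaf 749) (.leaf 1064))) (.node 1 (.leaf 38) (.node 1 (.leaf 527) (.leaf 992))))
(.node 3 (.node 1 (.leaf 1498) (.node 1 (.leaf 234) (.leaf 81))) (.node 1 (.leaf 1074) (.node 1 (.leaf 233) (.leaf 1508)))))
(.node 6 (.node 3 (.node 1 (.leaf 12) (.node 1 (.leaf 350) (.leaf 574))) (.node 1 (.leaf 1356) (.node 1 (.leaf 604) (.leaf 231))))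
(.node 3 (.node 1 (.leaf 1155) (.node 1 (.leaf 226) (.leaf 658))) (.node 1 (.leaf 1101) (.node 1 (.leaf 222) (.leaf 251))))))
(.node 12 (.node 6 (.node 3 (.node 1 (.leaf 551) (.node 1 (.leaf 1252) (.leaf 555))) (.node 1 (.leaf 1388) (.node 1 (.leaf 99) (.leaf 340))))
(.node 3 (.node 1 (.leaf 190) (.node 1 (.leaf 1087) (.leaf 171))) (.node 1 (.leaf 863) (.node 1 (.leaf 371) (.leaf 890)))))
(.node 6 (.node 3 (.node 1 (.leaf 1008) (.node 1 (.leaf 37) (.leaf 1503))) (.node 1 (.leaf 703) (.node 1 (.leaf 785) (.leaf 1083))))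
(.node 3 (.node 1 (.leaf 1130) (.node 1 (.leaf 119) (.leaf 1487))) (.node 1 (.leaf 62) (.node 1 (.leaf 1316) (.leaf 378)))))))
(.node 24 (.node 12 (.node 6 (.node 3 (.node 1 (.leaf 1105) (.node 1 (.leaf 463) (.leaf 759))) (.node 1 (.leaf 52) (.node 1 (.leaf 1470) (.leaf 28))))
(.node 3 (.node 1 (.leaf 674) (.node 1 (.leaf 1208) (.leaf 311))) (.node 1 (.leaf 1440) (.node 1 (.leaf 549) (.leaf 1139)))))
(.node 6 (.node 3 (.node 1 (.leaf 1280) (.node 1 (.leaf 1114) (.leaf 773))) (.node 1 (.leaf 916) (.node 1 (.leaf 1250) (.leaf 132))))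
(.node 3 (.node 1 (.leaf 423) (.node 1 (.leaf 706) (.leaf 1180))) (.node 1 (.leaf 533) (.node 1 (.leaf 1032) (.leaf 407))))))
(.node 12 (.node 6 (.node 3 (.node 1 (.leaf 1034) (.node 1 (.leaf 764) (.leaf 1520))) (.node 1 (.leaf 76) (.node 1 (.leaf 964) (.leaf 308))))
(.node 3 (.node 1 (.leaf 478) (.node 1 (.leaf 1321) (.leaf 432))) (.node 1 (.leaf 8) (.node 1 (.leaf 1431) (.leaf 492)))))
(.node 6 (.node 3 (.node 1 (.leaf 1444) (.node 1 (.leaf 1029) (.leaf 46))) (.node 1 (.leaf 1060) (.node 1 (.leaf 978) (.leaf 61))))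
(.node 3 (.node 1 (.leaf 867) (.node 1 (.leaf 421) (.leaf 1249))) (.node 1 (.leaf 1102) (.node 1 (.leaf 387) (.leaf 1267))))))))
(.node 48 (.node 24 (.node 12 (.node 6 (.node 3 (.node 1 (.leaf 1234) (.node 1 (.leaf 1053) (.leaf 810))) (.node 1 (.leaf 188) (.node 1 (.leaf 385) (.leaf 742))))
(.node 3 (.node 1 (.leaf 381) (.node 1 (.leaf 831) (.leaf 376))) (.node 1 (.leaf 1090) (.node 1 (.leaf 557) (.leaf 599)))))
(.node 6 (.node 3 (.node 1 (.leaf 1228) (.node 1 (.leaf 146) (.leaf 968))) (.node 1 (.leaf 114) (.node 1 (.leaf 827) (.leaf 723))))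
(.node 3 (.node 1 (.leaf 323) (.node 1 (.leaf 1343) (.leaf 1414))) (.node 1 (.leaf 129) (.node 1 (.leaf 1221) (.leaf 211))))))
(.node 12 (.node 6 (.node 3 (.node 1 (.leaf 1184) (.node 1 (.leaf 439) (.leaf 1331))) (.node 1 (.leaf 972) (.node 1 (.leaf 921) (.leaf 1298))))
(.node 3 (.node 1 (.leaf 1290) (.node 1 (.leaf 127) (.leaf 1391))) (.node 1 (.leaf 536) (.node 1 (.leaf 499) (.leaf 433)))))
(.node 6 (.node 3 (.node 1 (.leaf 393) (.node 1 (.leaf 783) (.leaf 705))) (.node 1 (.leaf 1333) (.node 1 (.leaf 763) (.leaf 767))))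
(.node 3 (.node 1 (.leaf 1341) (.node 1 (.leaf 265) (.leaf 682))) (.node 1 (.leaf 141) (.node 1 (.leaf 241) (.leaf 307)))))))
(.node 24 (.node 12 (.node 6 (.node 3 (.node 1 (.leaf 859) (.node 1 (.leaf 130) (.leaf 911))) (.node 1 (.leaf 107) (.node 1 (.leaf 419) (.leaf 1499))))
(.node 3 (.node 1 (.leaf 713) (.node 1 (.leaf 144) (.leaf 1097))) (.node 1 (.leaf 586) (.node 1 (.leaf 711) (.leaf 919)))))
(.node 6 (.node 3 (.node 1 (.leaf 1187) (.node 1 (.leaf 981) (.leaf 1061))) (.node 1 (.leaf 881) (.node 1 (.leaf 797) (.leaf 1197))))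
(.node 3 (.node 1 (.leaf 29) (.node 1 (.leaf 466) (.leaf 901))) (.node 1 (.leaf 794) (.node 1 (.leaf 403) (.leaf 431))))))
(.node 12 (.node 6 (.node 3 (.node 1 (.leaf 117) (.node 1 (.leaf 1200) (.leaf 524))) (.node 1 (.leaf 438) (.node 1 (.leaf 213) (.leaf 334))))
(.node 3 (.node 1 (.leaf 836) (.node 1 (.leaf 289) (.leaf 1299))) (.node 1 (.leaf 1434) (.node 1 (.leaf 1148) (.leaf 224)))))
(.node 6 (.node 3 (.node 1 (.leaf 1094) (.node 1 (.leaf 616) (.leaf 1153))) (.node 1 (.leaf 1165) (.node 1 (.leaf 197) (.leaf 1478))))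
(.node 3 (.node 1 (.leaf 202) (.node 1 (.leaf 1493) (.leaf 53))) (.node 1 (.leaf 1183) (.node 1 (.leaf 30) (.leaf 856)))))))))
(.node 96 (.node 48 (.node 24 (.node 12 (.node 6 (.node 3 (.node 1 (.leaf 1494) (.node 1 (.leaf 1142) (.leaf 1205))) (.node 1 (.leaf 187) (.node 1 (.leaf 550) (.leaf 1535))))
(.node 3 (.node 1 (.leaf 1077) (.node 1 (.leaf 1369) (.leaf 268))) (.node 1 (.leaf 510) (.node 1 (.leaf 1486) (.leaf 159)))))
(.node 6 (.node 3 (.node 1 (.leaf 1528) (.node 1 (.leaf 445) (.leaf 1368))) (.node 1 (.leaf 68) (.node 1 (.leaf 20) (.leaf 19))))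
(.node 3 (.node 1 (.leaf 435) (.node 1 (.leaf 886) (.leaf 1245))) (.node 1 (.leaf 1062) (.node 1 (.leaf 344) (.leaf 227))))))
(.node 12 (.node 6 (.node 3 (.node 1 (.leaf 925) (.node 1 (.leaf 573) (.leaf 707))) (.node 1 (.leaf 1430) (.node 1 (.leaf 416) (.leaf 651))))
(.node 3 (.node 1 (.leaf 601) (.node 1 (.leaf 1137) (.leaf 461))) (.node 1 (.leaf 733) (.node 1 (.leaf 633) (.leaf 1383)))))
(.node 6 (.node 3 (.node 1 (.leaf 228) (.node 1 (.leaf 1129) (.leaf 955))) (.node 1 (.leaf 1042) (.node 1 (.leaf 15) (.leaf 10))))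
(.node 3 (.node 1 (.leaf 965) (.node 1 (.leaf 956) (.leaf 932))) (.node 1 (.leaf 1038) (.node 1 (.leaf 927) (.leaf 239)))))))
(.node 24 (.node 12 (.node 6 (.node 3 (.node 1 (.leaf 1449) (.node 1 (.leaf 142) (.leaf 760))) (.node 1 (.leaf 153) (.node 1 (.leaf 667) (.leaf 528))))
(.node 3 (.node 1 (.leaf 1270) (.node 1 (.leaf 1352) (.leaf 1332))) (.node 1 (.leaf 721) (.node 1 (.leaf 418) (.leaf 183)))))
(.node 6 (.node 3 (.node 1 (.leaf 884) (.node 1 (.leaf 367) (.leaf 1210))) (.node 1 (.leaf 1072) (.node 1 (.leaf 1224) (.leaf 409))))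
(.node 3 (.node 1 (.leaf 800) (.node 1 (.leaf 95) (.leaf 873))) (.node 1 (.leaf 362) (.node 1 (.leaf 751) (.leaf 1401))))))
(.node 12 (.node 6 (.node 3 (.node 1 (.leaf 670) (.node 1 (.leaf 736) (.leaf 1167))) (.node 1 (.leaf 1046) (.node 1 (.leaf 1268) (.leaf 1357))))
(.node 3 (.node 1 (.leaf 780) (.node 1 (.leaf 229) (.leaf 907))) (.node 1 (.leaf 377) (.node 1 (.leaf 623) (.leaf 1370)))))
(.node 6 (.node 3 (.node 1 (.leaf 389) (.node 1 (.leaf 469) (.leaf 628))) (.node 1 (.leaf 1426) (.node 1 (.leaf 753) (.leaf 498))))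
(.node 3 (.node 1 (.leaf 823) (.node 1 (.leaf 508) (.leaf 675))) (.node 1 (.leaf 256) (.node 1 (.leaf 1088) (.leaf 152))))))))
(.node 48 (.node 24 (.node 12 (.node 6 (.node 3 (.node 1 (.leaf 1238) (.node 1 (.leaf 175) (.leaf 158))) (.node 1 (.leaf 1069) (.node 1 (.leaf 426) (.leaf 1099))))
(.node 3 (.node 1 (.leaf 285) (.node 1 (.leaf 1003) (.leaf 848))) (.node 1 (.leaf 476) (.node 1 (.leaf 1017) (.leaf 217)))))
(.node 6 (.node 3 (.node 1 (.leaf 1014) (.node 1 (.leaf 821) (.leaf 1075))) (.node 1 (.leaf 553) (.node 1 (.leaf 1084) (.leaf 900))))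
(.node 3 (.node 1 (.leaf 874) (.node 1 (.leaf 6) (.leaf 937))) (.node 1 (.leaf 5) (.node 1 (.leaf 332) (.leaf 1191))))))
(.node 12 (.node 6 (.node 3 (.node 1 (.leaf 1296) (.node 1 (.leaf 13) (.leaf 1028))) (.node 1 (.leaf 1147) (.node 1 (.leaf 1001) (.leaf 966))))
(.node 3 (.node 1 (.leaf 807) (.node 1 (.leaf 1390) (.leaf 489))) (.node 1 (.leaf 1135) (.node 1 (.leaf 632) (.leaf 1109)))))
(.node 6 (.node 3 (.node 1 (.leaf 657) (.node 1 (.leaf 1214) (.leaf 356))) (.node 1 (.leaf 365) (.node 1 (.leaf 1232) (.leaf 1080))))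
(.node 3 (.node 1 (.leaf 772) (.node 1 (.leaf 302) (.leaf 1392))) (.node 1 (.leaf 914) (.node 1 (.leaf 929) (.leaf 704)))))))
(.node 24 (.node 12 (.node 6 (.node 3 (.node 1 (.leaf 149) (.node 1 (.leaf 1294) (.leaf 246))) (.node 1 (.leaf 1445) (.node 1 (.leaf 998) (.leaf 1052))))
(.node 3 (.node 1 (.leaf 342) (.node 1 (.leaf 104) (.leaf 120))) (.node 1 (.leaf 566) (.node 1 (.leaf 768) (.leaf 503)))))
(.node 6 (.node 3 (.node 1 (.leaf 1308) (.node 1 (.leaf 1095) (.leaf 894))) (.node 1 (.leaf 359) (.node 1 (.leaf 273) (.leaf 1319))))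
(.node 3 (.node 1 (.leaf 1065) (.node 1 (.leaf 815) (.leaf 339))) (.node 1 (.leaf 1011) (.node 1 (.leaf 1517) (.leaf 318))))))
(.node 12 (.node 6 (.node 3 (.node 1 (.leaf 383) (.node 1 (.leaf 1506) (.leaf 688))) (.node 1 (.leaf 363) (.node 1 (.leaf 1336) (.leaf 1351))))
(.node 3 (.node 1 (.leaf 752) (.node 1 (.leaf 1027) (.leaf 442))) (.node 1 (.leaf 695) (.node 1 (.leaf 357) (.leaf 1295)))))
(.node 6 (.node 3 (.node 1 (.leaf 840) (.node 1 (.leaf 1302) (.leaf 726))) (.node 1 (.leaf 1460) (.node 1 (.leaf 390) (.leaf 1501))))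
(.node 3 (.node 1 (.leaf 47) (.node 1 (.leaf 1328) (.leaf 791))) (.node 1 (.leaf 680) (.node 1 (.leaf 98) (.leaf 851))))))))))

/-- The inverse action. -/
def caseAFullInv1LR : Tab ℕ :=
(.node 192 (.node 96 (.node 48 (.node 24 (.node 12 (.node 6 (.node 3 (.node 1 (.leaf 607) (.node 1 (.leaf 1120) (.leaf 195))) (.node 1 (.leaf 1425) (.node 1 (.leaf 850) (.leaf 1448))))
(.node 3 (.node 1 (.leaf 343) (.node 1 (.leaf 1086) (.leaf 975))) (.node 1 (.leaf 730) (.node 1 (.leaf 974) (.leaf 818)))))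
(.node 6 (.node 3 (.node 1 (.leaf 316) (.node 1 (.leaf 1468) (.leaf 1529))) (.node 1 (.leaf 400) (.node 1 (.leaf 571) (.leaf 1157))))
(.node 3 (.node 1 (.leaf 611) (.node 1 (.leaf 994) (.leaf 86))) (.node 1 (.leaf 983) (.node 1 (.leaf 1096) (.leaf 71))))))
(.node 12 (.node 6 (.node 3 (.node 1 (.leaf 84) (.node 1 (.leaf 110) (.leaf 1484))) (.node 1 (.leaf 284) (.node 1 (.leaf 824) (.leaf 9))))
(.node 3 (.node 1 (.leaf 694) (.node 1 (.leaf 762) (.leaf 673))) (.node 1 (.leaf 287) (.node 1 (.leaf 1229) (.leaf 1374)))))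
(.node 6 (.node 3 (.node 1 (.leaf 100) (.node 1 (.leaf 240) (.leaf 1450))) (.node 1 (.leaf 394) (.node 1 (.leaf 443) (.leaf 922))))
(.node 3 (.node 1 (.leaf 180) (.node 1 (.leaf 459) (.leaf 963))) (.node 1 (.leaf 75) (.node 1 (.leaf 898) (.leaf 1131)))))))
(.node 24 (.node 12 (.node 6 (.node 3 (.node 1 (.leaf 422) (.node 1 (.leaf 335) (.leaf 521))) (.node 1 (.leaf 1107) (.node 1 (.leaf 862) (.leaf 1106))))
(.node 3 (.node 1 (.leaf 480) (.node 1 (.leaf 525) (.leaf 845))) (.node 1 (.leaf 1010) (.node 1 (.leaf 761) (.leaf 424)))))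
(.node 6 (.node 3 (.node 1 (.leaf 358) (.node 1 (.leaf 106) (.leaf 446))) (.node 1 (.leaf 270) (.node 1 (.leaf 530) (.leaf 1511))))
(.node 3 (.node 1 (.leaf 139) (.node 1 (.leaf 279) (.leaf 587))) (.node 1 (.leaf 1407) (.node 1 (.leaf 1255) (.leaf 522))))))
(.node 12 (.node 6 (.node 3 (.node 1 (.leaf 369) (.node 1 (.leaf 766) (.leaf 714))) (.node 1 (.leaf 1359) (.node 1 (.leaf 456) (.leaf 1140))))
(.node 3 (.node 1 (.leaf 1196) (.node 1 (.leaf 49) (.leaf 1461))) (.node 1 (.leaf 729) (.node 1 (.leaf 585) (.leaf 210)))))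
(.node 6 (.node 3 (.node 1 (.leaf 1453) (.node 1 (.leaf 90) (.leaf 298))) (.node 1 (.leaf 1349) (.node 1 (.leaf 472) (.leaf 1419))))
(.node 3 (.node 1 (.leaf 568) (.node 1 (.leaf 1066) (.leaf 182))) (.node 1 (.leaf 779) (.node 1 (.leaf 1365) (.leaf 786))))))))
(.node 48 (.node 24 (.node 12 (.node 6 (.node 3 (.node 1 (.leaf 32) (.node 1 (.leaf 638) (.leaf 1382))) (.node 1 (.leaf 193) (.node 1 (.leaf 484) (.leaf 1409))))
(.node 3 (.node 1 (.leaf 1182) (.node 1 (.leaf 621) (.leaf 206))) (.node 1 (.leaf 174) (.node 1 (.leaf 1505) (.leaf 1289)))))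
(.node 6 (.node 3 (.node 1 (.leaf 83) (.node 1 (.leaf 493) (.leaf 397))) (.node 1 (.leaf 115) (.node 1 (.leaf 939) (.leaf 1230))))
(.node 3 (.node 1 (.leaf 281) (.node 1 (.leaf 620) (.leaf 1510))) (.node 1 (.leaf 1376) (.node 1 (.leaf 258) (.leaf 946))))))
(.node 12 (.node 6 (.node 3 (.node 1 (.leaf 504) (.node 1 (.leaf 1005) (.leaf 590))) (.node 1 (.leaf 1386) (.node 1 (.leaf 283) (.leaf 709))))
(.node 3 (.node 1 (.leaf 1048) (.node 1 (.leaf 681) (.leaf 828))) (.node 1 (.leaf 666) (.node 1 (.leaf 987) (.leaf 770)))))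
(.node 6 (.node 3 (.node 1 (.leaf 465) (.node 1 (.leaf 78) (.leaf 513))) (.node 1 (.leaf 546) (.node 1 (.leaf 1474) (.leaf 596))))
(.node 3 (.node 1 (.leaf 1248) (.node 1 (.leaf 523) (.leaf 170))) (.node 1 (.leaf 538) (.node 1 (.leaf 1057) (.leaf 608)))))))
(.node 24 (.node 12 (.node 6 (.node 3 (.node 1 (.leaf 245) (.node 1 (.leaf 1451) (.leaf 757))) (.node 1 (.leaf 1171) (.node 1 (.leaf 1305) (.leaf 328))))
(.node 3 (.node 1 (.leaf 1134) (.node 1 (.leaf 1399) (.leaf 168))) (.node 1 (.leaf 1236) (.node 1 (.leaf 121) (.leaf 1261)))))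
(.node 6 (.node 3 (.node 1 (.leaf 1476) (.node 1 (.leaf 708) (.leaf 1372))) (.node 1 (.leaf 1403) (.node 1 (.leaf 744) (.leaf 1303))))
(.node 3 (.node 1 (.leaf 583) (.node 1 (.leaf 996) (.leaf 172))) (.node 1 (.leaf 27) (.node 1 (.leaf 196) (.leaf 1534))))))
(.node 12 (.node 6 (.node 3 (.node 1 (.leaf 1269) (.node 1 (.leaf 997) (.leaf 453))) (.node 1 (.leaf 1342) (.node 1 (.leaf 745) (.leaf 205))))
(.node 3 (.node 1 (.leaf 295) (.node 1 (.leaf 123) (.leaf 1274))) (.node 1 (.leaf 684) (.node 1 (.leaf 576) (.leaf 1287)))))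
(.node 6 (.node 3 (.node 1 (.leaf 1355) (.node 1 (.leaf 986) (.leaf 405))) (.node 1 (.leaf 554) (.node 1 (.leaf 1304) (.leaf 173))))
(.node 3 (.node 1 (.leaf 290) (.node 1 (.leaf 1472) (.leaf 660))) (.node 1 (.leaf 1323) (.node 1 (.leaf 14) (.leaf 1063)))))))))
(.node 96 (.node 48 (.node 24 (.node 12 (.node 6 (.node 3 (.node 1 (.leaf 988) (.node 1 (.leaf 625) (.leaf 1346))) (.node 1 (.leaf 518) (.node 1 (.leaf 899) (.leaf 613))))
(.node 3 (.node 1 (.leaf 437) (.node 1 (.leaf 816) (.leaf 1143))) (.node 1 (.leaf 654) (.node 1 (.leaf 1533) (.leaf 452)))))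
(.node 6 (.node 3 (.node 1 (.leaf 866) (.node 1 (.leaf 169) (.leaf 312))) (.node 1 (.leaf 414) (.node 1 (.leaf 985) (.leaf 1373))))
(.node 3 (.node 1 (.leaf 199) (.node 1 (.leaf 917) (.leaf 910))) (.node 1 (.leaf 609) (.node 1 (.leaf 737) (.leaf 719))))))
(.node 12 (.node 6 (.node 3 (.node 1 (.leaf 995) (.node 1 (.leaf 909) (.leaf 959))) (.node 1 (.leaf 1452) (.node 1 (.leaf 954) (.leaf 21))))
(.node 3 (.node 1 (.leaf 610) (.node 1 (.leaf 822) (.leaf 697))) (.node 1 (.leaf 1475) (.node 1 (.leaf 1150) (.leaf 216)))))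
(.node 6 (.node 3 (.node 1 (.leaf 401) (.node 1 (.leaf 44) (.leaf 1215))) (.node 1 (.leaf 325) (.node 1 (.leaf 1354) (.leaf 70))))
(.node 3 (.node 1 (.leaf 1163) (.node 1 (.leaf 1458) (.leaf 145))) (.node 1 (.leaf 487) (.node 1 (.leaf 942) (.leaf 936)))))))
(.node 24 (.node 12 (.node 6 (.node 3 (.node 1 (.leaf 541) (.node 1 (.leaf 189) (.leaf 973))) (.node 1 (.leaf 1361) (.node 1 (.leaf 924) (.leaf 87))))
(.node 3 (.node 1 (.leaf 868) (.node 1 (.leaf 1283) (.leaf 79))) (.node 1 (.leaf 209) (.node 1 (.leaf 1525) (.leaf 167)))))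
(.node 6 (.node 3 (.node 1 (.leaf 597) (.node 1 (.leaf 1428) (.leaf 804))) (.node 1 (.leaf 1212) (.node 1 (.leaf 341) (.leaf 235))))
(.node 3 (.node 1 (.leaf 781) (.node 1 (.leaf 1079) (.leaf 220))) (.node 1 (.leaf 1081) (.node 1 (.leaf 1225) (.leaf 1159))))))
(.node 12 (.node 6 (.node 3 (.node 1 (.leaf 655) (.node 1 (.leaf 629) (.leaf 1237))) (.node 1 (.leaf 221) (.node 1 (.leaf 801) (.leaf 425))))
(.node 3 (.node 1 (.leaf 163) (.node 1 (.leaf 935) (.leaf 1344))) (.node 1 (.leaf 1035) (.node 1 (.leaf 1288) (.leaf 1082)))))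
(.node 6 (.node 3 (.node 1 (.leaf 960) (.node 1 (.leaf 237) (.leaf 1181))) (.node 1 (.leaf 1070) (.node 1 (.leaf 207) (.leaf 792))))
(.node 3 (.node 1 (.leaf 579) (.node 1 (.leaf 588) (.leaf 1326))) (.node 1 (.leaf 451) (.node 1 (.leaf 902) (.leaf 947))))))))
(.node 48 (.node 24 (.node 12 (.node 6 (.node 3 (.node 1 (.leaf 1504) (.node 1 (.leaf 644) (.leaf 1040))) (.node 1 (.leaf 1350) (.node 1 (.leaf 531) (.leaf 897))))
(.node 3 (.node 1 (.leaf 1364) (.node 1 (.leaf 67) (.leaf 847))) (.node 1 (.leaf 1240) (.node 1 (.leaf 1265) (.leaf 683)))))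
(.node 6 (.node 3 (.node 1 (.leaf 1524) (.node 1 (.leaf 1174) (.leaf 1030))) (.node 1 (.leaf 329) (.node 1 (.leaf 1018) (.leaf 1019))))
(.node 3 (.node 1 (.leaf 1300) (.node 1 (.leaf 516) (.leaf 118))) (.node 1 (.leaf 136) (.node 1 (.leaf 1049) (.leaf 460))))))
(.node 12 (.node 6 (.node 3 (.node 1 (.leaf 161) (.node 1 (.leaf 4) (.leaf 481))) (.node 1 (.leaf 732) (.node 1 (.leaf 1041) (.leaf 204))))
(.node 3 (.node 1 (.leaf 486) (.node 1 (.leaf 372) (.leaf 131))) (.node 1 (.leaf 415) (.node 1 (.leaf 727) (.leaf 330)))))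
(.node 6 (.node 3 (.node 1 (.leaf 895) (.node 1 (.leaf 315) (.leaf 59))) (.node 1 (.leaf 1408) (.node 1 (.leaf 57) (.leaf 150))))
(.node 3 (.node 1 (.leaf 50) (.node 1 (.leaf 539) (.leaf 45))) (.node 1 (.leaf 1335) (.node 1 (.leaf 817) (.leaf 147)))))))
(.node 24 (.node 12 (.node 6 (.node 3 (.node 1 (.leaf 774) (.node 1 (.leaf 741) (.leaf 1194))) (.node 1 (.leaf 113) (.node 1 (.leaf 495) (.leaf 692))))
(.node 3 (.node 1 (.leaf 1152) (.node 1 (.leaf 679) (.leaf 247))) (.node 1 (.leaf 691) (.node 1 (.leaf 65) (.leaf 534)))))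
(.node 6 (.node 3 (.node 1 (.leaf 479) (.node 1 (.leaf 915) (.leaf 693))) (.node 1 (.leaf 1363) (.node 1 (.leaf 450) (.leaf 1026))))
(.node 3 (.node 1 (.leaf 738) (.node 1 (.leaf 1162) (.leaf 728))) (.node 1 (.leaf 1491) (.node 1 (.leaf 101) (.leaf 254))))))
(.node 12 (.node 6 (.node 3 (.node 1 (.leaf 602) (.node 1 (.leaf 686) (.leaf 990))) (.node 1 (.leaf 1243) (.node 1 (.leaf 1348) (.leaf 1473))))
(.node 3 (.node 1 (.leaf 128) (.node 1 (.leaf 515) (.leaf 366))) (.node 1 (.leaf 138) (.node 1 (.leaf 718) (.leaf 755)))))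
(.node 6 (.node 3 (.node 1 (.leaf 455) (.node 1 (.leaf 993) (.leaf 999))) (.node 1 (.leaf 458) (.node 1 (.leaf 1022) (.leaf 1244))))
(.node 3 (.node 1 (.leaf 134) (.node 1 (.leaf 734) (.leaf 645))) (.node 1 (.leaf 349) (.node 1 (.leaf 659) (.leaf 1495))))))))))

/-- The inverse action. -/
def caseAFullInv1L : Tab ℕ := .node 384 caseAFullInv1LL caseAFullInv1LR

/-- The inverse action. -/
def caseAFullInv1RL : Tab ℕ :=
(.node 192 (.node 96 (.node 48 (.node 24 (.node 12 (.node 6 (.node 3 (.node 1 (.leaf 354) (.node 1 (.leaf 1418) (.leaf 262))) (.node 1 (.leaf 473) (.node 1 (.leaf 218) (.leaf 716))))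
(.node 3 (.node 1 (.leaf 769) (.node 1 (.leaf 309) (.leaf 1347))) (.node 1 (.leaf 639) (.node 1 (.leaf 712) (.leaf 1471)))))
(.node 6 (.node 3 (.node 1 (.leaf 790) (.node 1 (.leaf 662) (.leaf 875))) (.node 1 (.leaf 784) (.node 1 (.leaf 1085) (.leaf 85))))
(.node 3 (.node 1 (.leaf 699) (.node 1 (.leaf 225) (.leaf 321))) (.node 1 (.leaf 605) (.node 1 (.leaf 447) (.leaf 380))))))
(.node 12 (.node 6 (.node 3 (.node 1 (.leaf 547) (.node 1 (.leaf 653) (.leaf 165))) (.node 1 (.leaf 702) (.node 1 (.leaf 913) (.leaf 619))))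
(.node 3 (.node 1 (.leaf 1420) (.node 1 (.leaf 331) (.leaf 1123))) (.node 1 (.leaf 1006) (.node 1 (.leaf 802) (.leaf 843)))))
(.node 6 (.node 3 (.node 1 (.leaf 698) (.node 1 (.leaf 589) (.leaf 1125))) (.node 1 (.leaf 351) (.node 1 (.leaf 1124) (.leaf 1202))))
(.node 3 (.node 1 (.leaf 1381) (.node 1 (.leaf 1307) (.leaf 512))) (.node 1 (.leaf 1) (.node 1 (.leaf 1380) (.leaf 272)))))))
(.node 24 (.node 12 (.node 6 (.node 3 (.node 1 (.leaf 519) (.node 1 (.leaf 1149) (.leaf 1000))) (.node 1 (.leaf 1218) (.node 1 (.leaf 1306) (.leaf 301))))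
(.node 3 (.node 1 (.leaf 1220) (.node 1 (.leaf 834) (.leaf 1439))) (.node 1 (.leaf 427) (.node 1 (.leaf 593) (.leaf 112)))))
(.node 6 (.node 3 (.node 1 (.leaf 1465) (.node 1 (.leaf 1378) (.leaf 906))) (.node 1 (.leaf 952) (.node 1 (.leaf 561) (.leaf 92))))
(.node 3 (.node 1 (.leaf 982) (.node 1 (.leaf 1051) (.leaf 320))) (.node 1 (.leaf 1360) (.node 1 (.leaf 750) (.leaf 1071))))))
(.node 12 (.node 6 (.node 3 (.node 1 (.leaf 39) (.node 1 (.leaf 1219) (.leaf 203))) (.node 1 (.leaf 803) (.node 1 (.leaf 1467) (.leaf 440))))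
(.node 3 (.node 1 (.leaf 1226) (.node 1 (.leaf 102) (.leaf 1176))) (.node 1 (.leaf 347) (.node 1 (.leaf 388) (.leaf 1203)))))
(.node 6 (.node 3 (.node 1 (.leaf 1118) (.node 1 (.leaf 1309) (.leaf 1277))) (.node 1 (.leaf 1531) (.node 1 (.leaf 191) (.leaf 310))))
(.node 3 (.node 1 (.leaf 336) (.node 1 (.leaf 1222) (.leaf 1047))) (.node 1 (.leaf 1421) (.node 1 (.leaf 468) (.leaf 2))))))))
(.node 48 (.node 24 (.node 12 (.node 6 (.node 3 (.node 1 (.leaf 631) (.node 1 (.leaf 640) (.leaf 244))) (.node 1 (.leaf 277) (.node 1 (.leaf 971) (.leaf 1489))))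
(.node 3 (.node 1 (.leaf 324) (.node 1 (.leaf 606) (.leaf 97))) (.node 1 (.leaf 260) (.node 1 (.leaf 1206) (.leaf 782)))))
(.node 6 (.node 3 (.node 1 (.leaf 883) (.node 1 (.leaf 1427) (.leaf 494))) (.node 1 (.leaf 1284) (.node 1 (.leaf 617) (.leaf 842))))
(.node 3 (.node 1 (.leaf 961) (.node 1 (.leaf 157) (.leaf 497))) (.node 1 (.leaf 1256) (.node 1 (.leaf 43) (.leaf 1398))))))
(.node 12 (.node 6 (.node 3 (.node 1 (.leaf 264) (.node 1 (.leaf 696) (.leaf 35))) (.node 1 (.leaf 598) (.node 1 (.leaf 1530) (.leaf 529))))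
(.node 3 (.node 1 (.leaf 313) (.node 1 (.leaf 624) (.leaf 1422))) (.node 1 (.leaf 537) (.node 1 (.leaf 430) (.leaf 580)))))
(.node 6 (.node 3 (.node 1 (.leaf 1247) (.node 1 (.leaf 164) (.leaf 888))) (.node 1 (.leaf 212) (.node 1 (.leaf 288) (.leaf 1405))))
(.node 3 (.node 1 (.leaf 1116) (.node 1 (.leaf 355) (.leaf 278))) (.node 1 (.leaf 22) (.node 1 (.leaf 434) (.leaf 1164)))))))
(.node 24 (.node 12 (.node 6 (.node 3 (.node 1 (.leaf 1251) (.node 1 (.leaf 796) (.leaf 333))) (.node 1 (.leaf 787) (.node 1 (.leaf 63) (.leaf 678))))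
(.node 3 (.node 1 (.leaf 154) (.node 1 (.leaf 291) (.leaf 1286))) (.node 1 (.leaf 124) (.node 1 (.leaf 793) (.leaf 648)))))
(.node 6 (.node 3 (.node 1 (.leaf 908) (.node 1 (.leaf 402) (.leaf 215))) (.node 1 (.leaf 238) (.node 1 (.leaf 969) (.leaf 569))))
(.node 3 (.node 1 (.leaf 1311) (.node 1 (.leaf 166) (.leaf 1161))) (.node 1 (.leaf 819) (.node 1 (.leaf 232) (.leaf 923))))))
(.node 12 (.node 6 (.node 3 (.node 1 (.leaf 1012) (.node 1 (.leaf 1138) (.leaf 485))) (.node 1 (.leaf 496) (.node 1 (.leaf 1108) (.leaf 945))))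
(.node 3 (.node 1 (.leaf 622) (.node 1 (.leaf 777) (.leaf 912))) (.node 1 (.leaf 672) (.node 1 (.leaf 849) (.leaf 798)))))
(.node 6 (.node 3 (.node 1 (.leaf 379) (.node 1 (.leaf 201) (.leaf 178))) (.node 1 (.leaf 305) (.node 1 (.leaf 1435) (.leaf 1315))))
(.node 3 (.node 1 (.leaf 1275) (.node 1 (.leaf 230) (.leaf 1160))) (.node 1 (.leaf 957) (.node 1 (.leaf 1375) (.leaf 544)))))))))
(.node 96 (.node 48 (.node 24 (.node 12 (.node 6 (.node 3 (.node 1 (.leaf 1322) (.node 1 (.leaf 1485) (.leaf 1379))) (.node 1 (.leaf 64) (.node 1 (.leaf 429) (.leaf 1033))))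
(.node 3 (.node 1 (.leaf 317) (.node 1 (.leaf 11) (.leaf 257))) (.node 1 (.leaf 1192) (.node 1 (.leaf 82) (.leaf 1141)))))
(.node 6 (.node 3 (.node 1 (.leaf 1091) (.node 1 (.leaf 1146) (.leaf 66))) (.node 1 (.leaf 1217) (.node 1 (.leaf 1412) (.leaf 562))))
(.node 3 (.node 1 (.leaf 88) (.node 1 (.leaf 303) (.leaf 1132))) (.node 1 (.leaf 876) (.node 1 (.leaf 282) (.leaf 345))))))
(.node 12 (.node 6 (.node 3 (.node 1 (.leaf 412) (.node 1 (.leaf 980) (.leaf 618))) (.node 1 (.leaf 514) (.node 1 (.leaf 977) (.leaf 896))))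
(.node 3 (.node 1 (.leaf 1278) (.node 1 (.leaf 893) (.leaf 775))) (.node 1 (.leaf 448) (.node 1 (.leaf 931) (.leaf 600)))))
(.node 6 (.node 3 (.node 1 (.leaf 665) (.node 1 (.leaf 979) (.leaf 162))) (.node 1 (.leaf 449) (.node 1 (.leaf 1115) (.leaf 1469))))
(.node 3 (.node 1 (.leaf 1002) (.node 1 (.leaf 1175) (.leaf 1004))) (.node 1 (.leaf 505) (.node 1 (.leaf 1227) (.leaf 375)))))))
(.node 24 (.node 12 (.node 6 (.node 3 (.node 1 (.leaf 1389) (.node 1 (.leaf 374) (.leaf 650))) (.node 1 (.leaf 1457) (.node 1 (.leaf 274) (.leaf 1013))))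
(.node 3 (.node 1 (.leaf 575) (.node 1 (.leaf 1190) (.leaf 1007))) (.node 1 (.leaf 1404) (.node 1 (.leaf 261) (.leaf 1279)))))
(.node 6 (.node 3 (.node 1 (.leaf 1396) (.node 1 (.leaf 1151) (.leaf 1406))) (.node 1 (.leaf 1340) (.node 1 (.leaf 903) (.leaf 689))))
(.node 3 (.node 1 (.leaf 891) (.node 1 (.leaf 1402) (.leaf 314))) (.node 1 (.leaf 40) (.node 1 (.leaf 556) (.leaf 1482))))))
(.node 12 (.node 6 (.node 3 (.node 1 (.leaf 880) (.node 1 (.leaf 7) (.leaf 491))) (.node 1 (.leaf 870) (.node 1 (.leaf 1076) (.leaf 835))))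
(.node 3 (.node 1 (.leaf 1056) (.node 1 (.leaf 1272) (.leaf 1179))) (.node 1 (.leaf 700) (.node 1 (.leaf 1122) (.leaf 1329)))))
(.node 6 (.node 3 (.node 1 (.leaf 833) (.node 1 (.leaf 1045) (.leaf 267))) (.node 1 (.leaf 860) (.node 1 (.leaf 949) (.leaf 591))))
(.node 3 (.node 1 (.leaf 1395) (.node 1 (.leaf 1253) (.leaf 865))) (.node 1 (.leaf 1104) (.node 1 (.leaf 743) (.leaf 108))))))))
(.node 48 (.node 24 (.node 12 (.node 6 (.node 3 (.node 1 (.leaf 661) (.node 1 (.leaf 361) (.leaf 1089))) (.node 1 (.leaf 184) (.node 1 (.leaf 649) (.leaf 570))))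
(.node 3 (.node 1 (.leaf 548) (.node 1 (.leaf 300) (.leaf 33))) (.node 1 (.leaf 346) (.node 1 (.leaf 861) (.leaf 1481)))))
(.node 6 (.node 3 (.node 1 (.leaf 560) (.node 1 (.leaf 155) (.leaf 643))) (.node 1 (.leaf 839) (.node 1 (.leaf 255) (.leaf 126))))
(.node 3 (.node 1 (.leaf 1490) (.node 1 (.leaf 799) (.leaf 1036))) (.node 1 (.leaf 552) (.node 1 (.leaf 181) (.leaf 663))))))
(.node 12 (.node 6 (.node 3 (.node 1 (.leaf 1239) (.node 1 (.leaf 73) (.leaf 457))) (.node 1 (.leaf 1021) (.node 1 (.leaf 656) (.leaf 133))))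
(.node 3 (.node 1 (.leaf 391) (.node 1 (.leaf 31) (.leaf 286))) (.node 1 (.leaf 1154) (.node 1 (.leaf 717) (.leaf 559)))))
(.node 6 (.node 3 (.node 1 (.leaf 1367) (.node 1 (.leaf 1387) (.leaf 292))) (.node 1 (.leaf 1312) (.node 1 (.leaf 406) (.leaf 417))))
(.node 3 (.node 1 (.leaf 928) (.node 1 (.leaf 293) (.leaf 1100))) (.node 1 (.leaf 789) (.node 1 (.leaf 814) (.leaf 626)))))))
(.node 24 (.node 12 (.node 6 (.node 3 (.node 1 (.leaf 872) (.node 1 (.leaf 846) (.leaf 1466))) (.node 1 (.leaf 467) (.node 1 (.leaf 1522) (.leaf 111))))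
(.node 3 (.node 1 (.leaf 1353) (.node 1 (.leaf 1177) (.leaf 1172))) (.node 1 (.leaf 1193) (.node 1 (.leaf 1515) (.leaf 395)))))
(.node 6 (.node 3 (.node 1 (.leaf 1254) (.node 1 (.leaf 34) (.leaf 490))) (.node 1 (.leaf 56) (.node 1 (.leaf 420) (.leaf 140))))
(.node 3 (.node 1 (.leaf 17) (.node 1 (.leaf 502) (.leaf 156))) (.node 1 (.leaf 263) (.node 1 (.leaf 542) (.leaf 1223))))))
(.node 12 (.node 6 (.node 3 (.node 1 (.leaf 1128) (.node 1 (.leaf 1433) (.leaf 373))) (.node 1 (.leaf 635) (.node 1 (.leaf 592) (.leaf 501))))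
(.node 3 (.node 1 (.leaf 1345) (.node 1 (.leaf 1492) (.leaf 186))) (.node 1 (.leaf 1334) (.node 1 (.leaf 77) (.leaf 1318)))))
(.node 6 (.node 3 (.node 1 (.leaf 179) (.node 1 (.leaf 630) (.leaf 1446))) (.node 1 (.leaf 520) (.node 1 (.leaf 940) (.leaf 1233))))
(.node 3 (.node 1 (.leaf 1103) (.node 1 (.leaf 509) (.leaf 1339))) (.node 1 (.leaf 754) (.node 1 (.leaf 871) (.leaf 41))))))))))

/-- The inverse action. -/
def caseAFullInv1RR : Tab ℕ :=
(.node 192 (.node 96 (.node 48 (.node 24 (.node 12 (.node 6 (.node 3 (.node 1 (.leaf 1009) (.node 1 (.leaf 297) (.leaf 1462))) (.node 1 (.leaf 844) (.node 1 (.leaf 135) (.leaf 1523))))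
(.node 3 (.node 1 (.leaf 1263) (.node 1 (.leaf 176) (.leaf 641))) (.node 1 (.leaf 1216) (.node 1 (.leaf 739) (.leaf 565)))))
(.node 6 (.node 3 (.node 1 (.leaf 109) (.node 1 (.leaf 23) (.leaf 1246))) (.node 1 (.leaf 1521) (.node 1 (.leaf 444) (.leaf 1271))))
(.node 3 (.node 1 (.leaf 1126) (.node 1 (.leaf 1393) (.leaf 507))) (.node 1 (.leaf 904) (.node 1 (.leaf 685) (.leaf 558))))))
(.node 12 (.node 6 (.node 3 (.node 1 (.leaf 1204) (.node 1 (.leaf 348) (.leaf 306))) (.node 1 (.leaf 54) (.node 1 (.leaf 664) (.leaf 642))))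
(.node 3 (.node 1 (.leaf 795) (.node 1 (.leaf 577) (.leaf 214))) (.node 1 (.leaf 55) (.node 1 (.leaf 1186) (.leaf 808)))))
(.node 6 (.node 3 (.node 1 (.leaf 933) (.node 1 (.leaf 1416) (.leaf 1015))) (.node 1 (.leaf 1119) (.node 1 (.leaf 1098) (.leaf 353))))
(.node 3 (.node 1 (.leaf 722) (.node 1 (.leaf 1133) (.leaf 1456))) (.node 1 (.leaf 889) (.node 1 (.leaf 1459) (.leaf 1068)))))))
(.node 24 (.node 12 (.node 6 (.node 3 (.node 1 (.leaf 805) (.node 1 (.leaf 266) (.leaf 1297))) (.node 1 (.leaf 360) (.node 1 (.leaf 296) (.leaf 194))))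
(.node 3 (.node 1 (.leaf 1178) (.node 1 (.leaf 1291) (.leaf 1317))) (.node 1 (.leaf 1055) (.node 1 (.leaf 1054) (.leaf 1483)))))
(.node 6 (.node 3 (.node 1 (.leaf 943) (.node 1 (.leaf 1519) (.leaf 1362))) (.node 1 (.leaf 614) (.node 1 (.leaf 236) (.leaf 1266))))
(.node 3 (.node 1 (.leaf 1188) (.node 1 (.leaf 1258) (.leaf 384))) (.node 1 (.leaf 725) (.node 1 (.leaf 151) (.leaf 1127))))))
(.node 12 (.node 6 (.node 3 (.node 1 (.leaf 294) (.node 1 (.leaf 337) (.leaf 48))) (.node 1 (.leaf 652) (.node 1 (.leaf 1209) (.leaf 1479))))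
(.node 3 (.node 1 (.leaf 252) (.node 1 (.leaf 1231) (.leaf 69))) (.node 1 (.leaf 853) (.node 1 (.leaf 96) (.leaf 1242)))))
(.node 6 (.node 3 (.node 1 (.leaf 677) (.node 1 (.leaf 441) (.leaf 1173))) (.node 1 (.leaf 687) (.node 1 (.leaf 1410) (.leaf 771))))
(.node 3 (.node 1 (.leaf 1198) (.node 1 (.leaf 747) (.leaf 368))) (.node 1 (.leaf 1024) (.node 1 (.leaf 1166) (.leaf 951))))))))
(.node 48 (.node 24 (.node 12 (.node 6 (.node 3 (.node 1 (.leaf 756) (.node 1 (.leaf 1044) (.leaf 428))) (.node 1 (.leaf 1301) (.node 1 (.leaf 185) (.leaf 1037))))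
(.node 3 (.node 1 (.leaf 830) (.node 1 (.leaf 1400) (.leaf 962))) (.node 1 (.leaf 882) (.node 1 (.leaf 1276) (.leaf 545)))))
(.node 6 (.node 3 (.node 1 (.leaf 948) (.node 1 (.leaf 1532) (.leaf 1415))) (.node 1 (.leaf 1158) (.node 1 (.leaf 1264) (.leaf 1121))))
(.node 3 (.node 1 (.leaf 392) (.node 1 (.leaf 1330) (.leaf 1437))) (.node 1 (.leaf 198) (.node 1 (.leaf 1464) (.leaf 1169))))))
(.node 12 (.node 6 (.node 3 (.node 1 (.leaf 1039) (.node 1 (.leaf 148) (.leaf 1199))) (.node 1 (.leaf 16) (.node 1 (.leaf 841) (.leaf 854))))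
(.node 3 (.node 1 (.leaf 1394) (.node 1 (.leaf 1025) (.leaf 60))) (.node 1 (.leaf 1514) (.node 1 (.leaf 1282) (.leaf 1358)))))
(.node 6 (.node 3 (.node 1 (.leaf 1325) (.node 1 (.leaf 454) (.leaf 920))) (.node 1 (.leaf 563) (.node 1 (.leaf 208) (.leaf 72))))
(.node 3 (.node 1 (.leaf 1313) (.node 1 (.leaf 1207) (.leaf 989))) (.node 1 (.leaf 488) (.node 1 (.leaf 646) (.leaf 1117)))))))
(.node 24 (.node 12 (.node 6 (.node 3 (.node 1 (.leaf 506) (.node 1 (.leaf 1500) (.leaf 125))) (.node 1 (.leaf 647) (.node 1 (.leaf 690) (.leaf 944))))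
(.node 3 (.node 1 (.leaf 42) (.node 1 (.leaf 1411) (.leaf 1442))) (.node 1 (.leaf 319) (.node 1 (.leaf 820) (.leaf 500)))))
(.node 6 (.node 3 (.node 1 (.leaf 1111) (.node 1 (.leaf 1145) (.leaf 276))) (.node 1 (.leaf 930) (.node 1 (.leaf 765) (.leaf 1073))))
(.node 3 (.node 1 (.leaf 1371) (.node 1 (.leaf 1424) (.leaf 404))) (.node 1 (.leaf 1185) (.node 1 (.leaf 710) (.leaf 1113))))))
(.node 12 (.node 6 (.node 3 (.node 1 (.leaf 1262) (.node 1 (.leaf 322) (.leaf 572))) (.node 1 (.leaf 299) (.node 1 (.leaf 1156) (.leaf 1455))))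
(.node 3 (.node 1 (.leaf 668) (.node 1 (.leaf 1441) (.leaf 1260))) (.node 1 (.leaf 887) (.node 1 (.leaf 259) (.leaf 219)))))
(.node 6 (.node 3 (.node 1 (.leaf 116) (.node 1 (.leaf 1324) (.leaf 1337))) (.node 1 (.leaf 105) (.node 1 (.leaf 364) (.leaf 223))))
(.node 3 (.node 1 (.leaf 1338) (.node 1 (.leaf 950) (.leaf 1023))) (.node 1 (.leaf 280) (.node 1 (.leaf 1463) (.leaf 724)))))))))
(.node 96 (.node 48 (.node 24 (.node 12 (.node 6 (.node 3 (.node 1 (.leaf 304) (.node 1 (.leaf 731) (.leaf 578))) (.node 1 (.leaf 776) (.node 1 (.leaf 482) (.leaf 471))))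
(.node 3 (.node 1 (.leaf 411) (.node 1 (.leaf 1477) (.leaf 740))) (.node 1 (.leaf 905) (.node 1 (.leaf 1078) (.leaf 564)))))
(.node 6 (.node 3 (.node 1 (.leaf 934) (.node 1 (.leaf 1031) (.leaf 864))) (.node 1 (.leaf 825) (.node 1 (.leaf 1092) (.leaf 627))))
(.node 3 (.node 1 (.leaf 615) (.node 1 (.leaf 1516) (.leaf 595))) (.node 1 (.leaf 517) (.node 1 (.leaf 477) (.leaf 837))))))
(.node 12 (.node 6 (.node 3 (.node 1 (.leaf 1293) (.node 1 (.leaf 1385) (.leaf 275))) (.node 1 (.leaf 1314) (.node 1 (.leaf 1170) (.leaf 1447))))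
(.node 3 (.node 1 (.leaf 1273) (.node 1 (.leaf 958) (.leaf 1195))) (.node 1 (.leaf 1438) (.node 1 (.leaf 829) (.leaf 885)))))
(.node 6 (.node 3 (.node 1 (.leaf 93) (.node 1 (.leaf 382) (.leaf 748))) (.node 1 (.leaf 926) (.node 1 (.leaf 462) (.leaf 594))))
(.node 3 (.node 1 (.leaf 1112) (.node 1 (.leaf 1093) (.leaf 58))) (.node 1 (.leaf 1436) (.node 1 (.leaf 532) (.leaf 838)))))))
(.node 24 (.node 12 (.node 6 (.node 3 (.node 1 (.leaf 857) (.node 1 (.leaf 676) (.leaf 746))) (.node 1 (.leaf 1050) (.node 1 (.leaf 543) (.leaf 51))))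
(.node 3 (.node 1 (.leaf 1043) (.node 1 (.leaf 535) (.leaf 1285))) (.node 1 (.leaf 806) (.node 1 (.leaf 253) (.leaf 1020)))))
(.node 6 (.node 3 (.node 1 (.leaf 470) (.node 1 (.leaf 1110) (.leaf 242))) (.node 1 (.leaf 567) (.node 1 (.leaf 918) (.leaf 1423))))
(.node 3 (.node 1 (.leaf 511) (.node 1 (.leaf 1259) (.leaf 976))) (.node 1 (.leaf 3) (.node 1 (.leaf 248) (.leaf 1488))))))
(.node 12 (.node 6 (.node 3 (.node 1 (.leaf 1189) (.node 1 (.leaf 24) (.leaf 720))) (.node 1 (.leaf 1241) (.node 1 (.leaf 671) (.leaf 475))))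
(.node 3 (.node 1 (.leaf 1292) (.node 1 (.leaf 938) (.leaf 1497))) (.node 1 (.leaf 1502) (.node 1 (.leaf 669) (.leaf 1377)))))
(.node 6 (.node 3 (.node 1 (.leaf 637) (.node 1 (.leaf 1527) (.leaf 122))) (.node 1 (.leaf 1512) (.node 1 (.leaf 1432) (.leaf 271))))
(.node 3 (.node 1 (.leaf 1211) (.node 1 (.leaf 103) (.leaf 36))) (.node 1 (.leaf 200) (.node 1 (.leaf 877) (.leaf 984))))))))
(.node 48 (.node 24 (.node 12 (.node 6 (.node 3 (.node 1 (.leaf 778) (.node 1 (.leaf 1327) (.leaf 474))) (.node 1 (.leaf 701) (.node 1 (.leaf 1496) (.leaf 326))))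
(.node 3 (.node 1 (.leaf 483) (.node 1 (.leaf 826) (.leaf 1310))) (.node 1 (.leaf 91) (.node 1 (.leaf 80) (.leaf 991)))))
(.node 6 (.node 3 (.node 1 (.leaf 603) (.node 1 (.leaf 436) (.leaf 137))) (.node 1 (.leaf 879) (.node 1 (.leaf 1384) (.leaf 370))))
(.node 3 (.node 1 (.leaf 160) (.node 1 (.leaf 1235) (.leaf 1016))) (.node 1 (.leaf 892) (.node 1 (.leaf 1058) (.leaf 26))))))
(.node 12 (.node 6 (.node 3 (.node 1 (.leaf 338) (.node 1 (.leaf 812) (.leaf 582))) (.node 1 (.leaf 18) (.node 1 (.leaf 878) (.leaf 396))))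
(.node 3 (.node 1 (.leaf 1397) (.node 1 (.leaf 1366) (.leaf 399))) (.node 1 (.leaf 813) (.node 1 (.leaf 584) (.leaf 636)))))
(.node 6 (.node 3 (.node 1 (.leaf 1067) (.node 1 (.leaf 327) (.leaf 25))) (.node 1 (.leaf 250) (.node 1 (.leaf 1526) (.leaf 540))))
(.node 3 (.node 1 (.leaf 269) (.node 1 (.leaf 177) (.leaf 855))) (.node 1 (.leaf 1257) (.node 1 (.leaf 1136) (.leaf 581)))))))
(.node 24 (.node 12 (.node 6 (.node 3 (.node 1 (.leaf 1320) (.node 1 (.leaf 869) (.leaf 413))) (.node 1 (.leaf 249) (.node 1 (.leaf 788) (.leaf 386))))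
(.node 3 (.node 1 (.leaf 192) (.node 1 (.leaf 1454) (.leaf 408))) (.node 1 (.leaf 953) (.node 1 (.leaf 143) (.leaf 858)))))
(.node 6 (.node 3 (.node 1 (.leaf 809) (.node 1 (.leaf 352) (.leaf 94))) (.node 1 (.leaf 1413) (.node 1 (.leaf 941) (.leaf 852))))
(.node 3 (.node 1 (.leaf 526) (.node 1 (.leaf 735) (.leaf 1513))) (.node 1 (.leaf 1518) (.node 1 (.leaf 811) (.leaf 758))))))
(.node 12 (.node 6 (.node 3 (.node 1 (.leaf 970) (.node 1 (.leaf 967) (.leaf 1281))) (.node 1 (.leaf 89) (.node 1 (.leaf 1507) (.leaf 1168))))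
(.node 3 (.node 1 (.leaf 1509) (.node 1 (.leaf 1213) (.leaf 398))) (.node 1 (.leaf 1201) (.node 1 (.leaf 1144) (.leaf 612)))))
(.node 6 (.node 3 (.node 1 (.leaf 832) (.node 1 (.leaf 634) (.leaf 1480))) (.node 1 (.leaf 1429) (.node 1 (.leaf 1443) (.leaf 74))))
(.node 3 (.node 1 (.leaf 464) (.node 1 (.leaf 410) (.leaf 715))) (.node 1 (.leaf 243) (.node 1 (.leaf 1417) (.leaf 1059))))))))))

/-- The inverse action. -/
def caseAFullInv1R : Tab ℕ := .node 384 caseAFullInv1RL caseAFullInv1RR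

/-- The inverse action. -/
def caseAFullInv1 : Tab ℕ := .node 768 caseAFullInv1L caseAFullInv1R

/-- The bound. -/
def caseAFullBound : BoundD := ⟨[caseAFullN0Node, caseAFullN1Node, caseAFullN4Node, caseAFullN9Node,
  caseAFullN16Node, caseAFullN24Node, caseAFullN38Node], fun b => bif b then caseAFullInv1 else caseAFullInv0, 465⟩

end Cfsg.Lib.HeldType
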