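import Cfsg.Agent.HeldType.TrivialA
import Cfsg.Agent.HeldType.FullA

/-!
The checks of one case.
-/

set_option autoImplicit false
set_option maxRecDepth 100000

namespace Cfsg.Lib.HeldType

theorem caseALoc0_ok : caseALoc0Cert.ok caseAPars caseACube = true := by decide +kernel

theorem caseALoc1_ok : caseALoc1Cert.ok caseAPars caseACube = true := by decide +kernel

theorem caseATrivial_defs : caseATrivial.okDefs = true := by decide +kernel

theorem caseATrivial_facts0 : allR (caseATrivial.okAt caseAPars) 0 68 = true := by decide +kernel

theorem caseATrivial_facts (k : ℕ) (hk : k < 68) : caseATrivial.okAt caseAPars k = true := by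
  exact allR_sound _ _ _ caseATrivial_facts0 k (by omega) (by omega)

theorem caseAFull_defs : caseAFull.okDefs = true := by decide +kernel

theorem caseAFull_facts0 : allR (caseAFull.okAt caseAPars) 0 460 = true := by decide +kernel

theorem caseAFull_facts (k : ℕ) (hk : k < 460) : caseAFull.okAt caseAPars k = true := by
  exact allR_sound _ _ _ caseAFull_facts0 k (by omega) (by omega)

theorem caseAFull_bound : caseAFullBound.ok caseAFull caseAPars = true := by decide +kernel

end Cfsg.Lib.HeldType
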