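import Cfsg.Agent.HeldType.LocalB

/-!
An enumeration of double cosets.
-/

set_option autoImplicit false
set_option maxRecDepth 100000

namespace Cfsg.Lib.HeldType

/-- The facts. -/
def caseBFullFactsLLLL : Tab Fct :=
(.node 117 (.node 58 (.node 29 (.node 14 (.node 7 (.node 3 (.node 1 (.leaf ⟨0, 17043521, none, 0, 32125001⟩) (.node 1 (.leaf ⟨0, 17043521, none, 0, 10971209⟩) (.leaf ⟨0, 13510735, (some false), 1, 17043521⟩)))
(.node 2 (.node 1 (.leaf ⟨1, 17043521, (some false), 0, 29761631⟩) (.leaf ⟨0, 13310023, (some false), 1, 17242181⟩)) (.node 1 (.leaf ⟨0, 31801425, (some false), 1, 17242181⟩) (.leaf ⟨0, 6776923, (some false), 1, 17242181⟩))))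
(.node 3 (.node 1 (.leaf ⟨0, 17043521, (some false), 1, 17043521⟩) (.node 1 (.leaf ⟨0, 32125001, (some false), 1, 17043521⟩) (.leaf ⟨0, 4808797, (some false), 1, 17043521⟩)))
(.node 2 (.node 1 (.leaf ⟨0, 23928925, (some false), 1, 17043521⟩) (.leaf ⟨0, 7292999, (some false), 1, 17043521⟩)) (.node 1 (.leaf ⟨0, 9056345, (some false), 1, 17043521⟩) (.leaf ⟨0, 19085399, (some false), 1, 17190985⟩)))))
(.node 7 (.node 3 (.node 1 (.leaf ⟨0, 10971209, (some false), 1, 17780807⟩) (.node 1 (.leaf ⟨0, 29904967, (some false), 1, 17780807⟩) (.leaf ⟨0, 27529303, (some false), 1, 17780807⟩)))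
(.node 2 (.node 1 (.leaf ⟨1, 17068125, none, 1, 17043521⟩) (.leaf ⟨1, 17240159, none, 1, 17043521⟩)) (.node 1 (.leaf ⟨1, 17442885, none, 1, 17043521⟩) (.leaf ⟨1, 17043521, none, 1, 16998489⟩))))
(.node 4 (.node 2 (.node 1 (.leaf ⟨1, 17043521, none, 1, 17240153⟩) (.leaf ⟨1, 17043521, none, 1, 17068101⟩)) (.node 1 (.leaf ⟨1, 19085399, (some false), 2, 17043521⟩) (.leaf ⟨2, 19085399, (some false), 3, 17043521⟩)))
(.node 2 (.node 1 (.leaf ⟨3, 17043521, (some false), 2, 19560517⟩) (.leaf ⟨0, 9179227, none, 3, 19150933⟩)) (.node 1 (.leaf ⟨3, 17043521, none, 0, 9254981⟩) (.leaf ⟨2, 19148887, none, 1, 17780807⟩))))))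
(.node 14 (.node 7 (.node 3 (.node 1 (.leaf ⟨2, 17043521, none, 1, 19560531⟩) (.node 1 (.leaf ⟨0, 13310023, (some true), 4, 17043521⟩) (.leaf ⟨4, 17043521, (some true), 0, 13310023⟩)))
(.node 2 (.node 1 (.leaf ⟨0, 31801425, (some true), 4, 17043521⟩) (.leaf ⟨0, 32131155, (some true), 4, 8998979⟩)) (.node 1 (.leaf ⟨0, 19085399, (some true), 4, 19224657⟩) (.leaf ⟨0, 10971209, (some true), 4, 19673153⟩))))
(.node 3 (.node 1 (.leaf ⟨0, 29904967, (some true), 4, 19673153⟩) (.node 1 (.leaf ⟨0, 17059919, (some true), 4, 11284563⟩) (.leaf ⟨0, 11495495, (some true), 4, 11284563⟩)))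
(.node 2 (.node 1 (.leaf ⟨0, 4544593, (some true), 4, 11038795⟩) (.leaf ⟨0, 17043521, (some true), 4, 19681345⟩)) (.node 1 (.leaf ⟨0, 32125001, (some true), 4, 19681345⟩) (.leaf ⟨0, 4808797, (some true), 4, 19681345⟩)))))
(.node 7 (.node 3 (.node 1 (.leaf ⟨0, 13510735, (some true), 4, 19681345⟩) (.node 1 (.leaf ⟨0, 25385043, (some true), 4, 19681345⟩) (.leaf ⟨4, 8927299, none, 4, 19681345⟩)))
(.node 2 (.node 1 (.leaf ⟨4, 11300947, none, 4, 19681345⟩) (.leaf ⟨4, 27867225, none, 4, 17043521⟩)) (.node 1 (.leaf ⟨4, 17043521, none, 4, 11302995⟩) (.leaf ⟨4, 17043521, none, 4, 25450585⟩))))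
(.node 4 (.node 2 (.node 1 (.leaf ⟨4, 17043521, none, 4, 11302979⟩) (.leaf ⟨4, 17059919, (some true), 5, 17043521⟩)) (.node 1 (.leaf ⟨5, 17059919, (some true), 6, 17043521⟩) (.leaf ⟨6, 17043521, (some true), 5, 17059919⟩)))
(.node 2 (.node 1 (.leaf ⟨0, 5134405, none, 6, 11294807⟩) (.leaf ⟨6, 17043521, none, 0, 30019673⟩)) (.node 1 (.leaf ⟨5, 11022431, none, 4, 19681345⟩) (.leaf ⟨5, 17043521, none, 4, 11368527⟩)))))))
(.node 29 (.node 14 (.node 7 (.node 3 (.node 1 (.leaf ⟨4, 4808797, (some false), 7, 17043521⟩) (.node 1 (.leaf ⟨7, 17043521, (some false), 4, 23685197⟩) (.leaf ⟨4, 17043521, (some false), 7, 17512537⟩)))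
(.node 2 (.node 1 (.leaf ⟨4, 27529303, (some false), 7, 17576019⟩) (.leaf ⟨4, 19085399, (some false), 7, 17109083⟩)) (.node 1 (.leaf ⟨4, 13510735, (some false), 7, 17000535⟩) (.leaf ⟨4, 29904967, (some false), 7, 17246281⟩))))
(.node 3 (.node 1 (.leaf ⟨7, 16986195, none, 7, 17576019⟩) (.node 1 (.leaf ⟨7, 17180759, none, 7, 17000535⟩) (.leaf ⟨7, 17576017, none, 7, 17576019⟩)))
(.node 2 (.node 1 (.leaf ⟨7, 17782865, none, 7, 17043521⟩) (.leaf ⟨7, 17512533, none, 7, 17512537⟩)) (.node 1 (.leaf ⟨7, 17043521, none, 7, 17043527⟩) (.leaf ⟨7, 17043521, none, 7, 17193041⟩)))))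
(.node 7 (.node 3 (.node 1 (.leaf ⟨7, 17043521, none, 7, 17043523⟩) (.node 1 (.leaf ⟨7, 17043521, none, 7, 17190977⟩) (.leaf ⟨7, 17043521, none, 7, 17764417⟩)))
(.node 2 (.node 1 (.leaf ⟨7, 11495495, (some true), 8, 17043521⟩) (.leaf ⟨8, 17043521, (some true), 7, 11495495⟩)) (.node 1 (.leaf ⟨8, 13510735, (some false), 9, 17043521⟩) (.leaf ⟨9, 17043521, (some false), 8, 29761631⟩))))
(.node 4 (.node 2 (.node 1 (.leaf ⟨0, 15212609, none, 9, 17119315⟩) (.leaf ⟨9, 17043521, none, 0, 4728915⟩)) (.node 1 (.leaf ⟨8, 23296081, none, 1, 17780807⟩) (.leaf ⟨8, 17043521, none, 1, 25315409⟩)))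
(.node 2 (.node 1 (.leaf ⟨1, 10971209, (some true), 7, 25643093⟩) (.leaf ⟨1, 17059919, (some true), 7, 17705055⟩)) (.node 1 (.leaf ⟨1, 11495495, (some true), 7, 25567301⟩) (.leaf ⟨1, 17043521, (some true), 7, 17260639⟩))))))
(.node 15 (.node 7 (.node 3 (.node 1 (.leaf ⟨1, 25385043, (some true), 7, 11485269⟩) (.node 1 (.leaf ⟨1, 19085399, (some true), 7, 19540063⟩) (.leaf ⟨7, 25385043, (some true), 10, 17043521⟩)))
(.node 2 (.node 1 (.leaf ⟨10, 17043521, (some true), 7, 25385043⟩) (.leaf ⟨7, 19085399, (some true), 10, 27799635⟩)) (.node 1 (.leaf ⟨7, 17059919, (some true), 10, 27873361⟩) (.leaf ⟨7, 17043521, (some true), 10, 27883585⟩))))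
(.node 4 (.node 2 (.node 1 (.leaf ⟨10, 11024449, none, 10, 27799635⟩) (.leaf ⟨10, 8925267, none, 10, 27799635⟩)) (.node 1 (.leaf ⟨10, 27865153, none, 10, 27883585⟩) (.leaf ⟨10, 17045569, none, 10, 17043521⟩)))
(.node 2 (.node 1 (.leaf ⟨10, 27881539, none, 10, 27883585⟩) (.leaf ⟨10, 9009219, none, 10, 27883585⟩)) (.node 1 (.leaf ⟨10, 17043521, none, 10, 25432131⟩) (.leaf ⟨10, 17043521, none, 10, 17045571⟩)))))
(.node 7 (.node 3 (.node 1 (.leaf ⟨10, 17043521, none, 10, 17045569⟩) (.node 1 (.leaf ⟨10, 17043521, none, 10, 17051713⟩) (.leaf ⟨10, 17043521, none, 10, 27529281⟩)))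
(.node 2 (.node 1 (.leaf ⟨10, 17043521, none, 10, 25434187⟩) (.leaf ⟨10, 4808797, (some true), 11, 17043521⟩)) (.node 1 (.leaf ⟨11, 17043521, (some true), 10, 4808797⟩) (.leaf ⟨11, 19085399, (some true), 12, 17043521⟩))))
(.node 4 (.node 2 (.node 1 (.leaf ⟨12, 17043521, (some true), 11, 19085399⟩) (.leaf ⟨0, 13129803, none, 12, 16920657⟩)) (.node 1 (.leaf ⟨12, 17043521, none, 0, 4745311⟩) (.leaf ⟨11, 17780823, none, 4, 19681345⟩)))
(.node 2 (.node 1 (.leaf ⟨11, 17043521, none, 4, 19861575⟩) (.leaf ⟨4, 19085399, (some true), 10, 29960287⟩)) (.node 1 (.leaf ⟨4, 13510735, (some true), 10, 32071767⟩) (.leaf ⟨4, 31801425, (some true), 10, 15542365⟩))))))))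
(.node 58 (.node 29 (.node 14 (.node 7 (.node 3 (.node 1 (.leaf ⟨4, 29904967, (some true), 10, 6907983⟩) (.node 1 (.leaf ⟨4, 10971209, (some true), 10, 21774429⟩) (.leaf ⟨4, 32125001, (some true), 10, 5064791⟩)))
(.node 2 (.node 1 (.leaf ⟨4, 4544593, (some true), 10, 13453389⟩) (.leaf ⟨4, 11495495, (some true), 10, 4997213⟩)) (.node 1 (.leaf ⟨4, 13310023, (some true), 10, 21323855⟩) (.leaf ⟨4, 32131155, (some true), 10, 4997189⟩))))
(.node 3 (.node 1 (.leaf ⟨4, 4808797, (some true), 10, 23683157⟩) (.node 1 (.leaf ⟨4, 25385043, (some true), 10, 4483165⟩) (.leaf ⟨10, 13379669, none, 10, 5064791⟩)))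
(.node 2 (.node 1 (.leaf ⟨10, 17043521, none, 10, 23408707⟩) (.leaf ⟨10, 4544593, (some true), 7, 25915481⟩)) (.node 1 (.leaf ⟨1, 6776923, (some false), 13, 17043521⟩) (.leaf ⟨1, 13310023, (some false), 13, 17246277⟩)))))
(.node 7 (.node 3 (.node 1 (.leaf ⟨1, 4808797, (some false), 13, 17649745⟩) (.node 1 (.leaf ⟨1, 32125001, (some false), 13, 17784905⟩) (.leaf ⟨1, 13510735, (some false), 13, 17770563⟩)))
(.node 2 (.node 1 (.leaf ⟨1, 31801425, (some false), 13, 17260633⟩) (.leaf ⟨1, 9056345, (some false), 13, 16920657⟩)) (.node 1 (.leaf ⟨1, 23928925, (some false), 13, 17111107⟩) (.leaf ⟨1, 29904967, (some false), 13, 17768535⟩))))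
(.node 4 (.node 2 (.node 1 (.leaf ⟨1, 10971209, (some false), 13, 17526867⟩) (.leaf ⟨1, 27529303, (some false), 13, 17528925⟩)) (.node 1 (.leaf ⟨1, 7292999, (some false), 13, 17109067⟩) (.leaf ⟨13, 17256525, none, 13, 17649745⟩)))
(.node 2 (.node 1 (.leaf ⟨13, 16937031, none, 13, 17526867⟩) (.leaf ⟨13, 16918619, none, 13, 17770563⟩)) (.node 1 (.leaf ⟨13, 17109079, none, 13, 17109067⟩) (.leaf ⟨13, 17043521, none, 13, 17043551⟩))))))
(.node 14 (.node 7 (.node 3 (.node 1 (.leaf ⟨13, 17043521, none, 13, 17698903⟩) (.node 1 (.leaf ⟨13, 17043521, none, 13, 17633369⟩) (.leaf ⟨13, 17043521, none, 13, 17174619⟩)))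
(.node 2 (.node 1 (.leaf ⟨7, 10971209, (some true), 16, 17043521⟩) (.leaf ⟨16, 17059919, (some true), 17, 17043521⟩)) (.node 1 (.leaf ⟨17, 17043521, (some true), 16, 17059919⟩) (.leaf ⟨1, 26163265, none, 17, 9246813⟩))))
(.node 3 (.node 1 (.leaf ⟨17, 17043521, none, 1, 10965069⟩) (.node 1 (.leaf ⟨16, 9252935, none, 7, 19540063⟩) (.leaf ⟨16, 17043521, none, 7, 25643083⟩)))
(.node 2 (.node 1 (.leaf ⟨1, 13310023, (some true), 18, 17043521⟩) (.leaf ⟨18, 17043521, (some true), 1, 13310023⟩)) (.node 1 (.leaf ⟨1, 13510735, (some true), 18, 11284561⟩) (.leaf ⟨1, 4808797, (some true), 18, 25710667⟩)))))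
(.node 7 (.node 3 (.node 1 (.leaf ⟨1, 4544593, (some true), 18, 8927321⟩) (.node 1 (.leaf ⟨1, 31801425, (some true), 18, 27547729⟩) (.leaf ⟨1, 29904967, (some true), 18, 25456731⟩)))
(.node 2 (.node 1 (.leaf ⟨1, 32125001, (some true), 18, 25499713⟩) (.leaf ⟨1, 32131155, (some true), 18, 19142747⟩)) (.node 1 (.leaf ⟨18, 27547715, none, 18, 11284561⟩) (.leaf ⟨18, 19159129, none, 18, 25456731⟩))))
(.node 4 (.node 2 (.node 1 (.leaf ⟨18, 19664985, none, 18, 25499713⟩) (.leaf ⟨18, 17043521, none, 18, 9181257⟩)) (.node 1 (.leaf ⟨18, 17043521, none, 18, 27539523⟩) (.leaf ⟨18, 17043521, none, 18, 11096153⟩)))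
(.node 2 (.node 1 (.leaf ⟨18, 27529303, (some false), 19, 17043521⟩) (.leaf ⟨19, 17043521, (some false), 18, 25516101⟩)) (.node 1 (.leaf ⟨18, 4808797, (some false), 19, 17643587⟩) (.leaf ⟨18, 19085399, (some false), 19, 17705049⟩)))))))
(.node 29 (.node 14 (.node 7 (.node 3 (.node 1 (.leaf ⟨18, 13510735, (some false), 19, 17700949⟩) (.node 1 (.leaf ⟨18, 29904967, (some false), 19, 17002571⟩) (.leaf ⟨18, 17043521, (some false), 19, 17440843⟩)))
(.node 2 (.node 1 (.leaf ⟨19, 17641555, none, 19, 17643587⟩) (.leaf ⟨19, 16984139, none, 19, 17440843⟩)) (.node 1 (.leaf ⟨19, 16918621, none, 19, 17043521⟩) (.leaf ⟨19, 17043521, none, 19, 16982111⟩))))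
(.node 3 (.node 1 (.leaf ⟨19, 17043521, none, 19, 17635393⟩) (.node 1 (.leaf ⟨19, 17043521, none, 19, 17045585⟩) (.leaf ⟨19, 19085399, (some true), 20, 17043521⟩)))
(.node 2 (.node 1 (.leaf ⟨20, 17043521, (some true), 19, 19085399⟩) (.leaf ⟨20, 19085399, (some false), 21, 17043521⟩)) (.node 1 (.leaf ⟨21, 17043521, (some false), 20, 19560517⟩) (.leaf ⟨1, 30169169, none, 21, 17244251⟩)))))
(.node 7 (.node 3 (.node 1 (.leaf ⟨21, 17043521, none, 1, 27947079⟩) (.node 1 (.leaf ⟨20, 19664991, none, 13, 17043521⟩) (.leaf ⟨20, 17043521, none, 13, 19730511⟩)))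
(.node 2 (.node 1 (.leaf ⟨13, 17059919, (some true), 19, 17193031⟩) (.leaf ⟨13, 17043521, (some true), 19, 17193047⟩)) (.node 1 (.leaf ⟨13, 19085399, (some true), 19, 19812437⟩) (.leaf ⟨19, 17043521, (some true), 22, 17043521⟩))))
(.node 4 (.node 2 (.node 1 (.leaf ⟨22, 17043521, (some true), 19, 17043521⟩) (.leaf ⟨19, 11495495, (some true), 22, 25768017⟩)) (.node 1 (.leaf ⟨22, 25704529, none, 22, 25768017⟩) (.leaf ⟨22, 25702475, none, 22, 25768017⟩)))
(.node 2 (.node 1 (.leaf ⟨22, 17649747, none, 22, 17043521⟩) (.leaf ⟨22, 17059907, none, 22, 17043521⟩)) (.node 1 (.leaf ⟨22, 17043521, none, 22, 17059907⟩) (.leaf ⟨22, 17043521, none, 22, 17649747⟩))))))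
(.node 15 (.node 7 (.node 3 (.node 1 (.leaf ⟨22, 17043521, none, 22, 17109075⟩) (.node 1 (.leaf ⟨22, 17043521, none, 22, 17111105⟩) (.leaf ⟨22, 25385043, (some true), 23, 17043521⟩)))
(.node 2 (.node 1 (.leaf ⟨23, 17043521, (some true), 22, 25385043⟩) (.leaf ⟨23, 4544593, (some true), 24, 17043521⟩)) (.node 1 (.leaf ⟨24, 17043521, (some true), 23, 4544593⟩) (.leaf ⟨1, 23531595, none, 24, 7024705⟩))))
(.node 4 (.node 2 (.node 1 (.leaf ⟨24, 17043521, none, 1, 8603733⟩) (.leaf ⟨23, 13176913, none, 7, 25567301⟩)) (.node 1 (.leaf ⟨23, 17043521, none, 7, 32002127⟩) (.leaf ⟨7, 29904967, (some true), 22, 27684929⟩)))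
(.node 2 (.node 1 (.leaf ⟨7, 4544593, (some true), 22, 19355721⟩) (.leaf ⟨7, 13510735, (some true), 22, 28203091⟩)) (.node 1 (.leaf ⟨7, 32125001, (some true), 22, 19544145⟩) (.leaf ⟨7, 13310023, (some true), 22, 25915481⟩)))))
(.node 7 (.node 3 (.node 1 (.leaf ⟨7, 31801425, (some true), 22, 19271763⟩) (.node 1 (.leaf ⟨7, 32131155, (some true), 22, 17446987⟩) (.leaf ⟨7, 4808797, (some true), 22, 10965083⟩)))
(.node 2 (.node 1 (.leaf ⟨22, 25917507, none, 22, 28203091⟩) (.leaf ⟨22, 17043521, none, 22, 19079261⟩)) (.node 1 (.leaf ⟨22, 11495495, (some true), 19, 27793497⟩) (.leaf ⟨7, 32125001, (some false), 25, 17043521⟩))))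
(.node 4 (.node 2 (.node 1 (.leaf ⟨25, 17043521, (some false), 7, 14905419⟩) (.leaf ⟨7, 31801425, (some false), 25, 17061957⟩)) (.node 1 (.leaf ⟨7, 10971209, (some false), 25, 17193049⟩) (.leaf ⟨25, 17193029, none, 25, 17193049⟩)))
(.node 2 (.node 1 (.leaf ⟨7, 7292999, (some false), 25, 17457225⟩) (.leaf ⟨25, 17457227, none, 25, 17457225⟩)) (.node 1 (.leaf ⟨25, 17053789, none, 25, 17061957⟩) (.leaf ⟨25, 17043537, none, 25, 17043521⟩)))))))))

/-- The facts. -/
def caseBFullFactsLLLR : Tab Fct :=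
(.node 117 (.node 58 (.node 29 (.node 14 (.node 7 (.node 3 (.node 1 (.leaf ⟨25, 17447007, none, 25, 17457225⟩) (.node 1 (.leaf ⟨25, 17045571, none, 25, 17043521⟩) (.leaf ⟨25, 17043521, none, 25, 17045571⟩)))
(.node 2 (.node 1 (.leaf ⟨25, 17043521, none, 25, 17053771⟩) (.leaf ⟨25, 17043521, none, 25, 17043537⟩)) (.node 1 (.leaf ⟨25, 17043521, none, 25, 17068121⟩) (.leaf ⟨25, 17043521, none, 25, 17043523⟩))))
(.node 3 (.node 1 (.leaf ⟨25, 17043521, none, 25, 17043545⟩) (.node 1 (.leaf ⟨25, 11495495, (some true), 26, 17043521⟩) (.leaf ⟨25, 25385043, (some true), 26, 25778251⟩)))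
(.node 2 (.node 1 (.leaf ⟨25, 19085399, (some true), 26, 11302977⟩) (.leaf ⟨25, 10971209, (some true), 26, 17051729⟩)) (.node 1 (.leaf ⟨26, 19222601, none, 26, 17051729⟩) (.leaf ⟨26, 17068097, none, 26, 17043521⟩)))))
(.node 7 (.node 3 (.node 1 (.leaf ⟨26, 17649737, none, 26, 25778251⟩) (.node 1 (.leaf ⟨26, 17045569, none, 26, 17043521⟩) (.leaf ⟨26, 17043521, none, 26, 17045569⟩)))
(.node 2 (.node 1 (.leaf ⟨26, 17043521, none, 26, 11081795⟩) (.leaf ⟨26, 17043521, none, 26, 17068097⟩)) (.node 1 (.leaf ⟨26, 17043521, none, 26, 19230809⟩) (.leaf ⟨26, 32131155, (some true), 27, 17043521⟩))))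
(.node 4 (.node 2 (.node 1 (.leaf ⟨27, 17043521, (some true), 26, 32131155⟩) (.leaf ⟨27, 32131155, (some true), 28, 17043521⟩)) (.node 1 (.leaf ⟨28, 17043521, (some true), 27, 32131155⟩) (.leaf ⟨1, 27596891, none, 28, 6971457⟩)))
(.node 2 (.node 1 (.leaf ⟨28, 17043521, none, 1, 7225415⟩) (.leaf ⟨27, 4941891, none, 18, 11284561⟩)) (.node 1 (.leaf ⟨27, 17043521, none, 18, 31666265⟩) (.leaf ⟨18, 32125001, (some true), 26, 31672401⟩))))))
(.node 14 (.node 7 (.node 3 (.node 1 (.leaf ⟨18, 29904967, (some true), 26, 4857945⟩) (.node 1 (.leaf ⟨18, 19085399, (some true), 26, 4941897⟩) (.leaf ⟨18, 13510735, (some true), 26, 4941889⟩)))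
(.node 2 (.node 1 (.leaf ⟨18, 31801425, (some true), 26, 31604825⟩) (.leaf ⟨18, 10971209, (some true), 26, 21440595⟩)) (.node 1 (.leaf ⟨18, 4808797, (some true), 26, 13590601⟩) (.leaf ⟨18, 11495495, (some true), 26, 15419473⟩))))
(.node 3 (.node 1 (.leaf ⟨18, 32131155, (some true), 26, 13248595⟩) (.node 1 (.leaf ⟨18, 25385043, (some true), 26, 30042179⟩) (.leaf ⟨18, 13310023, (some true), 26, 14829643⟩)))
(.node 2 (.node 1 (.leaf ⟨18, 4544593, (some true), 26, 29575243⟩) (.leaf ⟨4, 10971209, (some false), 29, 17043521⟩)) (.node 1 (.leaf ⟨29, 17043521, (some false), 4, 9396299⟩) (.leaf ⟨4, 7292999, (some false), 29, 17125453⟩)))))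
(.node 7 (.node 3 (.node 1 (.leaf ⟨4, 13310023, (some false), 29, 17070147⟩) (.node 1 (.leaf ⟨4, 9056345, (some false), 29, 17651785⟩) (.leaf ⟨4, 23928925, (some false), 29, 17463379⟩)))
(.node 2 (.node 1 (.leaf ⟨4, 6776923, (some false), 29, 17256523⟩) (.leaf ⟨4, 31801425, (some false), 29, 17782851⟩)) (.node 1 (.leaf ⟨4, 32125001, (some false), 29, 17784913⟩) (.leaf ⟨29, 16932951, none, 29, 17651785⟩))))
(.node 4 (.node 2 (.node 1 (.leaf ⟨29, 17070175, none, 29, 17070147⟩) (.leaf ⟨29, 17770569, none, 29, 17043521⟩)) (.node 1 (.leaf ⟨29, 17043521, none, 29, 17002567⟩) (.leaf ⟨29, 17043521, none, 29, 17043527⟩)))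
(.node 2 (.node 1 (.leaf ⟨29, 17043521, none, 29, 17000527⟩) (.leaf ⟨29, 19085399, (some false), 30, 17043521⟩)) (.node 1 (.leaf ⟨30, 19085399, (some false), 31, 17043521⟩) (.leaf ⟨31, 17043521, (some false), 30, 19560517⟩)))))))
(.node 29 (.node 14 (.node 7 (.node 3 (.node 1 (.leaf ⟨4, 30093401, none, 31, 19540059⟩) (.node 1 (.leaf ⟨31, 17043521, none, 4, 15036483⟩) (.leaf ⟨30, 19812419, none, 29, 17784913⟩)))
(.node 2 (.node 1 (.leaf ⟨30, 17043521, none, 29, 19232849⟩) (.leaf ⟨7, 19085399, (some false), 32, 17043521⟩)) (.node 1 (.leaf ⟨32, 19085399, (some false), 33, 17043521⟩) (.leaf ⟨33, 17043521, (some false), 32, 19560517⟩))))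
(.node 3 (.node 1 (.leaf ⟨4, 21127259, none, 33, 19288155⟩) (.node 1 (.leaf ⟨33, 17043521, none, 4, 4927553⟩) (.leaf ⟨32, 19867739, none, 7, 17576019⟩)))
(.node 2 (.node 1 (.leaf ⟨32, 17043521, none, 7, 19554375⟩) (.leaf ⟨10, 31801425, (some true), 34, 17043521⟩)) (.node 1 (.leaf ⟨34, 17059919, (some true), 35, 17043521⟩) (.leaf ⟨35, 17043521, (some true), 34, 17059919⟩)))))
(.node 7 (.node 3 (.node 1 (.leaf ⟨4, 21180509, none, 35, 25776197⟩) (.node 1 (.leaf ⟨35, 17043521, none, 4, 4608081⟩) (.leaf ⟨34, 19159117, none, 10, 5064791⟩)))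
(.node 2 (.node 1 (.leaf ⟨34, 17043521, none, 10, 21774425⟩) (.leaf ⟨10, 4808797, (some false), 36, 17043521⟩)) (.node 1 (.leaf ⟨10, 29904967, (some false), 36, 17594445⟩) (.leaf ⟨36, 25385043, (some true), 37, 17043521⟩))))
(.node 4 (.node 2 (.node 1 (.leaf ⟨37, 17043521, (some true), 36, 25385043⟩) (.leaf ⟨37, 4808797, (some false), 38, 17043521⟩)) (.node 1 (.leaf ⟨38, 17043521, (some false), 37, 23685197⟩) (.leaf ⟨4, 31989835, none, 38, 17262679⟩)))
(.node 2 (.node 1 (.leaf ⟨38, 17043521, none, 4, 25712731⟩) (.leaf ⟨37, 6893655, none, 7, 17246281⟩)) (.node 1 (.leaf ⟨37, 17043521, none, 7, 10702925⟩) (.leaf ⟨36, 19542083, none, 10, 27799635⟩))))))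
(.node 15 (.node 7 (.node 3 (.node 1 (.leaf ⟨36, 17043521, none, 10, 15274067⟩) (.node 1 (.leaf ⟨10, 31801425, (some false), 39, 17043521⟩) (.leaf ⟨39, 17043521, (some false), 10, 14958673⟩)))
(.node 2 (.node 1 (.leaf ⟨10, 7292999, (some false), 39, 17461317⟩) (.leaf ⟨10, 23928925, (some false), 39, 17522761⟩)) (.node 1 (.leaf ⟨10, 13310023, (some false), 39, 17641557⟩) (.leaf ⟨39, 17524801, none, 39, 17043521⟩))))
(.node 4 (.node 2 (.node 1 (.leaf ⟨39, 17782863, none, 39, 17461317⟩) (.leaf ⟨39, 16934985, none, 39, 17522761⟩)) (.node 1 (.leaf ⟨39, 17043521, none, 39, 17635393⟩) (.leaf ⟨39, 17043521, none, 39, 16984143⟩)))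
(.node 2 (.node 1 (.leaf ⟨39, 17043521, none, 39, 17524801⟩) (.leaf ⟨39, 19085399, (some true), 40, 17043521⟩)) (.node 1 (.leaf ⟨40, 17043521, (some true), 39, 19085399⟩) (.leaf ⟨40, 19085399, (some false), 41, 17043521⟩)))))
(.node 7 (.node 3 (.node 1 (.leaf ⟨41, 17043521, (some false), 40, 19560517⟩) (.node 1 (.leaf ⟨4, 9058397, none, 41, 17178705⟩) (.leaf ⟨41, 17043521, none, 4, 5122121⟩)))
(.node 2 (.node 1 (.leaf ⟨40, 19034181, none, 29, 17256523⟩) (.leaf ⟨40, 17043521, none, 29, 19556437⟩)) (.node 1 (.leaf ⟨29, 11495495, (some true), 39, 25630799⟩) (.leaf ⟨29, 17059919, (some true), 39, 17004615⟩))))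
(.node 4 (.node 2 (.node 1 (.leaf ⟨29, 25385043, (some true), 39, 10901591⟩) (.leaf ⟨29, 19085399, (some true), 39, 19812423⟩)) (.node 1 (.leaf ⟨29, 10971209, (some true), 39, 25376855⟩) (.leaf ⟨29, 17043521, (some true), 39, 17512519⟩)))
(.node 2 (.node 1 (.leaf ⟨39, 10971209, (some true), 42, 17043521⟩) (.leaf ⟨42, 17043521, (some true), 39, 10971209⟩)) (.node 1 (.leaf ⟨39, 17059919, (some true), 42, 9205827⟩) (.leaf ⟨42, 27603025, none, 42, 9205827⟩))))))))
(.node 59 (.node 29 (.node 14 (.node 7 (.node 3 (.node 1 (.leaf ⟨39, 11495495, (some true), 42, 8917067⟩) (.node 1 (.leaf ⟨42, 11079755, none, 42, 8917067⟩) (.leaf ⟨39, 17043521, (some true), 42, 25456705⟩)))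
(.node 2 (.node 1 (.leaf ⟨42, 11368531, none, 42, 25456705⟩) (.leaf ⟨42, 17043521, none, 42, 11081819⟩)) (.node 1 (.leaf ⟨42, 17043521, none, 42, 19206209⟩) (.leaf ⟨42, 17043521, none, 42, 11106395⟩))))
(.node 3 (.node 1 (.leaf ⟨42, 32131155, (some true), 43, 17043521⟩) (.node 1 (.leaf ⟨43, 17043521, (some true), 42, 32131155⟩) (.leaf ⟨43, 32131155, (some true), 44, 17043521⟩)))
(.node 2 (.node 1 (.leaf ⟨44, 17043521, (some true), 43, 32131155⟩) (.leaf ⟨4, 26103877, none, 44, 4939843⟩)) (.node 1 (.leaf ⟨44, 17043521, none, 4, 4859987⟩) (.leaf ⟨43, 12740683, none, 10, 4997189⟩)))))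
(.node 7 (.node 3 (.node 1 (.leaf ⟨43, 17043521, none, 10, 8616019⟩) (.node 1 (.leaf ⟨10, 25385043, (some true), 42, 4874323⟩) (.leaf ⟨10, 32125001, (some true), 42, 30097481⟩)))
(.node 2 (.node 1 (.leaf ⟨10, 32131155, (some true), 42, 15605835⟩) (.leaf ⟨10, 10971209, (some true), 42, 6768731⟩)) (.node 1 (.leaf ⟨10, 13510735, (some true), 42, 13312091⟩) (.leaf ⟨10, 11495495, (some true), 42, 14827601⟩))))
(.node 4 (.node 2 (.node 1 (.leaf ⟨10, 19085399, (some true), 42, 7282779⟩) (.leaf ⟨10, 13310023, (some true), 42, 31875163⟩)) (.node 1 (.leaf ⟨42, 15624283, none, 42, 4874323⟩) (.leaf ⟨42, 17043521, none, 42, 15341661⟩)))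
(.node 2 (.node 1 (.leaf ⟨42, 13310023, (some true), 39, 10969155⟩) (.leaf ⟨7, 4808797, (some false), 45, 17043521⟩)) (.node 1 (.leaf ⟨7, 9056345, (some false), 45, 17657931⟩) (.leaf ⟨7, 13510735, (some false), 45, 16935007⟩))))))
(.node 15 (.node 7 (.node 3 (.node 1 (.leaf ⟨7, 23928925, (some false), 45, 17717313⟩) (.node 1 (.leaf ⟨7, 13310023, (some false), 45, 16934977⟩) (.leaf ⟨7, 29904967, (some false), 45, 17719363⟩)))
(.node 2 (.node 1 (.leaf ⟨7, 6776923, (some false), 45, 17780801⟩) (.leaf ⟨7, 27529303, (some false), 45, 17053763⟩)) (.node 1 (.leaf ⟨45, 17053781, none, 45, 17053763⟩) (.leaf ⟨45, 17459287, none, 45, 16935007⟩))))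
(.node 4 (.node 2 (.node 1 (.leaf ⟨45, 17043537, none, 45, 17043521⟩) (.leaf ⟨45, 17461339, none, 45, 17657931⟩)) (.node 1 (.leaf ⟨45, 17043521, none, 45, 17764433⟩) (.leaf ⟨45, 17043521, none, 45, 17043537⟩)))
(.node 2 (.node 1 (.leaf ⟨45, 17043521, none, 45, 17567831⟩) (.leaf ⟨45, 17043521, none, 45, 17043549⟩)) (.node 1 (.leaf ⟨22, 19085399, (some true), 48, 17043521⟩) (.leaf ⟨48, 17059919, (some true), 49, 17043521⟩)))))
(.node 7 (.node 3 (.node 1 (.leaf ⟨49, 17043521, (some true), 48, 17059919⟩) (.node 1 (.leaf ⟨7, 7098439, none, 49, 17569877⟩) (.leaf ⟨49, 17043521, none, 7, 4479059⟩)))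
(.node 2 (.node 1 (.leaf ⟨48, 17109071, none, 22, 19355721⟩) (.leaf ⟨48, 17043521, none, 22, 19290183⟩)) (.node 1 (.leaf ⟨22, 19085399, (some false), 50, 17043521⟩) (.leaf ⟨22, 17043521, (some false), 50, 17256543⟩))))
(.node 4 (.node 2 (.node 1 (.leaf ⟨13, 11495495, (some true), 51, 17043521⟩) (.leaf ⟨51, 17043521, (some true), 13, 11495495⟩)) (.node 1 (.leaf ⟨13, 10971209, (some true), 51, 17045585⟩) (.leaf ⟨51, 13510735, (some false), 52, 17043521⟩)))
(.node 2 (.node 1 (.leaf ⟨52, 17043521, (some false), 51, 29761631⟩) (.leaf ⟨7, 11223133, none, 52, 17109057⟩)) (.node 1 (.leaf ⟨52, 17043521, none, 7, 9125983⟩) (.leaf ⟨51, 9181261, none, 25, 17061957⟩)))))))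
(.node 29 (.node 14 (.node 7 (.node 3 (.node 1 (.leaf ⟨51, 17043521, none, 25, 25718865⟩) (.node 1 (.leaf ⟨25, 17043521, (some true), 13, 17442887⟩) (.leaf ⟨22, 23928925, (some false), 53, 17043521⟩)))
(.node 2 (.node 1 (.leaf ⟨53, 17043521, (some false), 22, 4991053⟩) (.leaf ⟨22, 6776923, (some false), 53, 17242177⟩)) (.node 1 (.leaf ⟨22, 9056345, (some false), 53, 16922709⟩) (.leaf ⟨22, 13310023, (some false), 53, 17440857⟩))))
(.node 3 (.node 1 (.leaf ⟨53, 17178689, none, 53, 17440857⟩) (.node 1 (.leaf ⟨53, 17260625, none, 53, 17440857⟩) (.leaf ⟨53, 17043521, none, 53, 17256533⟩)))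
(.node 2 (.node 1 (.leaf ⟨53, 17043521, none, 53, 17698901⟩) (.leaf ⟨53, 11495495, (some true), 54, 17043521⟩)) (.node 1 (.leaf ⟨54, 17043521, (some true), 53, 11495495⟩) (.leaf ⟨54, 13510735, (some false), 55, 17043521⟩)))))
(.node 7 (.node 3 (.node 1 (.leaf ⟨55, 17043521, (some false), 54, 29761631⟩) (.node 1 (.leaf ⟨7, 4880459, none, 55, 17125467⟩) (.leaf ⟨55, 17043521, none, 7, 21114961⟩)))
(.node 2 (.node 1 (.leaf ⟨54, 23296095, none, 45, 16935007⟩) (.leaf ⟨54, 17043521, none, 45, 25507905⟩)) (.node 1 (.leaf ⟨45, 17043521, (some true), 53, 17195077⟩) (.leaf ⟨45, 25385043, (some true), 53, 10709077⟩))))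
(.node 4 (.node 2 (.node 1 (.leaf ⟨45, 19085399, (some true), 53, 19294295⟩) (.leaf ⟨50, 19085399, (some true), 56, 17043521⟩)) (.node 1 (.leaf ⟨56, 17043521, (some true), 50, 19085399⟩) (.leaf ⟨56, 19085399, (some false), 57, 17043521⟩)))
(.node 2 (.node 1 (.leaf ⟨57, 17043521, (some false), 56, 19560517⟩) (.leaf ⟨7, 31600707, none, 57, 17262683⟩)) (.node 1 (.leaf ⟨57, 17043521, none, 7, 26093639⟩) (.leaf ⟨56, 19800141, none, 25, 17043521⟩))))))
(.node 15 (.node 7 (.node 3 (.node 1 (.leaf ⟨56, 17043521, none, 25, 19036251⟩) (.node 1 (.leaf ⟨50, 11483223, none, 26, 25778251⟩) (.leaf ⟨50, 17043521, none, 26, 31942731⟩)))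
(.node 2 (.node 1 (.leaf ⟨53, 17043521, (some true), 58, 17043521⟩) (.leaf ⟨58, 17043521, (some true), 53, 17043521⟩)) (.node 1 (.leaf ⟨53, 19085399, (some true), 58, 19730499⟩) (.leaf ⟨58, 19085399, (some true), 59, 17043521⟩))))
(.node 4 (.node 2 (.node 1 (.leaf ⟨59, 17043521, (some true), 58, 19085399⟩) (.leaf ⟨59, 25385043, (some true), 60, 17043521⟩)) (.node 1 (.leaf ⟨60, 17043521, (some true), 59, 25385043⟩) (.leaf ⟨7, 21311583, none, 60, 6891589⟩)))
(.node 2 (.node 1 (.leaf ⟨60, 17043521, none, 7, 25317455⟩) (.leaf ⟨59, 10647625, none, 10, 27799635⟩)) (.node 1 (.leaf ⟨59, 17043521, none, 10, 13527117⟩) (.leaf ⟨58, 19101765, none, 42, 13312091⟩)))))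
(.node 7 (.node 3 (.node 1 (.leaf ⟨58, 17043521, none, 42, 21854277⟩) (.node 1 (.leaf ⟨42, 29904967, (some true), 53, 11022417⟩) (.leaf ⟨42, 25385043, (some true), 53, 25442395⟩)))
(.node 2 (.node 1 (.leaf ⟨42, 4808797, (some true), 53, 11081811⟩) (.leaf ⟨42, 10971209, (some true), 53, 11341891⟩)) (.node 1 (.leaf ⟨10, 17059919, (some true), 61, 17043521⟩) (.leaf ⟨10, 29904967, (some true), 61, 11358299⟩))))
(.node 4 (.node 2 (.node 1 (.leaf ⟨10, 13510735, (some false), 64, 17043521⟩) (.leaf ⟨64, 17043521, (some false), 10, 29761631⟩)) (.node 1 (.leaf ⟨10, 17043521, (some false), 64, 17178717⟩) (.leaf ⟨10, 27529303, (some false), 64, 17178697⟩)))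
(.node 2 (.node 1 (.leaf ⟨10, 19085399, (some false), 64, 16922705⟩) (.leaf ⟨10, 6776923, (some false), 64, 17133655⟩)) (.node 1 (.leaf ⟨10, 32125001, (some false), 64, 16982105⟩) (.leaf ⟨10, 10971209, (some false), 64, 17117253⟩)))))))))

/-- The facts. -/
def caseBFullFactsLLL : Tab Fct := .node 234 caseBFullFactsLLLL caseBFullFactsLLLR

/-- The facts. -/
def caseBFullFactsLLRL : Tab Fct :=
(.node 117 (.node 58 (.node 29 (.node 14 (.node 7 (.node 3 (.node 1 (.leaf ⟨10, 9056345, (some false), 64, 16998491⟩) (.node 1 (.leaf ⟨64, 17070145, none, 64, 17043521⟩) (.leaf ⟨64, 17195075, none, 64, 17178717⟩)))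
(.node 2 (.node 1 (.leaf ⟨64, 16982089, none, 64, 16982105⟩) (.leaf ⟨64, 17043521, none, 64, 17043537⟩)) (.node 1 (.leaf ⟨64, 17043521, none, 64, 17059931⟩) (.leaf ⟨64, 17043521, none, 64, 17070145⟩))))
(.node 3 (.node 1 (.leaf ⟨10, 9244763, none, 61, 8941655⟩) (.node 1 (.leaf ⟨61, 17043521, none, 10, 17657933⟩) (.leaf ⟨42, 6776923, (some false), 67, 17043521⟩)))
(.node 2 (.node 1 (.leaf ⟨67, 17043521, (some false), 42, 21979225⟩) (.leaf ⟨42, 9056345, (some false), 67, 17242207⟩)) (.node 1 (.leaf ⟨42, 7292999, (some false), 67, 17109081⟩) (.leaf ⟨42, 31801425, (some false), 67, 17641537⟩)))))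
(.node 7 (.node 3 (.node 1 (.leaf ⟨67, 17584193, none, 67, 17043521⟩) (.node 1 (.leaf ⟨67, 17635395, none, 67, 17043521⟩) (.leaf ⟨67, 17043521, none, 67, 17635395⟩)))
(.node 2 (.node 1 (.leaf ⟨67, 17043521, none, 67, 17584193⟩) (.leaf ⟨67, 25385043, (some true), 68, 17043521⟩)) (.node 1 (.leaf ⟨68, 17043521, (some true), 67, 25385043⟩) (.leaf ⟨68, 4808797, (some false), 69, 17043521⟩))))
(.node 4 (.node 2 (.node 1 (.leaf ⟨69, 17043521, (some false), 68, 23685197⟩) (.leaf ⟨10, 25569359, none, 69, 17719373⟩)) (.node 1 (.leaf ⟨69, 17043521, none, 10, 5003331⟩) (.leaf ⟨68, 27867227, none, 64, 16982105⟩)))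
(.node 2 (.node 1 (.leaf ⟨68, 17043521, none, 64, 11427907⟩) (.leaf ⟨64, 10971209, (some true), 67, 25383003⟩)) (.node 1 (.leaf ⟨64, 11495495, (some true), 67, 25915465⟩) (.leaf ⟨64, 19085399, (some true), 67, 19626075⟩))))))
(.node 14 (.node 7 (.node 3 (.node 1 (.leaf ⟨42, 13510735, (some false), 70, 17043521⟩) (.node 1 (.leaf ⟨42, 27529303, (some false), 70, 17576025⟩) (.leaf ⟨70, 19085399, (some true), 71, 17043521⟩)))
(.node 2 (.node 1 (.leaf ⟨71, 17043521, (some true), 70, 19085399⟩) (.leaf ⟨71, 19085399, (some false), 72, 17043521⟩)) (.node 1 (.leaf ⟨72, 17043521, (some false), 71, 19560517⟩) (.leaf ⟨10, 11487327, none, 72, 17195099⟩))))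
(.node 3 (.node 1 (.leaf ⟨72, 17043521, none, 10, 23939165⟩) (.node 1 (.leaf ⟨71, 19619919, none, 39, 17461317⟩) (.leaf ⟨71, 17043521, none, 39, 19230805⟩)))
(.node 2 (.node 1 (.leaf ⟨70, 17782877, none, 42, 9205827⟩) (.leaf ⟨70, 17043521, none, 42, 13508681⟩)) (.node 1 (.leaf ⟨67, 17043521, (some true), 73, 17043521⟩) (.leaf ⟨73, 17043521, (some true), 67, 17043521⟩)))))
(.node 7 (.node 3 (.node 1 (.leaf ⟨73, 10971209, (some true), 74, 17043521⟩) (.node 1 (.leaf ⟨74, 17043521, (some true), 73, 10971209⟩) (.leaf ⟨74, 13310023, (some true), 75, 17043521⟩)))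
(.node 2 (.node 1 (.leaf ⟨75, 17043521, (some true), 74, 13310023⟩) (.leaf ⟨10, 11472987, none, 75, 23666769⟩)) (.node 1 (.leaf ⟨75, 17043521, none, 10, 6971463⟩) (.leaf ⟨74, 24000607, none, 42, 13312091⟩))))
(.node 4 (.node 2 (.node 1 (.leaf ⟨74, 17043521, none, 42, 6842461⟩) (.leaf ⟨73, 9070675, none, 53, 11081811⟩)) (.node 1 (.leaf ⟨73, 17043521, none, 53, 19558465⟩) (.leaf ⟨53, 25385043, (some true), 67, 9244737⟩)))
(.node 2 (.node 1 (.leaf ⟨53, 17059919, (some true), 67, 19140673⟩) (.leaf ⟨42, 32125001, (some true), 76, 17043521⟩)) (.node 1 (.leaf ⟨42, 17059919, (some true), 76, 25694297⟩) (.leaf ⟨76, 32125001, (some true), 77, 17043521⟩)))))))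
(.node 29 (.node 14 (.node 7 (.node 3 (.node 1 (.leaf ⟨77, 17043521, (some true), 76, 32125001⟩) (.node 1 (.leaf ⟨77, 32125001, (some true), 78, 17043521⟩) (.leaf ⟨78, 17043521, (some true), 77, 32125001⟩)))
(.node 2 (.node 1 (.leaf ⟨10, 11159619, none, 78, 6959171⟩) (.leaf ⟨78, 17043521, none, 10, 21258305⟩)) (.node 1 (.leaf ⟨77, 29775963, none, 34, 17043521⟩) (.leaf ⟨77, 29775963, none, 10, 21774425⟩))))
(.node 3 (.node 1 (.leaf ⟨77, 17043521, none, 10, 6774851⟩) (.node 1 (.leaf ⟨76, 6961227, none, 42, 15605835⟩) (.leaf ⟨76, 17043521, none, 42, 5132353⟩)))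
(.node 2 (.node 1 (.leaf ⟨13, 31801425, (some false), 79, 17043521⟩) (.leaf ⟨79, 17043543, none, 79, 17043521⟩)) (.node 1 (.leaf ⟨79, 17051737, none, 79, 17043521⟩) (.leaf ⟨79, 17070175, none, 79, 17043521⟩)))))
(.node 7 (.node 3 (.node 1 (.leaf ⟨79, 17045591, none, 79, 17043521⟩) (.node 1 (.leaf ⟨79, 17043521, none, 79, 17045589⟩) (.leaf ⟨79, 17043521, none, 79, 17070149⟩)))
(.node 2 (.node 1 (.leaf ⟨79, 17043521, none, 79, 17051737⟩) (.leaf ⟨79, 17043521, none, 79, 17043543⟩)) (.node 1 (.leaf ⟨79, 19085399, (some false), 80, 17043521⟩) (.leaf ⟨80, 17043531, none, 80, 17043521⟩))))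
(.node 4 (.node 2 (.node 1 (.leaf ⟨80, 17043521, none, 80, 17043531⟩) (.leaf ⟨80, 19085399, (some false), 81, 17043521⟩)) (.node 1 (.leaf ⟨81, 17043521, (some false), 80, 19560517⟩) (.leaf ⟨13, 9060433, none, 81, 19738709⟩)))
(.node 2 (.node 1 (.leaf ⟨81, 17043521, none, 13, 25643101⟩) (.leaf ⟨13, 7292999, (some false), 80, 19812419⟩)) (.node 1 (.leaf ⟨13, 29904967, (some true), 82, 17043521⟩) (.leaf ⟨13, 32125001, (some true), 82, 27611217⟩))))))
(.node 15 (.node 7 (.node 3 (.node 1 (.leaf ⟨13, 13310023, (some true), 82, 11040857⟩) (.node 1 (.leaf ⟨13, 4544593, (some true), 82, 25448521⟩) (.leaf ⟨82, 11358283, none, 82, 25448521⟩)))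
(.node 2 (.node 1 (.leaf ⟨82, 17125441, none, 82, 11040857⟩) (.leaf ⟨82, 9195611, none, 82, 25448521⟩)) (.node 1 (.leaf ⟨82, 11341891, none, 82, 27611217⟩) (.leaf ⟨82, 17043521, none, 82, 8941659⟩))))
(.node 4 (.node 2 (.node 1 (.leaf ⟨82, 17043521, none, 82, 8917083⟩) (.leaf ⟨82, 17043521, none, 82, 8925275⟩)) (.node 1 (.leaf ⟨82, 17043521, none, 82, 11079747⟩) (.leaf ⟨13, 31801425, (some true), 85, 17043521⟩)))
(.node 2 (.node 1 (.leaf ⟨85, 17043521, (some true), 13, 31801425⟩) (.leaf ⟨13, 4808797, (some true), 85, 11302979⟩)) (.node 1 (.leaf ⟨13, 13510735, (some true), 85, 25702475⟩) (.leaf ⟨85, 25432145, none, 85, 25702475⟩)))))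
(.node 7 (.node 3 (.node 1 (.leaf ⟨85, 25522249, none, 85, 25702475⟩) (.node 1 (.leaf ⟨85, 11104331, none, 85, 11302979⟩) (.leaf ⟨85, 17043521, none, 85, 17569875⟩)))
(.node 2 (.node 1 (.leaf ⟨85, 17043521, none, 85, 17659971⟩) (.leaf ⟨85, 17043521, none, 85, 17576019⟩)) (.node 1 (.leaf ⟨82, 19085399, (some false), 88, 17043521⟩) (.leaf ⟨82, 4808797, (some false), 88, 17059931⟩))))
(.node 4 (.node 2 (.node 1 (.leaf ⟨82, 17043521, (some false), 88, 17657937⟩) (.leaf ⟨82, 29904967, (some false), 88, 16932943⟩)) (.node 1 (.leaf ⟨88, 16998479, none, 88, 16932943⟩) (.leaf ⟨88, 17715291, none, 88, 17059931⟩)))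
(.node 2 (.node 1 (.leaf ⟨88, 17649755, none, 88, 17059931⟩) (.leaf ⟨88, 17043521, none, 88, 17633345⟩)) (.node 1 (.leaf ⟨88, 17043521, none, 88, 17174593⟩) (.leaf ⟨88, 17043521, none, 88, 17109057⟩))))))))
(.node 59 (.node 29 (.node 14 (.node 7 (.node 3 (.node 1 (.leaf ⟨82, 27529303, (some false), 89, 17043521⟩) (.node 1 (.leaf ⟨89, 17633347, none, 89, 17043521⟩) (.leaf ⟨89, 17506383, none, 89, 17043521⟩)))
(.node 2 (.node 1 (.leaf ⟨89, 17109073, none, 89, 17043521⟩) (.leaf ⟨89, 17043521, none, 89, 17109073⟩)) (.node 1 (.leaf ⟨89, 17043521, none, 89, 16935005⟩) (.leaf ⟨89, 17043521, none, 89, 17633347⟩))))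
(.node 3 (.node 1 (.leaf ⟨89, 19085399, (some true), 90, 17043521⟩) (.node 1 (.leaf ⟨90, 17043521, (some true), 89, 19085399⟩) (.leaf ⟨90, 17584201, none, 90, 17043521⟩)))
(.node 2 (.node 1 (.leaf ⟨90, 17584211, none, 90, 17043521⟩) (.leaf ⟨90, 17043521, none, 90, 17584211⟩)) (.node 1 (.leaf ⟨90, 17043521, none, 90, 17584217⟩) (.leaf ⟨90, 19085399, (some false), 91, 17043521⟩)))))
(.node 7 (.node 3 (.node 1 (.leaf ⟨91, 17043521, (some false), 90, 19560517⟩) (.node 1 (.leaf ⟨13, 32258119, none, 91, 17440851⟩) (.leaf ⟨91, 17043521, none, 13, 15366217⟩)))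
(.node 2 (.node 1 (.leaf ⟨13, 10971209, (some false), 90, 19681347⟩) (.leaf ⟨90, 19554393, none, 90, 19681347⟩)) (.node 1 (.leaf ⟨90, 17043521, none, 90, 16916551⟩) (.leaf ⟨25, 13510735, (some false), 92, 17043521⟩))))
(.node 4 (.node 2 (.node 1 (.leaf ⟨92, 17059921, none, 92, 17043521⟩) (.leaf ⟨92, 17053771, none, 92, 17043521⟩)) (.node 1 (.leaf ⟨92, 17043545, none, 92, 17043521⟩) (.leaf ⟨92, 17045571, none, 92, 17043521⟩)))
(.node 2 (.node 1 (.leaf ⟨92, 17043537, none, 92, 17043521⟩) (.leaf ⟨92, 17043521, none, 92, 17043537⟩)) (.node 1 (.leaf ⟨92, 17043521, none, 92, 17045571⟩) (.leaf ⟨92, 17043521, none, 92, 17043545⟩))))))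
(.node 15 (.node 7 (.node 3 (.node 1 (.leaf ⟨92, 17043521, none, 92, 17053771⟩) (.node 1 (.leaf ⟨92, 17043521, none, 92, 17059921⟩) (.leaf ⟨92, 17043521, (some true), 93, 17043521⟩)))
(.node 2 (.node 1 (.leaf ⟨93, 17043521, (some false), 94, 17043521⟩) (.leaf ⟨94, 17043521, (some false), 93, 17127489⟩)) (.node 1 (.leaf ⟨13, 11485249, none, 94, 17174619⟩) (.leaf ⟨94, 17043521, none, 13, 15548511⟩))))
(.node 4 (.node 2 (.node 1 (.leaf ⟨93, 17061963, none, 79, 17043521⟩) (.leaf ⟨93, 17043521, none, 79, 17061963⟩)) (.node 1 (.leaf ⟨19, 23928925, (some false), 95, 17043521⟩) (.leaf ⟨95, 17043521, (some false), 19, 4991053⟩)))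
(.node 2 (.node 1 (.leaf ⟨19, 13310023, (some false), 95, 17768513⟩) (.leaf ⟨19, 9056345, (some false), 95, 16988245⟩)) (.node 1 (.leaf ⟨19, 6776923, (some false), 95, 17242199⟩) (.leaf ⟨95, 17512533, none, 95, 16988245⟩)))))
(.node 7 (.node 3 (.node 1 (.leaf ⟨95, 17045591, none, 95, 17242199⟩) (.node 1 (.leaf ⟨95, 17702977, none, 95, 17768513⟩) (.leaf ⟨95, 17043521, none, 95, 17109057⟩)))
(.node 2 (.node 1 (.leaf ⟨95, 17043521, none, 95, 17174593⟩) (.leaf ⟨95, 17043521, none, 95, 17567809⟩)) (.node 1 (.leaf ⟨95, 10971209, (some true), 96, 17043521⟩) (.leaf ⟨96, 17043521, (some true), 95, 10971209⟩))))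
(.node 4 (.node 2 (.node 1 (.leaf ⟨96, 17043529, none, 96, 17043521⟩) (.leaf ⟨96, 17043521, none, 96, 17043529⟩)) (.node 1 (.leaf ⟨96, 13510735, (some false), 97, 17043521⟩) (.leaf ⟨97, 17043521, (some false), 96, 29761631⟩)))
(.node 2 (.node 1 (.leaf ⟨13, 11104345, none, 97, 17659987⟩) (.leaf ⟨97, 17043521, none, 13, 25761881⟩)) (.node 1 (.leaf ⟨13, 4808797, (some false), 96, 7037017⟩) (.leaf ⟨13, 6776923, (some false), 96, 23289925⟩)))))))
(.node 29 (.node 14 (.node 7 (.node 3 (.node 1 (.leaf ⟨13, 13310023, (some false), 96, 25440335⟩) (.node 1 (.leaf ⟨13, 13510735, (some false), 96, 25448535⟩) (.leaf ⟨13, 9056345, (some false), 96, 31920199⟩)))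
(.node 2 (.node 1 (.leaf ⟨13, 29904967, (some false), 96, 27619423⟩) (.leaf ⟨13, 27529303, (some false), 96, 13508677⟩)) (.node 1 (.leaf ⟨13, 23928925, (some false), 96, 21110865⟩) (.leaf ⟨96, 21110863, none, 96, 21110865⟩))))
(.node 3 (.node 1 (.leaf ⟨96, 17043521, none, 96, 17043543⟩) (.node 1 (.leaf ⟨96, 17059919, (some true), 95, 11167833⟩) (.leaf ⟨88, 10971209, (some true), 98, 17043521⟩)))
(.node 2 (.node 1 (.leaf ⟨98, 17043521, (some true), 88, 10971209⟩) (.leaf ⟨98, 13510735, (some false), 99, 17043521⟩)) (.node 1 (.leaf ⟨99, 17043521, (some false), 98, 29761631⟩) (.leaf ⟨13, 31854685, none, 99, 17133659⟩)))))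
(.node 7 (.node 3 (.node 1 (.leaf ⟨99, 17043521, none, 13, 6977629⟩) (.node 1 (.leaf ⟨98, 11341899, none, 96, 13508677⟩) (.leaf ⟨98, 17043521, none, 96, 23545941⟩)))
(.node 2 (.node 1 (.leaf ⟨96, 13510735, (some true), 88, 17442907⟩) (.leaf ⟨96, 32131155, (some true), 88, 25305169⟩)) (.node 1 (.leaf ⟨85, 19085399, (some false), 100, 17043521⟩) (.leaf ⟨100, 17043521, (some false), 85, 19560517⟩))))
(.node 4 (.node 2 (.node 1 (.leaf ⟨100, 17586257, none, 100, 17043521⟩) (.leaf ⟨100, 17766483, none, 100, 17043521⟩)) (.node 1 (.leaf ⟨100, 17193041, none, 100, 17043521⟩) (.leaf ⟨100, 17043521, none, 100, 17782865⟩)))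
(.node 2 (.node 1 (.leaf ⟨100, 17043521, none, 100, 17700947⟩) (.leaf ⟨100, 17043521, none, 100, 17586257⟩)) (.node 1 (.leaf ⟨100, 17059919, (some true), 101, 17043521⟩) (.leaf ⟨100, 19085399, (some true), 101, 19232833⟩))))))
(.node 15 (.node 7 (.node 3 (.node 1 (.leaf ⟨101, 19150913, none, 101, 19232833⟩) (.node 1 (.leaf ⟨101, 19738689, none, 101, 19232833⟩) (.leaf ⟨101, 17584209, none, 101, 17043521⟩)))
(.node 2 (.node 1 (.leaf ⟨101, 17043521, none, 101, 17584209⟩) (.leaf ⟨101, 17043521, none, 101, 17649729⟩)) (.node 1 (.leaf ⟨101, 17043521, none, 101, 17127489⟩) (.leaf ⟨101, 19085399, (some true), 102, 17043521⟩))))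
(.node 4 (.node 2 (.node 1 (.leaf ⟨102, 17043521, (some true), 101, 19085399⟩) (.leaf ⟨102, 25385043, (some true), 103, 17043521⟩)) (.node 1 (.leaf ⟨103, 17043521, (some true), 102, 25385043⟩) (.leaf ⟨13, 7096385, none, 103, 6891605⟩)))
(.node 2 (.node 1 (.leaf ⟨103, 17043521, none, 13, 17178713⟩) (.leaf ⟨102, 11475025, none, 51, 17045585⟩)) (.node 1 (.leaf ⟨102, 11475025, none, 25, 25720897⟩) (.leaf ⟨102, 17043521, none, 25, 13574239⟩)))))
(.node 7 (.node 3 (.node 1 (.leaf ⟨25, 13510735, (some true), 101, 17715271⟩) (.node 1 (.leaf ⟨25, 32125001, (some true), 101, 25385039⟩) (.leaf ⟨25, 13310023, (some true), 101, 9058373⟩)))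
(.node 2 (.node 1 (.leaf ⟨25, 32131155, (some true), 101, 25915463⟩) (.leaf ⟨25, 4808797, (some false), 104, 17043521⟩)) (.node 1 (.leaf ⟨104, 17043521, (some false), 25, 23685197⟩) (.leaf ⟨104, 17567809, none, 104, 17043521⟩))))
(.node 4 (.node 2 (.node 1 (.leaf ⟨104, 17109057, none, 104, 17043521⟩) (.leaf ⟨104, 17043527, none, 104, 17043521⟩)) (.node 1 (.leaf ⟨104, 17698881, none, 104, 17043521⟩) (.leaf ⟨104, 17043537, none, 104, 17043521⟩)))
(.node 2 (.node 1 (.leaf ⟨104, 17043541, none, 104, 17043521⟩) (.leaf ⟨104, 17043521, none, 104, 17043541⟩)) (.node 1 (.leaf ⟨104, 17043521, none, 104, 17043537⟩) (.leaf ⟨104, 17043521, none, 104, 17698881⟩)))))))))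

/-- The facts. -/
def caseBFullFactsLLRR : Tab Fct :=
(.node 117 (.node 58 (.node 29 (.node 14 (.node 7 (.node 3 (.node 1 (.leaf ⟨104, 17043521, none, 104, 17043527⟩) (.node 1 (.leaf ⟨104, 17043521, none, 104, 17109057⟩) (.leaf ⟨104, 17043521, none, 104, 17567809⟩)))
(.node 2 (.node 1 (.leaf ⟨104, 17059919, (some true), 105, 17043521⟩) (.leaf ⟨104, 17043521, (some true), 105, 17068113⟩)) (.node 1 (.leaf ⟨104, 25385043, (some true), 105, 11087937⟩) (.leaf ⟨104, 19085399, (some true), 105, 19673171⟩))))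
(.node 3 (.node 1 (.leaf ⟨105, 17059905, none, 105, 17043521⟩) (.node 1 (.leaf ⟨105, 17053777, none, 105, 17068113⟩) (.leaf ⟨105, 17125459, none, 105, 17043521⟩)))
(.node 2 (.node 1 (.leaf ⟨105, 17586243, none, 105, 17043521⟩) (.leaf ⟨105, 17043521, none, 105, 17586243⟩)) (.node 1 (.leaf ⟨105, 17043521, none, 105, 17125459⟩) (.leaf ⟨105, 17043521, none, 105, 17061953⟩)))))
(.node 7 (.node 3 (.node 1 (.leaf ⟨105, 17043521, none, 105, 17059905⟩) (.node 1 (.leaf ⟨105, 11495495, (some true), 106, 17043521⟩) (.leaf ⟨106, 17043521, (some true), 105, 11495495⟩)))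
(.node 2 (.node 1 (.leaf ⟨106, 32131155, (some true), 107, 17043521⟩) (.leaf ⟨107, 17043521, (some true), 106, 32131155⟩)) (.node 1 (.leaf ⟨13, 28254299, none, 107, 23226449⟩) (.leaf ⟨107, 17043521, none, 13, 4616287⟩))))
(.node 4 (.node 2 (.node 1 (.leaf ⟨106, 31672409, none, 82, 11040857⟩) (.leaf ⟨106, 17043521, none, 82, 29573185⟩)) (.node 1 (.leaf ⟨82, 32131155, (some true), 105, 27402309⟩) (.leaf ⟨82, 32125001, (some true), 105, 27992143⟩)))
(.node 2 (.node 1 (.leaf ⟨19, 19085399, (some false), 108, 17043521⟩) (.leaf ⟨108, 19085399, (some false), 109, 17043521⟩)) (.node 1 (.leaf ⟨109, 17043521, (some false), 108, 19560517⟩) (.leaf ⟨18, 29958217, none, 109, 19605587⟩))))))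
(.node 14 (.node 7 (.node 3 (.node 1 (.leaf ⟨109, 17043521, none, 18, 13113431⟩) (.node 1 (.leaf ⟨108, 19085383, none, 19, 17002571⟩) (.leaf ⟨108, 17043521, none, 19, 19157063⟩)))
(.node 2 (.node 1 (.leaf ⟨26, 13510735, (some true), 110, 17043521⟩) (.leaf ⟨110, 17059919, (some true), 111, 17043521⟩)) (.node 1 (.leaf ⟨111, 17043521, (some true), 110, 17059919⟩) (.leaf ⟨18, 12800079, none, 111, 8992853⟩))))
(.node 3 (.node 1 (.leaf ⟨111, 17043521, none, 18, 6975577⟩) (.node 1 (.leaf ⟨110, 27873375, none, 26, 31672401⟩) (.leaf ⟨110, 17043521, none, 26, 31858773⟩)))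
(.node 2 (.node 1 (.leaf ⟨26, 31801425, (some false), 112, 17043521⟩) (.leaf ⟨112, 17043521, (some false), 26, 14958673⟩)) (.node 1 (.leaf ⟨26, 7292999, (some false), 112, 17461333⟩) (.leaf ⟨26, 6776923, (some false), 112, 17463375⟩)))))
(.node 7 (.node 3 (.node 1 (.leaf ⟨26, 9056345, (some false), 112, 17721439⟩) (.node 1 (.leaf ⟨112, 17592389, none, 112, 17461333⟩) (.leaf ⟨112, 17197125, none, 112, 17721439⟩)))
(.node 2 (.node 1 (.leaf ⟨112, 17043521, none, 112, 17567813⟩) (.leaf ⟨112, 17043521, none, 112, 17698897⟩)) (.node 1 (.leaf ⟨112, 10971209, (some true), 114, 17043521⟩) (.leaf ⟨114, 17043521, (some true), 112, 10971209⟩))))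
(.node 4 (.node 2 (.node 1 (.leaf ⟨114, 17051737, none, 114, 17043521⟩) (.leaf ⟨114, 17068113, none, 114, 17043521⟩)) (.node 1 (.leaf ⟨114, 17043521, none, 114, 17068113⟩) (.leaf ⟨114, 17043521, none, 114, 17051737⟩)))
(.node 2 (.node 1 (.leaf ⟨114, 13510735, (some false), 115, 17043521⟩) (.leaf ⟨115, 17043521, (some false), 114, 29761631⟩)) (.node 1 (.leaf ⟨18, 27402307, none, 115, 17135683⟩) (.leaf ⟨115, 17043521, none, 18, 26093633⟩)))))))
(.node 29 (.node 14 (.node 7 (.node 3 (.node 1 (.leaf ⟨18, 32125001, (some false), 114, 11360343⟩) (.node 1 (.leaf ⟨18, 9056345, (some false), 114, 27603035⟩) (.leaf ⟨18, 23928925, (some false), 114, 13510745⟩)))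
(.node 2 (.node 1 (.leaf ⟨18, 10971209, (some false), 114, 15689811⟩) (.leaf ⟨18, 6776923, (some false), 114, 31920199⟩)) (.node 1 (.leaf ⟨18, 13310023, (some false), 114, 21133397⟩) (.leaf ⟨18, 7292999, (some false), 114, 11358277⟩))))
(.node 3 (.node 1 (.leaf ⟨18, 31801425, (some false), 114, 11343963⟩) (.node 1 (.leaf ⟨114, 31938643, none, 114, 11360343⟩) (.leaf ⟨114, 27611219, none, 114, 11358277⟩)))
(.node 2 (.node 1 (.leaf ⟨114, 17043521, none, 114, 8917063⟩) (.leaf ⟨114, 17059919, (some true), 112, 10698833⟩)) (.node 1 (.leaf ⟨114, 17043521, none, 114, 23531615⟩) (.leaf ⟨114, 13310023, (some true), 112, 9324633⟩)))))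
(.node 7 (.node 3 (.node 1 (.leaf ⟨114, 32125001, (some true), 112, 25313363⟩) (.node 1 (.leaf ⟨114, 32131155, (some true), 112, 25632849⟩) (.leaf ⟨114, 13510735, (some true), 112, 17786969⟩)))
(.node 2 (.node 1 (.leaf ⟨112, 17059919, (some true), 116, 17043521⟩) (.leaf ⟨116, 17043521, (some true), 112, 17059919⟩)) (.node 1 (.leaf ⟨112, 17043521, (some true), 116, 17594451⟩) (.leaf ⟨112, 25385043, (some true), 116, 11276355⟩))))
(.node 4 (.node 2 (.node 1 (.leaf ⟨112, 19085399, (some true), 116, 19691603⟩) (.leaf ⟨116, 19085399, (some true), 117, 17043521⟩)) (.node 1 (.leaf ⟨117, 17043521, (some true), 116, 19085399⟩) (.leaf ⟨117, 25385043, (some true), 118, 17043521⟩)))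
(.node 2 (.node 1 (.leaf ⟨118, 17043521, (some true), 117, 25385043⟩) (.leaf ⟨18, 26171477, none, 118, 4794437⟩)) (.node 1 (.leaf ⟨118, 17043521, none, 18, 13590603⟩) (.leaf ⟨117, 10711115, none, 26, 13248595⟩))))))
(.node 15 (.node 7 (.node 3 (.node 1 (.leaf ⟨117, 17043521, none, 26, 25903183⟩) (.node 1 (.leaf ⟨26, 11495495, (some true), 116, 10711111⟩) (.leaf ⟨26, 4808797, (some true), 116, 10909765⟩)))
(.node 2 (.node 1 (.leaf ⟨26, 29904967, (some true), 116, 10704975⟩) (.leaf ⟨26, 19085399, (some true), 116, 11483229⟩)) (.node 1 (.leaf ⟨26, 10971209, (some true), 116, 10645597⟩) (.leaf ⟨26, 31801425, (some true), 116, 17764445⟩))))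
(.node 4 (.node 2 (.node 1 (.leaf ⟨26, 4544593, (some true), 116, 10711119⟩) (.leaf ⟨26, 25385043, (some true), 116, 25628765⟩)) (.node 1 (.leaf ⟨116, 27408479, none, 116, 25628765⟩) (.leaf ⟨116, 17043521, none, 116, 19013699⟩)))
(.node 2 (.node 1 (.leaf ⟨18, 17059919, (some true), 119, 17043521⟩) (.leaf ⟨119, 4808797, (some false), 120, 17043521⟩)) (.node 1 (.leaf ⟨120, 17043521, (some false), 119, 23685197⟩) (.leaf ⟨120, 19085399, (some true), 121, 17043521⟩)))))
(.node 7 (.node 3 (.node 1 (.leaf ⟨121, 17043521, (some true), 120, 19085399⟩) (.node 1 (.leaf ⟨121, 19085399, (some true), 122, 17043521⟩) (.leaf ⟨122, 17043521, (some true), 121, 19085399⟩)))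
(.node 2 (.node 1 (.leaf ⟨122, 11495495, (some true), 123, 17043521⟩) (.leaf ⟨123, 17043521, (some true), 122, 11495495⟩)) (.node 1 (.leaf ⟨18, 25450575, none, 123, 4941905⟩) (.leaf ⟨123, 17043521, none, 18, 7217237⟩))))
(.node 4 (.node 2 (.node 1 (.leaf ⟨122, 19816527, none, 26, 4941889⟩) (.leaf ⟨122, 17043521, none, 26, 13506649⟩)) (.node 1 (.leaf ⟨26, 32125001, (some true), 121, 27408477⟩) (.leaf ⟨19, 27529303, (some false), 126, 17043521⟩)))
(.node 2 (.node 1 (.leaf ⟨19, 32125001, (some false), 126, 17717327⟩) (.leaf ⟨19, 13510735, (some false), 126, 16937045⟩)) (.node 1 (.leaf ⟨19, 10971209, (some false), 126, 16918623⟩) (.leaf ⟨19, 4808797, (some false), 126, 17594437⟩))))))))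
(.node 59 (.node 29 (.node 14 (.node 7 (.node 3 (.node 1 (.leaf ⟨19, 7292999, (some false), 126, 17260609⟩) (.node 1 (.leaf ⟨19, 29904967, (some false), 126, 17193041⟩) (.leaf ⟨19, 31801425, (some false), 126, 16986201⟩)))
(.node 2 (.node 1 (.leaf ⟨126, 17109071, none, 126, 16918623⟩) (.leaf ⟨126, 17584221, none, 126, 17043521⟩)) (.node 1 (.leaf ⟨126, 17043521, none, 126, 17584221⟩) (.leaf ⟨126, 17043521, none, 126, 16916561⟩))))
(.node 3 (.node 1 (.leaf ⟨126, 19085399, (some false), 127, 17043521⟩) (.node 1 (.leaf ⟨127, 19085399, (some false), 128, 17043521⟩) (.leaf ⟨128, 17043521, (some false), 127, 19560517⟩)))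
(.node 2 (.node 1 (.leaf ⟨19, 13572161, none, 128, 19667017⟩) (.leaf ⟨128, 17043521, none, 19, 29757531⟩)) (.node 1 (.leaf ⟨127, 19812419, none, 126, 16937045⟩) (.leaf ⟨127, 17043521, none, 126, 19603527⟩)))))
(.node 7 (.node 3 (.node 1 (.leaf ⟨19, 13310023, (some true), 129, 17043521⟩) (.node 1 (.leaf ⟨129, 17043521, (some true), 19, 13310023⟩) (.leaf ⟨19, 32125001, (some true), 129, 9009241⟩)))
(.node 2 (.node 1 (.leaf ⟨19, 4544593, (some true), 129, 8941657⟩) (.leaf ⟨19, 32131155, (some true), 129, 11278403⟩)) (.node 1 (.leaf ⟨19, 31801425, (some true), 129, 9263187⟩) (.leaf ⟨19, 4808797, (some true), 129, 27529305⟩))))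
(.node 4 (.node 2 (.node 1 (.leaf ⟨19, 13510735, (some true), 129, 11302993⟩) (.leaf ⟨19, 29904967, (some true), 129, 11098185⟩)) (.node 1 (.leaf ⟨129, 11360347, none, 129, 11302993⟩) (.leaf ⟨129, 9197659, none, 129, 9009241⟩)))
(.node 2 (.node 1 (.leaf ⟨129, 17043521, none, 129, 17649731⟩) (.leaf ⟨129, 17043521, none, 129, 17127505⟩)) (.node 1 (.leaf ⟨129, 17059919, (some true), 130, 17043521⟩) (.leaf ⟨130, 17059919, (some true), 131, 17043521⟩))))))
(.node 15 (.node 7 (.node 3 (.node 1 (.leaf ⟨131, 17043521, (some true), 130, 17059919⟩) (.node 1 (.leaf ⟨19, 6715461, none, 131, 19232861⟩) (.leaf ⟨131, 17043521, none, 19, 30019673⟩)))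
(.node 2 (.node 1 (.leaf ⟨130, 11022431, none, 129, 9009241⟩) (.leaf ⟨130, 17043521, none, 129, 19216469⟩)) (.node 1 (.leaf ⟨19, 10971209, (some true), 132, 17043521⟩) (.leaf ⟨132, 17043521, (some true), 19, 10971209⟩))))
(.node 4 (.node 2 (.node 1 (.leaf ⟨19, 17059919, (some true), 132, 9187393⟩) (.leaf ⟨132, 9205827, none, 132, 9187393⟩)) (.node 1 (.leaf ⟨132, 19230785, none, 132, 17043521⟩) (.leaf ⟨132, 19206235, none, 132, 17043521⟩)))
(.node 2 (.node 1 (.leaf ⟨132, 17043521, none, 132, 19206235⟩) (.leaf ⟨132, 17043521, none, 132, 19230785⟩)) (.node 1 (.leaf ⟨132, 17043521, none, 132, 17070147⟩) (.leaf ⟨132, 29904967, (some false), 134, 17043521⟩)))))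
(.node 7 (.node 3 (.node 1 (.leaf ⟨132, 4808797, (some false), 134, 16937041⟩) (.node 1 (.leaf ⟨134, 16916545, none, 134, 16937041⟩) (.leaf ⟨134, 17051737, none, 134, 17043521⟩)))
(.node 2 (.node 1 (.leaf ⟨134, 17043521, none, 134, 17051737⟩) (.leaf ⟨134, 17043521, none, 134, 17068113⟩)) (.node 1 (.leaf ⟨22, 13510735, (some false), 135, 17043521⟩) (.leaf ⟨22, 4808797, (some false), 135, 17512539⟩))))
(.node 4 (.node 2 (.node 1 (.leaf ⟨22, 29904967, (some false), 135, 17127517⟩) (.leaf ⟨22, 27529303, (some false), 135, 17719381⟩)) (.node 1 (.leaf ⟨22, 10971209, (some false), 135, 17256533⟩) (.leaf ⟨22, 31801425, (some false), 135, 17127519⟩)))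
(.node 2 (.node 1 (.leaf ⟨22, 7292999, (some false), 135, 17528927⟩) (.leaf ⟨22, 32125001, (some false), 135, 17117257⟩)) (.node 1 (.leaf ⟨135, 17506393, none, 135, 17528927⟩) (.leaf ⟨135, 17133635, none, 135, 17117257⟩)))))))
(.node 29 (.node 14 (.node 7 (.node 3 (.node 1 (.leaf ⟨135, 17043521, none, 135, 17059913⟩) (.node 1 (.leaf ⟨135, 17043521, none, 135, 17051737⟩) (.leaf ⟨135, 17043521, (some true), 136, 17043521⟩)))
(.node 2 (.node 1 (.leaf ⟨136, 17043521, (some true), 135, 17043521⟩) (.leaf ⟨136, 17043521, (some false), 137, 17043521⟩)) (.node 1 (.leaf ⟨137, 17043521, (some false), 136, 17127489⟩) (.leaf ⟨19, 11159639, none, 137, 17242193⟩))))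
(.node 3 (.node 1 (.leaf ⟨137, 17043521, none, 19, 15419461⟩) (.node 1 (.leaf ⟨136, 17440847, none, 126, 17260609⟩) (.leaf ⟨136, 17043521, none, 126, 17780831⟩)))
(.node 2 (.node 1 (.leaf ⟨126, 19085399, (some true), 135, 19165249⟩) (.leaf ⟨129, 17043521, (some false), 138, 17043521⟩)) (.node 1 (.leaf ⟨138, 17569873, none, 138, 17043521⟩) (.leaf ⟨138, 17127491, none, 138, 17043521⟩)))))
(.node 7 (.node 3 (.node 1 (.leaf ⟨138, 17043521, none, 138, 17127491⟩) (.node 1 (.leaf ⟨138, 17043521, none, 138, 17569873⟩) (.leaf ⟨138, 25385043, (some true), 139, 17043521⟩)))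
(.node 2 (.node 1 (.leaf ⟨139, 17043521, (some true), 138, 25385043⟩) (.leaf ⟨139, 4808797, (some false), 140, 17043521⟩)) (.node 1 (.leaf ⟨140, 17043521, (some false), 139, 23685197⟩) (.leaf ⟨19, 32266325, none, 140, 17180759⟩))))
(.node 4 (.node 2 (.node 1 (.leaf ⟨140, 17043521, none, 19, 28012611⟩) (.leaf ⟨139, 6905939, none, 95, 16988245⟩)) (.node 1 (.leaf ⟨139, 17043521, none, 95, 11040849⟩) (.leaf ⟨95, 17043521, (some true), 138, 17002563⟩)))
(.node 2 (.node 1 (.leaf ⟨95, 25385043, (some true), 138, 11145291⟩) (.leaf ⟨19, 25385043, (some true), 141, 17043521⟩)) (.node 1 (.leaf ⟨141, 19157083, none, 141, 17043521⟩) (.leaf ⟨141, 27537473, none, 141, 17043521⟩))))))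
(.node 15 (.node 7 (.node 3 (.node 1 (.leaf ⟨141, 19140683, none, 141, 17043521⟩) (.node 1 (.leaf ⟨141, 17043521, none, 141, 19140683⟩) (.leaf ⟨141, 17043521, none, 141, 27537473⟩)))
(.node 2 (.node 1 (.leaf ⟨141, 17043521, none, 141, 19159129⟩) (.leaf ⟨129, 29904967, (some false), 145, 17043521⟩)) (.node 1 (.leaf ⟨129, 27529303, (some false), 145, 17770589⟩) (.leaf ⟨145, 17059919, (some true), 146, 17043521⟩))))
(.node 4 (.node 2 (.node 1 (.leaf ⟨146, 17043521, (some true), 145, 17059919⟩) (.leaf ⟨146, 17043521, (some false), 147, 17043521⟩)) (.node 1 (.leaf ⟨147, 17043521, (some false), 146, 17127489⟩) (.leaf ⟨19, 21841991, none, 147, 16937027⟩)))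
(.node 2 (.node 1 (.leaf ⟨147, 17043521, none, 19, 25643081⟩) (.leaf ⟨146, 17070147, none, 126, 17260609⟩)) (.node 1 (.leaf ⟨146, 17043521, none, 126, 17457219⟩) (.leaf ⟨126, 10971209, (some true), 145, 25514077⟩)))))
(.node 7 (.node 3 (.node 1 (.leaf ⟨126, 11495495, (some true), 145, 25778253⟩) (.node 1 (.leaf ⟨126, 17059919, (some true), 145, 17043535⟩) (.leaf ⟨126, 17043521, (some true), 145, 17567837⟩)))
(.node 2 (.node 1 (.leaf ⟨134, 11495495, (some true), 148, 17043521⟩) (.leaf ⟨134, 25385043, (some true), 148, 27809857⟩)) (.node 1 (.leaf ⟨134, 10971209, (some true), 148, 8935499⟩) (.leaf ⟨134, 19085399, (some true), 148, 27539523⟩))))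
(.node 4 (.node 2 (.node 1 (.leaf ⟨148, 32125001, (some true), 149, 17043521⟩) (.leaf ⟨149, 32125001, (some true), 150, 17043521⟩)) (.node 1 (.leaf ⟨150, 17043521, (some true), 149, 32125001⟩) (.leaf ⟨19, 25694303, none, 150, 6977603⟩)))
(.node 2 (.node 1 (.leaf ⟨150, 17043521, none, 19, 21841991⟩) (.leaf ⟨149, 13506643, none, 129, 27529305⟩)) (.node 1 (.leaf ⟨149, 17043521, none, 129, 13310037⟩) (.leaf ⟨129, 19085399, (some false), 151, 17043521⟩)))))))))

/-- The facts. -/
def caseBFullFactsLLR : Tab Fct := .node 235 caseBFullFactsLLRL caseBFullFactsLLRR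

/-- The facts. -/
def caseBFullFactsLL : Tab Fct := .node 469 caseBFullFactsLLL caseBFullFactsLLR

/-- The facts. -/
def caseBFullFactsLRLL : Tab Fct :=
(.node 117 (.node 58 (.node 29 (.node 14 (.node 7 (.node 3 (.node 1 (.leaf ⟨151, 17043521, (some false), 129, 19560517⟩) (.node 1 (.leaf ⟨151, 17635411, none, 151, 17043521⟩) (.leaf ⟨151, 17125443, none, 151, 17043521⟩)))
(.node 2 (.node 1 (.leaf ⟨151, 17043521, none, 151, 17125443⟩) (.leaf ⟨151, 17043521, none, 151, 17635411⟩)) (.node 1 (.leaf ⟨151, 19085399, (some true), 152, 17043521⟩) (.leaf ⟨152, 17043521, (some true), 151, 19085399⟩))))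
(.node 3 (.node 1 (.leaf ⟨152, 11495495, (some true), 153, 17043521⟩) (.node 1 (.leaf ⟨153, 17043521, (some true), 152, 11495495⟩) (.leaf ⟨153, 13310023, (some true), 154, 17043521⟩)))
(.node 2 (.node 1 (.leaf ⟨154, 17043521, (some true), 153, 13310023⟩) (.leaf ⟨19, 21393475, none, 154, 6844485⟩)) (.node 1 (.leaf ⟨154, 17043521, none, 19, 27660369⟩) (.leaf ⟨153, 21131351, none, 141, 17043521⟩)))))
(.node 7 (.node 3 (.node 1 (.leaf ⟨153, 17043521, none, 141, 25829459⟩) (.node 1 (.leaf ⟨141, 10971209, (some true), 152, 25829447⟩) (.leaf ⟨141, 11495495, (some true), 152, 27729991⟩)))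
(.node 2 (.node 1 (.leaf ⟨141, 13310023, (some true), 152, 8798285⟩) (.leaf ⟨141, 32125001, (some true), 152, 27404367⟩)) (.node 1 (.leaf ⟨141, 32131155, (some true), 152, 26093663⟩) (.leaf ⟨141, 13510735, (some true), 152, 19802183⟩))))
(.node 4 (.node 2 (.node 1 (.leaf ⟨141, 19085399, (some true), 152, 19341391⟩) (.leaf ⟨141, 25385043, (some true), 152, 8544351⟩)) (.node 1 (.leaf ⟨132, 17059919, (some true), 157, 17043521⟩) (.leaf ⟨157, 17043521, (some true), 132, 17059919⟩)))
(.node 2 (.node 1 (.leaf ⟨22, 27928645, none, 157, 11358295⟩) (.leaf ⟨157, 17043521, none, 22, 8536155⟩)) (.node 1 (.leaf ⟨22, 10971209, (some true), 132, 8999005⟩) (.leaf ⟨22, 17059919, (some true), 132, 25456733⟩))))))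
(.node 14 (.node 7 (.node 3 (.node 1 (.leaf ⟨22, 31801425, (some true), 158, 17043521⟩) (.node 1 (.leaf ⟨158, 17043521, (some true), 22, 31801425⟩) (.leaf ⟨22, 4544593, (some true), 158, 19230801⟩)))
(.node 2 (.node 1 (.leaf ⟨22, 13510735, (some true), 158, 25507913⟩) (.leaf ⟨22, 13310023, (some true), 158, 25776211⟩)) (.node 1 (.leaf ⟨22, 32125001, (some true), 158, 19222617⟩) (.leaf ⟨22, 32131155, (some true), 158, 19232857⟩))))
(.node 3 (.node 1 (.leaf ⟨22, 29904967, (some true), 158, 27545675⟩) (.node 1 (.leaf ⟨22, 4808797, (some true), 158, 11352137⟩) (.leaf ⟨158, 17059919, (some true), 159, 17043521⟩)))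
(.node 2 (.node 1 (.leaf ⟨159, 17059919, (some true), 160, 17043521⟩) (.leaf ⟨160, 17043521, (some true), 159, 17059919⟩)) (.node 1 (.leaf ⟨22, 29911121, none, 160, 27611215⟩) (.leaf ⟨160, 17043521, none, 22, 15482957⟩)))))
(.node 7 (.node 3 (.node 1 (.leaf ⟨159, 11022431, none, 158, 11352137⟩) (.node 1 (.leaf ⟨159, 17043521, none, 158, 17569885⟩) (.leaf ⟨158, 29904967, (some false), 161, 17043521⟩)))
(.node 2 (.node 1 (.leaf ⟨53, 10971209, (some true), 162, 17043521⟩) (.leaf ⟨162, 13510735, (some false), 163, 17043521⟩)) (.node 1 (.leaf ⟨163, 17043521, (some false), 162, 29761631⟩) (.leaf ⟨22, 28194895, none, 163, 17127491⟩))))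
(.node 4 (.node 2 (.node 1 (.leaf ⟨163, 17043521, none, 22, 25589853⟩) (.leaf ⟨162, 21131331, none, 53, 17043521⟩)) (.node 1 (.leaf ⟨162, 17043521, none, 53, 25829443⟩) (.leaf ⟨132, 27529303, (some false), 164, 17043521⟩)))
(.node 2 (.node 1 (.leaf ⟨164, 17043521, (some false), 132, 25516101⟩) (.leaf ⟨22, 19142739, none, 164, 17193037⟩)) (.node 1 (.leaf ⟨164, 17043521, none, 22, 19877979⟩) (.leaf ⟨132, 4941889, none, 50, 17043521⟩)))))))
(.node 29 (.node 14 (.node 7 (.node 3 (.node 1 (.leaf ⟨132, 4941889, none, 26, 31942731⟩) (.node 1 (.leaf ⟨132, 17043521, none, 26, 21434463⟩) (.leaf ⟨26, 13310023, (some true), 19, 10897481⟩)))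
(.node 2 (.node 1 (.leaf ⟨26, 23928925, (some false), 134, 17594449⟩) (.leaf ⟨26, 13310023, (some false), 134, 17176649⟩)) (.node 1 (.leaf ⟨26, 10971209, (some false), 134, 16986203⟩) (.leaf ⟨157, 19664977, none, 121, 27408477⟩))))
(.node 3 (.node 1 (.leaf ⟨22, 25315417, none, 121, 27408477⟩) (.node 1 (.leaf ⟨121, 17043521, none, 22, 19167305⟩) (.leaf ⟨120, 16922695, none, 19, 17043521⟩)))
(.node 2 (.node 1 (.leaf ⟨120, 17043521, none, 19, 17244235⟩) (.leaf ⟨119, 25768003, none, 18, 25516101⟩)) (.node 1 (.leaf ⟨119, 17043521, none, 18, 17586269⟩) (.leaf ⟨145, 25385043, (some true), 165, 17043521⟩)))))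
(.node 7 (.node 3 (.node 1 (.leaf ⟨165, 17043521, (some true), 145, 25385043⟩) (.node 1 (.leaf ⟨165, 31801425, (some true), 166, 17043521⟩) (.leaf ⟨166, 17043521, (some true), 165, 31801425⟩)))
(.node 2 (.node 1 (.leaf ⟨22, 25641037, none, 166, 21133381⟩) (.leaf ⟨166, 17043521, none, 22, 15622231⟩)) (.node 1 (.leaf ⟨165, 32262217, none, 158, 25507913⟩) (.leaf ⟨165, 17043521, none, 158, 8804417⟩))))
(.node 4 (.node 2 (.node 1 (.leaf ⟨158, 25385043, (some true), 145, 9310291⟩) (.leaf ⟨158, 27529303, (some false), 167, 17043521⟩)) (.node 1 (.leaf ⟨167, 17059919, (some true), 168, 17043521⟩) (.leaf ⟨168, 17043521, (some true), 167, 17059919⟩)))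
(.node 2 (.node 1 (.leaf ⟨168, 25385043, (some true), 169, 17043521⟩) (.leaf ⟨169, 17043521, (some true), 168, 25385043⟩)) (.node 1 (.leaf ⟨169, 4544593, (some true), 170, 17043521⟩) (.leaf ⟨170, 17043521, (some true), 169, 4544593⟩))))))
(.node 15 (.node 7 (.node 3 (.node 1 (.leaf ⟨22, 6830157, none, 170, 21114961⟩) (.node 1 (.leaf ⟨170, 17043521, none, 22, 11278429⟩) (.leaf ⟨169, 13441115, none, 132, 25456733⟩)))
(.node 2 (.node 1 (.leaf ⟨169, 13441115, none, 26, 4943955⟩) (.leaf ⟨169, 17043521, none, 26, 7090263⟩)) (.node 1 (.leaf ⟨168, 28014667, none, 116, 10704975⟩) (.leaf ⟨168, 17043521, none, 116, 15409237⟩))))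
(.node 4 (.node 2 (.node 1 (.leaf ⟨116, 13510735, (some true), 167, 8990813⟩) (.leaf ⟨116, 29904967, (some true), 167, 9252941⟩)) (.node 1 (.leaf ⟨25, 7292999, (some false), 171, 17043521⟩) (.leaf ⟨25, 31801425, (some false), 171, 17195097⟩)))
(.node 2 (.node 1 (.leaf ⟨25, 23928925, (some false), 171, 17242179⟩) (.leaf ⟨25, 13310023, (some false), 171, 17508427⟩)) (.node 1 (.leaf ⟨171, 17043549, none, 171, 17043521⟩) (.leaf ⟨171, 17043521, none, 171, 17043549⟩)))))
(.node 7 (.node 3 (.node 1 (.leaf ⟨25, 17059919, (some true), 176, 17043521⟩) (.node 1 (.leaf ⟨176, 17059919, (some true), 177, 17043521⟩) (.leaf ⟨177, 17043521, (some true), 176, 17059919⟩)))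
(.node 2 (.node 1 (.leaf ⟨177, 17059919, (some true), 178, 17043521⟩) (.leaf ⟨178, 17043521, (some true), 177, 17059919⟩)) (.node 1 (.leaf ⟨25, 17569861, none, 178, 17125447⟩) (.leaf ⟨178, 17043521, none, 25, 17651779⟩))))
(.node 4 (.node 2 (.node 1 (.leaf ⟨177, 17635405, none, 13, 17442887⟩) (.leaf ⟨177, 17043521, none, 13, 17522777⟩)) (.node 1 (.leaf ⟨176, 25524309, none, 51, 17045585⟩) (.leaf ⟨176, 25524309, none, 25, 25720897⟩)))
(.node 2 (.node 1 (.leaf ⟨176, 17043521, none, 25, 17633357⟩) (.leaf ⟨26, 29904967, (some false), 179, 17043521⟩)) (.node 1 (.leaf ⟨179, 17043521, (some false), 26, 13113429⟩) (.leaf ⟨26, 19085399, (some false), 179, 17457231⟩))))))))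
(.node 58 (.node 29 (.node 14 (.node 7 (.node 3 (.node 1 (.leaf ⟨26, 17043521, (some false), 179, 17180757⟩) (.node 1 (.leaf ⟨25, 31801425, (some true), 180, 17043521⟩) (.leaf ⟨180, 17043521, (some true), 25, 31801425⟩)))
(.node 2 (.node 1 (.leaf ⟨25, 4808797, (some true), 180, 11276355⟩) (.leaf ⟨25, 4544593, (some true), 180, 11079755⟩)) (.node 1 (.leaf ⟨25, 29904967, (some true), 180, 11368515⟩) (.leaf ⟨180, 9189459, none, 180, 11368515⟩))))
(.node 3 (.node 1 (.leaf ⟨180, 25456705, none, 180, 11368515⟩) (.node 1 (.leaf ⟨180, 17045569, none, 180, 17043521⟩) (.leaf ⟨180, 11294787, none, 180, 11276355⟩)))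
(.node 2 (.node 1 (.leaf ⟨180, 17043521, none, 180, 17068097⟩) (.leaf ⟨180, 17043521, none, 180, 17045569⟩)) (.node 1 (.leaf ⟨180, 17043521, none, 180, 11081795⟩) (.leaf ⟨180, 17043521, none, 180, 19230809⟩)))))
(.node 7 (.node 3 (.node 1 (.leaf ⟨180, 19085399, (some false), 181, 17043521⟩) (.node 1 (.leaf ⟨181, 17043521, (some false), 180, 19560517⟩) (.leaf ⟨180, 29904967, (some false), 181, 17457231⟩)))
(.node 2 (.node 1 (.leaf ⟨180, 4808797, (some false), 181, 17584219⟩) (.leaf ⟨180, 17043521, (some false), 181, 17657937⟩)) (.node 1 (.leaf ⟨181, 17002577, none, 181, 17657937⟩) (.leaf ⟨181, 17133649, none, 181, 17657937⟩))))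
(.node 4 (.node 2 (.node 1 (.leaf ⟨181, 17043521, none, 181, 17567809⟩) (.leaf ⟨181, 17043521, none, 181, 17174593⟩)) (.node 1 (.leaf ⟨181, 10971209, (some true), 182, 17043521⟩) (.leaf ⟨182, 17043521, (some true), 181, 10971209⟩)))
(.node 2 (.node 1 (.leaf ⟨182, 13510735, (some false), 183, 17043521⟩) (.leaf ⟨183, 17043521, (some false), 182, 29761631⟩)) (.node 1 (.leaf ⟨25, 31737945, none, 183, 17659985⟩) (.leaf ⟨183, 17043521, none, 25, 5064795⟩))))))
(.node 14 (.node 7 (.node 3 (.node 1 (.leaf ⟨182, 27621445, none, 171, 17043521⟩) (.node 1 (.leaf ⟨182, 17043521, none, 171, 25514069⟩) (.leaf ⟨171, 17059919, (some true), 181, 17195075⟩)))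
(.node 2 (.node 1 (.leaf ⟨171, 17043521, (some true), 181, 17260627⟩) (.leaf ⟨101, 6776923, (some false), 184, 17043521⟩)) (.node 1 (.leaf ⟨101, 9056345, (some false), 184, 17117275⟩) (.leaf ⟨101, 13310023, (some false), 184, 17180753⟩))))
(.node 3 (.node 1 (.leaf ⟨101, 23928925, (some false), 184, 17700929⟩) (.node 1 (.leaf ⟨184, 10971209, (some true), 185, 17043521⟩) (.leaf ⟨185, 13510735, (some false), 186, 17043521⟩)))
(.node 2 (.node 1 (.leaf ⟨186, 17043521, (some false), 185, 29761631⟩) (.leaf ⟨25, 30087237, none, 186, 17125459⟩)) (.node 1 (.leaf ⟨186, 17043521, none, 25, 14899271⟩) (.leaf ⟨185, 15687759, none, 171, 17508427⟩)))))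
(.node 7 (.node 3 (.node 1 (.leaf ⟨185, 17043521, none, 171, 25851983⟩) (.node 1 (.leaf ⟨179, 17059919, (some true), 187, 17043521⟩) (.leaf ⟨187, 17043521, (some false), 188, 17043521⟩)))
(.node 2 (.node 1 (.leaf ⟨188, 17043521, (some false), 187, 17127489⟩) (.leaf ⟨25, 27924567, none, 188, 17190985⟩)) (.node 1 (.leaf ⟨188, 17043521, none, 25, 14833755⟩) (.leaf ⟨187, 17526849, none, 171, 17242179⟩))))
(.node 4 (.node 2 (.node 1 (.leaf ⟨187, 17043521, none, 171, 17522755⟩) (.leaf ⟨92, 10971209, (some true), 192, 17043521⟩)) (.node 1 (.leaf ⟨92, 11495495, (some true), 192, 17051729⟩) (.leaf ⟨92, 25385043, (some true), 192, 25759827⟩)))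
(.node 2 (.node 1 (.leaf ⟨92, 19085399, (some true), 192, 11278411⟩) (.leaf ⟨192, 11292747, none, 192, 11278411⟩)) (.node 1 (.leaf ⟨192, 9263195, none, 192, 11278411⟩) (.leaf ⟨192, 8919107, none, 192, 17043521⟩)))))))
(.node 29 (.node 14 (.node 7 (.node 3 (.node 1 (.leaf ⟨192, 17043521, none, 192, 8919107⟩) (.node 1 (.leaf ⟨192, 17043521, none, 192, 19232859⟩) (.leaf ⟨192, 17043521, none, 192, 17068097⟩)))
(.node 2 (.node 1 (.leaf ⟨192, 13510735, (some true), 193, 17043521⟩) (.leaf ⟨193, 17043521, (some true), 192, 13510735⟩)) (.node 1 (.leaf ⟨193, 10971209, (some true), 194, 17043521⟩) (.leaf ⟨194, 17043521, (some true), 193, 10971209⟩))))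
(.node 3 (.node 1 (.leaf ⟨25, 27613271, none, 194, 4929605⟩) (.node 1 (.leaf ⟨194, 17043521, none, 25, 15343705⟩) (.leaf ⟨193, 27740225, none, 101, 25915463⟩)))
(.node 2 (.node 1 (.leaf ⟨193, 17043521, none, 101, 19738717⟩) (.leaf ⟨101, 17059919, (some true), 192, 15622239⟩)) (.node 1 (.leaf ⟨112, 19085399, (some false), 195, 17043521⟩) (.leaf ⟨195, 19085399, (some false), 196, 17043521⟩)))))
(.node 7 (.node 3 (.node 1 (.leaf ⟨196, 17043521, (some false), 195, 19560517⟩) (.node 1 (.leaf ⟨26, 23873611, none, 196, 19036227⟩) (.leaf ⟨196, 17043521, none, 26, 25641053⟩)))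
(.node 2 (.node 1 (.leaf ⟨195, 19013707, none, 112, 17043521⟩) (.leaf ⟨195, 17043521, none, 112, 19013703⟩)) (.node 1 (.leaf ⟨116, 25385043, (some true), 199, 17043521⟩) (.leaf ⟨199, 17059919, (some true), 200, 17043521⟩))))
(.node 4 (.node 2 (.node 1 (.leaf ⟨200, 17043521, (some true), 199, 17059919⟩) (.leaf ⟨26, 23357505, none, 200, 11016271⟩)) (.node 1 (.leaf ⟨200, 17043521, none, 26, 13197399⟩) (.leaf ⟨199, 17061975, none, 116, 10909765⟩)))
(.node 2 (.node 1 (.leaf ⟨199, 17043521, none, 116, 11481171⟩) (.leaf ⟨116, 6776923, (some false), 201, 17043521⟩)) (.node 1 (.leaf ⟨201, 17043521, (some false), 116, 21979225⟩) (.leaf ⟨116, 9056345, (some false), 201, 17592393⟩))))))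
(.node 15 (.node 7 (.node 3 (.node 1 (.leaf ⟨201, 10971209, (some true), 202, 17043521⟩) (.node 1 (.leaf ⟨202, 17043521, (some true), 201, 10971209⟩) (.leaf ⟨202, 13510735, (some false), 203, 17043521⟩)))
(.node 2 (.node 1 (.leaf ⟨203, 17043521, (some false), 202, 29761631⟩) (.leaf ⟨26, 26091609, none, 203, 17119313⟩)) (.node 1 (.leaf ⟨203, 17043521, none, 26, 27994187⟩) (.leaf ⟨202, 31938639, none, 134, 16986203⟩))))
(.node 4 (.node 2 (.node 1 (.leaf ⟨202, 17043521, none, 134, 26093639⟩) (.leaf ⟨201, 25372739, none, 148, 17043521⟩)) (.node 1 (.leaf ⟨201, 17043521, none, 148, 23275587⟩) (.leaf ⟨148, 13510735, (some false), 116, 26169421⟩)))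
(.node 2 (.node 1 (.leaf ⟨135, 17059919, (some true), 211, 17043521⟩) (.leaf ⟨211, 17043521, (some false), 212, 17043521⟩)) (.node 1 (.leaf ⟨212, 17043521, (some false), 211, 17127489⟩) (.leaf ⟨26, 32192579, none, 212, 17461313⟩)))))
(.node 7 (.node 3 (.node 1 (.leaf ⟨212, 17043521, none, 26, 6641731⟩) (.node 1 (.leaf ⟨211, 17446991, none, 134, 16986203⟩) (.leaf ⟨211, 17043521, none, 134, 17635401⟩)))
(.node 2 (.node 1 (.leaf ⟨148, 13510735, (some true), 217, 17043521⟩) (.leaf ⟨217, 17043521, (some true), 148, 13510735⟩)) (.node 1 (.leaf ⟨217, 10971209, (some true), 218, 17043521⟩) (.leaf ⟨218, 17043521, (some true), 217, 10971209⟩))))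
(.node 4 (.node 2 (.node 1 (.leaf ⟨218, 13310023, (some true), 219, 17043521⟩) (.leaf ⟨219, 17043521, (some true), 218, 13310023⟩)) (.node 1 (.leaf ⟨26, 6645855, none, 219, 21586001⟩) (.leaf ⟨219, 17043521, none, 26, 25565271⟩)))
(.node 2 (.node 1 (.leaf ⟨218, 31666247, none, 116, 11483229⟩) (.leaf ⟨218, 17043521, none, 116, 13113435⟩)) (.node 1 (.leaf ⟨116, 4544593, (some true), 217, 8601667⟩) (.leaf ⟨29, 13310023, (some false), 220, 17043521⟩)))))))))

/-- The facts. -/
def caseBFullFactsLRLR : Tab Fct :=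
(.node 117 (.node 58 (.node 29 (.node 14 (.node 7 (.node 3 (.node 1 (.leaf ⟨29, 10971209, (some false), 220, 17770575⟩) (.node 1 (.leaf ⟨29, 27529303, (some false), 220, 17700955⟩) (.leaf ⟨29, 31801425, (some false), 220, 17659997⟩)))
(.node 2 (.node 1 (.leaf ⟨29, 4808797, (some false), 220, 17506369⟩) (.leaf ⟨29, 9056345, (some false), 220, 17260627⟩)) (.node 1 (.leaf ⟨220, 17719361, none, 220, 17700955⟩) (.leaf ⟨220, 17242203, none, 220, 17260627⟩))))
(.node 3 (.node 1 (.leaf ⟨220, 17043521, none, 220, 17068109⟩) (.node 1 (.leaf ⟨220, 17043521, none, 220, 17053767⟩) (.leaf ⟨220, 19085399, (some false), 221, 17043521⟩)))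
(.node 2 (.node 1 (.leaf ⟨221, 17240159, none, 221, 17043521⟩) (.leaf ⟨221, 17043521, none, 221, 17240153⟩)) (.node 1 (.leaf ⟨221, 19085399, (some false), 222, 17043521⟩) (.leaf ⟨222, 17043521, (some false), 221, 19560517⟩)))))
(.node 7 (.node 3 (.node 1 (.leaf ⟨29, 4616269, none, 222, 19036233⟩) (.node 1 (.leaf ⟨222, 17043521, none, 29, 9050185⟩) (.leaf ⟨29, 23928925, (some false), 221, 19812419⟩)))
(.node 2 (.node 1 (.leaf ⟨29, 32125001, (some false), 221, 19605591⟩) (.leaf ⟨29, 13510735, (some false), 221, 19357769⟩)) (.node 1 (.leaf ⟨29, 7292999, (some false), 221, 19748937⟩) (.leaf ⟨29, 29904967, (some false), 221, 19818561⟩))))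
(.node 4 (.node 2 (.node 1 (.leaf ⟨29, 6776923, (some false), 221, 19290191⟩) (.leaf ⟨39, 25385043, (some true), 223, 17043521⟩)) (.node 1 (.leaf ⟨223, 17059919, (some true), 224, 17043521⟩) (.leaf ⟨224, 17043521, (some true), 223, 17059919⟩)))
(.node 2 (.node 1 (.leaf ⟨29, 19337291, none, 224, 25507919⟩) (.leaf ⟨224, 17043521, none, 29, 25309261⟩)) (.node 1 (.leaf ⟨223, 8941639, none, 39, 19812423⟩) (.leaf ⟨223, 17043521, none, 39, 10637377⟩))))))
(.node 14 (.node 7 (.node 3 (.node 1 (.leaf ⟨29, 29904967, (some true), 225, 17043521⟩) (.node 1 (.leaf ⟨29, 32131155, (some true), 225, 8917081⟩) (.leaf ⟨29, 31801425, (some true), 225, 19664971⟩)))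
(.node 2 (.node 1 (.leaf ⟨29, 4544593, (some true), 225, 25450569⟩) (.leaf ⟨29, 13510735, (some true), 225, 11341905⟩)) (.node 1 (.leaf ⟨29, 4808797, (some true), 225, 8982617⟩) (.leaf ⟨29, 13310023, (some true), 225, 27881537⟩))))
(.node 3 (.node 1 (.leaf ⟨29, 32125001, (some true), 225, 25704539⟩) (.node 1 (.leaf ⟨225, 27867227, none, 225, 8982617⟩) (.leaf ⟨225, 25434185, none, 225, 25450569⟩)))
(.node 2 (.node 1 (.leaf ⟨225, 17070147, none, 225, 25704539⟩) (.leaf ⟨225, 17043521, none, 225, 25710681⟩)) (.node 1 (.leaf ⟨225, 17043521, none, 225, 17068097⟩) (.leaf ⟨225, 17043521, none, 225, 25458755⟩)))))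
(.node 7 (.node 3 (.node 1 (.leaf ⟨225, 29904967, (some false), 226, 17043521⟩) (.node 1 (.leaf ⟨225, 13510735, (some false), 226, 17059927⟩) (.leaf ⟨225, 17043521, (some false), 226, 17240139⟩)))
(.node 2 (.node 1 (.leaf ⟨226, 17068121, none, 226, 17043521⟩) (.leaf ⟨226, 17119323, none, 226, 17043521⟩)) (.node 1 (.leaf ⟨226, 17043521, none, 226, 17117273⟩) (.leaf ⟨226, 17043521, none, 226, 17068121⟩))))
(.node 4 (.node 2 (.node 1 (.leaf ⟨39, 23928925, (some false), 227, 17043521⟩) (.leaf ⟨39, 6776923, (some false), 227, 17045591⟩)) (.node 1 (.leaf ⟨39, 9056345, (some false), 228, 17043521⟩) (.leaf ⟨39, 13310023, (some false), 228, 17526861⟩)))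
(.node 2 (.node 1 (.leaf ⟨228, 19085399, (some true), 229, 17043521⟩) (.leaf ⟨229, 17043521, (some true), 228, 19085399⟩)) (.node 1 (.leaf ⟨229, 19085399, (some false), 230, 17043521⟩) (.leaf ⟨230, 17043521, (some false), 229, 19560517⟩)))))))
(.node 29 (.node 14 (.node 7 (.node 3 (.node 1 (.leaf ⟨29, 25505879, none, 230, 17000529⟩) (.node 1 (.leaf ⟨230, 17043521, none, 29, 6975561⟩) (.leaf ⟨229, 19357779, none, 220, 17700955⟩)))
(.node 2 (.node 1 (.leaf ⟨229, 17043521, none, 220, 19691607⟩) (.leaf ⟨220, 17059919, (some true), 228, 17698911⟩)) (.node 1 (.leaf ⟨220, 17043521, (some true), 228, 17258583⟩) (.leaf ⟨226, 17059919, (some true), 231, 17043521⟩))))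
(.node 3 (.node 1 (.leaf ⟨231, 17043521, (some true), 226, 17059919⟩) (.node 1 (.leaf ⟨231, 17043521, (some false), 232, 17043521⟩) (.leaf ⟨232, 17043521, (some false), 231, 17127489⟩)))
(.node 2 (.node 1 (.leaf ⟨29, 5064785, none, 232, 17766481⟩) (.leaf ⟨232, 17043521, none, 29, 6768705⟩)) (.node 1 (.leaf ⟨231, 17061975, none, 221, 19748937⟩) (.leaf ⟨231, 17043521, none, 221, 19730509⟩)))))
(.node 7 (.node 3 (.node 1 (.leaf ⟨221, 17059919, (some true), 226, 19757133⟩) (.node 1 (.leaf ⟨221, 19085399, (some true), 226, 17592397⟩) (.leaf ⟨221, 17043521, (some true), 226, 19746903⟩)))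
(.node 2 (.node 1 (.leaf ⟨221, 25385043, (some true), 226, 8990799⟩) (.leaf ⟨225, 19085399, (some false), 233, 17043521⟩)) (.node 1 (.leaf ⟨233, 17043521, (some false), 225, 19560517⟩) (.leaf ⟨225, 4808797, (some false), 233, 17242187⟩))))
(.node 4 (.node 2 (.node 1 (.leaf ⟨225, 27529303, (some false), 233, 17135689⟩) (.leaf ⟨233, 10971209, (some true), 234, 17043521⟩)) (.node 1 (.leaf ⟨234, 17043521, (some true), 233, 10971209⟩) (.leaf ⟨234, 13510735, (some false), 235, 17043521⟩)))
(.node 2 (.node 1 (.leaf ⟨235, 17043521, (some false), 234, 29761631⟩) (.leaf ⟨29, 4679763, none, 235, 17569881⟩)) (.node 1 (.leaf ⟨235, 17043521, none, 29, 7219291⟩) (.leaf ⟨234, 11360335, none, 220, 17260627⟩))))))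
(.node 15 (.node 7 (.node 3 (.node 1 (.leaf ⟨234, 17043521, none, 220, 25634901⟩) (.node 1 (.leaf ⟨220, 11495495, (some true), 233, 25372755⟩) (.leaf ⟨220, 25385043, (some true), 233, 10707035⟩)))
(.node 2 (.node 1 (.leaf ⟨220, 10971209, (some true), 233, 25634883⟩) (.leaf ⟨220, 19085399, (some true), 233, 19015771⟩)) (.node 1 (.leaf ⟨226, 19085399, (some true), 236, 17043521⟩) (.leaf ⟨226, 10971209, (some true), 236, 27791435⟩))))
(.node 4 (.node 2 (.node 1 (.leaf ⟨236, 17125459, none, 236, 17043521⟩) (.leaf ⟨236, 27555923, none, 236, 27791435⟩)) (.node 1 (.leaf ⟨236, 17043521, none, 236, 17649747⟩) (.leaf ⟨236, 17043521, none, 236, 17125459⟩)))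
(.node 2 (.node 1 (.leaf ⟨236, 10971209, (some true), 237, 17043521⟩) (.leaf ⟨237, 17043521, (some true), 236, 10971209⟩)) (.node 1 (.leaf ⟨237, 32131155, (some true), 238, 17043521⟩) (.leaf ⟨238, 17043521, (some true), 237, 32131155⟩)))))
(.node 7 (.node 3 (.node 1 (.leaf ⟨29, 4726855, none, 238, 4862023⟩) (.node 1 (.leaf ⟨238, 17043521, none, 29, 17584193⟩) (.leaf ⟨237, 13322305, none, 39, 17512519⟩)))
(.node 2 (.node 1 (.leaf ⟨237, 17043521, none, 39, 6572111⟩) (.leaf ⟨39, 4808797, (some true), 236, 28264539⟩)) (.node 1 (.leaf ⟨39, 13510735, (some true), 236, 11159635⟩) (.leaf ⟨39, 4544593, (some true), 236, 9324633⟩))))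
(.node 4 (.node 2 (.node 1 (.leaf ⟨39, 32125001, (some true), 236, 9388121⟩) (.leaf ⟨39, 31801425, (some true), 236, 10641481⟩)) (.node 1 (.leaf ⟨39, 32131155, (some true), 236, 9070683⟩) (.leaf ⟨39, 29904967, (some true), 236, 8611929⟩)))
(.node 2 (.node 1 (.leaf ⟨39, 13310023, (some true), 236, 19359819⟩) (.leaf ⟨39, 27529303, (some false), 242, 17043521⟩)) (.node 1 (.leaf ⟨39, 29904967, (some false), 242, 17193041⟩) (.leaf ⟨39, 7292999, (some false), 242, 17768519⟩))))))))
(.node 59 (.node 29 (.node 14 (.node 7 (.node 3 (.node 1 (.leaf ⟨39, 31801425, (some false), 242, 17717331⟩) (.node 1 (.leaf ⟨39, 4808797, (some false), 242, 17784917⟩) (.leaf ⟨39, 13510735, (some false), 242, 17698885⟩)))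
(.node 2 (.node 1 (.leaf ⟨39, 32125001, (some false), 242, 16986181⟩) (.leaf ⟨39, 10971209, (some false), 242, 17459265⟩)) (.node 1 (.leaf ⟨39, 19085399, (some false), 251, 17043521⟩) (.leaf ⟨39, 19544151, none, 251, 17782857⟩))))
(.node 3 (.node 1 (.leaf ⟨251, 17043521, none, 39, 19095625⟩) (.node 1 (.leaf ⟨42, 4808797, (some false), 252, 17043521⟩) (.leaf ⟨252, 17043521, (some false), 42, 23685197⟩)))
(.node 2 (.node 1 (.leaf ⟨42, 17043521, (some false), 252, 17117269⟩) (.leaf ⟨42, 19085399, (some false), 252, 17715279⟩)) (.node 1 (.leaf ⟨42, 29904967, (some false), 252, 17703001⟩) (.leaf ⟨42, 10971209, (some false), 252, 17111117⟩)))))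
(.node 7 (.node 3 (.node 1 (.leaf ⟨42, 13310023, (some false), 252, 17117273⟩) (.node 1 (.leaf ⟨42, 23928925, (some false), 252, 17522753⟩) (.leaf ⟨42, 32125001, (some false), 252, 17512525⟩)))
(.node 2 (.node 1 (.leaf ⟨252, 17510473, none, 252, 17117269⟩) (.leaf ⟨252, 17043521, none, 252, 17698901⟩)) (.node 1 (.leaf ⟨252, 11495495, (some true), 253, 17043521⟩) (.leaf ⟨253, 13510735, (some false), 254, 17043521⟩))))
(.node 4 (.node 2 (.node 1 (.leaf ⟨254, 17043521, (some false), 253, 29761631⟩) (.leaf ⟨39, 27992157, none, 254, 17133659⟩)) (.node 1 (.leaf ⟨254, 17043521, none, 39, 25569373⟩) (.leaf ⟨253, 11358289, none, 242, 16986181⟩)))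
(.node 2 (.node 1 (.leaf ⟨253, 17043521, none, 242, 26163269⟩) (.leaf ⟨236, 7292999, (some false), 260, 17043521⟩)) (.node 1 (.leaf ⟨236, 32125001, (some false), 260, 17719375⟩) (.leaf ⟨260, 17522767, none, 260, 17719375⟩))))))
(.node 15 (.node 7 (.node 3 (.node 1 (.leaf ⟨260, 17043521, none, 260, 17764417⟩) (.node 1 (.leaf ⟨260, 25385043, (some true), 261, 17043521⟩) (.leaf ⟨261, 17043521, (some true), 260, 25385043⟩)))
(.node 2 (.node 1 (.leaf ⟨261, 29904967, (some true), 262, 17043521⟩) (.leaf ⟨262, 17043521, (some true), 261, 29904967⟩)) (.node 1 (.leaf ⟨262, 11495495, (some true), 263, 17043521⟩) (.leaf ⟨263, 17043521, (some true), 262, 11495495⟩))))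
(.node 4 (.node 2 (.node 1 (.leaf ⟨39, 6905925, none, 263, 21133399⟩) (.leaf ⟨263, 17043521, none, 39, 11352155⟩)) (.node 1 (.leaf ⟨262, 25315415, none, 42, 25456705⟩) (.leaf ⟨262, 17043521, none, 42, 17522765⟩)))
(.node 2 (.node 1 (.leaf ⟨42, 11495495, (some true), 261, 7090269⟩) (.leaf ⟨42, 31801425, (some true), 261, 15562823⟩)) (.node 1 (.leaf ⟨42, 19085399, (some true), 261, 32067661⟩) (.leaf ⟨42, 4544593, (some true), 261, 13441109⟩)))))
(.node 7 (.node 3 (.node 1 (.leaf ⟨261, 4544593, (some true), 266, 17043521⟩) (.node 1 (.leaf ⟨266, 17043521, (some true), 261, 4544593⟩) (.leaf ⟨266, 17059919, (some true), 267, 17043521⟩)))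
(.node 2 (.node 1 (.leaf ⟨267, 17043521, (some true), 266, 17059919⟩) (.leaf ⟨42, 21325899, none, 267, 25505869⟩)) (.node 1 (.leaf ⟨267, 17043521, none, 42, 21252173⟩) (.leaf ⟨266, 9179231, none, 53, 11081811⟩))))
(.node 4 (.node 2 (.node 1 (.leaf ⟨266, 17043521, none, 53, 19732565⟩) (.leaf ⟨261, 23861321, none, 67, 19140673⟩)) (.node 1 (.leaf ⟨261, 17043521, none, 67, 23992413⟩) (.leaf ⟨67, 13310023, (some true), 260, 9377883⟩)))
(.node 2 (.node 1 (.leaf ⟨67, 29904967, (some true), 260, 19355731⟩) (.leaf ⟨67, 13510735, (some true), 260, 19607635⟩)) (.node 1 (.leaf ⟨67, 4808797, (some true), 260, 19877979⟩) (.leaf ⟨67, 17059919, (some true), 262, 9181275⟩)))))))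
(.node 29 (.node 14 (.node 7 (.node 3 (.node 1 (.leaf ⟨53, 29904967, (some false), 268, 17043521⟩) (.node 1 (.leaf ⟨53, 6776923, (some false), 268, 16934985⟩) (.leaf ⟨53, 13510735, (some false), 268, 17119309⟩)))
(.node 2 (.node 1 (.leaf ⟨53, 23928925, (some false), 268, 16984137⟩) (.leaf ⟨53, 27529303, (some false), 268, 17770573⟩)) (.node 1 (.leaf ⟨53, 13310023, (some false), 268, 17127493⟩) (.leaf ⟨53, 4808797, (some false), 268, 17459285⟩))))
(.node 3 (.node 1 (.leaf ⟨53, 9056345, (some false), 268, 17195089⟩) (.node 1 (.leaf ⟨268, 17059919, (some true), 269, 17043521⟩) (.leaf ⟨269, 17043521, (some true), 268, 17059919⟩)))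
(.node 2 (.node 1 (.leaf ⟨269, 17043521, (some false), 270, 17043521⟩) (.leaf ⟨270, 17043521, (some false), 269, 17127489⟩)) (.node 1 (.leaf ⟨42, 19353673, none, 270, 17258577⟩) (.leaf ⟨270, 17043521, none, 42, 19142733⟩)))))
(.node 7 (.node 3 (.node 1 (.leaf ⟨269, 17703003, none, 252, 17715279⟩) (.node 1 (.leaf ⟨269, 17043521, none, 252, 17051725⟩) (.leaf ⟨252, 17059919, (some true), 268, 17068109⟩)))
(.node 2 (.node 1 (.leaf ⟨252, 25385043, (some true), 268, 11096159⟩) (.leaf ⟨67, 13510735, (some false), 273, 17043521⟩)) (.node 1 (.leaf ⟨67, 4808797, (some false), 273, 17522781⟩) (.leaf ⟨67, 27529303, (some false), 273, 17698905⟩))))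
(.node 4 (.node 2 (.node 1 (.leaf ⟨67, 29904967, (some false), 273, 17127517⟩) (.leaf ⟨273, 17059919, (some true), 274, 17043521⟩)) (.node 1 (.leaf ⟨274, 17043521, (some true), 273, 17059919⟩) (.leaf ⟨274, 17043521, (some false), 275, 17043521⟩)))
(.node 2 (.node 1 (.leaf ⟨275, 17043521, (some false), 274, 17127489⟩) (.leaf ⟨42, 15214673, none, 275, 17463377⟩)) (.node 1 (.leaf ⟨275, 17043521, none, 42, 21508161⟩) (.leaf ⟨274, 17506391, none, 252, 17703001⟩))))))
(.node 15 (.node 7 (.node 3 (.node 1 (.leaf ⟨274, 17043521, none, 252, 17240157⟩) (.node 1 (.leaf ⟨252, 19085399, (some true), 273, 19167317⟩) (.leaf ⟨252, 17043521, (some true), 273, 17641557⟩)))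
(.node 2 (.node 1 (.leaf ⟨268, 10971209, (some true), 276, 17043521⟩) (.leaf ⟨276, 17043521, (some true), 268, 10971209⟩)) (.node 1 (.leaf ⟨276, 13510735, (some true), 277, 17043521⟩) (.leaf ⟨277, 17043521, (some true), 276, 13510735⟩))))
(.node 4 (.node 2 (.node 1 (.leaf ⟨277, 10971209, (some true), 278, 17043521⟩) (.leaf ⟨278, 17043521, (some true), 277, 10971209⟩)) (.node 1 (.leaf ⟨42, 23861327, none, 278, 23230549⟩) (.leaf ⟨278, 17043521, none, 42, 17246285⟩)))
(.node 2 (.node 1 (.leaf ⟨277, 19605585, none, 261, 7090269⟩) (.leaf ⟨277, 19605585, none, 67, 8992847⟩)) (.node 1 (.leaf ⟨277, 17043521, none, 67, 6844495⟩) (.leaf ⟨276, 15687765, none, 260, 19355731⟩)))))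
(.node 7 (.node 3 (.node 1 (.leaf ⟨276, 17043521, none, 260, 27807821⟩) (.node 1 (.leaf ⟨260, 17059919, (some true), 268, 19537993⟩) (.leaf ⟨260, 19085399, (some true), 268, 17197145⟩)))
(.node 2 (.node 1 (.leaf ⟨158, 29904967, (some true), 279, 17043521⟩) (.leaf ⟨279, 17043521, (some true), 158, 29904967⟩)) (.node 1 (.leaf ⟨42, 21774431, none, 279, 19624017⟩) (.leaf ⟨279, 17043521, none, 42, 11421781⟩))))
(.node 4 (.node 2 (.node 1 (.leaf ⟨158, 15036501, none, 261, 7090269⟩) (.leaf ⟨158, 15036501, none, 67, 8992847⟩)) (.node 1 (.leaf ⟨158, 17043521, none, 67, 11157599⟩) (.leaf ⟨67, 11495495, (some true), 22, 23666763⟩)))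
(.node 2 (.node 1 (.leaf ⟨67, 10971209, (some true), 159, 8917083⟩) (.leaf ⟨67, 19085399, (some false), 161, 17659997⟩)) (.node 1 (.leaf ⟨67, 32131155, (some true), 145, 17004609⟩) (.leaf ⟨67, 31801425, (some true), 145, 17446993⟩)))))))))

/-- The facts. -/
def caseBFullFactsLRL : Tab Fct := .node 234 caseBFullFactsLRLL caseBFullFactsLRLR

/-- The facts. -/
def caseBFullFactsLRRL : Tab Fct :=
(.node 117 (.node 58 (.node 29 (.node 14 (.node 7 (.node 3 (.node 1 (.leaf ⟨67, 32125001, (some true), 145, 19099723⟩) (.node 1 (.leaf ⟨67, 4544593, (some true), 145, 16937033⟩) (.leaf ⟨67, 10971209, (some false), 167, 17111119⟩)))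
(.node 2 (.node 1 (.leaf ⟨67, 32125001, (some false), 167, 17715295⟩) (.leaf ⟨67, 7292999, (some false), 167, 17576023⟩)) (.node 1 (.leaf ⟨67, 31801425, (some false), 167, 16988243⟩) (.leaf ⟨45, 23928925, (some false), 280, 17043521⟩))))
(.node 3 (.node 1 (.leaf ⟨45, 13510735, (some false), 280, 17440855⟩) (.node 1 (.leaf ⟨45, 29904967, (some false), 280, 17705037⟩) (.leaf ⟨45, 6776923, (some false), 280, 17569869⟩)))
(.node 2 (.node 1 (.leaf ⟨280, 17440859, none, 280, 17440855⟩) (.leaf ⟨280, 17043521, none, 280, 17043549⟩)) (.node 1 (.leaf ⟨45, 10971209, (some true), 286, 17043521⟩) (.leaf ⟨45, 13510735, (some true), 289, 17043521⟩)))))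
(.node 7 (.node 3 (.node 1 (.leaf ⟨45, 31801425, (some true), 289, 11368521⟩) (.node 1 (.leaf ⟨45, 4808797, (some true), 289, 27807835⟩) (.leaf ⟨45, 32131155, (some true), 289, 25497665⟩)))
(.node 2 (.node 1 (.leaf ⟨289, 25442393, none, 289, 11368521⟩) (.leaf ⟨289, 17043521, none, 289, 11104345⟩)) (.node 1 (.leaf ⟨53, 32125001, (some false), 292, 17043521⟩) (.leaf ⟨292, 17043521, (some false), 53, 14905419⟩))))
(.node 4 (.node 2 (.node 1 (.leaf ⟨53, 7292999, (some false), 292, 17463389⟩) (.leaf ⟨292, 17043521, (some true), 293, 17043521⟩)) (.node 1 (.leaf ⟨293, 17043521, (some true), 292, 17043521⟩) (.leaf ⟨293, 17043521, (some false), 294, 17043521⟩)))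
(.node 2 (.node 1 (.leaf ⟨294, 17043521, (some false), 293, 17127489⟩) (.leaf ⟨45, 27727941, none, 294, 17526873⟩)) (.node 1 (.leaf ⟨294, 17043521, none, 45, 30105669⟩) (.leaf ⟨293, 16984151, none, 280, 17569869⟩))))))
(.node 14 (.node 7 (.node 3 (.node 1 (.leaf ⟨293, 17043521, none, 280, 17506389⟩) (.node 1 (.leaf ⟨280, 11495495, (some true), 292, 25786441⟩) (.leaf ⟨280, 10971209, (some true), 292, 25786457⟩)))
(.node 2 (.node 1 (.leaf ⟨289, 17043521, (some false), 295, 17043521⟩) (.leaf ⟨289, 4808797, (some false), 295, 17246287⟩)) (.node 1 (.leaf ⟨295, 25385043, (some true), 296, 17043521⟩) (.leaf ⟨296, 4808797, (some false), 297, 17043521⟩))))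
(.node 3 (.node 1 (.leaf ⟨297, 17043521, (some false), 296, 23685197⟩) (.node 1 (.leaf ⟨45, 21260377, none, 297, 17000535⟩) (.leaf ⟨297, 17043521, none, 45, 27988063⟩)))
(.node 2 (.node 1 (.leaf ⟨296, 15296581, none, 280, 17043521⟩) (.leaf ⟨296, 17043521, none, 280, 10909791⟩)) (.node 1 (.leaf ⟨53, 10971209, (some false), 298, 17043521⟩) (.leaf ⟨53, 31801425, (some false), 298, 17528923⟩)))))
(.node 7 (.node 3 (.node 1 (.leaf ⟨268, 19085399, (some false), 309, 17043521⟩) (.node 1 (.leaf ⟨309, 19085399, (some false), 310, 17043521⟩) (.leaf ⟨310, 17043521, (some false), 309, 19560517⟩)))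
(.node 2 (.node 1 (.leaf ⟨53, 11022401, none, 310, 19755099⟩) (.leaf ⟨310, 17043521, none, 53, 27875401⟩)) (.node 1 (.leaf ⟨309, 19812419, none, 268, 17459285⟩) (.leaf ⟨309, 17043521, none, 268, 19034183⟩))))
(.node 4 (.node 2 (.node 1 (.leaf ⟨53, 19085399, (some false), 311, 17043521⟩) (.leaf ⟨311, 19085399, (some false), 312, 17043521⟩)) (.node 1 (.leaf ⟨312, 17043521, (some false), 311, 19560517⟩) (.leaf ⟨312, 19085399, (some false), 313, 17043521⟩)))
(.node 2 (.node 1 (.leaf ⟨313, 17043521, (some false), 312, 19560517⟩) (.leaf ⟨53, 19140683, none, 313, 19081309⟩)) (.node 1 (.leaf ⟨313, 17043521, none, 53, 16984155⟩) (.leaf ⟨312, 19814473, none, 22, 4991053⟩)))))))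
(.node 29 (.node 14 (.node 7 (.node 3 (.node 1 (.leaf ⟨312, 17043521, none, 22, 21901397⟩) (.node 1 (.leaf ⟨311, 19148887, none, 53, 17440857⟩) (.leaf ⟨311, 17043521, none, 53, 19865671⟩)))
(.node 2 (.node 1 (.leaf ⟨53, 4808797, (some true), 314, 17043521⟩) (.leaf ⟨53, 4544593, (some true), 314, 11040849⟩)) (.node 1 (.leaf ⟨53, 32131155, (some true), 314, 27816027⟩) (.leaf ⟨53, 13310023, (some true), 314, 17641547⟩))))
(.node 3 (.node 1 (.leaf ⟨314, 8925259, none, 314, 27816027⟩) (.node 1 (.leaf ⟨314, 17043521, none, 314, 27537481⟩) (.leaf ⟨314, 17059919, (some true), 315, 17043521⟩)))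
(.node 2 (.node 1 (.leaf ⟨315, 8919105, none, 315, 17043521⟩) (.leaf ⟨315, 17043521, none, 315, 8919105⟩)) (.node 1 (.leaf ⟨315, 17059919, (some true), 316, 17043521⟩) (.leaf ⟨316, 17043521, (some true), 315, 17059919⟩)))))
(.node 7 (.node 3 (.node 1 (.leaf ⟨53, 13443141, none, 316, 25507933⟩) (.node 1 (.leaf ⟨316, 17043521, none, 53, 6891601⟩) (.leaf ⟨53, 31801425, (some true), 315, 27605063⟩)))
(.node 2 (.node 1 (.leaf ⟨53, 29904967, (some true), 315, 11038813⟩) (.leaf ⟨53, 13510735, (some true), 315, 19232839⟩)) (.node 1 (.leaf ⟨53, 32125001, (some true), 315, 11284557⟩) (.leaf ⟨314, 17043521, (some false), 317, 17043521⟩))))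
(.node 4 (.node 2 (.node 1 (.leaf ⟨317, 25385043, (some true), 318, 17043521⟩) (.leaf ⟨318, 17043521, (some true), 317, 25385043⟩)) (.node 1 (.leaf ⟨318, 4808797, (some false), 319, 17043521⟩) (.leaf ⟨319, 17043521, (some false), 318, 23685197⟩)))
(.node 2 (.node 1 (.leaf ⟨53, 23685191, none, 319, 17244253⟩) (.leaf ⟨319, 17043521, none, 53, 29972567⟩)) (.node 1 (.leaf ⟨318, 32053343, none, 268, 17459285⟩) (.leaf ⟨318, 17043521, none, 268, 10901597⟩))))))
(.node 15 (.node 7 (.node 3 (.node 1 (.leaf ⟨268, 19085399, (some true), 317, 19271763⟩) (.node 1 (.leaf ⟨315, 19085399, (some false), 320, 17043521⟩) (.leaf ⟨320, 17043521, (some false), 315, 19560517⟩)))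
(.node 2 (.node 1 (.leaf ⟨320, 11495495, (some true), 321, 17043521⟩) (.leaf ⟨321, 17043521, (some true), 320, 11495495⟩)) (.node 1 (.leaf ⟨321, 13510735, (some false), 322, 17043521⟩) (.leaf ⟨322, 17043521, (some false), 321, 29761631⟩))))
(.node 4 (.node 2 (.node 1 (.leaf ⟨53, 14897233, none, 322, 17043547⟩) (.leaf ⟨322, 17043521, none, 53, 14897227⟩)) (.node 1 (.leaf ⟨321, 27611211, none, 268, 16984137⟩) (.leaf ⟨321, 17043521, none, 268, 26157123⟩)))
(.node 2 (.node 1 (.leaf ⟨320, 25305181, none, 276, 17043521⟩) (.leaf ⟨320, 25305181, none, 260, 27807821⟩)) (.node 1 (.leaf ⟨320, 17043521, none, 260, 19558485⟩) (.leaf ⟨260, 19085399, (some false), 315, 19101781⟩)))))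
(.node 7 (.node 3 (.node 1 (.leaf ⟨315, 19288149, none, 315, 19101781⟩) (.node 1 (.leaf ⟨315, 17043521, none, 315, 17457217⟩) (.leaf ⟨314, 19085399, (some false), 323, 17043521⟩)))
(.node 2 (.node 1 (.leaf ⟨323, 17043521, (some false), 314, 19560517⟩) (.leaf ⟨323, 10971209, (some true), 324, 17043521⟩)) (.node 1 (.leaf ⟨324, 17043521, (some true), 323, 10971209⟩) (.leaf ⟨324, 13510735, (some false), 325, 17043521⟩))))
(.node 4 (.node 2 (.node 1 (.leaf ⟨325, 17043521, (some false), 324, 29761631⟩) (.leaf ⟨53, 14833749, none, 325, 17649729⟩)) (.node 1 (.leaf ⟨325, 17043521, none, 53, 13244485⟩) (.leaf ⟨324, 25432143, none, 268, 16984137⟩)))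
(.node 2 (.node 1 (.leaf ⟨324, 17043521, none, 268, 25372743⟩) (.leaf ⟨268, 11495495, (some true), 323, 26093657⟩)) (.node 1 (.leaf ⟨317, 10971209, (some true), 326, 17043521⟩) (.leaf ⟨326, 17043521, (some true), 317, 10971209⟩))))))))
(.node 59 (.node 29 (.node 14 (.node 7 (.node 3 (.node 1 (.leaf ⟨53, 27613267, none, 326, 4943953⟩) (.node 1 (.leaf ⟨326, 17043521, none, 53, 23470147⟩) (.leaf ⟨317, 28002395, none, 314, 27816027⟩)))
(.node 2 (.node 1 (.leaf ⟨317, 17043521, none, 314, 17004609⟩) (.leaf ⟨314, 19085399, (some true), 327, 17043521⟩)) (.node 1 (.leaf ⟨327, 17043521, (some true), 314, 19085399⟩) (.leaf ⟨314, 32131155, (some true), 327, 25432145⟩))))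
(.node 3 (.node 1 (.leaf ⟨64, 29904967, (some true), 336, 17043521⟩) (.node 1 (.leaf ⟨64, 4544593, (some true), 336, 25450569⟩) (.leaf ⟨64, 4808797, (some true), 336, 19740753⟩)))
(.node 2 (.node 1 (.leaf ⟨64, 31801425, (some true), 336, 25514073⟩) (.leaf ⟨336, 19085399, (some false), 340, 17043521⟩)) (.node 1 (.leaf ⟨340, 10971209, (some true), 341, 17043521⟩) (.leaf ⟨341, 13510735, (some false), 342, 17043521⟩)))))
(.node 7 (.node 3 (.node 1 (.leaf ⟨64, 32073793, none, 342, 17133649⟩) (.node 1 (.leaf ⟨342, 17043521, none, 64, 6905937⟩) (.leaf ⟨67, 13310023, (some false), 349, 17043521⟩)))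
(.node 2 (.node 1 (.leaf ⟨67, 9056345, (some false), 349, 17262661⟩) (.leaf ⟨349, 17068121, none, 349, 17043521⟩)) (.node 1 (.leaf ⟨349, 17043521, none, 349, 17068121⟩) (.leaf ⟨349, 25385043, (some true), 352, 17043521⟩))))
(.node 4 (.node 2 (.node 1 (.leaf ⟨349, 11495495, (some true), 352, 17649755⟩) (.leaf ⟨352, 31801425, (some true), 353, 17043521⟩)) (.node 1 (.leaf ⟨353, 13310023, (some true), 354, 17043521⟩) (.leaf ⟨354, 17043521, (some true), 353, 13310023⟩)))
(.node 2 (.node 1 (.leaf ⟨64, 8607837, none, 354, 6844487⟩) (.leaf ⟨354, 17043521, none, 64, 32006229⟩)) (.node 1 (.leaf ⟨353, 21395549, none, 336, 19740753⟩) (.leaf ⟨353, 17043521, none, 336, 13445193⟩))))))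
(.node 15 (.node 7 (.node 3 (.node 1 (.leaf ⟨340, 25385043, (some true), 355, 17043521⟩) (.node 1 (.leaf ⟨355, 17043521, (some true), 340, 25385043⟩) (.leaf ⟨355, 29904967, (some true), 356, 17043521⟩)))
(.node 2 (.node 1 (.leaf ⟨356, 17043521, (some true), 355, 29904967⟩) (.leaf ⟨356, 11495495, (some true), 357, 17043521⟩)) (.node 1 (.leaf ⟨357, 17043521, (some true), 356, 11495495⟩) (.leaf ⟨64, 13195357, none, 357, 21131349⟩))))
(.node 4 (.node 2 (.node 1 (.leaf ⟨357, 17043521, none, 64, 30230613⟩) (.leaf ⟨356, 17784925, none, 336, 19740753⟩)) (.node 1 (.leaf ⟨356, 17043521, none, 336, 19095643⟩) (.leaf ⟨336, 10971209, (some true), 355, 32329799⟩)))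
(.node 2 (.node 1 (.leaf ⟨67, 17459273, none, 161, 19626067⟩) (.leaf ⟨161, 17043521, none, 67, 19230813⟩)) (.node 1 (.leaf ⟨167, 19085399, (some false), 358, 17043521⟩) (.leaf ⟨358, 19085399, (some false), 359, 17043521⟩)))))
(.node 7 (.node 3 (.node 1 (.leaf ⟨359, 17043521, (some false), 358, 19560517⟩) (.node 1 (.leaf ⟨67, 21315663, none, 359, 19294297⟩) (.leaf ⟨359, 17043521, none, 67, 15419469⟩)))
(.node 2 (.node 1 (.leaf ⟨358, 19232843, none, 167, 17576023⟩) (.leaf ⟨358, 17043521, none, 167, 19681351⟩)) (.node 1 (.leaf ⟨67, 14958671, none, 323, 11159647⟩) (.leaf ⟨323, 17043521, none, 67, 32053319⟩))))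
(.node 4 (.node 2 (.node 1 (.leaf ⟨314, 19882057, none, 273, 17522781⟩) (.leaf ⟨324, 8990801, none, 145, 17446993⟩)) (.node 1 (.leaf ⟨268, 27738207, none, 145, 17446993⟩) (.leaf ⟨268, 17043521, none, 145, 4989001⟩)))
(.node 2 (.node 1 (.leaf ⟨145, 4808797, (some true), 269, 25718873⟩) (.leaf ⟨145, 19085399, (some true), 276, 8984651⟩)) (.node 1 (.leaf ⟨145, 23928925, (some false), 309, 17444953⟩) (.leaf ⟨145, 32125001, (some true), 317, 11221075⟩)))))))
(.node 29 (.node 14 (.node 7 (.node 3 (.node 1 (.leaf ⟨314, 17043521, none, 273, 19861597⟩) (.node 1 (.leaf ⟨273, 31801425, (some true), 327, 11276377⟩) (.leaf ⟨273, 21831753, none, 314, 19085399⟩)))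
(.node 2 (.node 1 (.leaf ⟨273, 21831753, none, 273, 17578061⟩) (.leaf ⟨273, 17043521, none, 273, 15032415⟩)) (.node 1 (.leaf ⟨145, 9056345, (some false), 360, 17043521⟩) (.leaf ⟨360, 25385043, (some true), 361, 17043521⟩))))
(.node 3 (.node 1 (.leaf ⟨361, 4808797, (some false), 362, 17043521⟩) (.node 1 (.leaf ⟨362, 17043521, (some false), 361, 23685197⟩) (.leaf ⟨67, 23357523, none, 362, 17442909⟩)))
(.node 2 (.node 1 (.leaf ⟨362, 17043521, none, 67, 10702941⟩) (.leaf ⟨67, 23928925, (some false), 361, 13199447⟩)) (.node 1 (.leaf ⟨67, 6776923, (some false), 361, 15296595⟩) (.leaf ⟨260, 13310023, (some false), 363, 17043521⟩)))))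
(.node 7 (.node 3 (.node 1 (.leaf ⟨363, 17043521, (some false), 260, 29511765⟩) (.node 1 (.leaf ⟨260, 27529303, (some false), 363, 17715283⟩) (.leaf ⟨315, 25385043, (some true), 366, 17043521⟩)))
(.node 2 (.node 1 (.leaf ⟨315, 4544593, (some true), 366, 17651795⟩) (.leaf ⟨366, 27807825, none, 366, 17651795⟩)) (.node 1 (.leaf ⟨366, 17043547, none, 366, 17043521⟩) (.leaf ⟨366, 17043521, none, 366, 17043547⟩))))
(.node 4 (.node 2 (.node 1 (.leaf ⟨366, 17043521, none, 366, 8919107⟩) (.leaf ⟨366, 31801425, (some true), 367, 17043521⟩)) (.node 1 (.leaf ⟨366, 4808797, (some true), 367, 11292739⟩) (.leaf ⟨366, 11495495, (some true), 367, 11106371⟩)))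
(.node 2 (.node 1 (.leaf ⟨366, 10971209, (some true), 367, 11096147⟩) (.leaf ⟨367, 32131155, (some true), 368, 17043521⟩)) (.node 1 (.leaf ⟨368, 17043521, (some true), 367, 32131155⟩) (.leaf ⟨67, 15278157, none, 368, 6955089⟩))))))
(.node 15 (.node 7 (.node 3 (.node 1 (.leaf ⟨368, 17043521, none, 67, 21762125⟩) (.node 1 (.leaf ⟨367, 23289923, none, 260, 19355731⟩) (.leaf ⟨367, 17043521, none, 260, 27934809⟩)))
(.node 2 (.node 1 (.leaf ⟨79, 4544593, (some true), 372, 17043521⟩) (.leaf ⟨79, 4808797, (some true), 372, 25522265⟩)) (.node 1 (.leaf ⟨79, 29904967, (some true), 372, 25440329⟩) (.leaf ⟨372, 17059919, (some true), 373, 17043521⟩))))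
(.node 4 (.node 2 (.node 1 (.leaf ⟨373, 17059919, (some true), 374, 17043521⟩) (.leaf ⟨374, 17043521, (some true), 373, 17059919⟩)) (.node 1 (.leaf ⟨79, 31725657, none, 374, 27881559⟩) (.leaf ⟨374, 17043521, none, 79, 7098445⟩)))
(.node 2 (.node 1 (.leaf ⟨373, 25768023, none, 372, 25440329⟩) (.leaf ⟨373, 17043521, none, 372, 17633357⟩)) (.node 1 (.leaf ⟨79, 19085399, (some true), 377, 17043521⟩) (.leaf ⟨79, 25385043, (some true), 377, 9205825⟩)))))
(.node 7 (.node 3 (.node 1 (.leaf ⟨79, 10971209, (some true), 377, 27603019⟩) (.node 1 (.leaf ⟨377, 27791433, none, 377, 27603019⟩) (.leaf ⟨377, 9261131, none, 377, 9205825⟩)))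
(.node 2 (.node 1 (.leaf ⟨377, 17043521, none, 377, 17127507⟩) (.leaf ⟨377, 17043521, none, 377, 17594435⟩)) (.node 1 (.leaf ⟨79, 13310023, (some true), 379, 17043521⟩) (.leaf ⟨79, 32125001, (some true), 379, 17592385⟩))))
(.node 4 (.node 2 (.node 1 (.leaf ⟨79, 32131155, (some true), 379, 9197659⟩) (.leaf ⟨79, 13510735, (some true), 379, 8935491⟩)) (.node 1 (.leaf ⟨379, 17576001, none, 379, 17592385⟩) (.leaf ⟨379, 25712721, none, 379, 8935491⟩)))
(.node 2 (.node 1 (.leaf ⟨379, 17043521, none, 379, 25432139⟩) (.leaf ⟨379, 17043521, none, 379, 17059905⟩)) (.node 1 (.leaf ⟨379, 13510735, (some false), 380, 17043521⟩) (.leaf ⟨379, 17043521, (some false), 380, 17178691⟩)))))))))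

/-- The facts. -/
def caseBFullFactsLRRR : Tab Fct :=
(.node 117 (.node 58 (.node 29 (.node 14 (.node 7 (.node 3 (.node 1 (.leaf ⟨380, 17068097, none, 380, 17043521⟩) (.node 1 (.leaf ⟨380, 17043521, none, 380, 17068097⟩) (.leaf ⟨377, 17043521, (some false), 385, 17043521⟩)))
(.node 2 (.node 1 (.leaf ⟨385, 25385043, (some true), 386, 17043521⟩) (.leaf ⟨386, 17043521, (some true), 385, 25385043⟩)) (.node 1 (.leaf ⟨386, 4808797, (some false), 387, 17043521⟩) (.leaf ⟨387, 17043521, (some false), 386, 23685197⟩))))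
(.node 3 (.node 1 (.leaf ⟨79, 19353667, none, 387, 17000533⟩) (.node 1 (.leaf ⟨387, 17043521, none, 79, 19884121⟩) (.leaf ⟨386, 15276101, none, 80, 17043521⟩)))
(.node 2 (.node 1 (.leaf ⟨386, 17043521, none, 80, 11147335⟩) (.leaf ⟨80, 19085399, (some true), 385, 19796057⟩)) (.node 1 (.leaf ⟨80, 25385043, (some true), 385, 11417689⟩) (.leaf ⟨380, 11495495, (some true), 388, 17043521⟩)))))
(.node 7 (.node 3 (.node 1 (.leaf ⟨388, 17043521, (some true), 380, 11495495⟩) (.node 1 (.leaf ⟨380, 19085399, (some true), 388, 27553859⟩) (.leaf ⟨388, 32131155, (some true), 389, 17043521⟩)))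
(.node 2 (.node 1 (.leaf ⟨389, 17043521, (some true), 388, 32131155⟩) (.leaf ⟨389, 32131155, (some true), 390, 17043521⟩)) (.node 1 (.leaf ⟨390, 17043521, (some true), 389, 32131155⟩) (.leaf ⟨79, 5120069, none, 390, 21192769⟩))))
(.node 4 (.node 2 (.node 1 (.leaf ⟨390, 17043521, none, 79, 10975307⟩) (.leaf ⟨389, 5130315, none, 377, 9205825⟩)) (.node 1 (.leaf ⟨389, 17043521, none, 377, 32254045⟩) (.leaf ⟨377, 4808797, (some true), 388, 29843547⟩)))
(.node 2 (.node 1 (.leaf ⟨377, 4544593, (some true), 388, 31598675⟩) (.leaf ⟨377, 32131155, (some true), 388, 7225433⟩)) (.node 1 (.leaf ⟨377, 13310023, (some true), 388, 21913689⟩) (.leaf ⟨377, 29904967, (some true), 388, 23273545⟩))))))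
(.node 14 (.node 7 (.node 3 (.node 1 (.leaf ⟨377, 31801425, (some true), 388, 31598683⟩) (.node 1 (.leaf ⟨377, 32125001, (some true), 388, 21448769⟩) (.leaf ⟨377, 13510735, (some true), 388, 29780041⟩)))
(.node 2 (.node 1 (.leaf ⟨380, 25385043, (some true), 391, 17043521⟩) (.leaf ⟨380, 10971209, (some true), 391, 17657931⟩)) (.node 1 (.leaf ⟨82, 13310023, (some false), 423, 17043521⟩) (.leaf ⟨423, 17043521, (some false), 82, 29511765⟩))))
(.node 3 (.node 1 (.leaf ⟨82, 10971209, (some false), 423, 17594437⟩) (.node 1 (.leaf ⟨82, 23928925, (some false), 423, 17444957⟩) (.leaf ⟨82, 32125001, (some false), 423, 16918615⟩)))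
(.node 2 (.node 1 (.leaf ⟨82, 6776923, (some false), 423, 17506377⟩) (.leaf ⟨82, 7292999, (some false), 423, 17127491⟩)) (.node 1 (.leaf ⟨88, 19085399, (some false), 426, 17043521⟩) (.leaf ⟨426, 19085399, (some false), 427, 17043521⟩)))))
(.node 7 (.node 3 (.node 1 (.leaf ⟨427, 17043521, (some false), 426, 19560517⟩) (.node 1 (.leaf ⟨82, 11106389, none, 427, 19013723⟩) (.leaf ⟨427, 17043521, none, 82, 6844495⟩)))
(.node 2 (.node 1 (.leaf ⟨426, 19673161, none, 88, 16932943⟩) (.leaf ⟨426, 17043521, none, 88, 19865693⟩)) (.node 1 (.leaf ⟨82, 31801425, (some true), 428, 17043521⟩) (.leaf ⟨82, 19085399, (some true), 428, 9271379⟩))))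
(.node 4 (.node 2 (.node 1 (.leaf ⟨82, 4544593, (some true), 428, 11104331⟩) (.leaf ⟨82, 11495495, (some true), 428, 8919131⟩)) (.node 1 (.leaf ⟨82, 4808797, (some true), 428, 11368523⟩) (.leaf ⟨82, 25385043, (some true), 428, 27867225⟩)))
(.node 2 (.node 1 (.leaf ⟨82, 29904967, (some true), 428, 11294795⟩) (.leaf ⟨82, 10971209, (some true), 428, 8982593⟩)) (.node 1 (.leaf ⟨428, 17135683, none, 428, 8982593⟩) (.leaf ⟨428, 17043521, none, 428, 8919131⟩)))))))
(.node 29 (.node 14 (.node 7 (.node 3 (.node 1 (.leaf ⟨428, 17043521, none, 428, 11104323⟩) (.node 1 (.leaf ⟨428, 17059919, (some true), 429, 17043521⟩) (.leaf ⟨429, 17059919, (some true), 430, 17043521⟩)))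
(.node 2 (.node 1 (.leaf ⟨430, 17043521, (some true), 429, 17059919⟩) (.leaf ⟨82, 30228563, none, 430, 17125453⟩)) (.node 1 (.leaf ⟨430, 17043521, none, 82, 15482957⟩) (.leaf ⟨429, 11022431, none, 428, 11368523⟩))))
(.node 3 (.node 1 (.leaf ⟨429, 17043521, none, 428, 17578079⟩) (.node 1 (.leaf ⟨428, 19085399, (some false), 431, 17043521⟩) (.leaf ⟨428, 4808797, (some false), 431, 17191003⟩)))
(.node 2 (.node 1 (.leaf ⟨428, 17043521, (some false), 431, 17133649⟩) (.leaf ⟨428, 29904967, (some false), 431, 17719375⟩)) (.node 1 (.leaf ⟨105, 10971209, (some false), 432, 17043521⟩) (.leaf ⟨105, 7292999, (some false), 432, 17702977⟩)))))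
(.node 7 (.node 3 (.node 1 (.leaf ⟨105, 32125001, (some false), 432, 17782863⟩) (.node 1 (.leaf ⟨105, 31801425, (some false), 432, 17782851⟩) (.leaf ⟨432, 17135697, none, 432, 17702977⟩)))
(.node 2 (.node 1 (.leaf ⟨432, 17242201, none, 432, 17782851⟩) (.leaf ⟨432, 17043521, none, 432, 17584223⟩)) (.node 1 (.leaf ⟨432, 17043521, none, 432, 16984145⟩) (.leaf ⟨428, 27529303, (some false), 433, 17043521⟩))))
(.node 4 (.node 2 (.node 1 (.leaf ⟨433, 17125459, none, 433, 17043521⟩) (.leaf ⟨433, 17586243, none, 433, 17043521⟩)) (.node 1 (.leaf ⟨433, 17043521, none, 433, 17586243⟩) (.leaf ⟨433, 17043521, none, 433, 17125459⟩)))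
(.node 2 (.node 1 (.leaf ⟨433, 19085399, (some true), 434, 17043521⟩) (.leaf ⟨434, 17043521, (some true), 433, 19085399⟩)) (.node 1 (.leaf ⟨434, 19085399, (some false), 435, 17043521⟩) (.leaf ⟨435, 17043521, (some false), 434, 19560517⟩))))))
(.node 15 (.node 7 (.node 3 (.node 1 (.leaf ⟨82, 17258577, none, 435, 17457243⟩) (.node 1 (.leaf ⟨435, 17043521, none, 82, 17246295⟩) (.leaf ⟨434, 19224657, none, 88, 17657937⟩)))
(.node 2 (.node 1 (.leaf ⟨434, 17043521, none, 88, 19738689⟩) (.leaf ⟨88, 17043521, (some true), 433, 17193053⟩)) (.node 1 (.leaf ⟨88, 25385043, (some true), 433, 10975309⟩) (.leaf ⟨431, 10971209, (some true), 436, 17043521⟩))))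
(.node 4 (.node 2 (.node 1 (.leaf ⟨436, 13510735, (some false), 437, 17043521⟩) (.leaf ⟨437, 17043521, (some false), 436, 29761631⟩)) (.node 1 (.leaf ⟨82, 9320539, none, 437, 17594451⟩) (.leaf ⟨437, 17043521, none, 82, 25383001⟩)))
(.node 2 (.node 1 (.leaf ⟨436, 21129305, none, 423, 17444957⟩) (.leaf ⟨436, 17043521, none, 423, 25712713⟩)) (.node 1 (.leaf ⟨431, 25385043, (some true), 438, 17043521⟩) (.leaf ⟨438, 17043521, (some true), 431, 25385043⟩)))))
(.node 7 (.node 3 (.node 1 (.leaf ⟨438, 29904967, (some true), 439, 17043521⟩) (.node 1 (.leaf ⟨439, 17043521, (some true), 438, 29904967⟩) (.leaf ⟨439, 11495495, (some true), 440, 17043521⟩)))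
(.node 2 (.node 1 (.leaf ⟨440, 17043521, (some true), 439, 11495495⟩) (.leaf ⟨82, 31789147, none, 440, 23277655⟩)) (.node 1 (.leaf ⟨440, 17043521, none, 82, 31860805⟩) (.leaf ⟨82, 13510735, (some true), 439, 8874077⟩))))
(.node 4 (.node 2 (.node 1 (.leaf ⟨82, 13310023, (some true), 439, 17459285⟩) (.leaf ⟨439, 26101855, none, 439, 17459285⟩)) (.node 1 (.leaf ⟨439, 26093661, none, 439, 8874077⟩) (.leaf ⟨439, 28262487, none, 439, 17459285⟩)))
(.node 2 (.node 1 (.leaf ⟨439, 9398367, none, 439, 8874077⟩) (.leaf ⟨439, 17043521, none, 439, 17764419⟩)) (.node 1 (.leaf ⟨439, 25385043, (some true), 438, 4542559⟩) (.leaf ⟨439, 17043521, none, 439, 5128259⟩))))))))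
(.node 59 (.node 29 (.node 14 (.node 7 (.node 3 (.node 1 (.leaf ⟨439, 32131155, (some true), 438, 23670877⟩) (.node 1 (.leaf ⟨439, 31801425, (some true), 438, 13111391⟩) (.leaf ⟨439, 17043521, none, 439, 7227457⟩)))
(.node 2 (.node 1 (.leaf ⟨438, 29636701, none, 438, 4542559⟩) (.leaf ⟨438, 17043521, none, 438, 15032387⟩)) (.node 1 (.leaf ⟨438, 31801425, (some true), 431, 25915457⟩) (.leaf ⟨439, 17043521, none, 439, 7293013⟩))))
(.node 3 (.node 1 (.leaf ⟨439, 13510735, (some true), 438, 23924815⟩) (.node 1 (.leaf ⟨439, 4808797, (some true), 438, 14964831⟩) (.leaf ⟨439, 19085399, (some true), 438, 6844485⟩)))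
(.node 2 (.node 1 (.leaf ⟨439, 17059919, (some true), 438, 13176909⟩) (.leaf ⟨431, 17059919, (some true), 441, 17043521⟩)) (.node 1 (.leaf ⟨441, 17043521, (some true), 431, 17059919⟩) (.leaf ⟨441, 19085399, (some true), 442, 17043521⟩)))))
(.node 7 (.node 3 (.node 1 (.leaf ⟨442, 17043521, (some true), 441, 19085399⟩) (.node 1 (.leaf ⟨442, 25385043, (some true), 443, 17043521⟩) (.leaf ⟨443, 17043521, (some true), 442, 25385043⟩)))
(.node 2 (.node 1 (.leaf ⟨82, 9113695, none, 443, 23685191⟩) (.leaf ⟨443, 17043521, none, 82, 13131847⟩)) (.node 1 (.leaf ⟨442, 28258371, none, 428, 11368523⟩) (.leaf ⟨442, 17043521, none, 428, 31989853⟩))))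
(.node 4 (.node 2 (.node 1 (.leaf ⟨428, 4808797, (some true), 441, 16939077⟩) (.leaf ⟨85, 23928925, (some false), 444, 17043521⟩)) (.node 1 (.leaf ⟨444, 17043521, (some false), 85, 4991053⟩) (.leaf ⟨85, 9056345, (some false), 444, 17446997⟩)))
(.node 2 (.node 1 (.leaf ⟨85, 7292999, (some false), 444, 17700943⟩) (.leaf ⟨85, 31801425, (some false), 444, 17262671⟩)) (.node 1 (.leaf ⟨85, 13310023, (some false), 444, 17703001⟩) (.leaf ⟨85, 6776923, (some false), 444, 17569857⟩))))))
(.node 15 (.node 7 (.node 3 (.node 1 (.leaf ⟨85, 32125001, (some false), 444, 17786963⟩) (.node 1 (.leaf ⟨85, 10971209, (some false), 444, 17594443⟩) (.leaf ⟨85, 19085399, (some true), 447, 17043521⟩)))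
(.node 2 (.node 1 (.leaf ⟨85, 11495495, (some true), 447, 27613249⟩) (.leaf ⟨447, 17059919, (some true), 448, 17043521⟩)) (.node 1 (.leaf ⟨448, 17043521, (some true), 447, 17059919⟩) (.leaf ⟨448, 17059919, (some true), 449, 17043521⟩))))
(.node 4 (.node 2 (.node 1 (.leaf ⟨449, 17043521, (some true), 448, 17059919⟩) (.leaf ⟨85, 9377871, none, 449, 11040863⟩)) (.node 1 (.leaf ⟨449, 17043521, none, 85, 19036233⟩) (.leaf ⟨85, 25385043, (some true), 448, 8943685⟩)))
(.node 2 (.node 1 (.leaf ⟨85, 10971209, (some true), 448, 27865167⟩) (.leaf ⟨85, 31801425, (some true), 450, 17043521⟩)) (.node 1 (.leaf ⟨85, 13510735, (some true), 450, 27594817⟩) (.leaf ⟨85, 4808797, (some true), 450, 27605083⟩)))))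
(.node 7 (.node 3 (.node 1 (.leaf ⟨85, 32131155, (some true), 450, 11030601⟩) (.node 1 (.leaf ⟨85, 29904967, (some true), 450, 27545675⟩) (.leaf ⟨85, 32125001, (some true), 450, 17135697⟩)))
(.node 2 (.node 1 (.leaf ⟨85, 4544593, (some true), 450, 8919123⟩) (.leaf ⟨85, 13310023, (some true), 450, 17576001⟩)) (.node 1 (.leaf ⟨377, 19085399, (some false), 455, 17043521⟩) (.leaf ⟨455, 17043521, (some false), 377, 19560517⟩))))
(.node 4 (.node 2 (.node 1 (.leaf ⟨85, 17569883, none, 455, 17719371⟩) (.leaf ⟨455, 17043521, none, 85, 16922705⟩)) (.node 1 (.leaf ⟨85, 17043521, (some false), 377, 19275871⟩) (.leaf ⟨450, 4808797, (some false), 456, 17043521⟩)))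
(.node 2 (.node 1 (.leaf ⟨456, 11495495, (some true), 457, 17043521⟩) (.leaf ⟨457, 13510735, (some false), 458, 17043521⟩)) (.node 1 (.leaf ⟨458, 17043521, (some false), 457, 29761631⟩) (.leaf ⟨85, 29700169, none, 458, 17649747⟩)))))))
(.node 29 (.node 14 (.node 7 (.node 3 (.node 1 (.leaf ⟨458, 17043521, none, 85, 32258121⟩) (.node 1 (.leaf ⟨457, 9187423, none, 444, 17594443⟩) (.leaf ⟨457, 17043521, none, 444, 25458765⟩)))
(.node 2 (.node 1 (.leaf ⟨95, 19085399, (some true), 459, 17043521⟩) (.leaf ⟨95, 17059919, (some true), 459, 19230803⟩)) (.node 1 (.leaf ⟨459, 11495495, (some true), 460, 17043521⟩) (.leaf ⟨460, 17043521, (some true), 459, 11495495⟩))))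
(.node 3 (.node 1 (.leaf ⟨85, 11096145, none, 460, 23277637⟩) (.node 1 (.leaf ⟨460, 17043521, none, 85, 13453395⟩) (.leaf ⟨459, 27992133, none, 450, 17043521⟩)))
(.node 2 (.node 1 (.leaf ⟨459, 17043521, none, 450, 23228509⟩) (.leaf ⟨433, 10971209, (some true), 461, 17043521⟩)) (.node 1 (.leaf ⟨461, 17043521, (some true), 433, 10971209⟩) (.leaf ⟨85, 25458763, none, 461, 23226435⟩)))))
(.node 7 (.node 3 (.node 1 (.leaf ⟨461, 17043521, none, 85, 7221341⟩) (.node 1 (.leaf ⟨433, 11495505, none, 450, 17576001⟩) (.leaf ⟨450, 17043521, none, 433, 27994193⟩)))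
(.node 2 (.node 1 (.leaf ⟨433, 31801425, (some false), 456, 17180757⟩) (.leaf ⟨88, 13310023, (some false), 462, 17043521⟩)) (.node 1 (.leaf ⟨88, 6776923, (some false), 462, 17004609⟩) (.leaf ⟨88, 27529303, (some false), 462, 17715283⟩))))
(.node 4 (.node 2 (.node 1 (.leaf ⟨88, 29904967, (some false), 462, 17127507⟩) (.leaf ⟨88, 4808797, (some false), 462, 17512519⟩)) (.node 1 (.leaf ⟨88, 13510735, (some false), 462, 17068103⟩) (.leaf ⟨88, 9056345, (some false), 462, 17246277⟩)))
(.node 2 (.node 1 (.leaf ⟨88, 13510735, (some true), 465, 17043521⟩) (.leaf ⟨88, 4808797, (some true), 465, 17657945⟩)) (.node 1 (.leaf ⟨465, 8943683, none, 465, 17043521⟩) (.leaf ⟨465, 19230811, none, 465, 17043521⟩))))))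
(.node 15 (.node 7 (.node 3 (.node 1 (.leaf ⟨465, 17043521, none, 465, 19230811⟩) (.node 1 (.leaf ⟨465, 17043521, none, 465, 8943683⟩) (.leaf ⟨465, 17059919, (some true), 466, 17043521⟩)))
(.node 2 (.node 1 (.leaf ⟨466, 17043521, (some true), 465, 17059919⟩) (.leaf ⟨466, 19150915, none, 466, 17043521⟩)) (.node 1 (.leaf ⟨466, 27537483, none, 466, 17043521⟩) (.leaf ⟨466, 17043521, none, 466, 27537483⟩))))
(.node 4 (.node 2 (.node 1 (.leaf ⟨466, 17043521, none, 466, 19150915⟩) (.leaf ⟨466, 17059919, (some true), 467, 17043521⟩)) (.node 1 (.leaf ⟨467, 17043521, (some true), 466, 17059919⟩) (.leaf ⟨88, 29829205, none, 467, 19683415⟩)))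
(.node 2 (.node 1 (.leaf ⟨467, 17043521, none, 88, 29777987⟩) (.leaf ⟨88, 32131155, (some true), 466, 25694293⟩)) (.node 1 (.leaf ⟨88, 31801425, (some true), 466, 27865173⟩) (.leaf ⟨88, 32125001, (some true), 468, 17043521⟩)))))
(.node 7 (.node 3 (.node 1 (.leaf ⟨88, 4544593, (some true), 468, 17135705⟩) (.node 1 (.leaf ⟨468, 17641547, none, 468, 17135705⟩) (.leaf ⟨468, 17125457, none, 468, 17043521⟩)))
(.node 2 (.node 1 (.leaf ⟨468, 17043521, none, 468, 17125457⟩) (.leaf ⟨468, 17043521, none, 468, 17586259⟩)) (.node 1 (.leaf ⟨468, 17059919, (some true), 469, 17043521⟩) (.leaf ⟨469, 17125443, none, 469, 17043521⟩))))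
(.node 4 (.node 2 (.node 1 (.leaf ⟨469, 17586257, none, 469, 17043521⟩) (.leaf ⟨469, 17043521, none, 469, 17586257⟩)) (.node 1 (.leaf ⟨469, 17043521, none, 469, 17125443⟩) (.leaf ⟨469, 17059919, (some true), 470, 17043521⟩)))
(.node 2 (.node 1 (.leaf ⟨470, 17043521, (some true), 469, 17059919⟩) (.leaf ⟨88, 15620179, none, 470, 27529301⟩)) (.node 1 (.leaf ⟨470, 17043521, none, 88, 15429703⟩) (.leaf ⟨88, 13310023, (some true), 469, 27605063⟩)))))))))

/-- The facts. -/
def caseBFullFactsLRR : Tab Fct := .node 235 caseBFullFactsLRRL caseBFullFactsLRRR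

/-- The facts. -/
def caseBFullFactsLR : Tab Fct := .node 469 caseBFullFactsLRL caseBFullFactsLRR

/-- The facts. -/
def caseBFullFactsL : Tab Fct := .node 939 caseBFullFactsLL caseBFullFactsLR

/-- The facts. -/
def caseBFullFactsRLLL : Tab Fct :=
(.node 117 (.node 58 (.node 29 (.node 14 (.node 7 (.node 3 (.node 1 (.leaf ⟨88, 29904967, (some true), 469, 25712735⟩) (.node 1 (.leaf ⟨465, 19085399, (some false), 471, 17043521⟩) (.leaf ⟨465, 17043521, (some false), 471, 17657921⟩)))
(.node 2 (.node 1 (.leaf ⟨465, 29904967, (some false), 471, 17457223⟩) (.leaf ⟨465, 4808797, (some false), 471, 17584207⟩)) (.node 1 (.leaf ⟨433, 13310023, (some false), 472, 17043521⟩) (.leaf ⟨472, 17043521, (some false), 433, 29511765⟩))))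
(.node 3 (.node 1 (.leaf ⟨433, 23928925, (some false), 472, 16916561⟩) (.node 1 (.leaf ⟨433, 9056345, (some false), 472, 17262667⟩) (.leaf ⟨96, 7292999, (some false), 473, 17043521⟩)))
(.node 2 (.node 1 (.leaf ⟨473, 17043541, none, 473, 17043521⟩) (.leaf ⟨473, 17043521, none, 473, 17043541⟩)) (.node 1 (.leaf ⟨473, 25385043, (some true), 474, 17043521⟩) (.leaf ⟨473, 19085399, (some true), 474, 27816019⟩)))))
(.node 7 (.node 3 (.node 1 (.leaf ⟨474, 4808797, (some false), 475, 17043521⟩) (.node 1 (.leaf ⟨475, 17043521, (some false), 474, 23685197⟩) (.leaf ⟨88, 25567307, none, 475, 17784919⟩)))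
(.node 2 (.node 1 (.leaf ⟨475, 17043521, none, 88, 5066827⟩) (.leaf ⟨88, 10971209, (some false), 474, 32069725⟩)) (.node 1 (.leaf ⟨471, 10971209, (some true), 476, 17043521⟩) (.leaf ⟨476, 17043521, (some true), 471, 10971209⟩))))
(.node 4 (.node 2 (.node 1 (.leaf ⟨476, 13510735, (some false), 477, 17043521⟩) (.leaf ⟨477, 17043521, (some false), 476, 29761631⟩)) (.node 1 (.leaf ⟨88, 6774869, none, 477, 17127515⟩) (.leaf ⟨477, 17043521, none, 88, 21981279⟩)))
(.node 2 (.node 1 (.leaf ⟨476, 9181267, none, 462, 17246277⟩) (.leaf ⟨476, 17043521, none, 462, 25839709⟩)) (.node 1 (.leaf ⟨462, 11495495, (some true), 471, 25577547⟩) (.leaf ⟨88, 19085399, (some true), 478, 17043521⟩))))))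
(.node 14 (.node 7 (.node 3 (.node 1 (.leaf ⟨478, 17043521, (some true), 88, 19085399⟩) (.node 1 (.leaf ⟨478, 17043521, (some false), 479, 17043521⟩) (.leaf ⟨479, 17043521, (some false), 478, 17127489⟩)))
(.node 2 (.node 1 (.leaf ⟨479, 25385043, (some true), 480, 17043521⟩) (.leaf ⟨480, 17043521, (some true), 479, 25385043⟩)) (.node 1 (.leaf ⟨480, 4808797, (some false), 481, 17043521⟩) (.leaf ⟨481, 17043521, (some false), 480, 23685197⟩))))
(.node 3 (.node 1 (.leaf ⟨88, 19290205, none, 481, 16998479⟩) (.node 1 (.leaf ⟨481, 17043521, none, 88, 19882067⟩) (.leaf ⟨480, 32053343, none, 426, 17043521⟩)))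
(.node 2 (.node 1 (.leaf ⟨480, 32053343, none, 88, 19865693⟩) (.leaf ⟨480, 17043521, none, 88, 8943683⟩)) (.node 1 (.leaf ⟨479, 19099737, none, 433, 17193053⟩) (.leaf ⟨479, 17043521, none, 433, 19621963⟩)))))
(.node 7 (.node 3 (.node 1 (.leaf ⟨433, 19085399, (some false), 478, 17191007⟩) (.node 1 (.leaf ⟨469, 29904967, (some false), 482, 17043521⟩) (.leaf ⟨469, 13510735, (some false), 482, 17111109⟩)))
(.node 2 (.node 1 (.leaf ⟨469, 27529303, (some false), 482, 17782861⟩) (.leaf ⟨469, 4808797, (some false), 482, 17459267⟩)) (.node 1 (.leaf ⟨482, 17043521, (some true), 483, 17043521⟩) (.leaf ⟨483, 17043521, (some false), 484, 17043521⟩))))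
(.node 4 (.node 2 (.node 1 (.leaf ⟨484, 17043521, (some false), 483, 17127489⟩) (.leaf ⟨88, 4747333, none, 484, 16920657⟩)) (.node 1 (.leaf ⟨484, 17043521, none, 88, 8933465⟩) (.leaf ⟨483, 17258575, none, 462, 17127507⟩)))
(.node 2 (.node 1 (.leaf ⟨483, 17043521, none, 462, 17764443⟩) (.leaf ⟨472, 10971209, (some true), 485, 17043521⟩)) (.node 1 (.leaf ⟨485, 17043521, (some true), 472, 10971209⟩) (.leaf ⟨485, 13310023, (some true), 486, 17043521⟩)))))))
(.node 29 (.node 14 (.node 7 (.node 3 (.node 1 (.leaf ⟨486, 17043521, (some true), 485, 13310023⟩) (.node 1 (.leaf ⟨486, 31801425, (some true), 487, 17043521⟩) (.leaf ⟨487, 17043521, (some true), 486, 31801425⟩)))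
(.node 2 (.node 1 (.leaf ⟨88, 11360321, none, 487, 4925507⟩) (.leaf ⟨487, 17043521, none, 88, 5185603⟩)) (.node 1 (.leaf ⟨486, 32317505, none, 466, 25694293⟩) (.leaf ⟨486, 17043521, none, 466, 10969175⟩))))
(.node 3 (.node 1 (.leaf ⟨466, 11495495, (some true), 485, 21459031⟩) (.node 1 (.leaf ⟨466, 32125001, (some true), 485, 23556189⟩) (.leaf ⟨466, 32131155, (some true), 485, 23468119⟩)))
(.node 2 (.node 1 (.leaf ⟨466, 19085399, (some true), 485, 29823045⟩) (.leaf ⟨466, 27529303, (some false), 488, 17043521⟩)) (.node 1 (.leaf ⟨488, 17043521, (some false), 466, 25516101⟩) (.leaf ⟨488, 17059919, (some true), 489, 17043521⟩)))))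
(.node 7 (.node 3 (.node 1 (.leaf ⟨489, 17043521, (some true), 488, 17059919⟩) (.node 1 (.leaf ⟨489, 10971209, (some true), 490, 17043521⟩) (.leaf ⟨490, 17043521, (some true), 489, 10971209⟩)))
(.node 2 (.node 1 (.leaf ⟨490, 13310023, (some true), 491, 17043521⟩) (.leaf ⟨491, 17043521, (some true), 490, 13310023⟩)) (.node 1 (.leaf ⟨88, 12935259, none, 491, 6891585⟩) (.leaf ⟨491, 17043521, none, 88, 21114959⟩))))
(.node 4 (.node 2 (.node 1 (.leaf ⟨490, 15685711, none, 469, 27605063⟩) (.leaf ⟨490, 17043521, none, 469, 23543885⟩)) (.node 1 (.leaf ⟨469, 13510735, (some true), 489, 17506377⟩) (.leaf ⟨469, 4544593, (some true), 489, 25370713⟩)))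
(.node 2 (.node 1 (.leaf ⟨469, 31801425, (some true), 489, 27730009⟩) (.leaf ⟨469, 13310023, (some true), 489, 11225163⟩)) (.node 1 (.leaf ⟨89, 13310023, (some true), 495, 17043521⟩) (.leaf ⟨89, 32125001, (some true), 495, 9271379⟩))))))
(.node 15 (.node 7 (.node 3 (.node 1 (.leaf ⟨89, 13510735, (some true), 495, 9179209⟩) (.node 1 (.leaf ⟨89, 32131155, (some true), 495, 9001049⟩) (.leaf ⟨89, 31801425, (some true), 495, 9203803⟩)))
(.node 2 (.node 1 (.leaf ⟨89, 4808797, (some true), 495, 27816027⟩) (.leaf ⟨89, 4544593, (some true), 495, 11081795⟩)) (.node 1 (.leaf ⟨89, 29904967, (some true), 495, 9246801⟩) (.leaf ⟨495, 8982619, none, 495, 9246801⟩))))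
(.node 4 (.node 2 (.node 1 (.leaf ⟨495, 17043521, none, 495, 17569875⟩) (.leaf ⟨495, 17043521, (some false), 498, 17043521⟩)) (.node 1 (.leaf ⟨498, 25385043, (some true), 501, 17043521⟩) (.leaf ⟨501, 17043521, (some true), 498, 25385043⟩)))
(.node 2 (.node 1 (.leaf ⟨501, 4808797, (some false), 502, 17043521⟩) (.leaf ⟨502, 17043521, (some false), 501, 23685197⟩)) (.node 1 (.leaf ⟨89, 23423059, none, 502, 16934983⟩) (.leaf ⟨502, 17043521, none, 89, 27922521⟩)))))
(.node 7 (.node 3 (.node 1 (.leaf ⟨89, 13310023, (some false), 501, 6912071⟩) (.node 1 (.leaf ⟨89, 23928925, (some false), 501, 15296607⟩) (.leaf ⟨89, 9056345, (some false), 501, 21571679⟩)))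
(.node 2 (.node 1 (.leaf ⟨89, 6776923, (some false), 501, 9009241⟩) (.leaf ⟨501, 29960269, none, 501, 9009241⟩)) (.node 1 (.leaf ⟨501, 17043521, none, 501, 6572119⟩) (.leaf ⟨89, 17043521, (some true), 507, 17043521⟩))))
(.node 4 (.node 2 (.node 1 (.leaf ⟨507, 17111123, none, 507, 17043521⟩) (.leaf ⟨89, 11495495, (some true), 507, 25442379⟩)) (.node 1 (.leaf ⟨507, 25448521, none, 507, 25442379⟩) (.leaf ⟨507, 25450577, none, 507, 25442379⟩)))
(.node 2 (.node 1 (.leaf ⟨507, 17651793, none, 507, 17043521⟩) (.leaf ⟨507, 17043521, none, 507, 17651793⟩)) (.node 1 (.leaf ⟨507, 17043521, none, 507, 17059923⟩) (.leaf ⟨507, 17043521, none, 507, 17061955⟩))))))))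
(.node 58 (.node 29 (.node 14 (.node 7 (.node 3 (.node 1 (.leaf ⟨507, 17043521, none, 507, 17111123⟩) (.node 1 (.leaf ⟨507, 19085399, (some false), 508, 17043521⟩) (.leaf ⟨508, 17043521, (some false), 507, 19560517⟩)))
(.node 2 (.node 1 (.leaf ⟨508, 10971209, (some true), 509, 17043521⟩) (.leaf ⟨509, 17043521, (some true), 508, 10971209⟩)) (.node 1 (.leaf ⟨509, 13510735, (some false), 510, 17043521⟩) (.leaf ⟨510, 17043521, (some false), 509, 29761631⟩))))
(.node 3 (.node 1 (.leaf ⟨89, 19755083, none, 510, 17127489⟩) (.node 1 (.leaf ⟨510, 17043521, none, 89, 19673161⟩) (.leaf ⟨89, 19085399, (some false), 509, 23289941⟩)))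
(.node 2 (.node 1 (.leaf ⟨509, 11343963, none, 509, 23289941⟩) (.leaf ⟨509, 17043521, none, 509, 29501527⟩)) (.node 1 (.leaf ⟨509, 13510735, (some true), 508, 17197121⟩) (.leaf ⟨495, 27529303, (some false), 511, 17043521⟩)))))
(.node 7 (.node 3 (.node 1 (.leaf ⟨511, 17043521, (some false), 495, 25516101⟩) (.node 1 (.leaf ⟨495, 4808797, (some false), 511, 17053779⟩) (.leaf ⟨511, 11495495, (some true), 514, 17043521⟩)))
(.node 2 (.node 1 (.leaf ⟨514, 17043521, (some true), 511, 11495495⟩) (.leaf ⟨514, 13510735, (some true), 515, 17043521⟩)) (.node 1 (.leaf ⟨515, 17043521, (some true), 514, 13510735⟩) (.leaf ⟨515, 10971209, (some true), 516, 17043521⟩))))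
(.node 4 (.node 2 (.node 1 (.leaf ⟨516, 17043521, (some true), 515, 10971209⟩) (.leaf ⟨89, 21383263, none, 516, 23212117⟩)) (.node 1 (.leaf ⟨516, 17043521, none, 89, 19030095⟩) (.leaf ⟨515, 8800339, none, 507, 25442379⟩)))
(.node 2 (.node 1 (.leaf ⟨515, 17043521, none, 507, 23603287⟩) (.leaf ⟨507, 4808797, (some true), 514, 13592647⟩)) (.node 1 (.leaf ⟨507, 32125001, (some true), 514, 15343693⟩) (.leaf ⟨507, 13510735, (some true), 514, 4925511⟩))))))
(.node 14 (.node 7 (.node 3 (.node 1 (.leaf ⟨507, 4544593, (some true), 514, 13246541⟩) (.node 1 (.leaf ⟨507, 31801425, (some true), 514, 15409223⟩) (.leaf ⟨507, 13310023, (some true), 514, 12795973⟩)))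
(.node 2 (.node 1 (.leaf ⟨507, 32131155, (some true), 514, 31598661⟩) (.leaf ⟨507, 29904967, (some true), 514, 7022685⟩)) (.node 1 (.leaf ⟨514, 29567047, none, 514, 15409223⟩) (.leaf ⟨514, 17043521, none, 514, 15341633⟩))))
(.node 3 (.node 1 (.leaf ⟨514, 32125001, (some true), 511, 27936861⟩) (.node 1 (.leaf ⟨90, 4544593, (some true), 524, 17043521⟩) (.leaf ⟨90, 13510735, (some true), 524, 27594827⟩)))
(.node 2 (.node 1 (.leaf ⟨90, 29904967, (some true), 524, 25440329⟩) (.leaf ⟨90, 32131155, (some true), 524, 17070153⟩)) (.node 1 (.leaf ⟨524, 4808797, (some false), 529, 17043521⟩) (.leaf ⟨529, 11495495, (some true), 530, 17043521⟩)))))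
(.node 7 (.node 3 (.node 1 (.leaf ⟨530, 13510735, (some false), 531, 17043521⟩) (.node 1 (.leaf ⟨90, 15472717, none, 531, 17045585⟩) (.leaf ⟨531, 17043521, none, 90, 13373535⟩)))
(.node 2 (.node 1 (.leaf ⟨90, 19085399, (some true), 532, 17043521⟩) (.leaf ⟨532, 4808797, (some false), 533, 17043521⟩)) (.node 1 (.leaf ⟨533, 11495495, (some true), 534, 17043521⟩) (.leaf ⟨534, 17043521, (some true), 533, 11495495⟩))))
(.node 4 (.node 2 (.node 1 (.leaf ⟨534, 13510735, (some false), 535, 17043521⟩) (.leaf ⟨535, 17043521, (some false), 534, 29761631⟩)) (.node 1 (.leaf ⟨90, 28268613, none, 535, 17635393⟩) (.leaf ⟨535, 17043521, none, 90, 8867911⟩)))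
(.node 2 (.node 1 (.leaf ⟨90, 6776923, (some false), 534, 21110853⟩) (.leaf ⟨534, 21114969, none, 534, 21110853⟩)) (.node 1 (.leaf ⟨534, 17043521, none, 534, 17051741⟩) (.leaf ⟨534, 17059919, (some true), 533, 10709077⟩)))))))
(.node 29 (.node 14 (.node 7 (.node 3 (.node 1 (.leaf ⟨501, 31801425, (some true), 540, 17043521⟩) (.node 1 (.leaf ⟨501, 17059919, (some true), 540, 19140689⟩) (.leaf ⟨540, 32131155, (some true), 541, 17043521⟩)))
(.node 2 (.node 1 (.leaf ⟨541, 13310023, (some true), 542, 17043521⟩) (.leaf ⟨542, 17043521, (some true), 541, 13310023⟩)) (.node 1 (.leaf ⟨90, 9179217, none, 542, 6846549⟩) (.leaf ⟨542, 17043521, none, 90, 30034003⟩))))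
(.node 3 (.node 1 (.leaf ⟨541, 29511751, none, 524, 17070153⟩) (.node 1 (.leaf ⟨541, 17043521, none, 524, 13256799⟩) (.leaf ⟨92, 29904967, (some false), 547, 17043521⟩)))
(.node 2 (.node 1 (.leaf ⟨547, 17043521, (some false), 92, 13113429⟩) (.leaf ⟨547, 17043545, none, 547, 17043521⟩)) (.node 1 (.leaf ⟨547, 17070145, none, 547, 17043521⟩) (.leaf ⟨547, 17043521, none, 547, 17070145⟩)))))
(.node 7 (.node 3 (.node 1 (.leaf ⟨547, 17043521, none, 547, 17043545⟩) (.node 1 (.leaf ⟨547, 19085399, (some false), 548, 17043521⟩) (.leaf ⟨548, 17043521, (some false), 547, 19560517⟩)))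
(.node 2 (.node 1 (.leaf ⟨548, 19085399, (some false), 549, 17043521⟩) (.leaf ⟨549, 17043521, (some false), 548, 19560517⟩)) (.node 1 (.leaf ⟨92, 25720905, none, 549, 19150913⟩) (.leaf ⟨549, 17043521, none, 92, 27875401⟩))))
(.node 4 (.node 2 (.node 1 (.leaf ⟨92, 4808797, (some false), 548, 19812419⟩) (.leaf ⟨92, 29904967, (some true), 554, 17043521⟩)) (.node 1 (.leaf ⟨554, 17043521, (some true), 92, 29904967⟩) (.leaf ⟨92, 4544593, (some true), 554, 25450569⟩)))
(.node 2 (.node 1 (.leaf ⟨92, 4808797, (some true), 554, 19757137⟩) (.leaf ⟨554, 17127505, none, 554, 17043521⟩)) (.node 1 (.leaf ⟨554, 25442377, none, 554, 25450569⟩) (.leaf ⟨554, 17649731, none, 554, 17043521⟩))))))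
(.node 15 (.node 7 (.node 3 (.node 1 (.leaf ⟨554, 17043521, none, 554, 17649731⟩) (.node 1 (.leaf ⟨554, 17043521, none, 554, 17059905⟩) (.leaf ⟨554, 17043521, none, 554, 17127505⟩)))
(.node 2 (.node 1 (.leaf ⟨554, 4808797, (some false), 555, 17043521⟩) (.leaf ⟨555, 17043521, (some false), 554, 23685197⟩)) (.node 1 (.leaf ⟨554, 13510735, (some false), 555, 17721431⟩) (.leaf ⟨554, 27529303, (some false), 555, 17053779⟩))))
(.node 4 (.node 2 (.node 1 (.leaf ⟨554, 29904967, (some false), 555, 16998489⟩) (.leaf ⟨555, 11495495, (some true), 556, 17043521⟩)) (.node 1 (.leaf ⟨556, 17043521, (some true), 555, 11495495⟩) (.leaf ⟨556, 13510735, (some false), 557, 17043521⟩)))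
(.node 2 (.node 1 (.leaf ⟨557, 17043521, (some false), 556, 29761631⟩) (.leaf ⟨92, 23343199, none, 557, 17117275⟩)) (.node 1 (.leaf ⟨557, 17043521, none, 92, 29691983⟩) (.leaf ⟨92, 6776923, (some false), 556, 27594833⟩)))))
(.node 7 (.node 3 (.node 1 (.leaf ⟨92, 9056345, (some false), 556, 23277653⟩) (.node 1 (.leaf ⟨556, 27594831, none, 556, 27594833⟩) (.leaf ⟨556, 17043521, none, 556, 17043541⟩)))
(.node 2 (.node 1 (.leaf ⟨556, 17059919, (some true), 555, 10709071⟩) (.leaf ⟨192, 19085399, (some false), 558, 17043521⟩)) (.node 1 (.leaf ⟨192, 4808797, (some false), 558, 17190991⟩) (.leaf ⟨192, 29904967, (some false), 558, 17719367⟩))))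
(.node 4 (.node 2 (.node 1 (.leaf ⟨192, 17043521, (some false), 558, 17133633⟩) (.leaf ⟨558, 10971209, (some true), 559, 17043521⟩)) (.node 1 (.leaf ⟨559, 13510735, (some false), 560, 17043521⟩) (.leaf ⟨560, 17043521, (some false), 559, 29761631⟩)))
(.node 2 (.node 1 (.leaf ⟨92, 9377877, none, 560, 17641561⟩) (.leaf ⟨560, 17043521, none, 92, 28012613⟩)) (.node 1 (.leaf ⟨559, 15673415, none, 556, 23277653⟩) (.leaf ⟨559, 17043521, none, 556, 15419483⟩)))))))))

/-- The facts. -/
def caseBFullFactsRLLR : Tab Fct :=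
(.node 117 (.node 58 (.node 29 (.node 14 (.node 7 (.node 3 (.node 1 (.leaf ⟨555, 25385043, (some true), 561, 17043521⟩) (.node 1 (.leaf ⟨561, 17043521, (some true), 555, 25385043⟩) (.leaf ⟨561, 4808797, (some true), 562, 17043521⟩)))
(.node 2 (.node 1 (.leaf ⟨562, 17043521, (some true), 561, 4808797⟩) (.leaf ⟨562, 19085399, (some true), 563, 17043521⟩)) (.node 1 (.leaf ⟨563, 17043521, (some true), 562, 19085399⟩) (.leaf ⟨92, 4481101, none, 563, 17446977⟩))))
(.node 3 (.node 1 (.leaf ⟨563, 17043521, none, 92, 26163271⟩) (.node 1 (.leaf ⟨562, 26095687, none, 192, 11278411⟩) (.leaf ⟨562, 17043521, none, 192, 32008261⟩)))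
(.node 2 (.node 1 (.leaf ⟨192, 4808797, (some true), 561, 29909077⟩) (.leaf ⟨192, 11495495, (some true), 561, 23939167⟩)) (.node 1 (.leaf ⟨192, 25385043, (some true), 561, 23414869⟩) (.leaf ⟨192, 4544593, (some true), 561, 7096407⟩)))))
(.node 7 (.node 3 (.node 1 (.leaf ⟨192, 31801425, (some true), 561, 32251973⟩) (.node 1 (.leaf ⟨192, 10971209, (some true), 561, 15484999⟩) (.leaf ⟨192, 19085399, (some true), 561, 4743247⟩)))
(.node 2 (.node 1 (.leaf ⟨192, 29904967, (some true), 561, 21588061⟩) (.leaf ⟨558, 17059919, (some true), 564, 17043521⟩)) (.node 1 (.leaf ⟨564, 17043521, (some true), 558, 17059919⟩) (.leaf ⟨564, 19085399, (some true), 565, 17043521⟩))))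
(.node 4 (.node 2 (.node 1 (.leaf ⟨565, 17043521, (some true), 564, 19085399⟩) (.leaf ⟨565, 25385043, (some true), 566, 17043521⟩)) (.node 1 (.leaf ⟨566, 17043521, (some true), 565, 25385043⟩) (.leaf ⟨92, 25311311, none, 566, 23668807⟩)))
(.node 2 (.node 1 (.leaf ⟨566, 17043521, none, 92, 13398087⟩) (.leaf ⟨565, 8613971, none, 554, 17043521⟩)) (.node 1 (.leaf ⟨565, 17043521, none, 554, 31991901⟩) (.leaf ⟨554, 4808797, (some true), 564, 17444935⟩))))))
(.node 14 (.node 7 (.node 3 (.node 1 (.leaf ⟨554, 13310023, (some true), 564, 9320519⟩) (.node 1 (.leaf ⟨554, 13510735, (some true), 564, 17717317⟩) (.leaf ⟨554, 29904967, (some true), 564, 19877981⟩)))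
(.node 2 (.node 1 (.leaf ⟨554, 31801425, (some true), 564, 25917509⟩) (.leaf ⟨554, 32125001, (some true), 564, 28014669⟩)) (.node 1 (.leaf ⟨554, 32131155, (some true), 564, 28268613⟩) (.leaf ⟨554, 4544593, (some true), 564, 25628751⟩))))
(.node 3 (.node 1 (.leaf ⟨95, 23928925, (some false), 567, 17043521⟩) (.node 1 (.leaf ⟨567, 17043521, (some false), 95, 4991053⟩) (.leaf ⟨95, 13310023, (some false), 567, 17178697⟩)))
(.node 2 (.node 1 (.leaf ⟨95, 29904967, (some false), 567, 17705049⟩) (.leaf ⟨95, 10971209, (some false), 570, 17043521⟩)) (.node 1 (.leaf ⟨570, 19085399, (some false), 571, 17043521⟩) (.leaf ⟨571, 19085399, (some false), 572, 17043521⟩)))))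
(.node 7 (.node 3 (.node 1 (.leaf ⟨572, 17043521, (some false), 571, 19560517⟩) (.node 1 (.leaf ⟨95, 26157145, none, 572, 19798107⟩) (.leaf ⟨572, 17043521, none, 95, 15036483⟩)))
(.node 2 (.node 1 (.leaf ⟨95, 32125001, (some false), 571, 19812419⟩) (.leaf ⟨433, 17059919, (some true), 573, 17043521⟩)) (.node 1 (.leaf ⟨573, 17059919, (some true), 574, 17043521⟩) (.leaf ⟨574, 17043521, (some true), 573, 17059919⟩))))
(.node 4 (.node 2 (.node 1 (.leaf ⟨95, 10901597, none, 574, 8943709⟩) (.leaf ⟨574, 17043521, none, 95, 19353665⟩)) (.node 1 (.leaf ⟨573, 8917063, none, 138, 11145291⟩) (.leaf ⟨573, 17043521, none, 138, 19271765⟩)))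
(.node 2 (.node 1 (.leaf ⟨95, 31801425, (some true), 575, 17043521⟩) (.leaf ⟨95, 32131155, (some true), 575, 19230809⟩)) (.node 1 (.leaf ⟨575, 19148875, none, 575, 19230809⟩) (.leaf ⟨575, 19691593, none, 575, 19230809⟩)))))))
(.node 29 (.node 14 (.node 7 (.node 3 (.node 1 (.leaf ⟨575, 17043521, none, 575, 17569875⟩) (.node 1 (.leaf ⟨575, 17043521, none, 575, 17127505⟩) (.leaf ⟨575, 17059919, (some true), 576, 17043521⟩)))
(.node 2 (.node 1 (.leaf ⟨576, 17569857, none, 576, 17043521⟩) (.leaf ⟨576, 17127489, none, 576, 17043521⟩)) (.node 1 (.leaf ⟨576, 17043521, none, 576, 17127489⟩) (.leaf ⟨576, 17043521, none, 576, 17569857⟩))))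
(.node 3 (.node 1 (.leaf ⟨576, 17059919, (some true), 577, 17043521⟩) (.node 1 (.leaf ⟨577, 17043521, (some true), 576, 17059919⟩) (.leaf ⟨95, 4989017, none, 577, 8935519⟩)))
(.node 2 (.node 1 (.leaf ⟨577, 17043521, none, 95, 15482957⟩) (.leaf ⟨95, 4808797, (some true), 576, 11022431⟩)) (.node 1 (.leaf ⟨95, 13510735, (some true), 576, 25770061⟩) (.leaf ⟨95, 13310023, (some true), 581, 17043521⟩)))))
(.node 7 (.node 3 (.node 1 (.leaf ⟨95, 29904967, (some true), 581, 17109057⟩) (.node 1 (.leaf ⟨581, 13510735, (some false), 582, 17043521⟩) (.leaf ⟨582, 17043521, (some true), 583, 17043521⟩)))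
(.node 2 (.node 1 (.leaf ⟨583, 17043521, (some false), 584, 17043521⟩) (.leaf ⟨584, 17043521, (some false), 583, 17127489⟩)) (.node 1 (.leaf ⟨95, 6707271, none, 584, 17698891⟩) (.leaf ⟨584, 17043521, none, 95, 7100505⟩))))
(.node 4 (.node 2 (.node 1 (.leaf ⟨583, 16988247, none, 570, 17043521⟩) (.leaf ⟨583, 17043521, none, 570, 17180761⟩)) (.node 1 (.leaf ⟨433, 27529303, (some false), 588, 17043521⟩) (.leaf ⟨588, 19085399, (some true), 589, 17043521⟩)))
(.node 2 (.node 1 (.leaf ⟨589, 19085399, (some false), 590, 17043521⟩) (.leaf ⟨590, 17043521, (some false), 589, 19560517⟩)) (.node 1 (.leaf ⟨95, 27816005, none, 590, 16916563⟩) (.leaf ⟨590, 17043521, none, 95, 23621723⟩))))))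
(.node 15 (.node 7 (.node 3 (.node 1 (.leaf ⟨589, 19740737, none, 567, 17705049⟩) (.node 1 (.leaf ⟨589, 17043521, none, 567, 19556427⟩) (.leaf ⟨478, 11495495, (some true), 591, 17043521⟩)))
(.node 2 (.node 1 (.leaf ⟨591, 17043521, (some true), 478, 11495495⟩) (.leaf ⟨591, 13510735, (some false), 592, 17043521⟩)) (.node 1 (.leaf ⟨592, 17043521, (some false), 591, 29761631⟩) (.leaf ⟨95, 17111109, none, 592, 17569873⟩))))
(.node 4 (.node 2 (.node 1 (.leaf ⟨592, 17043521, none, 95, 17633367⟩) (.leaf ⟨591, 15689817, none, 19, 4991053⟩)) (.node 1 (.leaf ⟨591, 17043521, none, 19, 12808277⟩) (.leaf ⟨478, 19277909, none, 129, 17043521⟩)))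
(.node 2 (.node 1 (.leaf ⟨478, 17043521, none, 129, 19085405⟩) (.leaf ⟨129, 19085399, (some true), 88, 19880015⟩)) (.node 1 (.leaf ⟨479, 17043535, none, 151, 17043521⟩) (.leaf ⟨433, 19621957, none, 151, 17043521⟩)))))
(.node 7 (.node 3 (.node 1 (.leaf ⟨433, 17043521, none, 151, 19554393⟩) (.node 1 (.leaf ⟨151, 17059919, (some true), 461, 27555929⟩) (.leaf ⟨151, 27529303, (some false), 456, 17592391⟩)))
(.node 2 (.node 1 (.leaf ⟨151, 13510735, (some false), 456, 17702987⟩) (.leaf ⟨151, 4808797, (some false), 456, 17782863⟩)) (.node 1 (.leaf ⟨151, 29904967, (some false), 456, 17705039⟩) (.leaf ⟨151, 13310023, (some false), 472, 17578077⟩))))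
(.node 4 (.node 2 (.node 1 (.leaf ⟨151, 6776923, (some false), 472, 17510489⟩) (.leaf ⟨151, 23928925, (some false), 472, 17446985⟩)) (.node 1 (.leaf ⟨151, 9056345, (some false), 472, 17782879⟩) (.leaf ⟨151, 11495495, (some true), 573, 27603033⟩)))
(.node 2 (.node 1 (.leaf ⟨151, 7292999, (some false), 588, 17053787⟩) (.leaf ⟨151, 32125001, (some false), 588, 17510465⟩)) (.node 1 (.leaf ⟨151, 10971209, (some false), 588, 16934985⟩) (.leaf ⟨151, 31801425, (some false), 588, 17510487⟩))))))))
(.node 59 (.node 29 (.node 14 (.node 7 (.node 3 (.node 1 (.leaf ⟨576, 27529303, (some false), 593, 17043521⟩) (.node 1 (.leaf ⟨576, 13510735, (some false), 593, 17698909⟩) (.leaf ⟨576, 29904967, (some false), 593, 17002587⟩)))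
(.node 2 (.node 1 (.leaf ⟨576, 4808797, (some false), 593, 17053765⟩) (.leaf ⟨593, 11495495, (some true), 594, 17043521⟩)) (.node 1 (.leaf ⟨594, 17043521, (some true), 593, 11495495⟩) (.leaf ⟨594, 13310023, (some true), 595, 17043521⟩))))
(.node 3 (.node 1 (.leaf ⟨595, 17043521, (some true), 594, 13310023⟩) (.node 1 (.leaf ⟨595, 31801425, (some true), 596, 17043521⟩) (.leaf ⟨596, 17043521, (some true), 595, 31801425⟩)))
(.node 2 (.node 1 (.leaf ⟨95, 4548695, none, 596, 21194835⟩) (.leaf ⟨596, 17043521, none, 95, 11472971⟩)) (.node 1 (.leaf ⟨595, 13199451, none, 138, 11145291⟩) (.leaf ⟨595, 17043521, none, 138, 15429707⟩)))))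
(.node 7 (.node 3 (.node 1 (.leaf ⟨138, 32125001, (some true), 594, 32184405⟩) (.node 1 (.leaf ⟨138, 32131155, (some true), 594, 30021725⟩) (.leaf ⟨138, 4808797, (some true), 594, 21368919⟩)))
(.node 2 (.node 1 (.leaf ⟨138, 29904967, (some true), 594, 23992399⟩) (.leaf ⟨96, 27529303, (some false), 600, 17043521⟩)) (.node 1 (.leaf ⟨96, 4857931, none, 600, 19884103⟩) (.leaf ⟨600, 17043521, none, 96, 13586521⟩))))
(.node 4 (.node 2 (.node 1 (.leaf ⟨96, 13310023, (some true), 610, 17043521⟩) (.leaf ⟨610, 17043521, (some true), 96, 13310023⟩)) (.node 1 (.leaf ⟨96, 32125001, (some true), 610, 11292739⟩) (.leaf ⟨88, 7292999, (some false), 612, 17043521⟩)))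
(.node 2 (.node 1 (.leaf ⟨96, 10971209, (some true), 613, 17043521⟩) (.leaf ⟨613, 17043521, (some false), 614, 17043521⟩)) (.node 1 (.leaf ⟨614, 17043521, (some false), 613, 17127489⟩) (.leaf ⟨614, 25385043, (some true), 615, 17043521⟩))))))
(.node 15 (.node 7 (.node 3 (.node 1 (.leaf ⟨615, 17043521, (some true), 614, 25385043⟩) (.node 1 (.leaf ⟨615, 4808797, (some false), 616, 17043521⟩) (.leaf ⟨616, 17043521, (some false), 615, 23685197⟩)))
(.node 2 (.node 1 (.leaf ⟨96, 25305163, none, 616, 17457229⟩) (.leaf ⟨616, 17043521, none, 96, 5001307⟩)) (.node 1 (.leaf ⟨96, 10971209, (some false), 615, 32053343⟩) (.leaf ⟨615, 32053335, none, 615, 32053343⟩))))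
(.node 4 (.node 2 (.node 1 (.leaf ⟨615, 17043521, none, 615, 17043551⟩) (.leaf ⟨615, 17059919, (some true), 614, 25385027⟩)) (.node 1 (.leaf ⟨613, 13510735, (some false), 617, 17043521⟩) (.leaf ⟨617, 17043521, (some true), 618, 17043521⟩)))
(.node 2 (.node 1 (.leaf ⟨618, 17043521, (some true), 617, 17043521⟩) (.leaf ⟨618, 17043521, (some false), 619, 17043521⟩)) (.node 1 (.leaf ⟨619, 17043521, (some false), 618, 17127489⟩) (.leaf ⟨96, 17442897, none, 619, 17191001⟩)))))
(.node 7 (.node 3 (.node 1 (.leaf ⟨619, 17043521, none, 96, 16939101⟩) (.node 1 (.leaf ⟨96, 17043521, (some false), 618, 16988247⟩) (.leaf ⟨618, 16988233, none, 618, 16988247⟩)))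
(.node 2 (.node 1 (.leaf ⟨618, 17043521, none, 618, 17043541⟩) (.leaf ⟨618, 17059919, (some true), 617, 17068113⟩)) (.node 1 (.leaf ⟨571, 19085399, (some true), 620, 17043521⟩) (.leaf ⟨620, 17043521, (some false), 621, 17043521⟩))))
(.node 4 (.node 2 (.node 1 (.leaf ⟨96, 19755083, none, 621, 17258585⟩) (.leaf ⟨621, 17043521, none, 96, 19359827⟩)) (.node 1 (.leaf ⟨613, 4808797, (some false), 622, 17043521⟩) (.leaf ⟨622, 11495495, (some true), 623, 17043521⟩)))
(.node 2 (.node 1 (.leaf ⟨623, 13510735, (some false), 624, 17043521⟩) (.leaf ⟨624, 17043521, (some false), 623, 29761631⟩)) (.node 1 (.leaf ⟨96, 10635355, none, 624, 17649745⟩) (.leaf ⟨624, 17043521, none, 96, 25839705⟩)))))))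
(.node 29 (.node 14 (.node 7 (.node 3 (.node 1 (.leaf ⟨623, 23277653, none, 473, 17043521⟩) (.node 1 (.leaf ⟨623, 17043521, none, 473, 25634899⟩) (.leaf ⟨610, 29904967, (some false), 630, 17043521⟩)))
(.node 2 (.node 1 (.leaf ⟨630, 17043521, (some false), 610, 13113429⟩) (.leaf ⟨630, 25385043, (some true), 631, 17043521⟩)) (.node 1 (.leaf ⟨631, 17043521, (some true), 630, 25385043⟩) (.leaf ⟨631, 31801425, (some true), 632, 17043521⟩))))
(.node 3 (.node 1 (.leaf ⟨632, 17043521, (some true), 631, 31801425⟩) (.node 1 (.leaf ⟨632, 13310023, (some true), 633, 17043521⟩) (.leaf ⟨633, 17043521, (some true), 632, 13310023⟩)))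
(.node 2 (.node 1 (.leaf ⟨96, 4878401, none, 633, 4732997⟩) (.leaf ⟨633, 17043521, none, 96, 17578065⟩)) (.node 1 (.leaf ⟨632, 14831711, none, 95, 10971209⟩) (.leaf ⟨632, 17043521, none, 95, 25710663⟩)))))
(.node 7 (.node 3 (.node 1 (.leaf ⟨631, 32008283, none, 459, 19230803⟩) (.node 1 (.leaf ⟨631, 32008283, none, 151, 17195075⟩) (.leaf ⟨631, 17043521, none, 151, 9246791⟩)))
(.node 2 (.node 1 (.leaf ⟨630, 19812435, none, 461, 27555929⟩) (.leaf ⟨630, 19812435, none, 85, 29775957⟩)) (.node 1 (.leaf ⟨630, 17043521, none, 85, 9246805⟩) (.leaf ⟨85, 27529303, (some false), 610, 32004165⟩))))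
(.node 4 (.node 2 (.node 1 (.leaf ⟨85, 4808797, (some false), 610, 21524573⟩) (.leaf ⟨85, 13510735, (some false), 610, 11030593⟩)) (.node 1 (.leaf ⟨85, 29904967, (some false), 610, 8925271⟩) (.leaf ⟨100, 19085399, (some false), 637, 17043521⟩)))
(.node 2 (.node 1 (.leaf ⟨637, 17043521, (some false), 100, 19560517⟩) (.leaf ⟨637, 19085399, (some false), 638, 17043521⟩)) (.node 1 (.leaf ⟨638, 17043521, (some false), 637, 19560517⟩) (.leaf ⟨638, 19085399, (some false), 639, 17043521⟩))))))
(.node 15 (.node 7 (.node 3 (.node 1 (.leaf ⟨639, 17043521, (some false), 638, 19560517⟩) (.node 1 (.leaf ⟨100, 19542083, none, 639, 19355741⟩) (.leaf ⟨639, 17043521, none, 100, 16984155⟩)))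
(.node 2 (.node 1 (.leaf ⟨638, 19814473, none, 85, 19560517⟩) (.leaf ⟨638, 17043521, none, 85, 16984155⟩)) (.node 1 (.leaf ⟨637, 19814473, none, 377, 19275871⟩) (.leaf ⟨637, 17043521, none, 377, 17643589⟩))))
(.node 4 (.node 2 (.node 1 (.leaf ⟨100, 19148867, none, 385, 17043521⟩) (.leaf ⟨385, 17043521, none, 100, 19148867⟩)) (.node 1 (.leaf ⟨101, 19085399, (some false), 642, 17043521⟩) (.leaf ⟨642, 17043521, (some false), 101, 19560517⟩)))
(.node 2 (.node 1 (.leaf ⟨101, 13510735, (some true), 659, 17043521⟩) (.leaf ⟨101, 4544593, (some true), 659, 25499721⟩)) (.node 1 (.leaf ⟨101, 32131155, (some true), 659, 27547729⟩) (.leaf ⟨101, 29904967, (some true), 659, 19142745⟩)))))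
(.node 7 (.node 3 (.node 1 (.leaf ⟨101, 4808797, (some true), 659, 19732547⟩) (.node 1 (.leaf ⟨101, 32125001, (some true), 659, 25450585⟩) (.leaf ⟨101, 31801425, (some true), 659, 27545681⟩)))
(.node 2 (.node 1 (.leaf ⟨101, 13310023, (some true), 659, 11030611⟩) (.leaf ⟨25, 27529303, (some false), 672, 17043521⟩)) (.node 1 (.leaf ⟨672, 16984129, none, 672, 17043521⟩) (.leaf ⟨672, 17043533, none, 672, 17043521⟩))))
(.node 4 (.node 2 (.node 1 (.leaf ⟨672, 17043521, none, 672, 17043533⟩) (.leaf ⟨672, 17043521, none, 672, 16984129⟩)) (.node 1 (.leaf ⟨672, 11495495, (some true), 673, 17043521⟩) (.leaf ⟨672, 10971209, (some true), 673, 17068113⟩)))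
(.node 2 (.node 1 (.leaf ⟨672, 17043521, (some true), 673, 9205851⟩) (.leaf ⟨672, 17059919, (some true), 673, 9187403⟩)) (.node 1 (.leaf ⟨673, 13510735, (some false), 674, 17043521⟩) (.leaf ⟨674, 17043521, (some false), 673, 29761631⟩)))))))))

/-- The facts. -/
def caseBFullFactsRLL : Tab Fct := .node 234 caseBFullFactsRLLL caseBFullFactsRLLR

/-- The facts. -/
def caseBFullFactsRLRL : Tab Fct :=
(.node 117 (.node 58 (.node 29 (.node 14 (.node 7 (.node 3 (.node 1 (.leaf ⟨101, 19814495, none, 674, 17659995⟩) (.node 1 (.leaf ⟨674, 17043521, none, 101, 19101773⟩) (.leaf ⟨673, 31926355, none, 642, 17043521⟩)))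
(.node 2 (.node 1 (.leaf ⟨673, 17043521, none, 642, 25374811⟩) (.leaf ⟨659, 4808797, (some false), 675, 17043521⟩)) (.node 1 (.leaf ⟨675, 19085399, (some true), 676, 17043521⟩) (.leaf ⟨676, 17043521, (some true), 675, 19085399⟩))))
(.node 3 (.node 1 (.leaf ⟨676, 19085399, (some true), 677, 17043521⟩) (.node 1 (.leaf ⟨677, 17043521, (some true), 676, 19085399⟩) (.leaf ⟨677, 11495495, (some true), 678, 17043521⟩)))
(.node 2 (.node 1 (.leaf ⟨678, 17043521, (some true), 677, 11495495⟩) (.leaf ⟨101, 21248089, none, 678, 23210065⟩)) (.node 1 (.leaf ⟨678, 17043521, none, 101, 19083335⟩) (.leaf ⟨677, 9396311, none, 102, 17043521⟩)))))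
(.node 7 (.node 3 (.node 1 (.leaf ⟨677, 9396311, none, 25, 13574239⟩) (.node 1 (.leaf ⟨677, 17043521, none, 25, 31735889⟩) (.leaf ⟨676, 19560533, none, 180, 17043521⟩)))
(.node 2 (.node 1 (.leaf ⟨676, 17043521, none, 180, 19359817⟩) (.leaf ⟨180, 10971209, (some true), 675, 25630807⟩)) (.node 1 (.leaf ⟨180, 25385043, (some true), 675, 11219013⟩) (.leaf ⟨180, 4544593, (some true), 675, 27660357⟩))))
(.node 4 (.node 2 (.node 1 (.leaf ⟨180, 31801425, (some true), 675, 27750477⟩) (.leaf ⟨180, 29904967, (some true), 675, 17174597⟩)) (.node 1 (.leaf ⟨180, 4808797, (some true), 675, 19085391⟩) (.leaf ⟨180, 11495495, (some true), 675, 27660365⟩)))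
(.node 2 (.node 1 (.leaf ⟨180, 19085399, (some true), 675, 17461335⟩) (.leaf ⟨104, 13310023, (some false), 683, 17043521⟩)) (.node 1 (.leaf ⟨104, 13510735, (some false), 683, 17068103⟩) (.leaf ⟨104, 27529303, (some false), 683, 17715283⟩))))))
(.node 14 (.node 7 (.node 3 (.node 1 (.leaf ⟨104, 23928925, (some false), 683, 16920645⟩) (.node 1 (.leaf ⟨104, 6776923, (some false), 683, 17004609⟩) (.leaf ⟨104, 4808797, (some false), 683, 17512519⟩)))
(.node 2 (.node 1 (.leaf ⟨104, 29904967, (some false), 683, 17127507⟩) (.leaf ⟨104, 9056345, (some false), 683, 17246277⟩)) (.node 1 (.leaf ⟨683, 17043527, none, 683, 17043521⟩) (.leaf ⟨683, 17043521, none, 683, 17043527⟩))))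
(.node 3 (.node 1 (.leaf ⟨104, 13510735, (some true), 688, 17043521⟩) (.node 1 (.leaf ⟨104, 32131155, (some true), 688, 25516097⟩) (.leaf ⟨104, 31801425, (some true), 688, 9205851⟩)))
(.node 2 (.node 1 (.leaf ⟨104, 4808797, (some true), 688, 25786451⟩) (.leaf ⟨688, 17070145, none, 688, 17043521⟩)) (.node 1 (.leaf ⟨688, 19230811, none, 688, 17043521⟩) (.leaf ⟨688, 19683409, none, 688, 25786451⟩)))))
(.node 7 (.node 3 (.node 1 (.leaf ⟨688, 17043521, none, 688, 8943683⟩) (.node 1 (.leaf ⟨688, 17043521, none, 688, 19230811⟩) (.leaf ⟨688, 17043521, none, 688, 17070145⟩)))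
(.node 2 (.node 1 (.leaf ⟨688, 17043521, (some false), 691, 17043521⟩) (.leaf ⟨691, 17043521, (some false), 688, 17127489⟩)) (.node 1 (.leaf ⟨688, 29904967, (some false), 691, 16988231⟩) (.leaf ⟨104, 4544593, (some true), 694, 17043521⟩))))
(.node 4 (.node 2 (.node 1 (.leaf ⟨694, 17043521, (some true), 104, 4544593⟩) (.leaf ⟨694, 4808797, (some false), 695, 17043521⟩)) (.node 1 (.leaf ⟨695, 17043521, (some false), 694, 23685197⟩) (.leaf ⟨695, 11495495, (some true), 696, 17043521⟩)))
(.node 2 (.node 1 (.leaf ⟨696, 17043521, (some true), 695, 11495495⟩) (.leaf ⟨696, 13510735, (some false), 697, 17043521⟩)) (.node 1 (.leaf ⟨697, 17043521, (some false), 696, 29761631⟩) (.leaf ⟨104, 12933201, none, 697, 17651787⟩)))))))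
(.node 29 (.node 14 (.node 7 (.node 3 (.node 1 (.leaf ⟨697, 17043521, none, 104, 13373513⟩) (.node 1 (.leaf ⟨696, 4864093, none, 683, 17246277⟩) (.leaf ⟨696, 17043521, none, 683, 25317455⟩)))
(.node 2 (.node 1 (.leaf ⟨683, 19085399, (some true), 695, 19341397⟩) (.leaf ⟨683, 25385043, (some true), 695, 10709085⟩)) (.node 1 (.leaf ⟨105, 19085399, (some false), 698, 17043521⟩) (.leaf ⟨698, 17043521, (some false), 105, 19560517⟩))))
(.node 3 (.node 1 (.leaf ⟨698, 10971209, (some true), 699, 17043521⟩) (.node 1 (.leaf ⟨699, 17043521, (some true), 698, 10971209⟩) (.leaf ⟨699, 13510735, (some false), 700, 17043521⟩)))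
(.node 2 (.node 1 (.leaf ⟨700, 17043521, (some false), 699, 29761631⟩) (.leaf ⟨104, 19232849, none, 700, 17651779⟩)) (.node 1 (.leaf ⟨700, 17043521, none, 104, 19691603⟩) (.leaf ⟨104, 19085399, (some false), 699, 23275603⟩)))))
(.node 7 (.node 3 (.node 1 (.leaf ⟨105, 4808797, (some false), 701, 17043521⟩) (.node 1 (.leaf ⟨105, 27529303, (some false), 701, 16922707⟩) (.leaf ⟨105, 13510735, (some false), 701, 17459287⟩)))
(.node 2 (.node 1 (.leaf ⟨105, 29904967, (some false), 701, 17522777⟩) (.leaf ⟨701, 11495495, (some true), 702, 17043521⟩)) (.node 1 (.leaf ⟨702, 13510735, (some false), 703, 17043521⟩) (.leaf ⟨703, 17043521, (some false), 702, 29761631⟩))))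
(.node 4 (.node 2 (.node 1 (.leaf ⟨104, 11415623, none, 703, 17053787⟩) (.leaf ⟨703, 17043521, none, 104, 11212887⟩)) (.node 1 (.leaf ⟨702, 11368523, none, 683, 17043521⟩) (.leaf ⟨702, 17043521, none, 683, 25768017⟩)))
(.node 2 (.node 1 (.leaf ⟨691, 17059919, (some true), 704, 17043521⟩) (.leaf ⟨704, 17043521, (some true), 691, 17059919⟩)) (.node 1 (.leaf ⟨704, 10971209, (some true), 705, 17043521⟩) (.leaf ⟨705, 17043521, (some true), 704, 10971209⟩))))))
(.node 15 (.node 7 (.node 3 (.node 1 (.leaf ⟨705, 13310023, (some true), 706, 17043521⟩) (.node 1 (.leaf ⟨706, 17043521, (some true), 705, 13310023⟩) (.leaf ⟨104, 21504073, none, 706, 23666769⟩)))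
(.node 2 (.node 1 (.leaf ⟨706, 17043521, none, 104, 19206223⟩) (.leaf ⟨705, 23556167, none, 105, 17043521⟩)) (.node 1 (.leaf ⟨705, 17043521, none, 105, 15429727⟩) (.leaf ⟨105, 13310023, (some true), 704, 9062481⟩))))
(.node 4 (.node 2 (.node 1 (.leaf ⟨105, 4808797, (some true), 704, 19882075⟩) (.leaf ⟨105, 4544593, (some true), 704, 27467851⟩)) (.node 1 (.leaf ⟨105, 32131155, (some true), 704, 28190811⟩) (.leaf ⟨105, 32125001, (some true), 704, 27729987⟩)))
(.node 2 (.node 1 (.leaf ⟨105, 31801425, (some true), 704, 27467843⟩) (.leaf ⟨105, 29904967, (some true), 704, 17440841⟩)) (.node 1 (.leaf ⟨105, 13510735, (some true), 704, 17703001⟩) (.leaf ⟨701, 19085399, (some true), 707, 17043521⟩)))))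
(.node 7 (.node 3 (.node 1 (.leaf ⟨707, 17043521, (some true), 701, 19085399⟩) (.node 1 (.leaf ⟨707, 19085399, (some true), 708, 17043521⟩) (.leaf ⟨708, 17043521, (some true), 707, 19085399⟩)))
(.node 2 (.node 1 (.leaf ⟨708, 11495495, (some true), 709, 17043521⟩) (.leaf ⟨709, 17043521, (some true), 708, 11495495⟩)) (.node 1 (.leaf ⟨104, 9244751, none, 709, 23210067⟩) (.leaf ⟨709, 17043521, none, 104, 7282773⟩))))
(.node 4 (.node 2 (.node 1 (.leaf ⟨708, 16932943, none, 688, 17043521⟩) (.leaf ⟨708, 17043521, none, 688, 17440863⟩)) (.node 1 (.leaf ⟨688, 11495495, (some true), 707, 27924551⟩) (.leaf ⟨688, 29904967, (some true), 707, 19607629⟩)))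
(.node 2 (.node 1 (.leaf ⟨688, 31801425, (some true), 707, 25374813⟩) (.leaf ⟨688, 25385043, (some true), 707, 11415647⟩)) (.node 1 (.leaf ⟨688, 10971209, (some true), 707, 25589853⟩) (.leaf ⟨688, 4544593, (some true), 707, 25319501⟩))))))))
(.node 59 (.node 29 (.node 14 (.node 7 (.node 3 (.node 1 (.leaf ⟨688, 4808797, (some true), 707, 17193029⟩) (.node 1 (.leaf ⟨688, 19085399, (some true), 707, 17447007⟩) (.leaf ⟨704, 11495495, (some true), 715, 17043521⟩)))
(.node 2 (.node 1 (.leaf ⟨715, 17059919, (some true), 716, 17043521⟩) (.leaf ⟨716, 17043521, (some true), 715, 17059919⟩)) (.node 1 (.leaf ⟨105, 5120075, none, 716, 11292741⟩) (.leaf ⟨716, 17043521, none, 105, 32196687⟩))))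
(.node 3 (.node 1 (.leaf ⟨715, 27529295, none, 704, 17703001⟩) (.node 1 (.leaf ⟨715, 17043521, none, 704, 27992157⟩) (.leaf ⟨105, 25385043, (some true), 721, 17043521⟩)))
(.node 2 (.node 1 (.leaf ⟨721, 19148865, none, 721, 17043521⟩) (.leaf ⟨721, 25442369, none, 721, 17043521⟩)) (.node 1 (.leaf ⟨721, 25434179, none, 721, 17043521⟩) (.leaf ⟨721, 27537481, none, 721, 17043521⟩)))))
(.node 7 (.node 3 (.node 1 (.leaf ⟨721, 17043521, none, 721, 27537481⟩) (.node 1 (.leaf ⟨721, 17043521, none, 721, 25434179⟩) (.leaf ⟨721, 17043521, none, 721, 25442369⟩)))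
(.node 2 (.node 1 (.leaf ⟨721, 17043521, none, 721, 19148865⟩) (.leaf ⟨721, 19085399, (some false), 722, 17043521⟩)) (.node 1 (.leaf ⟨721, 13510735, (some false), 722, 17440843⟩) (.leaf ⟨721, 17043521, (some false), 722, 17051731⟩))))
(.node 4 (.node 2 (.node 1 (.leaf ⟨721, 27529303, (some false), 722, 17510489⟩) (.leaf ⟨722, 17051721, none, 722, 17510489⟩)) (.node 1 (.leaf ⟨722, 17576029, none, 722, 17051731⟩) (.leaf ⟨722, 17043521, none, 722, 17567815⟩)))
(.node 2 (.node 1 (.leaf ⟨722, 17043521, none, 722, 17764433⟩) (.leaf ⟨704, 10971209, (some false), 725, 17043521⟩)) (.node 1 (.leaf ⟨725, 17043521, (some false), 704, 9396299⟩) (.leaf ⟨725, 25385043, (some true), 726, 17043521⟩))))))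
(.node 15 (.node 7 (.node 3 (.node 1 (.leaf ⟨726, 17043521, (some true), 725, 25385043⟩) (.node 1 (.leaf ⟨726, 4808797, (some false), 727, 17043521⟩) (.leaf ⟨727, 17043521, (some false), 726, 23685197⟩)))
(.node 2 (.node 1 (.leaf ⟨105, 21839941, none, 727, 16916575⟩) (.leaf ⟨727, 17043521, none, 105, 25903191⟩)) (.node 1 (.leaf ⟨726, 13195351, none, 432, 17782851⟩) (.leaf ⟨726, 17043521, none, 432, 11276359⟩))))
(.node 4 (.node 2 (.node 1 (.leaf ⟨432, 17059919, (some true), 725, 17461339⟩) (.leaf ⟨432, 17043521, (some true), 725, 17512521⟩)) (.node 1 (.leaf ⟨432, 10971209, (some true), 725, 25849931⟩) (.leaf ⟨432, 11495495, (some true), 725, 25825369⟩)))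
(.node 2 (.node 1 (.leaf ⟨722, 19085399, (some true), 731, 17043521⟩) (.leaf ⟨722, 25385043, (some true), 731, 8941641⟩)) (.node 1 (.leaf ⟨722, 17043521, (some true), 731, 19157073⟩) (.leaf ⟨722, 17059919, (some true), 731, 19689539⟩)))))
(.node 7 (.node 3 (.node 1 (.leaf ⟨731, 11495495, (some true), 732, 17043521⟩) (.node 1 (.leaf ⟨732, 13310023, (some true), 733, 17043521⟩) (.leaf ⟨733, 17043521, (some true), 732, 13310023⟩)))
(.node 2 (.node 1 (.leaf ⟨105, 28201035, none, 733, 4732997⟩) (.leaf ⟨733, 17043521, none, 105, 29843525⟩)) (.node 1 (.leaf ⟨732, 14833757, none, 704, 17703001⟩) (.leaf ⟨732, 17043521, none, 704, 15624265⟩))))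
(.node 4 (.node 2 (.node 1 (.leaf ⟨112, 4808797, (some false), 734, 17043521⟩) (.leaf ⟨112, 27529303, (some false), 734, 17578073⟩)) (.node 1 (.leaf ⟨112, 23928925, (some false), 734, 17586267⟩) (.leaf ⟨112, 6776923, (some false), 734, 17059905⟩)))
(.node 2 (.node 1 (.leaf ⟨734, 19085399, (some false), 735, 17043521⟩) (.leaf ⟨735, 17043521, (some false), 734, 19560517⟩)) (.node 1 (.leaf ⟨735, 19085399, (some false), 736, 17043521⟩) (.leaf ⟨736, 17043521, (some false), 735, 19560517⟩)))))))
(.node 29 (.node 14 (.node 7 (.node 3 (.node 1 (.leaf ⟨112, 27873371, none, 736, 19884115⟩) (.node 1 (.leaf ⟨736, 17043521, none, 112, 4749397⟩) (.leaf ⟨112, 29904967, (some false), 735, 19148887⟩)))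
(.node 2 (.node 1 (.leaf ⟨112, 13510735, (some false), 735, 19206215⟩) (.leaf ⟨112, 13310023, (some false), 735, 19230809⟩)) (.node 1 (.leaf ⟨112, 9056345, (some false), 735, 19288131⟩) (.leaf ⟨112, 29904967, (some true), 737, 17043521⟩))))
(.node 3 (.node 1 (.leaf ⟨112, 32125001, (some true), 737, 25442369⟩) (.node 1 (.leaf ⟨112, 13310023, (some true), 737, 17133633⟩) (.leaf ⟨112, 4544593, (some true), 737, 11343947⟩)))
(.node 2 (.node 1 (.leaf ⟨737, 17059919, (some true), 738, 17043521⟩) (.leaf ⟨738, 17059919, (some true), 739, 17043521⟩)) (.node 1 (.leaf ⟨739, 17043521, (some true), 738, 17059919⟩) (.leaf ⟨112, 13111391, none, 739, 17651797⟩)))))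
(.node 7 (.node 3 (.node 1 (.leaf ⟨739, 17043521, none, 112, 13129817⟩) (.node 1 (.leaf ⟨738, 25770069, none, 737, 11343947⟩) (.leaf ⟨738, 17043521, none, 737, 25786447⟩)))
(.node 2 (.node 1 (.leaf ⟨112, 31801425, (some true), 741, 17043521⟩) (.leaf ⟨112, 32131155, (some true), 741, 19216473⟩)) (.node 1 (.leaf ⟨112, 4808797, (some true), 741, 11087947⟩) (.leaf ⟨112, 13510735, (some true), 741, 25712715⟩))))
(.node 4 (.node 2 (.node 1 (.leaf ⟨741, 4808797, (some false), 742, 17043521⟩) (.leaf ⟨742, 11495495, (some true), 746, 17043521⟩)) (.node 1 (.leaf ⟨746, 17043521, (some true), 742, 11495495⟩) (.leaf ⟨746, 13510735, (some false), 747, 17043521⟩)))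
(.node 2 (.node 1 (.leaf ⟨747, 17043521, (some false), 746, 29761631⟩) (.leaf ⟨112, 15411291, none, 747, 17059929⟩)) (.node 1 (.leaf ⟨747, 17043521, none, 112, 31664195⟩) (.leaf ⟨746, 31936577, none, 734, 17059905⟩))))))
(.node 15 (.node 7 (.node 3 (.node 1 (.leaf ⟨746, 17043521, none, 734, 25890881⟩) (.node 1 (.leaf ⟨734, 25385043, (some true), 742, 10707013⟩) (.leaf ⟨737, 13510735, (some false), 751, 17043521⟩)))
(.node 2 (.node 1 (.leaf ⟨751, 17043521, (some true), 752, 17043521⟩) (.leaf ⟨752, 17043521, (some false), 753, 17043521⟩)) (.node 1 (.leaf ⟨753, 17043521, (some false), 752, 17127489⟩) (.leaf ⟨112, 32190553, none, 753, 17780827⟩))))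
(.node 4 (.node 2 (.node 1 (.leaf ⟨753, 17043521, none, 112, 8611907⟩) (.leaf ⟨112, 32125001, (some false), 752, 17174607⟩)) (.node 1 (.leaf ⟨114, 9056345, (some false), 767, 17043521⟩) (.leaf ⟨114, 31801425, (some false), 767, 17512513⟩)))
(.node 2 (.node 1 (.leaf ⟨114, 13310023, (some false), 767, 17780825⟩) (.leaf ⟨114, 10971209, (some false), 767, 17440853⟩)) (.node 1 (.leaf ⟨114, 19085399, (some false), 767, 17512517⟩) (.leaf ⟨114, 4808797, (some false), 767, 16984135⟩)))))
(.node 7 (.node 3 (.node 1 (.leaf ⟨767, 17070163, none, 767, 17043521⟩) (.node 1 (.leaf ⟨767, 17051739, none, 767, 17043521⟩) (.leaf ⟨767, 17043521, none, 767, 17051739⟩)))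
(.node 2 (.node 1 (.leaf ⟨767, 17043521, none, 767, 17070163⟩) (.leaf ⟨767, 19085399, (some false), 768, 17043521⟩)) (.node 1 (.leaf ⟨768, 17764437, none, 768, 17043521⟩) (.leaf ⟨768, 17698883, none, 768, 17043521⟩))))
(.node 4 (.node 2 (.node 1 (.leaf ⟨768, 17043521, none, 768, 17698883⟩) (.leaf ⟨768, 17043521, none, 768, 17764437⟩)) (.node 1 (.leaf ⟨768, 19085399, (some false), 769, 17043521⟩) (.leaf ⟨769, 17043521, (some false), 768, 19560517⟩)))
(.node 2 (.node 1 (.leaf ⟨114, 30040131, none, 769, 19664977⟩) (.leaf ⟨769, 17043521, none, 114, 13312081⟩)) (.node 1 (.leaf ⟨114, 6776923, (some false), 768, 19148887⟩) (.leaf ⟨114, 7292999, (some false), 768, 19216473⟩)))))))))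

/-- The facts. -/
def caseBFullFactsRLRR : Tab Fct :=
(.node 117 (.node 58 (.node 29 (.node 14 (.node 7 (.node 3 (.node 1 (.leaf ⟨114, 23928925, (some false), 768, 19277897⟩) (.node 1 (.leaf ⟨114, 32125001, (some false), 768, 19034183⟩) (.leaf ⟨114, 17043521, (some false), 768, 19150925⟩)))
(.node 2 (.node 1 (.leaf ⟨114, 29904967, (some false), 768, 19343435⟩) (.leaf ⟨112, 11495495, (some true), 770, 17043521⟩)) (.node 1 (.leaf ⟨770, 17059919, (some true), 771, 17043521⟩) (.leaf ⟨771, 17043521, (some true), 770, 17059919⟩))))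
(.node 3 (.node 1 (.leaf ⟨114, 31924301, none, 771, 27856965⟩) (.node 1 (.leaf ⟨771, 17043521, none, 114, 21979225⟩) (.leaf ⟨770, 8935503, none, 112, 25632849⟩)))
(.node 2 (.node 1 (.leaf ⟨770, 17043521, none, 112, 26099797⟩) (.leaf ⟨114, 29904967, (some true), 772, 17043521⟩)) (.node 1 (.leaf ⟨114, 31801425, (some true), 772, 25776195⟩) (.leaf ⟨114, 4808797, (some true), 772, 19738705⟩)))))
(.node 7 (.node 3 (.node 1 (.leaf ⟨114, 4544593, (some true), 772, 25710675⟩) (.node 1 (.leaf ⟨114, 19085399, (some true), 772, 19689537⟩) (.leaf ⟨114, 11495495, (some true), 772, 25784387⟩)))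
(.node 2 (.node 1 (.leaf ⟨114, 25385043, (some true), 772, 11300931⟩) (.leaf ⟨114, 10971209, (some true), 772, 25507913⟩)) (.node 1 (.leaf ⟨772, 25507929, none, 772, 19689537⟩) (.leaf ⟨772, 17043521, none, 772, 25718865⟩))))
(.node 4 (.node 2 (.node 1 (.leaf ⟨772, 27529303, (some false), 775, 17043521⟩) (.leaf ⟨772, 19085399, (some false), 775, 17260619⟩)) (.node 1 (.leaf ⟨772, 4808797, (some false), 775, 17770567⟩) (.leaf ⟨775, 19085399, (some true), 776, 17043521⟩)))
(.node 2 (.node 1 (.leaf ⟨776, 19085399, (some false), 777, 17043521⟩) (.leaf ⟨777, 17043521, (some false), 776, 19560517⟩)) (.node 1 (.leaf ⟨114, 13176921, none, 777, 17197131⟩) (.leaf ⟨777, 17043521, none, 114, 9009235⟩))))))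
(.node 14 (.node 7 (.node 3 (.node 1 (.leaf ⟨776, 19732547, none, 767, 16984135⟩) (.node 1 (.leaf ⟨776, 17043521, none, 767, 19032135⟩) (.leaf ⟨112, 7292999, (some false), 778, 17043521⟩)))
(.node 2 (.node 1 (.leaf ⟨778, 10971209, (some true), 779, 17043521⟩) (.leaf ⟨779, 17043521, (some true), 778, 10971209⟩)) (.node 1 (.leaf ⟨779, 13510735, (some false), 780, 17043521⟩) (.leaf ⟨780, 17043521, (some false), 779, 29761631⟩))))
(.node 3 (.node 1 (.leaf ⟨114, 4679763, none, 780, 17125449⟩) (.node 1 (.leaf ⟨780, 17043521, none, 114, 21913689⟩) (.leaf ⟨779, 25450591, none, 767, 17043521⟩)))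
(.node 2 (.node 1 (.leaf ⟨779, 17043521, none, 767, 25458765⟩) (.leaf ⟨767, 17059919, (some true), 778, 17524809⟩)) (.node 1 (.leaf ⟨772, 13510735, (some false), 781, 17043521⟩) (.leaf ⟨781, 17043521, (some false), 772, 29761631⟩)))))
(.node 7 (.node 3 (.node 1 (.leaf ⟨772, 17043521, (some false), 781, 17244241⟩) (.node 1 (.leaf ⟨781, 17043521, (some true), 782, 17043521⟩) (.leaf ⟨782, 17043521, (some true), 781, 17043521⟩)))
(.node 2 (.node 1 (.leaf ⟨782, 17043521, (some false), 783, 17043521⟩) (.leaf ⟨783, 17043521, (some false), 782, 17127489⟩)) (.node 1 (.leaf ⟨114, 13400151, none, 783, 17193035⟩) (.leaf ⟨783, 17043521, none, 114, 8874073⟩))))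
(.node 4 (.node 2 (.node 1 (.leaf ⟨782, 16988247, none, 768, 19034183⟩) (.leaf ⟨782, 17043521, none, 768, 19224657⟩)) (.node 1 (.leaf ⟨768, 17043521, (some true), 781, 19167323⟩) (.leaf ⟨768, 25385043, (some true), 781, 8990801⟩)))
(.node 2 (.node 1 (.leaf ⟨768, 17059919, (some true), 781, 19222619⟩) (.leaf ⟨768, 19085399, (some true), 781, 17657947⟩)) (.node 1 (.leaf ⟨775, 17059919, (some true), 784, 17043521⟩) (.leaf ⟨784, 25385043, (some true), 785, 17043521⟩)))))))
(.node 29 (.node 14 (.node 7 (.node 3 (.node 1 (.leaf ⟨785, 4544593, (some true), 786, 17043521⟩) (.node 1 (.leaf ⟨786, 17043521, (some true), 785, 4544593⟩) (.leaf ⟨114, 27990103, none, 786, 21114963⟩)))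
(.node 2 (.node 1 (.leaf ⟨786, 17043521, none, 114, 23668809⟩) (.leaf ⟨785, 29626459, none, 772, 25776195⟩)) (.node 1 (.leaf ⟨785, 17043521, none, 772, 21979221⟩) (.leaf ⟨775, 11495495, (some true), 787, 17043521⟩))))
(.node 3 (.node 1 (.leaf ⟨787, 17043521, (some true), 775, 11495495⟩) (.node 1 (.leaf ⟨787, 13510735, (some true), 788, 17043521⟩) (.leaf ⟨788, 17043521, (some true), 787, 13510735⟩)))
(.node 2 (.node 1 (.leaf ⟨788, 10971209, (some true), 789, 17043521⟩) (.leaf ⟨789, 17043521, (some true), 788, 10971209⟩)) (.node 1 (.leaf ⟨114, 23668809, none, 789, 6977621⟩) (.leaf ⟨789, 17043521, none, 114, 11284551⟩)))))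
(.node 7 (.node 3 (.node 1 (.leaf ⟨788, 28264539, none, 112, 10698833⟩) (.node 1 (.leaf ⟨788, 17043521, none, 112, 23926871⟩) (.leaf ⟨787, 5195847, none, 737, 17043521⟩)))
(.node 2 (.node 1 (.leaf ⟨787, 17043521, none, 737, 7225427⟩) (.leaf ⟨737, 32131155, (some true), 775, 27926605⟩)) (.node 1 (.leaf ⟨116, 17059919, (some true), 793, 17043521⟩) (.leaf ⟨116, 11495495, (some true), 793, 27791425⟩))))
(.node 4 (.node 2 (.node 1 (.leaf ⟨116, 17051731, none, 793, 17109087⟩) (.leaf ⟨793, 17043521, none, 116, 17119311⟩)) (.node 1 (.leaf ⟨217, 19085399, (some false), 798, 17043521⟩) (.leaf ⟨798, 17043521, (some false), 217, 19560517⟩)))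
(.node 2 (.node 1 (.leaf ⟨798, 17059919, (some true), 799, 17043521⟩) (.leaf ⟨799, 17043521, (some true), 798, 17059919⟩)) (.node 1 (.leaf ⟨799, 17043521, (some false), 800, 17043521⟩) (.leaf ⟨800, 17043521, (some false), 799, 17127489⟩))))))
(.node 15 (.node 7 (.node 3 (.node 1 (.leaf ⟨116, 21786699, none, 800, 16922715⟩) (.node 1 (.leaf ⟨800, 17043521, none, 116, 26171473⟩) (.leaf ⟨799, 16935007, none, 201, 17592393⟩)))
(.node 2 (.node 1 (.leaf ⟨799, 16935007, none, 148, 15689803⟩) (.leaf ⟨799, 17043521, none, 148, 29757529⟩)) (.node 1 (.leaf ⟨798, 25718861, none, 149, 17043521⟩) (.leaf ⟨798, 25718861, none, 129, 13310037⟩))))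
(.node 4 (.node 2 (.node 1 (.leaf ⟨798, 17043521, none, 129, 13588561⟩) (.leaf ⟨217, 19095617, none, 145, 17770589⟩)) (.node 1 (.leaf ⟨217, 17043521, none, 145, 19288143⟩) (.leaf ⟨148, 13527109, none, 276, 8984651⟩)))
(.node 2 (.node 1 (.leaf ⟨148, 13527109, none, 260, 25442399⟩) (.leaf ⟨260, 17043521, none, 148, 7293011⟩)) (.node 1 (.leaf ⟨148, 27529303, (some false), 363, 16988239⟩) (.leaf ⟨148, 23230539, none, 260, 29511765⟩)))))
(.node 7 (.node 3 (.node 1 (.leaf ⟨148, 23230539, none, 148, 23558219⟩) (.node 1 (.leaf ⟨148, 17043521, none, 148, 17764417⟩) (.leaf ⟨149, 17586259, none, 149, 17043521⟩)))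
(.node 2 (.node 1 (.leaf ⟨148, 23928925, (some false), 116, 21438531⟩) (.leaf ⟨129, 14831701, none, 129, 13310037⟩)) (.node 1 (.leaf ⟨129, 17043521, none, 129, 19081281⟩) (.leaf ⟨129, 10971209, (some true), 19, 12808269⟩))))
(.node 4 (.node 2 (.node 1 (.leaf ⟨129, 11495495, (some true), 130, 27883611⟩) (.leaf ⟨129, 7292999, (some false), 145, 17459295⟩)) (.node 1 (.leaf ⟨129, 32125001, (some false), 145, 17053779⟩) (.leaf ⟨88, 17717325, none, 88, 19880015⟩)))
(.node 2 (.node 1 (.leaf ⟨88, 17043521, none, 88, 19206211⟩) (.leaf ⟨469, 27881565, none, 469, 25712735⟩)) (.node 1 (.leaf ⟨88, 32125001, (some false), 474, 11106381⟩) (.leaf ⟨612, 17584193, none, 612, 17043521⟩))))))))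
(.node 59 (.node 29 (.node 14 (.node 7 (.node 3 (.node 1 (.leaf ⟨612, 17043521, none, 612, 17584193⟩) (.node 1 (.leaf ⟨469, 17043521, none, 469, 19232835⟩) (.leaf ⟨489, 11429955, none, 489, 11225163⟩)))
(.node 2 (.node 1 (.leaf ⟨489, 17043521, none, 489, 17586259⟩) (.leaf ⟨488, 17567839, none, 488, 17059919⟩)) (.node 1 (.leaf ⟨488, 17043521, none, 488, 17584209⟩) (.leaf ⟨466, 25514053, none, 466, 25516101⟩))))
(.node 3 (.node 1 (.leaf ⟨466, 17043521, none, 466, 17045569⟩) (.node 1 (.leaf ⟨485, 13588549, none, 485, 29823045⟩) (.leaf ⟨485, 17043521, none, 485, 11104321⟩)))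
(.node 2 (.node 1 (.leaf ⟨472, 10635329, none, 472, 10971209⟩) (.leaf ⟨472, 17043521, none, 472, 17586259⟩)) (.node 1 (.leaf ⟨433, 32184405, none, 433, 29511765⟩) (.leaf ⟨151, 30154845, none, 151, 31744077⟩)))))
(.node 7 (.node 3 (.node 1 (.leaf ⟨151, 17043521, none, 151, 19013709⟩) (.node 1 (.leaf ⟨588, 17700943, none, 456, 17705039⟩) (.leaf ⟨588, 17043521, none, 456, 17068097⟩)))
(.node 2 (.node 1 (.leaf ⟨589, 27547715, none, 457, 17043521⟩) (.leaf ⟨567, 25575497, none, 444, 25458765⟩)) (.node 1 (.leaf ⟨567, 17043521, none, 444, 17447005⟩) (.leaf ⟨95, 32182349, none, 85, 4991053⟩))))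
(.node 4 (.node 2 (.node 1 (.leaf ⟨95, 17043521, none, 85, 4941889⟩) (.leaf ⟨576, 25432151, none, 447, 27613249⟩)) (.node 1 (.leaf ⟨581, 11284563, none, 450, 27545675⟩) (.leaf ⟨581, 11284563, none, 151, 19755085⟩)))
(.node 2 (.node 1 (.leaf ⟨581, 17043521, none, 151, 25524317⟩) (.leaf ⟨582, 17705035, none, 129, 19560517⟩)) (.node 1 (.leaf ⟨582, 17043521, none, 129, 19343451⟩) (.leaf ⟨583, 27865179, none, 19, 12808269⟩))))))
(.node 15 (.node 7 (.node 3 (.node 1 (.leaf ⟨570, 28262483, none, 19, 12808269⟩) (.node 1 (.leaf ⟨570, 17043521, none, 19, 15542345⟩) (.leaf ⟨571, 17133657, none, 95, 17043521⟩)))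
(.node 2 (.node 1 (.leaf ⟨571, 17133657, none, 85, 4941889⟩) (.leaf ⟨571, 17043521, none, 85, 31875163⟩)) (.node 1 (.leaf ⟨620, 11081811, none, 13, 31801425⟩) (.leaf ⟨620, 17043521, none, 13, 29894723⟩))))
(.node 4 (.node 2 (.node 1 (.leaf ⟨621, 17053767, none, 96, 27619423⟩) (.leaf ⟨96, 19032149, none, 96, 27619423⟩)) (.node 1 (.leaf ⟨96, 17043521, none, 96, 4929623⟩) (.leaf ⟨96, 4808797, (some false), 615, 21575753⟩)))
(.node 2 (.node 1 (.leaf ⟨618, 17180759, none, 600, 17043521⟩) (.leaf ⟨618, 17180759, none, 96, 13586521⟩)) (.node 1 (.leaf ⟨618, 17043521, none, 96, 9271371⟩) (.leaf ⟨617, 9271361, none, 95, 11167833⟩)))))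
(.node 7 (.node 3 (.node 1 (.leaf ⟨617, 9271361, none, 85, 27881561⟩) (.node 1 (.leaf ⟨617, 17043521, none, 85, 9181259⟩) (.leaf ⟨618, 11294809, none, 13, 31801425⟩)))
(.node 2 (.node 1 (.leaf ⟨96, 25696323, none, 13, 31801425⟩) (.leaf ⟨96, 17043521, none, 13, 21831755⟩)) (.node 1 (.leaf ⟨615, 27865159, none, 80, 19812419⟩) (.leaf ⟨615, 17043521, none, 80, 8869981⟩))))
(.node 4 (.node 2 (.node 1 (.leaf ⟨614, 9121881, none, 385, 11417689⟩) (.leaf ⟨614, 9121881, none, 100, 9324635⟩)) (.node 1 (.leaf ⟨614, 17043521, none, 100, 17657923⟩) (.leaf ⟨613, 17522769, none, 85, 19560517⟩)))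
(.node 2 (.node 1 (.leaf ⟨613, 17043521, none, 85, 19230795⟩) (.leaf ⟨622, 16916547, none, 610, 8925271⟩)) (.node 1 (.leaf ⟨622, 17043521, none, 610, 4730969⟩) (.leaf ⟨623, 11016273, none, 96, 13310023⟩)))))))
(.node 29 (.node 14 (.node 7 (.node 3 (.node 1 (.leaf ⟨473, 27936857, none, 13, 11294803⟩) (.node 1 (.leaf ⟨473, 17043521, none, 13, 23668823⟩) (.leaf ⟨474, 9179219, none, 82, 25448521⟩)))
(.node 2 (.node 1 (.leaf ⟨474, 17043521, none, 82, 8941643⟩) (.leaf ⟨475, 17059917, none, 88, 17043521⟩)) (.node 1 (.leaf ⟨88, 21827655, none, 88, 17043521⟩) (.leaf ⟨88, 17043521, none, 88, 21958727⟩))))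
(.node 3 (.node 1 (.leaf ⟨474, 27883615, none, 426, 17043521⟩) (.node 1 (.leaf ⟨82, 19748943, none, 88, 19865693⟩) (.leaf ⟨88, 17043521, none, 82, 17444945⟩)))
(.node 2 (.node 1 (.leaf ⟨465, 8927313, none, 105, 27402309⟩) (.leaf ⟨469, 27596885, none, 428, 11104331⟩)) (.node 1 (.leaf ⟨612, 17528917, none, 89, 17043521⟩) (.leaf ⟨612, 17043521, none, 89, 17197131⟩)))))
(.node 7 (.node 3 (.node 1 (.leaf ⟨89, 17197131, none, 89, 17180763⟩) (.node 1 (.leaf ⟨89, 17043521, none, 89, 17059921⟩) (.leaf ⟨90, 17635409, none, 90, 17043521⟩)))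
(.node 2 (.node 1 (.leaf ⟨501, 13197401, none, 501, 15296607⟩) (.leaf ⟨509, 23275591, none, 509, 23289941⟩)) (.node 1 (.leaf ⟨509, 17043521, none, 509, 17070171⟩) (.leaf ⟨508, 17702979, none, 508, 17197121⟩))))
(.node 4 (.node 2 (.node 1 (.leaf ⟨508, 17043521, none, 508, 17586243⟩) (.leaf ⟨507, 19099719, none, 507, 19560517⟩)) (.node 1 (.leaf ⟨507, 17043521, none, 507, 17569859⟩) (.leaf ⟨514, 24070215, none, 514, 12795973⟩)))
(.node 2 (.node 1 (.leaf ⟨514, 17043521, none, 514, 13310019⟩) (.leaf ⟨511, 11231303, none, 511, 11495495⟩)) (.node 1 (.leaf ⟨511, 17043521, none, 511, 17635393⟩) (.leaf ⟨495, 27531349, none, 495, 25516101⟩))))))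
(.node 15 (.node 7 (.node 3 (.node 1 (.leaf ⟨495, 17043521, none, 495, 19232859⟩) (.node 1 (.leaf ⟨495, 19085399, (some false), 498, 17135681⟩) (.leaf ⟨501, 17043521, none, 501, 19142749⟩)))
(.node 2 (.node 1 (.leaf ⟨540, 17135705, none, 498, 25385043⟩) (.leaf ⟨540, 17043521, none, 498, 28260425⟩)) (.node 1 (.leaf ⟨498, 17059919, (some true), 541, 9269339⟩) (.leaf ⟨90, 17043521, none, 90, 17635409⟩))))
(.node 4 (.node 2 (.node 1 (.leaf ⟨91, 17569873, none, 91, 17043521⟩) (.leaf ⟨90, 23928925, (some false), 534, 23273543⟩)) (.node 1 (.leaf ⟨13, 30093385, none, 13, 15366217⟩) (.leaf ⟨13, 17043521, none, 13, 6637633⟩)))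
(.node 2 (.node 1 (.leaf ⟨85, 17659985, none, 19, 19812437⟩) (.leaf ⟨85, 17043521, none, 19, 19099725⟩)) (.node 1 (.leaf ⟨448, 17061959, none, 132, 9187393⟩) (.leaf ⟨377, 19884115, none, 108, 17043521⟩)))))
(.node 7 (.node 3 (.node 1 (.leaf ⟨377, 19884115, none, 19, 19157063⟩) (.node 1 (.leaf ⟨377, 17043521, none, 19, 17463391⟩) (.leaf ⟨388, 4671553, none, 129, 11302993⟩)))
(.node 2 (.node 1 (.leaf ⟨388, 17043521, none, 129, 26097735⟩) (.leaf ⟨380, 19081311, none, 88, 19880015⟩)) (.node 1 (.leaf ⟨380, 19081311, none, 82, 19013725⟩) (.leaf ⟨380, 17043521, none, 82, 17111107⟩))))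
(.node 4 (.node 2 (.node 1 (.leaf ⟨388, 27553857, none, 428, 9271379⟩) (.leaf ⟨391, 19732561, none, 428, 8982593⟩)) (.node 1 (.leaf ⟨428, 17043521, none, 391, 9181259⟩) (.leaf ⟨391, 17059919, (some true), 429, 11276355⟩)))
(.node 2 (.node 1 (.leaf ⟨391, 27529303, (some false), 431, 17528903⟩) (.leaf ⟨391, 11495495, (some true), 441, 27414621⟩)) (.node 1 (.leaf ⟨129, 19355743, none, 391, 27881547⟩) (.leaf ⟨391, 17043521, none, 129, 8812637⟩)))))))))

/-- The facts. -/
def caseBFullFactsRLR : Tab Fct := .node 235 caseBFullFactsRLRL caseBFullFactsRLRR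

/-- The facts. -/
def caseBFullFactsRL : Tab Fct := .node 469 caseBFullFactsRLL caseBFullFactsRLR

/-- The facts. -/
def caseBFullFactsRRLL : Tab Fct :=
(.node 117 (.node 58 (.node 29 (.node 14 (.node 7 (.node 3 (.node 1 (.leaf ⟨129, 25385043, (some true), 429, 25458769⟩) (.node 1 (.leaf ⟨129, 9056345, (some false), 431, 17135687⟩) (.leaf ⟨129, 6776923, (some false), 431, 17061957⟩)))
(.node 2 (.node 1 (.leaf ⟨129, 23928925, (some false), 431, 17715283⟩) (.leaf ⟨129, 13310023, (some false), 431, 17195091⟩)) (.node 1 (.leaf ⟨129, 32125001, (some true), 441, 11212877⟩) (.leaf ⟨129, 31801425, (some true), 441, 11210821⟩))))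
(.node 3 (.node 1 (.leaf ⟨129, 29904967, (some true), 441, 9375837⟩) (.node 1 (.leaf ⟨441, 11155535, none, 441, 11212877⟩) (.leaf ⟨441, 17043521, none, 441, 17127491⟩)))
(.node 2 (.node 1 (.leaf ⟨431, 17109085, none, 431, 17059919⟩) (.leaf ⟨431, 17043521, none, 431, 17125459⟩)) (.node 1 (.leaf ⟨438, 25442369, none, 438, 17043521⟩) (.leaf ⟨438, 17043521, none, 438, 25442369⟩)))))
(.node 7 (.node 3 (.node 1 (.leaf ⟨439, 17109057, none, 439, 17043521⟩) (.node 1 (.leaf ⟨439, 17043521, none, 439, 17109057⟩) (.leaf ⟨440, 17045571, none, 440, 17043521⟩)))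
(.node 2 (.node 1 (.leaf ⟨82, 29829189, none, 82, 31860805⟩) (.leaf ⟨82, 17043521, none, 82, 19206209⟩)) (.node 1 (.leaf ⟨105, 27666511, none, 105, 27992143⟩) (.leaf ⟨105, 17043521, none, 105, 17569857⟩))))
(.node 4 (.node 2 (.node 1 (.leaf ⟨721, 25434185, none, 721, 17043521⟩) (.leaf ⟨721, 17043521, none, 721, 25434185⟩)) (.node 1 (.leaf ⟨722, 17043527, none, 722, 17043521⟩) (.leaf ⟨722, 17043521, none, 722, 17043527⟩)))
(.node 2 (.node 1 (.leaf ⟨731, 19683411, none, 731, 19157073⟩) (.leaf ⟨731, 17043521, none, 731, 17635395⟩)) (.node 1 (.leaf ⟨732, 19208259, none, 732, 17043521⟩) (.leaf ⟨704, 15689801, none, 704, 15624265⟩))))))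
(.node 14 (.node 7 (.node 3 (.node 1 (.leaf ⟨704, 17043521, none, 704, 17109057⟩) (.node 1 (.leaf ⟨691, 17111117, none, 691, 17059919⟩) (.leaf ⟨691, 17043521, none, 691, 17127491⟩)))
(.node 2 (.node 1 (.leaf ⟨688, 17043537, none, 688, 17127489⟩) (.leaf ⟨688, 17043521, none, 688, 17127505⟩)) (.node 1 (.leaf ⟨707, 17461343, none, 707, 17447007⟩) (.leaf ⟨707, 17043521, none, 707, 17061953⟩))))
(.node 3 (.node 1 (.leaf ⟨701, 19085381, none, 701, 19085399⟩) (.node 1 (.leaf ⟨701, 17043521, none, 701, 17043537⟩) (.leaf ⟨702, 17068097, none, 702, 17043521⟩)))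
(.node 2 (.node 1 (.leaf ⟨683, 25776209, none, 683, 25768017⟩) (.leaf ⟨683, 17043521, none, 683, 17059905⟩)) (.node 1 (.leaf ⟨695, 10960983, none, 695, 10709085⟩) (.leaf ⟨695, 17043521, none, 695, 17649745⟩)))))
(.node 7 (.node 3 (.node 1 (.leaf ⟨694, 21571677, none, 694, 23685197⟩) (.node 1 (.leaf ⟨694, 17043521, none, 694, 19150923⟩) (.leaf ⟨104, 4477009, none, 104, 4544593⟩)))
(.node 2 (.node 1 (.leaf ⟨104, 17043521, none, 104, 17111105⟩) (.leaf ⟨25, 6907997, none, 25, 23685197⟩)) (.node 1 (.leaf ⟨25, 17043521, none, 25, 27529291⟩) (.leaf ⟨672, 17043547, none, 7, 14905419⟩))))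
(.node 4 (.node 2 (.node 1 (.leaf ⟨672, 17043521, none, 7, 14905425⟩) (.leaf ⟨673, 17125451, none, 22, 25915481⟩)) (.node 1 (.leaf ⟨642, 28014675, none, 22, 25915481⟩) (.leaf ⟨642, 17043521, none, 22, 19142735⟩)))
(.node 2 (.node 1 (.leaf ⟨101, 19224657, none, 50, 17043521⟩) (.leaf ⟨101, 19224657, none, 26, 31942731⟩)) (.node 1 (.leaf ⟨101, 17043521, none, 26, 15624283⟩) (.leaf ⟨184, 17135699, none, 179, 17180757⟩)))))))
(.node 29 (.node 14 (.node 7 (.node 3 (.node 1 (.leaf ⟨192, 13510725, none, 110, 17043521⟩) (.node 1 (.leaf ⟨659, 9252937, none, 116, 10711111⟩) (.leaf ⟨659, 17043521, none, 116, 19626055⟩)))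
(.node 2 (.node 1 (.leaf ⟨116, 23928925, (some false), 675, 17242191⟩) (.leaf ⟨192, 13510725, none, 26, 31858773⟩)) (.node 1 (.leaf ⟨192, 17043521, none, 26, 11016281⟩) (.leaf ⟨558, 17178719, none, 179, 17043521⟩))))
(.node 3 (.node 1 (.leaf ⟨561, 23414871, none, 116, 25628765⟩) (.node 1 (.leaf ⟨561, 17043521, none, 116, 13520969⟩) (.leaf ⟨116, 32125001, (some true), 555, 9377881⟩)))
(.node 2 (.node 1 (.leaf ⟨558, 17043521, none, 179, 16920667⟩) (.leaf ⟨559, 11368521, none, 187, 17043521⟩)) (.node 1 (.leaf ⟨556, 7020635, none, 171, 17522755⟩) (.leaf ⟨556, 17043521, none, 171, 25456733⟩)))))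
(.node 7 (.node 3 (.node 1 (.leaf ⟨555, 17000535, none, 181, 17260627⟩) (.node 1 (.leaf ⟨555, 17043521, none, 181, 17766475⟩) (.leaf ⟨554, 6895683, none, 180, 19560517⟩)))
(.node 2 (.node 1 (.leaf ⟨181, 17059919, (some true), 561, 9009233⟩) (.leaf ⟨554, 17043521, none, 180, 9189457⟩)) (.node 1 (.leaf ⟨92, 29691973, none, 25, 31801425⟩) (.leaf ⟨564, 19560525, none, 675, 17461335⟩))))
(.node 4 (.node 2 (.node 1 (.leaf ⟨675, 17043521, none, 564, 19142751⟩) (.leaf ⟨92, 17043521, none, 25, 19167323⟩)) (.node 1 (.leaf ⟨93, 19224657, none, 13, 17442887⟩) (.leaf ⟨25, 29904967, (some false), 547, 17592385⟩)))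
(.node 2 (.node 1 (.leaf ⟨548, 19140691, none, 104, 17043521⟩) (.leaf ⟨548, 17043521, none, 104, 19140689⟩)) (.node 1 (.leaf ⟨547, 19748957, none, 699, 23275603⟩) (.leaf ⟨699, 17043521, none, 547, 28196943⟩))))))
(.node 15 (.node 7 (.node 3 (.node 1 (.leaf ⟨547, 11495495, (some true), 698, 27478091⟩) (.node 1 (.leaf ⟨547, 19085399, (some true), 698, 17262681⟩) (.leaf ⟨547, 25385043, (some true), 698, 9388121⟩)))
(.node 2 (.node 1 (.leaf ⟨547, 10971209, (some true), 698, 27740251⟩) (.leaf ⟨79, 19208281, none, 13, 17442887⟩)) (.node 1 (.leaf ⟨79, 17043521, none, 13, 19538013⟩) (.leaf ⟨372, 17657939, none, 85, 11302979⟩))))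
(.node 4 (.node 2 (.node 1 (.leaf ⟨372, 17657939, none, 19, 9318469⟩) (.leaf ⟨372, 17043521, none, 19, 27414621⟩)) (.node 1 (.leaf ⟨373, 17111105, none, 141, 17043521⟩) (.leaf ⟨19, 10704963, none, 141, 17043521⟩)))
(.node 2 (.node 1 (.leaf ⟨141, 17043521, none, 19, 10704963⟩) (.leaf ⟨152, 8798293, none, 129, 9009241⟩)) (.node 1 (.leaf ⟨152, 17043521, none, 129, 16988233⟩) (.leaf ⟨151, 8548437, none, 429, 25458769⟩)))))
(.node 7 (.node 3 (.node 1 (.leaf ⟨151, 8548437, none, 129, 9384001⟩) (.node 1 (.leaf ⟨151, 17043521, none, 129, 16998485⟩) (.leaf ⟨472, 17457233, none, 431, 17715283⟩)))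
(.node 2 (.node 1 (.leaf ⟨573, 19740745, none, 130, 17043521⟩) (.leaf ⟨138, 17446997, none, 129, 19216469⟩)) (.node 1 (.leaf ⟨138, 17043521, none, 129, 19796033⟩) (.leaf ⟨594, 7026765, none, 441, 9375837⟩))))
(.node 4 (.node 2 (.node 1 (.leaf ⟨594, 17043521, none, 441, 21907545⟩) (.leaf ⟨441, 32131155, (some true), 593, 9068613⟩)) (.node 1 (.leaf ⟨441, 32125001, (some true), 593, 9136207⟩) (.leaf ⟨472, 17043521, none, 431, 17702979⟩)))
(.node 2 (.node 1 (.leaf ⟨485, 17641545, none, 438, 17043521⟩) (.leaf ⟨485, 17043521, none, 438, 17659995⟩)) (.node 1 (.leaf ⟨486, 25759833, none, 439, 17043521⟩) (.leaf ⟨466, 17442887, none, 439, 17043521⟩))))))))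
(.node 58 (.node 29 (.node 14 (.node 7 (.node 3 (.node 1 (.leaf ⟨466, 17043521, none, 439, 16998491⟩) (.node 1 (.leaf ⟨439, 10971209, (some true), 465, 25522255⟩) (.leaf ⟨184, 17043521, none, 179, 17506399⟩)))
(.node 2 (.node 1 (.leaf ⟨185, 25442371, none, 187, 17043521⟩) (.leaf ⟨171, 17526855, none, 171, 17522755⟩)) (.node 1 (.leaf ⟨171, 17043521, none, 171, 17070171⟩) (.leaf ⟨181, 16998491, none, 181, 17260627⟩))))
(.node 3 (.node 1 (.leaf ⟨181, 17043521, none, 181, 17698901⟩) (.node 1 (.leaf ⟨180, 19556417, none, 180, 19560517⟩) (.leaf ⟨181, 25385043, (some true), 561, 19159115⟩)))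
(.node 2 (.node 1 (.leaf ⟨181, 17043521, (some true), 561, 25759811⟩) (.leaf ⟨180, 17043521, none, 180, 17070171⟩)) (.node 1 (.leaf ⟨675, 28266583, none, 675, 25630807⟩) (.leaf ⟨564, 26171461, none, 564, 27725893⟩)))))
(.node 7 (.node 3 (.node 1 (.leaf ⟨564, 17043521, none, 564, 19556417⟩) (.node 1 (.leaf ⟨564, 10971209, (some true), 558, 27531357⟩) (.leaf ⟨448, 17061959, none, 26, 4927583⟩)))
(.node 2 (.node 1 (.leaf ⟨448, 17043521, none, 26, 23230553⟩) (.leaf ⟨447, 27613253, none, 121, 27408477⟩)) (.node 1 (.leaf ⟨447, 27613253, none, 22, 25315417⟩) (.leaf ⟨447, 17043521, none, 22, 19884109⟩))))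
(.node 4 (.node 2 (.node 1 (.leaf ⟨469, 27596885, none, 129, 25385039⟩) (.leaf ⟨469, 17043521, none, 129, 19034193⟩)) (.node 1 (.leaf ⟨482, 17705051, none, 431, 17135687⟩) (.leaf ⟨482, 17043521, none, 431, 16918601⟩)))
(.node 2 (.node 1 (.leaf ⟨483, 25718873, none, 436, 17043521⟩) (.leaf ⟨462, 25915475, none, 423, 25712713⟩)) (.node 1 (.leaf ⟨462, 17043521, none, 423, 17768531⟩) (.leaf ⟨423, 19085399, (some true), 471, 19294275⟩))))))
(.node 14 (.node 7 (.node 3 (.node 1 (.leaf ⟨465, 17043521, none, 105, 28000351⟩) (.node 1 (.leaf ⟨105, 10971209, (some true), 466, 9181275⟩) (.leaf ⟨471, 17659995, none, 432, 17043521⟩)))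
(.node 2 (.node 1 (.leaf ⟨471, 17043521, none, 432, 17641545⟩) (.leaf ⟨576, 25432151, none, 22, 25315421⟩)) (.node 1 (.leaf ⟨576, 17043521, none, 22, 16934987⟩) (.leaf ⟨593, 17459287, none, 135, 17256533⟩))))
(.node 3 (.node 1 (.leaf ⟨593, 17043521, none, 135, 17178691⟩) (.node 1 (.leaf ⟨135, 19085399, (some true), 594, 9246793⟩) (.leaf ⟨135, 25385043, (some true), 594, 17635411⟩)))
(.node 2 (.node 1 (.leaf ⟨135, 11495495, (some true), 594, 8925259⟩) (.leaf ⟨135, 10971209, (some true), 594, 17045593⟩)) (.node 1 (.leaf ⟨564, 25385043, (some true), 801, 17043521⟩) (.leaf ⟨801, 17043521, (some true), 564, 25385043⟩)))))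
(.node 7 (.node 3 (.node 1 (.leaf ⟨801, 19232833, none, 801, 17043521⟩) (.node 1 (.leaf ⟨801, 17043521, none, 801, 19232833⟩) (.leaf ⟨801, 4544593, (some true), 802, 17043521⟩)))
(.node 2 (.node 1 (.leaf ⟨802, 17043521, (some true), 801, 4544593⟩) (.leaf ⟨801, 31801425, (some true), 802, 11030619⟩)) (.node 1 (.leaf ⟨802, 13510735, (some true), 803, 17043521⟩) (.leaf ⟨803, 17043521, (some true), 802, 13510735⟩))))
(.node 4 (.node 2 (.node 1 (.leaf ⟨116, 28260443, none, 803, 19540033⟩) (.leaf ⟨803, 17043521, none, 116, 23492695⟩)) (.node 1 (.leaf ⟨116, 13310023, (some true), 802, 29829215⟩) (.leaf ⟨181, 4808797, (some false), 804, 17043521⟩)))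
(.node 2 (.node 1 (.leaf ⟨181, 27529303, (some false), 804, 17578079⟩) (.leaf ⟨181, 6776923, (some false), 804, 17059927⟩)) (.node 1 (.leaf ⟨804, 17059917, none, 804, 17059927⟩) (.leaf ⟨804, 17043521, none, 804, 17043547⟩)))))))
(.node 29 (.node 14 (.node 7 (.node 3 (.node 1 (.leaf ⟨804, 17043521, (some true), 805, 17043521⟩) (.node 1 (.leaf ⟨805, 17051713, none, 805, 17043521⟩) (.leaf ⟨805, 17043521, none, 805, 17051713⟩)))
(.node 2 (.node 1 (.leaf ⟨805, 11495495, (some true), 806, 17043521⟩) (.leaf ⟨806, 17043521, (some true), 805, 11495495⟩)) (.node 1 (.leaf ⟨805, 19085399, (some true), 806, 9271379⟩) (.leaf ⟨806, 32131155, (some true), 807, 17043521⟩))))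
(.node 3 (.node 1 (.leaf ⟨807, 17043521, (some true), 806, 32131155⟩) (.node 1 (.leaf ⟨116, 7229515, none, 807, 23208017⟩) (.leaf ⟨807, 17043521, none, 116, 11225181⟩)))
(.node 2 (.node 1 (.leaf ⟨806, 15671377, none, 793, 27791425⟩) (.leaf ⟨806, 15671377, none, 116, 27875415⟩)) (.node 1 (.leaf ⟨806, 17043521, none, 116, 32321621⟩) (.leaf ⟨805, 19081301, none, 167, 9252941⟩)))))
(.node 7 (.node 3 (.node 1 (.leaf ⟨805, 17043521, none, 167, 7024725⟩) (.node 1 (.leaf ⟨167, 32131155, (some true), 806, 11090003⟩) (.leaf ⟨167, 15607883, none, 167, 9252941⟩)))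
(.node 2 (.node 1 (.leaf ⟨167, 17043521, none, 167, 7293015⟩) (.leaf ⟨167, 31801425, (some false), 358, 17633359⟩)) (.node 1 (.leaf ⟨126, 31801425, (some false), 808, 17043521⟩) (.leaf ⟨126, 10971209, (some false), 808, 17178711⟩))))
(.node 4 (.node 2 (.node 1 (.leaf ⟨126, 13510735, (some false), 808, 17643615⟩) (.leaf ⟨808, 19085399, (some false), 809, 17043521⟩)) (.node 1 (.leaf ⟨809, 17043521, (some false), 808, 19560517⟩) (.leaf ⟨809, 19085399, (some false), 810, 17043521⟩)))
(.node 2 (.node 1 (.leaf ⟨810, 17043521, (some false), 809, 19560517⟩) (.leaf ⟨126, 27738185, none, 810, 19140695⟩)) (.node 1 (.leaf ⟨810, 17043521, none, 126, 25643101⟩) (.leaf ⟨126, 7292999, (some false), 809, 19812419⟩))))))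
(.node 15 (.node 7 (.node 3 (.node 1 (.leaf ⟨126, 32125001, (some false), 809, 19013697⟩) (.node 1 (.leaf ⟨126, 27529303, (some false), 809, 19085379⟩) (.leaf ⟨126, 4808797, (some false), 809, 19730521⟩)))
(.node 2 (.node 1 (.leaf ⟨126, 32125001, (some true), 811, 17043521⟩) (.leaf ⟨126, 4808797, (some true), 811, 9261137⟩)) (.node 1 (.leaf ⟨126, 31801425, (some true), 811, 27611219⟩) (.leaf ⟨126, 13310023, (some true), 811, 11079761⟩))))
(.node 4 (.node 2 (.node 1 (.leaf ⟨145, 17043521, (some true), 814, 17043521⟩) (.leaf ⟨814, 17059919, (some true), 815, 17043521⟩)) (.node 1 (.leaf ⟨815, 17043521, (some true), 814, 17059919⟩) (.leaf ⟨126, 27883599, none, 815, 27596887⟩)))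
(.node 2 (.node 1 (.leaf ⟨815, 17043521, none, 126, 17651795⟩) (.leaf ⟨814, 17651805, none, 145, 17567837⟩)) (.node 1 (.leaf ⟨814, 17043521, none, 145, 17127489⟩) (.leaf ⟨811, 13510735, (some false), 816, 17043521⟩)))))
(.node 7 (.node 3 (.node 1 (.leaf ⟨126, 29904967, (some true), 821, 17043521⟩) (.node 1 (.leaf ⟨126, 13510735, (some true), 821, 17127489⟩) (.leaf ⟨126, 4544593, (some true), 821, 19167297⟩)))
(.node 2 (.node 1 (.leaf ⟨126, 32131155, (some true), 821, 19159113⟩) (.leaf ⟨821, 19085399, (some false), 822, 17043521⟩)) (.node 1 (.leaf ⟨822, 10971209, (some true), 823, 17043521⟩) (.leaf ⟨823, 13510735, (some false), 824, 17043521⟩))))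
(.node 4 (.node 2 (.node 1 (.leaf ⟨824, 17043521, (some false), 823, 29761631⟩) (.leaf ⟨126, 32051277, none, 824, 17133651⟩)) (.node 1 (.leaf ⟨824, 17043521, none, 126, 6912071⟩) (.leaf ⟨823, 27621445, none, 809, 19730521⟩)))
(.node 2 (.node 1 (.leaf ⟨823, 17043521, none, 809, 27807815⟩) (.leaf ⟨821, 27529303, (some false), 825, 17043521⟩)) (.node 1 (.leaf ⟨825, 17043521, (some false), 821, 25516101⟩) (.leaf ⟨825, 19085399, (some true), 826, 17043521⟩)))))))))

/-- The facts. -/
def caseBFullFactsRRLR : Tab Fct :=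
(.node 117 (.node 58 (.node 29 (.node 14 (.node 7 (.node 3 (.node 1 (.leaf ⟨826, 17043521, (some true), 825, 19085399⟩) (.node 1 (.leaf ⟨826, 19085399, (some false), 827, 17043521⟩) (.leaf ⟨827, 17043521, (some false), 826, 19560517⟩)))
(.node 2 (.node 1 (.leaf ⟨126, 23273539, none, 827, 17195097⟩) (.leaf ⟨827, 17043521, none, 126, 15683655⟩)) (.node 1 (.leaf ⟨826, 19861595, none, 808, 17643615⟩) (.leaf ⟨826, 17043521, none, 808, 19294277⟩))))
(.node 3 (.node 1 (.leaf ⟨808, 11495495, (some true), 825, 26171477⟩) (.node 1 (.leaf ⟨822, 19085399, (some true), 828, 17043521⟩) (.leaf ⟨828, 17043521, (some true), 822, 19085399⟩)))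
(.node 2 (.node 1 (.leaf ⟨828, 11495495, (some true), 829, 17043521⟩) (.leaf ⟨829, 17043521, (some true), 828, 11495495⟩)) (.node 1 (.leaf ⟨829, 13310023, (some true), 830, 17043521⟩) (.leaf ⟨830, 17043521, (some true), 829, 13310023⟩)))))
(.node 7 (.node 3 (.node 1 (.leaf ⟨126, 4941901, none, 830, 4747335⟩) (.node 1 (.leaf ⟨830, 17043521, none, 126, 17651807⟩) (.leaf ⟨829, 14899269, none, 145, 17043535⟩)))
(.node 2 (.node 1 (.leaf ⟨829, 17043521, none, 145, 13379675⟩) (.leaf ⟨145, 31801425, (some true), 828, 25839693⟩)) (.node 1 (.leaf ⟨816, 11495495, (some true), 831, 17043521⟩) (.leaf ⟨831, 32131155, (some true), 832, 17043521⟩))))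
(.node 4 (.node 2 (.node 1 (.leaf ⟨832, 17043521, (some true), 831, 32131155⟩) (.leaf ⟨832, 32131155, (some true), 833, 17043521⟩)) (.node 1 (.leaf ⟨833, 17043521, (some true), 832, 32131155⟩) (.leaf ⟨126, 31602773, none, 833, 21176385⟩)))
(.node 2 (.node 1 (.leaf ⟨833, 17043521, none, 126, 23408721⟩) (.leaf ⟨832, 7020633, none, 821, 19167297⟩)) (.node 1 (.leaf ⟨832, 17043521, none, 821, 27406429⟩) (.leaf ⟨821, 19085399, (some true), 831, 29761619⟩))))))
(.node 14 (.node 7 (.node 3 (.node 1 (.leaf ⟨441, 23928925, (some false), 841, 17043521⟩) (.node 1 (.leaf ⟨841, 17043521, (some false), 441, 4991053⟩) (.leaf ⟨441, 6776923, (some false), 841, 17766481⟩)))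
(.node 2 (.node 1 (.leaf ⟨841, 10971209, (some true), 842, 17043521⟩) (.leaf ⟨842, 17043521, (some true), 841, 10971209⟩)) (.node 1 (.leaf ⟨842, 13510735, (some false), 843, 17043521⟩) (.leaf ⟨843, 17043521, (some false), 842, 29761631⟩))))
(.node 3 (.node 1 (.leaf ⟨129, 6574159, none, 843, 17051713⟩) (.node 1 (.leaf ⟨843, 17043521, none, 129, 14970951⟩) (.leaf ⟨842, 7022677, none, 145, 17053779⟩)))
(.node 2 (.node 1 (.leaf ⟨842, 17043521, none, 145, 25385041⟩) (.leaf ⟨841, 10905673, none, 165, 17043521⟩)) (.node 1 (.leaf ⟨841, 10905673, none, 67, 15671377⟩) (.leaf ⟨841, 17043521, none, 67, 11487303⟩)))))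
(.node 7 (.node 3 (.node 1 (.leaf ⟨441, 30156877, none, 167, 17576023⟩) (.node 1 (.leaf ⟨441, 17043521, none, 167, 14973003⟩) (.leaf ⟨167, 19085399, (some true), 593, 19015775⟩)))
(.node 2 (.node 1 (.leaf ⟨167, 31801425, (some true), 593, 19292245⟩) (.leaf ⟨841, 16998489, none, 358, 17633359⟩)) (.node 1 (.leaf ⟨67, 4606019, none, 167, 19222601⟩) (.leaf ⟨167, 17043521, none, 67, 24002633⟩))))
(.node 4 (.node 2 (.node 1 (.leaf ⟨593, 19294293, none, 145, 19099723⟩) (.leaf ⟨135, 19607639, none, 145, 19099723⟩)) (.node 1 (.leaf ⟨145, 17043521, none, 135, 17651781⟩) (.leaf ⟨135, 13310023, (some true), 269, 17059915⟩)))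
(.node 2 (.node 1 (.leaf ⟨135, 32131155, (some true), 269, 11294809⟩) (.leaf ⟨135, 32125001, (some true), 269, 19689539⟩)) (.node 1 (.leaf ⟨135, 23928925, (some false), 309, 17440835⟩) (.leaf ⟨135, 4808797, (some true), 317, 25825345⟩)))))))
(.node 29 (.node 14 (.node 7 (.node 3 (.node 1 (.leaf ⟨814, 17643603, none, 211, 17043521⟩) (.node 1 (.leaf ⟨828, 28198999, none, 269, 19689539⟩) (.leaf ⟨828, 28198999, none, 252, 19664967⟩)))
(.node 2 (.node 1 (.leaf ⟨828, 17043521, none, 252, 4810823⟩) (.leaf ⟨252, 4808797, (some true), 822, 19814495⟩)) (.node 1 (.leaf ⟨252, 32131155, (some true), 822, 11147357⟩) (.leaf ⟨135, 17119311, none, 134, 17635401⟩))))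
(.node 3 (.node 1 (.leaf ⟨135, 17043521, none, 134, 17578063⟩) (.node 1 (.leaf ⟨594, 25505865, none, 148, 27539523⟩) (.leaf ⟨134, 4808797, (some true), 269, 8984641⟩)))
(.node 2 (.node 1 (.leaf ⟨134, 31801425, (some true), 269, 11300953⟩) (.leaf ⟨134, 29904967, (some true), 269, 25720915⟩)) (.node 1 (.leaf ⟨134, 4544593, (some true), 269, 9205833⟩) (.leaf ⟨134, 31801425, (some false), 309, 17135695⟩)))))
(.node 7 (.node 3 (.node 1 (.leaf ⟨134, 13310023, (some false), 309, 17567821⟩) (.node 1 (.leaf ⟨134, 10971209, (some false), 309, 17260637⟩) (.leaf ⟨134, 9056345, (some false), 309, 17780805⟩)))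
(.node 2 (.node 1 (.leaf ⟨134, 13510735, (some true), 317, 27750481⟩) (.leaf ⟨134, 13310023, (some true), 317, 19560513⟩)) (.node 1 (.leaf ⟨134, 32125001, (some true), 317, 17700953⟩) (.leaf ⟨134, 32131155, (some true), 317, 9121859⟩))))
(.node 4 (.node 2 (.node 1 (.leaf ⟨67, 23402585, none, 148, 27539523⟩) (.leaf ⟨148, 17043521, none, 67, 23408721⟩)) (.node 1 (.leaf ⟨116, 15470669, none, 167, 17576023⟩) (.leaf ⟨116, 15470669, none, 67, 31604815⟩)))
(.node 2 (.node 1 (.leaf ⟨116, 17043521, none, 67, 14841923⟩) (.leaf ⟨67, 19085399, (some true), 802, 29845597⟩)) (.node 1 (.leaf ⟨802, 15624285, none, 802, 29845597⟩) (.leaf ⟨802, 17043521, none, 802, 8917057⟩))))))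
(.node 15 (.node 7 (.node 3 (.node 1 (.leaf ⟨801, 6649939, none, 801, 4544593⟩) (.node 1 (.leaf ⟨801, 17043521, none, 801, 19150915⟩) (.leaf ⟨564, 26097747, none, 564, 25385043⟩)))
(.node 2 (.node 1 (.leaf ⟨564, 17043521, none, 564, 17649729⟩) (.leaf ⟨558, 27816031, none, 558, 27531357⟩)) (.node 1 (.leaf ⟨179, 28192855, none, 179, 27473997⟩) (.leaf ⟨179, 17043521, none, 179, 17569873⟩))))
(.node 4 (.node 2 (.node 1 (.leaf ⟨187, 17567809, none, 187, 17043521⟩) (.leaf ⟨171, 17506371, none, 171, 17522755⟩)) (.node 1 (.leaf ⟨171, 17043521, none, 171, 17059905⟩) (.leaf ⟨181, 17260611, none, 181, 17260627⟩)))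
(.node 2 (.node 1 (.leaf ⟨181, 17043521, none, 181, 17043537⟩) (.leaf ⟨180, 19560519, none, 180, 19560517⟩)) (.node 1 (.leaf ⟨180, 17043521, none, 180, 17043523⟩) (.leaf ⟨25, 29704273, none, 25, 31801425⟩)))))
(.node 7 (.node 3 (.node 1 (.leaf ⟨25, 17043521, none, 25, 19140673⟩) (.node 1 (.leaf ⟨547, 17051713, none, 547, 17592385⟩) (.leaf ⟨547, 17043521, none, 547, 17584193⟩)))
(.node 2 (.node 1 (.leaf ⟨698, 27666497, none, 698, 27740251⟩) (.leaf ⟨698, 17043521, none, 698, 17127505⟩)) (.node 1 (.leaf ⟨105, 19085397, none, 105, 19560517⟩) (.leaf ⟨105, 17043521, none, 105, 17586259⟩))))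
(.node 4 (.node 2 (.node 1 (.leaf ⟨466, 19691611, none, 466, 9181275⟩) (.leaf ⟨439, 19802195, none, 439, 8536137⟩)) (.node 1 (.leaf ⟨439, 17043521, none, 439, 7227479⟩) (.leaf ⟨438, 6912095, none, 438, 23670877⟩)))
(.node 2 (.node 1 (.leaf ⟨438, 17043521, none, 438, 27537475⟩) (.leaf ⟨431, 25653313, none, 431, 25915457⟩)) (.node 1 (.leaf ⟨431, 17043521, none, 431, 17567809⟩) (.leaf ⟨436, 17043545, none, 436, 17043521⟩))))))))
(.node 59 (.node 29 (.node 14 (.node 7 (.node 3 (.node 1 (.leaf ⟨423, 25712721, none, 423, 25712713⟩) (.node 1 (.leaf ⟨423, 17043521, none, 423, 17043537⟩) (.leaf ⟨82, 29511767, none, 82, 29511765⟩)))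
(.node 2 (.node 1 (.leaf ⟨471, 19884099, none, 471, 19294275⟩) (.leaf ⟨432, 19337309, none, 432, 19814479⟩)) (.node 1 (.leaf ⟨432, 17043521, none, 432, 17584209⟩) (.leaf ⟨725, 25630811, none, 725, 25825369⟩))))
(.node 3 (.node 1 (.leaf ⟨725, 17043521, none, 725, 17635395⟩) (.node 1 (.leaf ⟨704, 10905689, none, 704, 9396299⟩) (.leaf ⟨704, 17043521, none, 704, 19863639⟩)))
(.node 2 (.node 1 (.leaf ⟨704, 19085399, (some true), 691, 17576031⟩) (.leaf ⟨82, 17043521, none, 82, 17043523⟩)) (.node 1 (.leaf ⟨428, 8984641, none, 428, 8982593⟩) (.leaf ⟨129, 28260445, none, 129, 28192863⟩)))))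
(.node 7 (.node 3 (.node 1 (.leaf ⟨129, 17043521, none, 129, 17111107⟩) (.node 1 (.leaf ⟨130, 27791425, none, 130, 27883611⟩) (.leaf ⟨129, 25778271, none, 129, 25704543⟩)))
(.node 2 (.node 1 (.leaf ⟨129, 17043521, none, 129, 17125441⟩) (.leaf ⟨431, 17258565, none, 431, 17061957⟩)) (.node 1 (.leaf ⟨431, 17043521, none, 431, 17698881⟩) (.leaf ⟨431, 17043521, (some true), 438, 11090001⟩))))
(.node 4 (.node 2 (.node 1 (.leaf ⟨431, 19085399, (some true), 441, 19673171⟩) (.leaf ⟨431, 19019861, none, 73, 17043521⟩)) (.node 1 (.leaf ⟨431, 19019861, none, 53, 19558465⟩) (.leaf ⟨431, 17043521, none, 53, 17649755⟩)))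
(.node 2 (.node 1 (.leaf ⟨438, 25778257, none, 58, 17043521⟩) (.leaf ⟨438, 25778257, none, 42, 21854277⟩)) (.node 1 (.leaf ⟨438, 17043521, none, 42, 6912071⟩) (.leaf ⟨439, 8992843, none, 43, 17043521⟩))))))
(.node 15 (.node 7 (.node 3 (.node 1 (.leaf ⟨439, 8992843, none, 10, 8616019⟩) (.node 1 (.leaf ⟨439, 17043521, none, 10, 17447003⟩) (.leaf ⟨465, 17053775, none, 61, 17043521⟩)))
(.node 2 (.node 1 (.leaf ⟨105, 28196955, none, 10, 17657933⟩) (.leaf ⟨105, 17043521, none, 10, 4726877⟩)) (.node 1 (.leaf ⟨721, 19730521, none, 7, 25915481⟩) (.leaf ⟨721, 17043521, none, 7, 11155521⟩))))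
(.node 4 (.node 2 (.node 1 (.leaf ⟨722, 17786957, none, 45, 16934977⟩) (.leaf ⟨722, 17043521, none, 45, 17174619⟩)) (.node 1 (.leaf ⟨731, 17578067, none, 53, 19294295⟩) (.leaf ⟨731, 17043521, none, 53, 19081311⟩)))
(.node 2 (.node 1 (.leaf ⟨732, 11294785, none, 58, 17043521⟩) (.leaf ⟨704, 12730457, none, 42, 21854277⟩)) (.node 1 (.leaf ⟨704, 17043521, none, 42, 13588565⟩) (.leaf ⟨42, 13510735, (some true), 715, 27553875⟩)))))
(.node 7 (.node 3 (.node 1 (.leaf ⟨691, 11089989, none, 39, 10971209⟩) (.node 1 (.leaf ⟨691, 17043521, none, 39, 16934983⟩) (.leaf ⟨688, 17578063, none, 10, 14958673⟩)))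
(.node 2 (.node 1 (.leaf ⟨688, 17043521, none, 10, 4997205⟩) (.leaf ⟨707, 17176661, none, 42, 15605835⟩)) (.node 1 (.leaf ⟨707, 17043521, none, 42, 11286619⟩) (.leaf ⟨701, 10713183, none, 39, 10971209⟩))))
(.node 4 (.node 2 (.node 1 (.leaf ⟨701, 17043521, none, 39, 17643607⟩) (.leaf ⟨702, 27545683, none, 40, 17043521⟩)) (.node 1 (.leaf ⟨683, 19689545, none, 29, 19556437⟩) (.leaf ⟨683, 17043521, none, 29, 17770565⟩)))
(.node 2 (.node 1 (.leaf ⟨695, 17784927, none, 39, 17004615⟩) (.leaf ⟨695, 17043521, none, 39, 17178693⟩)) (.node 1 (.leaf ⟨694, 9007181, none, 10, 14958673⟩) (.leaf ⟨694, 17043521, none, 10, 13117509⟩)))))))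
(.node 29 (.node 14 (.node 7 (.node 3 (.node 1 (.leaf ⟨104, 30224451, none, 11, 17043521⟩) (.node 1 (.leaf ⟨104, 30224451, none, 4, 19861575⟩) (.leaf ⟨104, 17043521, none, 4, 23685211⟩)))
(.node 2 (.node 1 (.leaf ⟨699, 7039045, none, 7, 17246281⟩) (.leaf ⟨547, 19208267, none, 7, 17246281⟩)) (.node 1 (.leaf ⟨547, 17043521, none, 7, 19341379⟩) (.leaf ⟨92, 27801689, none, 32, 17043521⟩))))
(.node 3 (.node 1 (.leaf ⟨25, 25696337, none, 7, 19554375⟩) (.node 1 (.leaf ⟨25, 17043521, none, 7, 10960973⟩) (.leaf ⟨180, 19746881, none, 10, 17043521⟩)))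
(.node 2 (.node 1 (.leaf ⟨180, 17043521, none, 10, 19683393⟩) (.leaf ⟨675, 19271765, none, 42, 7282779⟩)) (.node 1 (.leaf ⟨564, 17176653, none, 42, 7282779⟩) (.leaf ⟨564, 17043521, none, 42, 5060693⟩)))))
(.node 7 (.node 3 (.node 1 (.leaf ⟨558, 25507909, none, 53, 25442395⟩) (.node 1 (.leaf ⟨801, 27603027, none, 715, 27553875⟩) (.leaf ⟨801, 27603027, none, 42, 13592645⟩)))
(.node 2 (.node 1 (.leaf ⟨801, 17043521, none, 42, 5193813⟩) (.leaf ⟨802, 27859025, none, 261, 32067661⟩)) (.node 1 (.leaf ⟨802, 27859025, none, 67, 9197653⟩) (.leaf ⟨802, 17043521, none, 67, 25770055⟩))))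
(.node 4 (.node 2 (.node 1 (.leaf ⟨179, 25628757, none, 53, 25442395⟩) (.leaf ⟨179, 17043521, none, 53, 17244233⟩)) (.node 1 (.leaf ⟨26, 21504093, none, 22, 4991053⟩) (.leaf ⟨187, 25768001, none, 54, 17043521⟩)))
(.node 2 (.node 1 (.leaf ⟨171, 25897027, none, 45, 25507905⟩) (.leaf ⟨171, 17043521, none, 45, 16932931⟩)) (.node 1 (.leaf ⟨181, 25315419, none, 286, 17043521⟩) (.leaf ⟨286, 17043521, none, 181, 25315419⟩))))))
(.node 15 (.node 7 (.node 3 (.node 1 (.leaf ⟨26, 17043521, none, 22, 25565257⟩) (.node 1 (.leaf ⟨19, 19619907, none, 19, 17043521⟩) (.leaf ⟨19, 17043521, none, 19, 19619907⟩)))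
(.node 2 (.node 1 (.leaf ⟨108, 17700935, none, 18, 25516101⟩) (.leaf ⟨126, 17174593, none, 126, 16937045⟩)) (.node 1 (.leaf ⟨126, 17043521, none, 126, 16932949⟩) (.leaf ⟨126, 25385043, (some true), 135, 11022425⟩))))
(.node 4 (.node 2 (.node 1 (.leaf ⟨809, 19341395, none, 809, 19013697⟩) (.leaf ⟨821, 19738705, none, 811, 9261137⟩)) (.node 1 (.leaf ⟨821, 17043521, none, 811, 25442369⟩) (.leaf ⟨811, 13510735, (some true), 831, 4925507⟩)))
(.node 2 (.node 1 (.leaf ⟨809, 17043521, none, 809, 17240145⟩) (.leaf ⟨808, 19537991, none, 808, 19560517⟩)) (.node 1 (.leaf ⟨808, 17043521, none, 808, 17053763⟩) (.leaf ⟨808, 19085399, (some true), 825, 19796039⟩)))))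
(.node 7 (.node 3 (.node 1 (.leaf ⟨19, 19814467, none, 18, 25516101⟩) (.node 1 (.leaf ⟨19, 17043521, none, 18, 29757527⟩) (.leaf ⟨126, 17119297, none, 114, 11343963⟩)))
(.node 2 (.node 1 (.leaf ⟨129, 19689537, none, 26, 4941897⟩) (.leaf ⟨129, 19689537, none, 22, 19292255⟩)) (.node 1 (.leaf ⟨129, 17043521, none, 22, 17506375⟩) (.leaf ⟨88, 10909789, none, 23, 17043521⟩))))
(.node 4 (.node 2 (.node 1 (.leaf ⟨82, 11159639, none, 7, 32002127⟩) (.leaf ⟨82, 17043521, none, 7, 25370709⟩)) (.node 1 (.leaf ⟨89, 17764445, none, 32, 17043521⟩) (.leaf ⟨423, 16939079, none, 45, 17719363⟩)))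
(.node 2 (.node 1 (.leaf ⟨423, 17043521, none, 45, 16988233⟩) (.leaf ⟨471, 25897051, none, 286, 17043521⟩)) (.node 1 (.leaf ⟨432, 25587789, none, 181, 25315419⟩) (.leaf ⟨432, 17043521, none, 181, 17447003⟩)))))))))

/-- The facts. -/
def caseBFullFactsRRL : Tab Fct := .node 234 caseBFullFactsRRLL caseBFullFactsRRLR

/-- The facts. -/
def caseBFullFactsRRRL : Tab Fct :=
(.node 117 (.node 58 (.node 29 (.node 14 (.node 7 (.node 3 (.node 1 (.leaf ⟨725, 17764419, none, 561, 25759811⟩) (.node 1 (.leaf ⟨725, 17764419, none, 67, 17700947⟩) (.leaf ⟨725, 17043521, none, 67, 17111121⟩)))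
(.node 2 (.node 1 (.leaf ⟨726, 17053763, none, 68, 17043521⟩) (.leaf ⟨181, 10637407, none, 64, 11427907⟩)) (.node 1 (.leaf ⟨181, 17043521, none, 64, 17528919⟩) (.leaf ⟨64, 17043521, (some true), 182, 25434185⟩))))
(.node 3 (.node 1 (.leaf ⟨89, 17764445, none, 7, 19554375⟩) (.node 1 (.leaf ⟨89, 17043521, none, 7, 19544141⟩) (.leaf ⟨509, 27619415, none, 4, 23685197⟩)))
(.node 2 (.node 1 (.leaf ⟨509, 17043521, none, 4, 13451345⟩) (.leaf ⟨508, 27404371, none, 10, 13453389⟩)) (.node 1 (.leaf ⟨508, 17043521, none, 10, 15226969⟩) (.leaf ⟨507, 19034205, none, 36, 17594445⟩)))))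
(.node 7 (.node 3 (.node 1 (.leaf ⟨507, 19034205, none, 10, 4814943⟩) (.node 1 (.leaf ⟨507, 17043521, none, 10, 8919107⟩) (.leaf ⟨514, 21178447, none, 42, 7282779⟩)))
(.node 2 (.node 1 (.leaf ⟨514, 17043521, none, 42, 9050193⟩) (.leaf ⟨511, 11223133, none, 53, 11022417⟩)) (.node 1 (.leaf ⟨511, 17043521, none, 53, 16937053⟩) (.leaf ⟨495, 4929627, none, 22, 4991053⟩))))
(.node 4 (.node 2 (.node 1 (.leaf ⟨495, 17043521, none, 22, 17190985⟩) (.leaf ⟨498, 17586263, none, 50, 17043521⟩)) (.node 1 (.leaf ⟨498, 17586263, none, 22, 17457221⟩) (.leaf ⟨498, 17043521, none, 22, 16982099⟩)))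
(.node 2 (.node 1 (.leaf ⟨541, 19165249, none, 19, 27793497⟩) (.leaf ⟨524, 21446725, none, 18, 13310023⟩)) (.node 1 (.leaf ⟨524, 17043521, none, 18, 11098179⟩) (.leaf ⟨529, 16920647, none, 19, 17440843⟩))))))
(.node 14 (.node 7 (.node 3 (.node 1 (.leaf ⟨529, 16920647, none, 18, 13508689⟩) (.node 1 (.leaf ⟨529, 17043521, none, 18, 4862043⟩) (.leaf ⟨530, 27793491, none, 1, 13310023⟩)))
(.node 2 (.node 1 (.leaf ⟨530, 17043521, none, 1, 29757519⟩) (.leaf ⟨531, 17522769, none, 13, 17526867⟩)) (.node 1 (.leaf ⟨90, 14901325, none, 13, 17526867⟩) (.leaf ⟨90, 17043521, none, 13, 30029901⟩))))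
(.node 3 (.node 1 (.leaf ⟨534, 27603013, none, 79, 17043521⟩) (.node 1 (.leaf ⟨534, 27603013, none, 13, 19538013⟩) (.leaf ⟨534, 17043521, none, 13, 27994195⟩)))
(.node 2 (.node 1 (.leaf ⟨533, 27994189, none, 51, 17043521⟩) (.leaf ⟨533, 27994189, none, 7, 19357789⟩)) (.node 1 (.leaf ⟨533, 17043521, none, 7, 23939157⟩) (.leaf ⟨534, 27809859, none, 8, 17043521⟩)))))
(.node 7 (.node 3 (.node 1 (.leaf ⟨13, 8865883, none, 1, 25315409⟩) (.node 1 (.leaf ⟨13, 17043521, none, 1, 23924819⟩) (.leaf ⟨126, 17043521, none, 114, 9189465⟩)))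
(.node 2 (.node 1 (.leaf ⟨114, 27529303, (some false), 127, 17659973⟩) (.leaf ⟨135, 17657947, none, 112, 17786969⟩)) (.node 1 (.leaf ⟨134, 17109087, none, 112, 17786969⟩) (.leaf ⟨134, 17043521, none, 112, 17719367⟩))))
(.node 4 (.node 2 (.node 1 (.leaf ⟨269, 19730513, none, 737, 17043521⟩) (.leaf ⟨309, 17643591, none, 735, 19148887⟩)) (.node 1 (.leaf ⟨317, 27988035, none, 741, 17043521⟩) (.leaf ⟨273, 25831509, none, 741, 17043521⟩)))
(.node 2 (.node 1 (.leaf ⟨741, 17043521, none, 273, 25831509⟩) (.leaf ⟨273, 31801425, (some false), 742, 17721411⟩)) (.node 1 (.leaf ⟨273, 13510735, (some false), 742, 17584213⟩) (.leaf ⟨112, 4548681, none, 735, 19148887⟩)))))))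
(.node 29 (.node 14 (.node 7 (.node 3 (.node 1 (.leaf ⟨735, 17043521, none, 112, 12935253⟩) (.node 1 (.leaf ⟨734, 19755099, none, 734, 17586267⟩) (.leaf ⟨734, 17043521, none, 734, 19232833⟩)))
(.node 2 (.node 1 (.leaf ⟨734, 10971209, (some true), 742, 27664469⟩) (.leaf ⟨252, 19757135, none, 737, 17043521⟩)) (.node 1 (.leaf ⟨737, 17043521, none, 252, 19757135⟩) (.leaf ⟨738, 19755073, none, 273, 17641557⟩))))
(.node 3 (.node 1 (.leaf ⟨252, 4808797, (some false), 751, 16984151⟩) (.node 1 (.leaf ⟨775, 19867735, none, 822, 19814495⟩) (.leaf ⟨822, 17043521, none, 775, 17117263⟩)))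
(.node 2 (.node 1 (.leaf ⟨823, 11300937, none, 776, 17043521⟩) (.leaf ⟨809, 17127511, none, 767, 19032135⟩)) (.node 1 (.leaf ⟨809, 17043521, none, 767, 19619921⟩) (.leaf ⟨808, 19605585, none, 768, 17043521⟩)))))
(.node 7 (.node 3 (.node 1 (.leaf ⟨808, 17043521, none, 768, 19095635⟩) (.node 1 (.leaf ⟨825, 17240149, none, 781, 17657947⟩) (.leaf ⟨825, 17043521, none, 781, 17721417⟩)))
(.node 2 (.node 1 (.leaf ⟨821, 29843551, none, 772, 29761631⟩) (.leaf ⟨811, 19353695, none, 772, 29761631⟩)) (.node 1 (.leaf ⟨811, 17043521, none, 772, 25522241⟩) (.leaf ⟨816, 17721437, none, 781, 17244241⟩))))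
(.node 4 (.node 2 (.node 1 (.leaf ⟨772, 11495495, (some true), 831, 29567041⟩) (.leaf ⟨772, 29904967, (some true), 831, 13590611⟩)) (.node 1 (.leaf ⟨772, 32131155, (some true), 831, 31596633⟩) (.leaf ⟨816, 17043521, none, 781, 17651801⟩)))
(.node 2 (.node 1 (.leaf ⟨781, 10971209, (some true), 831, 11096137⟩) (.leaf ⟨252, 11350081, none, 273, 17641557⟩)) (.node 1 (.leaf ⟨273, 17043521, none, 252, 25432143⟩) (.leaf ⟨252, 31801425, (some false), 742, 17715295⟩))))))
(.node 15 (.node 7 (.node 3 (.node 1 (.leaf ⟨742, 17719389, none, 42, 23685197⟩) (.node 1 (.leaf ⟨742, 17043521, none, 42, 32053329⟩) (.leaf ⟨746, 25432145, none, 53, 11081811⟩)))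
(.node 2 (.node 1 (.leaf ⟨734, 17764433, none, 53, 11081811⟩) (.leaf ⟨734, 17043521, none, 53, 29956163⟩)) (.node 1 (.leaf ⟨742, 25577541, none, 315, 27605063⟩) (.leaf ⟨42, 5062749, none, 315, 27605063⟩))))
(.node 4 (.node 2 (.node 1 (.leaf ⟨315, 17043521, none, 42, 13131857⟩) (.leaf ⟨366, 27865179, none, 39, 10969155⟩)) (.node 1 (.leaf ⟨366, 17043521, none, 39, 27478099⟩) (.leaf ⟨367, 25507915, none, 236, 10641481⟩)))
(.node 2 (.node 1 (.leaf ⟨67, 11483217, none, 236, 10641481⟩) (.leaf ⟨236, 17043521, none, 67, 17260613⟩)) (.node 1 (.leaf ⟨260, 16918605, none, 349, 17043521⟩) (.leaf ⟨67, 26163287, none, 349, 17043521⟩)))))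
(.node 7 (.node 3 (.node 1 (.leaf ⟨349, 17043521, none, 67, 26163287⟩) (.node 1 (.leaf ⟨352, 27881539, none, 260, 9377883⟩) (.leaf ⟨352, 27881539, none, 67, 13131861⟩)))
(.node 2 (.node 1 (.leaf ⟨352, 17043521, none, 67, 15026271⟩) (.leaf ⟨353, 11098201, none, 262, 9181275⟩)) (.node 1 (.leaf ⟨336, 5062731, none, 42, 8798277⟩) (.leaf ⟨336, 17043521, none, 42, 15667293⟩))))
(.node 4 (.node 2 (.node 1 (.leaf ⟨355, 13195341, none, 715, 27553875⟩) (.leaf ⟨355, 13195341, none, 42, 13592645⟩)) (.node 1 (.leaf ⟨355, 17043521, none, 42, 17584221⟩) (.leaf ⟨340, 8607825, none, 76, 25694297⟩)))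
(.node 2 (.node 1 (.leaf ⟨340, 8607825, none, 42, 4616281⟩) (.leaf ⟨340, 17043521, none, 42, 11360337⟩)) (.node 1 (.leaf ⟨341, 17059923, none, 43, 17043521⟩) (.leaf ⟨341, 17059923, none, 10, 8616019⟩))))))))
(.node 59 (.node 29 (.node 14 (.node 7 (.node 3 (.node 1 (.leaf ⟨341, 17043521, none, 10, 9123905⟩) (.node 1 (.leaf ⟨342, 17127517, none, 39, 17641557⟩) (.leaf ⟨64, 21588045, none, 39, 17641557⟩)))
(.node 2 (.node 1 (.leaf ⟨64, 17043521, none, 39, 10639431⟩) (.leaf ⟨10, 7036995, none, 227, 17043521⟩)) (.node 1 (.leaf ⟨182, 19206225, none, 40, 17043521⟩) (.leaf ⟨45, 25903173, none, 29, 19556437⟩))))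
(.node 3 (.node 1 (.leaf ⟨45, 17043521, none, 29, 6637637⟩) (.node 1 (.leaf ⟨289, 17594457, none, 39, 10901591⟩) (.leaf ⟨289, 17043521, none, 39, 28012629⟩)))
(.node 2 (.node 1 (.leaf ⟨295, 17191003, none, 228, 17526861⟩) (.leaf ⟨295, 17043521, none, 228, 16998471⟩)) (.node 1 (.leaf ⟨296, 11032665, none, 229, 17043521⟩) (.leaf ⟨280, 19085399, none, 220, 19691607⟩)))))
(.node 7 (.node 3 (.node 1 (.leaf ⟨280, 17043521, none, 220, 17782849⟩) (.node 1 (.leaf ⟨292, 25456713, none, 233, 25634883⟩) (.leaf ⟨292, 17043521, none, 233, 17770571⟩)))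
(.node 2 (.node 1 (.leaf ⟨53, 7163993, none, 225, 19560517⟩) (.leaf ⟨225, 17043521, none, 53, 26157127⟩)) (.node 1 (.leaf ⟨233, 17244251, none, 311, 17043521⟩) (.leaf ⟨233, 17244251, none, 53, 19865671⟩))))
(.node 4 (.node 2 (.node 1 (.leaf ⟨233, 17043521, none, 53, 19664987⟩) (.leaf ⟨234, 19165251, none, 54, 17043521⟩)) (.node 1 (.leaf ⟨220, 27994189, none, 29, 12871759⟩) (.leaf ⟨220, 17043521, none, 29, 25378883⟩)))
(.node 2 (.node 1 (.leaf ⟨221, 17651777, none, 221, 19748937⟩) (.leaf ⟨228, 9113685, none, 39, 25376855⟩)) (.node 1 (.leaf ⟨233, 25378881, none, 225, 11341905⟩) (.leaf ⟨53, 28262493, none, 53, 17524823⟩))))))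
(.node 15 (.node 7 (.node 3 (.node 1 (.leaf ⟨53, 17043521, none, 53, 5193813⟩) (.node 1 (.leaf ⟨298, 17786961, none, 22, 4991053⟩) (.leaf ⟨314, 19748939, none, 314, 17641547⟩)))
(.node 2 (.node 1 (.leaf ⟨252, 13523037, none, 252, 23212103⟩) (.leaf ⟨252, 17043521, none, 252, 5193813⟩)) (.node 1 (.leaf ⟨822, 25825357, none, 268, 17068109⟩) (.leaf ⟨252, 9056345, (some false), 751, 17586261⟩))))
(.node 4 (.node 2 (.node 1 (.leaf ⟨252, 29904967, (some false), 751, 16922717⟩) (.leaf ⟨775, 25903199, none, 112, 30021711⟩)) (.node 1 (.leaf ⟨775, 17043521, none, 112, 31797317⟩) (.leaf ⟨784, 17068121, none, 737, 11343947⟩)))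
(.node 2 (.node 1 (.leaf ⟨784, 17068121, none, 252, 8998997⟩) (.leaf ⟨784, 17043521, none, 252, 8990805⟩)) (.node 1 (.leaf ⟨785, 11106395, none, 822, 19814495⟩) (.leaf ⟨772, 21127247, none, 112, 5132381⟩)))))
(.node 7 (.node 3 (.node 1 (.leaf ⟨772, 17043521, none, 112, 8798299⟩) (.node 1 (.leaf ⟨112, 10971209, (some false), 781, 17719377⟩) (.leaf ⟨112, 31801425, (some false), 781, 17659979⟩)))
(.node 2 (.node 1 (.leaf ⟨831, 4857929, none, 737, 25442369⟩) (.leaf ⟨831, 4857929, none, 252, 27881541⟩)) (.node 1 (.leaf ⟨831, 17043521, none, 252, 32321621⟩) (.leaf ⟨832, 8917073, none, 268, 17068109⟩))))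
(.node 4 (.node 2 (.node 1 (.leaf ⟨112, 6776915, none, 112, 30021711⟩) (.leaf ⟨112, 17043521, none, 112, 21381205⟩)) (.node 1 (.leaf ⟨781, 17721439, none, 781, 17719377⟩) (.leaf ⟨781, 17043521, none, 781, 17045595⟩)))
(.node 2 (.node 1 (.leaf ⟨782, 17051715, none, 782, 17043521⟩) (.leaf ⟨768, 19232851, none, 768, 19224657⟩)) (.node 1 (.leaf ⟨768, 17043521, none, 768, 17053763⟩) (.leaf ⟨769, 17240145, none, 769, 17043521⟩)))))))
(.node 29 (.node 14 (.node 7 (.node 3 (.node 1 (.leaf ⟨768, 11495495, (some true), 781, 27621451⟩) (.node 1 (.leaf ⟨781, 27603035, none, 781, 27621451⟩) (.leaf ⟨781, 17043521, none, 781, 17070169⟩)))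
(.node 2 (.node 1 (.leaf ⟨781, 19085399, (some true), 831, 9271363⟩) (.leaf ⟨781, 25385043, (some true), 831, 25784387⟩)) (.node 1 (.leaf ⟨114, 11221057, none, 114, 13312081⟩) (.leaf ⟨114, 17043521, none, 114, 6572127⟩))))
(.node 3 (.node 1 (.leaf ⟨127, 17780813, none, 767, 17780825⟩) (.node 1 (.leaf ⟨114, 6973519, none, 767, 17780825⟩) (.leaf ⟨767, 17043521, none, 114, 23228487⟩)))
(.node 2 (.node 1 (.leaf ⟨768, 17649735, none, 115, 17043521⟩) (.leaf ⟨778, 27738187, none, 112, 25313363⟩)) (.node 1 (.leaf ⟨778, 17043521, none, 112, 19796051⟩) (.leaf ⟨768, 17649735, none, 18, 26093633⟩)))))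
(.node 7 (.node 3 (.node 1 (.leaf ⟨768, 17043521, none, 18, 11493463⟩) (.node 1 (.leaf ⟨781, 25702483, none, 26, 14829643⟩) (.leaf ⟨781, 25702483, none, 22, 11223119⟩)))
(.node 2 (.node 1 (.leaf ⟨781, 17043521, none, 22, 27992141⟩) (.leaf ⟨831, 11341889, none, 158, 19222617⟩)) (.node 1 (.leaf ⟨252, 23689295, none, 67, 8603735⟩) (.leaf ⟨252, 17043521, none, 67, 21831775⟩))))
(.node 4 (.node 2 (.node 1 (.leaf ⟨253, 11276369, none, 68, 17043521⟩) (.leaf ⟨742, 17768537, none, 361, 15296595⟩)) (.node 1 (.leaf ⟨751, 17524823, none, 167, 16988243⟩) (.leaf ⟨751, 17524823, none, 67, 30163029⟩)))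
(.node 2 (.node 1 (.leaf ⟨751, 17043521, none, 67, 29573187⟩) (.leaf ⟨752, 19675211, none, 145, 17004609⟩)) (.node 1 (.leaf ⟨752, 19675211, none, 112, 17256541⟩) (.leaf ⟨752, 17043521, none, 112, 19019853⟩))))))
(.node 15 (.node 7 (.node 3 (.node 1 (.leaf ⟨42, 4794441, none, 361, 15296595⟩) (.node 1 (.leaf ⟨361, 17043521, none, 42, 31733829⟩) (.leaf ⟨242, 19560533, none, 39, 32260185⟩)))
(.node 2 (.node 1 (.leaf ⟨242, 17043521, none, 39, 5130325⟩) (.leaf ⟨298, 17043521, none, 22, 12800075⟩)) (.node 1 (.leaf ⟨228, 17043521, none, 39, 31676483⟩) (.leaf ⟨221, 17043521, none, 221, 19140699⟩))))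
(.node 4 (.node 2 (.node 1 (.leaf ⟨226, 19673157, none, 226, 17592397⟩) (.leaf ⟨226, 17043521, none, 226, 19159131⟩)) (.node 1 (.leaf ⟨226, 25385043, (some true), 236, 11096153⟩) (.leaf ⟨226, 11495495, (some true), 236, 25497681⟩)))
(.node 2 (.node 1 (.leaf ⟨226, 25577557, none, 22, 23666763⟩) (.leaf ⟨226, 17043521, none, 22, 27416653⟩)) (.node 1 (.leaf ⟨231, 19232843, none, 23, 17043521⟩) (.leaf ⟨221, 17659999, none, 7, 32002127⟩)))))
(.node 7 (.node 3 (.node 1 (.leaf ⟨221, 17043521, none, 7, 4747345⟩) (.node 1 (.leaf ⟨227, 17043521, none, 10, 7036995⟩) (.leaf ⟨1, 32125001, (some false), 1, 10903643⟩)))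
(.node 2 (.node 1 (.leaf ⟨1, 10971209, (some false), 1, 14839873⟩) (.leaf ⟨1, 4808797, (some false), 1, 6574147⟩)) (.node 1 (.leaf ⟨1, 23928925, (some false), 1, 21764177⟩) (.leaf ⟨1, 29904967, (some false), 1, 27664453⟩))))
(.node 4 (.node 2 (.node 1 (.leaf ⟨1, 13310023, (some false), 1, 26093655⟩) (.leaf ⟨1, 13510735, (some false), 1, 25569361⟩)) (.node 1 (.leaf ⟨1, 7292999, (some false), 1, 23859289⟩) (.leaf ⟨1, 27529303, (some false), 1, 12744783⟩)))
(.node 2 (.node 1 (.leaf ⟨1, 19085399, (some false), 1, 19560531⟩) (.leaf ⟨1, 31801425, (some false), 1, 11427915⟩)) (.node 1 (.leaf ⟨1, 9056345, (some false), 1, 32190531⟩) (.leaf ⟨1, 6776923, (some false), 1, 23924819⟩)))))))))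

/-- The facts. -/
def caseBFullFactsRRRR : Tab Fct :=
(.node 117 (.node 58 (.node 29 (.node 14 (.node 7 (.node 3 (.node 1 (.leaf ⟨4, 17059919, (some true), 4, 11368527⟩) (.node 1 (.leaf ⟨7, 32125001, (some false), 7, 10960973⟩) (.leaf ⟨7, 10971209, (some false), 7, 15482947⟩)))
(.node 2 (.node 1 (.leaf ⟨7, 4808797, (some false), 29, 6637637⟩) (.leaf ⟨7, 23928925, (some false), 29, 21973079⟩)) (.node 1 (.leaf ⟨7, 29904967, (some false), 29, 28264539⟩) (.leaf ⟨7, 13310023, (some false), 29, 25380955⟩))))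
(.node 3 (.node 1 (.leaf ⟨7, 13510735, (some false), 29, 25380933⟩) (.node 1 (.leaf ⟨7, 7292999, (some false), 7, 23543877⟩) (.leaf ⟨7, 27529303, (some false), 29, 12929101⟩)))
(.node 2 (.node 1 (.leaf ⟨7, 19085399, (some false), 7, 19554375⟩) (.leaf ⟨7, 31801425, (some false), 7, 11419739⟩)) (.node 1 (.leaf ⟨7, 9056345, (some false), 29, 32262231⟩) (.leaf ⟨7, 6776923, (some false), 29, 24004693⟩)))))
(.node 7 (.node 3 (.node 1 (.leaf ⟨7, 10971209, (some true), 7, 25643083⟩) (.node 1 (.leaf ⟨7, 11495495, (some true), 1, 25315409⟩) (.leaf ⟨10, 17043521, (some false), 39, 14968919⟩)))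
(.node 2 (.node 1 (.leaf ⟨10, 32125001, (some false), 39, 4483155⟩) (.leaf ⟨10, 10971209, (some false), 39, 8812619⟩)) (.node 1 (.leaf ⟨10, 4808797, (some false), 10, 15274067⟩) (.leaf ⟨10, 29904967, (some false), 10, 4814943⟩))))
(.node 4 (.node 2 (.node 1 (.leaf ⟨10, 13510735, (some false), 39, 10639431⟩) (.leaf ⟨10, 27529303, (some false), 39, 14968899⟩)) (.node 1 (.leaf ⟨10, 19085399, (some false), 39, 6778973⟩) (.leaf ⟨10, 9056345, (some false), 39, 4991041⟩)))
(.node 2 (.node 1 (.leaf ⟨10, 6776923, (some false), 39, 9320521⟩) (.leaf ⟨10, 4808797, (some true), 4, 19861575⟩)) (.node 1 (.leaf ⟨10, 29904967, (some true), 10, 11079765⟩) (.leaf ⟨10, 17059919, (some true), 10, 17657933⟩))))))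
(.node 14 (.node 7 (.node 3 (.node 1 (.leaf ⟨10, 31801425, (some true), 10, 21774425⟩) (.node 1 (.leaf ⟨18, 17043521, (some false), 18, 13508689⟩) (.leaf ⟨18, 4808797, (some false), 18, 4864095⟩)))
(.node 2 (.node 1 (.leaf ⟨18, 29904967, (some false), 18, 11366469⟩) (.leaf ⟨18, 13510735, (some false), 18, 11343937⟩)) (.node 1 (.leaf ⟨18, 27529303, (some false), 18, 29757527⟩) (.leaf ⟨18, 19085399, (some false), 18, 7022657⟩))))
(.node 3 (.node 1 (.leaf ⟨18, 32125001, (some true), 22, 25837655⟩) (.node 1 (.leaf ⟨18, 10971209, (some true), 22, 27402333⟩) (.leaf ⟨18, 4808797, (some true), 22, 19097687⟩)))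
(.node 2 (.node 1 (.leaf ⟨18, 29904967, (some true), 22, 17705037⟩) (.leaf ⟨18, 13310023, (some true), 22, 11223119⟩)) (.node 1 (.leaf ⟨18, 13510735, (some true), 22, 19292247⟩) (.leaf ⟨18, 17059919, (some true), 18, 17586269⟩)))))
(.node 7 (.node 3 (.node 1 (.leaf ⟨18, 19085399, (some true), 22, 19292255⟩) (.node 1 (.leaf ⟨18, 31801425, (some true), 22, 27936861⟩) (.leaf ⟨18, 25385043, (some true), 22, 8872023⟩)))
(.node 2 (.node 1 (.leaf ⟨18, 32131155, (some true), 22, 26157127⟩) (.leaf ⟨18, 11495495, (some true), 22, 25313351⟩)) (.node 1 (.leaf ⟨18, 4544593, (some true), 22, 27934797⟩) (.leaf ⟨22, 17043521, (some false), 22, 16939083⟩))))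
(.node 4 (.node 2 (.node 1 (.leaf ⟨22, 32125001, (some false), 112, 17246283⟩) (.leaf ⟨22, 10971209, (some false), 112, 17512535⟩)) (.node 1 (.leaf ⟨22, 4808797, (some false), 112, 17193049⟩) (.leaf ⟨22, 29904967, (some false), 112, 17442911⟩)))
(.node 2 (.node 1 (.leaf ⟨22, 13510735, (some false), 112, 16982083⟩) (.leaf ⟨22, 7292999, (some false), 112, 17717341⟩)) (.node 1 (.leaf ⟨22, 27529303, (some false), 112, 17657943⟩) (.leaf ⟨22, 19085399, (some false), 22, 17457221⟩)))))))
(.node 29 (.node 14 (.node 7 (.node 3 (.node 1 (.leaf ⟨22, 31801425, (some false), 112, 17442909⟩) (.node 1 (.leaf ⟨22, 17043521, (some true), 18, 29757527⟩) (.leaf ⟨22, 32125001, (some true), 67, 8603735⟩)))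
(.node 2 (.node 1 (.leaf ⟨22, 10971209, (some true), 22, 25712725⟩) (.leaf ⟨22, 4808797, (some true), 67, 25307221⟩)) (.node 1 (.leaf ⟨22, 29904967, (some true), 67, 10971215⟩) (.leaf ⟨22, 13310023, (some true), 67, 17195087⟩))))
(.node 3 (.node 1 (.leaf ⟨22, 13510735, (some true), 67, 9134167⟩) (.node 1 (.leaf ⟨22, 17059919, (some true), 22, 19232837⟩) (.leaf ⟨22, 19085399, (some true), 22, 19290183⟩)))
(.node 2 (.node 1 (.leaf ⟨22, 31801425, (some true), 67, 11157599⟩) (.leaf ⟨22, 25385043, (some true), 7, 32002127⟩)) (.node 1 (.leaf ⟨22, 32131155, (some true), 67, 8800349⟩) (.leaf ⟨22, 11495495, (some true), 18, 13310023⟩)))))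
(.node 7 (.node 3 (.node 1 (.leaf ⟨22, 4544593, (some true), 67, 8865879⟩) (.node 1 (.leaf ⟨29, 32125001, (some false), 7, 11089989⟩) (.leaf ⟨29, 10971209, (some false), 29, 14958669⟩)))
(.node 2 (.node 1 (.leaf ⟨29, 4808797, (some false), 29, 6635587⟩) (.leaf ⟨29, 23928925, (some false), 7, 21588049⟩)) (.node 1 (.leaf ⟨29, 29904967, (some false), 7, 27873363⟩) (.leaf ⟨29, 13310023, (some false), 29, 25378883⟩))))
(.node 4 (.node 2 (.node 1 (.leaf ⟨29, 13510735, (some false), 7, 25759835⟩) (.leaf ⟨29, 7292999, (some false), 7, 23689307⟩)) (.node 1 (.leaf ⟨29, 27529303, (some false), 29, 12730457⟩) (.leaf ⟨29, 19085399, (some false), 29, 19232849⟩)))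
(.node 2 (.node 1 (.leaf ⟨29, 31801425, (some false), 29, 11419743⟩) (.leaf ⟨29, 9056345, (some false), 29, 32325713⟩)) (.node 1 (.leaf ⟨29, 6776923, (some false), 7, 23666781⟩) (.leaf ⟨29, 32125001, (some true), 53, 8536151⟩))))))
(.node 15 (.node 7 (.node 3 (.node 1 (.leaf ⟨29, 4808797, (some true), 53, 28199007⟩) (.node 1 (.leaf ⟨29, 29904967, (some true), 53, 26157127⟩) (.leaf ⟨29, 13310023, (some true), 53, 9128031⟩)))
(.node 2 (.node 1 (.leaf ⟨29, 13510735, (some true), 53, 17524823⟩) (.leaf ⟨29, 31801425, (some true), 53, 10903629⟩)) (.node 1 (.leaf ⟨29, 32131155, (some true), 53, 26165343⟩) (.leaf ⟨29, 4544593, (some true), 53, 16916573⟩))))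
(.node 4 (.node 2 (.node 1 (.leaf ⟨39, 32125001, (some false), 39, 13453401⟩) (.leaf ⟨39, 10971209, (some false), 39, 28264523⟩)) (.node 1 (.leaf ⟨39, 4808797, (some false), 39, 25905245⟩) (.leaf ⟨39, 23928925, (some false), 10, 7036995⟩)))
(.node 2 (.node 1 (.leaf ⟨39, 29904967, (some false), 39, 23414871⟩) (.leaf ⟨39, 13310023, (some false), 39, 26163279⟩)) (.node 1 (.leaf ⟨39, 13510735, (some false), 39, 4474961⟩) (.leaf ⟨39, 7292999, (some false), 39, 8603743⟩)))))
(.node 7 (.node 3 (.node 1 (.leaf ⟨39, 27529303, (some false), 39, 5130325⟩) (.node 1 (.leaf ⟨39, 19085399, (some false), 39, 19095625⟩) (.leaf ⟨39, 31801425, (some false), 39, 23939157⟩)))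
(.node 2 (.node 1 (.leaf ⟨39, 9056345, (some false), 39, 31676483⟩) (.leaf ⟨39, 6776923, (some false), 10, 4874325⟩)) (.node 1 (.leaf ⟨39, 32125001, (some true), 67, 8804425⟩) (.leaf ⟨39, 4808797, (some true), 67, 27725897⟩))))
(.node 4 (.node 2 (.node 1 (.leaf ⟨39, 29904967, (some true), 67, 9386051⟩) (.leaf ⟨39, 13310023, (some true), 67, 19624017⟩)) (.node 1 (.leaf ⟨39, 13510735, (some true), 67, 10647617⟩) (.leaf ⟨39, 19085399, (some true), 29, 19556437⟩)))
(.node 2 (.node 1 (.leaf ⟨39, 31801425, (some true), 67, 11483217⟩) (.leaf ⟨39, 25385043, (some true), 39, 10637377⟩)) (.node 1 (.leaf ⟨39, 32131155, (some true), 67, 8810561⟩) (.leaf ⟨39, 4544593, (some true), 67, 8802379⟩))))))))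
(.node 59 (.node 29 (.node 14 (.node 7 (.node 3 (.node 1 (.leaf ⟨42, 17043521, (some false), 67, 30156865⟩) (.node 1 (.leaf ⟨42, 32125001, (some false), 67, 31610951⟩) (.leaf ⟨42, 10971209, (some false), 67, 23865427⟩)))
(.node 2 (.node 1 (.leaf ⟨42, 4808797, (some false), 67, 21831775⟩) (.leaf ⟨42, 23928925, (some false), 67, 8542301⟩)) (.node 1 (.leaf ⟨42, 29904967, (some false), 67, 25653343⟩) (.leaf ⟨42, 13310023, (some false), 67, 30156877⟩))))
(.node 3 (.node 1 (.leaf ⟨42, 13510735, (some false), 42, 13508681⟩) (.node 1 (.leaf ⟨42, 27529303, (some false), 42, 21127233⟩) (.leaf ⟨42, 19085399, (some false), 67, 4681813⟩)))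
(.node 2 (.node 1 (.leaf ⟨42, 32125001, (some true), 42, 5132353⟩) (.leaf ⟨42, 13510735, (some true), 42, 13592645⟩)) (.node 1 (.leaf ⟨42, 17059919, (some true), 42, 4616281⟩) (.leaf ⟨42, 19085399, (some true), 67, 9197653⟩)))))
(.node 7 (.node 3 (.node 1 (.leaf ⟨42, 31801425, (some true), 67, 19230797⟩) (.node 1 (.leaf ⟨42, 32131155, (some true), 10, 8616019⟩) (.leaf ⟨42, 11495495, (some true), 67, 8992847⟩)))
(.node 2 (.node 1 (.leaf ⟨42, 4544593, (some true), 67, 8917061⟩) (.leaf ⟨53, 32125001, (some false), 53, 19343431⟩)) (.node 1 (.leaf ⟨53, 10971209, (some false), 22, 12800075⟩) (.leaf ⟨53, 4808797, (some false), 112, 27750487⟩))))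
(.node 4 (.node 2 (.node 1 (.leaf ⟨53, 23928925, (some false), 112, 10909771⟩) (.leaf ⟨53, 29904967, (some false), 112, 4618307⟩)) (.node 1 (.leaf ⟨53, 13310023, (some false), 112, 24000583⟩) (.leaf ⟨53, 13510735, (some false), 112, 14833743⟩)))
(.node 2 (.node 1 (.leaf ⟨53, 7292999, (some false), 53, 19159105⟩) (.leaf ⟨53, 27529303, (some false), 112, 11147343⟩)) (.node 1 (.leaf ⟨53, 19085399, (some false), 53, 19865671⟩) (.leaf ⟨53, 31801425, (some false), 22, 9320527⟩))))))
(.node 15 (.node 7 (.node 3 (.node 1 (.leaf ⟨53, 9056345, (some false), 112, 25827411⟩) (.node 1 (.leaf ⟨53, 6776923, (some false), 112, 28258379⟩) (.leaf ⟨53, 17043521, (some true), 42, 21854277⟩)))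
(.node 2 (.node 1 (.leaf ⟨53, 32125001, (some true), 42, 21317703⟩) (.leaf ⟨53, 10971209, (some true), 53, 25829443⟩)) (.node 1 (.leaf ⟨53, 4808797, (some true), 67, 8943697⟩) (.leaf ⟨53, 29904967, (some true), 42, 12937303⟩))))
(.node 4 (.node 2 (.node 1 (.leaf ⟨53, 13310023, (some true), 67, 27791451⟩) (.leaf ⟨53, 13510735, (some true), 42, 21586005⟩)) (.node 1 (.leaf ⟨53, 19085399, (some true), 42, 23410759⟩) (.leaf ⟨53, 31801425, (some true), 42, 5062749⟩)))
(.node 2 (.node 1 (.leaf ⟨53, 32131155, (some true), 67, 17649729⟩) (.leaf ⟨53, 11495495, (some true), 29, 12871759⟩)) (.node 1 (.leaf ⟨53, 4544593, (some true), 67, 17111131⟩) (.leaf ⟨67, 32125001, (some false), 67, 7094339⟩)))))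
(.node 7 (.node 3 (.node 1 (.leaf ⟨67, 10971209, (some false), 67, 21905477⟩) (.node 1 (.leaf ⟨67, 4808797, (some false), 67, 32069723⟩) (.leaf ⟨67, 23928925, (some false), 42, 6891597⟩)))
(.node 2 (.node 1 (.leaf ⟨67, 29904967, (some false), 67, 13183047⟩) (.leaf ⟨67, 13310023, (some false), 67, 26163287⟩)) (.node 1 (.leaf ⟨67, 13510735, (some false), 67, 29958233⟩) (.leaf ⟨67, 7292999, (some false), 67, 31604815⟩))))
(.node 4 (.node 2 (.node 1 (.leaf ⟨67, 27529303, (some false), 67, 9007189⟩) (.leaf ⟨67, 19085399, (some false), 67, 19681353⟩)) (.node 1 (.leaf ⟨67, 31801425, (some false), 67, 30163029⟩) (.leaf ⟨67, 9056345, (some false), 67, 31676493⟩)))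
(.node 2 (.node 1 (.leaf ⟨67, 6776923, (some false), 42, 4794441⟩) (.leaf ⟨67, 17043521, (some true), 53, 19558465⟩)) (.node 1 (.leaf ⟨67, 32125001, (some true), 112, 19355733⟩) (.leaf ⟨67, 10971209, (some true), 67, 27730003⟩)))))))
(.node 29 (.node 14 (.node 7 (.node 3 (.node 1 (.leaf ⟨67, 4808797, (some true), 67, 4991069⟩) (.node 1 (.leaf ⟨67, 29904967, (some true), 67, 6643799⟩) (.leaf ⟨67, 13310023, (some true), 67, 13131861⟩)))
(.node 2 (.node 1 (.leaf ⟨67, 13510735, (some true), 67, 29648973⟩) (.leaf ⟨67, 17059919, (some true), 42, 8798277⟩)) (.node 1 (.leaf ⟨67, 19085399, (some true), 67, 19880005⟩) (.leaf ⟨67, 31801425, (some true), 112, 17766493⟩))))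
(.node 3 (.node 1 (.leaf ⟨67, 25385043, (some true), 39, 32260185⟩) (.node 1 (.leaf ⟨67, 32131155, (some true), 112, 17256541⟩) (.leaf ⟨67, 4544593, (some true), 112, 17193047⟩)))
(.node 2 (.node 1 (.leaf ⟨112, 17043521, (some false), 22, 7096409⟩) (.leaf ⟨112, 32125001, (some false), 112, 19015751⟩)) (.node 1 (.leaf ⟨112, 10971209, (some false), 22, 15036501⟩) (.leaf ⟨112, 4808797, (some false), 53, 29956163⟩)))))
(.node 7 (.node 3 (.node 1 (.leaf ⟨112, 23928925, (some false), 53, 32067673⟩) (.node 1 (.leaf ⟨112, 29904967, (some false), 112, 4548681⟩) (.leaf ⟨112, 13310023, (some false), 112, 23355479⟩)))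
(.node 2 (.node 1 (.leaf ⟨112, 13510735, (some false), 112, 14966865⟩) (.leaf ⟨112, 7292999, (some false), 112, 19796051⟩)) (.node 1 (.leaf ⟨112, 27529303, (some false), 53, 6893659⟩) (.leaf ⟨112, 19085399, (some false), 112, 19013703⟩))))
(.node 4 (.node 2 (.node 1 (.leaf ⟨112, 31801425, (some false), 22, 8808527⟩) (.leaf ⟨112, 9056345, (some false), 112, 25655365⟩)) (.node 1 (.leaf ⟨112, 6776923, (some false), 53, 13195331⟩) (.leaf ⟨112, 17043521, (some true), 67, 5197905⟩)))
(.node 2 (.node 1 (.leaf ⟨112, 32125001, (some true), 67, 6637651⟩) (.leaf ⟨112, 4808797, (some true), 67, 15538259⟩)) (.node 1 (.leaf ⟨112, 29904967, (some true), 67, 12937307⟩) (.leaf ⟨112, 13310023, (some true), 67, 23355481⟩))))))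
(.node 15 (.node 7 (.node 3 (.node 1 (.leaf ⟨112, 13510735, (some true), 67, 21313603⟩) (.node 1 (.leaf ⟨112, 17059919, (some true), 67, 14841923⟩) (.leaf ⟨112, 19085399, (some true), 67, 5199953⟩)))
(.node 2 (.node 1 (.leaf ⟨112, 31801425, (some true), 67, 7163993⟩) (.leaf ⟨112, 25385043, (some true), 67, 31608897⟩)) (.node 1 (.leaf ⟨112, 32131155, (some true), 67, 13463617⟩) (.leaf ⟨112, 11495495, (some true), 112, 26099797⟩))))
(.node 4 (.node 2 (.node 1 (.leaf ⟨112, 4544593, (some true), 67, 30165081⟩) (.leaf ⟨114, 17043521, (some false), 18, 11233363⟩)) (.node 1 (.leaf ⟨114, 32125001, (some false), 18, 6576203⟩) (.leaf ⟨114, 10971209, (some false), 114, 27537503⟩)))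
(.node 2 (.node 1 (.leaf ⟨114, 4808797, (some false), 114, 25522255⟩) (.leaf ⟨114, 23928925, (some false), 18, 15431763⟩)) (.node 1 (.leaf ⟨114, 29904967, (some false), 18, 13267025⟩) (.leaf ⟨114, 13310023, (some false), 114, 6973519⟩)))))
(.node 7 (.node 3 (.node 1 (.leaf ⟨114, 13510735, (some false), 18, 26093633⟩) (.node 1 (.leaf ⟨114, 7292999, (some false), 18, 9068615⟩) (.leaf ⟨114, 27529303, (some false), 114, 13586503⟩)))
(.node 2 (.node 1 (.leaf ⟨114, 19085399, (some false), 114, 29827145⟩) (.leaf ⟨114, 31801425, (some false), 114, 29827149⟩)) (.node 1 (.leaf ⟨114, 9056345, (some false), 114, 23228487⟩) (.leaf ⟨114, 6776923, (some false), 18, 11167819⟩))))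
(.node 4 (.node 2 (.node 1 (.leaf ⟨114, 10971209, (some true), 112, 10641497⟩) (.leaf ⟨114, 4808797, (some true), 112, 28002395⟩)) (.node 1 (.leaf ⟨114, 29904967, (some true), 112, 8798299⟩) (.leaf ⟨114, 19085399, (some true), 112, 25315401⟩)))
(.node 2 (.node 1 (.leaf ⟨114, 31801425, (some true), 112, 19095627⟩) (.leaf ⟨114, 25385043, (some true), 112, 25307219⟩)) (.node 1 (.leaf ⟨114, 11495495, (some true), 112, 19357771⟩) (.leaf ⟨114, 4544593, (some true), 112, 16932953⟩)))))))))

/-- The facts. -/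
def caseBFullFactsRRR : Tab Fct := .node 235 caseBFullFactsRRRL caseBFullFactsRRRR

/-- The facts. -/
def caseBFullFactsRR : Tab Fct := .node 469 caseBFullFactsRRL caseBFullFactsRRR

/-- The facts. -/
def caseBFullFactsR : Tab Fct := .node 939 caseBFullFactsRL caseBFullFactsRR

/-- The facts. -/
def caseBFullFacts : Tab Fct := .node 1878 caseBFullFactsL caseBFullFactsR

/-- The reasons. -/
def caseBFullSrcLLLL : Tab Src :=
(.node 117 (.node 58 (.node 29 (.node 14 (.node 7 (.node 3 (.node 1 (.leaf .root) (.node 1 (.leaf .root) (.leaf .dfn)))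
(.node 2 (.node 1 (.leaf (.mov 1 17043521 false [.edge 2 0 true])) (.leaf (.mov 0 13310023 false [.plain 0 9205855 true, .edge 2 37 false]))) (.node 1 (.leaf (.mov 0 31801425 false [.plain 0 13310023 true, .edge 4 0 false])) (.leaf (.mov 0 6776923 false [.plain 0 31801425 true, .edge 5 0 false])))))
(.node 3 (.node 1 (.leaf (.mov 0 17043521 false [.plain 0 23951451 true, .edge 6 735 false])) (.node 1 (.leaf (.mov 0 32125001 false [.plain 0 17043521 true, .edge 7 0 false])) (.leaf (.mov 0 4808797 false [.plain 0 32125001 true, .edge 8 0 false]))))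
(.node 2 (.node 1 (.leaf (.mov 0 23928925 false [.plain 1 32125001 true, .edge 8 0 false])) (.leaf (.mov 0 7292999 false [.plain 0 23928925 true, .edge 10 0 false]))) (.node 1 (.leaf (.mov 0 9056345 false [.plain 0 7292999 true, .edge 11 0 false])) (.leaf (.mov 0 19085399 false [.plain 0 32202817 true, .edge 12 342 false]))))))
(.node 7 (.node 3 (.node 1 (.leaf (.mov 0 10971209 false [.plain 0 19099727 true, .edge 13 1376 false])) (.node 1 (.leaf (.mov 0 29904967 false [.plain 0 10971209 true, .edge 14 0 false])) (.leaf (.mov 0 27529303 false [.plain 0 29904967 true, .edge 15 0 false]))))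
(.node 2 (.node 1 (.leaf (.eqT 0 13510735 false [.plain 1 6766657 true, .edge 5 77 false] [.edge 2 0 false])) (.leaf (.eqT 0 4808797 false [.plain 1 29579355 true, .edge 4 1015 false] [.edge 9 0 false]))) (.node 1 (.leaf (.eqT 0 7292999 false [.plain 1 21127235 true, .edge 2 1452 false] [.edge 11 0 false])) (.leaf (.eq 1 17043521 [] [.plain 19 16998489 false])))))
(.node 4 (.node 2 (.node 1 (.leaf (.eq 1 17043521 [] [.plain 18 17240153 false])) (.leaf (.eq 1 17043521 [] [.plain 17 17068101 false]))) (.node 1 (.leaf .dfn) (.leaf .dfn)))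
(.node 2 (.node 1 (.leaf (.mov 3 17043521 false [.edge 24 0 true])) (.leaf (.rel 0 9179227 0 [.edge 2 94 false, .mul, .edge 23 1279 false, .mul, .edge 24 51 false, .mul, .mul]))) (.node 1 (.leaf (.eq 3 17043521 [] [.plain 26 19150941 true])) (.leaf (.eqT 0 27529303 false [.plain 27 17657931 true, .edge 25 1083 false] [.edge 16 0 false])))))))
(.node 14 (.node 7 (.node 3 (.node 1 (.leaf (.eq 2 17043521 [] [.plain 28 19148893 false])) (.node 1 (.leaf .dfn) (.leaf (.mov 4 17043521 true [.edge 30 0 true]))))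
(.node 2 (.node 1 (.leaf (.mov 0 31801425 true [.plain 0 13310023 true, .edge 30 0 false])) (.leaf (.mov 0 32131155 true [.plain 0 14968923 true, .edge 32 403 false]))) (.node 1 (.leaf (.mov 0 19085399 true [.plain 0 32202817 true, .edge 33 669 false])) (.leaf (.mov 0 10971209 true [.plain 0 19099727 true, .edge 34 14 false])))))
(.node 3 (.node 1 (.leaf (.mov 0 29904967 true [.plain 0 10971209 true, .edge 35 0 false])) (.node 1 (.leaf (.mov 0 17059919 true [.plain 0 7157845 true, .edge 36 264 false])) (.leaf (.mov 0 11495495 true [.plain 1 17059919 true, .edge 37 0 false]))))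
(.node 2 (.node 1 (.leaf (.mov 0 4544593 true [.plain 0 17197149 true, .edge 38 982 false])) (.leaf (.mov 0 17043521 true [.plain 0 23951451 true, .edge 39 1354 false]))) (.node 1 (.leaf (.mov 0 32125001 true [.plain 0 17043521 true, .edge 40 0 false])) (.leaf (.mov 0 4808797 true [.plain 0 32125001 true, .edge 41 0 false]))))))
(.node 7 (.node 3 (.node 1 (.leaf (.mov 0 13510735 true [.plain 0 4808797 true, .edge 42 0 false])) (.node 1 (.leaf (.mov 0 25385043 true [.plain 0 13510735 true, .edge 43 0 false])) (.leaf (.eqT 0 13510735 true [.plain 1 6766657 true, .edge 33 841 false] [.edge 43 0 false]))))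
(.node 2 (.node 1 (.leaf (.eqT 0 17043521 true [.plain 1 21586003 true, .edge 32 1178 false] [.edge 40 0 false])) (.leaf (.eqT 0 31801425 true [.plain 1 15618125 true, .edge 30 868 false] [.edge 32 0 false]))) (.node 1 (.leaf (.eq 4 17043521 [] [.plain 47 11302995 false])) (.leaf (.eq 4 17043521 [] [.plain 46 27865177 false])))))
(.node 4 (.node 2 (.node 1 (.leaf (.eq 4 17043521 [] [.plain 45 8935491 false])) (.leaf .dfn)) (.node 1 (.leaf .dfn) (.leaf (.mov 6 17043521 true [.edge 52 0 true]))))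
(.node 2 (.node 1 (.leaf (.rel 0 5134405 1 [.edge 30 583 false, .mul, .edge 51 553 false, .mul, .edge 52 695 false, .mul, .mul])) (.leaf (.eq 6 17043521 [] [.plain 54 27881541 true]))) (.node 1 (.leaf (.eqT 0 32125001 true [.plain 55 25505883 true, .edge 53 1260 false] [.edge 41 0 false])) (.leaf (.eq 5 17043521 [] [.plain 56 9001039 false]))))))))
(.node 29 (.node 14 (.node 7 (.node 3 (.node 1 (.leaf .dfn) (.node 1 (.leaf (.mov 7 17043521 false [.edge 58 0 true])) (.leaf (.mov 4 17043521 false [.plain 48 27867225 true, .edge 58 494 false]))))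
(.node 2 (.node 1 (.leaf (.mov 4 27529303 false [.plain 48 17578053 true, .edge 60 1239 false])) (.leaf (.mov 4 19085399 false [.plain 49 21192773 true, .edge 61 956 false]))) (.node 1 (.leaf (.mov 4 13510735 false [.plain 48 19353695 true, .edge 62 319 false])) (.leaf (.mov 4 29904967 false [.plain 48 15669323 true, .edge 63 1164 false])))))
(.node 3 (.node 1 (.leaf (.eqT 4 27529303 false [.plain 49 19157069 true, .edge 62 416 false] [.edge 61 0 false])) (.node 1 (.leaf (.eqT 4 13510735 false [.plain 49 17719363 true, .edge 60 596 false] [.edge 63 0 false])) (.leaf (.eqT 4 27529303 false [.plain 50 17578069 true, .edge 60 1126 false] [.edge 61 0 false]))))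
(.node 2 (.node 1 (.leaf (.eqT 4 4808797 false [.plain 49 23670873 true, .edge 58 361 false] [.edge 58 0 false])) (.leaf (.eqT 4 17043521 false [.plain 50 27867203 true, .edge 58 482 false] [.edge 60 0 false]))) (.node 1 (.leaf (.eq 7 17043521 [] [.plain 69 17721419 false])) (.leaf (.eq 7 17043521 [] [.plain 68 17193041 false]))))))
(.node 7 (.node 3 (.node 1 (.leaf (.eq 7 17043521 [] [.plain 67 17592401 false])) (.node 1 (.leaf (.eq 7 17043521 [] [.plain 66 16988253 false])) (.leaf (.eq 7 17043521 [] [.plain 65 17246291 false]))))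
(.node 2 (.node 1 (.leaf .dfn) (.leaf (.mov 8 17043521 true [.edge 75 0 true]))) (.node 1 (.leaf .dfn) (.leaf (.mov 9 17043521 false [.edge 77 0 true])))))
(.node 4 (.node 2 (.node 1 (.leaf (.rel 0 15212609 3 [.edge 32 102 false, .edge 63 1052 false, .mul, .edge 75 362 false, .mul, .edge 77 1174 false, .mul])) (.leaf (.eq 9 17043521 [] [.plain 79 17117267 true]))) (.node 1 (.leaf (.eqT 0 29904967 false [.plain 80 17526869 true, .edge 78 254 false] [.edge 15 0 false])) (.leaf (.eq 8 17043521 [] [.plain 81 25831513 false]))))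
(.node 2 (.node 1 (.leaf (.mov 1 10971209 true [.plain 82 25770065 true, .edge 76 77 false])) (.leaf (.mov 1 17059919 true [.plain 20 16918619 true, .edge 83 148 false]))) (.node 1 (.leaf (.mov 1 11495495 true [.plain 20 11038813 true, .edge 84 456 false])) (.leaf (.mov 1 17043521 true [.plain 20 17442885 true, .edge 85 1381 false])))))))
(.node 15 (.node 7 (.node 3 (.node 1 (.leaf (.mov 1 25385043 true [.plain 21 25778265 true, .edge 86 684 false])) (.node 1 (.leaf (.mov 1 19085399 true [.plain 20 19796057 true, .edge 87 215 false])) (.leaf .dfn)))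
(.node 2 (.node 1 (.leaf (.mov 10 17043521 true [.edge 89 0 true])) (.leaf (.mov 7 19085399 true [.plain 70 19085403 true, .edge 89 1348 false]))) (.node 1 (.leaf (.mov 7 17059919 true [.plain 71 17242207 true, .edge 91 529 false])) (.leaf (.mov 7 17043521 true [.plain 70 17043527 true, .edge 92 487 false])))))
(.node 4 (.node 2 (.node 1 (.leaf (.eqT 7 19085399 true [.plain 71 19691589 true, .edge 92 1130 false] [.edge 91 0 false])) (.leaf (.eqT 7 19085399 true [.plain 73 19755095 true, .edge 92 867 false] [.edge 91 0 false]))) (.node 1 (.leaf (.eqT 7 17043521 true [.plain 71 17782865 true, .edge 89 617 false] [.edge 93 0 false])) (.leaf (.eqT 7 25385043 true [.plain 72 25385041 true, .edge 89 81 false] [.edge 89 0 false]))))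
(.node 2 (.node 1 (.leaf (.eqT 7 17043521 true [.plain 73 17715265 true, .edge 89 790 false] [.edge 93 0 false])) (.leaf (.eqT 7 17043521 true [.plain 74 17764417 true, .edge 89 950 false] [.edge 93 0 false]))) (.node 1 (.leaf (.eq 10 17043521 [] [.plain 99 11038787 false])) (.leaf (.eq 10 17043521 [] [.plain 98 11294787 false]))))))
(.node 7 (.node 3 (.node 1 (.leaf (.eq 10 17043521 [] [.plain 97 17045569 false])) (.node 1 (.leaf (.eq 10 17043521 [] [.plain 96 11300929 false])) (.leaf (.eq 10 17043521 [] [.plain 95 8933451 false]))))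
(.node 2 (.node 1 (.leaf (.eq 10 17043521 [] [.plain 94 8998977 false])) (.leaf .dfn)) (.node 1 (.leaf (.mov 11 17043521 true [.edge 106 0 true])) (.leaf .dfn))))
(.node 4 (.node 2 (.node 1 (.leaf (.mov 12 17043521 true [.edge 108 0 true])) (.leaf (.rel 0 13129803 5 [.edge 39 4 false, .edge 61 1118 false, .edge 89 57 false, .mul, .edge 106 703 false, .mul, .edge 108 366 false, .mul]))) (.node 1 (.leaf (.eq 12 17043521 [] [.plain 110 17178705 true])) (.leaf (.eqT 0 4808797 true [.plain 111 19140673 true, .edge 109 66 false] [.edge 42 0 false]))))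
(.node 2 (.node 1 (.leaf (.eq 11 17043521 [] [.plain 112 17256519 false])) (.leaf (.mov 4 19085399 true [.plain 113 17643611 true, .edge 107 580 false]))) (.node 1 (.leaf (.mov 4 13510735 true [.plain 48 19353695 true, .edge 114 1370 false])) (.leaf (.mov 4 31801425 true [.plain 48 24010821 true, .edge 115 543 false])))))))))
(.node 58 (.node 29 (.node 14 (.node 7 (.node 3 (.node 1 (.leaf (.mov 4 29904967 true [.plain 49 13133915 true, .edge 116 244 false])) (.node 1 (.leaf (.mov 4 10971209 true [.plain 48 6576205 true, .edge 117 670 false])) (.leaf (.mov 4 32125001 true [.plain 48 9332803 true, .edge 118 797 false]))))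
(.node 2 (.node 1 (.leaf (.mov 4 4544593 true [.plain 50 12810323 true, .edge 119 1326 false])) (.leaf (.mov 4 11495495 true [.plain 48 23337043 true, .edge 120 688 false]))) (.node 1 (.leaf (.mov 4 13310023 true [.plain 48 25643101 true, .edge 121 162 false])) (.leaf (.mov 4 32131155 true [.plain 49 11167821 true, .edge 121 1263 false])))))
(.node 3 (.node 1 (.leaf (.mov 4 4808797 true [.plain 48 21176395 true, .edge 123 695 false])) (.node 1 (.leaf (.mov 4 25385043 true [.plain 48 30230605 true, .edge 124 273 false])) (.leaf (.eqT 4 32125001 true [.plain 49 11145303 true, .edge 114 180 false] [.edge 119 0 false]))))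
(.node 2 (.node 1 (.leaf (.eq 10 17043521 [] [.plain 126 14899289 false])) (.leaf (.mov 10 4544593 true [.plain 127 25458771 true, .edge 90 560 false]))) (.node 1 (.leaf .dfn) (.leaf (.mov 1 13310023 false [.plain 20 12931137 true, .edge 129 1057 false]))))))
(.node 7 (.node 3 (.node 1 (.leaf (.mov 1 4808797 false [.plain 21 4481105 true, .edge 130 597 false])) (.node 1 (.leaf (.mov 1 32125001 false [.plain 20 32069701 true, .edge 131 905 false])) (.leaf (.mov 1 13510735 false [.plain 20 12810309 true, .edge 132 1360 false]))))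
(.node 2 (.node 1 (.leaf (.mov 1 31801425 false [.plain 20 31924289 true, .edge 133 359 false])) (.leaf (.mov 1 9056345 false [.plain 22 9060425 true, .edge 134 1129 false]))) (.node 1 (.leaf (.mov 1 23928925 false [.plain 20 24076373 true, .edge 135 896 false])) (.leaf (.mov 1 29904967 false [.plain 21 29577309 true, .edge 136 172 false])))))
(.node 4 (.node 2 (.node 1 (.leaf (.mov 1 10971209 false [.plain 20 11022419 true, .edge 137 1032 false])) (.leaf (.mov 1 27529303 false [.plain 20 28256339 true, .edge 138 563 false]))) (.node 1 (.leaf (.mov 1 7292999 false [.plain 20 6975573 true, .edge 139 1205 false])) (.leaf (.eqT 1 4808797 false [.plain 22 4798547 true, .edge 131 973 false] [.edge 131 0 false]))))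
(.node 2 (.node 1 (.leaf (.eqT 1 10971209 false [.plain 22 10975319 true, .edge 130 1328 false] [.edge 138 0 false])) (.leaf (.eqT 1 13510735 false [.plain 21 13248599 true, .edge 129 877 false] [.edge 133 0 false]))) (.node 1 (.leaf (.eqT 1 7292999 false [.plain 22 7284813 true, .edge 129 919 false] [.edge 140 0 false])) (.leaf (.eq 13 17043521 [] [.plain 144 17109079 false])))))))
(.node 14 (.node 7 (.node 3 (.node 1 (.leaf (.eq 13 17043521 [] [.plain 143 16982101 false])) (.node 1 (.leaf (.eq 13 17043521 [] [.plain 142 17702987 false])) (.leaf (.eq 13 17043521 [] [.plain 141 17780811 false]))))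
(.node 2 (.node 1 (.leaf .dfn) (.leaf .dfn)) (.node 1 (.leaf (.mov 17 17043521 true [.edge 150 0 true])) (.leaf (.rel 1 26163265 1 [.edge 87 958 false, .mul, .edge 149 1415 false, .mul, .edge 150 1091 false, .mul, .mul])))))
(.node 3 (.node 1 (.leaf (.eq 17 17043521 [] [.plain 152 27793485 true])) (.node 1 (.leaf (.eqT 1 19085399 true [.plain 153 27807827 true, .edge 151 478 false] [.edge 88 0 false])) (.leaf (.eq 16 17043521 [] [.plain 154 27807831 false]))))
(.node 2 (.node 1 (.leaf .dfn) (.leaf (.mov 18 17043521 true [.edge 156 0 true]))) (.node 1 (.leaf (.mov 1 13510735 true [.plain 20 12810309 true, .edge 156 510 false])) (.leaf (.mov 1 4808797 true [.plain 20 5128261 true, .edge 158 928 false]))))))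
(.node 7 (.node 3 (.node 1 (.leaf (.mov 1 4544593 true [.plain 20 4792391 true, .edge 159 1349 false])) (.node 1 (.leaf (.mov 1 31801425 true [.plain 21 32260183 true, .edge 159 847 false])) (.leaf (.mov 1 29904967 true [.plain 20 29640787 true, .edge 161 423 false]))))
(.node 2 (.node 1 (.leaf (.mov 1 32125001 true [.plain 20 32069701 true, .edge 162 1176 false])) (.leaf (.mov 1 32131155 true [.plain 20 31873089 true, .edge 163 352 false]))) (.node 1 (.leaf (.eqT 1 13510735 true [.plain 22 13527125 true, .edge 158 221 false] [.edge 158 0 false])) (.leaf (.eqT 1 29904967 true [.plain 21 29577309 true, .edge 156 521 false] [.edge 162 0 false])))))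
(.node 4 (.node 2 (.node 1 (.leaf (.eqT 1 32125001 true [.plain 22 32118863 true, .edge 156 295 false] [.edge 163 0 false])) (.leaf (.eq 18 17043521 [] [.plain 167 19730505 false]))) (.node 1 (.leaf (.eq 18 17043521 [] [.plain 166 19157083 false])) (.leaf (.eq 18 17043521 [] [.plain 165 27553859 false]))))
(.node 2 (.node 1 (.leaf .dfn) (.leaf (.mov 19 17043521 false [.edge 171 0 true]))) (.node 1 (.leaf (.mov 18 4808797 false [.plain 168 23226457 true, .edge 171 1137 false])) (.leaf (.mov 18 19085399 false [.plain 168 21573701 true, .edge 173 248 false]))))))))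
(.node 29 (.node 14 (.node 7 (.node 3 (.node 1 (.leaf (.mov 18 13510735 false [.plain 169 19812429 true, .edge 174 1411 false])) (.node 1 (.leaf (.mov 18 29904967 false [.plain 168 13523035 true, .edge 175 935 false])) (.leaf (.mov 18 17043521 false [.plain 168 25696337 true, .edge 176 221 false]))))
(.node 2 (.node 1 (.leaf (.eqT 18 4808797 false [.plain 169 21569631 true, .edge 173 1296 false] [.edge 173 0 false])) (.leaf (.eqT 18 17043521 false [.plain 169 27539523 true, .edge 171 575 false] [.edge 177 0 false]))) (.node 1 (.leaf (.eqT 18 27529303 false [.plain 170 11286597 true, .edge 171 22 false] [.edge 171 0 false])) (.leaf (.eq 19 17043521 [] [.plain 180 16982111 false])))))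
(.node 3 (.node 1 (.leaf (.eq 19 17043521 [] [.plain 179 16984133 false])) (.node 1 (.leaf (.eq 19 17043521 [] [.plain 178 17659987 false])) (.leaf .dfn)))
(.node 2 (.node 1 (.leaf (.mov 20 17043521 true [.edge 184 0 true])) (.leaf .dfn)) (.node 1 (.leaf (.mov 21 17043521 false [.edge 186 0 true])) (.leaf (.rel 1 30169169 3 [.edge 160 615 false, .edge 177 996 false, .mul, .edge 184 316 false, .mul, .edge 186 772 false, .mul]))))))
(.node 7 (.node 3 (.node 1 (.leaf (.eq 21 17043521 [] [.plain 188 16922711 true])) (.node 1 (.leaf (.eqT 1 6776923 false [.plain 189 17463367 true, .edge 187 1047 false] [.edge 129 0 false])) (.leaf (.eq 20 17043521 [] [.plain 190 19730511 false]))))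
(.node 2 (.node 1 (.leaf (.mov 13 17059919 true [.plain 191 19681345 true, .edge 185 116 false])) (.leaf (.mov 13 17043521 true [.plain 145 17043551 true, .edge 192 1190 false]))) (.node 1 (.leaf (.mov 13 19085399 true [.plain 146 19740745 true, .edge 193 28 false])) (.leaf .dfn))))
(.node 4 (.node 2 (.node 1 (.leaf (.mov 22 17043521 true [.edge 195 0 true])) (.leaf (.mov 19 11495495 true [.plain 181 11366473 true, .edge 195 177 false]))) (.node 1 (.leaf (.eqT 19 11495495 true [.plain 182 11231303 true, .edge 197 932 false] [.edge 197 0 false])) (.leaf (.eqT 19 11495495 true [.plain 183 11493453 true, .edge 197 1511 false] [.edge 197 0 false]))))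
(.node 2 (.node 1 (.leaf (.eqT 19 17043521 true [.plain 182 17635393 true, .edge 195 47 false] [.edge 195 0 false])) (.leaf (.eqT 19 17043521 true [.plain 183 17045585 true, .edge 195 317 false] [.edge 195 0 false]))) (.node 1 (.leaf (.eq 22 17043521 [] [.plain 201 17059907 false])) (.leaf (.eq 22 17043521 [] [.plain 200 17649747 false])))))))
(.node 15 (.node 7 (.node 3 (.node 1 (.leaf (.eq 22 17043521 [] [.plain 199 9203803 false])) (.node 1 (.leaf (.eq 22 17043521 [] [.plain 198 9205833 false])) (.leaf .dfn)))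
(.node 2 (.node 1 (.leaf (.mov 23 17043521 true [.edge 206 0 true])) (.leaf .dfn)) (.node 1 (.leaf (.mov 24 17043521 true [.edge 208 0 true])) (.leaf (.rel 1 23531595 5 [.edge 163 1096 false, .edge 171 1157 false, .edge 195 1480 false, .mul, .edge 206 512 false, .mul, .edge 208 149 false, .mul])))))
(.node 4 (.node 2 (.node 1 (.leaf (.eq 24 17043521 [] [.plain 210 25905217 true])) (.leaf (.eqT 1 11495495 true [.plain 211 25522243 true, .edge 209 273 false] [.edge 85 0 false]))) (.node 1 (.leaf (.eq 23 17043521 [] [.plain 212 11145291 false])) (.leaf (.mov 7 29904967 true [.plain 213 17109067 true, .edge 207 1298 false]))))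
(.node 2 (.node 1 (.leaf (.mov 7 4544593 true [.plain 70 4544581 true, .edge 214 38 false])) (.leaf (.mov 7 13510735 true [.plain 71 13373507 true, .edge 215 135 false]))) (.node 1 (.leaf (.mov 7 32125001 true [.plain 71 31604823 true, .edge 216 588 false])) (.leaf (.mov 7 13310023 true [.plain 70 13310019 true, .edge 217 1111 false]))))))
(.node 7 (.node 3 (.node 1 (.leaf (.mov 7 31801425 true [.plain 71 31666255 true, .edge 218 1105 false])) (.node 1 (.leaf (.mov 7 32131155 true [.plain 74 32327763 true, .edge 219 475 false])) (.leaf (.mov 7 4808797 true [.plain 73 4681821 true, .edge 218 983 false]))))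
(.node 2 (.node 1 (.leaf (.eqT 7 13510735 true [.plain 73 13441103 true, .edge 214 106 false] [.edge 216 0 false])) (.leaf (.eq 22 17043521 [] [.plain 222 29775939 false]))) (.node 1 (.leaf (.mov 22 11495495 true [.plain 223 9269321 true, .edge 196 1382 false])) (.leaf .dfn))))
(.node 4 (.node 2 (.node 1 (.leaf (.mov 25 17043521 false [.edge 225 0 true])) (.leaf (.mov 7 31801425 false [.plain 71 31666255 true, .edge 225 1447 false]))) (.node 1 (.leaf (.mov 7 10971209 false [.plain 73 11485257 true, .edge 227 199 false])) (.leaf (.eqT 7 10971209 false [.plain 70 10971217 true, .edge 228 1154 false] [.edge 228 0 false]))))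
(.node 2 (.node 1 (.leaf (.mov 7 7292999 false [.plain 71 6576193 true, .edge 228 667 false])) (.leaf (.eqT 7 7292999 false [.plain 70 7293015 true, .edge 230 12 false] [.edge 230 0 false]))) (.node 1 (.leaf (.eqT 7 31801425 false [.plain 74 31670353 true, .edge 227 1254 false] [.edge 227 0 false])) (.leaf (.eqT 7 32125001 false [.plain 72 32125003 true, .edge 225 8 false] [.edge 225 0 false]))))))))))

/-- The reasons. -/
def caseBFullSrcLLLR : Tab Src :=
(.node 117 (.node 58 (.node 29 (.node 14 (.node 7 (.node 3 (.node 1 (.leaf (.eqT 7 7292999 false [.plain 73 6639687 true, .edge 225 72 false] [.edge 230 0 false])) (.node 1 (.leaf (.eqT 7 32125001 false [.plain 74 31600713 true, .edge 225 857 false] [.edge 225 0 false])) (.leaf (.eq 25 17043521 [] [.plain 235 17045571 false]))))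
(.node 2 (.node 1 (.leaf (.eq 25 17043521 [] [.plain 234 17784917 false])) (.leaf (.eq 25 17043521 [] [.plain 233 17043537 false]))) (.node 1 (.leaf (.eq 25 17043521 [] [.plain 232 17053783 false])) (.leaf (.eq 25 17043521 [] [.plain 231 17457239 false])))))
(.node 3 (.node 1 (.leaf (.eq 25 17043521 [] [.plain 229 17782871 false])) (.node 1 (.leaf .dfn) (.leaf (.mov 25 25385043 true [.plain 237 25380951 true, .edge 242 1073 false]))))
(.node 2 (.node 1 (.leaf (.mov 25 19085399 true [.plain 241 19085379 true, .edge 243 975 false])) (.leaf (.mov 25 10971209 true [.plain 237 10967109 true, .edge 244 694 false]))) (.node 1 (.leaf (.eqT 25 10971209 true [.plain 236 10969163 true, .edge 245 1176 false] [.edge 245 0 false])) (.leaf (.eqT 25 11495495 true [.plain 238 11495501 true, .edge 242 1207 false] [.edge 242 0 false]))))))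
(.node 7 (.node 3 (.node 1 (.leaf (.eqT 25 25385043 true [.plain 239 25370701 true, .edge 242 574 false] [.edge 243 0 false])) (.node 1 (.leaf (.eqT 25 11495495 true [.plain 240 11495493 true, .edge 242 81 false] [.edge 242 0 false])) (.leaf (.eq 26 17043521 [] [.plain 249 17045569 false]))))
(.node 2 (.node 1 (.leaf (.eq 26 17043521 [] [.plain 248 17649755 false])) (.leaf (.eq 26 17043521 [] [.plain 247 17068097 false]))) (.node 1 (.leaf (.eq 26 17043521 [] [.plain 246 19224651 false])) (.leaf .dfn))))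
(.node 4 (.node 2 (.node 1 (.leaf (.mov 27 17043521 true [.edge 254 0 true])) (.leaf .dfn)) (.node 1 (.leaf (.mov 28 17043521 true [.edge 256 0 true])) (.leaf (.rel 1 27596891 5 [.edge 86 945 false, .edge 225 601 false, .edge 242 413 false, .mul, .edge 254 1062 false, .mul, .edge 256 1345 false, .mul]))))
(.node 2 (.node 1 (.leaf (.eq 28 17043521 [] [.plain 258 28264513 true])) (.leaf (.eqT 1 13510735 true [.plain 259 11286595 true, .edge 257 623 false] [.edge 158 0 false]))) (.node 1 (.leaf (.eq 27 17043521 [] [.plain 260 28196931 false])) (.leaf (.mov 18 32125001 true [.plain 261 17651779 true, .edge 255 914 false])))))))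
(.node 14 (.node 7 (.node 3 (.node 1 (.leaf (.mov 18 29904967 true [.plain 168 13523035 true, .edge 262 1180 false])) (.node 1 (.leaf (.mov 18 19085399 true [.plain 168 21573701 true, .edge 263 450 false])) (.leaf (.mov 18 13510735 true [.plain 169 19812429 true, .edge 264 528 false]))))
(.node 2 (.node 1 (.leaf (.mov 18 31801425 true [.plain 168 21973071 true, .edge 265 967 false])) (.leaf (.mov 18 10971209 true [.plain 168 4546627 true, .edge 266 1199 false]))) (.node 1 (.leaf (.mov 18 4808797 true [.plain 170 16982091 true, .edge 267 684 false])) (.leaf (.mov 18 11495495 true [.plain 168 21323853 true, .edge 268 1345 false])))))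
(.node 3 (.node 1 (.leaf (.mov 18 32131155 true [.plain 168 11485261 true, .edge 269 186 false])) (.node 1 (.leaf (.mov 18 25385043 true [.plain 169 29575249 true, .edge 270 578 false])) (.leaf (.mov 18 13310023 true [.plain 168 27660363 true, .edge 271 1440 false]))))
(.node 2 (.node 1 (.leaf (.mov 18 4544593 true [.plain 168 14831701 true, .edge 272 976 false])) (.leaf .dfn)) (.node 1 (.leaf (.mov 29 17043521 false [.edge 274 0 true])) (.leaf (.mov 4 7292999 false [.plain 49 26157121 true, .edge 274 1223 false]))))))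
(.node 7 (.node 3 (.node 1 (.leaf (.mov 4 13310023 false [.plain 48 25643101 true, .edge 276 790 false])) (.node 1 (.leaf (.mov 4 9056345 false [.plain 48 31811653 true, .edge 277 1094 false])) (.leaf (.mov 4 23928925 false [.plain 49 13441099 true, .edge 278 357 false]))))
(.node 2 (.node 1 (.leaf (.mov 4 6776923 false [.plain 48 10639443 true, .edge 279 586 false])) (.leaf (.mov 4 31801425 false [.plain 48 24010821 true, .edge 280 359 false]))) (.node 1 (.leaf (.mov 4 32125001 false [.plain 49 11145303 true, .edge 277 1335 false])) (.leaf (.eqT 4 9056345 false [.plain 49 30034001 true, .edge 276 1070 false] [.edge 278 0 false])))))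
(.node 4 (.node 2 (.node 1 (.leaf (.eqT 4 13310023 false [.plain 50 25643077 true, .edge 276 530 false] [.edge 277 0 false])) (.leaf (.eqT 4 10971209 false [.plain 50 6576203 true, .edge 274 681 false] [.edge 274 0 false]))) (.node 1 (.leaf (.eq 29 17043521 [] [.plain 285 17002567 false])) (.leaf (.eq 29 17043521 [] [.plain 284 17070149 false]))))
(.node 2 (.node 1 (.leaf (.eq 29 17043521 [] [.plain 283 17440859 false])) (.leaf .dfn)) (.node 1 (.leaf .dfn) (.leaf (.mov 31 17043521 false [.edge 290 0 true]))))))))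
(.node 29 (.node 14 (.node 7 (.node 3 (.node 1 (.leaf (.rel 4 30093401 0 [.edge 274 262 false, .mul, .edge 289 1354 false, .mul, .edge 290 843 false, .mul, .mul])) (.node 1 (.leaf (.eq 31 17043521 [] [.plain 292 19097687 true])) (.leaf (.eqT 4 32125001 false [.plain 293 17508427 true, .edge 291 1069 false] [.edge 282 0 false]))))
(.node 2 (.node 1 (.leaf (.eq 30 17043521 [] [.plain 294 19290179 false])) (.leaf .dfn)) (.node 1 (.leaf .dfn) (.leaf (.mov 33 17043521 false [.edge 297 0 true])))))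
(.node 3 (.node 1 (.leaf (.rel 4 21127259 0 [.edge 63 452 false, .mul, .edge 296 794 false, .mul, .edge 297 591 false, .mul, .mul])) (.node 1 (.leaf (.eq 33 17043521 [] [.plain 299 19880015 true])) (.leaf (.eqT 4 27529303 false [.plain 300 17786967 true, .edge 298 482 false] [.edge 61 0 false]))))
(.node 2 (.node 1 (.leaf (.eq 32 17043521 [] [.plain 301 19101783 false])) (.leaf .dfn)) (.node 1 (.leaf .dfn) (.leaf (.mov 35 17043521 true [.edge 304 0 true]))))))
(.node 7 (.node 3 (.node 1 (.leaf (.rel 4 21180509 1 [.edge 122 1351 false, .mul, .edge 303 269 false, .mul, .edge 304 560 false, .mul, .mul])) (.node 1 (.leaf (.eq 35 17043521 [] [.plain 306 11352143 true])) (.leaf (.eqT 4 32125001 true [.plain 307 19232859 true, .edge 305 853 false] [.edge 119 0 false]))))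
(.node 2 (.node 1 (.leaf (.eq 34 17043521 [] [.plain 308 19157085 false])) (.leaf .dfn)) (.node 1 (.leaf (.mov 10 29904967 false [.plain 127 25761861 true, .edge 310 109 false])) (.leaf .dfn))))
(.node 4 (.node 2 (.node 1 (.leaf (.mov 37 17043521 true [.edge 312 0 true])) (.leaf .dfn)) (.node 1 (.leaf (.mov 38 17043521 false [.edge 314 0 true])) (.leaf (.rel 4 31989835 3 [.edge 116 1242 false, .edge 310 1296 false, .mul, .edge 312 1434 false, .mul, .edge 314 514 false, .mul]))))
(.node 2 (.node 1 (.leaf (.eq 38 17043521 [] [.plain 316 17526863 true])) (.leaf (.eqT 4 29904967 false [.plain 317 17176665 true, .edge 315 812 false] [.edge 64 0 false]))) (.node 1 (.leaf (.eq 37 17043521 [] [.plain 318 11225179 false])) (.leaf (.eqT 7 19085399 true [.plain 319 11014211 true, .edge 313 1334 false] [.edge 91 0 false])))))))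
(.node 15 (.node 7 (.node 3 (.node 1 (.leaf (.eq 36 17043521 [] [.plain 320 19884099 false])) (.node 1 (.leaf .dfn) (.leaf (.mov 39 17043521 false [.edge 322 0 true]))))
(.node 2 (.node 1 (.leaf (.mov 10 7292999 false [.plain 101 7290949 true, .edge 322 1183 false])) (.leaf (.mov 10 23928925 false [.plain 103 23939165 true, .edge 324 1049 false]))) (.node 1 (.leaf (.mov 10 13310023 false [.plain 101 13307973 true, .edge 325 181 false])) (.leaf (.eqT 10 31801425 false [.plain 104 23412817 true, .edge 322 1161 false] [.edge 322 0 false])))))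
(.node 4 (.node 2 (.node 1 (.leaf (.eqT 10 7292999 false [.plain 105 26165339 true, .edge 322 641 false] [.edge 324 0 false])) (.leaf (.eqT 10 23928925 false [.plain 127 4997215 true, .edge 322 693 false] [.edge 325 0 false]))) (.node 1 (.leaf (.eq 39 17043521 [] [.plain 329 17506391 false])) (.leaf (.eq 39 17043521 [] [.plain 328 17193049 false]))))
(.node 2 (.node 1 (.leaf (.eq 39 17043521 [] [.plain 327 17524801 false])) (.leaf .dfn)) (.node 1 (.leaf (.mov 40 17043521 true [.edge 333 0 true])) (.leaf .dfn)))))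
(.node 7 (.node 3 (.node 1 (.leaf (.mov 41 17043521 false [.edge 335 0 true])) (.node 1 (.leaf (.rel 4 9058397 4 [.edge 114 1436 false, .edge 322 281 false, .mul, .edge 333 546 false, .mul, .edge 335 1035 false, .mul])) (.leaf (.eq 41 17043521 [] [.plain 337 16920657 true]))))
(.node 2 (.node 1 (.leaf (.eqT 4 6776923 false [.plain 338 17569859 true, .edge 336 658 false] [.edge 280 0 false])) (.leaf (.eq 40 17043521 [] [.plain 339 19865673 false]))) (.node 1 (.leaf (.mov 29 11495495 true [.plain 340 8935513 true, .edge 334 411 false])) (.leaf (.mov 29 17059919 true [.plain 286 17246279 true, .edge 341 859 false])))))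
(.node 4 (.node 2 (.node 1 (.leaf (.mov 29 25385043 true [.plain 286 25497685 true, .edge 342 401 false])) (.leaf (.mov 29 19085399 true [.plain 287 19085403 true, .edge 343 1348 false]))) (.node 1 (.leaf (.mov 29 10971209 true [.plain 286 11415623 true, .edge 344 1142 false])) (.leaf (.mov 29 17043521 true [.plain 286 17770569 true, .edge 345 1330 false]))))
(.node 2 (.node 1 (.leaf .dfn) (.leaf (.mov 42 17043521 true [.edge 347 0 true]))) (.node 1 (.leaf (.mov 39 17059919 true [.plain 331 17508433 true, .edge 347 1210 false])) (.leaf (.eqT 39 17059919 true [.plain 330 17651791 true, .edge 349 1287 false] [.edge 349 0 false])))))))))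
(.node 59 (.node 29 (.node 14 (.node 7 (.node 3 (.node 1 (.leaf (.mov 39 11495495 true [.plain 332 11098183 true, .edge 349 375 false])) (.node 1 (.leaf (.eqT 39 11495495 true [.plain 330 11231303 true, .edge 351 932 false] [.edge 351 0 false])) (.leaf (.mov 39 17043521 true [.plain 331 16984143 true, .edge 351 880 false]))))
(.node 2 (.node 1 (.leaf (.eqT 39 17043521 true [.plain 330 17635393 true, .edge 353 47 false] [.edge 353 0 false])) (.leaf (.eq 42 17043521 [] [.plain 354 25768027 false]))) (.node 1 (.leaf (.eq 42 17043521 [] [.plain 352 11079761 false])) (.leaf (.eq 42 17043521 [] [.plain 350 25507929 false])))))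
(.node 3 (.node 1 (.leaf .dfn) (.node 1 (.leaf (.mov 43 17043521 true [.edge 358 0 true])) (.leaf .dfn)))
(.node 2 (.node 1 (.leaf (.mov 44 17043521 true [.edge 360 0 true])) (.leaf (.rel 4 26103877 5 [.edge 114 329 false, .edge 324 42 false, .edge 347 915 false, .mul, .edge 358 411 false, .mul, .edge 360 926 false, .mul]))) (.node 1 (.leaf (.eq 44 17043521 [] [.plain 362 28262467 true])) (.leaf (.eqT 4 32131155 true [.plain 363 11040859 true, .edge 361 537 false] [.edge 123 0 false]))))))
(.node 7 (.node 3 (.node 1 (.leaf (.eq 43 17043521 [] [.plain 364 32251995 false])) (.node 1 (.leaf (.mov 10 25385043 true [.plain 365 9179225 true, .edge 359 144 false])) (.leaf (.mov 10 32125001 true [.plain 100 11153483 true, .edge 366 1037 false]))))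
(.node 2 (.node 1 (.leaf (.mov 10 32131155 true [.plain 103 32118867 true, .edge 367 833 false])) (.leaf (.mov 10 10971209 true [.plain 100 4679755 true, .edge 368 1079 false]))) (.node 1 (.leaf (.mov 10 13510735 true [.plain 105 17702993 true, .edge 369 470 false])) (.leaf (.mov 10 11495495 true [.plain 100 21981253 true, .edge 370 907 false])))))
(.node 4 (.node 2 (.node 1 (.leaf (.mov 10 19085399 true [.plain 103 19079255 true, .edge 371 661 false])) (.leaf (.mov 10 13310023 true [.plain 100 27990085 true, .edge 372 1453 false]))) (.node 1 (.leaf (.eqT 10 25385043 true [.plain 102 25382995 true, .edge 366 974 false] [.edge 366 0 false])) (.leaf (.eq 42 17043521 [] [.plain 374 28194885 false]))))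
(.node 2 (.node 1 (.leaf (.mov 42 13310023 true [.plain 375 19206235 true, .edge 348 1451 false])) (.leaf .dfn)) (.node 1 (.leaf (.mov 7 9056345 false [.plain 71 8984657 true, .edge 377 132 false])) (.leaf (.mov 7 13510735 false [.plain 71 13373507 true, .edge 378 769 false])))))))
(.node 15 (.node 7 (.node 3 (.node 1 (.leaf (.mov 7 23928925 false [.plain 71 23294027 true, .edge 379 1478 false])) (.node 1 (.leaf (.mov 7 13310023 false [.plain 73 13510727 true, .edge 379 236 false])) (.leaf (.mov 7 29904967 false [.plain 71 30222427 true, .edge 381 948 false]))))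
(.node 2 (.node 1 (.leaf (.mov 7 6776923 false [.plain 71 6846557 true, .edge 382 1202 false])) (.leaf (.mov 7 27529303 false [.plain 71 27947085 true, .edge 383 362 false]))) (.node 1 (.leaf (.eqT 7 27529303 false [.plain 70 27529297 true, .edge 384 339 false] [.edge 384 0 false])) (.leaf (.eqT 7 13510735 false [.plain 73 13441103 true, .edge 378 585 false] [.edge 379 0 false])))))
(.node 4 (.node 2 (.node 1 (.leaf (.eqT 7 4808797 false [.plain 72 4808799 true, .edge 377 8 false] [.edge 377 0 false])) (.leaf (.eqT 7 9056345 false [.plain 74 8990809 true, .edge 377 594 false] [.edge 378 0 false]))) (.node 1 (.leaf (.eq 45 17043521 [] [.plain 388 17195103 false])) (.leaf (.eq 45 17043521 [] [.plain 387 17043537 false]))))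
(.node 2 (.node 1 (.leaf (.eq 45 17043521 [] [.plain 386 17522763 false])) (.leaf (.eq 45 17043521 [] [.plain 385 17053791 false]))) (.node 1 (.leaf .dfn) (.leaf .dfn)))))
(.node 7 (.node 3 (.node 1 (.leaf (.mov 49 17043521 true [.edge 394 0 true])) (.node 1 (.leaf (.rel 7 7098439 1 [.edge 214 189 false, .mul, .edge 393 170 false, .mul, .edge 394 314 false, .mul, .mul])) (.leaf (.eq 49 17043521 [] [.plain 396 17569879 true]))))
(.node 2 (.node 1 (.leaf (.eqT 7 4544593 true [.plain 397 17109059 true, .edge 395 496 false] [.edge 215 0 false])) (.leaf (.eq 48 17043521 [] [.plain 398 17109069 false]))) (.node 1 (.leaf .dfn) (.leaf (.mov 22 17043521 false [.plain 223 19015773 true, .edge 400 293 false])))))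
(.node 4 (.node 2 (.node 1 (.leaf .dfn) (.leaf (.mov 51 17043521 true [.edge 402 0 true]))) (.node 1 (.leaf (.mov 13 10971209 true [.plain 145 10971221 true, .edge 402 966 false])) (.leaf .dfn)))
(.node 2 (.node 1 (.leaf (.mov 52 17043521 false [.edge 405 0 true])) (.leaf (.rel 7 11223133 3 [.edge 75 784 false, .plain 82 8933441 false, .edge 132 1155 false, .mul, .edge 402 896 false, .mul, .edge 405 582 false, .mul]))) (.node 1 (.leaf (.eq 52 17043521 [] [.plain 407 17109057 true])) (.leaf (.eqT 7 31801425 false [.plain 408 17784901 true, .edge 406 1025 false] [.edge 227 0 false]))))))))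
(.node 29 (.node 14 (.node 7 (.node 3 (.node 1 (.leaf (.eq 51 17043521 [] [.plain 409 25696343 false])) (.node 1 (.leaf (.mov 25 17043521 true [.plain 410 9195593 true, .edge 403 1159 false])) (.leaf .dfn)))
(.node 2 (.node 1 (.leaf (.mov 53 17043521 false [.edge 412 0 true])) (.leaf (.mov 22 6776923 false [.plain 202 6778969 true, .edge 412 445 false]))) (.node 1 (.leaf (.mov 22 9056345 false [.plain 203 9375827 true, .edge 414 1355 false])) (.leaf (.mov 22 13310023 false [.plain 202 13314117 true, .edge 415 812 false])))))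
(.node 3 (.node 1 (.leaf (.eqT 22 13310023 false [.plain 204 13244489 true, .edge 412 1120 false] [.edge 416 0 false])) (.node 1 (.leaf (.eqT 22 13310023 false [.plain 223 14897243 true, .edge 412 176 false] [.edge 416 0 false])) (.leaf (.eq 53 17043521 [] [.plain 418 17463377 false]))))
(.node 2 (.node 1 (.leaf (.eq 53 17043521 [] [.plain 417 16920641 false])) (.leaf .dfn)) (.node 1 (.leaf (.mov 54 17043521 true [.edge 421 0 true])) (.leaf .dfn)))))
(.node 7 (.node 3 (.node 1 (.leaf (.mov 55 17043521 false [.edge 423 0 true])) (.node 1 (.leaf (.rel 7 4880459 3 [.edge 217 592 false, .edge 412 482 false, .mul, .edge 421 1024 false, .mul, .edge 423 937 false, .mul])) (.leaf (.eq 55 17043521 [] [.plain 425 17125465 true]))))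
(.node 2 (.node 1 (.leaf (.eqT 7 13510735 false [.plain 426 17526879 true, .edge 424 1264 false] [.edge 379 0 false])) (.leaf (.eq 54 17043521 [] [.plain 427 25831493 false]))) (.node 1 (.leaf (.mov 45 17043521 true [.plain 428 27603009 true, .edge 422 1367 false])) (.leaf (.mov 45 25385043 true [.plain 389 25516107 true, .edge 429 1383 false])))))
(.node 4 (.node 2 (.node 1 (.leaf (.mov 45 19085399 true [.plain 391 19544137 true, .edge 430 45 false])) (.leaf .dfn)) (.node 1 (.leaf (.mov 56 17043521 true [.edge 432 0 true])) (.leaf .dfn)))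
(.node 2 (.node 1 (.leaf (.mov 57 17043521 false [.edge 434 0 true])) (.leaf (.rel 7 31600707 4 [.edge 217 221 false, .edge 400 227 false, .mul, .edge 432 480 false, .mul, .edge 434 581 false, .mul]))) (.node 1 (.leaf (.eq 57 17043521 [] [.plain 436 17526853 true])) (.leaf (.eqT 7 32125001 false [.plain 437 17246273 true, .edge 435 1050 false] [.edge 225 0 false])))))))
(.node 15 (.node 7 (.node 3 (.node 1 (.leaf (.eq 56 17043521 [] [.plain 438 19036251 false])) (.node 1 (.leaf (.eqT 25 25385043 true [.plain 439 27531331 true, .edge 433 1196 false] [.edge 243 0 false])) (.leaf (.eq 50 17043521 [] [.plain 440 13193307 false]))))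
(.node 2 (.node 1 (.leaf .dfn) (.leaf (.mov 58 17043521 true [.edge 442 0 true]))) (.node 1 (.leaf (.mov 53 19085399 true [.plain 419 19689561 true, .edge 442 99 false])) (.leaf .dfn))))
(.node 4 (.node 2 (.node 1 (.leaf (.mov 59 17043521 true [.edge 445 0 true])) (.leaf .dfn)) (.node 1 (.leaf (.mov 60 17043521 true [.edge 447 0 true])) (.leaf (.rel 7 21311583 5 [.edge 214 882 false, .edge 414 589 false, .edge 442 755 false, .mul, .edge 445 850 false, .mul, .edge 447 1317 false, .mul]))))
(.node 2 (.node 1 (.leaf (.eq 60 17043521 [] [.plain 449 10700883 true])) (.leaf (.eqT 7 19085399 true [.plain 450 9246793 true, .edge 448 285 false] [.edge 91 0 false]))) (.node 1 (.leaf (.eq 59 17043521 [] [.plain 451 29958227 false])) (.leaf (.eqT 10 13510735 true [.plain 452 17584195 true, .edge 446 1371 false] [.edge 370 0 false]))))))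
(.node 7 (.node 3 (.node 1 (.leaf (.eq 58 17043521 [] [.plain 453 19867723 false])) (.node 1 (.leaf (.mov 42 29904967 true [.plain 454 25497667 true, .edge 443 84 false])) (.leaf (.mov 42 25385043 true [.plain 355 5066831 true, .edge 455 501 false]))))
(.node 2 (.node 1 (.leaf (.mov 42 4808797 true [.plain 357 16986185 true, .edge 456 664 false])) (.leaf (.mov 42 10971209 true [.plain 355 12869711 true, .edge 457 539 false]))) (.node 1 (.leaf .dfn) (.leaf (.mov 10 29904967 true [.plain 127 25761861 true, .edge 459 1192 false])))))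
(.node 4 (.node 2 (.node 1 (.leaf .dfn) (.leaf (.mov 64 17043521 false [.edge 461 0 true]))) (.node 1 (.leaf (.mov 10 17043521 false [.plain 100 25432131 true, .edge 461 155 false])) (.leaf (.mov 10 27529303 false [.plain 104 17043543 true, .edge 463 994 false]))))
(.node 2 (.node 1 (.leaf (.mov 10 19085399 false [.plain 100 21182549 true, .edge 464 1168 false])) (.leaf (.mov 10 6776923 false [.plain 127 19290201 true, .edge 465 1438 false]))) (.node 1 (.leaf (.mov 10 32125001 false [.plain 100 11153483 true, .edge 466 99 false])) (.leaf (.mov 10 10971209 false [.plain 101 10969163 true, .edge 467 905 false]))))))))))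

/-- The reasons. -/
def caseBFullSrcLLL : Tab Src := .node 234 caseBFullSrcLLLL caseBFullSrcLLLR

/-- The reasons. -/
def caseBFullSrcLLRL : Tab Src :=
(.node 117 (.node 58 (.node 29 (.node 14 (.node 7 (.node 3 (.node 1 (.leaf (.mov 10 9056345 false [.plain 100 30027867 true, .edge 468 15 false])) (.node 1 (.leaf (.eqT 10 13510735 false [.plain 103 13523023 true, .edge 461 1275 false] [.edge 461 0 false])) (.leaf (.eqT 10 17043521 false [.plain 105 25434187 true, .edge 461 1482 false] [.edge 463 0 false]))))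
(.node 2 (.node 1 (.leaf (.eqT 10 32125001 false [.plain 127 7039051 true, .edge 461 668 false] [.edge 467 0 false])) (.leaf (.eq 64 17043521 [] [.plain 472 16918597 false]))) (.node 1 (.leaf (.eq 64 17043521 [] [.plain 471 17461315 false])) (.leaf (.eq 64 17043521 [] [.plain 470 17070145 false])))))
(.node 3 (.node 1 (.leaf (.rel 10 9244763 1 [.edge 90 609 false, .mul, .edge 91 208 false, .mul, .edge 459 538 false, .mul, .mul])) (.node 1 (.leaf (.eq 61 17043521 [] [.plain 476 8941655 true])) (.leaf .dfn)))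
(.node 2 (.node 1 (.leaf (.mov 67 17043521 false [.edge 478 0 true])) (.leaf (.mov 42 9056345 false [.plain 355 23410759 true, .edge 478 1316 false]))) (.node 1 (.leaf (.mov 42 7292999 false [.plain 357 29499485 true, .edge 480 925 false])) (.leaf (.mov 42 31801425 false [.plain 355 9324615 true, .edge 481 1440 false]))))))
(.node 7 (.node 3 (.node 1 (.leaf (.eqT 42 6776923 false [.plain 356 4614235 true, .edge 478 520 false] [.edge 478 0 false])) (.node 1 (.leaf (.eqT 42 6776923 false [.plain 375 24010825 true, .edge 478 1084 false] [.edge 478 0 false])) (.leaf (.eq 67 17043521 [] [.plain 484 17635395 false]))))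
(.node 2 (.node 1 (.leaf (.eq 67 17043521 [] [.plain 483 17584193 false])) (.leaf .dfn)) (.node 1 (.leaf (.mov 68 17043521 true [.edge 487 0 true])) (.leaf .dfn))))
(.node 4 (.node 2 (.node 1 (.leaf (.mov 69 17043521 false [.edge 489 0 true])) (.leaf (.rel 10 25569359 3 [.edge 371 1175 false, .edge 481 310 false, .mul, .edge 487 405 false, .mul, .edge 489 473 false, .mul]))) (.node 1 (.leaf (.eq 69 17043521 [] [.plain 491 17444953 true])) (.leaf (.eqT 10 32125001 false [.plain 492 16939083 true, .edge 490 318 false] [.edge 467 0 false]))))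
(.node 2 (.node 1 (.leaf (.eq 68 17043521 [] [.plain 493 11302993 false])) (.leaf (.mov 64 10971209 true [.plain 494 19157067 true, .edge 488 804 false]))) (.node 1 (.leaf (.mov 64 11495495 true [.plain 474 11485265 true, .edge 495 679 false])) (.leaf (.mov 64 19085399 true [.plain 475 19095639 true, .edge 496 1157 false])))))))
(.node 14 (.node 7 (.node 3 (.node 1 (.leaf .dfn) (.node 1 (.leaf (.mov 42 27529303 false [.plain 375 15669313 true, .edge 498 880 false])) (.leaf .dfn)))
(.node 2 (.node 1 (.leaf (.mov 71 17043521 true [.edge 500 0 true])) (.leaf .dfn)) (.node 1 (.leaf (.mov 72 17043521 false [.edge 502 0 true])) (.leaf (.rel 10 11487327 3 [.edge 371 18 false, .edge 498 317 false, .mul, .edge 500 808 false, .mul, .edge 502 1333 false, .mul])))))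
(.node 3 (.node 1 (.leaf (.eq 72 17043521 [] [.plain 504 17461319 true])) (.node 1 (.leaf (.eqT 10 7292999 false [.plain 505 17190991 true, .edge 503 1071 false] [.edge 324 0 false])) (.leaf (.eq 71 17043521 [] [.plain 506 19619917 false]))))
(.node 2 (.node 1 (.leaf (.eqT 39 17059919 true [.plain 507 19214417 true, .edge 501 147 false] [.edge 349 0 false])) (.leaf (.eq 70 17043521 [] [.plain 508 17193035 false]))) (.node 1 (.leaf .dfn) (.leaf (.mov 73 17043521 true [.edge 510 0 true]))))))
(.node 7 (.node 3 (.node 1 (.leaf .dfn) (.node 1 (.leaf (.mov 74 17043521 true [.edge 512 0 true])) (.leaf .dfn)))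
(.node 2 (.node 1 (.leaf (.mov 75 17043521 true [.edge 514 0 true])) (.leaf (.rel 10 11472987 5 [.edge 366 805 false, .edge 481 213 false, .edge 510 914 false, .mul, .edge 512 695 false, .mul, .edge 514 1170 false, .mul]))) (.node 1 (.leaf (.eq 75 17043521 [] [.plain 516 10641483 true])) (.leaf (.eqT 10 13510735 true [.plain 517 19675203 true, .edge 515 1160 false] [.edge 370 0 false])))))
(.node 4 (.node 2 (.node 1 (.leaf (.eq 74 17043521 [] [.plain 518 15560779 false])) (.leaf (.eqT 42 4808797 true [.plain 519 19142721 true, .edge 513 296 false] [.edge 457 0 false]))) (.node 1 (.leaf (.eq 73 17043521 [] [.plain 520 23623765 false])) (.leaf (.mov 53 25385043 true [.plain 521 27816019 true, .edge 511 41 false]))))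
(.node 2 (.node 1 (.leaf (.mov 53 17059919 true [.plain 419 17240155 true, .edge 522 781 false])) (.leaf .dfn)) (.node 1 (.leaf (.mov 42 17059919 true [.plain 375 31610947 true, .edge 524 565 false])) (.leaf .dfn)))))))
(.node 29 (.node 14 (.node 7 (.node 3 (.node 1 (.leaf (.mov 77 17043521 true [.edge 526 0 true])) (.node 1 (.leaf .dfn) (.leaf (.mov 78 17043521 true [.edge 528 0 true]))))
(.node 2 (.node 1 (.leaf (.rel 10 11159619 5 [.edge 369 1493 false, .edge 499 1034 false, .plain 509 17524821 false, .edge 524 980 false, .mul, .edge 526 1038 false, .mul, .edge 528 708 false, .mul])) (.leaf (.eq 78 17043521 [] [.plain 530 28002371 true]))) (.node 1 (.leaf (.eqT 10 31801425 true [.plain 531 27594833 true, .edge 529 1167 false] [.edge 303 0 false])) (.leaf (.eq 77 29775963 [] [.plain 532 17043521 false, .plain 309 17043521 false])))))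
(.node 3 (.node 1 (.leaf (.eq 77 17043521 [] [.plain 533 25917517 false])) (.node 1 (.leaf (.eqT 10 32131155 true [.plain 534 25522257 true, .edge 527 728 false] [.edge 368 0 false])) (.leaf (.eq 76 17043521 [] [.plain 535 27936855 false]))))
(.node 2 (.node 1 (.leaf .dfn) (.leaf (.eqT 13 31801425 false [.plain 145 31801431 true, .edge 537 339 false] [.edge 537 0 false]))) (.node 1 (.leaf (.eqT 13 31801425 false [.plain 146 31604829 true, .edge 537 1497 false] [.edge 537 0 false])) (.leaf (.eqT 13 31801425 false [.plain 147 32194649 true, .edge 537 962 false] [.edge 537 0 false]))))))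
(.node 7 (.node 3 (.node 1 (.leaf (.eqT 13 31801425 false [.plain 148 32325719 true, .edge 537 238 false] [.edge 537 0 false])) (.node 1 (.leaf (.eq 79 17043521 [] [.plain 541 17045589 false])) (.leaf (.eq 79 17043521 [] [.plain 540 17070149 false]))))
(.node 2 (.node 1 (.leaf (.eq 79 17043521 [] [.plain 539 17051737 false])) (.leaf (.eq 79 17043521 [] [.plain 538 17043543 false]))) (.node 1 (.leaf .dfn) (.leaf (.eqT 79 19085399 false [.plain 545 19085385 true, .edge 546 1308 false] [.edge 546 0 false])))))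
(.node 4 (.node 2 (.node 1 (.leaf (.eq 80 17043521 [] [.plain 547 17043531 false])) (.leaf .dfn)) (.node 1 (.leaf (.mov 81 17043521 false [.edge 549 0 true])) (.leaf (.rel 13 9060433 0 [.edge 537 673 false, .mul, .edge 546 1224 false, .mul, .edge 549 271 false, .mul, .mul]))))
(.node 2 (.node 1 (.leaf (.eq 81 17043521 [] [.plain 551 19689551 true])) (.leaf (.mov 13 7292999 false [.plain 552 17508427 true, .edge 550 1069 false]))) (.node 1 (.leaf .dfn) (.leaf (.mov 13 32125001 true [.plain 147 31731807 true, .edge 554 413 false])))))))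
(.node 15 (.node 7 (.node 3 (.node 1 (.leaf (.mov 13 13310023 true [.plain 145 13310041 true, .edge 555 1106 false])) (.node 1 (.leaf (.mov 13 4544593 true [.plain 147 4610137 true, .edge 555 164 false])) (.leaf (.eqT 13 4544593 true [.plain 146 5003329 true, .edge 557 514 false] [.edge 557 0 false]))))
(.node 2 (.node 1 (.leaf (.eqT 13 13310023 true [.plain 148 13113433 true, .edge 557 1042 false] [.edge 556 0 false])) (.leaf (.eqT 13 4544593 true [.plain 148 5134411 true, .edge 555 1041 false] [.edge 557 0 false]))) (.node 1 (.leaf (.eqT 13 32125001 true [.plain 148 32256077 true, .edge 554 1067 false] [.edge 555 0 false])) (.leaf (.eq 82 17043521 [] [.plain 561 25759811 false])))))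
(.node 4 (.node 2 (.node 1 (.leaf (.eq 82 17043521 [] [.plain 560 25718859 false])) (.leaf (.eq 82 17043521 [] [.plain 559 17125441 false]))) (.node 1 (.leaf (.eq 82 17043521 [] [.plain 558 25784401 false])) (.leaf .dfn)))
(.node 2 (.node 1 (.leaf (.mov 85 17043521 true [.edge 566 0 true])) (.leaf (.mov 13 4808797 true [.plain 145 4808785 true, .edge 566 1479 false]))) (.node 1 (.leaf (.mov 13 13510735 true [.plain 146 13445195 true, .edge 566 1485 false])) (.leaf (.eqT 13 13510735 true [.plain 148 13314135 true, .edge 569 972 false] [.edge 569 0 false]))))))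
(.node 7 (.node 3 (.node 1 (.leaf (.eqT 13 13510735 true [.plain 147 13183057 true, .edge 566 271 false] [.edge 569 0 false])) (.node 1 (.leaf (.eqT 13 4808797 true [.plain 148 4546641 true, .edge 566 1487 false] [.edge 568 0 false])) (.leaf (.eq 85 17043521 [] [.plain 572 11104337 false]))))
(.node 2 (.node 1 (.leaf (.eq 85 17043521 [] [.plain 571 27611211 false])) (.leaf (.eq 85 17043521 [] [.plain 570 25432153 false]))) (.node 1 (.leaf .dfn) (.leaf (.mov 82 4808797 false [.plain 562 19019849 true, .edge 576 890 false])))))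
(.node 4 (.node 2 (.node 1 (.leaf (.mov 82 17043521 false [.plain 565 11079747 true, .edge 577 1167 false])) (.leaf (.mov 82 29904967 false [.plain 562 17719369 true, .edge 578 571 false]))) (.node 1 (.leaf (.eqT 82 29904967 false [.plain 564 17702985 true, .edge 578 329 false] [.edge 579 0 false])) (.leaf (.eqT 82 4808797 false [.plain 563 19030089 true, .edge 576 74 false] [.edge 577 0 false]))))
(.node 2 (.node 1 (.leaf (.eqT 82 4808797 false [.plain 564 19034185 true, .edge 576 251 false] [.edge 577 0 false])) (.leaf (.eq 88 17043521 [] [.plain 582 17649737 false]))) (.node 1 (.leaf (.eq 88 17043521 [] [.plain 581 17191007 false])) (.leaf (.eq 88 17043521 [] [.plain 580 17442909 false])))))))))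
(.node 59 (.node 29 (.node 14 (.node 7 (.node 3 (.node 1 (.leaf .dfn) (.node 1 (.leaf (.eqT 82 27529303 false [.plain 563 9244743 true, .edge 586 315 false] [.edge 586 0 false])) (.leaf (.eqT 82 27529303 false [.plain 564 9271367 true, .edge 586 761 false] [.edge 586 0 false]))))
(.node 2 (.node 1 (.leaf (.eqT 82 27529303 false [.plain 565 11276373 true, .edge 586 1058 false] [.edge 586 0 false])) (.leaf (.eq 89 17043521 [] [.plain 589 17109073 false]))) (.node 1 (.leaf (.eq 89 17043521 [] [.plain 588 16935005 false])) (.leaf (.eq 89 17043521 [] [.plain 587 17633347 false])))))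
(.node 3 (.node 1 (.leaf .dfn) (.node 1 (.leaf (.mov 90 17043521 true [.edge 593 0 true])) (.leaf (.eqT 89 19085399 true [.plain 591 19863645 true, .edge 593 1099 false] [.edge 593 0 false]))))
(.node 2 (.node 1 (.leaf (.eqT 89 19085399 true [.plain 592 19609685 true, .edge 593 1429 false] [.edge 593 0 false])) (.leaf (.eq 90 17043521 [] [.plain 596 17584211 false]))) (.node 1 (.leaf (.eq 90 17043521 [] [.plain 595 17584217 false])) (.leaf .dfn)))))
(.node 7 (.node 3 (.node 1 (.leaf (.mov 91 17043521 false [.edge 599 0 true])) (.node 1 (.leaf (.rel 13 32258119 3 [.edge 554 272 false, .edge 586 334 false, .mul, .edge 593 422 false, .mul, .edge 599 874 false, .mul])) (.leaf (.eq 91 17043521 [] [.plain 601 16932947 true]))))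
(.node 2 (.node 1 (.leaf (.mov 13 10971209 false [.plain 602 17528927 true, .edge 600 664 false])) (.leaf (.eqT 13 10971209 false [.plain 148 11167829 true, .edge 603 173 false] [.edge 603 0 false]))) (.node 1 (.leaf (.eq 90 17043521 [] [.plain 604 19621957 false])) (.leaf .dfn))))
(.node 4 (.node 2 (.node 1 (.leaf (.eqT 25 13510735 false [.plain 236 13508685 true, .edge 606 1259 false] [.edge 606 0 false])) (.leaf (.eqT 25 13510735 false [.plain 237 13520977 true, .edge 606 26 false] [.edge 606 0 false]))) (.node 1 (.leaf (.eqT 25 13510735 false [.plain 238 13510723 true, .edge 606 911 false] [.edge 606 0 false])) (.leaf (.eqT 25 13510735 false [.plain 239 13527135 true, .edge 606 857 false] [.edge 606 0 false]))))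
(.node 2 (.node 1 (.leaf (.eqT 25 13510735 false [.plain 240 13510733 true, .edge 606 8 false] [.edge 606 0 false])) (.leaf (.eq 92 17043521 [] [.plain 611 17043537 false]))) (.node 1 (.leaf (.eq 92 17043521 [] [.plain 610 17045571 false])) (.leaf (.eq 92 17043521 [] [.plain 609 17043545 false])))))))
(.node 15 (.node 7 (.node 3 (.node 1 (.leaf (.eq 92 17043521 [] [.plain 608 17053771 false])) (.node 1 (.leaf (.eq 92 17043521 [] [.plain 607 17059921 false])) (.leaf .dfn)))
(.node 2 (.node 1 (.leaf .dfn) (.leaf (.mov 94 17043521 false [.edge 618 0 true]))) (.node 1 (.leaf (.rel 13 11485249 3 [.edge 404 1239 false, .plain 410 8919131 false, .edge 606 1141 false, .mul, .edge 617 561 false, .mul, .edge 618 450 false, .mul])) (.leaf (.eq 94 17043521 [] [.plain 620 17174623 true])))))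
(.node 4 (.node 2 (.node 1 (.leaf (.eqT 13 31801425 false [.plain 621 17567839 true, .edge 619 1108 false] [.edge 537 0 false])) (.leaf (.eq 93 17043521 [] [.plain 622 17061963 false]))) (.node 1 (.leaf .dfn) (.leaf (.mov 95 17043521 false [.edge 624 0 true]))))
(.node 2 (.node 1 (.leaf (.mov 19 13310023 false [.plain 181 12800091 true, .edge 624 134 false])) (.leaf (.mov 19 9056345 false [.plain 182 9386073 true, .edge 626 1237 false]))) (.node 1 (.leaf (.mov 19 6776923 false [.plain 181 7155785 true, .edge 627 1490 false])) (.leaf (.eqT 19 9056345 false [.plain 181 8804425 true, .edge 628 1088 false] [.edge 627 0 false]))))))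
(.node 7 (.node 3 (.node 1 (.leaf (.eqT 19 6776923 false [.plain 182 6643803 true, .edge 624 238 false] [.edge 628 0 false])) (.node 1 (.leaf (.eqT 19 13310023 false [.plain 183 13307979 true, .edge 624 653 false] [.edge 626 0 false])) (.leaf (.eq 95 17043521 [] [.plain 631 16937025 false]))))
(.node 2 (.node 1 (.leaf (.eq 95 17043521 [] [.plain 630 17045589 false])) (.leaf (.eq 95 17043521 [] [.plain 629 17721419 false]))) (.node 1 (.leaf .dfn) (.leaf (.mov 96 17043521 true [.edge 635 0 true])))))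
(.node 4 (.node 2 (.node 1 (.leaf (.eqT 95 10971209 true [.plain 633 11167817 true, .edge 635 528 false] [.edge 635 0 false])) (.leaf (.eq 96 17043521 [] [.plain 637 17043529 false]))) (.node 1 (.leaf .dfn) (.leaf (.mov 97 17043521 false [.edge 639 0 true]))))
(.node 2 (.node 1 (.leaf (.rel 13 11104345 4 [.edge 193 551 false, .edge 624 465 false, .mul, .edge 635 25 false, .mul, .edge 639 1290 false, .mul])) (.leaf (.eq 97 17043521 [] [.plain 641 17641555 true]))) (.node 1 (.leaf (.mov 13 4808797 false [.plain 642 17459289 true, .edge 640 229 false])) (.leaf (.mov 13 6776923 false [.plain 146 6907973 true, .edge 643 1116 false]))))))))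
(.node 29 (.node 14 (.node 7 (.node 3 (.node 1 (.leaf (.mov 13 13310023 false [.plain 147 13375571 true, .edge 644 598 false])) (.node 1 (.leaf (.mov 13 13510735 false [.plain 146 13445195 true, .edge 645 1254 false])) (.leaf (.mov 13 9056345 false [.plain 148 9187403 true, .edge 646 1291 false]))))
(.node 2 (.node 1 (.leaf (.mov 13 29904967 false [.plain 146 30167117 true, .edge 647 475 false])) (.leaf (.mov 13 27529303 false [.plain 147 27791453 true, .edge 648 1284 false]))) (.node 1 (.leaf (.mov 13 23928925 false [.plain 146 23208001 true, .edge 649 545 false])) (.leaf (.eqT 13 23928925 false [.plain 148 23666779 true, .edge 643 1067 false] [.edge 650 0 false])))))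
(.node 3 (.node 1 (.leaf (.eq 96 17043521 [] [.plain 651 25305167 false])) (.node 1 (.leaf (.mov 96 17059919 true [.plain 652 17059913 true, .edge 636 1300 false])) (.leaf .dfn)))
(.node 2 (.node 1 (.leaf (.mov 98 17043521 true [.edge 654 0 true])) (.leaf .dfn)) (.node 1 (.leaf (.mov 99 17043521 false [.edge 656 0 true])) (.leaf (.rel 13 31854685 4 [.edge 556 582 false, .edge 578 71 false, .mul, .edge 654 443 false, .mul, .edge 656 676 false, .mul]))))))
(.node 7 (.node 3 (.node 1 (.leaf (.eq 99 17043521 [] [.plain 658 17135705 true])) (.node 1 (.leaf (.eqT 13 27529303 false [.plain 659 17260625 true, .edge 657 362 false] [.edge 649 0 false])) (.leaf (.eq 98 17043521 [] [.plain 660 25759825 false]))))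
(.node 2 (.node 1 (.leaf (.mov 96 13510735 true [.plain 661 9181249 true, .edge 655 316 false])) (.leaf (.mov 96 32131155 true [.plain 638 32131143 true, .edge 662 210 false]))) (.node 1 (.leaf .dfn) (.leaf (.mov 100 17043521 false [.edge 664 0 true])))))
(.node 4 (.node 2 (.node 1 (.leaf (.eqT 85 19085399 false [.plain 573 19542087 true, .edge 664 1531 false] [.edge 664 0 false])) (.leaf (.eqT 85 19085399 false [.plain 574 19603541 true, .edge 664 580 false] [.edge 664 0 false]))) (.node 1 (.leaf (.eqT 85 19085399 false [.plain 575 19556423 true, .edge 664 777 false] [.edge 664 0 false])) (.leaf (.eq 100 17043521 [] [.plain 668 17782865 false]))))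
(.node 2 (.node 1 (.leaf (.eq 100 17043521 [] [.plain 667 17700947 false])) (.leaf (.eq 100 17043521 [] [.plain 666 17586257 false]))) (.node 1 (.leaf .dfn) (.leaf (.mov 100 19085399 true [.plain 669 19167301 true, .edge 672 529 false])))))))
(.node 15 (.node 7 (.node 3 (.node 1 (.leaf (.eqT 100 19085399 true [.plain 671 19560517 true, .edge 673 839 false] [.edge 673 0 false])) (.node 1 (.leaf (.eqT 100 19085399 true [.plain 670 19673159 true, .edge 672 558 false] [.edge 673 0 false])) (.leaf (.eqT 100 17059919 true [.plain 671 17569887 true, .edge 672 1338 false] [.edge 672 0 false]))))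
(.node 2 (.node 1 (.leaf (.eq 101 17043521 [] [.plain 676 17584209 false])) (.leaf (.eq 101 17043521 [] [.plain 675 19689537 false]))) (.node 1 (.leaf (.eq 101 17043521 [] [.plain 674 19150913 false])) (.leaf .dfn))))
(.node 4 (.node 2 (.node 1 (.leaf (.mov 102 17043521 true [.edge 680 0 true])) (.leaf .dfn)) (.node 1 (.leaf (.mov 103 17043521 true [.edge 682 0 true])) (.leaf (.rel 13 7096385 5 [.edge 566 1401 false, .edge 664 377 false, .edge 672 30 false, .mul, .edge 680 747 false, .mul, .edge 682 1299 false, .mul]))))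
(.node 2 (.node 1 (.leaf (.eq 103 17043521 [] [.plain 684 10700889 true])) (.leaf (.eqT 13 10971209 true [.plain 685 11358297 true, .edge 683 919 false] [.edge 404 0 false]))) (.node 1 (.leaf (.eq 102 11475025 [] [.plain 686 17043521 false, .plain 410 17045585 false])) (.leaf (.eq 102 17043521 [] [.plain 687 32053343 false]))))))
(.node 7 (.node 3 (.node 1 (.leaf (.mov 25 13510735 true [.plain 688 19208275 true, .edge 681 1029 false])) (.node 1 (.leaf (.mov 25 32125001 true [.plain 237 32139359 true, .edge 689 1075 false])) (.leaf (.mov 25 13310023 true [.plain 238 13310027 true, .edge 690 1203 false]))))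
(.node 2 (.node 1 (.leaf (.mov 25 32131155 true [.plain 237 32116805 true, .edge 691 854 false])) (.leaf .dfn)) (.node 1 (.leaf (.mov 104 17043521 false [.edge 693 0 true])) (.leaf (.eqT 25 4808797 false [.plain 236 4810847 true, .edge 693 409 false] [.edge 693 0 false])))))
(.node 4 (.node 2 (.node 1 (.leaf (.eqT 25 4808797 false [.plain 237 4792397 true, .edge 693 1189 false] [.edge 693 0 false])) (.leaf (.eqT 25 4808797 false [.plain 238 4808793 true, .edge 693 1008 false] [.edge 693 0 false]))) (.node 1 (.leaf (.eqT 25 4808797 false [.plain 239 4798539 true, .edge 693 1150 false] [.edge 693 0 false])) (.leaf (.eqT 25 4808797 false [.plain 240 4808799 true, .edge 693 8 false] [.edge 693 0 false]))))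
(.node 2 (.node 1 (.leaf (.eqT 25 4808797 false [.plain 241 4808779 true, .edge 693 994 false] [.edge 693 0 false])) (.leaf (.eq 104 17043521 [] [.plain 700 17043541 false]))) (.node 1 (.leaf (.eq 104 17043521 [] [.plain 699 17043537 false])) (.leaf (.eq 104 17043521 [] [.plain 698 17698881 false]))))))))))

/-- The reasons. -/
def caseBFullSrcLLRR : Tab Src :=
(.node 117 (.node 58 (.node 29 (.node 14 (.node 7 (.node 3 (.node 1 (.leaf (.eq 104 17043521 [] [.plain 697 17043527 false])) (.node 1 (.leaf (.eq 104 17043521 [] [.plain 696 17109057 false])) (.leaf (.eq 104 17043521 [] [.plain 695 17567809 false]))))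
(.node 2 (.node 1 (.leaf .dfn) (.leaf (.mov 104 17043521 true [.plain 701 17043541 true, .edge 707 913 false]))) (.node 1 (.leaf (.mov 104 25385043 true [.plain 703 25450579 true, .edge 708 282 false])) (.leaf (.mov 104 19085399 true [.plain 701 19085387 true, .edge 709 1214 false])))))
(.node 3 (.node 1 (.leaf (.eqT 104 17059919 true [.plain 702 17059935 true, .edge 707 1015 false] [.edge 707 0 false])) (.node 1 (.leaf (.eqT 104 17043521 true [.plain 704 17043527 true, .edge 707 487 false] [.edge 708 0 false])) (.leaf (.eqT 104 17059919 true [.plain 705 17125455 true, .edge 707 496 false] [.edge 707 0 false]))))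
(.node 2 (.node 1 (.leaf (.eqT 104 17059919 true [.plain 706 17584207 true, .edge 707 1088 false] [.edge 707 0 false])) (.leaf (.eq 105 17043521 [] [.plain 714 17586243 false]))) (.node 1 (.leaf (.eq 105 17043521 [] [.plain 713 17125459 false])) (.leaf (.eq 105 17043521 [] [.plain 712 17053777 false]))))))
(.node 7 (.node 3 (.node 1 (.leaf (.eq 105 17043521 [] [.plain 711 17059905 false])) (.node 1 (.leaf .dfn) (.leaf (.mov 106 17043521 true [.edge 719 0 true]))))
(.node 2 (.node 1 (.leaf .dfn) (.leaf (.mov 107 17043521 true [.edge 721 0 true]))) (.node 1 (.leaf (.rel 13 28254299 5 [.edge 404 1238 false, .plain 410 19740763 false, .edge 693 1099 false, .edge 707 289 false, .mul, .edge 719 276 false, .mul, .edge 721 964 false, .mul])) (.leaf (.eq 107 17043521 [] [.plain 723 28188763 true])))))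
(.node 4 (.node 2 (.node 1 (.leaf (.eqT 13 13310023 true [.plain 724 17641539 true, .edge 722 289 false] [.edge 556 0 false])) (.leaf (.eq 106 17043521 [] [.plain 725 7284825 false]))) (.node 1 (.leaf (.mov 82 32131155 true [.plain 726 19748947 true, .edge 720 923 false])) (.leaf (.mov 82 32125001 true [.plain 564 21973057 true, .edge 727 1355 false]))))
(.node 2 (.node 1 (.leaf .dfn) (.leaf .dfn)) (.node 1 (.leaf (.mov 109 17043521 false [.edge 730 0 true])) (.leaf (.rel 18 29958217 0 [.edge 173 1454 false, .mul, .edge 729 884 false, .mul, .edge 730 36 false, .mul, .mul])))))))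
(.node 14 (.node 7 (.node 3 (.node 1 (.leaf (.eq 109 17043521 [] [.plain 732 19095633 true])) (.node 1 (.leaf (.eqT 18 29904967 false [.plain 733 17127491 true, .edge 731 1111 false] [.edge 176 0 false])) (.leaf (.eq 108 17043521 [] [.plain 734 19277897 false]))))
(.node 2 (.node 1 (.leaf .dfn) (.leaf .dfn)) (.node 1 (.leaf (.mov 111 17043521 true [.edge 737 0 true])) (.leaf (.rel 18 12800079 1 [.edge 272 122 false, .mul, .edge 736 647 false, .mul, .edge 737 1420 false, .mul, .mul])))))
(.node 3 (.node 1 (.leaf (.eq 111 17043521 [] [.plain 739 11032669 true])) (.node 1 (.leaf (.eqT 18 32125001 true [.plain 740 9203801 true, .edge 738 1063 false] [.edge 262 0 false])) (.leaf (.eq 110 17043521 [] [.plain 741 11286623 false]))))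
(.node 2 (.node 1 (.leaf .dfn) (.leaf (.mov 112 17043521 false [.edge 743 0 true]))) (.node 1 (.leaf (.mov 26 7292999 false [.plain 250 7290951 true, .edge 743 694 false])) (.leaf (.mov 26 6776923 false [.plain 252 6768731 true, .edge 745 1307 false]))))))
(.node 7 (.node 3 (.node 1 (.leaf (.mov 26 9056345 false [.plain 250 9058393 true, .edge 746 96 false])) (.node 1 (.leaf (.eqT 26 7292999 false [.plain 251 29507653 true, .edge 743 558 false] [.edge 745 0 false])) (.leaf (.eqT 26 9056345 false [.plain 253 11223109 true, .edge 743 1268 false] [.edge 747 0 false]))))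
(.node 2 (.node 1 (.leaf (.eq 112 17043521 [] [.plain 749 17528927 false])) (.leaf (.eq 112 17043521 [] [.plain 748 17576013 false]))) (.node 1 (.leaf .dfn) (.leaf (.mov 114 17043521 true [.edge 752 0 true])))))
(.node 4 (.node 2 (.node 1 (.leaf (.eqT 112 10971209 true [.plain 750 10643539 true, .edge 752 1281 false] [.edge 752 0 false])) (.leaf (.eqT 112 10971209 true [.plain 751 11495491 true, .edge 752 913 false] [.edge 752 0 false]))) (.node 1 (.leaf (.eq 114 17043521 [] [.plain 755 17068113 false])) (.leaf (.eq 114 17043521 [] [.plain 754 17051737 false]))))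
(.node 2 (.node 1 (.leaf .dfn) (.leaf (.mov 115 17043521 false [.edge 758 0 true]))) (.node 1 (.leaf (.rel 18 27402307 3 [.edge 267 53 false, .edge 746 33 false, .mul, .edge 752 1018 false, .mul, .edge 758 685 false, .mul])) (.leaf (.eq 115 17043521 [] [.plain 760 17133635 true]))))))))
(.node 29 (.node 14 (.node 7 (.node 3 (.node 1 (.leaf (.mov 18 32125001 false [.plain 761 17246281 true, .edge 759 860 false])) (.node 1 (.leaf (.mov 18 9056345 false [.plain 168 29636689 true, .edge 762 269 false])) (.leaf (.mov 18 23928925 false [.plain 168 13314123 true, .edge 763 113 false]))))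
(.node 2 (.node 1 (.leaf (.mov 18 10971209 false [.plain 168 4546627 true, .edge 764 671 false])) (.leaf (.mov 18 6776923 false [.plain 168 8609885 true, .edge 765 498 false]))) (.node 1 (.leaf (.mov 18 13310023 false [.plain 168 27660363 true, .edge 766 156 false])) (.leaf (.mov 18 7292999 false [.plain 169 28260421 true, .edge 767 1404 false])))))
(.node 3 (.node 1 (.leaf (.mov 18 31801425 false [.plain 168 21973071 true, .edge 768 1267 false])) (.node 1 (.leaf (.eqT 18 32125001 false [.plain 169 9070667 true, .edge 762 1441 false] [.edge 762 0 false])) (.leaf (.eqT 18 7292999 false [.plain 170 29505631 true, .edge 762 674 false] [.edge 768 0 false]))))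
(.node 2 (.node 1 (.leaf (.eq 114 17043521 [] [.plain 771 25522267 false])) (.leaf (.mov 114 17059919 true [.plain 772 8933465 true, .edge 753 92 false]))) (.node 1 (.leaf (.eq 114 17043521 [] [.plain 770 25851995 false])) (.leaf (.mov 114 13310023 true [.plain 774 8984665 true, .edge 753 94 false]))))))
(.node 7 (.node 3 (.node 1 (.leaf (.mov 114 32125001 true [.plain 756 32118871 true, .edge 775 1421 false])) (.node 1 (.leaf (.mov 114 32131155 true [.plain 757 32118873 true, .edge 776 731 false])) (.leaf (.mov 114 13510735 true [.plain 756 13527107 true, .edge 777 1313 false]))))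
(.node 2 (.node 1 (.leaf .dfn) (.leaf (.mov 116 17043521 true [.edge 779 0 true]))) (.node 1 (.leaf (.mov 112 17043521 true [.plain 750 17567813 true, .edge 779 63 false])) (.leaf (.mov 112 25385043 true [.plain 751 25450571 true, .edge 781 1498 false])))))
(.node 4 (.node 2 (.node 1 (.leaf (.mov 112 19085399 true [.plain 750 19544153 true, .edge 782 442 false])) (.leaf .dfn)) (.node 1 (.leaf (.mov 117 17043521 true [.edge 784 0 true])) (.leaf .dfn)))
(.node 2 (.node 1 (.leaf (.mov 118 17043521 true [.edge 786 0 true])) (.leaf (.rel 18 26171477 5 [.edge 264 117 false, .edge 747 543 false, .edge 779 802 false, .mul, .edge 784 1395 false, .mul, .edge 786 1358 false, .mul]))) (.node 1 (.leaf (.eq 118 17043521 [] [.plain 788 10698833 true])) (.leaf (.eqT 18 32131155 true [.plain 789 9244747 true, .edge 787 1172 false] [.edge 270 0 false])))))))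
(.node 15 (.node 7 (.node 3 (.node 1 (.leaf (.eq 117 17043521 [] [.plain 790 29960273 false])) (.node 1 (.leaf (.mov 26 11495495 true [.plain 791 27793491 true, .edge 785 640 false])) (.leaf (.mov 26 4808797 true [.plain 251 17000543 true, .edge 792 347 false]))))
(.node 2 (.node 1 (.leaf (.mov 26 29904967 true [.plain 252 29909063 true, .edge 793 758 false])) (.leaf (.mov 26 19085399 true [.plain 251 4730965 true, .edge 794 1002 false]))) (.node 1 (.leaf (.mov 26 10971209 true [.plain 253 8812621 true, .edge 795 877 false])) (.leaf (.mov 26 31801425 true [.plain 251 9324627 true, .edge 796 1149 false])))))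
(.node 4 (.node 2 (.node 1 (.leaf (.mov 26 4544593 true [.plain 252 4546641 true, .edge 797 1487 false])) (.leaf (.mov 26 25385043 true [.plain 251 5066833 true, .edge 798 1238 false]))) (.node 1 (.leaf (.eqT 26 25385043 true [.plain 250 25382995 true, .edge 799 974 false] [.edge 799 0 false])) (.leaf (.eq 116 17043521 [] [.plain 800 29827161 false]))))
(.node 2 (.node 1 (.leaf .dfn) (.leaf .dfn)) (.node 1 (.leaf (.mov 120 17043521 false [.edge 803 0 true])) (.leaf .dfn)))))
(.node 7 (.node 3 (.node 1 (.leaf (.mov 121 17043521 true [.edge 805 0 true])) (.node 1 (.leaf .dfn) (.leaf (.mov 122 17043521 true [.edge 807 0 true]))))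
(.node 2 (.node 1 (.leaf .dfn) (.leaf (.mov 123 17043521 true [.edge 809 0 true]))) (.node 1 (.leaf (.rel 18 25450575 5 [.edge 802 1285 false, .edge 803 1176 false, .edge 805 105 false, .mul, .edge 807 698 false, .mul, .edge 809 740 false, .mul])) (.leaf (.eq 123 17043521 [] [.plain 811 28196955 true])))))
(.node 4 (.node 2 (.node 1 (.leaf (.eqT 18 13510735 true [.plain 812 25507929 true, .edge 810 846 false] [.edge 265 0 false])) (.leaf (.eq 122 17043521 [] [.plain 813 19607641 false]))) (.node 1 (.leaf (.mov 26 32125001 true [.plain 814 11024467 true, .edge 808 73 false])) (.leaf .dfn)))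
(.node 2 (.node 1 (.leaf (.mov 19 32125001 false [.plain 181 31873103 true, .edge 816 1193 false])) (.leaf (.mov 19 13510735 false [.plain 181 12941397 true, .edge 817 1137 false]))) (.node 1 (.leaf (.mov 19 10971209 false [.plain 181 11350103 true, .edge 818 53 false])) (.leaf (.mov 19 4808797 false [.plain 182 4876381 true, .edge 818 1172 false])))))))))
(.node 59 (.node 29 (.node 14 (.node 7 (.node 3 (.node 1 (.leaf (.mov 19 7292999 false [.plain 181 6910029 true, .edge 820 113 false])) (.node 1 (.leaf (.mov 19 29904967 false [.plain 181 30034015 true, .edge 821 859 false])) (.leaf (.mov 19 31801425 false [.plain 181 31989845 true, .edge 822 156 false]))))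
(.node 2 (.node 1 (.leaf (.eqT 19 10971209 false [.plain 182 10707017 true, .edge 817 818 false] [.edge 819 0 false])) (.leaf (.eqT 19 27529303 false [.plain 183 27531341 true, .edge 816 970 false] [.edge 816 0 false]))) (.node 1 (.leaf (.eq 126 17043521 [] [.plain 825 17584221 false])) (.leaf (.eq 126 17043521 [] [.plain 824 17109069 false])))))
(.node 3 (.node 1 (.leaf .dfn) (.node 1 (.leaf .dfn) (.leaf (.mov 128 17043521 false [.edge 829 0 true]))))
(.node 2 (.node 1 (.leaf (.rel 19 13572161 0 [.edge 816 1066 false, .mul, .edge 828 477 false, .mul, .edge 829 1416 false, .mul, .mul])) (.leaf (.eq 128 17043521 [] [.plain 831 19732571 true]))) (.node 1 (.leaf (.eqT 19 13510735 false [.plain 832 17508427 true, .edge 830 1069 false] [.edge 818 0 false])) (.leaf (.eq 127 17043521 [] [.plain 833 19290179 false]))))))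
(.node 7 (.node 3 (.node 1 (.leaf .dfn) (.node 1 (.leaf (.mov 129 17043521 true [.edge 835 0 true])) (.leaf (.mov 19 32125001 true [.plain 181 31873103 true, .edge 835 1149 false]))))
(.node 2 (.node 1 (.leaf (.mov 19 4544593 true [.plain 182 4608081 true, .edge 837 853 false])) (.leaf (.mov 19 32131155 true [.plain 181 32069707 true, .edge 838 1114 false]))) (.node 1 (.leaf (.mov 19 31801425 true [.plain 182 32196689 true, .edge 839 1282 false])) (.leaf (.mov 19 4808797 true [.plain 181 4997203 true, .edge 840 289 false])))))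
(.node 4 (.node 2 (.node 1 (.leaf (.mov 19 13510735 true [.plain 182 13181007 true, .edge 841 752 false])) (.leaf (.mov 19 29904967 true [.plain 181 30034015 true, .edge 842 1044 false]))) (.node 1 (.leaf (.eqT 19 13510735 true [.plain 181 12941397 true, .edge 843 1435 false] [.edge 842 0 false])) (.leaf (.eqT 19 32125001 true [.plain 183 32127063 true, .edge 835 918 false] [.edge 837 0 false]))))
(.node 2 (.node 1 (.leaf (.eq 129 17043521 [] [.plain 845 25720907 false])) (.leaf (.eq 129 17043521 [] [.plain 844 25786441 false]))) (.node 1 (.leaf .dfn) (.leaf .dfn))))))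
(.node 15 (.node 7 (.node 3 (.node 1 (.leaf (.mov 131 17043521 true [.edge 849 0 true])) (.node 1 (.leaf (.rel 19 6715461 1 [.edge 835 1212 false, .mul, .edge 848 819 false, .mul, .edge 849 1066 false, .mul, .mul])) (.leaf (.eq 131 17043521 [] [.plain 851 19232839 true]))))
(.node 2 (.node 1 (.leaf (.eqT 19 32125001 true [.plain 852 25505883 true, .edge 850 1260 false] [.edge 837 0 false])) (.leaf (.eq 130 17043521 [] [.plain 853 9001039 false]))) (.node 1 (.leaf .dfn) (.leaf (.mov 132 17043521 true [.edge 855 0 true])))))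
(.node 4 (.node 2 (.node 1 (.leaf (.mov 19 17059919 true [.plain 181 17442883 true, .edge 855 95 false])) (.leaf (.eqT 19 17059919 true [.plain 183 17061983 true, .edge 857 301 false] [.edge 857 0 false]))) (.node 1 (.leaf (.eqT 19 10971209 true [.plain 182 10707017 true, .edge 855 896 false] [.edge 855 0 false])) (.leaf (.eqT 19 10971209 true [.plain 183 10969155 true, .edge 855 999 false] [.edge 855 0 false]))))
(.node 2 (.node 1 (.leaf (.eq 132 17043521 [] [.plain 860 19206235 false])) (.leaf (.eq 132 17043521 [] [.plain 859 19230785 false]))) (.node 1 (.leaf (.eq 132 17043521 [] [.plain 858 25704515 false])) (.leaf .dfn)))))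
(.node 7 (.node 3 (.node 1 (.leaf (.mov 132 4808797 false [.plain 861 6840393 true, .edge 864 944 false])) (.node 1 (.leaf (.eqT 132 4808797 false [.plain 862 6830173 true, .edge 864 1411 false] [.edge 865 0 false])) (.leaf (.eqT 132 29904967 false [.plain 863 29911109 true, .edge 864 1497 false] [.edge 864 0 false]))))
(.node 2 (.node 1 (.leaf (.eq 134 17043521 [] [.plain 867 17051737 false])) (.leaf (.eq 134 17043521 [] [.plain 866 16916545 false]))) (.node 1 (.leaf .dfn) (.leaf (.mov 22 4808797 false [.plain 203 4878427 true, .edge 870 806 false])))))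
(.node 4 (.node 2 (.node 1 (.leaf (.mov 22 29904967 false [.plain 204 29970521 true, .edge 871 1482 false])) (.leaf (.mov 22 27529303 false [.plain 203 27818063 true, .edge 872 1525 false]))) (.node 1 (.leaf (.mov 22 10971209 false [.plain 223 9252951 true, .edge 873 1061 false])) (.leaf (.mov 22 31801425 false [.plain 202 31799379 true, .edge 874 117 false]))))
(.node 2 (.node 1 (.leaf (.mov 22 7292999 false [.plain 205 7225415 true, .edge 875 1160 false])) (.leaf (.mov 22 32125001 false [.plain 202 32131147 true, .edge 876 201 false]))) (.node 1 (.leaf (.eqT 22 7292999 false [.plain 223 4812877 true, .edge 871 284 false] [.edge 876 0 false])) (.leaf (.eqT 22 32125001 false [.plain 223 29775951 true, .edge 870 948 false] [.edge 877 0 false]))))))))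
(.node 29 (.node 14 (.node 7 (.node 3 (.node 1 (.leaf (.eq 135 17043521 [] [.plain 879 17135683 false])) (.node 1 (.leaf (.eq 135 17043521 [] [.plain 878 16934997 false])) (.leaf .dfn)))
(.node 2 (.node 1 (.leaf (.mov 136 17043521 true [.edge 882 0 true])) (.leaf .dfn)) (.node 1 (.leaf (.mov 137 17043521 false [.edge 884 0 true])) (.leaf (.rel 19 11159639 3 [.edge 197 1146 false, .edge 870 158 false, .mul, .edge 882 598 false, .mul, .edge 884 1134 false, .mul])))))
(.node 3 (.node 1 (.leaf (.eq 137 17043521 [] [.plain 886 17176657 true])) (.node 1 (.leaf (.eqT 19 7292999 false [.plain 887 17051723 true, .edge 885 1448 false] [.edge 821 0 false])) (.leaf (.eq 136 17043521 [] [.plain 888 16932959 false]))))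
(.node 2 (.node 1 (.leaf (.mov 126 19085399 true [.plain 889 19230801 true, .edge 883 841 false])) (.leaf .dfn)) (.node 1 (.leaf (.eqT 129 17043521 false [.plain 846 17649731 true, .edge 891 909 false] [.edge 891 0 false])) (.leaf (.eqT 129 17043521 false [.plain 847 17127505 true, .edge 891 555 false] [.edge 891 0 false]))))))
(.node 7 (.node 3 (.node 1 (.leaf (.eq 138 17043521 [] [.plain 893 17127491 false])) (.node 1 (.leaf (.eq 138 17043521 [] [.plain 892 17569873 false])) (.leaf .dfn)))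
(.node 2 (.node 1 (.leaf (.mov 139 17043521 true [.edge 896 0 true])) (.leaf .dfn)) (.node 1 (.leaf (.mov 140 17043521 false [.edge 898 0 true])) (.leaf (.rel 19 32266325 3 [.edge 843 410 false, .edge 891 81 false, .mul, .edge 896 1097 false, .mul, .edge 898 507 false, .mul])))))
(.node 4 (.node 2 (.node 1 (.leaf (.eq 140 17043521 [] [.plain 900 16988253 true])) (.leaf (.eqT 19 9056345 false [.plain 901 17635419 true, .edge 899 1223 false] [.edge 627 0 false]))) (.node 1 (.leaf (.eq 139 17043521 [] [.plain 902 10963017 false])) (.leaf (.mov 95 17043521 true [.plain 903 9007177 true, .edge 897 328 false]))))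
(.node 2 (.node 1 (.leaf (.mov 95 25385043 true [.plain 633 25712723 true, .edge 904 272 false])) (.leaf .dfn)) (.node 1 (.leaf (.eqT 19 25385043 true [.plain 181 25890907 true, .edge 906 910 false] [.edge 906 0 false])) (.leaf (.eqT 19 25385043 true [.plain 182 26103891 true, .edge 906 767 false] [.edge 906 0 false])))))))
(.node 15 (.node 7 (.node 3 (.node 1 (.leaf (.eqT 19 25385043 true [.plain 183 25382987 true, .edge 906 1451 false] [.edge 906 0 false])) (.node 1 (.leaf (.eq 141 17043521 [] [.plain 909 19140683 false])) (.leaf (.eq 141 17043521 [] [.plain 908 27537473 false]))))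
(.node 2 (.node 1 (.leaf (.eq 141 17043521 [] [.plain 907 19159129 false])) (.leaf .dfn)) (.node 1 (.leaf (.mov 129 27529303 false [.plain 846 27818069 true, .edge 913 647 false])) (.leaf .dfn))))
(.node 4 (.node 2 (.node 1 (.leaf (.mov 146 17043521 true [.edge 915 0 true])) (.leaf .dfn)) (.node 1 (.leaf (.mov 147 17043521 false [.edge 917 0 true])) (.leaf (.rel 19 21841991 4 [.edge 841 628 false, .edge 913 259 false, .mul, .edge 915 1502 false, .mul, .edge 917 461 false, .mul]))))
(.node 2 (.node 1 (.leaf (.eq 147 17043521 [] [.plain 919 17702979 true])) (.leaf (.eqT 19 7292999 false [.plain 920 17508433 true, .edge 918 1204 false] [.edge 821 0 false]))) (.node 1 (.leaf (.eq 146 17043521 [] [.plain 921 17070147 false])) (.leaf (.mov 126 10971209 true [.plain 922 11014219 true, .edge 916 278 false]))))))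
(.node 7 (.node 3 (.node 1 (.leaf (.mov 126 11495495 true [.plain 826 11157577 true, .edge 923 593 false])) (.node 1 (.leaf (.mov 126 17059919 true [.plain 827 17440863 true, .edge 924 1275 false])) (.leaf (.mov 126 17043521 true [.plain 826 17584221 true, .edge 925 1277 false]))))
(.node 2 (.node 1 (.leaf .dfn) (.leaf (.mov 134 25385043 true [.plain 868 25378893 true, .edge 927 156 false]))) (.node 1 (.leaf (.mov 134 10971209 true [.plain 869 10975299 true, .edge 928 1041 false])) (.leaf (.mov 134 19085399 true [.plain 868 19079235 true, .edge 929 478 false])))))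
(.node 4 (.node 2 (.node 1 (.leaf .dfn) (.leaf .dfn)) (.node 1 (.leaf (.mov 150 17043521 true [.edge 932 0 true])) (.leaf (.rel 19 25694303 5 [.edge 857 172 false, .edge 865 1006 false, .edge 927 395 false, .mul, .edge 931 992 false, .mul, .edge 932 104 false, .mul]))))
(.node 2 (.node 1 (.leaf (.eq 150 17043521 [] [.plain 934 27740227 true])) (.leaf (.eqT 19 4808797 true [.plain 935 27621441 true, .edge 933 533 false] [.edge 841 0 false]))) (.node 1 (.leaf (.eq 149 17043521 [] [.plain 936 25892955 false])) (.leaf .dfn)))))))))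

/-- The reasons. -/
def caseBFullSrcLLR : Tab Src := .node 235 caseBFullSrcLLRL caseBFullSrcLLRR

/-- The reasons. -/
def caseBFullSrcLL : Tab Src := .node 469 caseBFullSrcLLL caseBFullSrcLLR

/-- The reasons. -/
def caseBFullSrcLRLL : Tab Src :=
(.node 117 (.node 58 (.node 29 (.node 14 (.node 7 (.node 3 (.node 1 (.leaf (.mov 151 17043521 false [.edge 938 0 true])) (.node 1 (.leaf (.eqT 129 19085399 false [.plain 846 19624021 true, .edge 938 1470 false] [.edge 938 0 false])) (.leaf (.eqT 129 19085399 false [.plain 847 19036229 true, .edge 938 683 false] [.edge 938 0 false]))))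
(.node 2 (.node 1 (.leaf (.eq 151 17043521 [] [.plain 941 17125443 false])) (.leaf (.eq 151 17043521 [] [.plain 940 17635411 false]))) (.node 1 (.leaf .dfn) (.leaf (.mov 152 17043521 true [.edge 944 0 true])))))
(.node 3 (.node 1 (.leaf .dfn) (.node 1 (.leaf (.mov 153 17043521 true [.edge 946 0 true])) (.leaf .dfn)))
(.node 2 (.node 1 (.leaf (.mov 154 17043521 true [.edge 948 0 true])) (.leaf (.rel 19 21393475 5 [.edge 837 340 false, .edge 938 1461 false, .edge 944 1175 false, .mul, .edge 946 488 false, .mul, .edge 948 678 false, .mul]))) (.node 1 (.leaf (.eq 154 17043521 [] [.plain 950 9390163 true])) (.leaf (.eqT 19 25385043 true [.plain 951 11032665 true, .edge 949 456 false] [.edge 906 0 false]))))))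
(.node 7 (.node 3 (.node 1 (.leaf (.eq 153 17043521 [] [.plain 952 25829459 false])) (.node 1 (.leaf (.mov 141 10971209 true [.plain 953 17659995 true, .edge 947 452 false])) (.leaf (.mov 141 11495495 true [.plain 910 9398363 true, .edge 954 427 false]))))
(.node 2 (.node 1 (.leaf (.mov 141 13310023 true [.plain 911 25903175 true, .edge 955 1492 false])) (.leaf (.mov 141 32125001 true [.plain 910 30027871 true, .edge 956 36 false]))) (.node 1 (.leaf (.mov 141 32131155 true [.plain 912 30027867 true, .edge 957 1184 false])) (.leaf (.mov 141 13510735 true [.plain 910 15607889 true, .edge 958 531 false])))))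
(.node 4 (.node 2 (.node 1 (.leaf (.mov 141 19085399 true [.plain 911 23273559 true, .edge 959 192 false])) (.leaf (.mov 141 25385043 true [.plain 910 27482199 true, .edge 960 1057 false]))) (.node 1 (.leaf .dfn) (.leaf (.mov 157 17043521 true [.edge 962 0 true]))))
(.node 2 (.node 1 (.leaf (.rel 22 27928645 1 [.edge 224 424 false, .mul, .edge 857 612 false, .mul, .edge 962 1168 false, .mul, .mul])) (.leaf (.eq 157 17043521 [] [.plain 964 25784391 true]))) (.node 1 (.leaf (.mov 22 10971209 true [.plain 965 27605083 true, .edge 963 1201 false])) (.leaf (.mov 22 17059919 true [.plain 223 19540035 true, .edge 966 13 false])))))))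
(.node 14 (.node 7 (.node 3 (.node 1 (.leaf .dfn) (.node 1 (.leaf (.mov 158 17043521 true [.edge 968 0 true])) (.leaf (.mov 22 4544593 true [.plain 202 4540499 true, .edge 968 212 false]))))
(.node 2 (.node 1 (.leaf (.mov 22 13510735 true [.plain 203 13178945 true, .edge 970 182 false])) (.leaf (.mov 22 13310023 true [.plain 202 13314117 true, .edge 971 1486 false]))) (.node 1 (.leaf (.mov 22 32125001 true [.plain 204 32190549 true, .edge 972 1124 false])) (.leaf (.mov 22 32131155 true [.plain 202 32125009 true, .edge 973 1158 false])))))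
(.node 3 (.node 1 (.leaf (.mov 22 29904967 true [.plain 203 29827161 true, .edge 974 612 false])) (.node 1 (.leaf (.mov 22 4808797 true [.plain 202 4812895 true, .edge 975 1331 false])) (.leaf .dfn)))
(.node 2 (.node 1 (.leaf .dfn) (.leaf (.mov 160 17043521 true [.edge 978 0 true]))) (.node 1 (.leaf (.rel 22 29911121 1 [.edge 968 671 false, .mul, .edge 977 1267 false, .mul, .edge 978 647 false, .mul, .mul])) (.leaf (.eq 160 17043521 [] [.plain 980 25522261 true]))))))
(.node 7 (.node 3 (.node 1 (.leaf (.eqT 22 4808797 true [.plain 981 25505883 true, .edge 979 1260 false] [.edge 976 0 false])) (.node 1 (.leaf (.eq 159 17043521 [] [.plain 982 9001039 false])) (.leaf .dfn)))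
(.node 2 (.node 1 (.leaf .dfn) (.leaf .dfn)) (.node 1 (.leaf (.mov 163 17043521 false [.edge 986 0 true])) (.leaf (.rel 22 28194895 3 [.edge 393 1192 false, .plain 399 11358299 false, .edge 412 88 false, .mul, .edge 985 1511 false, .mul, .edge 986 949 false, .mul])))))
(.node 4 (.node 2 (.node 1 (.leaf (.eq 163 17043521 [] [.plain 988 17127491 true])) (.leaf (.eqT 22 23928925 false [.plain 989 17002583 true, .edge 987 804 false] [.edge 412 0 false]))) (.node 1 (.leaf (.eq 162 17043521 [] [.plain 990 25829443 false])) (.leaf .dfn)))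
(.node 2 (.node 1 (.leaf (.mov 164 17043521 false [.edge 992 0 true])) (.leaf (.rel 22 19142739 4 [.edge 196 1018 false, .edge 729 836 false, .plain 735 17068113 false, .mul, .edge 855 957 false, .mul, .edge 992 528 false, .mul]))) (.node 1 (.leaf (.eq 164 17043521 [] [.plain 994 17782857 true])) (.leaf (.eqT 22 19085399 false [.plain 995 17135695 true, .edge 993 441 false] [.edge 400 0 false]))))))))
(.node 29 (.node 14 (.node 7 (.node 3 (.node 1 (.leaf (.eq 132 4941889 [] [.plain 996 17043521 false, .plain 441 17043521 false])) (.node 1 (.leaf (.eq 132 17043521 [] [.plain 997 28196929 false])) (.leaf (.mov 26 13310023 true [.plain 998 11081819 true, .edge 856 946 false]))))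
(.node 2 (.node 1 (.leaf (.mov 26 23928925 false [.plain 998 31989849 true, .edge 864 1500 false])) (.leaf (.mov 26 13310023 false [.plain 250 13307975 true, .edge 1000 214 false]))) (.node 1 (.leaf (.mov 26 10971209 false [.plain 251 12869707 true, .edge 1001 1283 false])) (.leaf (.eqT 26 32125001 true [.plain 998 19738703 true, .edge 962 763 false] [.edge 815 0 false])))))
(.node 3 (.node 1 (.leaf (.eq 157 19664977 [.plain 965 19664977 false] [.plain 1003 17043521 false])) (.node 1 (.leaf (.eq 121 17043521 [] [.plain 1004 29827163 true])) (.leaf (.eqT 22 17043521 true [.plain 1005 19165257 true, .edge 806 811 false] [.edge 196 0 false]))))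
(.node 2 (.node 1 (.leaf (.eq 120 17043521 [] [.plain 1006 17244235 false])) (.leaf (.eqT 19 17043521 false [.plain 1007 16922695 true, .edge 804 314 false] [.edge 172 0 false]))) (.node 1 (.leaf (.eq 119 17043521 [] [.plain 1008 11368515 false])) (.leaf .dfn)))))
(.node 7 (.node 3 (.node 1 (.leaf (.mov 165 17043521 true [.edge 1010 0 true])) (.node 1 (.leaf .dfn) (.leaf (.mov 166 17043521 true [.edge 1012 0 true]))))
(.node 2 (.node 1 (.leaf (.rel 22 25641037 5 [.edge 224 1224 false, .edge 816 452 false, .edge 923 300 false, .mul, .edge 1010 728 false, .mul, .edge 1012 859 false, .mul])) (.leaf (.eq 166 17043521 [] [.plain 1014 25894985 true]))) (.node 1 (.leaf (.eqT 22 13510735 true [.plain 1015 19683401 true, .edge 1013 656 false] [.edge 971 0 false])) (.leaf (.eq 165 17043521 [] [.plain 1016 6776911 false])))))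
(.node 4 (.node 2 (.node 1 (.leaf (.mov 158 25385043 true [.plain 1017 11302995 true, .edge 1011 429 false])) (.leaf .dfn)) (.node 1 (.leaf .dfn) (.leaf (.mov 168 17043521 true [.edge 1020 0 true]))))
(.node 2 (.node 1 (.leaf .dfn) (.leaf (.mov 169 17043521 true [.edge 1022 0 true]))) (.node 1 (.leaf .dfn) (.leaf (.mov 170 17043521 true [.edge 1024 0 true])))))))
(.node 15 (.node 7 (.node 3 (.node 1 (.leaf (.rel 22 6830157 5 [.edge 975 690 false, .edge 1019 312 false, .edge 1020 1127 false, .mul, .edge 1022 658 false, .mul, .edge 1024 871 false, .mul])) (.node 1 (.leaf (.eq 170 17043521 [] [.plain 1026 25567321 true])) (.leaf (.eqT 22 17059919 true [.plain 1027 27875409 true, .edge 1025 52 false] [.edge 967 0 false]))))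
(.node 2 (.node 1 (.leaf (.eq 169 13441115 [] [.plain 1028 17043521 false, .plain 998 25456733 false])) (.leaf (.eq 169 17043521 [] [.plain 1029 30087241 false]))) (.node 1 (.leaf (.eqT 26 29904967 true [.plain 1030 27621441 true, .edge 1023 533 false] [.edge 794 0 false])) (.leaf (.eq 168 17043521 [] [.plain 1031 31871055 false])))))
(.node 4 (.node 2 (.node 1 (.leaf (.mov 116 13510735 true [.plain 1032 27594833 true, .edge 1021 1167 false])) (.leaf (.mov 116 29904967 true [.plain 801 32129093 true, .edge 1033 224 false]))) (.node 1 (.leaf .dfn) (.leaf (.mov 25 31801425 false [.plain 236 31803475 true, .edge 1035 110 false]))))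
(.node 2 (.node 1 (.leaf (.mov 25 23928925 false [.plain 237 23937093 true, .edge 1036 415 false])) (.leaf (.mov 25 13310023 false [.plain 236 13307973 true, .edge 1037 181 false]))) (.node 1 (.leaf (.eqT 25 7292999 false [.plain 241 7293023 true, .edge 1035 1154 false] [.edge 1035 0 false])) (.leaf (.eq 171 17043521 [] [.plain 1039 17043549 false]))))))
(.node 7 (.node 3 (.node 1 (.leaf .dfn) (.node 1 (.leaf .dfn) (.leaf (.mov 177 17043521 true [.edge 1042 0 true]))))
(.node 2 (.node 1 (.leaf .dfn) (.leaf (.mov 178 17043521 true [.edge 1044 0 true]))) (.node 1 (.leaf (.rel 25 17569861 1 [.edge 1041 391 false, .mul, .edge 1042 505 false, .mul, .edge 1044 1429 false, .mul, .mul])) (.leaf (.eq 178 17043521 [] [.plain 1046 17125463 true])))))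
(.node 4 (.node 2 (.node 1 (.leaf (.eqT 25 17043521 true [.plain 1047 17651779 true, .edge 1045 914 false] [.edge 411 0 false])) (.leaf (.eq 177 17043521 [] [.plain 1048 17635421 false]))) (.node 1 (.leaf (.eqT 13 10971209 true [.plain 1049 11016275 true, .edge 1043 926 false] [.edge 404 0 false])) (.leaf (.eq 176 25524309 [] [.plain 1050 17043521 false, .plain 410 17045585 false]))))
(.node 2 (.node 1 (.leaf (.eq 176 17043521 [] [.plain 1051 27613261 false])) (.leaf .dfn)) (.node 1 (.leaf (.mov 179 17043521 false [.edge 1053 0 true])) (.leaf (.mov 26 19085399 false [.plain 251 4730965 true, .edge 1053 939 false])))))))))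
(.node 58 (.node 29 (.node 14 (.node 7 (.node 3 (.node 1 (.leaf (.mov 26 17043521 false [.plain 253 19230809 true, .edge 1055 938 false])) (.node 1 (.leaf .dfn) (.leaf (.mov 180 17043521 true [.edge 1057 0 true]))))
(.node 2 (.node 1 (.leaf (.mov 25 4808797 true [.plain 238 4808793 true, .edge 1057 878 false])) (.leaf (.mov 25 4544593 true [.plain 239 4546655 true, .edge 1059 1507 false]))) (.node 1 (.leaf (.mov 25 29904967 true [.plain 238 29904987 true, .edge 1060 138 false])) (.leaf (.eqT 25 29904967 true [.plain 236 29907013 true, .edge 1061 939 false] [.edge 1061 0 false])))))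
(.node 3 (.node 1 (.leaf (.eqT 25 29904967 true [.plain 237 29890645 true, .edge 1061 1340 false] [.edge 1061 0 false])) (.node 1 (.leaf (.eqT 25 31801425 true [.plain 240 31801427 true, .edge 1057 81 false] [.edge 1057 0 false])) (.leaf (.eqT 25 4808797 true [.plain 241 4808779 true, .edge 1057 242 false] [.edge 1059 0 false]))))
(.node 2 (.node 1 (.leaf (.eq 180 17043521 [] [.plain 1065 27881539 false])) (.leaf (.eq 180 17043521 [] [.plain 1064 17045569 false]))) (.node 1 (.leaf (.eq 180 17043521 [] [.plain 1063 25448513 false])) (.leaf (.eq 180 17043521 [] [.plain 1062 25712731 false]))))))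
(.node 7 (.node 3 (.node 1 (.leaf .dfn) (.node 1 (.leaf (.mov 181 17043521 false [.edge 1070 0 true])) (.leaf (.mov 180 29904967 false [.plain 1068 19880005 true, .edge 1070 939 false]))))
(.node 2 (.node 1 (.leaf (.mov 180 4808797 false [.plain 1069 6830155 true, .edge 1072 444 false])) (.leaf (.mov 180 17043521 false [.plain 1068 11081795 true, .edge 1073 471 false]))) (.node 1 (.leaf (.eqT 180 17043521 false [.plain 1066 17068097 true, .edge 1074 1393 false] [.edge 1074 0 false])) (.leaf (.eqT 180 17043521 false [.plain 1067 17045569 true, .edge 1074 520 false] [.edge 1074 0 false])))))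
(.node 4 (.node 2 (.node 1 (.leaf (.eq 181 17043521 [] [.plain 1076 17135697 false])) (.leaf (.eq 181 17043521 [] [.plain 1075 17770577 false]))) (.node 1 (.leaf .dfn) (.leaf (.mov 182 17043521 true [.edge 1079 0 true]))))
(.node 2 (.node 1 (.leaf .dfn) (.leaf (.mov 183 17043521 false [.edge 1081 0 true]))) (.node 1 (.leaf (.rel 25 31737945 3 [.edge 1057 1294 false, .edge 1070 1471 false, .mul, .edge 1079 49 false, .mul, .edge 1081 138 false, .mul])) (.leaf (.eq 183 17043521 [] [.plain 1083 17641553 true])))))))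
(.node 14 (.node 7 (.node 3 (.node 1 (.leaf (.eqT 25 7292999 false [.plain 1084 17176665 true, .edge 1082 812 false] [.edge 1035 0 false])) (.node 1 (.leaf (.eq 182 17043521 [] [.plain 1085 25514069 false])) (.leaf (.mov 171 17059919 true [.plain 1086 27605083 true, .edge 1080 1201 false]))))
(.node 2 (.node 1 (.leaf (.mov 171 17043521 true [.plain 1040 17043549 true, .edge 1087 966 false])) (.leaf .dfn)) (.node 1 (.leaf (.mov 101 9056345 false [.plain 678 9375833 true, .edge 1089 699 false])) (.leaf (.mov 101 13310023 false [.plain 679 13246535 true, .edge 1090 685 false])))))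
(.node 3 (.node 1 (.leaf (.mov 101 23928925 false [.plain 678 23558237 true, .edge 1091 1130 false])) (.node 1 (.leaf .dfn) (.leaf .dfn)))
(.node 2 (.node 1 (.leaf (.mov 186 17043521 false [.edge 1094 0 true])) (.leaf (.rel 25 30087237 3 [.edge 691 1277 false, .edge 1089 303 false, .mul, .edge 1093 1176 false, .mul, .edge 1094 283 false, .mul]))) (.node 1 (.leaf (.eq 186 17043521 [] [.plain 1096 17125459 true])) (.leaf (.eqT 25 13310023 false [.plain 1097 17649745 true, .edge 1095 985 false] [.edge 1038 0 false]))))))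
(.node 7 (.node 3 (.node 1 (.leaf (.eq 185 17043521 [] [.plain 1098 26097745 false])) (.node 1 (.leaf .dfn) (.leaf .dfn)))
(.node 2 (.node 1 (.leaf (.mov 188 17043521 false [.edge 1101 0 true])) (.leaf (.rel 25 27924567 4 [.edge 244 1333 false, .edge 1053 279 false, .mul, .edge 1100 403 false, .mul, .edge 1101 1106 false, .mul]))) (.node 1 (.leaf (.eq 188 17043521 [] [.plain 1103 17715293 true])) (.leaf (.eqT 25 23928925 false [.plain 1104 17262657 true, .edge 1102 534 false] [.edge 1037 0 false])))))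
(.node 4 (.node 2 (.node 1 (.leaf (.eq 187 17043521 [] [.plain 1105 17262657 false])) (.leaf .dfn)) (.node 1 (.leaf (.mov 92 11495495 true [.plain 614 11495507 true, .edge 1107 1127 false])) (.leaf (.mov 92 25385043 true [.plain 615 25380951 true, .edge 1108 1073 false]))))
(.node 2 (.node 1 (.leaf (.mov 92 19085399 true [.plain 614 19085379 true, .edge 1109 975 false])) (.leaf (.eqT 92 19085399 true [.plain 612 19085381 true, .edge 1110 71 false] [.edge 1110 0 false]))) (.node 1 (.leaf (.eqT 92 19085399 true [.plain 613 19083349 true, .edge 1110 496 false] [.edge 1110 0 false])) (.leaf (.eqT 92 10971209 true [.plain 616 10960963 true, .edge 1107 1486 false] [.edge 1107 0 false]))))))))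
(.node 29 (.node 14 (.node 7 (.node 3 (.node 1 (.leaf (.eq 192 17043521 [] [.plain 1113 8919107 false])) (.node 1 (.leaf (.eq 192 17043521 [] [.plain 1112 27816009 false])) (.leaf (.eq 192 17043521 [] [.plain 1111 27883601 false]))))
(.node 2 (.node 1 (.leaf .dfn) (.leaf (.mov 193 17043521 true [.edge 1117 0 true]))) (.node 1 (.leaf .dfn) (.leaf (.mov 194 17043521 true [.edge 1119 0 true])))))
(.node 3 (.node 1 (.leaf (.rel 25 27613271 5 [.edge 1041 567 false, .plain 1052 8984659 false, .edge 606 556 false, .edge 1107 79 false, .mul, .edge 1117 288 false, .mul, .edge 1119 247 false, .mul])) (.node 1 (.leaf (.eq 194 17043521 [] [.plain 1121 28000337 true])) (.leaf (.eqT 25 32131155 true [.plain 1122 27867227 true, .edge 1120 1330 false] [.edge 692 0 false]))))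
(.node 2 (.node 1 (.leaf (.eq 193 17043521 [] [.plain 1123 6977601 false])) (.leaf (.mov 101 17059919 true [.plain 1124 19673161 true, .edge 1118 639 false]))) (.node 1 (.leaf .dfn) (.leaf .dfn)))))
(.node 7 (.node 3 (.node 1 (.leaf (.mov 196 17043521 false [.edge 1127 0 true])) (.node 1 (.leaf (.rel 26 23873611 0 [.edge 745 969 false, .mul, .edge 1126 1394 false, .mul, .edge 1127 1041 false, .mul, .mul])) (.leaf (.eq 196 17043521 [] [.plain 1129 19800131 true]))))
(.node 2 (.node 1 (.leaf (.eqT 26 31801425 false [.plain 1130 17242185 true, .edge 1128 293 false] [.edge 743 0 false])) (.leaf (.eq 195 17043521 [] [.plain 1131 19013703 false]))) (.node 1 (.leaf .dfn) (.leaf .dfn))))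
(.node 4 (.node 2 (.node 1 (.leaf (.mov 200 17043521 true [.edge 1134 0 true])) (.leaf (.rel 26 23357505 1 [.edge 797 268 false, .mul, .edge 1133 274 false, .mul, .edge 1134 494 false, .mul, .mul]))) (.node 1 (.leaf (.eq 200 17043521 [] [.plain 1136 8984663 true])) (.leaf (.eqT 26 4808797 true [.plain 1137 17051715 true, .edge 1135 955 false] [.edge 793 0 false]))))
(.node 2 (.node 1 (.leaf (.eq 199 17043521 [] [.plain 1138 17061957 false])) (.leaf .dfn)) (.node 1 (.leaf (.mov 201 17043521 false [.edge 1140 0 true])) (.leaf (.mov 116 9056345 false [.plain 801 10899547 true, .edge 1140 1235 false])))))))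
(.node 15 (.node 7 (.node 3 (.node 1 (.leaf .dfn) (.node 1 (.leaf (.mov 202 17043521 true [.edge 1143 0 true])) (.leaf .dfn)))
(.node 2 (.node 1 (.leaf (.mov 203 17043521 false [.edge 1145 0 true])) (.leaf (.rel 26 26091609 3 [.edge 796 378 false, .edge 1140 225 false, .mul, .edge 1143 779 false, .mul, .edge 1145 293 false, .mul]))) (.node 1 (.leaf (.eq 203 17043521 [] [.plain 1147 17117265 true])) (.leaf (.eqT 26 10971209 false [.plain 1148 17592403 true, .edge 1146 965 false] [.edge 1002 0 false])))))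
(.node 4 (.node 2 (.node 1 (.leaf (.eq 202 17043521 [] [.plain 1149 25851977 false])) (.leaf (.eqT 134 11495495 true [.plain 1150 19681361 true, .edge 1144 1329 false] [.edge 927 0 false]))) (.node 1 (.leaf (.eq 201 17043521 [] [.plain 1151 23275587 false])) (.leaf (.mov 148 13510735 false [.plain 1152 17070157 true, .edge 1141 492 false]))))
(.node 2 (.node 1 (.leaf .dfn) (.leaf .dfn)) (.node 1 (.leaf (.mov 212 17043521 false [.edge 1155 0 true])) (.leaf (.rel 26 32192579 4 [.edge 815 903 false, .plain 1005 25915463 false, .edge 875 32 false, .mul, .edge 1154 644 false, .mul, .edge 1155 251 false, .mul]))))))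
(.node 7 (.node 3 (.node 1 (.leaf (.eq 212 17043521 [] [.plain 1157 17195073 true])) (.node 1 (.leaf (.eqT 26 10971209 false [.plain 1158 17178699 true, .edge 1156 512 false] [.edge 1002 0 false])) (.leaf (.eq 211 17043521 [] [.plain 1159 17784901 false]))))
(.node 2 (.node 1 (.leaf .dfn) (.leaf (.mov 217 17043521 true [.edge 1161 0 true]))) (.node 1 (.leaf .dfn) (.leaf (.mov 218 17043521 true [.edge 1163 0 true])))))
(.node 4 (.node 2 (.node 1 (.leaf .dfn) (.leaf (.mov 219 17043521 true [.edge 1165 0 true]))) (.node 1 (.leaf (.rel 26 6645855 5 [.edge 793 1242 false, .edge 1142 169 false, .plain 1152 17068109 false, .edge 1161 12 false, .mul, .edge 1163 862 false, .mul, .edge 1165 57 false, .mul])) (.leaf (.eq 219 17043521 [] [.plain 1167 10971211 true]))))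
(.node 2 (.node 1 (.leaf (.eqT 26 19085399 true [.plain 1168 25505857 true, .edge 1166 897 false] [.edge 795 0 false])) (.leaf (.eq 218 17043521 [] [.plain 1169 23537737 false]))) (.node 1 (.leaf (.mov 116 4544593 true [.plain 1170 11030601 true, .edge 1164 645 false])) (.leaf .dfn)))))))))

/-- The reasons. -/
def caseBFullSrcLRLR : Tab Src :=
(.node 117 (.node 58 (.node 29 (.node 14 (.node 7 (.node 3 (.node 1 (.leaf (.mov 29 10971209 false [.plain 286 11415623 true, .edge 1172 439 false])) (.node 1 (.leaf (.mov 29 27529303 false [.plain 286 27928671 true, .edge 1173 1073 false])) (.leaf (.mov 29 31801425 false [.plain 288 31858775 true, .edge 1174 1146 false]))))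
(.node 2 (.node 1 (.leaf (.mov 29 4808797 false [.plain 286 4603983 true, .edge 1175 643 false])) (.leaf (.mov 29 9056345 false [.plain 286 9001037 true, .edge 1176 604 false]))) (.node 1 (.leaf (.eqT 29 27529303 false [.plain 288 28190787 true, .edge 1173 792 false] [.edge 1174 0 false])) (.leaf (.eqT 29 9056345 false [.plain 288 8607819 true, .edge 1172 248 false] [.edge 1177 0 false])))))
(.node 3 (.node 1 (.leaf (.eq 220 17043521 [] [.plain 1179 17176671 false])) (.node 1 (.leaf (.eq 220 17043521 [] [.plain 1178 17444929 false])) (.leaf .dfn)))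
(.node 2 (.node 1 (.leaf (.eqT 220 19085399 false [.plain 1181 19081311 true, .edge 1182 1485 false] [.edge 1182 0 false])) (.leaf (.eq 221 17043521 [] [.plain 1183 17240153 false]))) (.node 1 (.leaf .dfn) (.leaf (.mov 222 17043521 false [.edge 1185 0 true]))))))
(.node 7 (.node 3 (.node 1 (.leaf (.rel 29 4616269 0 [.edge 1172 1165 false, .mul, .edge 1182 1266 false, .mul, .edge 1185 547 false, .mul, .mul])) (.node 1 (.leaf (.eq 222 17043521 [] [.plain 1187 19800157 true])) (.leaf (.mov 29 23928925 false [.plain 1188 17508427 true, .edge 1186 1069 false]))))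
(.node 2 (.node 1 (.leaf (.mov 29 32125001 false [.plain 286 31610973 true, .edge 1189 380 false])) (.leaf (.mov 29 13510735 false [.plain 286 13400147 true, .edge 1190 1302 false]))) (.node 1 (.leaf (.mov 29 7292999 false [.plain 288 7041103 true, .edge 1191 1163 false])) (.leaf (.mov 29 29904967 false [.plain 286 30230615 true, .edge 1192 1222 false])))))
(.node 4 (.node 2 (.node 1 (.leaf (.mov 29 6776923 false [.plain 286 6828117 true, .edge 1193 124 false])) (.leaf .dfn)) (.node 1 (.leaf .dfn) (.leaf (.mov 224 17043521 true [.edge 1196 0 true]))))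
(.node 2 (.node 1 (.leaf (.rel 29 19337291 1 [.edge 343 350 false, .mul, .edge 1195 1131 false, .mul, .edge 1196 741 false, .mul, .mul])) (.leaf (.eq 224 17043521 [] [.plain 1198 27603013 true]))) (.node 1 (.leaf (.eqT 29 19085399 true [.plain 1199 27531353 true, .edge 1197 784 false] [.edge 344 0 false])) (.leaf (.eq 223 17043521 [] [.plain 1200 8941663 false])))))))
(.node 14 (.node 7 (.node 3 (.node 1 (.leaf .dfn) (.node 1 (.leaf (.mov 29 32131155 true [.plain 286 32331847 true, .edge 1202 1384 false])) (.leaf (.mov 29 31801425 true [.plain 286 31662171 true, .edge 1203 781 false]))))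
(.node 2 (.node 1 (.leaf (.mov 29 4544593 true [.plain 286 5054555 true, .edge 1204 770 false])) (.leaf (.mov 29 13510735 true [.plain 286 13400147 true, .edge 1205 289 false]))) (.node 1 (.leaf (.mov 29 4808797 true [.plain 286 4603983 true, .edge 1206 102 false])) (.leaf (.mov 29 13310023 true [.plain 288 12865625 true, .edge 1205 1198 false])))))
(.node 3 (.node 1 (.leaf (.mov 29 32125001 true [.plain 286 31610973 true, .edge 1208 910 false])) (.node 1 (.leaf (.eqT 29 4808797 true [.plain 288 5193809 true, .edge 1203 235 false] [.edge 1207 0 false])) (.leaf (.eqT 29 4544593 true [.plain 287 4544581 true, .edge 1202 38 false] [.edge 1205 0 false]))))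
(.node 2 (.node 1 (.leaf (.eqT 29 32125001 true [.plain 288 32004173 true, .edge 1202 860 false] [.edge 1209 0 false])) (.leaf (.eq 225 17043521 [] [.plain 1212 17070147 false]))) (.node 1 (.leaf (.eq 225 17043521 [] [.plain 1211 25434185 false])) (.leaf (.eq 225 17043521 [] [.plain 1210 11302993 false]))))))
(.node 7 (.node 3 (.node 1 (.leaf .dfn) (.node 1 (.leaf (.mov 225 13510735 false [.plain 1213 29907011 true, .edge 1216 592 false])) (.leaf (.mov 225 17043521 false [.plain 1213 9187409 true, .edge 1217 392 false]))))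
(.node 2 (.node 1 (.leaf (.eqT 225 29904967 false [.plain 1214 29909063 true, .edge 1216 1371 false] [.edge 1216 0 false])) (.leaf (.eqT 225 29904967 false [.plain 1215 13117509 true, .edge 1216 530 false] [.edge 1216 0 false]))) (.node 1 (.leaf (.eq 226 17043521 [] [.plain 1220 17117273 false])) (.leaf (.eq 226 17043521 [] [.plain 1219 17068121 false])))))
(.node 4 (.node 2 (.node 1 (.leaf .dfn) (.leaf (.mov 39 6776923 false [.plain 330 6643803 true, .edge 1223 238 false]))) (.node 1 (.leaf .dfn) (.leaf (.mov 39 13310023 false [.plain 330 13373511 true, .edge 1225 249 false]))))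
(.node 2 (.node 1 (.leaf .dfn) (.leaf (.mov 229 17043521 true [.edge 1227 0 true]))) (.node 1 (.leaf .dfn) (.leaf (.mov 230 17043521 false [.edge 1229 0 true]))))))))
(.node 29 (.node 14 (.node 7 (.node 3 (.node 1 (.leaf (.rel 29 25505879 3 [.edge 342 1501 false, .edge 1225 493 false, .mul, .edge 1227 202 false, .mul, .edge 1229 1437 false, .mul])) (.node 1 (.leaf (.eq 230 17043521 [] [.plain 1231 17508433 true])) (.leaf (.eqT 29 27529303 false [.plain 1232 17195099 true, .edge 1230 576 false] [.edge 1174 0 false]))))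
(.node 2 (.node 1 (.leaf (.eq 229 17043521 [] [.plain 1233 19624017 false])) (.leaf (.mov 220 17059919 true [.plain 1234 19757121 true, .edge 1228 983 false]))) (.node 1 (.leaf (.mov 220 17043521 true [.plain 1180 17068117 true, .edge 1235 668 false])) (.leaf .dfn))))
(.node 3 (.node 1 (.leaf (.mov 231 17043521 true [.edge 1237 0 true])) (.node 1 (.leaf .dfn) (.leaf (.mov 232 17043521 false [.edge 1239 0 true]))))
(.node 2 (.node 1 (.leaf (.rel 29 5064785 3 [.edge 1204 490 false, .edge 1218 1448 false, .mul, .edge 1237 1048 false, .mul, .edge 1239 528 false, .mul])) (.leaf (.eq 232 17043521 [] [.plain 1241 17700945 true]))) (.node 1 (.leaf (.eqT 29 7292999 false [.plain 1242 17567815 true, .edge 1240 919 false] [.edge 1192 0 false])) (.leaf (.eq 231 17043521 [] [.plain 1243 17061957 false]))))))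
(.node 7 (.node 3 (.node 1 (.leaf (.mov 221 17059919 true [.plain 1244 19681347 true, .edge 1238 861 false])) (.node 1 (.leaf (.mov 221 19085399 true [.plain 1184 19216463 true, .edge 1245 236 false])) (.leaf (.mov 221 17043521 true [.plain 1184 17240159 true, .edge 1246 2 false]))))
(.node 2 (.node 1 (.leaf (.mov 221 25385043 true [.plain 1184 25778265 true, .edge 1247 684 false])) (.leaf .dfn)) (.node 1 (.leaf (.mov 233 17043521 false [.edge 1249 0 true])) (.leaf (.mov 225 4808797 false [.plain 1213 19605593 true, .edge 1249 718 false])))))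
(.node 4 (.node 2 (.node 1 (.leaf (.mov 225 27529303 false [.plain 1213 8990797 true, .edge 1251 329 false])) (.leaf .dfn)) (.node 1 (.leaf (.mov 234 17043521 true [.edge 1253 0 true])) (.leaf .dfn)))
(.node 2 (.node 1 (.leaf (.mov 235 17043521 false [.edge 1255 0 true])) (.leaf (.rel 29 4679763 4 [.edge 1203 1487 false, .edge 1249 216 false, .mul, .edge 1253 1445 false, .mul, .edge 1255 1367 false, .mul]))) (.node 1 (.leaf (.eq 235 17043521 [] [.plain 1257 17569865 true])) (.leaf (.eqT 29 9056345 false [.plain 1258 17246277 true, .edge 1256 298 false] [.edge 1177 0 false])))))))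
(.node 15 (.node 7 (.node 3 (.node 1 (.leaf (.eq 234 17043521 [] [.plain 1259 25786447 false])) (.node 1 (.leaf (.mov 220 11495495 true [.plain 1260 19664977 true, .edge 1254 1530 false])) (.leaf (.mov 220 25385043 true [.plain 1180 25370717 true, .edge 1261 1526 false]))))
(.node 2 (.node 1 (.leaf (.mov 220 10971209 true [.plain 1180 10975321 true, .edge 1262 742 false])) (.leaf (.mov 220 19085399 true [.plain 1180 19097675 true, .edge 1263 531 false]))) (.node 1 (.leaf .dfn) (.leaf (.mov 226 10971209 true [.plain 1221 10901583 true, .edge 1265 1083 false])))))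
(.node 4 (.node 2 (.node 1 (.leaf (.eqT 226 19085399 true [.plain 1221 19015745 true, .edge 1266 1259 false] [.edge 1265 0 false])) (.leaf (.eqT 226 10971209 true [.plain 1222 10975309 true, .edge 1265 129 false] [.edge 1266 0 false]))) (.node 1 (.leaf (.eq 236 17043521 [] [.plain 1268 27545689 false])) (.leaf (.eq 236 17043521 [] [.plain 1267 17125459 false]))))
(.node 2 (.node 1 (.leaf .dfn) (.leaf (.mov 237 17043521 true [.edge 1271 0 true]))) (.node 1 (.leaf .dfn) (.leaf (.mov 238 17043521 true [.edge 1273 0 true]))))))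
(.node 7 (.node 3 (.node 1 (.leaf (.rel 29 4726855 5 [.edge 1207 393 false, .edge 1216 722 false, .edge 1265 757 false, .mul, .edge 1271 1339 false, .mul, .edge 1273 1059 false, .mul])) (.node 1 (.leaf (.eq 238 17043521 [] [.plain 1275 25837651 true])) (.leaf (.eqT 29 17043521 true [.plain 1276 17584193 true, .edge 1274 286 false] [.edge 346 0 false]))))
(.node 2 (.node 1 (.leaf (.eq 237 17043521 [] [.plain 1277 7221313 false])) (.leaf (.mov 39 4808797 true [.plain 1278 27859019 true, .edge 1272 70 false]))) (.node 1 (.leaf (.mov 39 13510735 true [.plain 330 13181007 true, .edge 1279 752 false])) (.leaf (.mov 39 4544593 true [.plain 331 4857935 true, .edge 1280 508 false])))))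
(.node 4 (.node 2 (.node 1 (.leaf (.mov 39 32125001 true [.plain 330 31733833 true, .edge 1281 853 false])) (.leaf (.mov 39 31801425 true [.plain 332 31873105 true, .edge 1282 1058 false]))) (.node 1 (.leaf (.mov 39 32131155 true [.plain 330 31735891 true, .edge 1283 1282 false])) (.leaf (.mov 39 29904967 true [.plain 331 30099521 true, .edge 1284 301 false]))))
(.node 2 (.node 1 (.leaf (.mov 39 13310023 true [.plain 330 13373511 true, .edge 1285 542 false])) (.leaf .dfn)) (.node 1 (.leaf (.mov 39 29904967 false [.plain 330 29841479 true, .edge 1287 777 false])) (.leaf (.mov 39 7292999 false [.plain 331 6844489 true, .edge 1288 1044 false])))))))))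
(.node 59 (.node 29 (.node 14 (.node 7 (.node 3 (.node 1 (.leaf (.mov 39 31801425 false [.plain 330 32196689 true, .edge 1289 1098 false])) (.node 1 (.leaf (.mov 39 4808797 false [.plain 331 5062741 true, .edge 1290 1239 false])) (.leaf (.mov 39 13510735 false [.plain 330 13181007 true, .edge 1291 19 false]))))
(.node 2 (.node 1 (.leaf (.mov 39 32125001 false [.plain 331 31938643 true, .edge 1292 1247 false])) (.leaf (.mov 39 10971209 false [.plain 330 10707017 true, .edge 1293 818 false]))) (.node 1 (.leaf .dfn) (.leaf (.rel 39 19544151 3 [.edge 333 1128 false, .plain 340 17635395 false, .edge 289 580 false, .plain 295 17766483 false, .mul, .edge 346 411 false, .mul, .edge 1295 1041 false, .mul])))))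
(.node 3 (.node 1 (.leaf (.eq 251 17043521 [] [.plain 1296 17193037 true])) (.node 1 (.leaf .dfn) (.leaf (.mov 252 17043521 false [.edge 1298 0 true]))))
(.node 2 (.node 1 (.leaf (.mov 42 17043521 false [.plain 355 11081819 true, .edge 1298 1355 false])) (.leaf (.mov 42 19085399 false [.plain 356 16922711 true, .edge 1300 1012 false]))) (.node 1 (.leaf (.mov 42 29904967 false [.plain 355 19880009 true, .edge 1301 1203 false])) (.leaf (.mov 42 10971209 false [.plain 375 23617623 true, .edge 1302 1236 false]))))))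
(.node 7 (.node 3 (.node 1 (.leaf (.mov 42 13310023 false [.plain 355 21434463 true, .edge 1303 129 false])) (.node 1 (.leaf (.mov 42 23928925 false [.plain 356 21766237 true, .edge 1304 560 false])) (.leaf (.mov 42 32125001 false [.plain 355 24000577 true, .edge 1305 188 false]))))
(.node 2 (.node 1 (.leaf (.eqT 42 17043521 false [.plain 357 11106395 true, .edge 1298 41 false] [.edge 1300 0 false])) (.leaf (.eq 252 17043521 [] [.plain 1307 17786975 false]))) (.node 1 (.leaf .dfn) (.leaf .dfn))))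
(.node 4 (.node 2 (.node 1 (.leaf (.mov 254 17043521 false [.edge 1310 0 true])) (.leaf (.rel 39 27992157 4 [.edge 351 730 false, .edge 1298 494 false, .mul, .edge 1309 443 false, .mul, .edge 1310 676 false, .mul]))) (.node 1 (.leaf (.eq 254 17043521 [] [.plain 1312 17135705 true])) (.leaf (.eqT 39 32125001 false [.plain 1313 17262669 true, .edge 1311 680 false] [.edge 1293 0 false]))))
(.node 2 (.node 1 (.leaf (.eq 253 17043521 [] [.plain 1314 25784409 false])) (.leaf .dfn)) (.node 1 (.leaf (.mov 236 32125001 false [.plain 1269 31737941 true, .edge 1316 971 false])) (.leaf (.eqT 236 32125001 false [.plain 1270 32196693 true, .edge 1316 290 false] [.edge 1317 0 false])))))))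
(.node 15 (.node 7 (.node 3 (.node 1 (.leaf (.eq 260 17043521 [] [.plain 1318 17459277 false])) (.node 1 (.leaf .dfn) (.leaf (.mov 261 17043521 true [.edge 1320 0 true]))))
(.node 2 (.node 1 (.leaf .dfn) (.leaf (.mov 262 17043521 true [.edge 1322 0 true]))) (.node 1 (.leaf .dfn) (.leaf (.mov 263 17043521 true [.edge 1324 0 true])))))
(.node 4 (.node 2 (.node 1 (.leaf (.rel 39 6905925 5 [.edge 1279 230 false, .edge 1316 596 false, .edge 1320 591 false, .mul, .edge 1322 829 false, .mul, .edge 1324 432 false, .mul])) (.leaf (.eq 263 17043521 [] [.plain 1326 25894995 true]))) (.node 1 (.leaf (.eqT 39 17043521 true [.plain 1327 25776201 true, .edge 1325 604 false] [.edge 353 0 false])) (.leaf (.eq 262 17043521 [] [.plain 1328 7020621 false]))))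
(.node 2 (.node 1 (.leaf (.mov 42 11495495 true [.plain 1329 11032641 true, .edge 1323 1418 false])) (.leaf (.mov 42 31801425 true [.plain 355 9324615 true, .edge 1330 1490 false]))) (.node 1 (.leaf (.mov 42 19085399 true [.plain 357 4743233 true, .edge 1331 592 false])) (.leaf (.mov 42 4544593 true [.plain 355 8605789 true, .edge 1332 322 false]))))))
(.node 7 (.node 3 (.node 1 (.leaf .dfn) (.node 1 (.leaf (.mov 266 17043521 true [.edge 1334 0 true])) (.leaf .dfn)))
(.node 2 (.node 1 (.leaf (.mov 267 17043521 true [.edge 1336 0 true])) (.leaf (.rel 42 21325899 1 [.edge 1331 1249 false, .mul, .edge 1334 1485 false, .mul, .edge 1336 146 false, .mul, .mul]))) (.node 1 (.leaf (.eq 267 17043521 [] [.plain 1338 27605061 true])) (.leaf (.eqT 42 4808797 true [.plain 1339 27883601 true, .edge 1337 569 false] [.edge 457 0 false])))))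
(.node 4 (.node 2 (.node 1 (.leaf (.eq 266 17043521 [] [.plain 1340 25694287 false])) (.leaf (.eqT 53 17059919 true [.plain 1341 19683403 true, .edge 1335 74 false] [.edge 523 0 false]))) (.node 1 (.leaf (.eq 261 17043521 [] [.plain 1342 21895261 false])) (.leaf (.mov 67 13310023 true [.plain 1343 11276369 true, .edge 1321 911 false]))))
(.node 2 (.node 1 (.leaf (.mov 67 29904967 true [.plain 485 29841477 true, .edge 1344 885 false])) (.leaf (.mov 67 13510735 true [.plain 486 13113423 true, .edge 1345 1428 false]))) (.node 1 (.leaf (.mov 67 4808797 true [.plain 485 4876383 true, .edge 1346 1205 false])) (.leaf (.mov 67 17059919 true [.plain 1343 5068871 true, .edge 1322 743 false]))))))))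
(.node 29 (.node 14 (.node 7 (.node 3 (.node 1 (.leaf .dfn) (.node 1 (.leaf (.mov 53 6776923 false [.plain 419 6844481 true, .edge 1349 693 false])) (.leaf (.mov 53 13510735 false [.plain 419 13375557 true, .edge 1350 296 false]))))
(.node 2 (.node 1 (.leaf (.mov 53 23928925 false [.plain 419 23296085 true, .edge 1351 501 false])) (.leaf (.mov 53 27529303 false [.plain 420 27988041 true, .edge 1352 1139 false]))) (.node 1 (.leaf (.mov 53 13310023 false [.plain 419 13576257 true, .edge 1353 1085 false])) (.leaf (.mov 53 4808797 false [.plain 419 4616261 true, .edge 1354 1359 false])))))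
(.node 3 (.node 1 (.leaf (.mov 53 9056345 false [.plain 419 8982613 true, .edge 1355 61 false])) (.node 1 (.leaf .dfn) (.leaf (.mov 269 17043521 true [.edge 1357 0 true]))))
(.node 2 (.node 1 (.leaf .dfn) (.leaf (.mov 270 17043521 false [.edge 1359 0 true]))) (.node 1 (.leaf (.rel 42 19353673 3 [.edge 456 644 false, .edge 1349 556 false, .mul, .edge 1357 815 false, .mul, .edge 1359 413 false, .mul])) (.leaf (.eq 270 17043521 [] [.plain 1361 17717329 true]))))))
(.node 7 (.node 3 (.node 1 (.leaf (.eqT 42 19085399 false [.plain 1362 16986205 true, .edge 1360 166 false] [.edge 1301 0 false])) (.node 1 (.leaf (.eq 269 17043521 [] [.plain 1363 16937047 false])) (.leaf (.mov 252 17059919 true [.plain 1364 17068123 true, .edge 1358 1518 false]))))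
(.node 2 (.node 1 (.leaf (.mov 252 25385043 true [.plain 1308 25450589 true, .edge 1365 410 false])) (.leaf .dfn)) (.node 1 (.leaf (.mov 67 4808797 false [.plain 485 4876383 true, .edge 1367 389 false])) (.leaf (.mov 67 27529303 false [.plain 486 27883607 true, .edge 1368 822 false])))))
(.node 4 (.node 2 (.node 1 (.leaf (.mov 67 29904967 false [.plain 485 29841477 true, .edge 1369 1059 false])) (.leaf .dfn)) (.node 1 (.leaf (.mov 274 17043521 true [.edge 1371 0 true])) (.leaf .dfn)))
(.node 2 (.node 1 (.leaf (.mov 275 17043521 false [.edge 1373 0 true])) (.leaf (.rel 42 15214673 4 [.edge 1331 421 false, .plain 1343 13193303 false, .edge 1367 1292 false, .mul, .edge 1371 743 false, .mul, .edge 1373 684 false, .mul]))) (.node 1 (.leaf (.eq 275 17043521 [] [.plain 1375 17260625 true])) (.leaf (.eqT 42 29904967 false [.plain 1376 17576007 true, .edge 1374 1423 false] [.edge 1302 0 false])))))))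
(.node 15 (.node 7 (.node 3 (.node 1 (.leaf (.eq 274 17043521 [] [.plain 1377 16934985 false])) (.node 1 (.leaf (.mov 252 19085399 true [.plain 1378 19216449 true, .edge 1372 33 false])) (.leaf (.mov 252 17043521 true [.plain 1308 17698901 true, .edge 1379 53 false]))))
(.node 2 (.node 1 (.leaf .dfn) (.leaf (.mov 276 17043521 true [.edge 1381 0 true]))) (.node 1 (.leaf .dfn) (.leaf (.mov 277 17043521 true [.edge 1383 0 true])))))
(.node 4 (.node 2 (.node 1 (.leaf .dfn) (.leaf (.mov 278 17043521 true [.edge 1385 0 true]))) (.node 1 (.leaf (.rel 42 23861327 5 [.edge 455 750 false, .edge 1351 89 false, .edge 1381 155 false, .mul, .edge 1383 324 false, .mul, .edge 1385 399 false, .mul])) (.leaf (.eq 278 17043521 [] [.plain 1387 27926611 true]))))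
(.node 2 (.node 1 (.leaf (.eqT 42 11495495 true [.plain 1388 11276379 true, .edge 1386 338 false] [.edge 1330 0 false])) (.leaf (.eq 277 19605585 [] [.plain 1389 17043521 false, .plain 1343 7090269 false]))) (.node 1 (.leaf (.eq 277 17043521 [] [.plain 1390 19095635 false])) (.leaf (.eqT 67 29904967 true [.plain 1391 17659969 true, .edge 1384 1280 false] [.edge 1345 0 false]))))))
(.node 7 (.node 3 (.node 1 (.leaf (.eq 276 17043521 [] [.plain 1392 26097751 false])) (.node 1 (.leaf (.mov 260 17059919 true [.plain 1393 9269321 true, .edge 1382 1382 false])) (.leaf (.mov 260 19085399 true [.plain 1319 19675223 true, .edge 1394 611 false]))))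
(.node 2 (.node 1 (.leaf .dfn) (.leaf (.mov 279 17043521 true [.edge 1396 0 true]))) (.node 1 (.leaf (.rel 42 21774431 5 [.edge 457 691 false, .edge 413 1443 false, .edge 393 1413 false, .plain 399 25442369 false, .mul, .edge 976 1011 false, .mul, .edge 1396 214 false, .mul])) (.leaf (.eq 279 17043521 [] [.plain 1398 19357779 true])))))
(.node 4 (.node 2 (.node 1 (.leaf (.eqT 42 11495495 true [.plain 1399 25442385 true, .edge 1397 103 false] [.edge 1330 0 false])) (.leaf (.eq 158 15036501 [] [.plain 1400 17043521 false, .plain 1343 7090269 false]))) (.node 1 (.leaf (.eq 158 17043521 [] [.plain 1401 23421007 false])) (.leaf (.mov 67 11495495 true [.plain 1402 27529299 true, .edge 969 284 false]))))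
(.node 2 (.node 1 (.leaf (.mov 67 10971209 true [.plain 1402 27545677 true, .edge 977 1497 false])) (.leaf (.mov 67 19085399 false [.plain 1402 15212611 true, .edge 984 1369 false]))) (.node 1 (.leaf (.mov 67 32131155 true [.plain 1402 19798105 true, .edge 1018 593 false])) (.leaf (.mov 67 31801425 true [.plain 485 32196691 true, .edge 1406 939 false]))))))))))

/-- The reasons. -/
def caseBFullSrcLRL : Tab Src := .node 234 caseBFullSrcLRLL caseBFullSrcLRLR

/-- The reasons. -/
def caseBFullSrcLRRL : Tab Src :=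
(.node 117 (.node 58 (.node 29 (.node 14 (.node 7 (.node 3 (.node 1 (.leaf (.mov 67 32125001 true [.plain 486 31803465 true, .edge 1407 1165 false])) (.node 1 (.leaf (.mov 67 4544593 true [.plain 485 4608083 true, .edge 1408 1161 false])) (.leaf (.mov 67 10971209 false [.plain 1402 27545677 true, .edge 1019 1209 false]))))
(.node 2 (.node 1 (.leaf (.mov 67 32125001 false [.plain 485 31733835 true, .edge 1410 829 false])) (.leaf (.mov 67 7292999 false [.plain 486 7098439 true, .edge 1411 603 false]))) (.node 1 (.leaf (.mov 67 31801425 false [.plain 485 32196691 true, .edge 1412 1420 false])) (.leaf .dfn))))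
(.node 3 (.node 1 (.leaf (.mov 45 13510735 false [.plain 389 13379651 true, .edge 1414 148 false])) (.node 1 (.leaf (.mov 45 29904967 false [.plain 391 29773901 true, .edge 1415 417 false])) (.leaf (.mov 45 6776923 false [.plain 389 6842461 true, .edge 1416 416 false]))))
(.node 2 (.node 1 (.leaf (.eqT 45 13510735 false [.plain 392 13510741 true, .edge 1415 1136 false] [.edge 1415 0 false])) (.leaf (.eq 280 17043521 [] [.plain 1418 16932951 false]))) (.node 1 (.leaf .dfn) (.leaf .dfn)))))
(.node 7 (.node 3 (.node 1 (.leaf (.mov 45 31801425 true [.plain 389 31670351 true, .edge 1421 4 false])) (.node 1 (.leaf (.mov 45 4808797 true [.plain 390 4808793 true, .edge 1422 878 false])) (.leaf (.mov 45 32131155 true [.plain 389 32327757 true, .edge 1423 86 false]))))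
(.node 2 (.node 1 (.leaf (.eqT 45 31801425 true [.plain 391 32129117 true, .edge 1421 1500 false] [.edge 1422 0 false])) (.leaf (.eq 289 17043521 [] [.plain 1425 25442385 false]))) (.node 1 (.leaf .dfn) (.leaf (.mov 292 17043521 false [.edge 1427 0 true])))))
(.node 4 (.node 2 (.node 1 (.leaf (.mov 53 7292999 false [.plain 419 6574165 true, .edge 1427 145 false])) (.leaf .dfn)) (.node 1 (.leaf (.mov 293 17043521 true [.edge 1430 0 true])) (.leaf .dfn)))
(.node 2 (.node 1 (.leaf (.mov 294 17043521 false [.edge 1432 0 true])) (.leaf (.rel 45 27727941 3 [.edge 431 715 false, .edge 1427 175 false, .mul, .edge 1430 926 false, .mul, .edge 1432 1370 false, .mul]))) (.node 1 (.leaf (.eq 294 17043521 [] [.plain 1434 17262687 true])) (.leaf (.eqT 45 6776923 false [.plain 1435 17133639 true, .edge 1433 69 false] [.edge 1417 0 false])))))))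
(.node 14 (.node 7 (.node 3 (.node 1 (.leaf (.eq 293 17043521 [] [.plain 1436 16984153 false])) (.node 1 (.leaf (.mov 280 11495495 true [.plain 1437 11360347 true, .edge 1431 884 false])) (.leaf (.mov 280 10971209 true [.plain 1419 10971223 true, .edge 1438 1190 false]))))
(.node 2 (.node 1 (.leaf .dfn) (.leaf (.mov 289 4808797 false [.plain 1426 16988235 true, .edge 1440 1248 false]))) (.node 1 (.leaf .dfn) (.leaf .dfn))))
(.node 3 (.node 1 (.leaf (.mov 297 17043521 false [.edge 1443 0 true])) (.node 1 (.leaf (.rel 45 21260377 3 [.edge 1422 82 false, .edge 1440 22 false, .mul, .edge 1442 126 false, .mul, .edge 1443 930 false, .mul])) (.leaf (.eq 297 17043521 [] [.plain 1445 17508441 true]))))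
(.node 2 (.node 1 (.leaf (.eqT 45 23928925 false [.plain 1446 16916547 true, .edge 1444 836 false] [.edge 1414 0 false])) (.leaf (.eq 296 17043521 [] [.plain 1447 10909791 false]))) (.node 1 (.leaf .dfn) (.leaf (.mov 53 31801425 false [.plain 419 31668289 true, .edge 1449 825 false]))))))
(.node 7 (.node 3 (.node 1 (.leaf .dfn) (.node 1 (.leaf .dfn) (.leaf (.mov 310 17043521 false [.edge 1452 0 true]))))
(.node 2 (.node 1 (.leaf (.rel 53 11022401 0 [.edge 1349 809 false, .mul, .edge 1451 932 false, .mul, .edge 1452 338 false, .mul, .mul])) (.leaf (.eq 310 17043521 [] [.plain 1454 19675209 true]))) (.node 1 (.leaf (.eqT 53 4808797 false [.plain 1455 17508427 true, .edge 1453 1069 false] [.edge 1355 0 false])) (.leaf (.eq 309 17043521 [] [.plain 1456 19290179 false])))))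
(.node 4 (.node 2 (.node 1 (.leaf .dfn) (.leaf .dfn)) (.node 1 (.leaf (.mov 312 17043521 false [.edge 1459 0 true])) (.leaf .dfn)))
(.node 2 (.node 1 (.leaf (.mov 313 17043521 false [.edge 1461 0 true])) (.leaf (.rel 53 19140683 0 [.edge 1458 585 false, .mul, .edge 1459 1054 false, .mul, .edge 1461 867 false, .mul, .mul]))) (.node 1 (.leaf (.eq 313 17043521 [] [.plain 1463 19081311 true])) (.leaf (.eqT 53 17043521 false [.plain 1464 16984149 true, .edge 1462 711 false] [.edge 413 0 false]))))))))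
(.node 29 (.node 14 (.node 7 (.node 3 (.node 1 (.leaf (.eq 312 17043521 [] [.plain 1465 19353679 false])) (.node 1 (.leaf (.eqT 22 13310023 false [.plain 1466 17657931 true, .edge 1460 1083 false] [.edge 416 0 false])) (.leaf (.eq 311 17043521 [] [.plain 1467 19148893 false]))))
(.node 2 (.node 1 (.leaf .dfn) (.leaf (.mov 53 4544593 true [.plain 419 5064775 true, .edge 1469 229 false]))) (.node 1 (.leaf (.mov 53 32131155 true [.plain 419 32321601 true, .edge 1470 685 false])) (.leaf (.mov 53 13310023 true [.plain 419 13576257 true, .edge 1471 180 false])))))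
(.node 3 (.node 1 (.leaf (.eqT 53 32131155 true [.plain 420 32262239 true, .edge 1469 706 false] [.edge 1471 0 false])) (.node 1 (.leaf (.eq 314 17043521 [] [.plain 1473 8933459 false])) (.leaf .dfn)))
(.node 2 (.node 1 (.leaf (.eqT 314 17059919 true [.plain 1474 27553863 true, .edge 1475 1516 false] [.edge 1475 0 false])) (.leaf (.eq 315 17043521 [] [.plain 1476 8919105 false]))) (.node 1 (.leaf .dfn) (.leaf (.mov 316 17043521 true [.edge 1478 0 true]))))))
(.node 7 (.node 3 (.node 1 (.leaf (.rel 53 13443141 1 [.edge 1469 1506 false, .mul, .edge 1475 766 false, .mul, .edge 1478 72 false, .mul, .mul])) (.node 1 (.leaf (.eq 316 17043521 [] [.plain 1480 27603037 true])) (.leaf (.mov 53 31801425 true [.plain 1481 9007193 true, .edge 1479 1353 false]))))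
(.node 2 (.node 1 (.leaf (.mov 53 29904967 true [.plain 419 30220371 true, .edge 1482 356 false])) (.leaf (.mov 53 13510735 true [.plain 419 13375557 true, .edge 1483 764 false]))) (.node 1 (.leaf (.mov 53 32125001 true [.plain 419 31606853 true, .edge 1484 1124 false])) (.leaf .dfn))))
(.node 4 (.node 2 (.node 1 (.leaf .dfn) (.leaf (.mov 318 17043521 true [.edge 1487 0 true]))) (.node 1 (.leaf .dfn) (.leaf (.mov 319 17043521 false [.edge 1489 0 true]))))
(.node 2 (.node 1 (.leaf (.rel 53 23685191 3 [.edge 1469 901 false, .edge 1486 1338 false, .mul, .edge 1487 60 false, .mul, .edge 1489 1001 false, .mul])) (.leaf (.eq 319 17043521 [] [.plain 1491 16922715 true]))) (.node 1 (.leaf (.eqT 53 4808797 false [.plain 1492 17770565 true, .edge 1490 855 false] [.edge 1355 0 false])) (.leaf (.eq 318 17043521 [] [.plain 1493 11475025 false])))))))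
(.node 15 (.node 7 (.node 3 (.node 1 (.leaf (.mov 268 19085399 true [.plain 1494 27809867 true, .edge 1488 1097 false])) (.node 1 (.leaf .dfn) (.leaf (.mov 320 17043521 false [.edge 1496 0 true]))))
(.node 2 (.node 1 (.leaf .dfn) (.leaf (.mov 321 17043521 true [.edge 1498 0 true]))) (.node 1 (.leaf .dfn) (.leaf (.mov 322 17043521 false [.edge 1500 0 true])))))
(.node 4 (.node 2 (.node 1 (.leaf (.rel 53 14897233 3 [.edge 1485 553 false, .edge 1496 514 false, .mul, .edge 1498 195 false, .mul, .edge 1500 623 false, .mul])) (.leaf (.eq 322 17043521 [] [.plain 1502 17043547 true]))) (.node 1 (.leaf (.eqT 53 23928925 false [.plain 1503 17195091 true, .edge 1501 368 false] [.edge 1352 0 false])) (.leaf (.eq 321 17043521 [] [.plain 1504 25522249 false]))))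
(.node 2 (.node 1 (.leaf (.eqT 268 10971209 true [.plain 1505 17635403 true, .edge 1499 388 false] [.edge 1381 0 false])) (.leaf (.eq 320 25305181 [] [.plain 1506 17043521 false, .plain 1393 17043521 false]))) (.node 1 (.leaf (.eq 320 17043521 [] [.plain 1507 21110873 false])) (.leaf (.mov 260 19085399 false [.plain 1508 17061969 true, .edge 1497 378 false]))))))
(.node 7 (.node 3 (.node 1 (.leaf (.eqT 260 19085399 false [.plain 1319 19675223 true, .edge 1509 26 false] [.edge 1509 0 false])) (.node 1 (.leaf (.eq 315 17043521 [] [.plain 1510 19880005 false])) (.leaf .dfn)))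
(.node 2 (.node 1 (.leaf (.mov 323 17043521 false [.edge 1512 0 true])) (.leaf .dfn)) (.node 1 (.leaf (.mov 324 17043521 true [.edge 1514 0 true])) (.leaf .dfn))))
(.node 4 (.node 2 (.node 1 (.leaf (.mov 325 17043521 false [.edge 1516 0 true])) (.leaf (.rel 53 14833749 4 [.edge 1472 892 false, .edge 1512 986 false, .mul, .edge 1514 968 false, .mul, .edge 1516 767 false, .mul]))) (.node 1 (.leaf (.eq 325 17043521 [] [.plain 1518 17649729 true])) (.leaf (.eqT 53 23928925 false [.plain 1519 17705047 true, .edge 1517 96 false] [.edge 1352 0 false]))))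
(.node 2 (.node 1 (.leaf (.eq 324 17043521 [] [.plain 1520 25432143 false])) (.leaf (.mov 268 11495495 true [.plain 1521 19689561 true, .edge 1515 99 false]))) (.node 1 (.leaf .dfn) (.leaf (.mov 326 17043521 true [.edge 1523 0 true])))))))))
(.node 59 (.node 29 (.node 14 (.node 7 (.node 3 (.node 1 (.leaf (.rel 53 27613267 5 [.edge 442 1148 false, .plain 454 8984667 false, .edge 1303 700 false, .edge 1366 1121 false, .mul, .edge 1495 101 false, .mul, .edge 1523 1226 false, .mul])) (.node 1 (.leaf (.eq 326 17043521 [] [.plain 1525 27738203 true])) (.leaf (.eqT 53 32131155 true [.plain 1526 27859025 true, .edge 1524 414 false] [.edge 1471 0 false]))))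
(.node 2 (.node 1 (.leaf (.eq 317 17043521 [] [.plain 1527 6959185 false])) (.leaf .dfn)) (.node 1 (.leaf (.mov 327 17043521 true [.edge 1529 0 true])) (.leaf (.mov 314 32131155 true [.plain 1474 9050183 true, .edge 1529 973 false])))))
(.node 3 (.node 1 (.leaf .dfn) (.node 1 (.leaf (.mov 64 4544593 true [.plain 473 4544597 true, .edge 1532 375 false])) (.leaf (.mov 64 4808797 true [.plain 474 4812873 true, .edge 1533 1187 false]))))
(.node 2 (.node 1 (.leaf (.mov 64 31801425 true [.plain 473 31801423 true, .edge 1534 1106 false])) (.leaf .dfn)) (.node 1 (.leaf .dfn) (.leaf .dfn)))))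
(.node 7 (.node 3 (.node 1 (.leaf (.rel 64 32073793 3 [.edge 1535 525 false, .edge 1536 1344 false, .mul, .edge 1537 495 false, .mul, .edge 1538 1316 false, .mul])) (.node 1 (.leaf (.eq 342 17043521 [] [.plain 1539 17135697 true])) (.leaf .dfn)))
(.node 2 (.node 1 (.leaf (.mov 67 9056345 false [.plain 485 9386075 true, .edge 1541 1522 false])) (.leaf (.eqT 67 13310023 false [.plain 486 13445191 true, .edge 1541 1371 false] [.edge 1541 0 false]))) (.node 1 (.leaf (.eq 349 17043521 [] [.plain 1543 17068121 false])) (.leaf .dfn))))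
(.node 4 (.node 2 (.node 1 (.leaf (.mov 349 11495495 true [.plain 1544 11483219 true, .edge 1545 492 false])) (.leaf .dfn)) (.node 1 (.leaf .dfn) (.leaf (.mov 354 17043521 true [.edge 1548 0 true]))))
(.node 2 (.node 1 (.leaf (.rel 64 8607837 5 [.edge 497 612 false, .edge 1542 27 false, .edge 1545 217 false, .mul, .edge 1547 1419 false, .mul, .edge 1548 842 false, .mul])) (.leaf (.eq 354 17043521 [] [.plain 1550 9390161 true]))) (.node 1 (.leaf (.eqT 64 4808797 true [.plain 1551 19232849 true, .edge 1549 698 false] [.edge 1534 0 false])) (.leaf (.eq 353 17043521 [] [.plain 1552 15431751 false])))))))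
(.node 15 (.node 7 (.node 3 (.node 1 (.leaf .dfn) (.node 1 (.leaf (.mov 355 17043521 true [.edge 1554 0 true])) (.leaf .dfn)))
(.node 2 (.node 1 (.leaf (.mov 356 17043521 true [.edge 1556 0 true])) (.leaf .dfn)) (.node 1 (.leaf (.mov 357 17043521 true [.edge 1558 0 true])) (.leaf (.rel 64 13195357 5 [.edge 1532 1505 false, .edge 1536 225 false, .edge 1554 205 false, .mul, .edge 1556 60 false, .mul, .edge 1558 234 false, .mul])))))
(.node 4 (.node 2 (.node 1 (.leaf (.eq 357 17043521 [] [.plain 1560 25829457 true])) (.leaf (.eqT 64 4808797 true [.plain 1561 27611219 true, .edge 1559 381 false] [.edge 1534 0 false]))) (.node 1 (.leaf (.eq 356 17043521 [] [.plain 1562 17446987 false])) (.leaf (.mov 336 10971209 true [.plain 1563 8990801 true, .edge 1557 1042 false]))))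
(.node 2 (.node 1 (.leaf (.rel 67 17459273 0 [.edge 479 366 false, .mul, .edge 480 1416 false, .mul, .edge 1405 1236 false, .mul, .mul])) (.leaf (.eq 161 17043521 [] [.plain 1565 19292241 true]))) (.node 1 (.leaf .dfn) (.leaf .dfn)))))
(.node 7 (.node 3 (.node 1 (.leaf (.mov 359 17043521 false [.edge 1568 0 true])) (.node 1 (.leaf (.rel 67 21315663 0 [.edge 1413 575 false, .mul, .edge 1567 3 false, .mul, .edge 1568 832 false, .mul, .mul])) (.leaf (.eq 359 17043521 [] [.plain 1570 19558471 true]))))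
(.node 2 (.node 1 (.leaf (.eqT 67 7292999 false [.plain 1571 17051715 true, .edge 1569 450 false] [.edge 1412 0 false])) (.leaf (.eq 358 17043521 [] [.plain 1572 19232841 false]))) (.node 1 (.leaf (.rel 67 14958671 1 [.edge 1347 1351 false, .mul, .edge 1395 1040 false, .mul, .edge 1522 895 false, .mul, .mul])) (.leaf (.eq 323 17043521 [] [.plain 1574 6895705 true])))))
(.node 4 (.node 2 (.node 1 (.leaf (.eqT 67 4808797 false [.plain 1575 17197125 true, .edge 1513 432 false] [.edge 1368 0 false])) (.leaf (.eqT 67 31801425 true [.plain 1575 8603713 true, .edge 1514 1490 false] [.edge 1407 0 false]))) (.node 1 (.leaf (.eq 324 8990801 [.plain 1521 8990801 false] [.plain 1577 17043521 false])) (.leaf (.eq 268 17043521 [] [.plain 1578 4943949 false]))))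
(.node 2 (.node 1 (.leaf (.mov 145 4808797 true [.plain 1579 11276357 true, .edge 1357 766 false])) (.leaf (.mov 145 19085399 true [.plain 1579 8865881 true, .edge 1381 279 false]))) (.node 1 (.leaf (.mov 145 23928925 false [.plain 1579 19159125 true, .edge 1451 322 false])) (.leaf (.mov 145 32125001 true [.plain 1579 25589829 true, .edge 1495 1019 false]))))))))
(.node 29 (.node 14 (.node 7 (.node 3 (.node 1 (.leaf (.eq 314 17043521 [] [.plain 1576 19609687 false])) (.node 1 (.leaf (.mov 273 31801425 true [.plain 1584 29507673 true, .edge 1531 532 false])) (.leaf (.eqT 327 17043521 true [.edge 1585 396 true] [.edge 1530 0 false]))))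
(.node 2 (.node 1 (.leaf (.eq 273 21831753 [] [.plain 1586 17043521 false, .plain 1584 19085399 false])) (.leaf (.eq 273 17043521 [] [.plain 1587 14841925 false]))) (.node 1 (.leaf .dfn) (.leaf .dfn))))
(.node 3 (.node 1 (.leaf .dfn) (.node 1 (.leaf (.mov 362 17043521 false [.edge 1591 0 true])) (.leaf (.rel 67 23357523 3 [.edge 1407 996 false, .edge 1589 759 false, .mul, .edge 1590 218 false, .mul, .edge 1591 819 false, .mul]))))
(.node 2 (.node 1 (.leaf (.eq 362 17043521 [] [.plain 1593 16998479 true])) (.leaf (.mov 67 23928925 false [.plain 1594 17457217 true, .edge 1592 1275 false]))) (.node 1 (.leaf (.mov 67 6776923 false [.plain 485 6643801 true, .edge 1595 281 false])) (.leaf .dfn)))))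
(.node 7 (.node 3 (.node 1 (.leaf (.mov 363 17043521 false [.edge 1597 0 true])) (.node 1 (.leaf (.mov 260 27529303 false [.plain 1319 27922519 true, .edge 1597 1153 false])) (.leaf .dfn)))
(.node 2 (.node 1 (.leaf (.mov 315 4544593 true [.plain 1477 10637393 true, .edge 1600 523 false])) (.leaf (.eqT 315 4544593 true [.plain 1511 4798545 true, .edge 1601 1144 false] [.edge 1601 0 false]))) (.node 1 (.leaf (.eqT 315 25385043 true [.plain 1511 25655379 true, .edge 1600 463 false] [.edge 1600 0 false])) (.leaf (.eq 366 17043521 [] [.plain 1603 17043547 false])))))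
(.node 4 (.node 2 (.node 1 (.leaf (.eq 366 17043521 [] [.plain 1602 9252937 false])) (.leaf .dfn)) (.node 1 (.leaf (.mov 366 4808797 true [.plain 1604 4808777 true, .edge 1606 579 false])) (.leaf (.mov 366 11495495 true [.plain 1605 31809605 true, .edge 1607 1456 false]))))
(.node 2 (.node 1 (.leaf (.mov 366 10971209 true [.plain 1604 10971215 true, .edge 1608 487 false])) (.leaf .dfn)) (.node 1 (.leaf (.mov 368 17043521 true [.edge 1610 0 true])) (.leaf (.rel 67 15278157 5 [.edge 1347 194 false, .edge 1509 1447 false, .edge 1600 546 false, .mul, .edge 1606 708 false, .mul, .edge 1610 826 false, .mul])))))))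
(.node 15 (.node 7 (.node 3 (.node 1 (.leaf (.eq 368 17043521 [] [.plain 1612 27412571 true])) (.node 1 (.leaf (.eqT 67 29904967 true [.plain 1613 9195595 true, .edge 1611 51 false] [.edge 1345 0 false])) (.leaf (.eq 367 17043521 [] [.plain 1614 26093635 false]))))
(.node 2 (.node 1 (.leaf .dfn) (.leaf (.mov 79 4808797 true [.plain 543 4796497 true, .edge 1616 89 false]))) (.node 1 (.leaf (.mov 79 29904967 true [.plain 543 29911133 true, .edge 1617 258 false])) (.leaf .dfn))))
(.node 4 (.node 2 (.node 1 (.leaf .dfn) (.leaf (.mov 374 17043521 true [.edge 1620 0 true]))) (.node 1 (.leaf (.rel 79 31725657 1 [.edge 1616 217 false, .mul, .edge 1619 1000 false, .mul, .edge 1620 1457 false, .mul, .mul])) (.leaf (.eq 374 17043521 [] [.plain 1622 11294815 true]))))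
(.node 2 (.node 1 (.leaf (.eqT 79 29904967 true [.plain 1623 11368515 true, .edge 1621 598 false] [.edge 1618 0 false])) (.leaf (.eq 373 17043521 [] [.plain 1624 11368535 false]))) (.node 1 (.leaf .dfn) (.leaf (.mov 79 25385043 true [.plain 542 25383007 true, .edge 1626 437 false]))))))
(.node 7 (.node 3 (.node 1 (.leaf (.mov 79 10971209 true [.plain 543 10973269 true, .edge 1626 759 false])) (.node 1 (.leaf (.eqT 79 10971209 true [.plain 544 10965069 true, .edge 1626 439 false] [.edge 1628 0 false])) (.leaf (.eqT 79 25385043 true [.plain 545 25385055 true, .edge 1626 485 false] [.edge 1627 0 false]))))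
(.node 2 (.node 1 (.leaf (.eq 377 17043521 [] [.plain 1630 27818067 false])) (.leaf (.eq 377 17043521 [] [.plain 1629 9244763 false]))) (.node 1 (.leaf .dfn) (.leaf (.mov 79 32125001 true [.plain 543 32116813 true, .edge 1633 1072 false])))))
(.node 4 (.node 2 (.node 1 (.leaf (.mov 79 32131155 true [.plain 544 32118873 true, .edge 1634 731 false])) (.leaf (.mov 79 13510735 true [.plain 542 13508683 true, .edge 1635 1140 false]))) (.node 1 (.leaf (.eqT 79 32125001 true [.plain 545 32125017 true, .edge 1634 1015 false] [.edge 1634 0 false])) (.leaf (.eqT 79 13510735 true [.plain 544 13523039 true, .edge 1633 1411 false] [.edge 1636 0 false]))))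
(.node 2 (.node 1 (.leaf (.eq 379 17043521 [] [.plain 1638 9189449 false])) (.leaf (.eq 379 17043521 [] [.plain 1637 17592385 false]))) (.node 1 (.leaf .dfn) (.leaf (.mov 379 17043521 false [.plain 1639 25432139 true, .edge 1641 1463 false]))))))))))

/-- The reasons. -/
def caseBFullSrcLRRR : Tab Src :=
(.node 117 (.node 58 (.node 29 (.node 14 (.node 7 (.node 3 (.node 1 (.leaf (.eqT 379 13510735 false [.plain 1640 13506639 true, .edge 1641 1254 false] [.edge 1641 0 false])) (.node 1 (.leaf (.eq 380 17043521 [] [.plain 1643 17068097 false])) (.leaf .dfn)))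
(.node 2 (.node 1 (.leaf .dfn) (.leaf (.mov 386 17043521 true [.edge 1646 0 true]))) (.node 1 (.leaf .dfn) (.leaf (.mov 387 17043521 false [.edge 1648 0 true])))))
(.node 3 (.node 1 (.leaf (.rel 79 19353667 4 [.edge 1627 676 false, .edge 1645 709 false, .mul, .edge 1646 612 false, .mul, .edge 1648 1254 false, .mul])) (.node 1 (.leaf (.eq 387 17043521 [] [.plain 1650 17508443 true])) (.leaf (.eqT 79 19085399 false [.plain 1651 17703003 true, .edge 1649 603 false] [.edge 546 0 false]))))
(.node 2 (.node 1 (.leaf (.eq 386 17043521 [] [.plain 1652 11147335 false])) (.leaf (.mov 80 19085399 true [.plain 1653 11022425 true, .edge 1647 701 false]))) (.node 1 (.leaf (.mov 80 25385043 true [.plain 548 25385047 true, .edge 1654 325 false])) (.leaf .dfn)))))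
(.node 7 (.node 3 (.node 1 (.leaf (.mov 388 17043521 true [.edge 1656 0 true])) (.node 1 (.leaf (.mov 380 19085399 true [.plain 1644 19097687 true, .edge 1656 1373 false])) (.leaf .dfn)))
(.node 2 (.node 1 (.leaf (.mov 389 17043521 true [.edge 1659 0 true])) (.leaf .dfn)) (.node 1 (.leaf (.mov 390 17043521 true [.edge 1661 0 true])) (.leaf (.rel 79 5120069 5 [.edge 1636 1254 false, .edge 1642 1075 false, .edge 1656 506 false, .mul, .edge 1659 872 false, .mul, .edge 1661 992 false, .mul])))))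
(.node 4 (.node 2 (.node 1 (.leaf (.eq 390 17043521 [] [.plain 1663 28256321 true])) (.leaf (.eqT 79 25385043 true [.plain 1664 17659979 true, .edge 1662 622 false] [.edge 1627 0 false]))) (.node 1 (.leaf (.eq 389 17043521 [] [.plain 1665 7290973 false])) (.leaf (.mov 377 4808797 true [.plain 1666 9261147 true, .edge 1660 253 false]))))
(.node 2 (.node 1 (.leaf (.mov 377 4544593 true [.plain 1631 4472919 true, .edge 1667 1241 false])) (.leaf (.mov 377 32131155 true [.plain 1632 31789137 true, .edge 1668 1517 false]))) (.node 1 (.leaf (.mov 377 13310023 true [.plain 1631 13246537 true, .edge 1669 625 false])) (.leaf (.mov 377 29904967 true [.plain 1632 29759557 true, .edge 1670 1468 false])))))))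
(.node 14 (.node 7 (.node 3 (.node 1 (.leaf (.mov 377 31801425 true [.plain 1631 31731789 true, .edge 1671 506 false])) (.node 1 (.leaf (.mov 377 32125001 true [.plain 1632 31811659 true, .edge 1672 731 false])) (.leaf (.mov 377 13510735 true [.plain 1631 13570113 true, .edge 1673 740 false]))))
(.node 2 (.node 1 (.leaf .dfn) (.leaf (.mov 380 10971209 true [.plain 1644 10975305 true, .edge 1675 957 false]))) (.node 1 (.leaf .dfn) (.leaf (.mov 423 17043521 false [.edge 1677 0 true])))))
(.node 3 (.node 1 (.leaf (.mov 82 10971209 false [.plain 563 15034447 true, .edge 1677 346 false])) (.node 1 (.leaf (.mov 82 23928925 false [.plain 565 25829471 true, .edge 1679 662 false])) (.leaf (.mov 82 32125001 false [.plain 563 21966913 true, .edge 1680 217 false]))))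
(.node 2 (.node 1 (.leaf (.mov 82 6776923 false [.plain 564 14905425 true, .edge 1681 23 false])) (.leaf (.mov 82 7292999 false [.plain 562 31664221 true, .edge 1682 95 false]))) (.node 1 (.leaf .dfn) (.leaf .dfn)))))
(.node 7 (.node 3 (.node 1 (.leaf (.mov 427 17043521 false [.edge 1685 0 true])) (.node 1 (.leaf (.rel 82 11106389 0 [.edge 577 1050 false, .mul, .edge 1684 1311 false, .mul, .edge 1685 648 false, .mul, .mul])) (.leaf (.eq 427 17043521 [] [.plain 1687 19013717 true]))))
(.node 2 (.node 1 (.leaf (.eqT 82 29904967 false [.plain 1688 17659969 true, .edge 1686 278 false] [.edge 579 0 false])) (.leaf (.eq 426 17043521 [] [.plain 1689 19757147 false]))) (.node 1 (.leaf .dfn) (.leaf (.mov 82 19085399 true [.plain 562 6907969 true, .edge 1691 661 false])))))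
(.node 4 (.node 2 (.node 1 (.leaf (.mov 82 4544593 true [.plain 563 10639453 true, .edge 1692 299 false])) (.leaf (.mov 82 11495495 true [.plain 562 31799377 true, .edge 1693 1024 false]))) (.node 1 (.leaf (.mov 82 4808797 true [.plain 565 16998495 true, .edge 1694 1431 false])) (.leaf (.mov 82 25385043 true [.plain 562 7086159 true, .edge 1695 244 false]))))
(.node 2 (.node 1 (.leaf (.mov 82 29904967 true [.plain 563 17715273 true, .edge 1696 1054 false])) (.leaf (.mov 82 10971209 true [.plain 562 15038543 true, .edge 1697 1226 false]))) (.node 1 (.leaf (.eqT 82 10971209 true [.plain 564 15024207 true, .edge 1695 810 false] [.edge 1698 0 false])) (.leaf (.eqT 82 11495495 true [.plain 564 31801425 true, .edge 1691 0 false] [.edge 1694 0 false]))))))))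
(.node 29 (.node 14 (.node 7 (.node 3 (.node 1 (.leaf (.eq 428 17043521 [] [.plain 1699 17133635 false])) (.node 1 (.leaf .dfn) (.leaf .dfn)))
(.node 2 (.node 1 (.leaf (.mov 430 17043521 true [.edge 1703 0 true])) (.leaf (.rel 82 30228563 1 [.edge 1691 578 false, .mul, .edge 1702 221 false, .mul, .edge 1703 1086 false, .mul, .mul]))) (.node 1 (.leaf (.eq 430 17043521 [] [.plain 1705 17125471 true])) (.leaf (.eqT 82 4808797 true [.plain 1706 25505883 true, .edge 1704 1260 false] [.edge 1695 0 false])))))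
(.node 3 (.node 1 (.leaf (.eq 429 17043521 [] [.plain 1707 9001039 false])) (.node 1 (.leaf .dfn) (.leaf (.mov 428 4808797 false [.plain 1700 19032137 true, .edge 1709 1196 false]))))
(.node 2 (.node 1 (.leaf (.mov 428 17043521 false [.plain 1701 11104323 true, .edge 1710 1018 false])) (.leaf (.mov 428 29904967 false [.plain 1700 17717321 true, .edge 1711 1394 false]))) (.node 1 (.leaf .dfn) (.leaf (.mov 105 7292999 false [.plain 715 7100485 true, .edge 1713 653 false]))))))
(.node 7 (.node 3 (.node 1 (.leaf (.mov 105 32125001 false [.plain 716 32196693 true, .edge 1714 290 false])) (.node 1 (.leaf (.mov 105 31801425 false [.plain 715 32125011 true, .edge 1715 1136 false])) (.leaf (.eqT 105 7292999 false [.plain 717 7297095 true, .edge 1713 1166 false] [.edge 1714 0 false]))))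
(.node 2 (.node 1 (.leaf (.eqT 105 31801425 false [.plain 718 31799377 true, .edge 1713 470 false] [.edge 1716 0 false])) (.leaf (.eq 432 17043521 [] [.plain 1718 17176669 false]))) (.node 1 (.leaf (.eq 432 17043521 [] [.plain 1717 17133649 false])) (.leaf .dfn))))
(.node 4 (.node 2 (.node 1 (.leaf (.eqT 428 27529303 false [.plain 1700 9246791 true, .edge 1721 1357 false] [.edge 1721 0 false])) (.leaf (.eqT 428 27529303 false [.plain 1701 11294805 true, .edge 1721 891 false] [.edge 1721 0 false]))) (.node 1 (.leaf (.eq 433 17043521 [] [.plain 1723 17586243 false])) (.leaf (.eq 433 17043521 [] [.plain 1722 17125459 false]))))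
(.node 2 (.node 1 (.leaf .dfn) (.leaf (.mov 434 17043521 true [.edge 1726 0 true]))) (.node 1 (.leaf .dfn) (.leaf (.mov 435 17043521 false [.edge 1728 0 true])))))))
(.node 15 (.node 7 (.node 3 (.node 1 (.leaf (.rel 82 17258577 3 [.edge 1696 503 false, .edge 1721 811 false, .mul, .edge 1726 745 false, .mul, .edge 1728 1038 false, .mul])) (.node 1 (.leaf (.eq 435 17043521 [] [.plain 1730 17457223 true])) (.leaf (.eqT 82 17043521 false [.plain 1731 16986207 true, .edge 1729 250 false] [.edge 578 0 false]))))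
(.node 2 (.node 1 (.leaf (.eq 434 17043521 [] [.plain 1732 19222611 false])) (.leaf (.mov 88 17043521 true [.plain 1733 19689537 true, .edge 1727 1003 false]))) (.node 1 (.leaf (.mov 88 25385043 true [.plain 584 25712723 true, .edge 1734 272 false])) (.leaf .dfn))))
(.node 4 (.node 2 (.node 1 (.leaf .dfn) (.leaf (.mov 437 17043521 false [.edge 1737 0 true]))) (.node 1 (.leaf (.rel 82 9320539 3 [.edge 1696 1252 false, .edge 1712 1268 false, .mul, .edge 1736 784 false, .mul, .edge 1737 973 false, .mul])) (.leaf (.eq 437 17043521 [] [.plain 1739 17578067 true]))))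
(.node 2 (.node 1 (.leaf (.eqT 82 23928925 false [.plain 1740 16998475 true, .edge 1738 1300 false] [.edge 1680 0 false])) (.leaf (.eq 436 17043521 [] [.plain 1741 26157127 false]))) (.node 1 (.leaf .dfn) (.leaf (.mov 438 17043521 true [.edge 1743 0 true]))))))
(.node 7 (.node 3 (.node 1 (.leaf .dfn) (.node 1 (.leaf (.mov 439 17043521 true [.edge 1745 0 true])) (.leaf .dfn)))
(.node 2 (.node 1 (.leaf (.mov 440 17043521 true [.edge 1747 0 true])) (.leaf (.rel 82 31789147 5 [.edge 1693 307 false, .edge 1711 1393 false, .edge 1743 919 false, .mul, .edge 1745 49 false, .mul, .edge 1747 1265 false, .mul]))) (.node 1 (.leaf (.eq 440 17043521 [] [.plain 1749 25634897 true])) (.leaf (.mov 82 13510735 true [.plain 1750 19157083 true, .edge 1748 466 false])))))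
(.node 4 (.node 2 (.node 1 (.leaf (.mov 82 13310023 true [.plain 564 23472223 true, .edge 1751 1104 false])) (.leaf (.eqT 82 13310023 true [.plain 563 23468127 true, .edge 1752 1006 false] [.edge 1752 0 false]))) (.node 1 (.leaf (.eqT 82 13510735 true [.plain 564 29759581 true, .edge 1752 338 false] [.edge 1751 0 false])) (.leaf (.eqT 82 13310023 true [.plain 565 21436485 true, .edge 1752 1507 false] [.edge 1752 0 false]))))
(.node 2 (.node 1 (.leaf (.eqT 82 13510735 true [.plain 565 31926349 true, .edge 1751 1036 false] [.edge 1751 0 false])) (.leaf (.eq 439 17043521 [] [.plain 1756 23605321 false]))) (.node 1 (.leaf (.mov 439 25385043 true [.plain 1757 25516113 true, .edge 1746 1081 false])) (.leaf (.eq 439 17043521 [] [.plain 1755 4939871 false])))))))))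
(.node 59 (.node 29 (.node 14 (.node 7 (.node 3 (.node 1 (.leaf (.mov 439 32131155 true [.plain 1759 19691601 true, .edge 1746 1390 false])) (.node 1 (.leaf (.mov 439 31801425 true [.plain 1757 31670355 true, .edge 1760 892 false])) (.leaf (.eq 439 17043521 [] [.plain 1754 23289929 false]))))
(.node 2 (.node 1 (.leaf (.eqT 439 25385043 true [.plain 1762 21260371 true, .edge 1761 1235 false] [.edge 1758 0 false])) (.leaf (.eq 438 17043521 [] [.plain 1763 23345233 false]))) (.node 1 (.leaf (.mov 438 31801425 true [.plain 1764 25448531 true, .edge 1744 885 false])) (.leaf (.eq 439 17043521 [] [.plain 1753 7037003 false])))))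
(.node 3 (.node 1 (.leaf (.mov 439 13510735 true [.plain 1766 9189449 true, .edge 1746 606 false])) (.node 1 (.leaf (.mov 439 4808797 true [.plain 1757 4612191 true, .edge 1767 1376 false])) (.leaf (.mov 439 19085399 true [.plain 1759 15550549 true, .edge 1768 1513 false]))))
(.node 2 (.node 1 (.leaf (.mov 439 17059919 true [.plain 1757 17256525 true, .edge 1769 922 false])) (.leaf .dfn)) (.node 1 (.leaf (.mov 441 17043521 true [.edge 1771 0 true])) (.leaf .dfn)))))
(.node 7 (.node 3 (.node 1 (.leaf (.mov 442 17043521 true [.edge 1773 0 true])) (.node 1 (.leaf .dfn) (.leaf (.mov 443 17043521 true [.edge 1775 0 true]))))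
(.node 2 (.node 1 (.leaf (.rel 82 9113695 5 [.edge 1692 1435 false, .edge 1710 720 false, .edge 1771 101 false, .mul, .edge 1773 125 false, .mul, .edge 1775 3 false, .mul])) (.leaf (.eq 443 17043521 [] [.plain 1777 10903643 true]))) (.node 1 (.leaf (.eqT 82 4808797 true [.plain 1778 19216465 true, .edge 1776 585 false] [.edge 1695 0 false])) (.leaf (.eq 442 17043521 [] [.plain 1779 15622211 false])))))
(.node 4 (.node 2 (.node 1 (.leaf (.mov 428 4808797 true [.plain 1780 19673179 true, .edge 1774 1269 false])) (.leaf .dfn)) (.node 1 (.leaf (.mov 444 17043521 false [.edge 1782 0 true])) (.leaf (.mov 85 9056345 false [.plain 573 9320531 true, .edge 1782 984 false]))))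
(.node 2 (.node 1 (.leaf (.mov 85 7292999 false [.plain 574 7155781 true, .edge 1784 34 false])) (.leaf (.mov 85 31801425 false [.plain 573 32131149 true, .edge 1785 6 false]))) (.node 1 (.leaf (.mov 85 13310023 false [.plain 574 13385797 true, .edge 1786 1045 false])) (.leaf (.mov 85 6776923 false [.plain 573 6578271 true, .edge 1787 620 false])))))))
(.node 15 (.node 7 (.node 3 (.node 1 (.leaf (.mov 85 32125001 false [.plain 575 31791189 true, .edge 1788 16 false])) (.node 1 (.leaf (.mov 85 10971209 false [.plain 573 10641473 true, .edge 1789 1520 false])) (.leaf .dfn)))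
(.node 2 (.node 1 (.leaf (.mov 85 11495495 true [.plain 574 11210821 true, .edge 1791 100 false])) (.leaf .dfn)) (.node 1 (.leaf (.mov 448 17043521 true [.edge 1793 0 true])) (.leaf .dfn))))
(.node 4 (.node 2 (.node 1 (.leaf (.mov 449 17043521 true [.edge 1795 0 true])) (.leaf (.rel 85 9377871 1 [.edge 1791 1289 false, .mul, .edge 1793 1164 false, .mul, .edge 1795 674 false, .mul, .mul]))) (.node 1 (.leaf (.eq 449 17043521 [] [.plain 1797 9007173 true])) (.leaf (.mov 85 25385043 true [.plain 1798 27531355 true, .edge 1796 416 false]))))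
(.node 2 (.node 1 (.leaf (.mov 85 10971209 true [.plain 574 10702923 true, .edge 1799 90 false])) (.leaf .dfn)) (.node 1 (.leaf (.mov 85 13510735 true [.plain 573 13115457 true, .edge 1801 17 false])) (.leaf (.mov 85 4808797 true [.plain 574 4859999 true, .edge 1802 1514 false]))))))
(.node 7 (.node 3 (.node 1 (.leaf (.mov 85 32131155 true [.plain 573 31801423 true, .edge 1803 1106 false])) (.node 1 (.leaf (.mov 85 29904967 true [.plain 575 29778009 true, .edge 1804 432 false])) (.leaf (.mov 85 32125001 true [.plain 573 31799381 true, .edge 1805 404 false]))))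
(.node 2 (.node 1 (.leaf (.mov 85 4544593 true [.plain 574 4616275 true, .edge 1806 433 false])) (.leaf (.mov 85 13310023 true [.plain 573 13439049 true, .edge 1807 350 false]))) (.node 1 (.leaf .dfn) (.leaf (.mov 455 17043521 false [.edge 1809 0 true])))))
(.node 4 (.node 2 (.node 1 (.leaf (.rel 85 17569883 3 [.edge 567 1005 false, .edge 537 1096 false, .mul, .edge 1627 207 false, .mul, .edge 1809 651 false, .mul])) (.leaf (.eq 455 17043521 [] [.plain 1811 17444951 true]))) (.node 1 (.leaf (.mov 85 17043521 false [.plain 1812 17244241 true, .edge 1810 1034 false])) (.leaf .dfn)))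
(.node 2 (.node 1 (.leaf .dfn) (.leaf .dfn)) (.node 1 (.leaf (.mov 458 17043521 false [.edge 1816 0 true])) (.leaf (.rel 85 29700169 3 [.edge 1807 258 false, .edge 1814 1517 false, .mul, .edge 1815 873 false, .mul, .edge 1816 647 false, .mul]))))))))
(.node 29 (.node 14 (.node 7 (.node 3 (.node 1 (.leaf (.eq 458 17043521 [] [.plain 1818 17649747 true])) (.node 1 (.leaf (.eqT 85 10971209 false [.plain 1819 17766487 true, .edge 1817 1081 false] [.edge 1790 0 false])) (.leaf (.eq 457 17043521 [] [.plain 1820 25710687 false]))))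
(.node 2 (.node 1 (.leaf .dfn) (.leaf (.mov 95 17059919 true [.plain 633 17715279 true, .edge 1822 646 false]))) (.node 1 (.leaf .dfn) (.leaf (.mov 460 17043521 true [.edge 1824 0 true])))))
(.node 3 (.node 1 (.leaf (.rel 85 11096145 5 [.edge 567 1377 false, .edge 650 1100 false, .edge 636 1534 false, .mul, .edge 1822 388 false, .mul, .edge 1824 928 false, .mul])) (.node 1 (.leaf (.eq 460 17043521 [] [.plain 1826 25634891 true])) (.leaf (.eqT 85 31801425 true [.plain 1827 19730497 true, .edge 1825 1173 false] [.edge 1801 0 false]))))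
(.node 2 (.node 1 (.leaf (.eq 459 17043521 [] [.plain 1828 23228509 false])) (.leaf .dfn)) (.node 1 (.leaf (.mov 461 17043521 true [.edge 1830 0 true])) (.leaf (.rel 85 25458763 5 [.edge 567 1493 false, .edge 648 1344 false, .edge 663 1011 false, .mul, .edge 1735 338 false, .mul, .edge 1830 246 false, .mul]))))))
(.node 7 (.node 3 (.node 1 (.leaf (.eq 461 17043521 [] [.plain 1832 28188739 true])) (.node 1 (.leaf (.eqT 85 13310023 true [.plain 1833 17053777 true, .edge 1831 621 false] [.edge 1808 0 false])) (.leaf (.eq 450 17043521 [] [.plain 1834 17592385 true]))))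
(.node 2 (.node 1 (.leaf (.mov 433 31801425 false [.plain 1835 15276127 true, .edge 1814 55 false])) (.leaf .dfn)) (.node 1 (.leaf (.mov 88 6776923 false [.plain 583 6645851 true, .edge 1837 189 false])) (.leaf (.mov 88 27529303 false [.plain 584 27660375 true, .edge 1838 1306 false])))))
(.node 4 (.node 2 (.node 1 (.leaf (.mov 88 29904967 false [.plain 583 29839431 true, .edge 1839 929 false])) (.leaf (.mov 88 4808797 false [.plain 585 4743261 true, .edge 1840 694 false]))) (.node 1 (.leaf (.mov 88 13510735 false [.plain 583 13183055 true, .edge 1841 1061 false])) (.leaf (.mov 88 9056345 false [.plain 584 9187417 true, .edge 1842 1320 false]))))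
(.node 2 (.node 1 (.leaf .dfn) (.leaf (.mov 88 4808797 true [.plain 583 4874333 true, .edge 1844 452 false]))) (.node 1 (.leaf (.eqT 88 13510735 true [.plain 584 13314127 true, .edge 1844 940 false] [.edge 1844 0 false])) (.leaf (.eqT 88 13510735 true [.plain 585 13576271 true, .edge 1844 66 false] [.edge 1844 0 false])))))))
(.node 15 (.node 7 (.node 3 (.node 1 (.leaf (.eq 465 17043521 [] [.plain 1847 19230811 false])) (.node 1 (.leaf (.eq 465 17043521 [] [.plain 1846 8943683 false])) (.leaf .dfn)))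
(.node 2 (.node 1 (.leaf (.mov 466 17043521 true [.edge 1850 0 true])) (.leaf (.eqT 465 17059919 true [.plain 1848 19214421 true, .edge 1850 944 false] [.edge 1850 0 false]))) (.node 1 (.leaf (.eqT 465 17059919 true [.plain 1849 8927309 true, .edge 1850 953 false] [.edge 1850 0 false])) (.leaf (.eq 466 17043521 [] [.plain 1853 27537483 false])))))
(.node 4 (.node 2 (.node 1 (.leaf (.eq 466 17043521 [] [.plain 1852 19150915 false])) (.leaf .dfn)) (.node 1 (.leaf (.mov 467 17043521 true [.edge 1856 0 true])) (.leaf (.rel 88 29829205 1 [.edge 1844 804 false, .mul, .edge 1850 427 false, .mul, .edge 1856 495 false, .mul, .mul]))))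
(.node 2 (.node 1 (.leaf (.eq 467 17043521 [] [.plain 1858 19746885 true])) (.leaf (.mov 88 32131155 true [.plain 1859 11284561 true, .edge 1857 201 false]))) (.node 1 (.leaf (.mov 88 31801425 true [.plain 583 32194641 true, .edge 1860 1204 false])) (.leaf .dfn)))))
(.node 7 (.node 3 (.node 1 (.leaf (.mov 88 4544593 true [.plain 583 4610129 true, .edge 1862 1093 false])) (.node 1 (.leaf (.eqT 88 4544593 true [.plain 584 5134417 true, .edge 1862 742 false] [.edge 1863 0 false])) (.leaf (.eqT 88 32125001 true [.plain 585 32190537 true, .edge 1862 1282 false] [.edge 1862 0 false]))))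
(.node 2 (.node 1 (.leaf (.eq 468 17043521 [] [.plain 1865 17125457 false])) (.leaf (.eq 468 17043521 [] [.plain 1864 17659993 false]))) (.node 1 (.leaf .dfn) (.leaf (.eqT 468 17059919 true [.plain 1866 17109087 true, .edge 1868 440 false] [.edge 1868 0 false])))))
(.node 4 (.node 2 (.node 1 (.leaf (.eqT 468 17059919 true [.plain 1867 17569885 true, .edge 1868 1527 false] [.edge 1868 0 false])) (.leaf (.eq 469 17043521 [] [.plain 1870 17586257 false]))) (.node 1 (.leaf (.eq 469 17043521 [] [.plain 1869 17125443 false])) (.leaf .dfn)))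
(.node 2 (.node 1 (.leaf (.mov 470 17043521 true [.edge 1873 0 true])) (.leaf (.rel 88 15620179 1 [.edge 1862 1278 false, .mul, .edge 1868 1382 false, .mul, .edge 1873 41 false, .mul, .mul]))) (.node 1 (.leaf (.eq 470 17043521 [] [.plain 1875 27529311 true])) (.leaf (.mov 88 13310023 true [.plain 1876 9007193 true, .edge 1874 1353 false]))))))))))

/-- The reasons. -/
def caseBFullSrcLRR : Tab Src := .node 235 caseBFullSrcLRRL caseBFullSrcLRRR

/-- The reasons. -/
def caseBFullSrcLR : Tab Src := .node 469 caseBFullSrcLRL caseBFullSrcLRR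

/-- The reasons. -/
def caseBFullSrcL : Tab Src := .node 939 caseBFullSrcLL caseBFullSrcLR

/-- The reasons. -/
def caseBFullSrcRLLL : Tab Src :=
(.node 117 (.node 58 (.node 29 (.node 14 (.node 7 (.node 3 (.node 1 (.leaf (.mov 88 29904967 true [.plain 583 29839431 true, .edge 1877 1148 false])) (.node 1 (.leaf .dfn) (.leaf (.mov 465 17043521 false [.plain 1848 19230811 true, .edge 1879 830 false]))))
(.node 2 (.node 1 (.leaf (.mov 465 29904967 false [.plain 1849 17721413 true, .edge 1880 895 false])) (.leaf (.mov 465 4808797 false [.plain 1848 6830153 true, .edge 1881 332 false]))) (.node 1 (.leaf .dfn) (.leaf (.mov 472 17043521 false [.edge 1883 0 true])))))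
(.node 3 (.node 1 (.leaf (.mov 433 23928925 false [.plain 1724 23490655 true, .edge 1883 1101 false])) (.node 1 (.leaf (.mov 433 9056345 false [.plain 1725 9113683 true, .edge 1885 1399 false])) (.leaf .dfn)))
(.node 2 (.node 1 (.leaf (.eqT 96 7292999 false [.plain 652 7293009 true, .edge 1887 994 false] [.edge 1887 0 false])) (.leaf (.eq 473 17043521 [] [.plain 1888 17043541 false]))) (.node 1 (.leaf .dfn) (.leaf (.mov 473 19085399 true [.plain 1889 19085387 true, .edge 1890 1214 false]))))))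
(.node 7 (.node 3 (.node 1 (.leaf .dfn) (.node 1 (.leaf (.mov 475 17043521 false [.edge 1892 0 true])) (.leaf (.rel 88 25567307 3 [.edge 654 1432 false, .plain 661 17633345 false, .edge 1887 909 false, .mul, .edge 1890 1003 false, .mul, .edge 1892 15 false, .mul]))))
(.node 2 (.node 1 (.leaf (.eq 475 17043521 [] [.plain 1894 17447005 true])) (.leaf (.mov 88 10971209 false [.plain 1895 17705047 true, .edge 1893 96 false]))) (.node 1 (.leaf .dfn) (.leaf (.mov 476 17043521 true [.edge 1897 0 true])))))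
(.node 4 (.node 2 (.node 1 (.leaf .dfn) (.leaf (.mov 477 17043521 false [.edge 1899 0 true]))) (.node 1 (.leaf (.rel 88 6774869 3 [.edge 1844 1266 false, .edge 1881 574 false, .mul, .edge 1897 1455 false, .mul, .edge 1899 1080 false, .mul])) (.leaf (.eq 477 17043521 [] [.plain 1901 17127513 true]))))
(.node 2 (.node 1 (.leaf (.eqT 88 9056345 false [.plain 1902 17784909 true, .edge 1900 982 false] [.edge 1843 0 false])) (.leaf (.eq 476 17043521 [] [.plain 1903 25696347 false]))) (.node 1 (.leaf (.mov 462 11495495 true [.plain 1904 25761867 true, .edge 1898 323 false])) (.leaf .dfn))))))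
(.node 14 (.node 7 (.node 3 (.node 1 (.leaf (.mov 478 17043521 true [.edge 1906 0 true])) (.node 1 (.leaf .dfn) (.leaf (.mov 479 17043521 false [.edge 1908 0 true]))))
(.node 2 (.node 1 (.leaf .dfn) (.leaf (.mov 480 17043521 true [.edge 1910 0 true]))) (.node 1 (.leaf .dfn) (.leaf (.mov 481 17043521 false [.edge 1912 0 true])))))
(.node 3 (.node 1 (.leaf (.rel 88 19290205 4 [.edge 1906 574 false, .edge 1908 1185 false, .mul, .edge 1910 1286 false, .mul, .edge 1912 1374 false, .mul])) (.node 1 (.leaf (.eq 481 17043521 [] [.plain 1914 17442909 true])) (.leaf (.eqT 88 19085399 false [.plain 1915 17770565 true, .edge 1913 855 false] [.edge 1684 0 false]))))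
(.node 2 (.node 1 (.leaf (.eq 480 32053343 [] [.plain 1916 17043521 false, .plain 1690 17043521 false])) (.leaf (.eq 480 17043521 [] [.plain 1917 11475025 false]))) (.node 1 (.leaf (.eqT 88 17043521 true [.plain 1918 8943683 true, .edge 1911 1456 false] [.edge 1734 0 false])) (.leaf (.eq 479 17043521 [] [.plain 1919 19802191 false]))))))
(.node 7 (.node 3 (.node 1 (.leaf (.mov 433 19085399 false [.plain 1920 17715273 true, .edge 1909 1316 false])) (.node 1 (.leaf .dfn) (.leaf (.mov 469 13510735 false [.plain 1871 13111363 true, .edge 1922 1276 false]))))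
(.node 2 (.node 1 (.leaf (.mov 469 27529303 false [.plain 1872 27621461 true, .edge 1923 398 false])) (.leaf (.mov 469 4808797 false [.plain 1871 4946009 true, .edge 1924 584 false]))) (.node 1 (.leaf .dfn) (.leaf .dfn))))
(.node 4 (.node 2 (.node 1 (.leaf (.mov 484 17043521 false [.edge 1927 0 true])) (.leaf (.rel 88 4747333 4 [.edge 1878 752 false, .edge 1922 1127 false, .mul, .edge 1926 559 false, .mul, .edge 1927 1108 false, .mul]))) (.node 1 (.leaf (.eq 484 17043521 [] [.plain 1929 17178705 true])) (.leaf (.eqT 88 29904967 false [.plain 1930 17698891 true, .edge 1928 371 false] [.edge 1840 0 false]))))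
(.node 2 (.node 1 (.leaf (.eq 483 17043521 [] [.plain 1931 17717321 false])) (.leaf .dfn)) (.node 1 (.leaf (.mov 485 17043521 true [.edge 1933 0 true])) (.leaf .dfn)))))))
(.node 29 (.node 14 (.node 7 (.node 3 (.node 1 (.leaf (.mov 486 17043521 true [.edge 1935 0 true])) (.node 1 (.leaf .dfn) (.leaf (.mov 487 17043521 true [.edge 1937 0 true]))))
(.node 2 (.node 1 (.leaf (.rel 88 11360321 5 [.edge 1734 697 false, .edge 1886 66 false, .edge 1933 1400 false, .mul, .edge 1935 144 false, .mul, .edge 1937 1058 false, .mul])) (.leaf (.eq 487 17043521 [] [.plain 1939 27476035 true]))) (.node 1 (.leaf (.eqT 88 32131155 true [.plain 1940 27883601 true, .edge 1938 569 false] [.edge 1860 0 false])) (.leaf (.eq 486 17043521 [] [.plain 1941 14835777 false])))))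
(.node 3 (.node 1 (.leaf (.mov 466 11495495 true [.plain 1942 19157059 true, .edge 1936 40 false])) (.node 1 (.leaf (.mov 466 32125001 true [.plain 1854 9068639 true, .edge 1943 603 false])) (.leaf (.mov 466 32131155 true [.plain 1855 30019665 true, .edge 1944 1201 false]))))
(.node 2 (.node 1 (.leaf (.mov 466 19085399 true [.plain 1854 23273555 true, .edge 1945 539 false])) (.leaf .dfn)) (.node 1 (.leaf (.mov 488 17043521 false [.edge 1947 0 true])) (.leaf .dfn)))))
(.node 7 (.node 3 (.node 1 (.leaf (.mov 489 17043521 true [.edge 1949 0 true])) (.node 1 (.leaf .dfn) (.leaf (.mov 490 17043521 true [.edge 1951 0 true]))))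
(.node 2 (.node 1 (.leaf .dfn) (.leaf (.mov 491 17043521 true [.edge 1953 0 true]))) (.node 1 (.leaf (.rel 88 12935259 5 [.edge 1861 307 false, .edge 1947 927 false, .edge 1949 333 false, .mul, .edge 1951 1163 false, .mul, .edge 1953 1150 false, .mul])) (.leaf (.eq 491 17043521 [] [.plain 1955 10700865 true])))))
(.node 4 (.node 2 (.node 1 (.leaf (.eqT 88 13310023 true [.plain 1956 27809859 true, .edge 1954 428 false] [.edge 1877 0 false])) (.leaf (.eq 490 17043521 [] [.plain 1957 25589841 false]))) (.node 1 (.leaf (.mov 469 13510735 true [.plain 1958 11341905 true, .edge 1952 954 false])) (.leaf (.mov 469 4544593 true [.plain 1871 4669525 true, .edge 1959 1068 false]))))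
(.node 2 (.node 1 (.leaf (.mov 469 31801425 true [.plain 1872 31733843 true, .edge 1960 449 false])) (.leaf (.mov 469 13310023 true [.plain 1871 13443147 true, .edge 1961 1054 false]))) (.node 1 (.leaf .dfn) (.leaf (.mov 89 32125001 true [.plain 590 32190551 true, .edge 1963 661 false])))))))
(.node 15 (.node 7 (.node 3 (.node 1 (.leaf (.mov 89 13510735 true [.plain 591 12742747 true, .edge 1964 427 false])) (.node 1 (.leaf (.mov 89 32131155 true [.plain 590 32196685 true, .edge 1965 390 false])) (.leaf (.mov 89 31801425 true [.plain 591 31860809 true, .edge 1966 1507 false]))))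
(.node 2 (.node 1 (.leaf (.mov 89 4808797 true [.plain 590 4743257 true, .edge 1967 207 false])) (.leaf (.mov 89 4544593 true [.plain 591 4728911 true, .edge 1968 562 false]))) (.node 1 (.leaf (.mov 89 29904967 true [.plain 590 29970523 true, .edge 1969 1191 false])) (.leaf (.eqT 89 29904967 true [.plain 592 29839429 true, .edge 1963 50 false] [.edge 1970 0 false])))))
(.node 4 (.node 2 (.node 1 (.leaf (.eq 495 17043521 [] [.plain 1971 11014233 false])) (.leaf .dfn)) (.node 1 (.leaf .dfn) (.leaf (.mov 501 17043521 true [.edge 1974 0 true]))))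
(.node 2 (.node 1 (.leaf .dfn) (.leaf (.mov 502 17043521 false [.edge 1976 0 true]))) (.node 1 (.leaf (.rel 89 23423059 3 [.edge 1967 1342 false, .edge 1973 1172 false, .mul, .edge 1974 608 false, .mul, .edge 1976 218 false, .mul])) (.leaf (.eq 502 17043521 [] [.plain 1978 17506379 true]))))))
(.node 7 (.node 3 (.node 1 (.leaf (.mov 89 13310023 false [.plain 1979 17766473 true, .edge 1977 42 false])) (.node 1 (.leaf (.mov 89 23928925 false [.plain 590 23863371 true, .edge 1980 1221 false])) (.leaf (.mov 89 9056345 false [.plain 591 8605763 true, .edge 1981 194 false]))))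
(.node 2 (.node 1 (.leaf (.mov 89 6776923 false [.plain 590 6711389 true, .edge 1982 971 false])) (.leaf (.eqT 89 6776923 false [.plain 592 6645849 true, .edge 1980 734 false] [.edge 1983 0 false]))) (.node 1 (.leaf (.eq 501 17043521 [] [.plain 1984 10711131 false])) (.leaf .dfn))))
(.node 4 (.node 2 (.node 1 (.leaf (.eqT 89 17043521 true [.plain 590 17109073 true, .edge 1986 1215 false] [.edge 1986 0 false])) (.leaf (.mov 89 11495495 true [.plain 591 11106369 true, .edge 1986 1031 false]))) (.node 1 (.leaf (.eqT 89 11495495 true [.plain 590 11429965 true, .edge 1988 860 false] [.edge 1988 0 false])) (.leaf (.eqT 89 11495495 true [.plain 592 11233349 true, .edge 1988 1509 false] [.edge 1988 0 false]))))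
(.node 2 (.node 1 (.leaf (.eqT 89 17043521 true [.plain 592 17633347 true, .edge 1986 378 false] [.edge 1986 0 false])) (.leaf (.eq 507 17043521 [] [.plain 1991 17651793 false]))) (.node 1 (.leaf (.eq 507 17043521 [] [.plain 1990 25458777 false])) (.leaf (.eq 507 17043521 [] [.plain 1989 25456713 false])))))))))
(.node 58 (.node 29 (.node 14 (.node 7 (.node 3 (.node 1 (.leaf (.eq 507 17043521 [] [.plain 1987 17111123 false])) (.node 1 (.leaf .dfn) (.leaf (.mov 508 17043521 false [.edge 1996 0 true]))))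
(.node 2 (.node 1 (.leaf .dfn) (.leaf (.mov 509 17043521 true [.edge 1998 0 true]))) (.node 1 (.leaf .dfn) (.leaf (.mov 510 17043521 false [.edge 2000 0 true])))))
(.node 3 (.node 1 (.leaf (.rel 89 19755083 4 [.edge 1986 693 false, .edge 1996 749 false, .mul, .edge 1998 794 false, .mul, .edge 2000 714 false, .mul])) (.node 1 (.leaf (.eq 510 17043521 [] [.plain 2002 17127489 true])) (.leaf (.mov 89 19085399 false [.plain 2003 17522753 true, .edge 2001 1453 false]))))
(.node 2 (.node 1 (.leaf (.eqT 89 19085399 false [.plain 591 19863645 true, .edge 2004 965 false] [.edge 2004 0 false])) (.leaf (.eq 509 17043521 [] [.plain 2005 25761865 false]))) (.node 1 (.leaf (.mov 509 13510735 true [.plain 2006 25456713 true, .edge 1999 1388 false])) (.leaf .dfn)))))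
(.node 7 (.node 3 (.node 1 (.leaf (.mov 511 17043521 false [.edge 2008 0 true])) (.node 1 (.leaf (.mov 495 4808797 false [.plain 1972 4941915 true, .edge 2008 1283 false])) (.leaf .dfn)))
(.node 2 (.node 1 (.leaf (.mov 514 17043521 true [.edge 2011 0 true])) (.leaf .dfn)) (.node 1 (.leaf (.mov 515 17043521 true [.edge 2013 0 true])) (.leaf .dfn))))
(.node 4 (.node 2 (.node 1 (.leaf (.mov 516 17043521 true [.edge 2015 0 true])) (.leaf (.rel 89 21383263 5 [.edge 1965 1057 false, .edge 2010 845 false, .edge 2011 994 false, .mul, .edge 2013 459 false, .mul, .edge 2015 659 false, .mul]))) (.node 1 (.leaf (.eq 516 17043521 [] [.plain 2017 27664467 true])) (.leaf (.eqT 89 11495495 true [.plain 2018 9009225 true, .edge 2016 573 false] [.edge 1988 0 false]))))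
(.node 2 (.node 1 (.leaf (.eq 515 17043521 [] [.plain 2019 6840389 false])) (.leaf (.mov 507 4808797 true [.plain 2020 19746905 true, .edge 2014 219 false]))) (.node 1 (.leaf (.mov 507 32125001 true [.plain 1992 31735895 true, .edge 2021 473 false])) (.leaf (.mov 507 13510735 true [.plain 1993 13506625 true, .edge 2022 445 false])))))))
(.node 14 (.node 7 (.node 3 (.node 1 (.leaf (.mov 507 4544593 true [.plain 1992 4603989 true, .edge 2023 335 false])) (.node 1 (.leaf (.mov 507 31801425 true [.plain 1994 31797331 true, .edge 2024 1047 false])) (.leaf (.mov 507 13310023 true [.plain 1992 13377611 true, .edge 2025 636 false]))))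
(.node 2 (.node 1 (.leaf (.mov 507 32131155 true [.plain 1993 32125007 true, .edge 2026 799 false])) (.leaf (.mov 507 29904967 true [.plain 1992 29829211 true, .edge 2027 687 false]))) (.node 1 (.leaf (.eqT 507 31801425 true [.plain 1995 31737933 true, .edge 2021 1270 false] [.edge 2025 0 false])) (.leaf (.eq 514 17043521 [] [.plain 2029 29567049 false])))))
(.node 3 (.node 1 (.leaf (.mov 514 32125001 true [.plain 2030 27867209 true, .edge 2012 1466 false])) (.node 1 (.leaf .dfn) (.leaf (.mov 90 13510735 true [.plain 597 13113409 true, .edge 2032 729 false]))))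
(.node 2 (.node 1 (.leaf (.mov 90 29904967 true [.plain 598 29761623 true, .edge 2033 995 false])) (.leaf (.mov 90 32131155 true [.plain 597 31797327 true, .edge 2034 280 false]))) (.node 1 (.leaf .dfn) (.leaf .dfn)))))
(.node 7 (.node 3 (.node 1 (.leaf .dfn) (.node 1 (.leaf (.rel 90 15472717 3 [.edge 2034 732 false, .edge 2036 1368 false, .mul, .edge 2037 1295 false, .mul, .edge 2038 587 false, .mul])) (.leaf (.eq 531 17043521 [] [.plain 2039 17045585 true]))))
(.node 2 (.node 1 (.leaf .dfn) (.leaf .dfn)) (.node 1 (.leaf .dfn) (.leaf (.mov 534 17043521 true [.edge 2043 0 true])))))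
(.node 4 (.node 2 (.node 1 (.leaf .dfn) (.leaf (.mov 535 17043521 false [.edge 2045 0 true]))) (.node 1 (.leaf (.rel 90 28268613 3 [.edge 2041 1007 false, .edge 2042 282 false, .mul, .edge 2043 12 false, .mul, .edge 2045 1148 false, .mul])) (.leaf (.eq 535 17043521 [] [.plain 2047 17635393 true]))))
(.node 2 (.node 1 (.leaf (.mov 90 6776923 false [.plain 2048 16984147 true, .edge 2046 34 false])) (.leaf (.eqT 90 6776923 false [.plain 605 7157847 true, .edge 2049 199 false] [.edge 2049 0 false]))) (.node 1 (.leaf (.eq 534 17043521 [] [.plain 2050 25567317 false])) (.leaf (.mov 534 17059919 true [.plain 2051 17068107 true, .edge 2044 1002 false]))))))))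
(.node 29 (.node 14 (.node 7 (.node 3 (.node 1 (.leaf .dfn) (.node 1 (.leaf (.mov 501 17059919 true [.plain 1985 23349321 true, .edge 2053 1304 false])) (.leaf .dfn)))
(.node 2 (.node 1 (.leaf .dfn) (.leaf (.mov 542 17043521 true [.edge 2056 0 true]))) (.node 1 (.leaf (.rel 90 9179217 5 [.edge 594 455 false, .edge 1981 1257 false, .edge 2053 594 false, .mul, .edge 2055 454 false, .mul, .edge 2056 1133 false, .mul])) (.leaf (.eq 542 17043521 [] [.plain 2058 9324635 true])))))
(.node 3 (.node 1 (.leaf (.eqT 90 32131155 true [.plain 2059 17109057 true, .edge 2057 1004 false] [.edge 2035 0 false])) (.node 1 (.leaf (.eq 541 17043521 [] [.plain 2060 13246539 false])) (.leaf .dfn)))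
(.node 2 (.node 1 (.leaf (.mov 547 17043521 false [.edge 2062 0 true])) (.leaf (.eqT 92 29904967 false [.plain 614 29904971 true, .edge 2062 911 false] [.edge 2062 0 false]))) (.node 1 (.leaf (.eqT 92 29904967 false [.plain 616 29892699 true, .edge 2062 1275 false] [.edge 2062 0 false])) (.leaf (.eq 547 17043521 [] [.plain 2065 17070145 false]))))))
(.node 7 (.node 3 (.node 1 (.leaf (.eq 547 17043521 [] [.plain 2064 17043545 false])) (.node 1 (.leaf .dfn) (.leaf (.mov 548 17043521 false [.edge 2068 0 true]))))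
(.node 2 (.node 1 (.leaf .dfn) (.leaf (.mov 549 17043521 false [.edge 2070 0 true]))) (.node 1 (.leaf (.rel 92 25720905 0 [.edge 2062 1131 false, .mul, .edge 2068 743 false, .mul, .edge 2070 673 false, .mul, .mul])) (.leaf (.eq 549 17043521 [] [.plain 2072 19150913 true])))))
(.node 4 (.node 2 (.node 1 (.leaf (.mov 92 4808797 false [.plain 2073 17508427 true, .edge 2071 1069 false])) (.leaf .dfn)) (.node 1 (.leaf (.mov 554 17043521 true [.edge 2075 0 true])) (.leaf (.mov 92 4544593 true [.plain 612 4544597 true, .edge 2075 375 false]))))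
(.node 2 (.node 1 (.leaf (.mov 92 4808797 true [.plain 616 4812889 true, .edge 2077 485 false])) (.leaf (.eqT 92 29904967 true [.plain 613 29907013 true, .edge 2075 939 false] [.edge 2075 0 false]))) (.node 1 (.leaf (.eqT 92 4544593 true [.plain 614 4544607 true, .edge 2075 347 false] [.edge 2077 0 false])) (.leaf (.eqT 92 29904967 true [.plain 615 29890645 true, .edge 2075 1340 false] [.edge 2075 0 false])))))))
(.node 15 (.node 7 (.node 3 (.node 1 (.leaf (.eq 554 17043521 [] [.plain 2081 17649731 false])) (.node 1 (.leaf (.eq 554 17043521 [] [.plain 2080 25442377 false])) (.leaf (.eq 554 17043521 [] [.plain 2079 17127505 false]))))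
(.node 2 (.node 1 (.leaf .dfn) (.leaf (.mov 555 17043521 false [.edge 2085 0 true]))) (.node 1 (.leaf (.mov 554 13510735 false [.plain 2082 13178957 true, .edge 2085 51 false])) (.leaf (.mov 554 27529303 false [.plain 2084 27619405 true, .edge 2087 1441 false])))))
(.node 4 (.node 2 (.node 1 (.leaf (.mov 554 29904967 false [.plain 2082 29827141 true, .edge 2088 720 false])) (.leaf .dfn)) (.node 1 (.leaf (.mov 556 17043521 true [.edge 2090 0 true])) (.leaf .dfn)))
(.node 2 (.node 1 (.leaf (.mov 557 17043521 false [.edge 2092 0 true])) (.leaf (.rel 92 23343199 3 [.edge 2075 1197 false, .edge 2089 113 false, .mul, .edge 2090 660 false, .mul, .edge 2092 83 false, .mul]))) (.node 1 (.leaf (.eq 557 17043521 [] [.plain 2094 17119321 true])) (.leaf (.mov 92 6776923 false [.plain 2095 17197135 true, .edge 2093 1395 false]))))))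
(.node 7 (.node 3 (.node 1 (.leaf (.mov 92 9056345 false [.plain 613 9058395 true, .edge 2096 416 false])) (.node 1 (.leaf (.eqT 92 6776923 false [.plain 614 6776915 true, .edge 2096 236 false] [.edge 2096 0 false])) (.leaf (.eq 556 17043521 [] [.plain 2098 25497677 false]))))
(.node 2 (.node 1 (.leaf (.mov 556 17059919 true [.plain 2099 17059915 true, .edge 2091 913 false])) (.leaf .dfn)) (.node 1 (.leaf (.mov 192 4808797 false [.plain 1114 19032159 true, .edge 2101 219 false])) (.leaf (.mov 192 29904967 false [.plain 1115 32073801 true, .edge 2102 383 false])))))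
(.node 4 (.node 2 (.node 1 (.leaf (.mov 192 17043521 false [.plain 1114 8919107 true, .edge 2103 1341 false])) (.leaf .dfn)) (.node 1 (.leaf .dfn) (.leaf (.mov 560 17043521 false [.edge 2106 0 true]))))
(.node 2 (.node 1 (.leaf (.rel 92 9377877 3 [.edge 1110 1485 false, .edge 2101 24 false, .mul, .edge 2105 634 false, .mul, .edge 2106 408 false, .mul])) (.leaf (.eq 560 17043521 [] [.plain 2108 17659979 true]))) (.node 1 (.leaf (.eqT 92 9056345 false [.plain 2109 17635423 true, .edge 2107 712 false] [.edge 2097 0 false])) (.leaf (.eq 559 17043521 [] [.plain 2110 25382999 false]))))))))))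

/-- The reasons. -/
def caseBFullSrcRLLR : Tab Src :=
(.node 117 (.node 58 (.node 29 (.node 14 (.node 7 (.node 3 (.node 1 (.leaf .dfn) (.node 1 (.leaf (.mov 561 17043521 true [.edge 2112 0 true])) (.leaf .dfn)))
(.node 2 (.node 1 (.leaf (.mov 562 17043521 true [.edge 2114 0 true])) (.leaf .dfn)) (.node 1 (.leaf (.mov 563 17043521 true [.edge 2116 0 true])) (.leaf (.rel 92 4481101 5 [.edge 2078 322 false, .edge 2085 256 false, .edge 2112 947 false, .mul, .edge 2114 853 false, .mul, .edge 2116 1281 false, .mul])))))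
(.node 3 (.node 1 (.leaf (.eq 563 17043521 [] [.plain 2118 17784897 true])) (.node 1 (.leaf (.eqT 92 19085399 true [.plain 2119 9263171 true, .edge 2117 678 false] [.edge 1110 0 false])) (.leaf (.eq 562 17043521 [] [.plain 2120 13525083 false]))))
(.node 2 (.node 1 (.leaf (.mov 192 4808797 true [.plain 2121 19165249 true, .edge 2115 212 false])) (.leaf (.mov 192 11495495 true [.plain 1114 31809605 true, .edge 2122 1456 false]))) (.node 1 (.leaf (.mov 192 25385043 true [.plain 1115 27404367 true, .edge 2123 281 false])) (.leaf (.mov 192 4544593 true [.plain 1114 10637395 true, .edge 2124 47 false]))))))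
(.node 7 (.node 3 (.node 1 (.leaf (.mov 192 31801425 true [.plain 1116 31789137 true, .edge 2125 1517 false])) (.node 1 (.leaf (.mov 192 10971209 true [.plain 1114 15032395 true, .edge 2126 134 false])) (.leaf (.mov 192 19085399 true [.plain 1115 16932929 true, .edge 2127 445 false]))))
(.node 2 (.node 1 (.leaf (.mov 192 29904967 true [.plain 1114 17717317 true, .edge 2128 1325 false])) (.leaf .dfn)) (.node 1 (.leaf (.mov 564 17043521 true [.edge 2130 0 true])) (.leaf .dfn))))
(.node 4 (.node 2 (.node 1 (.leaf (.mov 565 17043521 true [.edge 2132 0 true])) (.leaf .dfn)) (.node 1 (.leaf (.mov 566 17043521 true [.edge 2134 0 true])) (.leaf (.rel 92 25311311 5 [.edge 1110 385 false, .edge 2104 1223 false, .edge 2130 869 false, .mul, .edge 2132 191 false, .mul, .edge 2134 715 false, .mul]))))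
(.node 2 (.node 1 (.leaf (.eq 566 17043521 [] [.plain 2136 10707035 true])) (.leaf (.eqT 92 29904967 true [.plain 2137 9179201 true, .edge 2135 1014 false] [.edge 2075 0 false]))) (.node 1 (.leaf (.eq 565 17043521 [] [.plain 2138 31991901 false])) (.leaf (.mov 554 4808797 true [.plain 2139 19740763 true, .edge 2133 198 false])))))))
(.node 14 (.node 7 (.node 3 (.node 1 (.leaf (.mov 554 13310023 true [.plain 2082 13379653 true, .edge 2140 788 false])) (.node 1 (.leaf (.mov 554 13510735 true [.plain 2083 13506639 true, .edge 2141 1495 false])) (.leaf (.mov 554 29904967 true [.plain 2082 29827141 true, .edge 2142 118 false]))))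
(.node 2 (.node 1 (.leaf (.mov 554 31801425 true [.plain 2084 31731791 true, .edge 2143 243 false])) (.leaf (.mov 554 32125001 true [.plain 2082 31737931 true, .edge 2144 989 false]))) (.node 1 (.leaf (.mov 554 32131155 true [.plain 2083 32125011 true, .edge 2145 49 false])) (.leaf (.mov 554 4544593 true [.plain 2082 4606035 true, .edge 2146 125 false])))))
(.node 3 (.node 1 (.leaf .dfn) (.node 1 (.leaf (.mov 567 17043521 false [.edge 2148 0 true])) (.leaf (.mov 95 13310023 false [.plain 632 13244487 true, .edge 2148 400 false]))))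
(.node 2 (.node 1 (.leaf (.mov 95 29904967 false [.plain 633 29511751 true, .edge 2150 481 false])) (.leaf .dfn)) (.node 1 (.leaf .dfn) (.leaf .dfn)))))
(.node 7 (.node 3 (.node 1 (.leaf (.mov 572 17043521 false [.edge 2154 0 true])) (.node 1 (.leaf (.rel 95 26157145 0 [.edge 2152 624 false, .mul, .edge 2153 329 false, .mul, .edge 2154 958 false, .mul, .mul])) (.leaf (.eq 572 17043521 [] [.plain 2156 19798093 true]))))
(.node 2 (.node 1 (.leaf (.mov 95 32125001 false [.plain 2157 17508427 true, .edge 2155 1069 false])) (.leaf .dfn)) (.node 1 (.leaf .dfn) (.leaf (.mov 574 17043521 true [.edge 2160 0 true])))))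
(.node 4 (.node 2 (.node 1 (.leaf (.rel 95 10901597 1 [.edge 1822 745 false, .plain 1829 27809867 false, .plain 1835 15429719 false, .mul, .edge 2159 1362 false, .mul, .edge 2160 1224 false, .mul, .mul])) (.leaf (.eq 574 17043521 [] [.plain 2162 8943687 true]))) (.node 1 (.leaf (.eqT 95 25385043 true [.plain 2163 27537491 true, .edge 2161 133 false] [.edge 905 0 false])) (.leaf (.eq 573 17043521 [] [.plain 2164 8917063 false]))))
(.node 2 (.node 1 (.leaf .dfn) (.leaf (.mov 95 32131155 true [.plain 634 31803475 true, .edge 2166 296 false]))) (.node 1 (.leaf (.eqT 95 32131155 true [.plain 632 32196691 true, .edge 2167 939 false] [.edge 2167 0 false])) (.leaf (.eqT 95 32131155 true [.plain 633 31672403 true, .edge 2167 1340 false] [.edge 2167 0 false]))))))))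
(.node 29 (.node 14 (.node 7 (.node 3 (.node 1 (.leaf (.eq 575 17043521 [] [.plain 2169 19740763 false])) (.node 1 (.leaf (.eq 575 17043521 [] [.plain 2168 19148875 false])) (.leaf .dfn)))
(.node 2 (.node 1 (.leaf (.eqT 575 17059919 true [.plain 2170 17586269 true, .edge 2172 854 false] [.edge 2172 0 false])) (.leaf (.eqT 575 17059919 true [.plain 2171 17111135 true, .edge 2172 839 false] [.edge 2172 0 false]))) (.node 1 (.leaf (.eq 576 17043521 [] [.plain 2174 17127489 false])) (.leaf (.eq 576 17043521 [] [.plain 2173 17569857 false])))))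
(.node 3 (.node 1 (.leaf .dfn) (.node 1 (.leaf (.mov 577 17043521 true [.edge 2177 0 true])) (.leaf (.rel 95 4989017 1 [.edge 2166 208 false, .mul, .edge 2172 428 false, .mul, .edge 2177 615 false, .mul, .mul]))))
(.node 2 (.node 1 (.leaf (.eq 577 17043521 [] [.plain 2179 8927317 true])) (.leaf (.mov 95 4808797 true [.plain 2180 25505883 true, .edge 2178 1260 false]))) (.node 1 (.leaf (.mov 95 13510735 true [.plain 634 13117519 true, .edge 2181 639 false])) (.leaf .dfn)))))
(.node 7 (.node 3 (.node 1 (.leaf (.mov 95 29904967 true [.plain 633 29511751 true, .edge 2183 342 false])) (.node 1 (.leaf .dfn) (.leaf .dfn)))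
(.node 2 (.node 1 (.leaf .dfn) (.leaf (.mov 584 17043521 false [.edge 2187 0 true]))) (.node 1 (.leaf (.rel 95 6707271 3 [.edge 2183 176 false, .edge 2185 392 false, .mul, .edge 2186 361 false, .mul, .edge 2187 821 false, .mul])) (.leaf (.eq 584 17043521 [] [.plain 2189 17698911 true])))))
(.node 4 (.node 2 (.node 1 (.leaf (.eqT 95 10971209 false [.plain 2190 17768519 true, .edge 2188 99 false] [.edge 2152 0 false])) (.leaf (.eq 583 17043521 [] [.plain 2191 17180761 false]))) (.node 1 (.leaf .dfn) (.leaf .dfn)))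
(.node 2 (.node 1 (.leaf .dfn) (.leaf (.mov 590 17043521 false [.edge 2195 0 true]))) (.node 1 (.leaf (.rel 95 27816005 4 [.edge 1823 367 false, .plain 1829 11292739 false, .plain 1835 30021701 false, .edge 2193 671 false, .mul, .edge 2194 467 false, .mul, .edge 2195 819 false, .mul])) (.leaf (.eq 590 17043521 [] [.plain 2197 16916563 true])))))))
(.node 15 (.node 7 (.node 3 (.node 1 (.leaf (.eqT 95 29904967 false [.plain 2198 17119327 true, .edge 2196 638 false] [.edge 2151 0 false])) (.node 1 (.leaf (.eq 589 17043521 [] [.plain 2199 19691585 false])) (.leaf .dfn)))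
(.node 2 (.node 1 (.leaf (.mov 591 17043521 true [.edge 2201 0 true])) (.leaf .dfn)) (.node 1 (.leaf (.mov 592 17043521 false [.edge 2203 0 true])) (.leaf (.rel 95 17111109 4 [.edge 1823 1428 false, .plain 1829 19140691 false, .plain 1835 21133389 false, .edge 1921 1050 false, .mul, .edge 2201 1054 false, .mul, .edge 2203 358 false, .mul])))))
(.node 4 (.node 2 (.node 1 (.leaf (.eq 592 17043521 [] [.plain 2205 17569873 true])) (.leaf (.eqT 95 17043521 false [.plain 2206 17633367 true, .edge 2204 440 false] [.edge 625 0 false]))) (.node 1 (.leaf (.eq 591 17043521 [] [.plain 2207 26161223 false])) (.leaf (.eqT 19 13310023 true [.plain 2208 11292761 true, .edge 2202 1012 false] [.edge 835 0 false]))))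
(.node 2 (.node 1 (.leaf (.eq 478 17043521 [] [.plain 2209 19085405 false])) (.leaf (.mov 129 19085399 true [.plain 2210 17043531 true, .edge 1907 1207 false]))) (.node 1 (.leaf (.eqT 129 19085399 false [.plain 2210 17043531 true, .edge 1908 839 false] [.edge 938 0 false])) (.leaf (.eq 479 17043535 [.plain 1920 17043535 false] [.plain 2212 17043521 false]))))))
(.node 7 (.node 3 (.node 1 (.leaf (.eq 433 17043521 [] [.plain 2213 19554393 false])) (.node 1 (.leaf (.mov 151 17059919 true [.plain 2214 19097691 true, .edge 1830 716 false])) (.leaf (.mov 151 27529303 false [.plain 2214 26099795 true, .edge 1836 1030 false]))))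
(.node 2 (.node 1 (.leaf (.mov 151 13510735 false [.plain 942 13572173 true, .edge 2216 123 false])) (.leaf (.mov 151 4808797 false [.plain 943 4876379 true, .edge 2217 1454 false]))) (.node 1 (.leaf (.mov 151 29904967 false [.plain 942 29958213 true, .edge 2218 632 false])) (.leaf (.mov 151 13310023 false [.plain 2214 14966849 true, .edge 1883 229 false])))))
(.node 4 (.node 2 (.node 1 (.leaf (.mov 151 6776923 false [.plain 942 6713433 true, .edge 2220 826 false])) (.leaf (.mov 151 23928925 false [.plain 943 23537737 true, .edge 2221 1296 false]))) (.node 1 (.leaf (.mov 151 9056345 false [.plain 942 9113691 true, .edge 2222 583 false])) (.leaf (.mov 151 11495495 true [.plain 2214 9001053 true, .edge 2159 1011 false]))))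
(.node 2 (.node 1 (.leaf (.mov 151 7292999 false [.plain 2214 4941909 true, .edge 2193 136 false])) (.leaf (.mov 151 32125001 false [.plain 942 32196683 true, .edge 2225 415 false]))) (.node 1 (.leaf (.mov 151 10971209 false [.plain 943 10707009 true, .edge 2226 602 false])) (.leaf (.mov 151 31801425 false [.plain 942 31733843 true, .edge 2227 1476 false])))))))))
(.node 59 (.node 29 (.node 14 (.node 7 (.node 3 (.node 1 (.leaf .dfn) (.node 1 (.leaf (.mov 576 13510735 false [.plain 2175 13570127 true, .edge 2229 973 false])) (.leaf (.mov 576 29904967 false [.plain 2176 29775943 true, .edge 2230 61 false]))))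
(.node 2 (.node 1 (.leaf (.mov 576 4808797 false [.plain 2175 4749405 true, .edge 2231 732 false])) (.leaf .dfn)) (.node 1 (.leaf (.mov 594 17043521 true [.edge 2233 0 true])) (.leaf .dfn))))
(.node 3 (.node 1 (.leaf (.mov 595 17043521 true [.edge 2235 0 true])) (.node 1 (.leaf .dfn) (.leaf (.mov 596 17043521 true [.edge 2237 0 true]))))
(.node 2 (.node 1 (.leaf (.rel 95 4548695 5 [.edge 2181 243 false, .edge 2229 365 false, .edge 2233 569 false, .mul, .edge 2235 349 false, .mul, .edge 2237 1187 false, .mul])) (.leaf (.eq 596 17043521 [] [.plain 2239 28190809 true]))) (.node 1 (.leaf (.eqT 95 25385043 true [.plain 2240 9263179 true, .edge 2238 43 false] [.edge 905 0 false])) (.leaf (.eq 595 17043521 [] [.plain 2241 10907717 false]))))))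
(.node 7 (.node 3 (.node 1 (.leaf (.mov 138 32125001 true [.plain 2242 17635409 true, .edge 2236 1287 false])) (.node 1 (.leaf (.mov 138 32131155 true [.plain 894 32192593 true, .edge 2243 1451 false])) (.leaf (.mov 138 4808797 true [.plain 895 4941913 true, .edge 2244 799 false]))))
(.node 2 (.node 1 (.leaf (.mov 138 29904967 true [.plain 894 29960261 true, .edge 2245 1336 false])) (.leaf .dfn)) (.node 1 (.leaf (.rel 96 4857931 0 [.edge 639 1118 false, .plain 642 17508441 false, .mul, .edge 648 244 false, .mul, .edge 2247 107 false, .mul, .mul])) (.leaf (.eq 600 17043521 [] [.plain 2248 19542095 true])))))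
(.node 4 (.node 2 (.node 1 (.leaf .dfn) (.leaf (.mov 610 17043521 true [.edge 2250 0 true]))) (.node 1 (.leaf (.mov 96 32125001 true [.plain 638 32125021 true, .edge 2250 579 false])) (.leaf .dfn)))
(.node 2 (.node 1 (.leaf .dfn) (.leaf .dfn)) (.node 1 (.leaf (.mov 614 17043521 false [.edge 2255 0 true])) (.leaf .dfn))))))
(.node 15 (.node 7 (.node 3 (.node 1 (.leaf (.mov 615 17043521 true [.edge 2257 0 true])) (.node 1 (.leaf .dfn) (.leaf (.mov 616 17043521 false [.edge 2259 0 true]))))
(.node 2 (.node 1 (.leaf (.rel 96 25305163 3 [.edge 2254 1306 false, .edge 2255 861 false, .mul, .edge 2257 1390 false, .mul, .edge 2259 45 false, .mul])) (.leaf (.eq 616 17043521 [] [.plain 2261 17457229 true]))) (.node 1 (.leaf (.mov 96 10971209 false [.plain 2262 17770565 true, .edge 2260 855 false])) (.leaf (.eqT 96 10971209 false [.plain 638 10971207 true, .edge 2263 1229 false] [.edge 2263 0 false])))))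
(.node 4 (.node 2 (.node 1 (.leaf (.eq 615 17043521 [] [.plain 2264 11475023 false])) (.leaf (.mov 615 17059919 true [.plain 2265 17059905 true, .edge 2258 1190 false]))) (.node 1 (.leaf .dfn) (.leaf .dfn)))
(.node 2 (.node 1 (.leaf (.mov 618 17043521 true [.edge 2268 0 true])) (.leaf .dfn)) (.node 1 (.leaf (.mov 619 17043521 false [.edge 2270 0 true])) (.leaf (.rel 96 17442897 3 [.edge 2254 437 false, .edge 2267 1049 false, .mul, .edge 2268 350 false, .mul, .edge 2270 1207 false, .mul]))))))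
(.node 7 (.node 3 (.node 1 (.leaf (.eq 619 17043521 [] [.plain 2272 17715277 true])) (.node 1 (.leaf (.mov 96 17043521 false [.plain 2273 17768519 true, .edge 2271 99 false])) (.leaf (.eqT 96 17043521 false [.plain 638 17043529 true, .edge 2274 236 false] [.edge 2274 0 false]))))
(.node 2 (.node 1 (.leaf (.eq 618 17043521 [] [.plain 2275 17180749 false])) (.leaf (.mov 618 17059919 true [.plain 2276 17059915 true, .edge 2269 913 false]))) (.node 1 (.leaf .dfn) (.leaf .dfn))))
(.node 4 (.node 2 (.node 1 (.leaf (.rel 96 19755083 4 [.edge 636 693 false, .edge 2158 308 false, .mul, .edge 2278 1122 false, .mul, .edge 2279 201 false, .mul])) (.leaf (.eq 621 17043521 [] [.plain 2280 17717325 true]))) (.node 1 (.leaf .dfn) (.leaf .dfn)))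
(.node 2 (.node 1 (.leaf .dfn) (.leaf (.mov 624 17043521 false [.edge 2284 0 true]))) (.node 1 (.leaf (.rel 96 10635355 4 [.edge 2254 179 false, .edge 2282 1088 false, .mul, .edge 2283 277 false, .mul, .edge 2284 202 false, .mul])) (.leaf (.eq 624 17043521 [] [.plain 2286 17649745 true]))))))))
(.node 29 (.node 14 (.node 7 (.node 3 (.node 1 (.leaf (.eqT 96 7292999 false [.plain 2287 17512513 true, .edge 2285 967 false] [.edge 1887 0 false])) (.node 1 (.leaf (.eq 623 17043521 [] [.plain 2288 25634899 false])) (.leaf .dfn)))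
(.node 2 (.node 1 (.leaf (.mov 630 17043521 false [.edge 2290 0 true])) (.leaf .dfn)) (.node 1 (.leaf (.mov 631 17043521 true [.edge 2292 0 true])) (.leaf .dfn))))
(.node 3 (.node 1 (.leaf (.mov 632 17043521 true [.edge 2294 0 true])) (.node 1 (.leaf .dfn) (.leaf (.mov 633 17043521 true [.edge 2296 0 true]))))
(.node 2 (.node 1 (.leaf (.rel 96 4878401 5 [.edge 2252 1019 false, .edge 2290 1476 false, .edge 2292 667 false, .mul, .edge 2294 269 false, .mul, .edge 2296 361 false, .mul])) (.leaf (.eq 633 17043521 [] [.plain 2298 9125969 true]))) (.node 1 (.leaf (.eqT 96 17043521 true [.plain 2299 17594449 true, .edge 2297 685 false] [.edge 636 0 false])) (.leaf (.eq 632 17043521 [] [.plain 2300 13443165 false]))))))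
(.node 7 (.node 3 (.node 1 (.leaf (.eqT 95 17059919 true [.plain 2301 9203793 true, .edge 2295 1317 false] [.edge 1823 0 false])) (.node 1 (.leaf (.eq 631 32008283 [] [.plain 2302 17043521 false, .plain 1829 19230803 false, .plain 1835 13504599 false, .plain 2214 19232859 false])) (.leaf (.eq 631 17043521 [] [.plain 2303 8867909 false]))))
(.node 2 (.node 1 (.leaf (.eqT 151 17059919 true [.plain 2304 27809883 true, .edge 2293 525 false] [.edge 2215 0 false])) (.leaf (.eq 630 19812435 [] [.plain 2305 17043521 false, .plain 1833 27555929 false]))) (.node 1 (.leaf (.eq 630 17043521 [] [.plain 2306 19290193 false])) (.leaf (.mov 85 27529303 false [.plain 2307 17635393 true, .edge 2291 1238 false])))))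
(.node 4 (.node 2 (.node 1 (.leaf (.mov 85 4808797 false [.plain 573 4941915 true, .edge 2308 1283 false])) (.leaf (.mov 85 13510735 false [.plain 574 13195341 true, .edge 2309 1397 false]))) (.node 1 (.leaf (.mov 85 29904967 false [.plain 573 29775961 true, .edge 2310 1521 false])) (.leaf .dfn)))
(.node 2 (.node 1 (.leaf (.mov 637 17043521 false [.edge 2312 0 true])) (.leaf .dfn)) (.node 1 (.leaf (.mov 638 17043521 false [.edge 2314 0 true])) (.leaf .dfn))))))
(.node 15 (.node 7 (.node 3 (.node 1 (.leaf (.mov 639 17043521 false [.edge 2316 0 true])) (.node 1 (.leaf (.rel 100 19542083 0 [.edge 2312 1156 false, .mul, .edge 2314 643 false, .mul, .edge 2316 848 false, .mul, .mul])) (.leaf (.eq 639 17043521 [] [.plain 2318 19877977 true]))))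
(.node 2 (.node 1 (.leaf (.eqT 100 17043521 false [.plain 2319 16984149 true, .edge 2317 711 false] [.edge 665 0 false])) (.leaf (.eq 638 17043521 [] [.plain 2320 19353679 false]))) (.node 1 (.leaf (.eqT 85 17043521 false [.plain 2321 16984149 true, .edge 2315 711 false] [.edge 1813 0 false])) (.leaf (.eq 637 17043521 [] [.plain 2322 19353679 false])))))
(.node 4 (.node 2 (.node 1 (.leaf (.eqT 377 17043521 false [.plain 2323 17657949 true, .edge 2313 1428 false] [.edge 1645 0 false])) (.leaf (.eq 385 17043521 [] [.plain 2324 17043521 true]))) (.node 1 (.leaf .dfn) (.leaf (.mov 642 17043521 false [.edge 2326 0 true]))))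
(.node 2 (.node 1 (.leaf .dfn) (.leaf (.mov 101 4544593 true [.plain 677 4671573 true, .edge 2328 583 false]))) (.node 1 (.leaf (.mov 101 32131155 true [.plain 678 31731795 true, .edge 2329 35 false])) (.leaf (.mov 101 29904967 true [.plain 677 29761627 true, .edge 2330 143 false]))))))
(.node 7 (.node 3 (.node 1 (.leaf (.mov 101 4808797 true [.plain 679 4749405 true, .edge 2331 1526 false])) (.node 1 (.leaf (.mov 101 32125001 true [.plain 677 31803479 true, .edge 2332 321 false])) (.leaf (.mov 101 31801425 true [.plain 678 32192593 true, .edge 2333 1451 false]))))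
(.node 2 (.node 1 (.leaf (.mov 101 13310023 true [.plain 677 13445195 true, .edge 2334 1485 false])) (.leaf .dfn)) (.node 1 (.leaf (.eqT 25 27529303 false [.plain 237 27539549 true, .edge 2336 1140 false] [.edge 2336 0 false])) (.leaf (.eqT 25 27529303 false [.plain 238 27529293 true, .edge 2336 1136 false] [.edge 2336 0 false])))))
(.node 4 (.node 2 (.node 1 (.leaf (.eq 672 17043521 [] [.plain 2338 17043533 false])) (.leaf (.eq 672 17043521 [] [.plain 2337 16984129 false]))) (.node 1 (.leaf .dfn) (.leaf (.mov 672 10971209 true [.plain 2339 10971229 true, .edge 2341 913 false]))))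
(.node 2 (.node 1 (.leaf (.mov 672 17043521 true [.plain 2340 16984129 true, .edge 2342 15 false])) (.leaf (.mov 672 17059919 true [.plain 2339 17059923 true, .edge 2343 1076 false]))) (.node 1 (.leaf .dfn) (.leaf (.mov 674 17043521 false [.edge 2345 0 true]))))))))))

/-- The reasons. -/
def caseBFullSrcRLL : Tab Src := .node 234 caseBFullSrcRLLL caseBFullSrcRLLR

/-- The reasons. -/
def caseBFullSrcRLRL : Tab Src :=
(.node 117 (.node 58 (.node 29 (.node 14 (.node 7 (.node 3 (.node 1 (.leaf (.rel 101 19814495 4 [.edge 680 600 false, .plain 688 17109083 false, .edge 2336 64 false, .mul, .edge 2341 304 false, .mul, .edge 2345 390 false, .mul])) (.node 1 (.leaf (.eq 674 17043521 [] [.plain 2347 17641545 true])) (.leaf (.eqT 101 19085399 false [.plain 2348 17567819 true, .edge 2346 563 false] [.edge 2326 0 false]))))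
(.node 2 (.node 1 (.leaf (.eq 673 17043521 [] [.plain 2349 25374811 false])) (.leaf .dfn)) (.node 1 (.leaf .dfn) (.leaf (.mov 676 17043521 true [.edge 2352 0 true])))))
(.node 3 (.node 1 (.leaf .dfn) (.node 1 (.leaf (.mov 677 17043521 true [.edge 2354 0 true])) (.leaf .dfn)))
(.node 2 (.node 1 (.leaf (.mov 678 17043521 true [.edge 2356 0 true])) (.leaf (.rel 101 21248089 5 [.edge 2329 628 false, .edge 2351 620 false, .edge 2352 1176 false, .mul, .edge 2354 1125 false, .mul, .edge 2356 1259 false, .mul]))) (.node 1 (.leaf (.eq 678 17043521 [] [.plain 2358 27467867 true])) (.leaf (.eqT 101 19085399 true [.plain 2359 17109073 true, .edge 2357 1215 false] [.edge 680 0 false]))))))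
(.node 7 (.node 3 (.node 1 (.leaf (.eq 677 9396311 [] [.plain 2360 17043521 false, .plain 688 17043521 false])) (.node 1 (.leaf (.eq 677 17043521 [] [.plain 2361 21510233 false])) (.leaf (.eqT 25 31801425 true [.plain 2362 17111105 true, .edge 2355 939 false] [.edge 1057 0 false]))))
(.node 2 (.node 1 (.leaf (.eq 676 17043521 [] [.plain 2363 19359817 false])) (.leaf (.mov 180 10971209 true [.plain 2364 8941657 true, .edge 2353 202 false]))) (.node 1 (.leaf (.mov 180 25385043 true [.plain 1066 25370707 true, .edge 2365 755 false])) (.leaf (.mov 180 4544593 true [.plain 1068 8605779 true, .edge 2366 977 false])))))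
(.node 4 (.node 2 (.node 1 (.leaf (.mov 180 31801425 true [.plain 1066 31789137 true, .edge 2367 1517 false])) (.leaf (.mov 180 29904967 true [.plain 1069 32071755 true, .edge 2368 949 false]))) (.node 1 (.leaf (.mov 180 4808797 true [.plain 1066 4798557 true, .edge 2369 758 false])) (.leaf (.mov 180 11495495 true [.plain 1068 29646917 true, .edge 2370 347 false]))))
(.node 2 (.node 1 (.leaf (.mov 180 19085399 true [.plain 1066 19097687 true, .edge 2371 1373 false])) (.leaf .dfn)) (.node 1 (.leaf (.mov 104 13510735 false [.plain 703 13445199 true, .edge 2373 231 false])) (.leaf (.mov 104 27529303 false [.plain 705 27594839 true, .edge 2374 1224 false])))))))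
(.node 14 (.node 7 (.node 3 (.node 1 (.leaf (.mov 104 23928925 false [.plain 703 23208029 true, .edge 2375 50 false])) (.node 1 (.leaf (.mov 104 6776923 false [.plain 706 6580315 true, .edge 2376 674 false])) (.leaf (.mov 104 4808797 false [.plain 703 4677725 true, .edge 2377 163 false]))))
(.node 2 (.node 1 (.leaf (.mov 104 29904967 false [.plain 705 29970503 true, .edge 2378 463 false])) (.leaf (.mov 104 9056345 false [.plain 703 8925273 true, .edge 2379 271 false]))) (.node 1 (.leaf (.eqT 104 13310023 false [.plain 704 13310019 true, .edge 2373 1008 false] [.edge 2373 0 false])) (.leaf (.eq 683 17043521 [] [.plain 2381 17043527 false])))))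
(.node 3 (.node 1 (.leaf .dfn) (.node 1 (.leaf (.mov 104 32131155 true [.plain 701 32131167 true, .edge 2383 1105 false])) (.leaf (.mov 104 31801425 true [.plain 703 31604817 true, .edge 2384 475 false]))))
(.node 2 (.node 1 (.leaf (.mov 104 4808797 true [.plain 701 4808769 true, .edge 2385 936 false])) (.leaf (.eqT 104 13510735 true [.plain 704 13510727 true, .edge 2383 245 false] [.edge 2383 0 false]))) (.node 1 (.leaf (.eqT 104 13510735 true [.plain 705 13576271 true, .edge 2383 66 false] [.edge 2383 0 false])) (.leaf (.eqT 104 4808797 true [.plain 706 4939869 true, .edge 2383 993 false] [.edge 2386 0 false]))))))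
(.node 7 (.node 3 (.node 1 (.leaf (.eq 688 17043521 [] [.plain 2389 19746899 false])) (.node 1 (.leaf (.eq 688 17043521 [] [.plain 2388 19230811 false])) (.leaf (.eq 688 17043521 [] [.plain 2387 17070145 false]))))
(.node 2 (.node 1 (.leaf .dfn) (.leaf (.mov 691 17043521 false [.edge 2393 0 true]))) (.node 1 (.leaf (.mov 688 29904967 false [.plain 2390 17721413 true, .edge 2393 895 false])) (.leaf .dfn))))
(.node 4 (.node 2 (.node 1 (.leaf (.mov 694 17043521 true [.edge 2396 0 true])) (.leaf .dfn)) (.node 1 (.leaf (.mov 695 17043521 false [.edge 2398 0 true])) (.leaf .dfn)))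
(.node 2 (.node 1 (.leaf (.mov 696 17043521 true [.edge 2400 0 true])) (.leaf .dfn)) (.node 1 (.leaf (.mov 697 17043521 false [.edge 2402 0 true])) (.leaf (.rel 104 12933201 3 [.edge 2396 1482 false, .edge 2398 1018 false, .mul, .edge 2400 407 false, .mul, .edge 2402 134 false, .mul]))))))))
(.node 29 (.node 14 (.node 7 (.node 3 (.node 1 (.leaf (.eq 697 17043521 [] [.plain 2404 17651801 true])) (.node 1 (.leaf (.eqT 104 9056345 false [.plain 2405 16920669 true, .edge 2403 1279 false] [.edge 2380 0 false])) (.leaf (.eq 696 17043521 [] [.plain 2406 25903199 false]))))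
(.node 2 (.node 1 (.leaf (.mov 683 19085399 true [.plain 2407 9246793 true, .edge 2401 285 false])) (.leaf (.mov 683 25385043 true [.plain 2382 25385031 true, .edge 2408 1065 false]))) (.node 1 (.leaf .dfn) (.leaf (.mov 698 17043521 false [.edge 2410 0 true])))))
(.node 3 (.node 1 (.leaf .dfn) (.node 1 (.leaf (.mov 699 17043521 true [.edge 2412 0 true])) (.leaf .dfn)))
(.node 2 (.node 1 (.leaf (.mov 700 17043521 false [.edge 2414 0 true])) (.leaf (.rel 104 19232849 3 [.edge 708 698 false, .edge 2410 860 false, .mul, .edge 2412 463 false, .mul, .edge 2414 1305 false, .mul]))) (.node 1 (.leaf (.eq 700 17043521 [] [.plain 2416 17651779 true])) (.leaf (.mov 104 19085399 false [.plain 2417 17508421 true, .edge 2415 1231 false]))))))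
(.node 7 (.node 3 (.node 1 (.leaf .dfn) (.node 1 (.leaf (.mov 105 27529303 false [.plain 715 27881557 true, .edge 2419 963 false])) (.leaf (.mov 105 13510735 false [.plain 716 13572161 true, .edge 2420 1066 false]))))
(.node 2 (.node 1 (.leaf (.mov 105 29904967 false [.plain 715 29763653 true, .edge 2421 958 false])) (.leaf .dfn)) (.node 1 (.leaf .dfn) (.leaf (.mov 703 17043521 false [.edge 2424 0 true])))))
(.node 4 (.node 2 (.node 1 (.leaf (.rel 104 11415623 4 [.edge 710 1142 false, .edge 2419 677 false, .mul, .edge 2423 838 false, .mul, .edge 2424 369 false, .mul])) (.leaf (.eq 703 17043521 [] [.plain 2426 17053787 true]))) (.node 1 (.leaf (.eqT 104 13310023 false [.plain 2427 17240145 true, .edge 2425 1112 false] [.edge 2373 0 false])) (.leaf (.eq 702 17043521 [] [.plain 2428 25768017 false]))))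
(.node 2 (.node 1 (.leaf .dfn) (.leaf (.mov 704 17043521 true [.edge 2430 0 true]))) (.node 1 (.leaf .dfn) (.leaf (.mov 705 17043521 true [.edge 2432 0 true])))))))
(.node 15 (.node 7 (.node 3 (.node 1 (.leaf .dfn) (.node 1 (.leaf (.mov 706 17043521 true [.edge 2434 0 true])) (.leaf (.rel 104 21504073 5 [.edge 2385 1521 false, .edge 2395 1352 false, .edge 2430 914 false, .mul, .edge 2432 695 false, .mul, .edge 2434 1170 false, .mul]))))
(.node 2 (.node 1 (.leaf (.eq 706 17043521 [] [.plain 2436 10641483 true])) (.leaf (.eqT 104 17059919 true [.plain 2437 19222611 true, .edge 2435 1359 false] [.edge 707 0 false]))) (.node 1 (.leaf (.eq 705 17043521 [] [.plain 2438 15429727 false])) (.leaf (.mov 105 13310023 true [.plain 2439 9007171 true, .edge 2433 1139 false])))))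
(.node 4 (.node 2 (.node 1 (.leaf (.mov 105 4808797 true [.plain 715 4946015 true, .edge 2440 1222 false])) (.leaf (.mov 105 4544593 true [.plain 716 4474967 true, .edge 2441 361 false]))) (.node 1 (.leaf (.mov 105 32131155 true [.plain 715 31799377 true, .edge 2442 1024 false])) (.leaf (.mov 105 32125001 true [.plain 717 32129097 true, .edge 2443 863 false]))))
(.node 2 (.node 1 (.leaf (.mov 105 31801425 true [.plain 715 32125011 true, .edge 2444 49 false])) (.leaf (.mov 105 29904967 true [.plain 716 29958233 true, .edge 2445 687 false]))) (.node 1 (.leaf (.mov 105 13510735 true [.plain 715 13111373 true, .edge 2446 1127 false])) (.leaf .dfn)))))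
(.node 7 (.node 3 (.node 1 (.leaf (.mov 707 17043521 true [.edge 2448 0 true])) (.node 1 (.leaf .dfn) (.leaf (.mov 708 17043521 true [.edge 2450 0 true]))))
(.node 2 (.node 1 (.leaf .dfn) (.leaf (.mov 709 17043521 true [.edge 2452 0 true]))) (.node 1 (.leaf (.rel 104 9244751 5 [.edge 707 159 false, .edge 2422 381 false, .edge 2448 861 false, .mul, .edge 2450 1003 false, .mul, .edge 2452 457 false, .mul])) (.leaf (.eq 709 17043521 [] [.plain 2454 27467865 true])))))
(.node 4 (.node 2 (.node 1 (.leaf (.eqT 104 13510735 true [.plain 2455 27605083 true, .edge 2453 1201 false] [.edge 2383 0 false])) (.leaf (.eq 708 17043521 [] [.plain 2456 17440863 false]))) (.node 1 (.leaf (.mov 688 11495495 true [.plain 2457 11358273 true, .edge 2451 1073 false])) (.leaf (.mov 688 29904967 true [.plain 2390 17721413 true, .edge 2458 1413 false]))))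
(.node 2 (.node 1 (.leaf (.mov 688 31801425 true [.plain 2391 29626439 true, .edge 2459 173 false])) (.leaf (.mov 688 25385043 true [.plain 2390 7088209 true, .edge 2460 985 false]))) (.node 1 (.leaf (.mov 688 10971209 true [.plain 2392 10973257 true, .edge 2461 840 false])) (.leaf (.mov 688 4544593 true [.plain 2390 10643539 true, .edge 2462 1281 false])))))))))
(.node 59 (.node 29 (.node 14 (.node 7 (.node 3 (.node 1 (.leaf (.mov 688 4808797 true [.plain 2391 6830153 true, .edge 2463 1417 false])) (.node 1 (.leaf (.mov 688 19085399 true [.plain 2390 6905941 true, .edge 2464 430 false])) (.leaf .dfn)))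
(.node 2 (.node 1 (.leaf .dfn) (.leaf (.mov 716 17043521 true [.edge 2467 0 true]))) (.node 1 (.leaf (.rel 105 5120075 1 [.edge 2443 1436 false, .mul, .edge 2466 1513 false, .mul, .edge 2467 1114 false, .mul, .mul])) (.leaf (.eq 716 17043521 [] [.plain 2469 27883615 true])))))
(.node 3 (.node 1 (.leaf (.eqT 105 13510735 true [.plain 2470 8935499 true, .edge 2468 180 false] [.edge 2447 0 false])) (.node 1 (.leaf (.eq 715 17043521 [] [.plain 2471 27529295 false])) (.leaf .dfn)))
(.node 2 (.node 1 (.leaf (.eqT 105 25385043 true [.plain 715 26161233 true, .edge 2473 1251 false] [.edge 2473 0 false])) (.leaf (.eqT 105 25385043 true [.plain 716 25311305 true, .edge 2473 1413 false] [.edge 2473 0 false]))) (.node 1 (.leaf (.eqT 105 25385043 true [.plain 717 25374803 true, .edge 2473 269 false] [.edge 2473 0 false])) (.leaf (.eqT 105 25385043 true [.plain 718 25376851 true, .edge 2473 1144 false] [.edge 2473 0 false]))))))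
(.node 7 (.node 3 (.node 1 (.leaf (.eq 721 17043521 [] [.plain 2477 27537481 false])) (.node 1 (.leaf (.eq 721 17043521 [] [.plain 2476 25434179 false])) (.leaf (.eq 721 17043521 [] [.plain 2475 25442369 false]))))
(.node 2 (.node 1 (.leaf (.eq 721 17043521 [] [.plain 2474 19148865 false])) (.leaf .dfn)) (.node 1 (.leaf (.mov 721 13510735 false [.plain 2478 19814483 true, .edge 2482 192 false])) (.leaf (.mov 721 17043521 false [.plain 2479 25434179 true, .edge 2483 1016 false])))))
(.node 4 (.node 2 (.node 1 (.leaf (.mov 721 27529303 false [.plain 2478 17051743 true, .edge 2484 73 false])) (.leaf (.eqT 721 27529303 false [.plain 2480 19150935 true, .edge 2482 1327 false] [.edge 2485 0 false]))) (.node 1 (.leaf (.eqT 721 17043521 false [.plain 2481 19148865 true, .edge 2482 1257 false] [.edge 2484 0 false])) (.leaf (.eq 722 17043521 [] [.plain 2487 17592405 false]))))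
(.node 2 (.node 1 (.leaf (.eq 722 17043521 [] [.plain 2486 17051721 false])) (.leaf .dfn)) (.node 1 (.leaf (.mov 725 17043521 false [.edge 2490 0 true])) (.leaf .dfn))))))
(.node 15 (.node 7 (.node 3 (.node 1 (.leaf (.mov 726 17043521 true [.edge 2492 0 true])) (.node 1 (.leaf .dfn) (.leaf (.mov 727 17043521 false [.edge 2494 0 true]))))
(.node 2 (.node 1 (.leaf (.rel 105 21839941 4 [.edge 2441 549 false, .edge 2490 854 false, .mul, .edge 2492 1309 false, .mul, .edge 2494 883 false, .mul])) (.leaf (.eq 727 17043521 [] [.plain 2496 16916575 true]))) (.node 1 (.leaf (.eqT 105 31801425 false [.plain 2497 17260635 true, .edge 2495 1480 false] [.edge 1716 0 false])) (.leaf (.eq 726 17043521 [] [.plain 2498 11415621 false])))))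
(.node 4 (.node 2 (.node 1 (.leaf (.mov 432 17059919 true [.plain 2499 27873369 true, .edge 2493 610 false])) (.leaf (.mov 432 17043521 true [.plain 1719 17584223 true, .edge 2500 239 false]))) (.node 1 (.leaf (.mov 432 10971209 true [.plain 1720 11284547 true, .edge 2501 350 false])) (.leaf (.mov 432 11495495 true [.plain 1719 11157579 true, .edge 2502 329 false]))))
(.node 2 (.node 1 (.leaf .dfn) (.leaf (.mov 722 25385043 true [.plain 2488 26171463 true, .edge 2504 353 false]))) (.node 1 (.leaf (.mov 722 17043521 true [.plain 2489 17764433 true, .edge 2505 1457 false])) (.leaf (.mov 722 17059919 true [.plain 2488 17584217 true, .edge 2506 535 false]))))))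
(.node 7 (.node 3 (.node 1 (.leaf .dfn) (.node 1 (.leaf .dfn) (.leaf (.mov 733 17043521 true [.edge 2509 0 true]))))
(.node 2 (.node 1 (.leaf (.rel 105 28201035 5 [.edge 2473 1425 false, .edge 2483 837 false, .edge 2504 345 false, .mul, .edge 2508 269 false, .mul, .edge 2509 361 false, .mul])) (.leaf (.eq 733 17043521 [] [.plain 2511 9125969 true]))) (.node 1 (.leaf (.eqT 105 13510735 true [.plain 2512 19667017 true, .edge 2510 345 false] [.edge 2447 0 false])) (.leaf (.eq 732 17043521 [] [.plain 2513 15540317 false])))))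
(.node 4 (.node 2 (.node 1 (.leaf .dfn) (.leaf (.mov 112 27529303 false [.plain 750 27856979 true, .edge 2515 442 false]))) (.node 1 (.leaf (.mov 112 23928925 false [.plain 751 23208011 true, .edge 2516 1225 false])) (.leaf (.mov 112 6776923 false [.plain 750 6580289 true, .edge 2517 86 false]))))
(.node 2 (.node 1 (.leaf .dfn) (.leaf (.mov 735 17043521 false [.edge 2519 0 true]))) (.node 1 (.leaf .dfn) (.leaf (.mov 736 17043521 false [.edge 2521 0 true]))))))))
(.node 29 (.node 14 (.node 7 (.node 3 (.node 1 (.leaf (.rel 112 27873371 0 [.edge 2515 583 false, .mul, .edge 2519 731 false, .mul, .edge 2521 3 false, .mul, .mul])) (.node 1 (.leaf (.eq 736 17043521 [] [.plain 2523 19542097 true])) (.leaf (.mov 112 29904967 false [.plain 2524 17657931 true, .edge 2522 1083 false]))))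
(.node 2 (.node 1 (.leaf (.mov 112 13510735 false [.plain 750 13117509 true, .edge 2525 530 false])) (.leaf (.mov 112 13310023 false [.plain 751 13506635 true, .edge 2526 231 false]))) (.node 1 (.leaf (.mov 112 9056345 false [.plain 750 9318485 true, .edge 2527 283 false])) (.leaf .dfn))))
(.node 3 (.node 1 (.leaf (.mov 112 32125001 true [.plain 750 31797317 true, .edge 2529 1413 false])) (.node 1 (.leaf (.mov 112 13310023 true [.plain 751 13506635 true, .edge 2530 266 false])) (.leaf (.mov 112 4544593 true [.plain 750 4675655 true, .edge 2531 457 false]))))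
(.node 2 (.node 1 (.leaf .dfn) (.leaf .dfn)) (.node 1 (.leaf (.mov 739 17043521 true [.edge 2534 0 true])) (.leaf (.rel 112 13111391 1 [.edge 2529 1300 false, .mul, .edge 2533 621 false, .mul, .edge 2534 71 false, .mul, .mul]))))))
(.node 7 (.node 3 (.node 1 (.leaf (.eq 739 17043521 [] [.plain 2536 17651783 true])) (.node 1 (.leaf (.eqT 112 4544593 true [.plain 2537 11368513 true, .edge 2535 625 false] [.edge 2532 0 false])) (.leaf (.eq 738 17043521 [] [.plain 2538 11366487 false]))))
(.node 2 (.node 1 (.leaf .dfn) (.leaf (.mov 112 32131155 true [.plain 750 31803457 true, .edge 2540 1018 false]))) (.node 1 (.leaf (.mov 112 4808797 true [.plain 751 4677721 true, .edge 2541 97 false])) (.leaf (.mov 112 13510735 true [.plain 750 13117509 true, .edge 2542 490 false])))))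
(.node 4 (.node 2 (.node 1 (.leaf .dfn) (.leaf .dfn)) (.node 1 (.leaf (.mov 746 17043521 true [.edge 2545 0 true])) (.leaf .dfn)))
(.node 2 (.node 1 (.leaf (.mov 747 17043521 false [.edge 2547 0 true])) (.leaf (.rel 112 15411291 3 [.edge 2541 1224 false, .edge 2544 437 false, .mul, .edge 2545 632 false, .mul, .edge 2547 896 false, .mul]))) (.node 1 (.leaf (.eq 747 17043521 [] [.plain 2549 17059929 true])) (.leaf (.eqT 112 6776923 false [.plain 2550 17576025 true, .edge 2548 709 false] [.edge 2518 0 false])))))))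
(.node 15 (.node 7 (.node 3 (.node 1 (.leaf (.eq 746 17043521 [] [.plain 2551 25915457 false])) (.node 1 (.leaf (.mov 734 25385043 true [.plain 2552 19224659 true, .edge 2546 807 false])) (.leaf .dfn)))
(.node 2 (.node 1 (.leaf .dfn) (.leaf .dfn)) (.node 1 (.leaf (.mov 753 17043521 false [.edge 2556 0 true])) (.leaf (.rel 112 32190553 4 [.edge 2530 1272 false, .edge 2554 960 false, .mul, .edge 2555 647 false, .mul, .edge 2556 17 false, .mul])))))
(.node 4 (.node 2 (.node 1 (.leaf (.eq 753 17043521 [] [.plain 2558 17256541 true])) (.leaf (.mov 112 32125001 false [.plain 2559 17782859 true, .edge 2557 1331 false]))) (.node 1 (.leaf .dfn) (.leaf (.mov 114 31801425 false [.plain 756 31789135 true, .edge 2561 1415 false]))))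
(.node 2 (.node 1 (.leaf (.mov 114 13310023 false [.plain 757 13320285 true, .edge 2562 1167 false])) (.leaf (.mov 114 10971209 false [.plain 756 10975299 true, .edge 2563 1502 false]))) (.node 1 (.leaf (.mov 114 19085399 false [.plain 774 31799375 true, .edge 2564 757 false])) (.leaf (.mov 114 4808797 false [.plain 772 19030087 true, .edge 2565 1153 false]))))))
(.node 7 (.node 3 (.node 1 (.leaf (.eqT 114 9056345 false [.plain 772 21246039 true, .edge 2561 796 false] [.edge 2561 0 false])) (.node 1 (.leaf (.eqT 114 9056345 false [.plain 774 7155787 true, .edge 2561 1517 false] [.edge 2561 0 false])) (.leaf (.eq 767 17043521 [] [.plain 2568 17051739 false]))))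
(.node 2 (.node 1 (.leaf (.eq 767 17043521 [] [.plain 2567 17070163 false])) (.leaf .dfn)) (.node 1 (.leaf (.eqT 767 19085399 false [.plain 2569 19079233 true, .edge 2571 239 false] [.edge 2571 0 false])) (.leaf (.eqT 767 19085399 false [.plain 2570 19095623 true, .edge 2571 228 false] [.edge 2571 0 false])))))
(.node 4 (.node 2 (.node 1 (.leaf (.eq 768 17043521 [] [.plain 2573 17698883 false])) (.leaf (.eq 768 17043521 [] [.plain 2572 17764437 false]))) (.node 1 (.leaf .dfn) (.leaf (.mov 769 17043521 false [.edge 2576 0 true]))))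
(.node 2 (.node 1 (.leaf (.rel 114 30040131 0 [.edge 2561 730 false, .mul, .edge 2571 130 false, .mul, .edge 2576 330 false, .mul, .mul])) (.leaf (.eq 769 17043521 [] [.plain 2578 19730515 true]))) (.node 1 (.leaf (.mov 114 6776923 false [.plain 2579 17657931 true, .edge 2577 1083 false])) (.leaf (.mov 114 7292999 false [.plain 756 7284801 true, .edge 2580 563 false]))))))))))

/-- The reasons. -/
def caseBFullSrcRLRR : Tab Src :=
(.node 117 (.node 58 (.node 29 (.node 14 (.node 7 (.node 3 (.node 1 (.leaf (.mov 114 23928925 false [.plain 757 23939153 true, .edge 2581 127 false])) (.node 1 (.leaf (.mov 114 32125001 false [.plain 756 32118871 true, .edge 2582 746 false])) (.leaf (.mov 114 17043521 false [.plain 774 23531615 true, .edge 2583 101 false]))))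
(.node 2 (.node 1 (.leaf (.mov 114 29904967 false [.plain 772 17715281 true, .edge 2584 925 false])) (.leaf .dfn)) (.node 1 (.leaf .dfn) (.leaf (.mov 771 17043521 true [.edge 2587 0 true])))))
(.node 3 (.node 1 (.leaf (.rel 114 31924301 1 [.edge 778 1013 false, .mul, .edge 2586 94 false, .mul, .edge 2587 1437 false, .mul, .mul])) (.node 1 (.leaf (.eq 771 17043521 [] [.plain 2589 11276357 true])) (.leaf (.eqT 114 32131155 true [.plain 2590 27529281 true, .edge 2588 940 false] [.edge 777 0 false]))))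
(.node 2 (.node 1 (.leaf (.eq 770 17043521 [] [.plain 2591 8927325 false])) (.leaf .dfn)) (.node 1 (.leaf (.mov 114 31801425 true [.plain 756 31789135 true, .edge 2593 1069 false])) (.leaf (.mov 114 4808797 true [.plain 757 4794443 true, .edge 2594 1444 false]))))))
(.node 7 (.node 3 (.node 1 (.leaf (.mov 114 4544593 true [.plain 756 4546645 true, .edge 2595 872 false])) (.node 1 (.leaf (.mov 114 19085399 true [.plain 772 6895707 true, .edge 2596 352 false])) (.leaf (.mov 114 11495495 true [.plain 756 11483213 true, .edge 2597 1363 false]))))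
(.node 2 (.node 1 (.leaf (.mov 114 25385043 true [.plain 757 25378893 true, .edge 2598 156 false])) (.leaf (.mov 114 10971209 true [.plain 756 10975299 true, .edge 2599 1041 false]))) (.node 1 (.leaf (.eqT 114 19085399 true [.plain 774 31799375 true, .edge 2593 384 false] [.edge 2597 0 false])) (.leaf (.eq 772 17043521 [] [.plain 2601 27603025 false])))))
(.node 4 (.node 2 (.node 1 (.leaf .dfn) (.leaf (.mov 772 19085399 false [.plain 2602 6975569 true, .edge 2603 1091 false]))) (.node 1 (.leaf (.mov 772 4808797 false [.plain 2602 19624015 true, .edge 2604 679 false])) (.leaf .dfn)))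
(.node 2 (.node 1 (.leaf .dfn) (.leaf (.mov 777 17043521 false [.edge 2607 0 true]))) (.node 1 (.leaf (.rel 114 13176921 3 [.edge 2596 303 false, .edge 2604 551 false, .mul, .edge 2606 727 false, .mul, .edge 2607 170 false, .mul])) (.leaf (.eq 777 17043521 [] [.plain 2609 17528917 true])))))))
(.node 14 (.node 7 (.node 3 (.node 1 (.leaf (.eqT 114 4808797 false [.plain 2610 16922703 true, .edge 2608 681 false] [.edge 2566 0 false])) (.node 1 (.leaf (.eq 776 17043521 [] [.plain 2611 19667011 false])) (.leaf .dfn)))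
(.node 2 (.node 1 (.leaf .dfn) (.leaf (.mov 779 17043521 true [.edge 2614 0 true]))) (.node 1 (.leaf .dfn) (.leaf (.mov 780 17043521 false [.edge 2616 0 true])))))
(.node 3 (.node 1 (.leaf (.rel 114 4679763 3 [.edge 777 1487 false, .edge 2613 1233 false, .mul, .edge 2614 214 false, .mul, .edge 2616 94 false, .mul])) (.node 1 (.leaf (.eq 780 17043521 [] [.plain 2618 17125451 true])) (.leaf (.eqT 114 9056345 false [.plain 2619 17719381 true, .edge 2617 1400 false] [.edge 2561 0 false]))))
(.node 2 (.node 1 (.leaf (.eq 779 17043521 [] [.plain 2620 25458765 false])) (.leaf (.mov 767 17059919 true [.plain 2621 25434177 true, .edge 2615 1227 false]))) (.node 1 (.leaf .dfn) (.leaf (.mov 781 17043521 false [.edge 2623 0 true]))))))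
(.node 7 (.node 3 (.node 1 (.leaf (.mov 772 17043521 false [.plain 2602 9195593 true, .edge 2623 1080 false])) (.node 1 (.leaf .dfn) (.leaf (.mov 782 17043521 true [.edge 2626 0 true]))))
(.node 2 (.node 1 (.leaf .dfn) (.leaf (.mov 783 17043521 false [.edge 2628 0 true]))) (.node 1 (.leaf (.rel 114 13400151 4 [.edge 2593 1283 false, .edge 2623 1301 false, .mul, .edge 2626 686 false, .mul, .edge 2628 69 false, .mul])) (.leaf (.eq 783 17043521 [] [.plain 2630 17782877 true])))))
(.node 4 (.node 2 (.node 1 (.leaf (.eqT 114 32125001 false [.plain 2631 17768519 true, .edge 2629 99 false] [.edge 2583 0 false])) (.leaf (.eq 782 17043521 [] [.plain 2632 17180761 false]))) (.node 1 (.leaf (.mov 768 17043521 true [.plain 2633 19222611 true, .edge 2627 1359 false])) (.leaf (.mov 768 25385043 true [.plain 2574 25450577 true, .edge 2634 1079 false]))))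
(.node 2 (.node 1 (.leaf (.mov 768 17059919 true [.plain 2575 17256523 true, .edge 2635 567 false])) (.leaf (.mov 768 19085399 true [.plain 2574 19740757 true, .edge 2636 1529 false]))) (.node 1 (.leaf .dfn) (.leaf .dfn)))))))
(.node 29 (.node 14 (.node 7 (.node 3 (.node 1 (.leaf .dfn) (.node 1 (.leaf (.mov 786 17043521 true [.edge 2640 0 true])) (.leaf (.rel 114 27990103 5 [.edge 2597 1062 false, .edge 2605 769 false, .edge 2638 1349 false, .mul, .edge 2639 526 false, .mul, .edge 2640 262 false, .mul]))))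
(.node 2 (.node 1 (.leaf (.eq 786 17043521 [] [.plain 2642 25567323 true])) (.leaf (.eqT 114 31801425 true [.plain 2643 8998979 true, .edge 2641 672 false] [.edge 2594 0 false]))) (.node 1 (.leaf (.eq 785 17043521 [] [.plain 2644 29626455 false])) (.leaf .dfn))))
(.node 3 (.node 1 (.leaf (.mov 787 17043521 true [.edge 2646 0 true])) (.node 1 (.leaf .dfn) (.leaf (.mov 788 17043521 true [.edge 2648 0 true]))))
(.node 2 (.node 1 (.leaf .dfn) (.leaf (.mov 789 17043521 true [.edge 2650 0 true]))) (.node 1 (.leaf (.rel 114 23668809 5 [.edge 2594 1105 false, .edge 2604 962 false, .edge 2646 941 false, .mul, .edge 2648 1173 false, .mul, .edge 2650 727 false, .mul])) (.leaf (.eq 789 17043521 [] [.plain 2652 27740233 true]))))))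
(.node 7 (.node 3 (.node 1 (.leaf (.eqT 114 17059919 true [.plain 2653 27859019 true, .edge 2651 70 false] [.edge 773 0 false])) (.node 1 (.leaf (.eq 788 17043521 [] [.plain 2654 6971473 false])) (.leaf (.eqT 112 29904967 true [.plain 2655 9263195 true, .edge 2649 865 false] [.edge 2529 0 false]))))
(.node 2 (.node 1 (.leaf (.eq 787 17043521 [] [.plain 2656 7225427 false])) (.leaf (.mov 737 32131155 true [.plain 2657 19755075 true, .edge 2647 566 false]))) (.node 1 (.leaf .dfn) (.leaf (.mov 116 11495495 true [.plain 801 9271365 true, .edge 2659 43 false])))))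
(.node 4 (.node 2 (.node 1 (.leaf (.rel 116 17051731 1 [.edge 780 668 false, .mul, .edge 781 12 false, .mul, .edge 2659 505 false, .mul, .mul])) (.leaf (.eq 793 17043521 [] [.plain 2661 17109085 true]))) (.node 1 (.leaf .dfn) (.leaf (.mov 798 17043521 false [.edge 2663 0 true]))))
(.node 2 (.node 1 (.leaf .dfn) (.leaf (.mov 799 17043521 true [.edge 2665 0 true]))) (.node 1 (.leaf .dfn) (.leaf (.mov 800 17043521 false [.edge 2667 0 true])))))))
(.node 15 (.node 7 (.node 3 (.node 1 (.leaf (.rel 116 21786699 4 [.edge 1171 1073 false, .edge 2663 1445 false, .mul, .edge 2665 1185 false, .mul, .edge 2667 1464 false, .mul])) (.node 1 (.leaf (.eq 800 17043521 [] [.plain 2669 17244253 true])) (.leaf (.eqT 116 9056345 false [.plain 2670 17594441 true, .edge 2668 167 false] [.edge 1142 0 false]))))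
(.node 2 (.node 1 (.leaf (.eq 799 16935007 [] [.plain 2671 17043521 false, .plain 1152 17592393 false])) (.leaf (.eq 799 17043521 [] [.plain 2672 17506381 false]))) (.node 1 (.leaf (.eqT 148 32125001 true [.plain 2673 11284571 true, .edge 2666 310 false] [.edge 931 0 false])) (.leaf (.eq 798 25718861 [] [.plain 2674 17043521 false, .plain 937 17043521 false])))))
(.node 4 (.node 2 (.node 1 (.leaf (.eq 798 17043521 [] [.plain 2675 9195597 false])) (.leaf (.eqT 129 27529303 false [.plain 2676 17193031 true, .edge 2664 1173 false] [.edge 914 0 false]))) (.node 1 (.leaf (.eq 217 17043521 [] [.plain 2677 19605569 false])) (.leaf (.eqT 145 19085399 true [.plain 2678 17594451 true, .edge 1162 1086 false] [.edge 1581 0 false]))))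
(.node 2 (.node 1 (.leaf (.eq 148 13527109 [] [.plain 2679 17043521 false, .plain 1393 8984651 false])) (.leaf (.eq 260 17043521 [] [.plain 2680 25442397 true]))) (.node 1 (.leaf (.mov 148 27529303 false [.plain 2681 6971475 true, .edge 1599 1374 false])) (.leaf (.eqT 363 17043521 false [.edge 2682 1444 true] [.edge 1598 0 false]))))))
(.node 7 (.node 3 (.node 1 (.leaf (.eq 148 23230539 [] [.plain 2683 17043521 false, .plain 2681 29511765 false])) (.node 1 (.leaf (.eq 148 17043521 [] [.plain 2684 27926615 false])) (.leaf (.eqT 148 32125001 true [.plain 2685 31600713 true, .edge 931 1045 false] [.edge 931 0 false]))))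
(.node 2 (.node 1 (.leaf (.mov 148 23928925 false [.plain 2685 23273565 true, .edge 1153 528 false])) (.leaf (.eq 149 17586259 [.plain 937 17586259 false] [.plain 2686 17043521 false, .plain 937 17043521 false]))) (.node 1 (.leaf (.eq 129 17043521 [] [.plain 2688 13443141 false])) (.leaf (.mov 129 10971209 true [.plain 2689 9187401 true, .edge 836 173 false])))))
(.node 4 (.node 2 (.node 1 (.leaf (.mov 129 11495495 true [.plain 2689 9203783 true, .edge 848 1159 false])) (.leaf (.mov 129 7292999 false [.plain 2689 4747335 true, .edge 913 105 false]))) (.node 1 (.leaf (.mov 129 32125001 false [.plain 846 31737931 true, .edge 2692 1489 false])) (.leaf (.eqT 129 19085399 true [.plain 2689 17174615 true, .edge 2211 1309 false] [.edge 2211 0 false]))))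
(.node 2 (.node 1 (.leaf (.eq 88 17043521 [] [.plain 2694 17258585 false])) (.leaf (.eqT 88 29904967 true [.plain 2695 32067653 true, .edge 1878 423 false] [.edge 1878 0 false]))) (.node 1 (.leaf (.mov 88 32125001 false [.plain 2695 30093387 true, .edge 1896 560 false])) (.leaf (.eqT 88 7292999 false [.plain 2695 5130309 true, .edge 2253 520 false] [.edge 2253 0 false])))))))))
(.node 59 (.node 29 (.node 14 (.node 7 (.node 3 (.node 1 (.leaf (.eq 612 17043521 [] [.plain 2698 17584193 false])) (.node 1 (.leaf (.eq 469 17043521 [] [.plain 2696 11294789 false])) (.leaf (.eqT 469 13310023 true [.plain 2700 15366213 true, .edge 1962 38 false] [.edge 1962 0 false]))))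
(.node 2 (.node 1 (.leaf (.eq 489 17043521 [] [.plain 2701 21575747 false])) (.leaf (.eqT 489 17043521 true [.plain 2702 17586259 true, .edge 1950 1338 false] [.edge 1950 0 false]))) (.node 1 (.leaf (.eq 488 17043521 [] [.plain 2703 17567823 false])) (.leaf (.eqT 488 17043521 false [.plain 2704 17584209 true, .edge 1948 857 false] [.edge 1948 0 false])))))
(.node 3 (.node 1 (.leaf (.eq 466 17043521 [] [.plain 2705 27621471 false])) (.node 1 (.leaf (.eqT 466 19085399 true [.plain 2706 19083351 true, .edge 1946 1004 false] [.edge 1946 0 false])) (.leaf (.eq 485 17043521 [] [.plain 2707 27684957 false]))))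
(.node 2 (.node 1 (.leaf (.eqT 485 17043521 true [.plain 2708 11104321 true, .edge 1934 347 false] [.edge 1934 0 false])) (.leaf (.eq 472 17043521 [] [.plain 2709 6889537 false]))) (.node 1 (.leaf (.eqT 472 17043521 false [.plain 2710 17586259 true, .edge 1884 1493 false] [.edge 1884 0 false])) (.leaf (.eq 433 32184405 [.plain 2214 32184405 false] [.plain 2711 17043521 false, .plain 2214 29511765 false]))))))
(.node 7 (.node 3 (.node 1 (.leaf (.eq 151 17043521 [] [.plain 2712 12738641 false])) (.node 1 (.leaf (.eqT 151 29904967 false [.plain 2713 32129091 true, .edge 2228 1283 false] [.edge 2219 0 false])) (.leaf (.eq 588 17043521 [] [.plain 2714 17766491 false]))))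
(.node 2 (.node 1 (.leaf (.eqT 456 11495495 true [.plain 2715 11483207 true, .edge 2194 1053 false] [.edge 1815 0 false])) (.leaf (.eq 589 27547715 [.plain 2200 27547715 false] [.plain 2716 17043521 false, .plain 1821 17043521 false]))) (.node 1 (.leaf (.eq 567 17043521 [] [.plain 2717 4878421 false])) (.leaf (.eqT 444 17043521 false [.plain 2718 17784919 true, .edge 2149 635 false] [.edge 1783 0 false])))))
(.node 4 (.node 2 (.node 1 (.leaf (.eq 95 17043521 [] [.plain 2719 15470685 false])) (.leaf (.eqT 85 11495495 true [.plain 2720 23537735 true, .edge 2182 560 false] [.edge 1792 0 false]))) (.node 1 (.leaf (.eqT 85 29904967 true [.plain 2720 15495239 true, .edge 2184 577 false] [.edge 1805 0 false])) (.leaf (.eq 581 11284563 [] [.plain 2722 17043521 false, .plain 1835 27545675 false, .plain 2214 17180753 false]))))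
(.node 2 (.node 1 (.leaf (.eq 581 17043521 [] [.plain 2723 27875417 false])) (.leaf (.eqT 151 17043521 false [.plain 2724 27613255 true, .edge 2185 1350 false] [.edge 939 0 false]))) (.node 1 (.leaf (.eq 582 17043521 [] [.plain 2725 17004613 false])) (.leaf (.eqT 129 10971209 true [.plain 2726 9195611 true, .edge 2186 591 false] [.edge 2690 0 false])))))))
(.node 15 (.node 7 (.node 3 (.node 1 (.leaf (.eq 583 27865179 [.plain 2192 27865179 false] [.plain 2727 17043521 false])) (.node 1 (.leaf (.eq 570 17043521 [] [.plain 2728 4939847 false])) (.leaf (.eqT 19 23928925 false [.plain 2729 19232855 true, .edge 2153 45 false] [.edge 624 0 false]))))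
(.node 2 (.node 1 (.leaf (.eq 571 17133657 [] [.plain 2730 17043521 false, .plain 2720 17043521 false])) (.leaf (.eq 571 17043521 [] [.plain 2731 17135707 false]))) (.node 1 (.leaf (.eqT 85 17043521 true [.plain 2732 28268615 true, .edge 2278 632 false] [.edge 567 0 false])) (.leaf (.eq 620 17043521 [] [.plain 2733 11081801 false])))))
(.node 4 (.node 2 (.node 1 (.leaf (.eqT 13 29904967 false [.plain 2734 17524805 true, .edge 2279 656 false] [.edge 648 0 false])) (.leaf (.eq 621 17053767 [.plain 2281 17053767 false] [.plain 2735 17043521 false]))) (.node 1 (.leaf (.eq 96 17043521 [] [.plain 2736 19538011 false])) (.leaf (.mov 96 4808797 false [.plain 2737 21958735 true, .edge 2263 874 false]))))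
(.node 2 (.node 1 (.leaf (.eqT 96 27529303 false [.plain 2737 17721439 true, .edge 2274 499 false] [.edge 2247 0 false])) (.leaf (.eq 618 17180759 [] [.plain 2739 17043521 false, .plain 2249 17043521 false]))) (.node 1 (.leaf (.eq 618 17043521 [] [.plain 2740 16988253 false])) (.leaf (.eqT 96 17059919 true [.plain 2741 27816029 true, .edge 2277 1135 false] [.edge 653 0 false]))))))
(.node 7 (.node 3 (.node 1 (.leaf (.eq 617 9271361 [] [.plain 2742 17043521 false, .plain 2720 11167833 false])) (.node 1 (.leaf (.eq 617 17043521 [] [.plain 2743 27799617 false])) (.leaf (.eqT 85 17043521 true [.plain 2744 25696339 true, .edge 2268 13 false] [.edge 567 0 false]))))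
(.node 2 (.node 1 (.leaf (.eq 618 11294809 [.plain 2741 11294809 false] [.plain 2745 17043521 false])) (.leaf (.eq 96 17043521 [] [.plain 2746 9181251 false]))) (.node 1 (.leaf (.eqT 13 7292999 false [.plain 2747 15278167 true, .edge 2738 1202 false] [.edge 553 0 false])) (.leaf (.eq 615 17043521 [] [.plain 2748 11300959 false])))))
(.node 4 (.node 2 (.node 1 (.leaf (.eqT 80 25385043 true [.plain 2749 9203807 true, .edge 2266 929 false] [.edge 1655 0 false])) (.leaf (.eq 614 9121881 [] [.plain 2750 17043521 false, .plain 2325 11417689 false]))) (.node 1 (.leaf (.eq 614 17043521 [] [.plain 2751 32002127 false])) (.leaf (.eqT 100 17043521 false [.plain 2752 17643587 true, .edge 2256 27 false] [.edge 665 0 false]))))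
(.node 2 (.node 1 (.leaf (.eq 613 17043521 [] [.plain 2753 17459281 false])) (.leaf (.eqT 85 29904967 false [.plain 2754 32071767 true, .edge 2282 1041 false] [.edge 2311 0 false]))) (.node 1 (.leaf (.eq 622 17043521 [] [.plain 2755 16916547 false])) (.leaf (.eqT 610 17043521 true [.plain 2756 9060445 true, .edge 2283 769 false] [.edge 2251 0 false]))))))))
(.node 29 (.node 14 (.node 7 (.node 3 (.node 1 (.leaf (.eq 623 11016273 [.plain 2289 11016273 false] [.plain 2757 17043521 false, .plain 2747 13310023 false])) (.node 1 (.leaf (.eq 473 17043521 [] [.plain 2758 6961235 false])) (.leaf (.eqT 13 4544593 true [.plain 2759 9058389 true, .edge 1891 1020 false] [.edge 557 0 false]))))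
(.node 2 (.node 1 (.leaf (.eq 474 17043521 [] [.plain 2760 25694299 false])) (.leaf (.eqT 82 19085399 false [.plain 2761 6907975 true, .edge 1892 719 false] [.edge 576 0 false]))) (.node 1 (.leaf (.eq 475 17059917 [.plain 1895 17059917 false] [.plain 2762 17043521 false])) (.leaf (.eq 88 17043521 [] [.plain 2763 21958727 false])))))
(.node 3 (.node 1 (.leaf (.eqT 88 19085399 false [.plain 2764 30095451 true, .edge 2697 875 false] [.edge 1684 0 false])) (.node 1 (.leaf (.eq 474 27883615 [.plain 2761 27883615 false] [.plain 2765 17043521 false, .plain 1690 17043521 false])) (.leaf (.eq 88 17043521 [] [.plain 2766 19034187 true]))))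
(.node 2 (.node 1 (.leaf (.eqT 82 32131155 true [.plain 2767 32254029 true, .edge 1845 517 false] [.edge 727 0 false])) (.leaf (.eqT 82 4544593 true [.plain 2767 4995157 true, .edge 1878 607 false] [.edge 1693 0 false]))) (.node 1 (.leaf (.eqT 82 27529303 false [.plain 2767 28002381 true, .edge 2253 672 false] [.edge 586 0 false])) (.leaf (.eq 612 17043521 [] [.plain 2770 17197131 false]))))))
(.node 7 (.node 3 (.node 1 (.leaf (.eq 612 17043521 [.plain 2771 17043521 false] [.plain 2699 17043521 false, .plain 2771 17584193 false])) (.node 1 (.leaf (.eq 89 17043521 [] [.plain 2772 17528917 false])) (.leaf (.eqT 89 19085399 true [.plain 2773 19099717 true, .edge 593 1023 false] [.edge 593 0 false]))))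
(.node 2 (.node 1 (.leaf (.eqT 89 23928925 false [.plain 2773 23951435 true, .edge 1983 140 false] [.edge 1981 0 false])) (.leaf (.eqT 89 19085399 false [.plain 2773 19099717 true, .edge 2004 996 false] [.edge 2004 0 false]))) (.node 1 (.leaf (.eq 509 17043521 [] [.plain 2776 25372745 false])) (.leaf (.eqT 509 13510735 true [.plain 2777 13525085 true, .edge 2007 1128 false] [.edge 2007 0 false])))))
(.node 4 (.node 2 (.node 1 (.leaf (.eq 508 17043521 [] [.plain 2778 16937027 false])) (.leaf (.eqT 508 17043521 false [.plain 2779 17586243 true, .edge 1997 1531 false] [.edge 1997 0 false]))) (.node 1 (.leaf (.eq 507 17043521 [] [.plain 2780 19802185 false])) (.leaf (.eqT 507 13310023 true [.plain 2781 13439045 true, .edge 2028 343 false] [.edge 2026 0 false]))))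
(.node 2 (.node 1 (.leaf (.eq 514 17043521 [] [.plain 2782 7098455 false])) (.leaf (.eqT 514 17043521 true [.plain 2783 13310019 true, .edge 2031 1111 false] [.edge 2012 0 false]))) (.node 1 (.leaf (.eq 511 17043521 [] [.plain 2784 23687263 false])) (.leaf (.eqT 511 17043521 false [.plain 2785 17635393 true, .edge 2009 1238 false] [.edge 2009 0 false])))))))
(.node 15 (.node 7 (.node 3 (.node 1 (.leaf (.eq 495 17043521 [] [.plain 2786 27531357 false])) (.node 1 (.leaf (.mov 495 19085399 false [.plain 2787 16932929 true, .edge 1973 1060 false])) (.leaf (.eq 501 17043521 [] [.plain 2775 10975301 false]))))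
(.node 2 (.node 1 (.leaf (.eqT 501 17043521 true [.plain 2789 19142749 true, .edge 2054 40 false] [.edge 1975 0 false])) (.leaf (.eq 540 17043521 [] [.plain 2790 17133659 false]))) (.node 1 (.leaf (.mov 498 17059919 true [.plain 2791 29843521 true, .edge 2055 330 false])) (.leaf (.eq 90 17043521 [] [.plain 2774 17635409 false])))))
(.node 4 (.node 2 (.node 1 (.leaf (.eqT 90 19085399 false [.plain 2793 19607621 true, .edge 599 909 false] [.edge 599 0 false])) (.leaf (.mov 90 23928925 false [.plain 2793 23537739 true, .edge 2049 1244 false]))) (.node 1 (.leaf (.eq 91 17569873 [.plain 602 17569873 false] [.plain 2794 17043521 false, .plain 602 17043521 false])) (.leaf (.eq 13 17043521 [] [.plain 2796 21854299 false]))))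
(.node 2 (.node 1 (.leaf (.eqT 13 19085399 true [.plain 2797 12730455 true, .edge 569 547 false] [.edge 194 0 false])) (.leaf (.eq 85 17043521 [] [.plain 2798 17641553 false]))) (.node 1 (.leaf (.eqT 19 17059919 true [.plain 2799 19277897 true, .edge 1800 1303 false] [.edge 857 0 false])) (.leaf (.eqT 19 19085399 false [.plain 2799 17633353 true, .edge 1813 1310 false] [.edge 729 0 false]))))))
(.node 7 (.node 3 (.node 1 (.leaf (.eq 377 19884115 [] [.plain 2801 17043521 false, .plain 735 17043521 false])) (.node 1 (.leaf (.eq 377 17043521 [] [.plain 2802 19542097 false])) (.leaf (.eqT 19 13510735 true [.plain 2803 13254725 true, .edge 1674 1192 false] [.edge 842 0 false]))))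
(.node 2 (.node 1 (.leaf (.eq 388 17043521 [] [.plain 2804 7159873 false])) (.leaf (.eqT 129 19085399 true [.plain 2805 11292737 true, .edge 1657 618 false] [.edge 2211 0 false]))) (.node 1 (.leaf (.eq 380 19081311 [] [.plain 2806 17043521 false, .plain 2767 19880015 false])) (.leaf (.eq 380 17043521 [] [.plain 2807 19081309 false])))))
(.node 4 (.node 2 (.node 1 (.leaf (.eqT 82 19085399 true [.plain 2808 19017813 true, .edge 1658 8 false] [.edge 1692 0 false])) (.leaf (.eqT 82 10971209 true [.plain 2808 10903627 true, .edge 1676 394 false] [.edge 1698 0 false]))) (.node 1 (.leaf (.eq 428 17043521 [] [.plain 2810 11014209 true])) (.leaf (.mov 391 17059919 true [.plain 2811 25712733 true, .edge 1702 878 false]))))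
(.node 2 (.node 1 (.leaf (.mov 391 27529303 false [.plain 2811 19732559 true, .edge 1709 1006 false])) (.leaf (.mov 391 11495495 true [.plain 2811 21323855 true, .edge 1781 673 false]))) (.node 1 (.leaf (.eq 388 27553857 [.plain 2805 27553857 false] [.plain 2809 17043521 false, .plain 2811 9271379 false])) (.leaf (.eq 391 17043521 [] [.plain 2815 11294811 true]))))))))))

/-- The reasons. -/
def caseBFullSrcRLR : Tab Src := .node 235 caseBFullSrcRLRL caseBFullSrcRLRR

/-- The reasons. -/
def caseBFullSrcRL : Tab Src := .node 469 caseBFullSrcRLL caseBFullSrcRLR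

/-- The reasons. -/
def caseBFullSrcRRLL : Tab Src :=
(.node 117 (.node 58 (.node 29 (.node 14 (.node 7 (.node 3 (.node 1 (.leaf (.mov 129 25385043 true [.plain 2816 19691591 true, .edge 2812 1430 false])) (.node 1 (.leaf (.mov 129 9056345 false [.plain 2816 27553879 true, .edge 2813 1258 false])) (.leaf (.mov 129 6776923 false [.plain 846 6647897 true, .edge 2818 819 false]))))
(.node 2 (.node 1 (.leaf (.mov 129 23928925 false [.plain 847 23883851 true, .edge 2819 755 false])) (.leaf (.mov 129 13310023 false [.plain 846 13379653 true, .edge 2820 1419 false]))) (.node 1 (.leaf (.mov 129 32125001 true [.plain 2816 28256327 true, .edge 2814 1045 false])) (.leaf (.mov 129 31801425 true [.plain 846 32192595 true, .edge 2822 989 false])))))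
(.node 3 (.node 1 (.leaf (.mov 129 29904967 true [.plain 847 29960283 true, .edge 2823 612 false])) (.node 1 (.leaf (.eqT 129 32125001 true [.plain 2689 29841481 true, .edge 2822 953 false] [.edge 2822 0 false])) (.leaf (.eq 441 17043521 [] [.plain 2825 29970501 false]))))
(.node 2 (.node 1 (.leaf (.eqT 441 17043521 true [.plain 2826 17127491 true, .edge 1772 1039 false] [.edge 1772 0 false])) (.leaf (.eq 431 17043521 [] [.plain 2827 17109087 false]))) (.node 1 (.leaf (.eqT 431 25385043 true [.plain 2828 25311305 true, .edge 1743 1413 false] [.edge 1743 0 false])) (.leaf (.eq 438 17043521 [] [.plain 2829 25442369 false]))))))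
(.node 7 (.node 3 (.node 1 (.leaf (.eqT 438 29904967 true [.plain 2830 13113415 true, .edge 1745 342 false] [.edge 1745 0 false])) (.node 1 (.leaf (.eq 439 17043521 [] [.plain 2831 17109057 false])) (.leaf (.eqT 439 11495495 true [.plain 2832 11429959 true, .edge 1747 12 false] [.edge 1747 0 false]))))
(.node 2 (.node 1 (.leaf (.eq 440 17045571 [.plain 1750 17045571 false] [.plain 2833 17043521 false, .plain 1750 17043521 false])) (.leaf (.eq 82 17043521 [] [.plain 2834 27471949 false]))) (.node 1 (.leaf (.eqT 82 32125001 true [.plain 2835 30093385 true, .edge 728 66 false] [.edge 728 0 false])) (.leaf (.eq 105 17043521 [] [.plain 2836 21182539 false])))))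
(.node 4 (.node 2 (.node 1 (.leaf (.eqT 105 25385043 true [.plain 2837 26169427 true, .edge 2473 38 false] [.edge 2473 0 false])) (.leaf (.eq 721 17043521 [] [.plain 2838 25434185 false]))) (.node 1 (.leaf (.eqT 721 19085399 false [.plain 2839 21180497 true, .edge 2485 335 false] [.edge 2482 0 false])) (.leaf (.eq 722 17043521 [] [.plain 2840 17043527 false]))))
(.node 2 (.node 1 (.leaf (.eqT 722 17043521 true [.plain 2841 17043527 true, .edge 2507 487 false] [.edge 2506 0 false])) (.leaf (.eq 731 17043521 [] [.plain 2842 19746897 false]))) (.node 1 (.leaf (.eqT 731 11495495 true [.plain 2843 11231301 true, .edge 2508 1309 false] [.edge 2508 0 false])) (.leaf (.eq 732 19208259 [.plain 2514 19208259 false] [.plain 2844 17043521 false, .plain 2514 17043521 false])))))))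
(.node 14 (.node 7 (.node 3 (.node 1 (.leaf (.eq 704 17043521 [] [.plain 2845 26161247 false])) (.node 1 (.leaf (.eqT 704 17043521 true [.plain 2846 17109057 true, .edge 2431 1004 false] [.edge 2431 0 false])) (.leaf (.eq 691 17043521 [] [.plain 2847 17111117 false]))))
(.node 2 (.node 1 (.leaf (.eqT 691 17043521 false [.plain 2848 17127491 true, .edge 2394 1111 false] [.edge 2394 0 false])) (.leaf (.eq 688 17043521 [] [.plain 2849 17043537 false]))) (.node 1 (.leaf (.eqT 688 19085399 true [.plain 2850 19036229 true, .edge 2465 1287 false] [.edge 2465 0 false])) (.leaf (.eq 707 17043521 [] [.plain 2851 17195079 false])))))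
(.node 3 (.node 1 (.leaf (.eqT 707 17043521 true [.plain 2852 17061953 true, .edge 2449 407 false] [.edge 2449 0 false])) (.node 1 (.leaf (.eq 701 17043521 [] [.plain 2853 19277899 false])) (.leaf (.eqT 701 11495495 true [.plain 2854 11495501 true, .edge 2423 1207 false] [.edge 2423 0 false]))))
(.node 2 (.node 1 (.leaf (.eq 702 17068097 [.plain 2429 17068097 false] [.plain 2855 17043521 false, .plain 2429 17043521 false])) (.leaf (.eq 683 17043521 [] [.plain 2856 11352139 false]))) (.node 1 (.leaf (.eqT 683 25385043 true [.plain 2857 25376851 true, .edge 2409 1144 false] [.edge 2409 0 false])) (.leaf (.eq 695 17043521 [] [.plain 2858 4808799 false]))))))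
(.node 7 (.node 3 (.node 1 (.leaf (.eqT 695 17043521 false [.plain 2859 17649745 true, .edge 2399 985 false] [.edge 2399 0 false])) (.node 1 (.leaf (.eq 694 17043521 [] [.plain 2860 10709079 false])) (.leaf (.eqT 694 17043521 true [.plain 2861 19150923 true, .edge 2397 932 false] [.edge 2397 0 false]))))
(.node 2 (.node 1 (.leaf (.eq 104 17043521 [] [.plain 2862 21250133 false])) (.leaf (.eqT 104 17043521 false [.plain 2863 17111105 true, .edge 694 458 false] [.edge 694 0 false]))) (.node 1 (.leaf (.eq 25 17043521 [] [.plain 2864 10897493 false])) (.leaf (.eqT 25 17043521 false [.plain 2865 27529291 true, .edge 2336 1217 false] [.edge 226 0 false])))))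
(.node 4 (.node 2 (.node 1 (.leaf (.eq 672 17043521 [] [.plain 2866 17043547 false])) (.leaf (.eqT 7 13310023 true [.plain 2867 9261135 true, .edge 2344 152 false] [.edge 218 0 false]))) (.node 1 (.leaf (.eq 673 17125451 [.plain 2350 17125451 false] [.plain 2868 17043521 false])) (.leaf (.eq 642 17043521 [] [.plain 2869 31871069 false]))))
(.node 2 (.node 1 (.leaf (.eqT 22 19085399 false [.plain 2870 16986207 true, .edge 2327 250 false] [.edge 400 0 false])) (.leaf (.eq 101 19224657 [] [.plain 2871 17043521 false, .plain 441 17043521 false]))) (.node 1 (.leaf (.eq 101 17043521 [] [.plain 2872 19222611 false])) (.leaf (.eqT 26 17043521 false [.plain 2873 28194885 true, .edge 1092 1532 false] [.edge 1056 0 false]))))))))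
(.node 29 (.node 14 (.node 7 (.node 3 (.node 1 (.leaf (.eqT 26 13510735 true [.plain 2873 19746885 true, .edge 1125 956 false] [.edge 736 0 false])) (.node 1 (.leaf (.eqT 26 11495495 true [.plain 2873 23533661 true, .edge 2335 710 false] [.edge 792 0 false])) (.leaf (.eq 659 17043521 [] [.plain 2876 27807825 false]))))
(.node 2 (.node 1 (.leaf (.mov 116 23928925 false [.plain 2877 21573715 true, .edge 2351 1049 false])) (.leaf (.eq 192 13510725 [] [.plain 2875 17043521 false, .plain 742 17043521 false]))) (.node 1 (.leaf (.eq 192 17043521 [] [.plain 2879 25385047 false])) (.leaf (.eqT 26 29904967 false [.plain 2880 17782857 true, .edge 2104 1410 false] [.edge 1053 0 false])))))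
(.node 3 (.node 1 (.leaf (.eqT 26 25385043 true [.plain 2880 7163983 true, .edge 2129 1001 false] [.edge 799 0 false])) (.node 1 (.leaf (.eq 561 17043521 [] [.plain 2882 6639697 false])) (.leaf (.mov 116 32125001 true [.plain 2883 11278417 true, .edge 2113 436 false]))))
(.node 2 (.node 1 (.leaf (.eq 558 17043521 [] [.plain 2881 16920667 false])) (.leaf (.eqT 179 17059919 true [.plain 2885 17702977 true, .edge 2105 4 false] [.edge 1100 0 false]))) (.node 1 (.leaf (.eq 559 11368521 [.plain 2111 11368521 false] [.plain 2886 17043521 false, .plain 1106 17043521 false])) (.leaf (.eq 556 17043521 [] [.plain 2887 25315423 false]))))))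
(.node 7 (.node 3 (.node 1 (.leaf (.eqT 171 17043521 true [.plain 2888 25448517 true, .edge 2100 3 false] [.edge 1088 0 false])) (.node 1 (.leaf (.eq 555 17043521 [] [.plain 2889 17508441 false])) (.leaf (.eqT 181 17043521 false [.plain 2890 17700959 true, .edge 2086 302 false] [.edge 1071 0 false]))))
(.node 2 (.node 1 (.leaf (.mov 181 17059919 true [.plain 2890 17193025 true, .edge 2112 778 false])) (.leaf (.eq 554 17043521 [] [.plain 2891 11159619 false]))) (.node 1 (.leaf (.eqT 180 17043521 true [.plain 2893 25712729 true, .edge 2076 1101 false] [.edge 1058 0 false])) (.leaf (.eqT 180 19085399 true [.plain 2893 21592131 true, .edge 2147 716 false] [.edge 2372 0 false])))))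
(.node 4 (.node 2 (.node 1 (.leaf (.eq 675 17043521 [] [.plain 2895 17195083 true])) (.leaf (.eq 92 17043521 [] [.plain 2894 31789125 false]))) (.node 1 (.leaf (.eqT 25 17043521 true [.plain 2897 19165273 true, .edge 617 1322 false] [.edge 411 0 false])) (.leaf (.mov 25 29904967 false [.plain 2897 32006219 true, .edge 2062 990 false]))))
(.node 2 (.node 1 (.leaf (.eqT 25 4808797 false [.plain 2897 6895691 true, .edge 2074 287 false] [.edge 693 0 false])) (.leaf (.eq 548 17043521 [] [.plain 2900 19140689 false]))) (.node 1 (.leaf (.eqT 104 19085399 false [.plain 2901 16988231 true, .edge 2069 1429 false] [.edge 2418 0 false])) (.leaf (.eq 699 17043521 [] [.plain 2902 25372763 true])))))))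
(.node 15 (.node 7 (.node 3 (.node 1 (.leaf (.mov 547 11495495 true [.plain 2903 27875393 true, .edge 2413 432 false])) (.node 1 (.leaf (.mov 547 19085399 true [.plain 2066 19095639 true, .edge 2904 1157 false])) (.leaf (.mov 547 25385043 true [.plain 2067 25385037 true, .edge 2905 1038 false]))))
(.node 2 (.node 1 (.leaf (.mov 547 10971209 true [.plain 2066 10973257 true, .edge 2906 840 false])) (.leaf (.eq 93 19224657 [.plain 623 19224657 false] [.plain 2898 17043521 false]))) (.node 1 (.leaf (.eq 79 17043521 [] [.plain 2908 19208281 false])) (.leaf (.eqT 13 4808797 true [.plain 2909 7098455 true, .edge 1618 592 false] [.edge 568 0 false])))))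
(.node 4 (.node 2 (.node 1 (.leaf (.eq 372 17657939 [] [.plain 2910 17043521 false, .plain 2799 11302979 false])) (.leaf (.eq 372 17043521 [] [.plain 2911 17643603 false]))) (.node 1 (.leaf (.eqT 19 25385043 true [.plain 2912 17111119 true, .edge 1619 314 false] [.edge 906 0 false])) (.leaf (.eq 373 17111105 [.plain 1625 17111105 false, .plain 2912 17569869 false] [.plain 2913 17043521 false]))))
(.node 2 (.node 1 (.leaf (.eq 141 17043521 [] [.plain 2914 17043521 true])) (.leaf (.eqT 19 32125001 true [.plain 2915 26105931 true, .edge 961 652 false] [.edge 837 0 false]))) (.node 1 (.leaf (.eq 152 17043521 [] [.plain 2916 4743261 false])) (.leaf (.eqT 129 25385043 true [.plain 2917 25694275 true, .edge 945 961 false] [.edge 2817 0 false]))))))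
(.node 7 (.node 3 (.node 1 (.leaf (.eq 151 8548437 [] [.plain 2918 17043521 false, .plain 1708 25458769 false, .plain 2811 25710685 false, .plain 2816 17061967 false])) (.node 1 (.leaf (.eq 151 17043521 [] [.plain 2919 29892693 false])) (.leaf (.eqT 129 23928925 false [.plain 2920 24076371 true, .edge 2223 7 false] [.edge 2820 0 false]))))
(.node 2 (.node 1 (.leaf (.eqT 129 17059919 true [.plain 2920 16918613 true, .edge 2224 630 false] [.edge 848 0 false])) (.leaf (.eq 573 19740745 [.plain 2165 19740745 false] [.plain 2922 17043521 false, .plain 854 17043521 false]))) (.node 1 (.leaf (.eq 138 17043521 [] [.plain 2923 17784905 false])) (.leaf (.eqT 129 29904967 true [.plain 2924 32329799 true, .edge 2246 1490 false] [.edge 2824 0 false])))))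
(.node 4 (.node 2 (.node 1 (.leaf (.eq 594 17043521 [] [.plain 2925 25839687 false])) (.leaf (.mov 441 32131155 true [.plain 2926 17119305 true, .edge 2234 508 false]))) (.node 1 (.leaf (.mov 441 32125001 true [.plain 2826 32194635 true, .edge 2927 1451 false])) (.leaf (.eq 472 17043521 [] [.plain 2921 17457233 false]))))
(.node 2 (.node 1 (.leaf (.eqT 431 25385043 true [.plain 2929 25894993 true, .edge 1933 1046 false] [.edge 1743 0 false])) (.leaf (.eq 485 17043521 [] [.plain 2930 17659995 false]))) (.node 1 (.leaf (.eqT 438 29904967 true [.plain 2931 29823063 true, .edge 1935 1211 false] [.edge 1745 0 false])) (.leaf (.eq 486 25759833 [.plain 1942 25759833 false] [.plain 2932 17043521 false])))))))))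
(.node 58 (.node 29 (.node 14 (.node 7 (.node 3 (.node 1 (.leaf (.eq 466 17043521 [] [.plain 2933 16998491 false])) (.node 1 (.leaf (.mov 439 10971209 true [.plain 2934 11022417 true, .edge 1851 158 false])) (.leaf (.eq 184 17043521 [] [.plain 2874 17133651 false]))))
(.node 2 (.node 1 (.leaf (.eqT 179 17059919 true [.plain 2936 17459283 true, .edge 1093 1059 false] [.edge 1100 0 false])) (.leaf (.eq 185 25442371 [.plain 1099 25442371 false] [.plain 2937 17043521 false, .plain 1106 17043521 false]))) (.node 1 (.leaf (.eq 171 17043521 [] [.plain 2938 17262681 false])) (.leaf (.eqT 171 17043521 true [.plain 2939 17070171 true, .edge 1088 1166 false] [.edge 1088 0 false])))))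
(.node 3 (.node 1 (.leaf (.eq 181 17043521 [] [.plain 2940 17442887 false])) (.node 1 (.leaf (.eqT 181 17043521 false [.plain 2941 17698901 true, .edge 1071 1334 false] [.edge 1071 0 false])) (.leaf (.mov 181 25385043 true [.plain 2941 25450589 true, .edge 2892 410 false]))))
(.node 2 (.node 1 (.leaf (.mov 181 17043521 true [.plain 1078 17174593 true, .edge 2943 751 false])) (.leaf (.eq 180 17043521 [] [.plain 2942 19556417 false]))) (.node 1 (.leaf (.eqT 180 10971209 true [.plain 2945 10973263 true, .edge 2372 729 false] [.edge 2365 0 false])) (.leaf (.eq 675 28266583 [.plain 2896 28266583 false] [.plain 2946 17043521 false, .plain 2896 25630807 false]))))))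
(.node 7 (.node 3 (.node 1 (.leaf (.eq 564 17043521 [] [.plain 2947 29780059 false])) (.node 1 (.leaf (.mov 564 10971209 true [.plain 2948 8919113 true, .edge 2131 888 false])) (.leaf (.eq 448 17061959 [] [.plain 2800 17043521 false, .plain 998 9187393 false]))))
(.node 2 (.node 1 (.leaf (.eq 448 17043521 [] [.plain 2950 17061973 false])) (.leaf (.eqT 26 32125001 true [.plain 2951 8998995 true, .edge 1794 445 false] [.edge 815 0 false]))) (.node 1 (.leaf (.eq 447 27613253 [] [.plain 2952 17043521 false, .plain 1005 27408477 false])) (.leaf (.eq 447 17043521 [] [.plain 2953 25524319 false])))))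
(.node 4 (.node 2 (.node 1 (.leaf (.eq 469 27596885 [] [.plain 2769 17043521 false, .plain 2811 11104331 false, .plain 2816 19691611 false])) (.leaf (.eq 469 17043521 [] [.plain 2955 25499743 false]))) (.node 1 (.leaf (.eqT 129 9056345 false [.plain 2956 11096147 true, .edge 1925 880 false] [.edge 2818 0 false])) (.leaf (.eq 482 17043521 [] [.plain 2957 17004629 false]))))
(.node 2 (.node 1 (.leaf (.eqT 431 10971209 true [.plain 2958 11286609 true, .edge 1926 766 false] [.edge 1736 0 false])) (.leaf (.eq 483 25718873 [.plain 1932 25718873 false] [.plain 2959 17043521 false, .plain 1742 17043521 false]))) (.node 1 (.leaf (.eq 462 17043521 [] [.plain 2960 31936605 false])) (.leaf (.mov 423 19085399 true [.plain 2961 19357767 true, .edge 1905 145 false])))))))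
(.node 14 (.node 7 (.node 3 (.node 1 (.leaf (.eq 465 17043521 [] [.plain 2768 8935497 false])) (.node 1 (.leaf (.mov 105 10971209 true [.plain 2963 27875413 true, .edge 1850 743 false])) (.leaf (.eqT 105 10971209 false [.plain 2963 27875413 true, .edge 1882 1458 false] [.edge 1713 0 false]))))
(.node 2 (.node 1 (.leaf (.eq 471 17043521 [] [.plain 2965 17641545 false])) (.leaf (.eq 576 25432151 [] [.plain 2721 17043521 false, .plain 2954 27613249 false]))) (.node 1 (.leaf (.eq 576 17043521 [] [.plain 2967 25432159 false])) (.leaf (.eqT 22 10971209 false [.plain 2968 11090009 true, .edge 2232 1182 false] [.edge 874 0 false])))))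
(.node 3 (.node 1 (.leaf (.eq 593 17043521 [] [.plain 2969 17522763 false])) (.node 1 (.leaf (.mov 135 19085399 true [.plain 2970 19341397 true, .edge 2233 367 false])) (.leaf (.mov 135 25385043 true [.plain 880 25376853 true, .edge 2971 1495 false]))))
(.node 2 (.node 1 (.leaf (.mov 135 11495495 true [.plain 881 11472979 true, .edge 2972 1112 false])) (.leaf (.mov 135 10971209 true [.plain 880 10960967 true, .edge 2973 209 false]))) (.node 1 (.leaf .dfn) (.leaf (.mov 801 17043521 true [.edge 2975 0 true]))))))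
(.node 7 (.node 3 (.node 1 (.leaf (.eqT 564 25385043 true [.plain 2948 27750483 true, .edge 2975 529 false] [.edge 2975 0 false])) (.node 1 (.leaf (.eq 801 17043521 [] [.plain 2977 19232833 false])) (.leaf .dfn)))
(.node 2 (.node 1 (.leaf (.mov 802 17043521 true [.edge 2979 0 true])) (.leaf (.mov 801 31801425 true [.plain 2978 29628497 true, .edge 2979 908 false]))) (.node 1 (.leaf .dfn) (.leaf (.mov 803 17043521 true [.edge 2982 0 true])))))
(.node 4 (.node 2 (.node 1 (.leaf (.rel 116 28260443 5 [.edge 1133 875 false, .plain 1139 17117273 false, .edge 2878 1201 false, .plain 2896 16986193 false, .edge 2975 1465 false, .mul, .edge 2979 1157 false, .mul, .edge 2982 1458 false, .mul])) (.leaf (.eq 803 17043521 [] [.plain 2984 19097665 true]))) (.node 1 (.leaf (.mov 116 13310023 true [.plain 2985 19230795 true, .edge 2983 1307 false])) (.leaf .dfn)))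
(.node 2 (.node 1 (.leaf (.mov 181 27529303 false [.plain 1077 27856983 true, .edge 2987 366 false])) (.leaf (.mov 181 6776923 false [.plain 1078 6973531 true, .edge 2988 1381 false]))) (.node 1 (.leaf (.eqT 181 6776923 false [.plain 2941 6907975 true, .edge 2987 719 false] [.edge 2989 0 false])) (.leaf (.eq 804 17043521 [] [.plain 2990 17059933 false]))))))))
(.node 29 (.node 14 (.node 7 (.node 3 (.node 1 (.leaf .dfn) (.node 1 (.leaf (.eqT 804 17043521 true [.plain 2991 17043547 true, .edge 2992 49 false] [.edge 2992 0 false])) (.leaf (.eq 805 17043521 [] [.plain 2993 17051713 false]))))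
(.node 2 (.node 1 (.leaf .dfn) (.leaf (.mov 806 17043521 true [.edge 2995 0 true]))) (.node 1 (.leaf (.mov 805 19085399 true [.plain 2994 19079255 true, .edge 2995 661 false])) (.leaf .dfn))))
(.node 3 (.node 1 (.leaf (.mov 807 17043521 true [.edge 2998 0 true])) (.node 1 (.leaf (.rel 116 7229515 5 [.edge 2884 1378 false, .plain 2890 26171473 false, .edge 2987 1060 false, .edge 2992 96 false, .mul, .edge 2995 1226 false, .mul, .edge 2998 272 false, .mul])) (.leaf (.eq 807 17043521 [] [.plain 3000 27402331 true]))))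
(.node 2 (.node 1 (.leaf (.eqT 116 11495495 true [.plain 3001 25432147 true, .edge 2999 1297 false] [.edge 2660 0 false])) (.leaf (.eq 806 15671377 [] [.plain 3002 17043521 false, .plain 2662 27791425 false]))) (.node 1 (.leaf (.eq 806 17043521 [] [.plain 3003 25319513 false])) (.leaf (.eqT 116 29904967 true [.plain 3004 11284545 true, .edge 2996 1060 false] [.edge 1034 0 false]))))))
(.node 7 (.node 3 (.node 1 (.leaf (.eq 805 17043521 [] [.plain 3005 19081305 false])) (.node 1 (.leaf (.mov 167 32131155 true [.plain 3006 10973253 true, .edge 2997 1120 false])) (.leaf (.eqT 116 29904967 true [.plain 3004 11284545 true, .edge 3007 784 true] [.edge 1034 0 false]))))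
(.node 2 (.node 1 (.leaf (.eq 167 17043521 [] [.plain 3008 27480133 false])) (.leaf (.mov 167 31801425 false [.plain 3009 19099741 true, .edge 1567 1293 false]))) (.node 1 (.leaf .dfn) (.leaf (.mov 126 10971209 false [.plain 826 10633303 true, .edge 3011 424 false])))))
(.node 4 (.node 2 (.node 1 (.leaf (.mov 126 13510735 false [.plain 827 12939331 true, .edge 3012 263 false])) (.leaf .dfn)) (.node 1 (.leaf (.mov 809 17043521 false [.edge 3014 0 true])) (.leaf .dfn)))
(.node 2 (.node 1 (.leaf (.mov 810 17043521 false [.edge 3016 0 true])) (.leaf (.rel 126 27738185 0 [.edge 3011 1337 false, .mul, .edge 3014 821 false, .mul, .edge 3016 1321 false, .mul, .mul]))) (.node 1 (.leaf (.eq 810 17043521 [] [.plain 3018 19140693 true])) (.leaf (.mov 126 7292999 false [.plain 3019 17508427 true, .edge 3017 1069 false])))))))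
(.node 15 (.node 7 (.node 3 (.node 1 (.leaf (.mov 126 32125001 false [.plain 826 31803471 true, .edge 3020 1482 false])) (.node 1 (.leaf (.mov 126 27529303 false [.plain 827 27402317 true, .edge 3021 925 false])) (.leaf (.mov 126 4808797 false [.plain 826 4943955 true, .edge 3022 1502 false]))))
(.node 2 (.node 1 (.leaf .dfn) (.leaf (.mov 126 4808797 true [.plain 826 4943955 true, .edge 3024 788 false]))) (.node 1 (.leaf (.mov 126 31801425 true [.plain 827 31991887 true, .edge 3025 53 false])) (.leaf (.mov 126 13310023 true [.plain 826 13445211 true, .edge 3026 1472 false])))))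
(.node 4 (.node 2 (.node 1 (.leaf .dfn) (.leaf .dfn)) (.node 1 (.leaf (.mov 815 17043521 true [.edge 3029 0 true])) (.leaf (.rel 126 27883599 1 [.edge 925 1182 false, .mul, .edge 3028 51 false, .mul, .edge 3029 1177 false, .mul, .mul]))))
(.node 2 (.node 1 (.leaf (.eq 815 17043521 [] [.plain 3031 25499741 true])) (.leaf (.eqT 126 17043521 true [.plain 3032 17651795 true, .edge 3030 1128 false] [.edge 926 0 false]))) (.node 1 (.leaf (.eq 814 17043521 [] [.plain 3033 17651805 false])) (.leaf .dfn)))))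
(.node 7 (.node 3 (.node 1 (.leaf .dfn) (.node 1 (.leaf (.mov 126 13510735 true [.plain 826 13113429 true, .edge 3036 839 false])) (.leaf (.mov 126 4544593 true [.plain 827 4925525 true, .edge 3037 1366 false]))))
(.node 2 (.node 1 (.leaf (.mov 126 32131155 true [.plain 826 31797323 true, .edge 3038 1166 false])) (.leaf .dfn)) (.node 1 (.leaf .dfn) (.leaf .dfn))))
(.node 4 (.node 2 (.node 1 (.leaf (.mov 824 17043521 false [.edge 3042 0 true])) (.leaf (.rel 126 32051277 4 [.edge 3036 42 false, .edge 3040 490 false, .mul, .edge 3041 1072 false, .mul, .edge 3042 342 false, .mul]))) (.node 1 (.leaf (.eq 824 17043521 [] [.plain 3044 17135699 true])) (.leaf (.eqT 126 4808797 false [.plain 3045 17176665 true, .edge 3043 812 false] [.edge 3023 0 false]))))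
(.node 2 (.node 1 (.leaf (.eq 823 17043521 [] [.plain 3046 25514069 false])) (.leaf .dfn)) (.node 1 (.leaf (.mov 825 17043521 false [.edge 3048 0 true])) (.leaf .dfn)))))))))

/-- The reasons. -/
def caseBFullSrcRRLR : Tab Src :=
(.node 117 (.node 58 (.node 29 (.node 14 (.node 7 (.node 3 (.node 1 (.leaf (.mov 826 17043521 true [.edge 3050 0 true])) (.node 1 (.leaf .dfn) (.leaf (.mov 827 17043521 false [.edge 3052 0 true]))))
(.node 2 (.node 1 (.leaf (.rel 126 23273539 4 [.edge 3039 705 false, .edge 3048 397 false, .mul, .edge 3050 1255 false, .mul, .edge 3052 515 false, .mul])) (.leaf (.eq 827 17043521 [] [.plain 3054 17461317 true]))) (.node 1 (.leaf (.eqT 126 13510735 false [.plain 3055 17459287 true, .edge 3053 1398 false] [.edge 3013 0 false])) (.leaf (.eq 826 17043521 [] [.plain 3056 19796045 false])))))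
(.node 3 (.node 1 (.leaf (.mov 808 11495495 true [.plain 3057 8927305 true, .edge 3051 727 false])) (.node 1 (.leaf .dfn) (.leaf (.mov 828 17043521 true [.edge 3059 0 true]))))
(.node 2 (.node 1 (.leaf .dfn) (.leaf (.mov 829 17043521 true [.edge 3061 0 true]))) (.node 1 (.leaf .dfn) (.leaf (.mov 830 17043521 true [.edge 3063 0 true]))))))
(.node 7 (.node 3 (.node 1 (.leaf (.rel 126 4941901 5 [.edge 3037 25 false, .edge 3040 171 false, .edge 3059 304 false, .mul, .edge 3061 858 false, .mul, .edge 3063 1491 false, .mul])) (.node 1 (.leaf (.eq 830 17043521 [] [.plain 3065 9322579 true])) (.leaf (.eqT 126 17059919 true [.plain 3066 17635393 true, .edge 3064 47 false] [.edge 925 0 false]))))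
(.node 2 (.node 1 (.leaf (.eq 829 17043521 [] [.plain 3067 13379659 false])) (.leaf (.mov 145 31801425 true [.plain 3068 25768025 true, .edge 3062 592 false]))) (.node 1 (.leaf .dfn) (.leaf .dfn))))
(.node 4 (.node 2 (.node 1 (.leaf (.mov 832 17043521 true [.edge 3071 0 true])) (.leaf .dfn)) (.node 1 (.leaf (.mov 833 17043521 true [.edge 3073 0 true])) (.leaf (.rel 126 31602773 5 [.edge 3027 539 false, .edge 3035 1107 false, .edge 3070 148 false, .mul, .edge 3071 19 false, .mul, .edge 3073 507 false, .mul]))))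
(.node 2 (.node 1 (.leaf (.eq 833 17043521 [] [.plain 3075 27404353 true])) (.leaf (.eqT 126 4544593 true [.plain 3076 25458761 true, .edge 3074 1517 false] [.edge 3038 0 false]))) (.node 1 (.leaf (.eq 832 17043521 [] [.plain 3077 25315421 false])) (.leaf (.mov 821 19085399 true [.plain 3078 25434177 true, .edge 3072 1227 false])))))))
(.node 14 (.node 7 (.node 3 (.node 1 (.leaf .dfn) (.node 1 (.leaf (.mov 841 17043521 false [.edge 3080 0 true])) (.leaf (.mov 441 6776923 false [.plain 2826 6715481 true, .edge 3080 1030 false]))))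
(.node 2 (.node 1 (.leaf .dfn) (.leaf (.mov 842 17043521 true [.edge 3083 0 true]))) (.node 1 (.leaf .dfn) (.leaf (.mov 843 17043521 false [.edge 3085 0 true])))))
(.node 3 (.node 1 (.leaf (.rel 129 6574159 4 [.edge 2824 586 false, .edge 3080 631 false, .mul, .edge 3083 306 false, .mul, .edge 3085 695 false, .mul])) (.node 1 (.leaf (.eq 843 17043521 [] [.plain 3087 17051713 true])) (.leaf (.eqT 129 32125001 false [.plain 3088 17440835 true, .edge 3086 1038 false] [.edge 2693 0 false]))))
(.node 2 (.node 1 (.leaf (.eq 842 17043521 [] [.plain 3089 25380939 false])) (.leaf (.eqT 145 25385043 true [.plain 3090 17043523 true, .edge 3084 81 false] [.edge 1010 0 false]))) (.node 1 (.leaf (.eq 841 10905673 [] [.plain 3091 17043521 false, .plain 1017 17043521 false, .plain 1402 8804417 false])) (.leaf (.eq 841 17043521 [] [.plain 3092 21588051 false]))))))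
(.node 7 (.node 3 (.node 1 (.leaf (.eqT 67 7292999 false [.plain 3093 16916557 true, .edge 3081 1371 false] [.edge 1412 0 false])) (.node 1 (.leaf (.eq 441 17043521 [] [.plain 3094 14901343 false])) (.leaf (.mov 167 19085399 true [.plain 3095 29579347 true, .edge 2928 751 false]))))
(.node 2 (.node 1 (.leaf (.mov 167 31801425 true [.plain 3009 19099741 true, .edge 3096 83 false])) (.leaf (.eqT 167 31801425 false [.plain 3095 15030361 true, .edge 3082 308 false] [.edge 3010 0 false]))) (.node 1 (.leaf (.eq 841 16998489 [.plain 3093 16998489 false] [.plain 3098 17043521 false, .plain 1573 17633359 false])) (.leaf (.eq 167 17043521 [] [.plain 3099 19224651 true])))))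
(.node 4 (.node 2 (.node 1 (.leaf (.eqT 67 32125001 true [.plain 3100 12861505 true, .edge 3097 1013 false] [.edge 1408 0 false])) (.leaf (.eq 593 19294293 [.plain 2970 19294293 false] [.plain 3101 17043521 false]))) (.node 1 (.leaf (.eq 145 17043521 [] [.plain 3102 19802207 true])) (.leaf (.mov 135 13310023 true [.plain 3103 13377615 true, .edge 1580 588 false]))))
(.node 2 (.node 1 (.leaf (.mov 135 32131155 true [.plain 880 32124999 true, .edge 3104 635 false])) (.leaf (.mov 135 32125001 true [.plain 881 32137283 true, .edge 3105 833 false]))) (.node 1 (.leaf (.mov 135 23928925 false [.plain 3103 23556161 true, .edge 1582 1141 false])) (.leaf (.mov 135 4808797 true [.plain 3103 4880451 true, .edge 1583 126 false]))))))))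
(.node 29 (.node 14 (.node 7 (.node 3 (.node 1 (.leaf (.eqT 135 17059919 true [.plain 3103 17635401 true, .edge 3028 10 false] [.edge 1154 0 false])) (.node 1 (.leaf (.eqT 135 32125001 true [.plain 3103 31735897 true, .edge 3069 890 false] [.edge 3106 0 false])) (.leaf (.eq 828 28198999 [] [.plain 3110 17043521 false, .plain 1364 19689539 false]))))
(.node 2 (.node 1 (.leaf (.eq 828 17043521 [] [.plain 3111 6973535 false])) (.leaf (.mov 252 4808797 true [.plain 3112 17109083 true, .edge 3060 856 false]))) (.node 1 (.leaf (.mov 252 32131155 true [.plain 1308 32262239 true, .edge 3113 706 false])) (.leaf (.eq 814 17643603 [.plain 3034 17643603 false, .plain 3103 17592403 false] [.plain 3109 17043521 false, .plain 1160 17043521 false])))))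
(.node 3 (.node 1 (.leaf (.eq 135 17043521 [] [.plain 3115 17117253 false])) (.node 1 (.leaf (.eqT 134 19085399 true [.plain 3116 19554393 true, .edge 2974 441 false] [.edge 930 0 false])) (.leaf (.mov 134 4808797 true [.plain 3116 4927557 true, .edge 3104 1502 false]))))
(.node 2 (.node 1 (.leaf (.mov 134 31801425 true [.plain 868 31811653 true, .edge 3118 1425 false])) (.leaf (.mov 134 29904967 true [.plain 869 29909083 true, .edge 3119 1380 false]))) (.node 1 (.leaf (.mov 134 4544593 true [.plain 868 4550751 true, .edge 3120 1048 false])) (.leaf (.mov 134 31801425 false [.plain 3116 32118849 true, .edge 3107 372 false]))))))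
(.node 7 (.node 3 (.node 1 (.leaf (.mov 134 13310023 false [.plain 868 13320285 true, .edge 3122 1167 false])) (.node 1 (.leaf (.mov 134 10971209 false [.plain 869 10975299 true, .edge 3123 1502 false])) (.leaf (.mov 134 9056345 false [.plain 868 9068613 true, .edge 3124 46 false]))))
(.node 2 (.node 1 (.leaf (.mov 134 13510735 true [.plain 3116 13131845 true, .edge 3108 147 false])) (.leaf (.mov 134 13310023 true [.plain 868 13320285 true, .edge 3126 871 false]))) (.node 1 (.leaf (.mov 134 32125001 true [.plain 869 32118871 true, .edge 3127 1421 false])) (.leaf (.mov 134 32131155 true [.plain 868 32118873 true, .edge 3128 731 false])))))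
(.node 4 (.node 2 (.node 1 (.leaf (.eq 594 25505865 [.plain 2926 25505865 false, .plain 3095 21981275 false, .plain 3100 7292999 false] [.plain 3117 17043521 false])) (.leaf (.eq 148 17043521 [] [.plain 3130 27539523 true]))) (.node 1 (.leaf (.eqT 67 7292999 false [.plain 3131 11417677 true, .edge 2687 625 false] [.edge 1412 0 false])) (.leaf (.eq 116 15470669 [] [.plain 3132 17043521 false, .plain 3100 17576023 false]))))
(.node 2 (.node 1 (.leaf (.eq 116 17043521 [] [.plain 3133 32182355 false])) (.leaf (.mov 67 19085399 true [.plain 3134 30087253 true, .edge 2986 1412 false]))) (.node 1 (.leaf (.eqT 67 19085399 true [.plain 486 19558487 true, .edge 3135 1186 false] [.edge 3135 0 false])) (.leaf (.eq 802 17043521 [] [.plain 3136 28194889 false])))))))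
(.node 15 (.node 7 (.node 3 (.node 1 (.leaf (.eqT 802 17043521 true [.plain 3137 8917057 true, .edge 2980 1136 false] [.edge 2980 0 false])) (.node 1 (.leaf (.eq 801 17043521 [] [.plain 3138 31803485 false])) (.leaf (.eqT 801 17043521 true [.plain 3139 19150915 true, .edge 2976 1292 false] [.edge 2976 0 false]))))
(.node 2 (.node 1 (.leaf (.eq 564 17043521 [] [.plain 3140 15687757 false])) (.leaf (.eqT 564 10971209 true [.plain 3141 10698825 true, .edge 2949 735 false] [.edge 2949 0 false]))) (.node 1 (.leaf (.eq 558 27816031 [.plain 2885 27816031 false] [.plain 3142 17043521 false, .plain 2885 27531357 false])) (.leaf (.eq 179 17043521 [] [.plain 3143 13592661 false])))))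
(.node 4 (.node 2 (.node 1 (.leaf (.eqT 179 17059919 true [.plain 3144 17586271 true, .edge 1100 484 false] [.edge 1100 0 false])) (.leaf (.eq 187 17567809 [.plain 1106 17567809 false] [.plain 3145 17043521 false, .plain 1106 17043521 false]))) (.node 1 (.leaf (.eq 171 17043521 [] [.plain 3146 16934979 false])) (.leaf (.eqT 171 17043521 true [.plain 3147 17059905 true, .edge 1088 1190 false] [.edge 1088 0 false]))))
(.node 2 (.node 1 (.leaf (.eq 181 17043521 [] [.plain 3148 17463363 false])) (.leaf (.eqT 181 17043521 false [.plain 3149 17043537 true, .edge 1071 12 false] [.edge 1071 0 false]))) (.node 1 (.leaf (.eq 180 17043521 [] [.plain 3150 19359833 false])) (.leaf (.eqT 180 17043521 true [.plain 3151 17043523 true, .edge 1058 81 false] [.edge 1058 0 false]))))))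
(.node 7 (.node 3 (.node 1 (.leaf (.eq 25 17043521 [] [.plain 3152 4552773 false])) (.node 1 (.leaf (.eqT 25 29904967 false [.plain 3153 32002119 true, .edge 2899 409 false] [.edge 2899 0 false])) (.leaf (.eq 547 17043521 [] [.plain 3154 17051713 false]))))
(.node 2 (.node 1 (.leaf (.eqT 547 10971209 true [.plain 3155 10633289 true, .edge 2907 186 false] [.edge 2907 0 false])) (.leaf (.eq 698 17043521 [] [.plain 3156 21182529 false]))) (.node 1 (.leaf (.eqT 698 17043521 false [.plain 3157 17127505 true, .edge 2411 555 false] [.edge 2411 0 false])) (.leaf (.eq 105 17043521 [] [.plain 3158 19277913 false])))))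
(.node 4 (.node 2 (.node 1 (.leaf (.eqT 105 10971209 true [.plain 3159 10635329 true, .edge 2964 801 false] [.edge 2964 0 false])) (.leaf (.eq 466 19691611 [.plain 2934 19691611 false] [.plain 3160 17043521 false, .plain 2934 9181275 false]))) (.node 1 (.leaf (.eq 439 17043521 [] [.plain 3161 19099729 false])) (.leaf (.eqT 439 32131155 true [.plain 3162 17592413 true, .edge 1770 752 false] [.edge 1760 0 false]))))
(.node 2 (.node 1 (.leaf (.eq 438 17043521 [] [.plain 3163 11487301 false])) (.leaf (.eqT 438 31801425 true [.plain 3164 23423059 true, .edge 1765 1342 false] [.edge 1765 0 false]))) (.node 1 (.leaf (.eq 431 17043521 [] [.plain 3165 15683649 false])) (.leaf (.eqT 431 10971209 true [.plain 3166 10643529 true, .edge 1736 1263 false] [.edge 1736 0 false])))))))))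
(.node 59 (.node 29 (.node 14 (.node 7 (.node 3 (.node 1 (.leaf (.eq 436 17043545 [.plain 1742 17043545 false] [.plain 3167 17043521 false, .plain 1742 17043521 false])) (.node 1 (.leaf (.eq 423 17043521 [] [.plain 3168 9189449 false])) (.leaf (.eqT 423 17043521 false [.plain 3169 17043537 true, .edge 1678 12 false] [.edge 1678 0 false]))))
(.node 2 (.node 1 (.leaf (.eqT 423 19085399 true [.plain 3169 19085381 true, .edge 2962 71 false] [.edge 2962 0 false])) (.leaf (.eq 471 19884099 [.plain 2966 19884099 false] [.plain 3171 17043521 false, .plain 2966 19294275 false]))) (.node 1 (.leaf (.eq 432 17043521 [] [.plain 3172 19337305 false])) (.leaf (.eqT 432 11495495 true [.plain 3173 11157581 true, .edge 2503 1486 false] [.edge 2503 0 false])))))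
(.node 3 (.node 1 (.leaf (.eq 725 17043521 [] [.plain 3174 29759571 false])) (.node 1 (.leaf (.eqT 725 17043521 false [.plain 3175 17635395 true, .edge 2491 624 false] [.edge 2491 0 false])) (.leaf (.eq 704 17043521 [] [.plain 3176 21588039 false]))))
(.node 2 (.node 1 (.leaf (.mov 704 19085399 true [.plain 3177 17576009 true, .edge 2431 165 false])) (.leaf (.eq 82 17043521 [] [.plain 3170 13246535 false]))) (.node 1 (.leaf (.eqT 82 10971209 true [.plain 3179 10971211 true, .edge 1698 81 false] [.edge 1698 0 false])) (.leaf (.eq 428 8984641 [.plain 2811 8984641 false, .plain 2816 19730513 false] [.plain 3180 17043521 false, .plain 2811 8982593 false, .plain 2816 19732561 false]))))))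
(.node 7 (.node 3 (.node 1 (.leaf (.eq 129 17043521 [] [.plain 3181 13590603 false])) (.node 1 (.leaf (.eqT 129 11495495 true [.plain 3182 11427909 true, .edge 2691 1176 false] [.edge 2691 0 false])) (.leaf (.eq 130 27791425 [.plain 854 27791425 false] [.plain 3183 17043521 false, .plain 854 27883611 false]))))
(.node 2 (.node 1 (.leaf (.eq 129 17043521 [] [.plain 3184 11350111 false])) (.leaf (.eqT 129 6776923 false [.plain 3185 6713435 true, .edge 2821 1383 false] [.edge 2819 0 false]))) (.node 1 (.leaf (.eq 431 17043521 [] [.plain 3186 17717335 false])) (.leaf (.mov 431 17043521 true [.plain 3187 17698881 true, .edge 1743 834 false])))))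
(.node 4 (.node 2 (.node 1 (.leaf (.mov 431 19085399 true [.plain 3187 19740759 true, .edge 1771 1344 false])) (.leaf (.eqT 67 17043521 true [.plain 3100 5068891 true, .plain 3095 19755075 true, .edge 3189 314 true] [.edge 510 0 false]))) (.node 1 (.leaf (.eq 431 19019861 [] [.plain 3190 17043521 false, .plain 521 17043521 false])) (.leaf (.eq 431 17043521 [] [.plain 3191 19341403 false]))))
(.node 2 (.node 1 (.leaf (.eqT 53 17043521 true [.plain 3192 17649737 true, .edge 3188 406 false] [.edge 442 0 false])) (.leaf (.eq 438 25778257 [] [.plain 3193 17043521 false, .plain 454 17043521 false]))) (.node 1 (.leaf (.eq 438 17043521 [] [.plain 3194 11350091 false])) (.leaf (.eqT 42 32131155 true [.plain 3195 23949389 true, .edge 1745 1235 false] [.edge 358 0 false])))))))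
(.node 15 (.node 7 (.node 3 (.node 1 (.leaf (.eq 439 8992843 [] [.plain 3196 17043521 false, .plain 365 17043521 false])) (.node 1 (.leaf (.eq 439 17043521 [] [.plain 3197 11032659 false])) (.leaf (.eqT 10 17059919 true [.plain 3198 17260627 true, .edge 2935 1425 false] [.edge 459 0 false]))))
(.node 2 (.node 1 (.leaf (.eq 465 17053775 [.plain 2963 17053775 false] [.plain 3199 17043521 false, .plain 477 17043521 false])) (.leaf (.eq 105 17043521 [] [.plain 3200 4941905 false]))) (.node 1 (.leaf (.eqT 10 4544593 true [.plain 3201 11210825 true, .edge 2473 425 false] [.edge 128 0 false])) (.leaf (.eq 721 17043521 [] [.plain 3202 19664971 false])))))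
(.node 4 (.node 2 (.node 1 (.leaf (.eqT 7 13310023 false [.plain 3203 29829191 true, .edge 2485 122 false] [.edge 381 0 false])) (.leaf (.eq 722 17043521 [] [.plain 3204 17510491 false]))) (.node 1 (.leaf (.eqT 45 19085399 true [.plain 3205 19150927 true, .edge 2507 1322 false] [.edge 431 0 false])) (.leaf (.eq 731 17043521 [] [.plain 3206 17594451 false]))))
(.node 2 (.node 1 (.leaf (.eqT 53 17043521 true [.plain 3207 19081309 true, .edge 2508 857 false] [.edge 442 0 false])) (.leaf (.eq 732 11294785 [.plain 2514 11294785 false] [.plain 3208 17043521 false, .plain 454 17043521 false]))) (.node 1 (.leaf (.eq 704 17043521 [] [.plain 3209 4989021 false])) (.leaf (.mov 42 13510735 true [.plain 3210 19621959 true, .edge 2466 182 false]))))))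
(.node 7 (.node 3 (.node 1 (.leaf (.eqT 42 17043521 true [.plain 3210 27684935 true, .edge 3178 242 false] [.edge 348 0 false])) (.node 1 (.leaf (.eq 691 17043521 [] [.plain 3212 11096149 false])) (.leaf (.eqT 39 17043521 false [.plain 3213 17506379 true, .edge 2394 274 false] [.edge 323 0 false]))))
(.node 2 (.node 1 (.leaf (.eq 688 17043521 [] [.plain 3214 17594437 false])) (.leaf (.eqT 10 32131155 true [.plain 3215 19101791 true, .edge 2465 827 false] [.edge 368 0 false]))) (.node 1 (.leaf (.eq 707 17043521 [] [.plain 3216 17242199 false])) (.leaf (.eqT 42 17043521 true [.plain 3217 27873355 true, .edge 2449 756 false] [.edge 348 0 false])))))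
(.node 4 (.node 2 (.node 1 (.leaf (.eq 701 17043521 [] [.plain 3218 32057413 false])) (.leaf (.eqT 39 19085399 true [.plain 3219 19621981 true, .edge 2423 62 false] [.edge 333 0 false]))) (.node 1 (.leaf (.eq 702 27545683 [.plain 2429 27545683 false] [.plain 3220 17043521 false, .plain 340 17043521 false])) (.leaf (.eq 683 17043521 [] [.plain 3221 19738715 false]))))
(.node 2 (.node 1 (.leaf (.eqT 29 17059919 true [.plain 3222 17510467 true, .edge 2409 691 false] [.edge 342 0 false])) (.leaf (.eq 695 17043521 [] [.plain 3223 17446985 false]))) (.node 1 (.leaf (.eqT 39 17043521 false [.plain 3224 16920653 true, .edge 2399 556 false] [.edge 323 0 false])) (.leaf (.eq 694 17043521 [] [.plain 3225 11040847 false]))))))))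
(.node 29 (.node 14 (.node 7 (.node 3 (.node 1 (.leaf (.eqT 10 4808797 true [.plain 3226 19757123 true, .edge 2397 933 false] [.edge 106 0 false])) (.node 1 (.leaf (.eq 104 30224451 [] [.plain 3227 17043521 false, .plain 113 17043521 false])) (.leaf (.eq 104 17043521 [] [.plain 3228 21981251 false]))))
(.node 2 (.node 1 (.leaf (.eqT 4 29904967 false [.plain 3229 19017811 true, .edge 2418 627 false] [.edge 64 0 false])) (.leaf (.eq 699 7039045 [.plain 2903 7039045 false] [.plain 3230 17043521 false]))) (.node 1 (.leaf (.eq 547 17043521 [] [.plain 3231 19208265 false])) (.leaf (.eqT 7 19085399 false [.plain 3232 17246293 true, .edge 2063 1176 false] [.edge 296 0 false])))))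
(.node 3 (.node 1 (.leaf (.eq 92 27801689 [.plain 2897 27801689 false] [.plain 3233 17043521 false, .plain 302 17043521 false])) (.node 1 (.leaf (.eq 25 17043521 [] [.plain 3234 9181257 false])) (.leaf (.eqT 7 25385043 true [.plain 3235 23951447 true, .edge 1061 1249 false] [.edge 89 0 false]))))
(.node 2 (.node 1 (.leaf (.eq 180 17043521 [] [.plain 3236 19683393 false])) (.leaf (.eqT 10 19085399 true [.plain 3237 17526871 true, .edge 2372 1359 false] [.edge 372 0 false]))) (.node 1 (.leaf (.eq 675 19271765 [.plain 2896 19271765 false] [.plain 3238 17043521 false])) (.leaf (.eq 564 17043521 [] [.plain 3239 17242185 false]))))))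
(.node 7 (.node 3 (.node 1 (.leaf (.eqT 42 25385043 true [.plain 3240 8806467 true, .edge 2949 1234 false] [.edge 456 0 false])) (.node 1 (.leaf (.eqT 42 13510735 true [.plain 3240 27406425 true, .edge 2975 395 false] [.edge 3211 0 false])) (.leaf (.eq 801 27603027 [] [.plain 3242 17043521 false, .plain 2472 27553875 false, .plain 3210 16916573 false]))))
(.node 2 (.node 1 (.leaf (.eq 801 17043521 [] [.plain 3243 25507931 false])) (.leaf (.eqT 42 19085399 true [.plain 3244 15485003 true, .edge 2981 641 false] [.edge 1332 0 false]))) (.node 1 (.leaf (.eq 802 27859025 [] [.plain 3245 17043521 false, .plain 1343 32067661 false])) (.leaf (.eq 802 17043521 [] [.plain 3246 11278411 false])))))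
(.node 4 (.node 2 (.node 1 (.leaf (.eq 558 25507909 [.plain 2885 25507909 false] [.plain 3241 17043521 false])) (.leaf (.eq 179 17043521 [] [.plain 3248 31920219 false]))) (.node 1 (.leaf (.eqT 53 17043521 false [.plain 3249 16922693 true, .edge 1054 667 false] [.edge 413 0 false])) (.leaf (.eqT 53 11495495 true [.plain 3249 11343965 true, .edge 1100 135 false] [.edge 421 0 false]))))
(.node 2 (.node 1 (.leaf (.eq 187 25768001 [.plain 1106 25768001 false] [.plain 3251 17043521 false, .plain 428 17043521 false])) (.leaf (.eq 171 17043521 [] [.plain 3252 23294019 false]))) (.node 1 (.leaf (.eqT 45 10971209 true [.plain 3253 11024459 true, .edge 1088 247 false] [.edge 1420 0 false])) (.leaf (.eq 286 17043521 [] [.plain 3254 17043521 true])))))))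
(.node 15 (.node 7 (.node 3 (.node 1 (.leaf (.eq 26 17043521 [] [.plain 3250 8544341 false])) (.node 1 (.leaf (.eqT 22 17043521 true [.plain 3256 31922255 true, .edge 999 975 false] [.edge 196 0 false])) (.leaf (.eq 19 17043521 [] [.plain 3257 19619907 false]))))
(.node 2 (.node 1 (.leaf (.eqT 19 17043521 false [.plain 3258 19619907 true, .edge 729 164 false] [.edge 172 0 false])) (.leaf (.eqT 19 13510735 false [.plain 3258 14827597 true, .edge 823 530 false] [.edge 818 0 false]))) (.node 1 (.leaf (.eq 126 17043521 [] [.plain 3260 17174593 false])) (.leaf (.mov 126 25385043 true [.plain 3261 25630797 true, .edge 890 541 false])))))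
(.node 4 (.node 2 (.node 1 (.leaf (.eqT 126 32125001 false [.plain 3261 32067651 true, .edge 3023 504 false] [.edge 3021 0 false])) (.leaf (.eqT 126 4808797 true [.plain 3261 5130315 true, .edge 3039 899 false] [.edge 3025 0 false]))) (.node 1 (.leaf (.eq 821 17043521 [] [.plain 3264 19689555 false])) (.leaf (.mov 811 13510735 true [.plain 3265 17715279 true, .edge 3079 646 false]))))
(.node 2 (.node 1 (.leaf (.eq 809 17043521 [] [.plain 3263 19019857 false])) (.leaf (.eqT 809 17043521 false [.plain 3267 17240145 true, .edge 3015 1112 false] [.edge 3015 0 false]))) (.node 1 (.leaf (.eq 808 17043521 [] [.plain 3268 19032153 false])) (.leaf (.mov 808 19085399 true [.plain 3269 19081301 true, .edge 3058 649 false]))))))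
(.node 7 (.node 3 (.node 1 (.leaf (.eq 108 17700935 [.plain 735 17700935 false] [.plain 3259 17043521 false])) (.node 1 (.leaf (.eq 19 17043521 [] [.plain 3271 19353667 false])) (.leaf (.eqT 18 31801425 false [.plain 3272 21839959 true, .edge 823 1383 false] [.edge 769 0 false]))))
(.node 2 (.node 1 (.leaf (.eqT 18 19085399 true [.plain 3272 21248079 true, .edge 843 1250 false] [.edge 264 0 false])) (.leaf (.eq 129 19689537 [] [.plain 3274 17043521 false, .plain 3256 4941897 false]))) (.node 1 (.leaf (.eq 129 17043521 [] [.plain 3275 19738689 false])) (.leaf (.eqT 22 25385043 true [.plain 3276 25915469 true, .edge 2211 153 false] [.edge 206 0 false])))))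
(.node 4 (.node 2 (.node 1 (.leaf (.eq 88 10909789 [.plain 2767 10909789 false] [.plain 3277 17043521 false, .plain 213 17043521 false])) (.leaf (.eq 82 17043521 [] [.plain 3278 6895691 false]))) (.node 1 (.leaf (.eqT 7 19085399 false [.plain 3279 29823055 true, .edge 586 733 false] [.edge 296 0 false])) (.leaf (.eqT 7 29904967 false [.plain 3279 9062493 true, .edge 1683 1018 false] [.edge 382 0 false]))))
(.node 2 (.node 1 (.leaf (.eq 423 17043521 [] [.plain 3281 17768523 false])) (.leaf (.eqT 45 10971209 true [.plain 3282 11153501 true, .edge 2962 689 false] [.edge 1420 0 false]))) (.node 1 (.leaf (.eq 471 25897051 [.plain 2966 25897051 false] [.plain 3283 17043521 false, .plain 3255 17043521 false])) (.leaf (.eq 432 17043521 [] [.plain 3284 13520969 false]))))))))))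

/-- The reasons. -/
def caseBFullSrcRRL : Tab Src := .node 234 caseBFullSrcRRLL caseBFullSrcRRLR

/-- The reasons. -/
def caseBFullSrcRRRL : Tab Src :=
(.node 117 (.node 58 (.node 29 (.node 14 (.node 7 (.node 3 (.node 1 (.leaf (.eqT 181 17043521 true [.plain 3285 17784909 true, .edge 2503 858 false] [.edge 2944 0 false])) (.node 1 (.leaf (.eq 725 17764419 [] [.plain 3286 17043521 false, .plain 2883 25759811 false, .plain 3134 23556177 false])) (.leaf (.eq 725 17043521 [] [.plain 3287 17764419 false]))))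
(.node 2 (.node 1 (.leaf (.eqT 67 25385043 true [.plain 3288 25317451 true, .edge 2492 380 false] [.edge 487 0 false])) (.leaf (.eq 726 17053763 [.plain 2499 17053763 false, .plain 3285 11286607 false] [.plain 3289 17043521 false, .plain 494 17043521 false]))) (.node 1 (.leaf (.eq 181 17043521 [] [.plain 3290 13181013 false])) (.leaf (.mov 64 17043521 true [.plain 3291 17197129 true, .edge 1079 38 false])))))
(.node 3 (.node 1 (.leaf (.eq 89 17764445 [] [.plain 3280 17043521 false, .plain 302 17043521 false])) (.node 1 (.leaf (.eq 89 17043521 [] [.plain 3293 17764427 false])) (.leaf (.eqT 7 17043521 false [.plain 3294 19818567 true, .edge 2004 850 false] [.edge 59 0 false]))))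
(.node 2 (.node 1 (.leaf (.eq 509 17043521 [] [.plain 3295 25516109 false])) (.leaf (.eqT 4 4544593 true [.plain 3296 24078407 true, .edge 2007 1356 false] [.edge 120 0 false]))) (.node 1 (.leaf (.eq 508 17043521 [] [.plain 3297 21176407 false])) (.leaf (.eqT 10 29904967 false [.plain 3298 17569871 true, .edge 1997 1048 false] [.edge 311 0 false]))))))
(.node 7 (.node 3 (.node 1 (.leaf (.eq 507 19034205 [] [.plain 3299 17043521 false, .plain 321 17594445 false])) (.node 1 (.leaf (.eq 507 17043521 [] [.plain 3300 19865669 false])) (.leaf (.eqT 10 19085399 true [.plain 3301 6893653 true, .edge 2028 1510 false] [.edge 372 0 false]))))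
(.node 2 (.node 1 (.leaf (.eq 514 17043521 [] [.plain 3302 27469903 false])) (.leaf (.eqT 42 29904967 true [.plain 3303 7231553 true, .edge 2031 1077 false] [.edge 455 0 false]))) (.node 1 (.leaf (.eq 511 17043521 [] [.plain 3304 4798553 false])) (.leaf (.eqT 53 17043521 false [.plain 3305 17702981 true, .edge 2009 323 false] [.edge 413 0 false])))))
(.node 4 (.node 2 (.node 1 (.leaf (.eq 495 17043521 [] [.plain 3306 28000335 false])) (.leaf (.eqT 22 19085399 false [.plain 3307 19755085 true, .edge 2788 218 false] [.edge 400 0 false]))) (.node 1 (.leaf (.eq 498 17586263 [] [.plain 3308 17043521 false, .plain 441 17043521 false, .plain 3256 31942731 false])) (.leaf (.eq 498 17043521 [] [.plain 3309 17586245 false]))))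
(.node 2 (.node 1 (.leaf (.eqT 22 11495495 true [.plain 3310 11366479 true, .edge 2792 697 false] [.edge 224 0 false])) (.leaf (.eq 541 19165249 [.plain 2061 19165249 false] [.plain 3311 17043521 false, .plain 3272 27793497 false]))) (.node 1 (.leaf (.eq 524 17043521 [] [.plain 3312 5197909 false])) (.leaf (.eqT 18 17043521 false [.plain 3313 11087939 true, .edge 2036 1455 false] [.edge 177 0 false])))))))
(.node 14 (.node 7 (.node 3 (.node 1 (.leaf (.eq 529 16920647 [] [.plain 3314 17043521 false, .plain 3272 17440843 false])) (.node 1 (.leaf (.eq 529 17043521 [] [.plain 3315 17178699 false])) (.leaf (.eqT 18 17043521 true [.plain 3316 25837647 true, .edge 2037 975 false] [.edge 157 0 false]))))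
(.node 2 (.node 1 (.leaf (.eq 530 17043521 [] [.plain 3317 9246795 false])) (.leaf (.eqT 1 10971209 false [.plain 3318 4876357 true, .edge 2038 1366 false] [.edge 138 0 false]))) (.node 1 (.leaf (.eq 531 17522769 [.plain 2040 17522769 false] [.plain 3319 17043521 false])) (.leaf (.eq 90 17043521 [] [.plain 3320 30156883 false])))))
(.node 3 (.node 1 (.leaf (.eqT 13 31801425 false [.plain 3321 13244483 true, .edge 2795 850 false] [.edge 537 0 false])) (.node 1 (.leaf (.eq 534 27603013 [] [.plain 3322 17043521 false, .plain 2909 17043521 false])) (.leaf (.eq 534 17043521 [] [.plain 3323 25507919 false]))))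
(.node 2 (.node 1 (.leaf (.eqT 13 11495495 true [.plain 3324 17576021 true, .edge 2052 1099 false] [.edge 402 0 false])) (.leaf (.eq 533 27994189 [] [.plain 3325 17043521 false, .plain 410 17043521 false, .plain 3235 25718865 false]))) (.node 1 (.leaf (.eq 533 17043521 [] [.plain 3326 21198937 false])) (.leaf (.eqT 7 11495495 true [.plain 3327 25313359 true, .edge 2043 237 false] [.edge 75 0 false]))))))
(.node 7 (.node 3 (.node 1 (.leaf (.eq 534 27809859 [.plain 3324 27809859 false] [.plain 3328 17043521 false, .plain 82 17043521 false])) (.node 1 (.leaf (.eq 13 17043521 [] [.plain 3329 6842453 false])) (.leaf (.eq 126 17043521 [] [.plain 3273 17117249 false]))))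
(.node 2 (.node 1 (.leaf (.mov 114 27529303 false [.plain 3331 19755103 true, .edge 828 405 false])) (.leaf (.eqT 114 13510735 true [.plain 3331 17174611 true, .edge 3262 1279 false] [.edge 778 0 false]))) (.node 1 (.leaf (.eq 135 17657947 [.plain 3116 17657947 false] [.plain 3333 17043521 false])) (.leaf (.eq 134 17043521 [] [.plain 3334 17109085 false])))))
(.node 4 (.node 2 (.node 1 (.leaf (.eqT 112 29904967 true [.plain 3335 29626433 true, .edge 3121 458 false] [.edge 2529 0 false])) (.leaf (.eqT 112 29904967 false [.plain 3335 29626433 true, .edge 3125 1347 false] [.edge 2525 0 false]))) (.node 1 (.leaf (.eqT 112 31801425 true [.plain 3335 31942729 true, .edge 3129 642 false] [.edge 2540 0 false])) (.leaf (.eq 317 27988035 [.plain 1528 27988035 false, .plain 1584 27469891 false] [.plain 3338 17043521 false]))))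
(.node 2 (.node 1 (.leaf (.eq 741 17043521 [] [.plain 3339 17043521 true])) (.leaf (.mov 273 31801425 false [.plain 3340 13178971 true, .edge 2544 337 false]))) (.node 1 (.leaf (.mov 273 13510735 false [.plain 1588 21971031 true, .edge 3341 620 false])) (.leaf (.eq 309 17643591 [.plain 1457 17643591 false, .plain 1579 19337291 false, .plain 3103 5126213 false, .plain 3116 5054539 false, .plain 3335 5193819 false] [.plain 3337 17043521 false]))))))))
(.node 29 (.node 14 (.node 7 (.node 3 (.node 1 (.leaf (.eq 735 17043521 [] [.plain 3343 19148893 true])) (.node 1 (.leaf (.eqT 112 23928925 false [.plain 3344 17578051 true, .edge 2520 762 false] [.edge 2517 0 false])) (.leaf (.eq 734 17043521 [] [.plain 3345 19675209 false]))))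
(.node 2 (.node 1 (.leaf (.mov 734 10971209 true [.plain 3346 8810569 true, .edge 2553 550 false])) (.leaf (.eq 269 19730513 [.plain 1364 19730513 false] [.plain 3336 17043521 false]))) (.node 1 (.leaf (.eq 737 17043521 [] [.plain 3348 17043521 true])) (.leaf (.eqT 252 17043521 true [.plain 3349 19673175 true, .edge 2533 925 false] [.edge 1380 0 false])))))
(.node 3 (.node 1 (.leaf (.mov 252 4808797 false [.plain 3349 7022659 true, .edge 2554 811 false])) (.node 1 (.leaf (.eqT 252 4808797 true [.plain 3349 7022659 true, .edge 2658 573 false] [.edge 3113 0 false])) (.leaf (.eq 822 17043521 [] [.plain 3352 19353675 true]))))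
(.node 2 (.node 1 (.leaf (.eqT 775 19085399 true [.plain 3353 19015771 true, .edge 3041 741 false] [.edge 2606 0 false])) (.leaf (.eq 823 11300937 [.plain 3047 11300937 false] [.plain 3354 17043521 false, .plain 2612 17043521 false]))) (.node 1 (.leaf (.eq 809 17043521 [] [.plain 3355 17127493 false])) (.leaf (.eqT 767 19085399 false [.plain 3356 17780807 true, .edge 3015 363 false] [.edge 2571 0 false]))))))
(.node 7 (.node 3 (.node 1 (.leaf (.eq 808 17043521 [] [.plain 3357 19095635 false])) (.node 1 (.leaf (.eqT 768 19085399 true [.plain 3358 17764421 true, .edge 3270 1478 false] [.edge 2637 0 false])) (.leaf (.eq 825 17043521 [] [.plain 3359 17240149 false]))))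
(.node 2 (.node 1 (.leaf (.eqT 781 17043521 false [.plain 3360 17512535 true, .edge 3049 55 false] [.edge 2624 0 false])) (.leaf (.eq 821 29843551 [.plain 3265 29843551 false] [.plain 3361 17043521 false]))) (.node 1 (.leaf (.eq 811 17043521 [] [.plain 3362 19814491 false])) (.leaf (.eqT 772 17043521 false [.plain 3363 27611201 true, .edge 3035 1129 false] [.edge 2625 0 false])))))
(.node 4 (.node 2 (.node 1 (.leaf (.mov 772 11495495 true [.plain 3363 24002631 true, .edge 3266 581 false])) (.leaf (.mov 772 29904967 true [.plain 2602 17178711 true, .edge 3365 980 false]))) (.node 1 (.leaf (.mov 772 32131155 true [.plain 2602 21311559 true, .edge 3366 1075 false])) (.leaf (.eq 816 17043521 [] [.plain 3364 17512521 false]))))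
(.node 2 (.node 1 (.leaf (.mov 781 10971209 true [.plain 3368 10700869 true, .edge 3070 885 false])) (.leaf (.eq 738 19755073 [.plain 2539 19755073 false, .plain 3349 8935493 false] [.plain 3350 17043521 false]))) (.node 1 (.leaf (.eq 273 17043521 [] [.plain 3370 17659983 true])) (.leaf (.mov 252 31801425 false [.plain 3371 21315657 true, .edge 3341 1430 false])))))))
(.node 15 (.node 7 (.node 3 (.node 1 (.leaf (.eqT 252 17043521 false [.plain 3371 25432143 true, .edge 3342 951 false] [.edge 1299 0 false])) (.node 1 (.leaf (.eq 742 17043521 [] [.plain 3373 17444937 false])) (.leaf (.eqT 42 4808797 true [.plain 3374 17197133 true, .edge 2545 973 false] [.edge 457 0 false]))))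
(.node 2 (.node 1 (.leaf (.eq 746 25432145 [.plain 2552 25432145 false] [.plain 3375 17043521 false])) (.leaf (.eq 734 17043521 [] [.plain 3376 17764433 false]))) (.node 1 (.leaf (.eqT 53 31801425 true [.plain 3377 8538195 true, .edge 3347 669 false] [.edge 1482 0 false])) (.leaf (.eq 742 25577541 [.plain 3374 25577541 false] [.plain 3378 17043521 false])))))
(.node 4 (.node 2 (.node 1 (.leaf (.eq 315 17043521 [] [.plain 3379 25505871 true])) (.leaf (.eqT 42 13310023 true [.plain 3380 23621713 true, .edge 1601 712 false] [.edge 376 0 false]))) (.node 1 (.leaf (.eq 366 17043521 [] [.plain 3381 11300945 false])) (.leaf (.eqT 39 31801425 true [.plain 3382 19341377 true, .edge 1609 121 false] [.edge 1283 0 false]))))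
(.node 2 (.node 1 (.leaf (.eq 367 25507915 [.plain 1615 25507915 false, .plain 2681 17522777 false, .plain 3131 28198987 false] [.plain 3383 17043521 false])) (.leaf (.eq 236 17043521 [] [.plain 3384 23666771 true]))) (.node 1 (.leaf (.eqT 67 13310023 false [.plain 3385 12941401 true, .edge 1317 1399 false] [.edge 1541 0 false])) (.leaf (.eq 260 16918605 [.plain 2681 16918605 false, .plain 3131 9324639 false] [.plain 3386 17043521 false]))))))
(.node 7 (.node 3 (.node 1 (.leaf (.eq 349 17043521 [] [.plain 3387 17043521 true])) (.node 1 (.leaf (.eqT 67 13310023 true [.plain 3388 17719373 true, .edge 1546 506 false] [.edge 1344 0 false])) (.leaf (.eq 352 27881539 [] [.plain 3389 17043521 false, .plain 2681 9377883 false, .plain 3131 4794449 false]))))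
(.node 2 (.node 1 (.leaf (.eq 352 17043521 [] [.plain 3390 11294787 false])) (.leaf (.eqT 67 17059919 true [.plain 3391 23421001 true, .edge 1547 240 false] [.edge 1348 0 false]))) (.node 1 (.leaf (.eq 353 11098201 [.plain 1553 11098201 false] [.plain 3392 17043521 false, .plain 1329 9181275 false])) (.leaf (.eq 336 17043521 [] [.plain 3393 4669517 false])))))
(.node 4 (.node 2 (.node 1 (.leaf (.eqT 42 13510735 true [.plain 3394 16918609 true, .edge 1564 234 false] [.edge 3211 0 false])) (.leaf (.eq 355 13195341 [] [.plain 3395 17043521 false, .plain 2472 27553875 false, .plain 3210 16916573 false]))) (.node 1 (.leaf (.eq 355 17043521 [] [.plain 3396 11415633 false])) (.leaf (.eqT 42 17059919 true [.plain 3397 17567811 true, .edge 1555 1277 false] [.edge 525 0 false]))))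
(.node 2 (.node 1 (.leaf (.eq 340 8607825 [] [.plain 3398 17043521 false, .plain 536 25694297 false])) (.leaf (.eq 340 17043521 [] [.plain 3399 13117517 false]))) (.node 1 (.leaf (.eqT 42 32131155 true [.plain 3400 11429977 true, .edge 1537 1036 false] [.edge 358 0 false])) (.leaf (.eq 341 17059923 [] [.plain 3401 17043521 false, .plain 365 17043521 false])))))))))
(.node 59 (.node 29 (.node 14 (.node 7 (.node 3 (.node 1 (.leaf (.eq 341 17043521 [] [.plain 3402 17059923 false])) (.node 1 (.leaf (.eqT 10 13310023 false [.plain 3403 29761607 true, .edge 1538 2 false] [.edge 326 0 false])) (.leaf (.eq 342 17127517 [.plain 1540 17127517 false] [.plain 3404 17043521 false]))))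
(.node 2 (.node 1 (.leaf (.eq 64 17043521 [] [.plain 3405 10905687 false])) (.leaf (.eqT 39 23928925 false [.plain 3406 17459269 true, .edge 462 1206 false] [.edge 1223 0 false]))) (.node 1 (.leaf (.eqT 39 19085399 true [.plain 3406 11016275 true, .edge 3292 926 false] [.edge 333 0 false])) (.leaf (.eq 182 19206225 [.plain 1086 19206225 false, .plain 3253 25450567 false] [.plain 3408 17043521 false, .plain 340 17043521 false])))))
(.node 3 (.node 1 (.leaf (.eq 45 17043521 [] [.plain 3409 4864079 false])) (.node 1 (.leaf (.eqT 29 25385043 true [.plain 3410 21129289 true, .edge 1424 540 false] [.edge 343 0 false])) (.leaf (.eq 289 17043521 [] [.plain 3411 17578057 false]))))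
(.node 2 (.node 1 (.leaf (.eqT 39 13310023 false [.plain 3412 29958227 true, .edge 1441 705 false] [.edge 1226 0 false])) (.leaf (.eq 295 17043521 [] [.plain 3413 17715279 false]))) (.node 1 (.leaf (.eqT 228 19085399 true [.plain 3414 19796049 true, .edge 1442 1237 false] [.edge 1227 0 false])) (.leaf (.eq 296 11032665 [.plain 1448 11032665 false] [.plain 3415 17043521 false, .plain 1234 17043521 false]))))))
(.node 7 (.node 3 (.node 1 (.leaf (.eq 280 17043521 [] [.plain 3416 19277915 false])) (.node 1 (.leaf (.eqT 220 10971209 true [.plain 3417 11159625 true, .edge 1439 613 false] [.edge 1263 0 false])) (.leaf (.eq 292 17043521 [] [.plain 3418 25448521 false]))))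
(.node 2 (.node 1 (.leaf (.eqT 233 17043521 false [.plain 3419 17002565 true, .edge 1428 1469 false] [.edge 1250 0 false])) (.leaf (.eq 225 17043521 [] [.plain 3420 19359835 true]))) (.node 1 (.leaf (.eqT 53 19085399 false [.plain 3421 29841475 true, .edge 1252 818 false] [.edge 1458 0 false])) (.leaf (.eq 233 17244251 [] [.plain 3422 17043521 false, .plain 1468 17043521 false])))))
(.node 4 (.node 2 (.node 1 (.leaf (.eq 233 17043521 [] [.plain 3423 16922711 false])) (.leaf (.eqT 53 11495495 true [.plain 3424 9136219 true, .edge 1253 698 false] [.edge 421 0 false]))) (.node 1 (.leaf (.eq 234 19165251 [.plain 1260 19165251 false] [.plain 3425 17043521 false, .plain 428 17043521 false, .plain 3410 25507905 false])) (.leaf (.eq 220 17043521 [] [.plain 3426 21198937 false]))))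
(.node 2 (.node 1 (.leaf (.eqT 29 7292999 false [.plain 3427 19558469 true, .edge 1182 49 false] [.edge 1192 0 false])) (.leaf (.eqT 29 10971209 true [.plain 3427 27799627 true, .edge 1236 597 false] [.edge 345 0 false]))) (.node 1 (.leaf (.eqT 29 13510735 true [.plain 3427 10713165 true, .edge 1264 1032 false] [.edge 1206 0 false])) (.leaf (.eq 233 25378881 [.plain 3424 25378881 false] [.plain 3430 17043521 false, .plain 3421 11341905 false])))))))
(.node 15 (.node 7 (.node 3 (.node 1 (.leaf (.eq 53 17043521 [] [.plain 3431 4939851 false])) (.node 1 (.leaf (.eqT 53 17043521 false [.plain 3432 5193813 true, .edge 1450 1455 false] [.edge 413 0 false])) (.leaf (.eqT 53 13310023 true [.plain 3432 7286861 true, .edge 1472 991 false] [.edge 1472 0 false]))))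
(.node 2 (.node 1 (.leaf (.eq 314 19748939 [.plain 1584 19748939 false, .plain 3371 17717333 false] [.plain 3434 17043521 false, .plain 1584 17641547 false, .plain 3371 19017805 false])) (.leaf (.eq 252 17043521 [] [.plain 3435 25655369 false]))) (.node 1 (.leaf (.eqT 252 17059919 true [.plain 3436 21446731 true, .edge 3114 265 false] [.edge 1365 0 false])) (.leaf (.mov 252 9056345 false [.plain 3436 13181021 true, .edge 3351 709 false])))))
(.node 4 (.node 2 (.node 1 (.leaf (.mov 252 29904967 false [.plain 1308 30167119 true, .edge 3438 976 false])) (.leaf (.eq 822 25825357 [.plain 3353 25825357 false] [.plain 3437 17043521 false, .plain 1579 17068109 false, .plain 3103 30154821 false, .plain 3116 29579341 false, .plain 3335 30230623 false]))) (.node 1 (.leaf (.eq 775 17043521 [] [.plain 3440 4864093 false])) (.leaf (.eqT 112 4544593 true [.plain 3441 17070159 true, .edge 2638 873 false] [.edge 2532 0 false]))))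
(.node 2 (.node 1 (.leaf (.eq 784 17068121 [] [.plain 3442 17043521 false, .plain 3349 11343947 false])) (.leaf (.eq 784 17043521 [] [.plain 3443 17068121 false]))) (.node 1 (.leaf (.eqT 252 4808797 true [.plain 3444 16937041 true, .edge 2639 1534 false] [.edge 3113 0 false])) (.leaf (.eq 785 11106395 [.plain 2645 11106395 false] [.plain 3445 17043521 false, .plain 3353 19814495 false, .plain 3441 19867735 false]))))))
(.node 7 (.node 3 (.node 1 (.leaf (.eq 772 17043521 [] [.plain 3446 26091607 false])) (.node 1 (.leaf (.mov 112 10971209 false [.plain 3447 27594843 true, .edge 2623 1387 false])) (.leaf (.mov 112 31801425 false [.plain 3447 17780829 true, .edge 2625 969 false]))))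
(.node 2 (.node 1 (.leaf (.eqT 112 32125001 true [.plain 3447 13576281 true, .edge 3367 601 false] [.edge 2530 0 false])) (.leaf (.eq 831 4857929 [] [.plain 3450 17043521 false, .plain 3349 25442369 false]))) (.node 1 (.leaf (.eq 831 17043521 [] [.plain 3451 25313349 false])) (.leaf (.eqT 252 17059919 true [.plain 3452 6709329 true, .edge 3071 1113 false] [.edge 1365 0 false])))))
(.node 4 (.node 2 (.node 1 (.leaf (.eq 832 8917073 [.plain 3078 8917073 false, .plain 3265 27414605 false, .plain 3363 31606861 false, .plain 3447 27467853 false] [.plain 3453 17043521 false, .plain 1579 17068109 false, .plain 3103 30154821 false, .plain 3116 29579341 false, .plain 3335 30230623 false])) (.leaf (.eq 112 17043521 [] [.plain 3454 32262237 false]))) (.node 1 (.leaf (.eqT 112 10971209 false [.plain 3455 28262467 true, .edge 3449 757 false] [.edge 3448 0 false])) (.leaf (.eq 781 17043521 [] [.plain 3456 17512523 false]))))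
(.node 2 (.node 1 (.leaf (.eqT 781 17043521 true [.plain 3457 17045595 true, .edge 2626 230 false] [.edge 2626 0 false])) (.leaf (.eq 782 17051715 [.plain 2633 17051715 false] [.plain 3458 17043521 false, .plain 2633 17043521 false]))) (.node 1 (.leaf (.eq 768 17043521 [] [.plain 3459 19232849 false])) (.leaf (.eqT 768 19085399 false [.plain 3460 19081301 true, .edge 2576 506 false] [.edge 2576 0 false]))))))))
(.node 29 (.node 14 (.node 7 (.node 3 (.node 1 (.leaf (.mov 768 11495495 true [.plain 3460 11475013 true, .edge 2637 422 false])) (.node 1 (.leaf (.eqT 768 11495495 true [.plain 2574 10971205 true, .edge 3462 1076 false] [.edge 3462 0 false])) (.leaf (.eq 781 17043521 [] [.plain 3463 25507921 false]))))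
(.node 2 (.node 1 (.leaf (.mov 781 19085399 true [.plain 3464 19095619 true, .edge 3369 583 false])) (.leaf (.mov 781 25385043 true [.plain 3457 25382991 true, .edge 3465 971 false]))) (.node 1 (.leaf (.eq 769 17240145 [.plain 2579 17240145 false] [.plain 3461 17043521 false, .plain 2579 17043521 false])) (.leaf (.eq 114 17043521 [] [.plain 3467 32067649 false])))))
(.node 3 (.node 1 (.leaf (.eqT 114 13310023 false [.plain 3468 4929625 true, .edge 3332 80 false] [.edge 2563 0 false])) (.node 1 (.leaf (.eq 127 17780813 [.plain 834 17780813 false, .plain 3331 19101787 false] [.plain 3469 17043521 false])) (.leaf (.eq 767 17043521 [] [.plain 3470 17256543 true]))))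
(.node 2 (.node 1 (.leaf (.eqT 114 13510735 false [.plain 3471 19034193 true, .edge 2571 97 false] [.edge 758 0 false])) (.leaf (.eqT 114 32125001 true [.plain 3471 8933471 true, .edge 2622 1053 false] [.edge 776 0 false]))) (.node 1 (.leaf (.eq 778 17043521 [] [.plain 3473 4943957 false])) (.leaf (.eq 768 17649735 [] [.plain 3472 17043521 false, .plain 761 17043521 false]))))))
(.node 7 (.node 3 (.node 1 (.leaf (.eq 768 17043521 [] [.plain 3475 17649751 false])) (.node 1 (.leaf (.eqT 18 13310023 true [.plain 3476 8865887 true, .edge 3462 403 false] [.edge 272 0 false])) (.leaf (.eq 781 25702483 [] [.plain 3477 17043521 false, .plain 3256 14829643 false]))))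
(.node 2 (.node 1 (.leaf (.eq 781 17043521 [] [.plain 3478 9203787 false])) (.leaf (.eqT 22 32125001 true [.plain 3479 17176643 true, .edge 3466 733 false] [.edge 973 0 false]))) (.node 1 (.leaf (.eq 831 11341889 [.plain 3452 11341889 false] [.plain 3480 17043521 false, .plain 1402 19222617 false])) (.leaf (.eq 252 17043521 [] [.plain 3481 11165775 false])))))
(.node 4 (.node 2 (.node 1 (.leaf (.eqT 67 25385043 true [.plain 3482 19605599 true, .edge 1309 1164 false] [.edge 487 0 false])) (.leaf (.eqT 67 6776923 false [.plain 3482 23937093 true, .edge 3372 415 false] [.edge 1596 0 false]))) (.node 1 (.leaf (.eqT 67 31801425 false [.plain 3482 25696349 true, .edge 3439 1410 false] [.edge 1413 0 false])) (.leaf (.eq 751 17524823 [] [.plain 3485 17043521 false, .plain 3100 16988243 false]))))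
(.node 2 (.node 1 (.leaf (.eq 751 17043521 [] [.plain 3486 17524809 false])) (.leaf (.eqT 67 32131155 true [.plain 3487 19748945 true, .edge 2555 887 false] [.edge 1406 0 false]))) (.node 1 (.leaf (.eq 752 19675211 [] [.plain 3488 17043521 false, .plain 3103 17004609 false, .plain 3116 17444959 false, .plain 3335 16934981 false])) (.leaf (.eq 752 17043521 [] [.plain 3489 19755097 false])))))))
(.node 15 (.node 7 (.node 3 (.node 1 (.leaf (.eq 742 17768537 [.plain 3374 17768537 false] [.plain 3484 17043521 false])) (.node 1 (.leaf (.eq 361 17043521 [] [.plain 3491 10909769 true])) (.leaf (.eq 253 11276369 [.plain 1315 11276369 false] [.plain 3483 17043521 false, .plain 494 17043521 false, .plain 3406 11427907 false]))))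
(.node 2 (.node 1 (.leaf (.eq 242 17043521 [] [.plain 3493 19359817 false])) (.leaf (.eq 298 17043521 [] [.plain 3433 17510481 false]))) (.node 1 (.leaf (.eq 228 17043521 [] [.plain 3429 15208523 false])) (.leaf (.eq 221 17043521 [] [.plain 3428 17651777 false])))))
(.node 4 (.node 2 (.node 1 (.leaf (.eqT 221 19085399 true [.plain 3497 16988227 true, .edge 1248 55 false] [.edge 1246 0 false])) (.leaf (.eq 226 17043521 [] [.plain 3498 19757151 false]))) (.node 1 (.leaf (.mov 226 25385043 true [.plain 3499 27473997 true, .edge 1265 1297 false])) (.leaf (.mov 226 11495495 true [.plain 1221 11409489 true, .edge 3500 294 false]))))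
(.node 2 (.node 1 (.leaf (.eqT 67 11495495 true [.plain 3385 11022411 true, .edge 3501 4 true] [.edge 1403 0 false])) (.leaf (.eq 226 17043521 [] [.plain 3502 7043161 false]))) (.node 1 (.leaf (.eqT 22 25385043 true [.plain 3503 19142749 true, .edge 1237 40 false] [.edge 206 0 false])) (.leaf (.eq 231 19232843 [.plain 1244 19232843 false] [.plain 3504 17043521 false, .plain 213 17043521 false]))))))
(.node 7 (.node 3 (.node 1 (.leaf (.eq 221 17043521 [] [.plain 3505 17641541 false])) (.node 1 (.leaf (.eq 227 17043521 [] [.plain 3407 17043521 true])) (.leaf (.mov 1 32125001 false [.edge 132 0 false, .plain 3330 17784905 false]))))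
(.node 2 (.node 1 (.leaf (.mov 1 10971209 false [.edge 138 0 false, .plain 3330 17526867 false])) (.leaf (.mov 1 4808797 false [.edge 131 0 false, .plain 3330 17649745 false]))) (.node 1 (.leaf (.mov 1 23928925 false [.edge 136 0 false, .plain 3330 17111107 false])) (.leaf (.mov 1 29904967 false [.edge 137 0 false, .plain 3330 17768535 false])))))
(.node 4 (.node 2 (.node 1 (.leaf (.mov 1 13310023 false [.edge 130 0 false, .plain 3330 17246277 false])) (.leaf (.mov 1 13510735 false [.edge 133 0 false, .plain 3330 17770563 false]))) (.node 1 (.leaf (.mov 1 7292999 false [.edge 140 0 false, .plain 3330 17109067 false])) (.leaf (.mov 1 27529303 false [.edge 139 0 false, .plain 3330 17528925 false]))))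
(.node 2 (.node 1 (.leaf (.mov 1 19085399 false [.edge 23 0 false, .plain 29 17043521 false])) (.leaf (.mov 1 31801425 false [.edge 134 0 false, .plain 3330 17260633 false]))) (.node 1 (.leaf (.mov 1 9056345 false [.edge 135 0 false, .plain 3330 16920657 false])) (.leaf (.mov 1 6776923 false [.edge 129 0 false, .plain 3330 17043521 false]))))))))))

/-- The reasons. -/
def caseBFullSrcRRRR : Tab Src :=
(.node 117 (.node 58 (.node 29 (.node 14 (.node 7 (.node 3 (.node 1 (.leaf (.mov 4 17059919 true [.edge 51 0 false, .plain 57 17043521 false])) (.node 1 (.leaf (.mov 7 32125001 false [.edge 225 0 false, .plain 3235 17043521 false])) (.leaf (.mov 7 10971209 false [.edge 228 0 false, .plain 3235 17193049 false]))))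
(.node 2 (.node 1 (.leaf (.mov 7 4808797 false [.edge 377 0 false, .plain 3410 17043521 false])) (.leaf (.mov 7 23928925 false [.edge 380 0 false, .plain 3410 17717313 false]))) (.node 1 (.leaf (.mov 7 29904967 false [.edge 382 0 false, .plain 3410 17719363 false])) (.leaf (.mov 7 13310023 false [.edge 381 0 false, .plain 3410 16934977 false])))))
(.node 3 (.node 1 (.leaf (.mov 7 13510735 false [.edge 379 0 false, .plain 3410 16935007 false])) (.node 1 (.leaf (.mov 7 7292999 false [.edge 230 0 false, .plain 3235 17457225 false])) (.leaf (.mov 7 27529303 false [.edge 384 0 false, .plain 3410 17053763 false]))))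
(.node 2 (.node 1 (.leaf (.mov 7 19085399 false [.edge 296 0 false, .plain 302 17043521 false])) (.leaf (.mov 7 31801425 false [.edge 227 0 false, .plain 3235 17061957 false]))) (.node 1 (.leaf (.mov 7 9056345 false [.edge 378 0 false, .plain 3410 17657931 false])) (.leaf (.mov 7 6776923 false [.edge 383 0 false, .plain 3410 17780801 false]))))))
(.node 7 (.node 3 (.node 1 (.leaf (.mov 7 10971209 true [.edge 149 0 false, .plain 155 17043521 false])) (.node 1 (.leaf (.mov 7 11495495 true [.edge 75 0 false, .plain 82 17043521 false])) (.leaf (.mov 10 17043521 false [.edge 463 0 false, .plain 3406 17178717 false]))))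
(.node 2 (.node 1 (.leaf (.mov 10 32125001 false [.edge 467 0 false, .plain 3406 16982105 false])) (.leaf (.mov 10 10971209 false [.edge 468 0 false, .plain 3406 17117253 false]))) (.node 1 (.leaf (.mov 10 4808797 false [.edge 310 0 false, .plain 321 17043521 false])) (.leaf (.mov 10 29904967 false [.edge 311 0 false, .plain 321 17594445 false])))))
(.node 4 (.node 2 (.node 1 (.leaf (.mov 10 13510735 false [.edge 461 0 false, .plain 3406 17043521 false])) (.leaf (.mov 10 27529303 false [.edge 464 0 false, .plain 3406 17178697 false]))) (.node 1 (.leaf (.mov 10 19085399 false [.edge 465 0 false, .plain 3406 16922705 false])) (.leaf (.mov 10 9056345 false [.edge 469 0 false, .plain 3406 16998491 false]))))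
(.node 2 (.node 1 (.leaf (.mov 10 6776923 false [.edge 466 0 false, .plain 3406 17133655 false])) (.leaf (.mov 10 4808797 true [.edge 106 0 false, .plain 113 17043521 false]))) (.node 1 (.leaf (.mov 10 29904967 true [.edge 460 0 false, .plain 477 11358299 false])) (.leaf (.mov 10 17059919 true [.edge 459 0 false, .plain 477 17043521 false])))))))
(.node 14 (.node 7 (.node 3 (.node 1 (.leaf (.mov 10 31801425 true [.edge 303 0 false, .plain 309 17043521 false])) (.node 1 (.leaf (.mov 18 17043521 false [.edge 177 0 false, .plain 3272 17440843 false])) (.leaf (.mov 18 4808797 false [.edge 173 0 false, .plain 3272 17643587 false]))))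
(.node 2 (.node 1 (.leaf (.mov 18 29904967 false [.edge 176 0 false, .plain 3272 17002571 false])) (.leaf (.mov 18 13510735 false [.edge 175 0 false, .plain 3272 17700949 false]))) (.node 1 (.leaf (.mov 18 27529303 false [.edge 171 0 false, .plain 3272 17043521 false])) (.leaf (.mov 18 19085399 false [.edge 174 0 false, .plain 3272 17705049 false])))))
(.node 3 (.node 1 (.leaf (.mov 18 32125001 true [.edge 262 0 false, .plain 3256 31672401 false])) (.node 1 (.leaf (.mov 18 10971209 true [.edge 267 0 false, .plain 3256 21440595 false])) (.leaf (.mov 18 4808797 true [.edge 268 0 false, .plain 3256 13590601 false]))))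
(.node 2 (.node 1 (.leaf (.mov 18 29904967 true [.edge 263 0 false, .plain 3256 4857945 false])) (.leaf (.mov 18 13310023 true [.edge 272 0 false, .plain 3256 14829643 false]))) (.node 1 (.leaf (.mov 18 13510735 true [.edge 265 0 false, .plain 3256 4941889 false])) (.leaf (.mov 18 17059919 true [.edge 802 0 false, .plain 1009 17043521 false]))))))
(.node 7 (.node 3 (.node 1 (.leaf (.mov 18 19085399 true [.edge 264 0 false, .plain 3256 4941897 false])) (.node 1 (.leaf (.mov 18 31801425 true [.edge 266 0 false, .plain 3256 31604825 false])) (.leaf (.mov 18 25385043 true [.edge 271 0 false, .plain 3256 30042179 false]))))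
(.node 2 (.node 1 (.leaf (.mov 18 32131155 true [.edge 270 0 false, .plain 3256 13248595 false])) (.leaf (.mov 18 11495495 true [.edge 269 0 false, .plain 3256 15419473 false]))) (.node 1 (.leaf (.mov 18 4544593 true [.edge 273 0 false, .plain 3256 29575243 false])) (.leaf (.mov 22 17043521 false [.edge 401 0 false, .plain 441 17256543 false, .plain 3256 9203795 false])))))
(.node 4 (.node 2 (.node 1 (.leaf (.mov 22 32125001 false [.edge 877 0 false, .plain 3116 17117257 false, .plain 3335 17633357 false])) (.leaf (.mov 22 10971209 false [.edge 874 0 false, .plain 3116 17256533 false, .plain 3335 17784909 false]))) (.node 1 (.leaf (.mov 22 4808797 false [.edge 871 0 false, .plain 3116 17512539 false, .plain 3335 17000513 false])) (.leaf (.mov 22 29904967 false [.edge 872 0 false, .plain 3116 17127517 false, .plain 3335 17659971 false]))))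
(.node 2 (.node 1 (.leaf (.mov 22 13510735 false [.edge 870 0 false, .plain 3116 17043521 false, .plain 3335 17578063 false])) (.leaf (.mov 22 7292999 false [.edge 876 0 false, .plain 3116 17528927 false, .plain 3335 16984149 false]))) (.node 1 (.leaf (.mov 22 27529303 false [.edge 873 0 false, .plain 3116 17719381 false, .plain 3335 17176659 false])) (.leaf (.mov 22 19085399 false [.edge 400 0 false, .plain 441 17043521 false, .plain 3256 31942731 false]))))))))
(.node 29 (.node 14 (.node 7 (.node 3 (.node 1 (.leaf (.mov 22 31801425 false [.edge 875 0 false, .plain 3116 17127519 false, .plain 3335 17659969 false])) (.node 1 (.leaf (.mov 22 17043521 true [.edge 196 0 false, .plain 3272 17043521 false])) (.leaf (.mov 22 32125001 true [.edge 973 0 false, .plain 1402 19222617 false]))))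
(.node 2 (.node 1 (.leaf (.mov 22 10971209 true [.edge 966 0 false, .plain 998 8999005 false, .plain 3256 29511761 false])) (.leaf (.mov 22 4808797 true [.edge 976 0 false, .plain 1402 11352137 false]))) (.node 1 (.leaf (.mov 22 29904967 true [.edge 975 0 false, .plain 1402 27545675 false])) (.leaf (.mov 22 13310023 true [.edge 972 0 false, .plain 1402 25776211 false])))))
(.node 3 (.node 1 (.leaf (.mov 22 13510735 true [.edge 971 0 false, .plain 1402 25507913 false])) (.node 1 (.leaf (.mov 22 17059919 true [.edge 967 0 false, .plain 998 25456733 false, .plain 3256 4943955 false])) (.leaf (.mov 22 19085399 true [.edge 393 0 false, .plain 399 17043521 false]))))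
(.node 2 (.node 1 (.leaf (.mov 22 31801425 true [.edge 968 0 false, .plain 1402 17043521 false])) (.leaf (.mov 22 25385043 true [.edge 206 0 false, .plain 213 17043521 false]))) (.node 1 (.leaf (.mov 22 32131155 true [.edge 974 0 false, .plain 1402 19232857 false])) (.leaf (.mov 22 11495495 true [.edge 224 0 false, .plain 3272 27793497 false]))))))
(.node 7 (.node 3 (.node 1 (.leaf (.mov 22 4544593 true [.edge 970 0 false, .plain 1402 19230801 false])) (.node 1 (.leaf (.mov 29 32125001 false [.edge 1190 0 false, .plain 3506 19605591 false])) (.leaf (.mov 29 10971209 false [.edge 1173 0 false, .plain 3427 17770575 false]))))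
(.node 2 (.node 1 (.leaf (.mov 29 4808797 false [.edge 1176 0 false, .plain 3427 17506369 false])) (.leaf (.mov 29 23928925 false [.edge 1189 0 false, .plain 3506 19812419 false]))) (.node 1 (.leaf (.mov 29 29904967 false [.edge 1193 0 false, .plain 3506 19818561 false])) (.leaf (.mov 29 13310023 false [.edge 1172 0 false, .plain 3427 17043521 false])))))
(.node 4 (.node 2 (.node 1 (.leaf (.mov 29 13510735 false [.edge 1191 0 false, .plain 3506 19357769 false])) (.leaf (.mov 29 7292999 false [.edge 1192 0 false, .plain 3506 19748937 false]))) (.node 1 (.leaf (.mov 29 27529303 false [.edge 1174 0 false, .plain 3427 17700955 false])) (.leaf (.mov 29 19085399 false [.edge 289 0 false, .plain 295 17043521 false]))))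
(.node 2 (.node 1 (.leaf (.mov 29 31801425 false [.edge 1175 0 false, .plain 3427 17659997 false])) (.leaf (.mov 29 9056345 false [.edge 1177 0 false, .plain 3427 17260627 false]))) (.node 1 (.leaf (.mov 29 6776923 false [.edge 1194 0 false, .plain 3506 19290191 false])) (.leaf (.mov 29 32125001 true [.edge 1209 0 false, .plain 3421 25704539 false])))))))
(.node 15 (.node 7 (.node 3 (.node 1 (.leaf (.mov 29 4808797 true [.edge 1207 0 false, .plain 3421 8982617 false])) (.node 1 (.leaf (.mov 29 29904967 true [.edge 1202 0 false, .plain 3421 17043521 false])) (.leaf (.mov 29 13310023 true [.edge 1208 0 false, .plain 3421 27881537 false]))))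
(.node 2 (.node 1 (.leaf (.mov 29 13510735 true [.edge 1206 0 false, .plain 3421 11341905 false])) (.leaf (.mov 29 31801425 true [.edge 1204 0 false, .plain 3421 19664971 false]))) (.node 1 (.leaf (.mov 29 32131155 true [.edge 1203 0 false, .plain 3421 8917081 false])) (.leaf (.mov 29 4544593 true [.edge 1205 0 false, .plain 3421 25450569 false])))))
(.node 4 (.node 2 (.node 1 (.leaf (.mov 39 32125001 false [.edge 1293 0 false, .plain 3494 16986181 false])) (.leaf (.mov 39 10971209 false [.edge 1294 0 false, .plain 3494 17459265 false]))) (.node 1 (.leaf (.mov 39 4808797 false [.edge 1291 0 false, .plain 3494 17784917 false])) (.leaf (.mov 39 23928925 false [.edge 1223 0 false, .plain 3507 17043521 false]))))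
(.node 2 (.node 1 (.leaf (.mov 39 29904967 false [.edge 1288 0 false, .plain 3494 17193041 false])) (.leaf (.mov 39 13310023 false [.edge 1226 0 false, .plain 3496 17526861 false]))) (.node 1 (.leaf (.mov 39 13510735 false [.edge 1292 0 false, .plain 3494 17698885 false])) (.leaf (.mov 39 7292999 false [.edge 1289 0 false, .plain 3494 17768519 false]))))))
(.node 7 (.node 3 (.node 1 (.leaf (.mov 39 27529303 false [.edge 1287 0 false, .plain 3494 17043521 false])) (.node 1 (.leaf (.mov 39 19085399 false [.edge 1295 0 false, .plain 1297 17043521 false])) (.leaf (.mov 39 31801425 false [.edge 1290 0 false, .plain 3494 17717331 false]))))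
(.node 2 (.node 1 (.leaf (.mov 39 9056345 false [.edge 1225 0 false, .plain 3496 17043521 false])) (.leaf (.mov 39 6776923 false [.edge 1224 0 false, .plain 3507 17045591 false]))) (.node 1 (.leaf (.mov 39 32125001 true [.edge 1282 0 false, .plain 3385 9388121 false])) (.leaf (.mov 39 4808797 true [.edge 1279 0 false, .plain 3385 28264539 false])))))
(.node 4 (.node 2 (.node 1 (.leaf (.mov 39 29904967 true [.edge 1285 0 false, .plain 3385 8611929 false])) (.leaf (.mov 39 13310023 true [.edge 1286 0 false, .plain 3385 19359819 false]))) (.node 1 (.leaf (.mov 39 13510735 true [.edge 1280 0 false, .plain 3385 11159635 false])) (.leaf (.mov 39 19085399 true [.edge 333 0 false, .plain 340 17043521 false]))))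
(.node 2 (.node 1 (.leaf (.mov 39 31801425 true [.edge 1283 0 false, .plain 3385 10641481 false])) (.leaf (.mov 39 25385043 true [.edge 1195 0 false, .plain 1201 17043521 false]))) (.node 1 (.leaf (.mov 39 32131155 true [.edge 1284 0 false, .plain 3385 9070683 false])) (.leaf (.mov 39 4544593 true [.edge 1281 0 false, .plain 3385 9324633 false])))))))))
(.node 59 (.node 29 (.node 14 (.node 7 (.node 3 (.node 1 (.leaf (.mov 42 17043521 false [.edge 1300 0 false, .plain 3482 17117269 false])) (.node 1 (.leaf (.mov 42 32125001 false [.edge 1306 0 false, .plain 3482 17512525 false])) (.leaf (.mov 42 10971209 false [.edge 1303 0 false, .plain 3482 17111117 false]))))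
(.node 2 (.node 1 (.leaf (.mov 42 4808797 false [.edge 1298 0 false, .plain 3482 17043521 false])) (.leaf (.mov 42 23928925 false [.edge 1305 0 false, .plain 3482 17522753 false]))) (.node 1 (.leaf (.mov 42 29904967 false [.edge 1302 0 false, .plain 3482 17703001 false])) (.leaf (.mov 42 13310023 false [.edge 1304 0 false, .plain 3482 17117273 false])))))
(.node 3 (.node 1 (.leaf (.mov 42 13510735 false [.edge 498 0 false, .plain 509 17043521 false])) (.node 1 (.leaf (.mov 42 27529303 false [.edge 499 0 false, .plain 509 17576025 false])) (.leaf (.mov 42 19085399 false [.edge 1301 0 false, .plain 3482 17715279 false]))))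
(.node 2 (.node 1 (.leaf (.mov 42 32125001 true [.edge 524 0 false, .plain 536 17043521 false])) (.leaf (.mov 42 13510735 true [.edge 3211 0 false, .plain 2472 27553875 false, .plain 3210 16916573 false]))) (.node 1 (.leaf (.mov 42 17059919 true [.edge 525 0 false, .plain 536 25694297 false])) (.leaf (.mov 42 19085399 true [.edge 1332 0 false, .plain 1343 32067661 false]))))))
(.node 7 (.node 3 (.node 1 (.leaf (.mov 42 31801425 true [.edge 1331 0 false, .plain 1343 15562823 false])) (.node 1 (.leaf (.mov 42 32131155 true [.edge 358 0 false, .plain 365 17043521 false])) (.leaf (.mov 42 11495495 true [.edge 1330 0 false, .plain 1343 7090269 false]))))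
(.node 2 (.node 1 (.leaf (.mov 42 4544593 true [.edge 1333 0 false, .plain 1343 13441109 false])) (.leaf (.mov 53 32125001 false [.edge 1427 0 false, .plain 3419 17043521 false, .plain 3424 17770571 false]))) (.node 1 (.leaf (.mov 53 10971209 false [.edge 1449 0 false, .plain 3495 17043521 false])) (.leaf (.mov 53 4808797 false [.edge 1355 0 false, .plain 1579 17459285 false, .plain 3103 27414593 false, .plain 3116 28192853 false, .plain 3335 27478087 false])))))
(.node 4 (.node 2 (.node 1 (.leaf (.mov 53 23928925 false [.edge 1352 0 false, .plain 1579 16984137 false, .plain 3103 11212879 false, .plain 3116 11483209 false, .plain 3335 11159643 false])) (.leaf (.mov 53 29904967 false [.edge 1349 0 false, .plain 1579 17043521 false, .plain 3103 4989001 false, .plain 3116 5191745 false, .plain 3335 5064787 false]))) (.node 1 (.leaf (.mov 53 13310023 false [.edge 1354 0 false, .plain 1579 17127493 false, .plain 3103 23930959 false, .plain 3116 23558213 false, .plain 3335 23873623 false]))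 (.leaf (.mov 53 13510735 false [.edge 1351 0 false, .plain 1579 17119309 false, .plain 3103 15542343 false, .plain 3116 15407181 false, .plain 3335 15485023 false]))))
(.node 2 (.node 1 (.leaf (.mov 53 7292999 false [.edge 1429 0 false, .plain 3419 17463389 false, .plain 3424 17586251 false])) (.leaf (.mov 53 27529303 false [.edge 1353 0 false, .plain 1579 17770573 false, .plain 3103 10975315 false, .plain 3116 10704973 false, .plain 3335 10897503 false]))) (.node 1 (.leaf (.mov 53 19085399 false [.edge 1458 0 false, .plain 1468 17043521 false])) (.leaf (.mov 53 31801425 false [.edge 1450 0 false, .plain 3495 17528923 false])))))))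
(.node 15 (.node 7 (.node 3 (.node 1 (.leaf (.mov 53 9056345 false [.edge 1356 0 false, .plain 1579 17195089 false, .plain 3103 26095709 false, .plain 3116 25385041 false, .plain 3335 26167363 false])) (.node 1 (.leaf (.mov 53 6776923 false [.edge 1350 0 false, .plain 1579 16934985 false, .plain 3103 27922509 false, .plain 3116 27684937 false, .plain 3335 28002395 false])) (.leaf (.mov 53 17043521 true [.edge 442 0 false, .plain 454 17043521 false]))))
(.node 2 (.node 1 (.leaf (.mov 53 32125001 true [.edge 1485 0 false, .plain 3380 11284557 false])) (.leaf (.mov 53 10971209 true [.edge 985 0 false, .plain 991 17043521 false]))) (.node 1 (.leaf (.mov 53 4808797 true [.edge 1469 0 false, .plain 1584 17043521 false, .plain 3371 19861597 false, .plain 3482 13570117 false])) (.leaf (.mov 53 29904967 true [.edge 1483 0 false, .plain 3380 11038813 false])))))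
(.node 4 (.node 2 (.node 1 (.leaf (.mov 53 13310023 true [.edge 1472 0 false, .plain 1584 17641547 false, .plain 3371 19017805 false, .plain 3482 23212103 false])) (.leaf (.mov 53 13510735 true [.edge 1484 0 false, .plain 3380 19232839 false]))) (.node 1 (.leaf (.mov 53 19085399 true [.edge 444 0 false, .plain 454 19730499 false])) (.leaf (.mov 53 31801425 true [.edge 1482 0 false, .plain 3380 27605063 false]))))
(.node 2 (.node 1 (.leaf (.mov 53 32131155 true [.edge 1471 0 false, .plain 1584 27816027 false, .plain 3371 25849933 false, .plain 3482 13267015 false])) (.leaf (.mov 53 11495495 true [.edge 421 0 false, .plain 428 17043521 false, .plain 3410 25507905 false]))) (.node 1 (.leaf (.mov 53 4544593 true [.edge 1470 0 false, .plain 1584 11040849 false, .plain 3371 8616021 false, .plain 3482 14907471 false])) (.leaf (.mov 67 32125001 false [.edge 1411 0 false, .plain 3100 17715295 false]))))))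
(.node 7 (.node 3 (.node 1 (.leaf (.mov 67 10971209 false [.edge 1410 0 false, .plain 3100 17111119 false])) (.node 1 (.leaf (.mov 67 4808797 false [.edge 1368 0 false, .plain 3371 17522781 false, .plain 3482 7037009 false])) (.leaf (.mov 67 23928925 false [.edge 1595 0 false, .plain 3492 13199447 false]))))
(.node 2 (.node 1 (.leaf (.mov 67 29904967 false [.edge 1370 0 false, .plain 3371 17127517 false, .plain 3482 27613251 false])) (.leaf (.mov 67 13310023 false [.edge 1541 0 false, .plain 3388 17043521 false]))) (.node 1 (.leaf (.mov 67 13510735 false [.edge 1367 0 false, .plain 3371 17043521 false, .plain 3482 25432143 false])) (.leaf (.mov 67 7292999 false [.edge 1412 0 false, .plain 3100 17576023 false])))))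
(.node 4 (.node 2 (.node 1 (.leaf (.mov 67 27529303 false [.edge 1369 0 false, .plain 3371 17698905 false, .plain 3482 13504579 false])) (.leaf (.mov 67 19085399 false [.edge 1405 0 false, .plain 1566 17659997 false]))) (.node 1 (.leaf (.mov 67 31801425 false [.edge 1413 0 false, .plain 3100 16988243 false])) (.leaf (.mov 67 9056345 false [.edge 1542 0 false, .plain 3388 17262661 false]))))
(.node 2 (.node 1 (.leaf (.mov 67 6776923 false [.edge 1596 0 false, .plain 3492 15296595 false])) (.leaf (.mov 67 17043521 true [.edge 510 0 false, .plain 521 17043521 false]))) (.node 1 (.leaf (.mov 67 32125001 true [.edge 1408 0 false, .plain 3103 19099723 false, .plain 3116 19607639 false, .plain 3335 19030095 false])) (.leaf (.mov 67 10971209 true [.edge 1404 0 false, .plain 983 8917083 false, .plain 1402 9181255 false]))))))))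
(.node 29 (.node 14 (.node 7 (.node 3 (.node 1 (.leaf (.mov 67 4808797 true [.edge 1347 0 false, .plain 2681 19877979 false, .plain 3131 23937099 false])) (.node 1 (.leaf (.mov 67 29904967 true [.edge 1345 0 false, .plain 2681 19355731 false, .plain 3131 21250115 false])) (.leaf (.mov 67 13310023 true [.edge 1344 0 false, .plain 2681 9377883 false, .plain 3131 4794449 false]))))
(.node 2 (.node 1 (.leaf (.mov 67 13510735 true [.edge 1346 0 false, .plain 2681 19607635 false, .plain 3131 15024195 false])) (.leaf (.mov 67 17059919 true [.edge 1348 0 false, .plain 1329 9181275 false]))) (.node 1 (.leaf (.mov 67 19085399 true [.edge 3135 0 false, .plain 3247 29845597 false])) (.leaf (.mov 67 31801425 true [.edge 1407 0 false, .plain 3103 17446993 false, .plain 3116 17002591 false, .plain 3335 17522759 false])))))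
(.node 3 (.node 1 (.leaf (.mov 67 25385043 true [.edge 487 0 false, .plain 494 17043521 false, .plain 3406 11427907 false])) (.node 1 (.leaf (.mov 67 32131155 true [.edge 1406 0 false, .plain 3103 17004609 false, .plain 3116 17444959 false, .plain 3335 16934981 false])) (.leaf (.mov 67 4544593 true [.edge 1409 0 false, .plain 3103 16937033 false, .plain 3116 17512533 false, .plain 3335 17000527 false]))))
(.node 2 (.node 1 (.leaf (.mov 112 17043521 false [.edge 744 0 false, .plain 3256 14958673 false])) (.leaf (.mov 112 32125001 false [.edge 2560 0 false, .plain 3490 17174607 false]))) (.node 1 (.leaf (.mov 112 10971209 false [.edge 3448 0 false, .plain 3479 17719377 false])) (.leaf (.mov 112 4808797 false [.edge 2515 0 false, .plain 3377 17043521 false]))))))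
(.node 7 (.node 3 (.node 1 (.leaf (.mov 112 23928925 false [.edge 2517 0 false, .plain 3377 17586267 false])) (.node 1 (.leaf (.mov 112 29904967 false [.edge 2525 0 false, .plain 3344 19148887 false])) (.leaf (.mov 112 13310023 false [.edge 2527 0 false, .plain 3344 19230809 false]))))
(.node 2 (.node 1 (.leaf (.mov 112 13510735 false [.edge 2526 0 false, .plain 3344 19206215 false])) (.leaf (.mov 112 7292999 false [.edge 2613 0 false, .plain 3474 17043521 false]))) (.node 1 (.leaf (.mov 112 27529303 false [.edge 2516 0 false, .plain 3377 17578073 false])) (.leaf (.mov 112 19085399 false [.edge 1126 0 false, .plain 1132 17043521 false])))))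
(.node 4 (.node 2 (.node 1 (.leaf (.mov 112 31801425 false [.edge 3449 0 false, .plain 3479 17659979 false])) (.leaf (.mov 112 9056345 false [.edge 2528 0 false, .plain 3344 19288131 false]))) (.node 1 (.leaf (.mov 112 6776923 false [.edge 2518 0 false, .plain 3377 17059905 false])) (.leaf (.mov 112 17043521 true [.edge 781 0 false, .plain 3134 17594451 false]))))
(.node 2 (.node 1 (.leaf (.mov 112 32125001 true [.edge 2530 0 false, .plain 3349 25442369 false, .plain 3482 27881541 false])) (.leaf (.mov 112 4808797 true [.edge 2542 0 false, .plain 3340 11087947 false, .plain 3371 25378893 false, .plain 3482 31670361 false]))) (.node 1 (.leaf (.mov 112 29904967 true [.edge 2529 0 false, .plain 3349 17043521 false, .plain 3482 19757135 false])) (.leaf (.mov 112 13310023 true [.edge 2531 0 false, .plain 3349 17133633 false, .plain 3482 19664981 false])))))))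
(.node 15 (.node 7 (.node 3 (.node 1 (.leaf (.mov 112 13510735 true [.edge 2543 0 false, .plain 3340 25712715 false, .plain 3371 8865861 false, .plain 3482 6768731 false])) (.node 1 (.leaf (.mov 112 17059919 true [.edge 779 0 false, .plain 3134 17043521 false])) (.leaf (.mov 112 19085399 true [.edge 783 0 false, .plain 3134 19691603 false]))))
(.node 2 (.node 1 (.leaf (.mov 112 31801425 true [.edge 2540 0 false, .plain 3340 17043521 false, .plain 3371 25831509 false, .plain 3482 13248585 false])) (.leaf (.mov 112 25385043 true [.edge 782 0 false, .plain 3134 11276355 false]))) (.node 1 (.leaf (.mov 112 32131155 true [.edge 2541 0 false, .plain 3340 19216473 false, .plain 3371 26091589 false, .plain 3482 5120083 false])) (.leaf (.mov 112 11495495 true [.edge 2586 0 false, .plain 2592 17043521 false])))))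
(.node 4 (.node 2 (.node 1 (.leaf (.mov 112 4544593 true [.edge 2532 0 false, .plain 3349 11343947 false, .plain 3482 8998997 false])) (.leaf (.mov 114 17043521 false [.edge 2584 0 false, .plain 3476 19150925 false]))) (.node 1 (.leaf (.mov 114 32125001 false [.edge 2583 0 false, .plain 3476 19034183 false])) (.leaf (.mov 114 10971209 false [.edge 2564 0 false, .plain 3471 17440853 false]))))
(.node 2 (.node 1 (.leaf (.mov 114 4808797 false [.edge 2566 0 false, .plain 3471 16984135 false])) (.leaf (.mov 114 23928925 false [.edge 2582 0 false, .plain 3476 19277897 false]))) (.node 1 (.leaf (.mov 114 29904967 false [.edge 2585 0 false, .plain 3476 19343435 false])) (.leaf (.mov 114 13310023 false [.edge 2563 0 false, .plain 3471 17780825 false]))))))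
(.node 7 (.node 3 (.node 1 (.leaf (.mov 114 13510735 false [.edge 758 0 false, .plain 761 17043521 false])) (.node 1 (.leaf (.mov 114 7292999 false [.edge 2581 0 false, .plain 3476 19216473 false])) (.leaf (.mov 114 27529303 false [.edge 3332 0 false, .plain 834 17659973 false, .plain 3331 19294297 false]))))
(.node 2 (.node 1 (.leaf (.mov 114 19085399 false [.edge 2565 0 false, .plain 3471 17512517 false])) (.leaf (.mov 114 31801425 false [.edge 2562 0 false, .plain 3471 17512513 false]))) (.node 1 (.leaf (.mov 114 9056345 false [.edge 2561 0 false, .plain 3471 17043521 false])) (.leaf (.mov 114 6776923 false [.edge 2580 0 false, .plain 3476 19148887 false])))))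
(.node 4 (.node 2 (.node 1 (.leaf (.mov 114 10971209 true [.edge 2600 0 false, .plain 3447 25507913 false])) (.leaf (.mov 114 4808797 true [.edge 2595 0 false, .plain 3447 19738705 false]))) (.node 1 (.leaf (.mov 114 29904967 true [.edge 2593 0 false, .plain 3447 17043521 false])) (.leaf (.mov 114 19085399 true [.edge 2597 0 false, .plain 3447 19689537 false]))))
(.node 2 (.node 1 (.leaf (.mov 114 31801425 true [.edge 2594 0 false, .plain 3447 25776195 false])) (.leaf (.mov 114 25385043 true [.edge 2599 0 false, .plain 3447 11300931 false]))) (.node 1 (.leaf (.mov 114 11495495 true [.edge 2598 0 false, .plain 3447 25784387 false])) (.leaf (.mov 114 4544593 true [.edge 2596 0 false, .plain 3447 25710675 false]))))))))))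

/-- The reasons. -/
def caseBFullSrcRRR : Tab Src := .node 235 caseBFullSrcRRRL caseBFullSrcRRRR

/-- The reasons. -/
def caseBFullSrcRR : Tab Src := .node 469 caseBFullSrcRRL caseBFullSrcRRR

/-- The reasons. -/
def caseBFullSrcR : Tab Src := .node 939 caseBFullSrcRL caseBFullSrcRR

/-- The reasons. -/
def caseBFullSrc : Tab Src := .node 1878 caseBFullSrcL caseBFullSrcR

/-- The definitions. -/
def caseBFullDefsLL : Tab (ℕ × ℕ × Bool) :=
(.node 105 (.node 52 (.node 26 (.node 13 (.node 6 (.node 3 (.node 1 (.leaf (0, 17043521, false)) (.node 1 (.leaf (0, 13510735, false)) (.leaf (1, 19085399, false)))) (.node 1 (.leaf (2, 19085399, false)) (.node 1 (.leaf (0, 13310023, true)) (.leaf (4, 17059919, true)))))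
(.node 3 (.node 1 (.leaf (5, 17059919, true)) (.node 1 (.leaf (4, 4808797, false)) (.leaf (7, 11495495, true))))
(.node 2 (.node 1 (.leaf (8, 13510735, false)) (.leaf (7, 25385043, true))) (.node 1 (.leaf (10, 4808797, true)) (.leaf (11, 19085399, true))))))
(.node 6 (.node 3 (.node 1 (.leaf (1, 6776923, false)) (.node 1 (.leaf (13, 19085399, false)) (.leaf (14, 19085399, false)))) (.node 1 (.leaf (7, 10971209, true)) (.node 1 (.leaf (16, 17059919, true)) (.leaf (1, 13310023, true)))))
(.node 3 (.node 1 (.leaf (18, 27529303, false)) (.node 1 (.leaf (19, 19085399, true)) (.leaf (20, 19085399, false))))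
(.node 2 (.node 1 (.leaf (19, 17043521, true)) (.leaf (22, 25385043, true))) (.node 1 (.leaf (23, 4544593, true)) (.leaf (7, 32125001, false)))))))
(.node 13 (.node 6 (.node 3 (.node 1 (.leaf (25, 11495495, true)) (.node 1 (.leaf (26, 32131155, true)) (.leaf (27, 32131155, true)))) (.node 1 (.leaf (4, 10971209, false)) (.node 1 (.leaf (29, 19085399, false)) (.leaf (30, 19085399, false)))))
(.node 3 (.node 1 (.leaf (7, 19085399, false)) (.node 1 (.leaf (32, 19085399, false)) (.leaf (10, 31801425, true))))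
(.node 2 (.node 1 (.leaf (34, 17059919, true)) (.leaf (10, 4808797, false))) (.node 1 (.leaf (36, 25385043, true)) (.leaf (37, 4808797, false))))))
(.node 6 (.node 3 (.node 1 (.leaf (10, 31801425, false)) (.node 1 (.leaf (39, 19085399, true)) (.leaf (40, 19085399, false)))) (.node 1 (.leaf (39, 10971209, true)) (.node 1 (.leaf (42, 32131155, true)) (.leaf (43, 32131155, true)))))
(.node 3 (.node 1 (.leaf (7, 4808797, false)) (.node 1 (.leaf (45, 19085399, false)) (.leaf (46, 19085399, false))))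
(.node 2 (.node 1 (.leaf (22, 19085399, true)) (.leaf (48, 17059919, true))) (.node 1 (.leaf (22, 19085399, false)) (.leaf (13, 11495495, true))))))))
(.node 26 (.node 13 (.node 6 (.node 3 (.node 1 (.leaf (51, 13510735, false)) (.node 1 (.leaf (22, 23928925, false)) (.leaf (53, 11495495, true)))) (.node 1 (.leaf (54, 13510735, false)) (.node 1 (.leaf (50, 19085399, true)) (.leaf (56, 19085399, false)))))
(.node 3 (.node 1 (.leaf (53, 17043521, true)) (.node 1 (.leaf (58, 19085399, true)) (.leaf (59, 25385043, true))))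
(.node 2 (.node 1 (.leaf (10, 17059919, true)) (.leaf (61, 13310023, true))) (.node 1 (.leaf (62, 31801425, true)) (.leaf (10, 13510735, false))))))
(.node 6 (.node 3 (.node 1 (.leaf (64, 19085399, false)) (.node 1 (.leaf (65, 19085399, false)) (.leaf (42, 6776923, false)))) (.node 1 (.leaf (67, 25385043, true)) (.node 1 (.leaf (68, 4808797, false)) (.leaf (42, 13510735, false)))))
(.node 3 (.node 1 (.leaf (70, 19085399, true)) (.node 1 (.leaf (71, 19085399, false)) (.leaf (67, 17043521, true))))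
(.node 2 (.node 1 (.leaf (73, 10971209, true)) (.leaf (74, 13310023, true))) (.node 1 (.leaf (42, 32125001, true)) (.leaf (76, 32125001, true)))))))
(.node 13 (.node 6 (.node 3 (.node 1 (.leaf (77, 32125001, true)) (.node 1 (.leaf (13, 31801425, false)) (.leaf (79, 19085399, false)))) (.node 1 (.leaf (80, 19085399, false)) (.node 1 (.leaf (13, 29904967, true)) (.leaf (82, 17059919, true)))))
(.node 3 (.node 1 (.leaf (83, 17059919, true)) (.node 1 (.leaf (13, 31801425, true)) (.leaf (85, 17059919, true))))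
(.node 2 (.node 1 (.leaf (86, 17059919, true)) (.leaf (82, 19085399, false))) (.node 1 (.leaf (82, 27529303, false)) (.leaf (89, 19085399, true))))))
(.node 7 (.node 3 (.node 1 (.leaf (90, 19085399, false)) (.node 1 (.leaf (25, 13510735, false)) (.leaf (92, 17043521, true))))
(.node 2 (.node 1 (.leaf (93, 17043521, false)) (.leaf (19, 23928925, false))) (.node 1 (.leaf (95, 10971209, true)) (.leaf (96, 13510735, false)))))
(.node 3 (.node 1 (.leaf (88, 10971209, true)) (.node 1 (.leaf (98, 13510735, false)) (.leaf (85, 19085399, false))))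
(.node 2 (.node 1 (.leaf (100, 17059919, true)) (.leaf (101, 19085399, true))) (.node 1 (.leaf (102, 25385043, true)) (.leaf (25, 4808797, false)))))))))
(.node 53 (.node 26 (.node 13 (.node 6 (.node 3 (.node 1 (.leaf (104, 17059919, true)) (.node 1 (.leaf (105, 11495495, true)) (.leaf (106, 32131155, true)))) (.node 1 (.leaf (19, 19085399, false)) (.node 1 (.leaf (108, 19085399, false)) (.leaf (26, 13510735, true)))))
(.node 3 (.node 1 (.leaf (110, 17059919, true)) (.node 1 (.leaf (26, 31801425, false)) (.leaf (26, 27529303, false))))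
(.node 2 (.node 1 (.leaf (112, 10971209, true)) (.leaf (114, 13510735, false))) (.node 1 (.leaf (112, 17059919, true)) (.leaf (116, 19085399, true))))))
(.node 6 (.node 3 (.node 1 (.leaf (117, 25385043, true)) (.node 1 (.leaf (18, 17059919, true)) (.leaf (119, 4808797, false)))) (.node 1 (.leaf (120, 19085399, true)) (.node 1 (.leaf (121, 19085399, true)) (.leaf (122, 11495495, true)))))
(.node 3 (.node 1 (.leaf (95, 19085399, false)) (.node 1 (.leaf (124, 19085399, false)) (.leaf (19, 27529303, false))))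
(.node 2 (.node 1 (.leaf (126, 19085399, false)) (.leaf (127, 19085399, false))) (.node 1 (.leaf (19, 13310023, true)) (.leaf (129, 17059919, true)))))))
(.node 13 (.node 6 (.node 3 (.node 1 (.leaf (130, 17059919, true)) (.node 1 (.leaf (19, 10971209, true)) (.leaf (132, 13510735, false)))) (.node 1 (.leaf (132, 29904967, false)) (.node 1 (.leaf (22, 13510735, false)) (.leaf (135, 17043521, true)))))
(.node 3 (.node 1 (.leaf (136, 17043521, false)) (.node 1 (.leaf (129, 17043521, false)) (.leaf (138, 25385043, true))))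
(.node 2 (.node 1 (.leaf (139, 4808797, false)) (.leaf (19, 25385043, true))) (.node 1 (.leaf (141, 27529303, false)) (.leaf (142, 19085399, true))))))
(.node 7 (.node 3 (.node 1 (.leaf (143, 19085399, false)) (.node 1 (.leaf (129, 29904967, false)) (.leaf (145, 17059919, true))))
(.node 2 (.node 1 (.leaf (146, 17043521, false)) (.leaf (134, 11495495, true))) (.node 1 (.leaf (148, 32125001, true)) (.leaf (149, 32125001, true)))))
(.node 3 (.node 1 (.leaf (129, 19085399, false)) (.node 1 (.leaf (151, 19085399, true)) (.leaf (152, 11495495, true))))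
(.node 2 (.node 1 (.leaf (153, 13310023, true)) (.leaf (135, 19085399, false))) (.node 1 (.leaf (155, 19085399, false)) (.leaf (132, 17059919, true))))))))
(.node 26 (.node 13 (.node 6 (.node 3 (.node 1 (.leaf (22, 31801425, true)) (.node 1 (.leaf (158, 17059919, true)) (.leaf (159, 17059919, true)))) (.node 1 (.leaf (158, 29904967, false)) (.node 1 (.leaf (53, 10971209, true)) (.leaf (162, 13510735, false)))))
(.node 3 (.node 1 (.leaf (132, 27529303, false)) (.node 1 (.leaf (145, 25385043, true)) (.leaf (165, 31801425, true))))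
(.node 2 (.node 1 (.leaf (158, 27529303, false)) (.leaf (167, 17059919, true))) (.node 1 (.leaf (168, 25385043, true)) (.leaf (169, 4544593, true))))))
(.node 6 (.node 3 (.node 1 (.leaf (25, 7292999, false)) (.node 1 (.leaf (171, 19085399, false)) (.leaf (172, 19085399, false)))) (.node 1 (.leaf (101, 25385043, true)) (.node 1 (.leaf (174, 17059919, true)) (.leaf (25, 17059919, true)))))
(.node 3 (.node 1 (.leaf (176, 17059919, true)) (.node 1 (.leaf (177, 17059919, true)) (.leaf (26, 29904967, false))))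
(.node 2 (.node 1 (.leaf (25, 31801425, true)) (.leaf (180, 19085399, false))) (.node 1 (.leaf (181, 10971209, true)) (.leaf (182, 13510735, false)))))))
(.node 13 (.node 6 (.node 3 (.node 1 (.leaf (101, 6776923, false)) (.node 1 (.leaf (184, 10971209, true)) (.leaf (185, 13510735, false)))) (.node 1 (.leaf (179, 17059919, true)) (.node 1 (.leaf (187, 17043521, false)) (.leaf (184, 25385043, true)))))
(.node 3 (.node 1 (.leaf (189, 29904967, true)) (.node 1 (.leaf (190, 11495495, true)) (.leaf (92, 10971209, true))))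
(.node 2 (.node 1 (.leaf (192, 13510735, true)) (.leaf (193, 10971209, true))) (.node 1 (.leaf (112, 19085399, false)) (.leaf (195, 19085399, false))))))
(.node 7 (.node 3 (.node 1 (.leaf (134, 19085399, false)) (.node 1 (.leaf (197, 19085399, false)) (.leaf (116, 25385043, true))))
(.node 2 (.node 1 (.leaf (199, 17059919, true)) (.leaf (116, 6776923, false))) (.node 1 (.leaf (201, 10971209, true)) (.leaf (202, 13510735, false)))))
(.node 3 (.node 1 (.leaf (116, 13310023, false)) (.node 1 (.leaf (204, 17043521, true)) (.leaf (205, 17043521, false))))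
(.node 2 (.node 1 (.leaf (26, 17059919, true)) (.leaf (207, 4808797, false))) (.node 1 (.leaf (208, 11495495, true)) (.leaf (209, 13510735, false))))))))))

/-- The definitions. -/
def caseBFullDefsLR : Tab (ℕ × ℕ × Bool) :=
(.node 105 (.node 52 (.node 26 (.node 13 (.node 6 (.node 3 (.node 1 (.leaf (135, 17059919, true)) (.node 1 (.leaf (211, 17043521, false)) (.leaf (25, 19085399, false)))) (.node 1 (.leaf (213, 25385043, true)) (.node 1 (.leaf (214, 4544593, true)) (.leaf (215, 32125001, true)))))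
(.node 3 (.node 1 (.leaf (148, 13510735, true)) (.node 1 (.leaf (217, 10971209, true)) (.leaf (218, 13310023, true))))
(.node 2 (.node 1 (.leaf (29, 13310023, false)) (.leaf (220, 19085399, false))) (.node 1 (.leaf (221, 19085399, false)) (.leaf (39, 25385043, true))))))
(.node 6 (.node 3 (.node 1 (.leaf (223, 17059919, true)) (.node 1 (.leaf (29, 29904967, true)) (.leaf (225, 29904967, false)))) (.node 1 (.leaf (39, 23928925, false)) (.node 1 (.leaf (39, 9056345, false)) (.leaf (228, 19085399, true)))))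
(.node 3 (.node 1 (.leaf (229, 19085399, false)) (.node 1 (.leaf (226, 17059919, true)) (.leaf (231, 17043521, false))))
(.node 2 (.node 1 (.leaf (225, 19085399, false)) (.leaf (233, 10971209, true))) (.node 1 (.leaf (234, 13510735, false)) (.leaf (226, 19085399, true)))))))
(.node 13 (.node 6 (.node 3 (.node 1 (.leaf (236, 10971209, true)) (.node 1 (.leaf (237, 32131155, true)) (.leaf (233, 19085399, true)))) (.node 1 (.leaf (239, 11495495, true)) (.node 1 (.leaf (240, 13310023, true)) (.leaf (39, 27529303, false)))))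
(.node 3 (.node 1 (.leaf (242, 19085399, false)) (.node 1 (.leaf (243, 19085399, false)) (.leaf (236, 11495495, true))))
(.node 2 (.node 1 (.leaf (245, 17059919, true)) (.leaf (236, 10971209, false))) (.node 1 (.leaf (236, 19085399, false)) (.leaf (248, 17059919, true))))))
(.node 6 (.node 3 (.node 1 (.leaf (249, 17043521, false)) (.node 1 (.leaf (39, 19085399, false)) (.leaf (42, 4808797, false)))) (.node 1 (.leaf (252, 11495495, true)) (.node 1 (.leaf (253, 13510735, false)) (.leaf (227, 11495495, true)))))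
(.node 3 (.node 1 (.leaf (255, 13510735, false)) (.node 1 (.leaf (248, 19085399, true)) (.leaf (257, 10971209, true))))
(.node 2 (.node 1 (.leaf (258, 32131155, true)) (.leaf (236, 7292999, false))) (.node 1 (.leaf (260, 25385043, true)) (.leaf (261, 29904967, true))))))))
(.node 26 (.node 13 (.node 6 (.node 3 (.node 1 (.leaf (262, 11495495, true)) (.node 1 (.leaf (252, 19085399, false)) (.leaf (264, 19085399, false)))) (.node 1 (.leaf (261, 4544593, true)) (.node 1 (.leaf (266, 17059919, true)) (.leaf (53, 29904967, false)))))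
(.node 3 (.node 1 (.leaf (268, 17059919, true)) (.node 1 (.leaf (269, 17043521, false)) (.leaf (252, 10971209, true))))
(.node 2 (.node 1 (.leaf (271, 13510735, false)) (.leaf (67, 13510735, false))) (.node 1 (.leaf (273, 17059919, true)) (.leaf (274, 17043521, false))))))
(.node 6 (.node 3 (.node 1 (.leaf (268, 10971209, true)) (.node 1 (.leaf (276, 13510735, true)) (.leaf (277, 10971209, true)))) (.node 1 (.leaf (158, 29904967, true)) (.node 1 (.leaf (45, 23928925, false)) (.leaf (280, 19085399, false)))))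
(.node 3 (.node 1 (.leaf (281, 19085399, false)) (.node 1 (.leaf (45, 13310023, true)) (.leaf (283, 17059919, true))))
(.node 2 (.node 1 (.leaf (284, 17059919, true)) (.leaf (45, 10971209, true))) (.node 1 (.leaf (286, 17059919, true)) (.leaf (287, 17059919, true)))))))
(.node 13 (.node 6 (.node 3 (.node 1 (.leaf (45, 13510735, true)) (.node 1 (.leaf (289, 27529303, false)) (.leaf (289, 29904967, false)))) (.node 1 (.leaf (53, 32125001, false)) (.node 1 (.leaf (292, 17043521, true)) (.leaf (293, 17043521, false)))))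
(.node 3 (.node 1 (.leaf (289, 17043521, false)) (.node 1 (.leaf (295, 25385043, true)) (.leaf (296, 4808797, false))))
(.node 2 (.node 1 (.leaf (53, 10971209, false)) (.leaf (298, 19085399, true))) (.node 1 (.leaf (299, 19085399, false)) (.leaf (286, 29904967, false))))))
(.node 7 (.node 3 (.node 1 (.leaf (301, 25385043, true)) (.node 1 (.leaf (302, 31801425, true)) (.leaf (303, 13310023, true))))
(.node 2 (.node 1 (.leaf (283, 27529303, false)) (.leaf (305, 17059919, true))) (.node 1 (.leaf (306, 25385043, true)) (.leaf (307, 4544593, true)))))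
(.node 3 (.node 1 (.leaf (268, 19085399, false)) (.node 1 (.leaf (309, 19085399, false)) (.leaf (53, 19085399, false))))
(.node 2 (.node 1 (.leaf (311, 19085399, false)) (.leaf (312, 19085399, false))) (.node 1 (.leaf (53, 4808797, true)) (.leaf (314, 17059919, true)))))))))
(.node 53 (.node 26 (.node 13 (.node 6 (.node 3 (.node 1 (.leaf (315, 17059919, true)) (.node 1 (.leaf (314, 17043521, false)) (.leaf (317, 25385043, true)))) (.node 1 (.leaf (318, 4808797, false)) (.node 1 (.leaf (315, 19085399, false)) (.leaf (320, 11495495, true)))))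
(.node 3 (.node 1 (.leaf (321, 13510735, false)) (.node 1 (.leaf (314, 19085399, false)) (.leaf (323, 10971209, true))))
(.node 2 (.node 1 (.leaf (324, 13510735, false)) (.leaf (317, 10971209, true))) (.node 1 (.leaf (314, 19085399, true)) (.leaf (327, 11495495, true))))))
(.node 6 (.node 3 (.node 1 (.leaf (328, 13310023, true)) (.node 1 (.leaf (64, 31801425, false)) (.leaf (330, 19085399, false)))) (.node 1 (.leaf (331, 19085399, false)) (.node 1 (.leaf (64, 32131155, true)) (.leaf (333, 17059919, true)))))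
(.node 3 (.node 1 (.leaf (334, 17059919, true)) (.node 1 (.leaf (64, 29904967, true)) (.leaf (336, 17059919, true))))
(.node 2 (.node 1 (.leaf (337, 17059919, true)) (.leaf (333, 17043521, false))) (.node 1 (.leaf (336, 19085399, false)) (.leaf (340, 10971209, true)))))))
(.node 13 (.node 6 (.node 3 (.node 1 (.leaf (341, 13510735, false)) (.node 1 (.leaf (339, 25385043, true)) (.leaf (343, 4808797, false)))) (.node 1 (.leaf (64, 17059919, true)) (.node 1 (.leaf (345, 27529303, false)) (.leaf (346, 19085399, true)))))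
(.node 3 (.node 1 (.leaf (347, 19085399, false)) (.node 1 (.leaf (67, 13310023, false)) (.leaf (349, 17059919, true))))
(.node 2 (.node 1 (.leaf (350, 17043521, false)) (.leaf (349, 25385043, true))) (.node 1 (.leaf (352, 31801425, true)) (.leaf (353, 13310023, true))))))
(.node 7 (.node 3 (.node 1 (.leaf (340, 25385043, true)) (.node 1 (.leaf (355, 29904967, true)) (.leaf (356, 11495495, true))))
(.node 2 (.node 1 (.leaf (167, 19085399, false)) (.leaf (358, 19085399, false))) (.node 1 (.leaf (145, 9056345, false)) (.leaf (360, 25385043, true)))))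
(.node 3 (.node 1 (.leaf (361, 4808797, false)) (.node 1 (.leaf (260, 13310023, false)) (.leaf (363, 17059919, true))))
(.node 2 (.node 1 (.leaf (364, 17043521, false)) (.leaf (315, 25385043, true))) (.node 1 (.leaf (366, 31801425, true)) (.leaf (367, 32131155, true))))))))
(.node 26 (.node 13 (.node 6 (.node 3 (.node 1 (.leaf (79, 13310023, false)) (.node 1 (.leaf (369, 19085399, false)) (.leaf (370, 19085399, false)))) (.node 1 (.leaf (79, 4544593, true)) (.node 1 (.leaf (372, 17059919, true)) (.leaf (373, 17059919, true)))))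
(.node 3 (.node 1 (.leaf (92, 17059919, true)) (.node 1 (.leaf (375, 17059919, true)) (.leaf (79, 19085399, true))))
(.node 2 (.node 1 (.leaf (377, 4808797, false)) (.leaf (79, 13310023, true))) (.node 1 (.leaf (379, 13510735, false)) (.leaf (380, 17043521, true))))))
(.node 6 (.node 3 (.node 1 (.leaf (381, 17043521, false)) (.node 1 (.leaf (378, 11495495, true)) (.leaf (383, 13510735, false)))) (.node 1 (.leaf (377, 17043521, false)) (.node 1 (.leaf (385, 25385043, true)) (.leaf (386, 4808797, false)))))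
(.node 3 (.node 1 (.leaf (380, 11495495, true)) (.node 1 (.leaf (388, 32131155, true)) (.leaf (389, 32131155, true))))
(.node 2 (.node 1 (.leaf (380, 25385043, true)) (.leaf (391, 4544593, true))) (.node 1 (.leaf (392, 32125001, true)) (.leaf (80, 10971209, false)))))))
(.node 13 (.node 6 (.node 3 (.node 1 (.leaf (394, 19085399, false)) (.node 1 (.leaf (395, 19085399, false)) (.leaf (80, 29904967, false)))) (.node 1 (.leaf (397, 19085399, false)) (.node 1 (.leaf (398, 19085399, false)) (.leaf (385, 19085399, true)))))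
(.node 3 (.node 1 (.leaf (400, 17059919, true)) (.node 1 (.leaf (80, 13310023, true)) (.leaf (402, 19085399, false))))
(.node 2 (.node 1 (.leaf (385, 19085399, false)) (.leaf (80, 13510735, true))) (.node 1 (.leaf (405, 27529303, false)) (.leaf (406, 19085399, true))))))
(.node 7 (.node 3 (.node 1 (.leaf (407, 19085399, false)) (.node 1 (.leaf (385, 13310023, false)) (.leaf (409, 17059919, true))))
(.node 2 (.node 1 (.leaf (410, 17043521, false)) (.leaf (405, 13510735, false))) (.node 1 (.leaf (412, 17043521, true)) (.leaf (413, 17043521, false)))))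
(.node 3 (.node 1 (.leaf (403, 10971209, true)) (.node 1 (.leaf (415, 13510735, false)) (.leaf (403, 17059919, true))))
(.node 2 (.node 1 (.leaf (417, 19085399, true)) (.leaf (418, 25385043, true))) (.node 1 (.leaf (409, 19085399, true)) (.leaf (420, 10971209, true))))))))))

/-- The definitions. -/
def caseBFullDefsL : Tab (ℕ × ℕ × Bool) := .node 211 caseBFullDefsLL caseBFullDefsLR

/-- The definitions. -/
def caseBFullDefsRL : Tab (ℕ × ℕ × Bool) :=
(.node 105 (.node 52 (.node 26 (.node 13 (.node 6 (.node 3 (.node 1 (.leaf (421, 32131155, true)) (.node 1 (.leaf (82, 13310023, false)) (.leaf (423, 19085399, false)))) (.node 1 (.leaf (424, 19085399, false)) (.node 1 (.leaf (88, 19085399, false)) (.leaf (426, 19085399, false)))))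
(.node 3 (.node 1 (.leaf (82, 31801425, true)) (.node 1 (.leaf (428, 17059919, true)) (.leaf (429, 17059919, true))))
(.node 2 (.node 1 (.leaf (428, 19085399, false)) (.leaf (105, 10971209, false))) (.node 1 (.leaf (428, 27529303, false)) (.leaf (433, 19085399, true))))))
(.node 6 (.node 3 (.node 1 (.leaf (434, 19085399, false)) (.node 1 (.leaf (431, 10971209, true)) (.leaf (436, 13510735, false)))) (.node 1 (.leaf (431, 25385043, true)) (.node 1 (.leaf (438, 29904967, true)) (.leaf (439, 11495495, true)))))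
(.node 3 (.node 1 (.leaf (431, 17059919, true)) (.node 1 (.leaf (441, 19085399, true)) (.leaf (442, 25385043, true))))
(.node 2 (.node 1 (.leaf (85, 23928925, false)) (.leaf (444, 19085399, false))) (.node 1 (.leaf (445, 19085399, false)) (.leaf (85, 19085399, true)))))))
(.node 13 (.node 6 (.node 3 (.node 1 (.leaf (447, 17059919, true)) (.node 1 (.leaf (448, 17059919, true)) (.leaf (85, 31801425, true)))) (.node 1 (.leaf (450, 17059919, true)) (.node 1 (.leaf (451, 17059919, true)) (.leaf (447, 17043521, false)))))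
(.node 3 (.node 1 (.leaf (450, 27529303, false)) (.node 1 (.leaf (377, 19085399, false)) (.leaf (450, 4808797, false))))
(.node 2 (.node 1 (.leaf (456, 11495495, true)) (.leaf (457, 13510735, false))) (.node 1 (.leaf (95, 19085399, true)) (.leaf (459, 11495495, true))))))
(.node 6 (.node 3 (.node 1 (.leaf (433, 10971209, true)) (.node 1 (.leaf (88, 13310023, false)) (.leaf (462, 19085399, false)))) (.node 1 (.leaf (463, 19085399, false)) (.node 1 (.leaf (88, 13510735, true)) (.leaf (465, 17059919, true)))))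
(.node 3 (.node 1 (.leaf (466, 17059919, true)) (.node 1 (.leaf (88, 32125001, true)) (.leaf (468, 17059919, true))))
(.node 2 (.node 1 (.leaf (469, 17059919, true)) (.leaf (465, 19085399, false))) (.node 1 (.leaf (433, 13310023, false)) (.leaf (96, 7292999, false))))))))
(.node 26 (.node 13 (.node 6 (.node 3 (.node 1 (.leaf (473, 25385043, true)) (.node 1 (.leaf (474, 4808797, false)) (.leaf (471, 10971209, true)))) (.node 1 (.leaf (476, 13510735, false)) (.node 1 (.leaf (88, 19085399, true)) (.leaf (478, 17043521, false)))))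
(.node 3 (.node 1 (.leaf (479, 25385043, true)) (.node 1 (.leaf (480, 4808797, false)) (.leaf (469, 29904967, false))))
(.node 2 (.node 1 (.leaf (482, 17043521, true)) (.leaf (483, 17043521, false))) (.node 1 (.leaf (472, 10971209, true)) (.leaf (485, 13310023, true))))))
(.node 6 (.node 3 (.node 1 (.leaf (486, 31801425, true)) (.node 1 (.leaf (466, 27529303, false)) (.leaf (488, 17059919, true)))) (.node 1 (.leaf (489, 10971209, true)) (.node 1 (.leaf (490, 13310023, true)) (.leaf (89, 4808797, false)))))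
(.node 3 (.node 1 (.leaf (492, 19085399, false)) (.node 1 (.leaf (493, 19085399, false)) (.leaf (89, 13310023, true))))
(.node 2 (.node 1 (.leaf (495, 17059919, true)) (.leaf (496, 17059919, true))) (.node 1 (.leaf (495, 17043521, false)) (.leaf (89, 10971209, true)))))))
(.node 13 (.node 6 (.node 3 (.node 1 (.leaf (499, 4808797, false)) (.node 1 (.leaf (498, 25385043, true)) (.leaf (501, 4808797, false)))) (.node 1 (.leaf (89, 25385043, true)) (.node 1 (.leaf (503, 13510735, false)) (.leaf (504, 17043521, true)))))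
(.node 3 (.node 1 (.leaf (505, 17043521, false)) (.node 1 (.leaf (89, 17043521, true)) (.leaf (507, 19085399, false))))
(.node 2 (.node 1 (.leaf (508, 10971209, true)) (.leaf (509, 13510735, false))) (.node 1 (.leaf (495, 27529303, false)) (.leaf (511, 19085399, true))))))
(.node 7 (.node 3 (.node 1 (.leaf (512, 19085399, false)) (.node 1 (.leaf (511, 11495495, true)) (.leaf (514, 13510735, true))))
(.node 2 (.node 1 (.leaf (515, 10971209, true)) (.leaf (499, 27529303, false))) (.node 1 (.leaf (517, 17059919, true)) (.leaf (518, 25385043, true)))))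
(.node 3 (.node 1 (.leaf (519, 4544593, true)) (.node 1 (.leaf (90, 4808797, false)) (.leaf (521, 19085399, false))))
(.node 2 (.node 1 (.leaf (522, 19085399, false)) (.leaf (90, 4544593, true))) (.node 1 (.leaf (524, 17059919, true)) (.leaf (525, 17059919, true)))))))))
(.node 53 (.node 26 (.node 13 (.node 6 (.node 3 (.node 1 (.leaf (503, 17059919, true)) (.node 1 (.leaf (524, 17043521, false)) (.leaf (524, 4808797, false)))) (.node 1 (.leaf (529, 11495495, true)) (.node 1 (.leaf (530, 13510735, false)) (.leaf (90, 19085399, true)))))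
(.node 3 (.node 1 (.leaf (532, 4808797, false)) (.node 1 (.leaf (533, 11495495, true)) (.leaf (534, 13510735, false))))
(.node 2 (.node 1 (.leaf (90, 4808797, true)) (.leaf (536, 13510735, false))) (.node 1 (.leaf (537, 17043521, true)) (.leaf (538, 17043521, false))))))
(.node 6 (.node 3 (.node 1 (.leaf (501, 31801425, true)) (.node 1 (.leaf (540, 32131155, true)) (.leaf (541, 13310023, true)))) (.node 1 (.leaf (536, 27529303, false)) (.node 1 (.leaf (543, 17059919, true)) (.leaf (544, 25385043, true)))))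
(.node 3 (.node 1 (.leaf (545, 4544593, true)) (.node 1 (.leaf (92, 29904967, false)) (.leaf (547, 19085399, false))))
(.node 2 (.node 1 (.leaf (548, 19085399, false)) (.leaf (92, 13510735, true))) (.node 1 (.leaf (550, 17059919, true)) (.leaf (551, 17059919, true)))))))
(.node 13 (.node 6 (.node 3 (.node 1 (.leaf (550, 17043521, false)) (.node 1 (.leaf (92, 29904967, true)) (.leaf (554, 4808797, false)))) (.node 1 (.leaf (555, 11495495, true)) (.node 1 (.leaf (556, 13510735, false)) (.leaf (192, 19085399, false)))))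
(.node 3 (.node 1 (.leaf (558, 10971209, true)) (.node 1 (.leaf (559, 13510735, false)) (.leaf (555, 25385043, true))))
(.node 2 (.node 1 (.leaf (561, 4808797, true)) (.leaf (562, 19085399, true))) (.node 1 (.leaf (558, 17059919, true)) (.leaf (564, 19085399, true))))))
(.node 7 (.node 3 (.node 1 (.leaf (565, 25385043, true)) (.node 1 (.leaf (95, 23928925, false)) (.leaf (567, 19085399, false))))
(.node 2 (.node 1 (.leaf (568, 19085399, false)) (.leaf (95, 10971209, false))) (.node 1 (.leaf (570, 19085399, false)) (.leaf (571, 19085399, false)))))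
(.node 3 (.node 1 (.leaf (433, 17059919, true)) (.node 1 (.leaf (573, 17059919, true)) (.leaf (95, 31801425, true))))
(.node 2 (.node 1 (.leaf (575, 17059919, true)) (.leaf (576, 17059919, true))) (.node 1 (.leaf (576, 19085399, false)) (.leaf (95, 32125001, true))))))))
(.node 26 (.node 13 (.node 6 (.node 3 (.node 1 (.leaf (579, 13510735, false)) (.node 1 (.leaf (95, 13310023, true)) (.leaf (581, 13510735, false)))) (.node 1 (.leaf (582, 17043521, true)) (.node 1 (.leaf (583, 17043521, false)) (.leaf (579, 19085399, false)))))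
(.node 3 (.node 1 (.leaf (585, 10971209, true)) (.node 1 (.leaf (586, 13510735, false)) (.leaf (433, 27529303, false))))
(.node 2 (.node 1 (.leaf (588, 19085399, true)) (.leaf (589, 19085399, false))) (.node 1 (.leaf (478, 11495495, true)) (.leaf (591, 13510735, false))))))
(.node 6 (.node 3 (.node 1 (.leaf (576, 27529303, false)) (.node 1 (.leaf (593, 11495495, true)) (.leaf (594, 13310023, true)))) (.node 1 (.leaf (595, 31801425, true)) (.node 1 (.leaf (588, 17043521, true)) (.leaf (597, 25385043, true)))))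
(.node 3 (.node 1 (.leaf (598, 4544593, true)) (.node 1 (.leaf (96, 27529303, false)) (.leaf (96, 31801425, false))))
(.node 2 (.node 1 (.leaf (601, 19085399, false)) (.leaf (602, 19085399, false))) (.node 1 (.leaf (96, 19085399, true)) (.leaf (604, 17059919, true)))))))
(.node 13 (.node 6 (.node 3 (.node 1 (.leaf (605, 17059919, true)) (.node 1 (.leaf (96, 4544593, true)) (.leaf (607, 17059919, true)))) (.node 1 (.leaf (608, 17059919, true)) (.node 1 (.leaf (96, 13310023, true)) (.leaf (610, 19085399, false)))))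
(.node 3 (.node 1 (.leaf (88, 7292999, false)) (.node 1 (.leaf (96, 10971209, true)) (.leaf (613, 17043521, false))))
(.node 2 (.node 1 (.leaf (614, 25385043, true)) (.leaf (615, 4808797, false))) (.node 1 (.leaf (613, 13510735, false)) (.leaf (617, 17043521, true))))))
(.node 7 (.node 3 (.node 1 (.leaf (618, 17043521, false)) (.node 1 (.leaf (571, 19085399, true)) (.leaf (620, 17043521, false))))
(.node 2 (.node 1 (.leaf (613, 4808797, false)) (.leaf (622, 11495495, true))) (.node 1 (.leaf (623, 13510735, false)) (.leaf (96, 4808797, true)))))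
(.node 3 (.node 1 (.leaf (625, 19085399, false)) (.node 1 (.leaf (626, 17059919, true)) (.leaf (627, 19085399, true))))
(.node 2 (.node 1 (.leaf (628, 25385043, true)) (.leaf (610, 29904967, false))) (.node 1 (.leaf (630, 25385043, true)) (.leaf (631, 31801425, true))))))))))

/-- The definitions. -/
def caseBFullDefsRR : Tab (ℕ × ℕ × Bool) :=
(.node 105 (.node 52 (.node 26 (.node 13 (.node 6 (.node 3 (.node 1 (.leaf (632, 13310023, true)) (.node 1 (.leaf (100, 32125001, false)) (.leaf (634, 19085399, false)))) (.node 1 (.leaf (635, 19085399, false)) (.node 1 (.leaf (100, 19085399, false)) (.leaf (637, 19085399, false)))))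
(.node 3 (.node 1 (.leaf (638, 19085399, false)) (.node 1 (.leaf (417, 25385043, true)) (.leaf (640, 17059919, true))))
(.node 2 (.node 1 (.leaf (101, 19085399, false)) (.leaf (417, 9056345, false))) (.node 1 (.leaf (643, 19085399, true)) (.leaf (644, 19085399, false))))))
(.node 6 (.node 3 (.node 1 (.leaf (417, 17043521, false)) (.node 1 (.leaf (646, 17059919, true)) (.leaf (647, 17043521, false)))) (.node 1 (.leaf (100, 25385043, true)) (.node 1 (.leaf (649, 17043521, false)) (.leaf (650, 11495495, true)))))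
(.node 3 (.node 1 (.leaf (651, 13310023, true)) (.node 1 (.leaf (652, 31801425, true)) (.leaf (101, 27529303, false))))
(.node 2 (.node 1 (.leaf (654, 19085399, false)) (.leaf (655, 19085399, false))) (.node 1 (.leaf (184, 19085399, false)) (.leaf (657, 19085399, false)))))))
(.node 13 (.node 6 (.node 3 (.node 1 (.leaf (101, 13510735, true)) (.node 1 (.leaf (659, 17059919, true)) (.leaf (660, 17059919, true)))) (.node 1 (.leaf (101, 10971209, true)) (.node 1 (.leaf (662, 29904967, false)) (.leaf (659, 19085399, false)))))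
(.node 3 (.node 1 (.leaf (664, 10971209, true)) (.node 1 (.leaf (665, 13510735, false)) (.leaf (662, 13510735, false))))
(.node 2 (.node 1 (.leaf (667, 17043521, true)) (.leaf (668, 17043521, false))) (.node 1 (.leaf (642, 19085399, true)) (.leaf (670, 19085399, false))))))
(.node 6 (.node 3 (.node 1 (.leaf (25, 27529303, false)) (.node 1 (.leaf (672, 11495495, true)) (.leaf (673, 13510735, false)))) (.node 1 (.leaf (659, 4808797, false)) (.node 1 (.leaf (675, 19085399, true)) (.leaf (676, 19085399, true)))))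
(.node 3 (.node 1 (.leaf (677, 11495495, true)) (.node 1 (.leaf (662, 27529303, false)) (.leaf (679, 17059919, true))))
(.node 2 (.node 1 (.leaf (680, 25385043, true)) (.leaf (681, 4544593, true))) (.node 1 (.leaf (104, 13310023, false)) (.leaf (683, 19085399, false))))))))
(.node 26 (.node 13 (.node 6 (.node 3 (.node 1 (.leaf (684, 19085399, false)) (.node 1 (.leaf (105, 17059919, true)) (.leaf (686, 17059919, true)))) (.node 1 (.leaf (104, 13510735, true)) (.node 1 (.leaf (688, 17059919, true)) (.leaf (689, 17059919, true)))))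
(.node 3 (.node 1 (.leaf (688, 17043521, false)) (.node 1 (.leaf (104, 10971209, true)) (.leaf (692, 29904967, false))))
(.node 2 (.node 1 (.leaf (104, 4544593, true)) (.leaf (694, 4808797, false))) (.node 1 (.leaf (695, 11495495, true)) (.leaf (696, 13510735, false))))))
(.node 6 (.node 3 (.node 1 (.leaf (105, 19085399, false)) (.node 1 (.leaf (698, 10971209, true)) (.leaf (699, 13510735, false)))) (.node 1 (.leaf (105, 4808797, false)) (.node 1 (.leaf (701, 11495495, true)) (.leaf (702, 13510735, false)))))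
(.node 3 (.node 1 (.leaf (691, 17059919, true)) (.node 1 (.leaf (704, 10971209, true)) (.leaf (705, 13310023, true))))
(.node 2 (.node 1 (.leaf (701, 19085399, true)) (.leaf (707, 19085399, true))) (.node 1 (.leaf (708, 11495495, true)) (.leaf (701, 19085399, false)))))))
(.node 13 (.node 6 (.node 3 (.node 1 (.leaf (710, 19085399, false)) (.node 1 (.leaf (105, 23928925, false)) (.leaf (712, 19085399, false)))) (.node 1 (.leaf (713, 19085399, false)) (.node 1 (.leaf (704, 11495495, true)) (.leaf (715, 17059919, true)))))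
(.node 3 (.node 1 (.leaf (704, 31801425, false)) (.node 1 (.leaf (704, 19085399, false)) (.leaf (717, 17043521, true))))
(.node 2 (.node 1 (.leaf (719, 17043521, false)) (.leaf (105, 25385043, true))) (.node 1 (.leaf (721, 19085399, false)) (.leaf (722, 10971209, true))))))
(.node 7 (.node 3 (.node 1 (.leaf (723, 13510735, false)) (.node 1 (.leaf (704, 10971209, false)) (.leaf (725, 25385043, true))))
(.node 2 (.node 1 (.leaf (726, 4808797, false)) (.leaf (717, 11495495, true))) (.node 1 (.leaf (728, 32131155, true)) (.leaf (729, 32131155, true)))))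
(.node 3 (.node 1 (.leaf (722, 19085399, true)) (.node 1 (.leaf (731, 11495495, true)) (.leaf (732, 13310023, true))))
(.node 2 (.node 1 (.leaf (112, 4808797, false)) (.leaf (734, 19085399, false))) (.node 1 (.leaf (735, 19085399, false)) (.leaf (112, 29904967, true)))))))))
(.node 53 (.node 26 (.node 13 (.node 6 (.node 3 (.node 1 (.leaf (737, 17059919, true)) (.node 1 (.leaf (738, 17059919, true)) (.leaf (116, 29904967, false)))) (.node 1 (.leaf (112, 31801425, true)) (.node 1 (.leaf (741, 4808797, false)) (.leaf (116, 17043521, false)))))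
(.node 3 (.node 1 (.leaf (743, 25385043, true)) (.node 1 (.leaf (744, 4808797, false)) (.leaf (742, 11495495, true))))
(.node 2 (.node 1 (.leaf (746, 13510735, false)) (.leaf (737, 29904967, false))) (.node 1 (.leaf (748, 17059919, true)) (.leaf (749, 17043521, false))))))
(.node 6 (.node 3 (.node 1 (.leaf (737, 13510735, false)) (.node 1 (.leaf (751, 17043521, true)) (.leaf (752, 17043521, false)))) (.node 1 (.leaf (116, 4808797, false)) (.node 1 (.leaf (754, 25385043, true)) (.leaf (755, 4808797, true)))))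
(.node 3 (.node 1 (.leaf (756, 19085399, true)) (.node 1 (.leaf (740, 19085399, true)) (.leaf (758, 10971209, true))))
(.node 2 (.node 1 (.leaf (759, 32131155, true)) (.leaf (113, 27529303, false))) (.node 1 (.leaf (761, 19085399, false)) (.leaf (762, 19085399, false)))))))
(.node 13 (.node 6 (.node 3 (.node 1 (.leaf (113, 19085399, false)) (.node 1 (.leaf (764, 19085399, false)) (.leaf (765, 19085399, false)))) (.node 1 (.leaf (114, 9056345, false)) (.node 1 (.leaf (767, 19085399, false)) (.leaf (768, 19085399, false)))))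
(.node 3 (.node 1 (.leaf (112, 11495495, true)) (.node 1 (.leaf (770, 17059919, true)) (.leaf (114, 29904967, true))))
(.node 2 (.node 1 (.leaf (772, 17059919, true)) (.leaf (773, 17059919, true))) (.node 1 (.leaf (772, 27529303, false)) (.leaf (775, 19085399, true))))))
(.node 7 (.node 3 (.node 1 (.leaf (776, 19085399, false)) (.node 1 (.leaf (112, 7292999, false)) (.leaf (778, 10971209, true))))
(.node 2 (.node 1 (.leaf (779, 13510735, false)) (.leaf (772, 13510735, false))) (.node 1 (.leaf (781, 17043521, true)) (.leaf (782, 17043521, false)))))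
(.node 3 (.node 1 (.leaf (775, 17059919, true)) (.node 1 (.leaf (784, 25385043, true)) (.leaf (785, 4544593, true))))
(.node 2 (.node 1 (.leaf (775, 11495495, true)) (.leaf (787, 13510735, true))) (.node 1 (.leaf (788, 10971209, true)) (.leaf (116, 27529303, false))))))))
(.node 26 (.node 13 (.node 6 (.node 3 (.node 1 (.leaf (790, 19085399, false)) (.node 1 (.leaf (791, 19085399, false)) (.leaf (116, 17059919, true)))) (.node 1 (.leaf (116, 4808797, true)) (.node 1 (.leaf (794, 4808797, false)) (.leaf (795, 11495495, true)))))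
(.node 3 (.node 1 (.leaf (796, 13510735, false)) (.node 1 (.leaf (217, 19085399, false)) (.leaf (798, 17059919, true))))
(.node 2 (.node 1 (.leaf (799, 17043521, false)) (.leaf (564, 25385043, true))) (.node 1 (.leaf (801, 4544593, true)) (.leaf (802, 13510735, true))))))
(.node 6 (.node 3 (.node 1 (.leaf (181, 4808797, false)) (.node 1 (.leaf (804, 17043521, true)) (.leaf (805, 11495495, true)))) (.node 1 (.leaf (806, 32131155, true)) (.node 1 (.leaf (126, 31801425, false)) (.leaf (808, 19085399, false)))))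
(.node 3 (.node 1 (.leaf (809, 19085399, false)) (.node 1 (.leaf (126, 32125001, true)) (.leaf (811, 17059919, true))))
(.node 2 (.node 1 (.leaf (812, 17059919, true)) (.leaf (145, 17043521, true))) (.node 1 (.leaf (814, 17059919, true)) (.leaf (811, 13510735, false)))))))
(.node 13 (.node 6 (.node 3 (.node 1 (.leaf (811, 29904967, false)) (.node 1 (.leaf (145, 19085399, false)) (.leaf (818, 11495495, true)))) (.node 1 (.leaf (819, 13510735, false)) (.node 1 (.leaf (126, 29904967, true)) (.leaf (821, 19085399, false)))))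
(.node 3 (.node 1 (.leaf (822, 10971209, true)) (.node 1 (.leaf (823, 13510735, false)) (.leaf (821, 27529303, false))))
(.node 2 (.node 1 (.leaf (825, 19085399, true)) (.leaf (826, 19085399, false))) (.node 1 (.leaf (822, 19085399, true)) (.leaf (828, 11495495, true))))))
(.node 7 (.node 3 (.node 1 (.leaf (829, 13310023, true)) (.node 1 (.leaf (816, 11495495, true)) (.leaf (831, 32131155, true))))
(.node 2 (.node 1 (.leaf (832, 32131155, true)) (.leaf (431, 19085399, false))) (.node 1 (.leaf (834, 19085399, false)) (.leaf (441, 25385043, true)))))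
(.node 3 (.node 1 (.leaf (836, 17059919, true)) (.node 1 (.leaf (148, 32125001, false)) (.leaf (431, 11495495, true))))
(.node 2 (.node 1 (.leaf (839, 13510735, false)) (.leaf (441, 23928925, false))) (.node 1 (.leaf (841, 10971209, true)) (.leaf (842, 13510735, false))))))))))

/-- The definitions. -/
def caseBFullDefsR : Tab (ℕ × ℕ × Bool) := .node 211 caseBFullDefsRL caseBFullDefsRR

/-- The definitions. -/
def caseBFullDefs : Tab (ℕ × ℕ × Bool) := .node 422 caseBFullDefsL caseBFullDefsR

/-- The relators. -/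
def caseBFullRels : List (List Let) :=
  [[.t false, .h 19140673, .t false, .h 19140673, .t false, .h 19140673, .h 17764417],
  [.t true, .h 17043525, .t true, .h 17043525, .t true, .h 17043525, .h 17633361],
  [.t true, .t false, .h 17698889, .t false, .h 16920641, .t true, .h 17133657],
  [.t true, .t false, .h 11155547, .t true, .h 11360321, .t false, .h 17528907],
  [.t true, .t false, .h 27947083, .t true, .h 25710677, .t false, .h 16986197],
  [.t true, .t false, .t true, .h 19341393, .t true, .h 17174597, .t true, .h 17459269]]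

/-- The enumeration. -/
def caseBFull : EnumD := ⟨844, caseBFullDefs, 3756, caseBFullFacts, caseBFullSrc, caseBFullRels⟩

/-- The origin of the relators. -/
def caseBFullFrom : List (Bool × ℕ) := [(true, 1), (true, 2), (true, 3), (false, 1)]

/-- The stabiliser. -/
def caseBFullN0Els : Tab ℕ :=
(.leaf 17043521)

/-- Its index. -/
def caseBFullN0Ix : BT ℕ :=
(.node 17043521 0 .tip .tip)

/-- The reasons. -/
def caseBFullN0How : Tab (ℕ × ℕ) :=
(.leaf (0, 0))

/-- The node. -/
def caseBFullN0Node : NodeD := ⟨0, 1, caseBFullN0Els, caseBFullN0Ix, caseBFullN0How, fun b => bif b then (.node 7 (.node 3 (.node 1 (.leaf 40) (.node 1 (.leaf 37) (.leaf 35)))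
(.node 2 (.node 1 (.leaf 38) (.leaf 44)) (.node 1 (.leaf 34) (.leaf 32))))
(.node 3 (.node 1 (.leaf 42) (.node 1 (.leaf 39) (.leaf 36)))
(.node 2 (.node 1 (.leaf 33) (.leaf 43)) (.node 1 (.leaf 41) (.leaf 30))))) else (.node 7 (.node 3 (.node 1 (.leaf 5) (.node 1 (.leaf 11) (.leaf 15)))
(.node 2 (.node 1 (.leaf 9) (.leaf 4)) (.node 1 (.leaf 10) (.leaf 7))))
(.node 3 (.node 1 (.leaf 13) (.node 1 (.leaf 14) (.leaf 8)))
(.node 2 (.node 1 (.leaf 2) (.leaf 16)) (.node 1 (.leaf 12) (.leaf 6)))))⟩

/-- The stabiliser. -/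
def caseBFullN1ElsLL : Tab ℕ :=
(.node 192 (.node 96 (.node 48 (.node 24 (.node 12 (.node 6 (.node 3 (.node 1 (.leaf 17043521) (.node 1 (.leaf 16998489) (.leaf 17240153))) (.node 1 (.leaf 17068101) (.node 1 (.leaf 17651791) (.leaf 17719375))))
(.node 3 (.node 1 (.leaf 16988225) (.node 1 (.leaf 17004615) (.leaf 17043527))) (.node 1 (.leaf 17262685) (.node 1 (.leaf 17784925) (.leaf 17526877)))))
(.node 6 (.node 3 (.node 1 (.leaf 17043545) (.node 1 (.leaf 17442885) (.leaf 17258565))) (.node 1 (.leaf 17657945) (.node 1 (.leaf 17641539) (.leaf 16998467))))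
(.node 3 (.node 1 (.leaf 17715287) (.node 1 (.leaf 17193047) (.leaf 17119319))) (.node 1 (.leaf 16998479) (.node 1 (.leaf 17717329) (.leaf 17659985))))))
(.node 12 (.node 6 (.node 3 (.node 1 (.leaf 16982105) (.node 1 (.leaf 16998495) (.leaf 17240159))) (.node 1 (.leaf 17068099) (.node 1 (.leaf 17594435) (.leaf 17524803))))
(.node 3 (.node 1 (.leaf 17240135) (.node 1 (.leaf 17643603) (.leaf 16932947))) (.node 1 (.leaf 17782853) (.node 1 (.leaf 17766491) (.leaf 17068123)))))
(.node 6 (.node 3 (.node 1 (.leaf 17524801) (.node 1 (.leaf 16998465) (.leaf 17240129))) (.node 1 (.leaf 17068125) (.node 1 (.leaf 17705025) (.leaf 17446991))))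
(.node 3 (.node 1 (.leaf 17463387) (.node 1 (.leaf 17651803) (.leaf 17244243))) (.node 1 (.leaf 17770579) (.node 1 (.leaf 16937043) (.leaf 17651781)))))))
(.node 24 (.node 12 (.node 6 (.node 3 (.node 1 (.leaf 17246281) (.node 1 (.leaf 17444937) (.leaf 17635407))) (.node 1 (.leaf 17651797) (.node 1 (.leaf 17719381) (.leaf 16988251))))
(.node 3 (.node 1 (.leaf 17510491) (.node 1 (.leaf 17125467) (.leaf 17719363))) (.node 1 (.leaf 17461323) (.node 1 (.leaf 17586251) (.leaf 17180737)))))
(.node 6 (.node 3 (.node 1 (.leaf 17197133) (.node 1 (.leaf 16988237) (.leaf 17125465))) (.node 1 (.leaf 17651801) (.node 1 (.leaf 17719385) (.leaf 16988247))))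
(.node 3 (.node 1 (.leaf 17444957) (.node 1 (.leaf 17061981) (.leaf 17721415))) (.node 1 (.leaf 17705051) (.node 1 (.leaf 17004635) (.leaf 17649743))))))
(.node 12 (.node 6 (.node 3 (.node 1 (.leaf 17127503) (.node 1 (.leaf 17178703) (.leaf 17004625))) (.node 1 (.leaf 17651785) (.node 1 (.leaf 17719369) (.leaf 16988231))))
(.node 3 (.node 1 (.leaf 17004609) (.node 1 (.leaf 17262683) (.leaf 17784923))) (.node 1 (.leaf 17526875) (.node 1 (.leaf 17043551) (.leaf 17702987)))))
(.node 6 (.node 3 (.node 1 (.leaf 16939083) (.node 1 (.leaf 17586269) (.leaf 17569861))) (.node 1 (.leaf 17262661) (.node 1 (.leaf 17526873) (.leaf 17004633))))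
(.node 3 (.node 1 (.leaf 17262659) (.node 1 (.leaf 17180761) (.leaf 17512537))) (.node 1 (.leaf 17633373) (.node 1 (.leaf 17649735) (.leaf 17784903))))))))
(.node 48 (.node 24 (.node 12 (.node 6 (.node 3 (.node 1 (.leaf 16920651) (.node 1 (.leaf 17446987) (.leaf 17127499))) (.node 1 (.leaf 17784915) (.node 1 (.leaf 16922709) (.leaf 17635413))))
(.node 3 (.node 1 (.leaf 17768541) (.node 1 (.leaf 17784899) (.leaf 17526851))) (.node 1 (.leaf 17569863) (.node 1 (.leaf 17262663) (.leaf 17651799)))))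
(.node 6 (.node 3 (.node 1 (.leaf 17719383) (.node 1 (.leaf 16988249) (.leaf 17004639))) (.node 1 (.leaf 17784901) (.node 1 (.leaf 17526853) (.leaf 17051725))))
(.node 3 (.node 1 (.leaf 17442893) (.node 1 (.leaf 17700939) (.leaf 17174603))) (.node 1 (.leaf 17578059) (.node 1 (.leaf 17442881) (.leaf 17698911))))))
(.node 12 (.node 6 (.node 3 (.node 1 (.leaf 17070175) (.node 1 (.leaf 17459269) (.leaf 17442897))) (.node 1 (.leaf 17258577) (.node 1 (.leaf 17657933) (.leaf 17135693))))
(.node 3 (.node 1 (.leaf 16916557) (.node 1 (.leaf 17258587) (.leaf 17053789))) (.node 1 (.leaf 17508445) (.node 1 (.leaf 17764441) (.leaf 17780807)))))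
(.node 6 (.node 3 (.node 1 (.leaf 17657927) (.node 1 (.leaf 16916559) (.leaf 17442895))) (.node 1 (.leaf 17258575) (.node 1 (.leaf 17657939) (.leaf 17070167))))
(.node 3 (.node 1 (.leaf 16984151) (.node 1 (.leaf 17256515) (.leaf 17240141))) (.node 1 (.leaf 17641549) (.node 1 (.leaf 17440837) (.leaf 16918597)))))))
(.node 24 (.node 12 (.node 6 (.node 3 (.node 1 (.leaf 17766469) (.node 1 (.leaf 17641545) (.leaf 17442911))) (.node 1 (.leaf 17258591) (.node 1 (.leaf 17657923) (.leaf 17641561))))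
(.node 3 (.node 1 (.leaf 17715277) (.node 1 (.leaf 17193037) (.leaf 17119309))) (.node 1 (.leaf 16998485) (.node 1 (.leaf 17242205) (.leaf 17576029)))))
(.node 6 (.node 3 (.node 1 (.leaf 17508439) (.node 1 (.leaf 17715265) (.leaf 17119311))) (.node 1 (.leaf 17641551) (.node 1 (.leaf 17715291) (.leaf 17764431))))
(.node 3 (.node 1 (.leaf 17133647) (.node 1 (.leaf 17457239) (.leaf 17440835))) (.node 1 (.leaf 17193027) (.node 1 (.leaf 17594461) (.leaf 16918621))))))
(.node 12 (.node 6 (.node 3 (.node 1 (.leaf 17193035) (.node 1 (.leaf 17592401) (.leaf 17459281))) (.node 1 (.leaf 17176663) (.node 1 (.leaf 17193051) (.leaf 17119323))))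
(.node 3 (.node 1 (.leaf 17715267) (.node 1 (.leaf 17442899) (.leaf 17258579))) (.node 1 (.leaf 17657935) (.node 1 (.leaf 17641557) (.leaf 17193025)))))
(.node 6 (.node 3 (.node 1 (.leaf 17119297) (.node 1 (.leaf 17440849) (.leaf 17457221))) (.node 1 (.leaf 17717317) (.node 1 (.leaf 17053771) (.leaf 17576011))))
(.node 3 (.node 1 (.leaf 16934987) (.node 1 (.leaf 17717341) (.leaf 17051735))) (.node 1 (.leaf 17442903) (.node 1 (.leaf 17700945) (.leaf 17717325)))))))))
(.node 96 (.node 48 (.node 24 (.node 12 (.node 6 (.node 3 (.node 1 (.leaf 17659981) (.node 1 (.leaf 16982085) (.leaf 17508421))) (.node 1 (.leaf 17190981) (.node 1 (.leaf 17659995) (.leaf 17459285))))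
(.node 3 (.node 1 (.leaf 17782869) (.node 1 (.leaf 17117273) (.leaf 17133651))) (.node 1 (.leaf 16982099) (.node 1 (.leaf 17190983) (.leaf 17717319)))))
(.node 6 (.node 3 (.node 1 (.leaf 17659975) (.node 1 (.leaf 16982095) (.leaf 17442883))) (.node 1 (.leaf 17258563) (.node 1 (.leaf 17657951) (.leaf 17641541))))
(.node 3 (.node 1 (.leaf 16998469) (.node 1 (.leaf 17715281) (.leaf 17193041))) (.node 1 (.leaf 17119313) (.node 1 (.leaf 16998473) (.leaf 17717335))))))
(.node 12 (.node 6 (.node 3 (.node 1 (.leaf 17659991) (.node 1 (.leaf 16982111) (.leaf 17594437))) (.node 1 (.leaf 17524805) (.node 1 (.leaf 17643605) (.leaf 16932949))))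
(.node 3 (.node 1 (.leaf 17782851) (.node 1 (.leaf 17766493) (.leaf 17524807))) (.node 1 (.leaf 16998471) (.node 1 (.leaf 17117255) (.leaf 17506375)))))
(.node 6 (.node 3 (.node 1 (.leaf 17698883) (.node 1 (.leaf 17715295) (.leaf 17594463))) (.node 1 (.leaf 16918613) (.node 1 (.leaf 17440853) (.leaf 17193045))))
(.node 3 (.node 1 (.leaf 17594443) (.node 1 (.leaf 17700941) (.leaf 17578051))) (.node 1 (.leaf 17594459) (.node 1 (.leaf 17524827) (.leaf 17766495)))))))
(.node 24 (.node 12 (.node 6 (.node 3 (.node 1 (.leaf 17068127) (.node 1 (.leaf 17717327) (.leaf 17659983))) (.node 1 (.leaf 16982087) (.node 1 (.leaf 17524829) (.leaf 17193043))))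
(.node 3 (.node 1 (.leaf 17176671) (.node 1 (.leaf 17643615) (.leaf 17506391))) (.node 1 (.leaf 17698903) (.node 1 (.leaf 17643609) (.leaf 17508429)))))
(.node 6 (.node 3 (.node 1 (.leaf 17190989) (.node 1 (.leaf 17659987) (.leaf 17643593))) (.node 1 (.leaf 16932937) (.node 1 (.leaf 17782879) (.leaf 17256543))))
(.node 3 (.node 1 (.leaf 17117279) (.node 1 (.leaf 16932935) (.leaf 17174607))) (.node 1 (.leaf 17578063) (.node 1 (.leaf 17782865) (.leaf 17117277))))))
(.node 12 (.node 6 (.node 3 (.node 1 (.leaf 17643613) (.node 1 (.leaf 16932957) (.leaf 17782859))) (.node 1 (.leaf 17190977) (.node 1 (.leaf 17053761) (.leaf 16935003))))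
(.node 3 (.node 1 (.leaf 16918623) (.node 1 (.leaf 17641555) (.leaf 17119315))) (.node 1 (.leaf 17440851) (.node 1 (.leaf 17766485) (.leaf 17643597)))))
(.node 6 (.node 3 (.node 1 (.leaf 16932941) (.node 1 (.leaf 17782875) (.leaf 17524831))) (.node 1 (.leaf 17700943) (.node 1 (.leaf 17578049) (.leaf 17594457))))
(.node 3 (.node 1 (.leaf 17524825) (.node 1 (.leaf 17240157) (.leaf 17442909))) (.node 1 (.leaf 17258589) (.node 1 (.leaf 17657921) (.leaf 17641563))))))))
(.node 48 (.node 24 (.node 12 (.node 6 (.node 3 (.node 1 (.leaf 16998491) (.node 1 (.leaf 17715279) (.leaf 17193039))) (.node 1 (.leaf 16998487) (.node 1 (.leaf 17717321) (.leaf 17659977))))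
(.node 3 (.node 1 (.leaf 16982081) (.node 1 (.leaf 17643595) (.leaf 16932939))) (.node 1 (.leaf 17782877) (.node 1 (.leaf 17766467) (.leaf 17260629)))))
(.node 6 (.node 3 (.node 1 (.leaf 16986197) (.node 1 (.leaf 17059905) (.leaf 17043529))) (.node 1 (.leaf 17705033) (.node 1 (.leaf 17446983) (.leaf 16920647))))
(.node 3 (.node 1 (.leaf 17705037) (.node 1 (.leaf 17002583) (.leaf 17109079))) (.node 1 (.leaf 17195087) (.node 1 (.leaf 17178691) (.leaf 17446979))))))
(.node 12 (.node 6 (.node 3 (.node 1 (.leaf 17043525) (.node 1 (.leaf 17705029) (.leaf 16986195))) (.node 1 (.leaf 17633363) (.node 1 (.leaf 17703003) (.leaf 17719367))))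
(.node 3 (.node 1 (.leaf 17463367) (.node 1 (.leaf 17045569) (.leaf 17567809))) (.node 1 (.leaf 17197121) (.node 1 (.leaf 17463391) (.leaf 17043541)))))
(.node 6 (.node 3 (.node 1 (.leaf 17705045) (.node 1 (.leaf 17447003) (.leaf 17463375))) (.node 1 (.leaf 17244231) (.node 1 (.leaf 17770567) (.leaf 16937031))))
(.node 3 (.node 1 (.leaf 17651793) (.node 1 (.leaf 17721431) (.leaf 17528919))) (.node 1 (.leaf 17109075) (.node 1 (.leaf 17244249) (.leaf 16937029)))))))
(.node 24 (.node 12 (.node 6 (.node 3 (.node 1 (.leaf 17463365) (.node 1 (.leaf 17244237) (.leaf 17195077))) (.node 1 (.leaf 16922693) (.node 1 (.leaf 17061971) (.leaf 17045595))))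
(.node 3 (.node 1 (.leaf 17770587) (.node 1 (.leaf 17510487) (.leaf 17567831))) (.node 1 (.leaf 17770589) (.node 1 (.leaf 17512521) (.leaf 17059913)))))
(.node 6 (.node 3 (.node 1 (.leaf 17786963) (.node 1 (.leaf 17770573) (.leaf 16937037))) (.node 1 (.leaf 17244251) (.node 1 (.leaf 17043531) (.leaf 17705035))))
(.node 3 (.node 1 (.leaf 17446981) (.node 1 (.leaf 17463377) (.leaf 17770585))) (.node 1 (.leaf 16937049) (.node 1 (.leaf 17045577) (.leaf 17061953))))))
(.node 12 (.node 6 (.node 3 (.node 1 (.leaf 17246273) (.node 1 (.leaf 17002589) (.leaf 17528925))) (.node 1 (.leaf 17584221) (.node 1 (.leaf 17246295) (.leaf 17004627))))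
(.node 3 (.node 1 (.leaf 17043539) (.node 1 (.leaf 17262665) (.leaf 17246279))) (.node 1 (.leaf 17444935) (.node 1 (.leaf 17635393) (.leaf 17109057)))))
(.node 6 (.node 3 (.node 1 (.leaf 17768513) (.node 1 (.leaf 17444941) (.leaf 17059921))) (.node 1 (.leaf 17180753) (.node 1 (.leaf 16939087) (.leaf 16922699))))
(.node 3 (.node 1 (.leaf 17635403) (.node 1 (.leaf 17768515) (.leaf 17246275))) (.node 1 (.leaf 17444931) (.node 1 (.leaf 17635397) (.leaf 17043547))))))))))

/-- The stabiliser. -/
def caseBFullN1ElsLR : Tab ℕ :=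
(.node 192 (.node 96 (.node 48 (.node 24 (.node 12 (.node 6 (.node 3 (.node 1 (.leaf 17446997) (.node 1 (.leaf 17463361) (.leaf 17651777))) (.node 1 (.leaf 17244233) (.node 1 (.leaf 17770569) (.leaf 16937033))))
(.node 3 (.node 1 (.leaf 17651807) (.node 1 (.leaf 17246291) (.leaf 17444947))) (.node 1 (.leaf 17510465) (.node 1 (.leaf 17125441) (.leaf 17461329)))))
(.node 6 (.node 3 (.node 1 (.leaf 17586257) (.node 1 (.leaf 17180763) (.leaf 17197143))) (.node 1 (.leaf 17125443) (.node 1 (.leaf 17651779) (.leaf 16939075))))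
(.node 3 (.node 1 (.leaf 17111107) (.node 1 (.leaf 17260635) (.leaf 17244245))) (.node 1 (.leaf 17510485) (.node 1 (.leaf 17567825) (.leaf 17045585))))))
(.node 12 (.node 6 (.node 3 (.node 1 (.leaf 17770577) (.node 1 (.leaf 17510493) (.leaf 17510477))) (.node 1 (.leaf 17125453) (.node 1 (.leaf 17197141) (.leaf 16988245))))
(.node 3 (.node 1 (.leaf 17246277) (.node 1 (.leaf 17444933) (.leaf 17635395))) (.node 1 (.leaf 17125463) (.node 1 (.leaf 17770571) (.leaf 17786965)))))
(.node 6 (.node 3 (.node 1 (.leaf 17461333) (.node 1 (.leaf 17111123) (.leaf 17260627))) (.node 1 (.leaf 17461327) (.node 1 (.leaf 17109063) (.leaf 17768519))))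
(.node 3 (.node 1 (.leaf 17444939) (.node 1 (.leaf 17461343) (.leaf 17586271))) (.node 1 (.leaf 17180757) (.node 1 (.leaf 17702997) (.leaf 16939093)))))))
(.node 24 (.node 12 (.node 6 (.node 3 (.node 1 (.leaf 17586243) (.node 1 (.leaf 17180745) (.leaf 16939095))) (.node 1 (.leaf 17461335) (.node 1 (.leaf 17586263) (.leaf 17180765))))
(.node 3 (.node 1 (.leaf 17768537) (.node 1 (.leaf 17002585) (.leaf 17584205))) (.node 1 (.leaf 17567829) (.node 1 (.leaf 17463371) (.leaf 16937035)))))
(.node 6 (.node 3 (.node 1 (.leaf 17045579) (.node 1 (.leaf 17197137) (.leaf 17461319))) (.node 1 (.leaf 17586247) (.node 1 (.leaf 17180749) (.leaf 17125461))))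
(.node 3 (.node 1 (.leaf 17510479) (.node 1 (.leaf 17125455) (.leaf 17043543))) (.node 1 (.leaf 17705047) (.node 1 (.leaf 17447001) (.leaf 17463373))))))
(.node 12 (.node 6 (.node 3 (.node 1 (.leaf 17651789) (.node 1 (.leaf 17244229) (.leaf 17770565))) (.node 1 (.leaf 17651795) (.node 1 (.leaf 17246303) (.leaf 17444959))))
(.node 3 (.node 1 (.leaf 17635417) (.node 1 (.leaf 17461341) (.leaf 17180759))) (.node 1 (.leaf 17197147) (.node 1 (.leaf 17109077) (.leaf 17768533)))))
(.node 6 (.node 3 (.node 1 (.leaf 17444953) (.node 1 (.leaf 17633345) (.leaf 17260609))) (.node 1 (.leaf 17061961) (.node 1 (.leaf 17721427) (.leaf 17195091))))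
(.node 3 (.node 1 (.leaf 16922707) (.node 1 (.leaf 17061957) (.leaf 17244227))) (.node 1 (.leaf 17510467) (.node 1 (.leaf 17567815) (.leaf 17584223))))))))
(.node 48 (.node 24 (.node 12 (.node 6 (.node 3 (.node 1 (.leaf 17721439) (.node 1 (.leaf 16922705) (.leaf 17444945))) (.node 1 (.leaf 17061969) (.node 1 (.leaf 17721419) (.leaf 17260623))))
(.node 3 (.node 1 (.leaf 16986191) (.node 1 (.leaf 17059931) (.leaf 17705043))) (.node 1 (.leaf 17447005) (.node 1 (.leaf 16920669) (.leaf 17569885)))))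
(.node 6 (.node 3 (.node 1 (.leaf 17444929) (.node 1 (.leaf 17721435) (.leaf 17705031))) (.node 1 (.leaf 17649747) (.node 1 (.leaf 17127507) (.leaf 17178707))))
(.node 3 (.node 1 (.leaf 17004621) (.node 1 (.leaf 17045571) (.leaf 17770563))) (.node 1 (.leaf 17649753) (.node 1 (.leaf 17178705) (.leaf 17705041))))))
(.node 12 (.node 6 (.node 3 (.node 1 (.leaf 17649733) (.node 1 (.leaf 17127515) (.leaf 16920643))) (.node 1 (.leaf 17127509) (.node 1 (.leaf 17786953) (.leaf 17461321))))
(.node 3 (.node 1 (.leaf 17111119) (.node 1 (.leaf 17127493) (.leaf 17178693))) (.node 1 (.leaf 17649755) (.node 1 (.leaf 17061963) (.leaf 17721425)))))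
(.node 6 (.node 3 (.node 1 (.leaf 17127513) (.node 1 (.leaf 17178713) (.leaf 17446985))) (.node 1 (.leaf 17463389) (.node 1 (.leaf 17651805) (.leaf 17770581))))
(.node 3 (.node 1 (.leaf 16937045) (.node 1 (.leaf 17246287) (.leaf 17444943))) (.node 1 (.leaf 17635401) (.node 1 (.leaf 17719379) (.leaf 16988253)))))))
(.node 24 (.node 12 (.node 6 (.node 3 (.node 1 (.leaf 17125469) (.node 1 (.leaf 17719365) (.leaf 17461325))) (.node 1 (.leaf 17586253) (.node 1 (.leaf 17180743) (.leaf 17197131))))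
(.node 3 (.node 1 (.leaf 16988235) (.node 1 (.leaf 17125471) (.leaf 17719391))) (.node 1 (.leaf 16988241) (.node 1 (.leaf 17444955) (.leaf 17061979)))))
(.node 6 (.node 3 (.node 1 (.leaf 17721409) (.node 1 (.leaf 17705053) (.leaf 17004637))) (.node 1 (.leaf 17649737) (.node 1 (.leaf 17127497) (.leaf 17178697))))
(.node 3 (.node 1 (.leaf 17004631) (.node 1 (.leaf 17702989) (.leaf 16939085))) (.node 1 (.leaf 17586267) (.node 1 (.leaf 17569859) (.leaf 17526879))))))
(.node 12 (.node 6 (.node 3 (.node 1 (.leaf 17180767) (.node 1 (.leaf 17512543) (.leaf 17633371))) (.node 1 (.leaf 17649729) (.node 1 (.leaf 17784897) (.leaf 16920653))))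
(.node 3 (.node 1 (.leaf 17446989) (.node 1 (.leaf 17127501) (.leaf 17784917))) (.node 1 (.leaf 17635411) (.node 1 (.leaf 17768539) (.leaf 17569857)))))
(.node 6 (.node 3 (.node 1 (.leaf 17262657) (.node 1 (.leaf 17719377) (.leaf 16988255))) (.node 1 (.leaf 17111105) (.node 1 (.leaf 17702977) (.leaf 17512527))))
(.node 3 (.node 1 (.leaf 17633359) (.node 1 (.leaf 17702983) (.leaf 17510483))) (.node 1 (.leaf 17125459) (.node 1 (.leaf 17719371) (.leaf 17702999)))))))))
(.node 96 (.node 48 (.node 24 (.node 12 (.node 6 (.node 3 (.node 1 (.leaf 17586241) (.node 1 (.leaf 16939103) (.leaf 17109073))) (.node 1 (.leaf 17768529) (.node 1 (.leaf 17586249) (.leaf 17180739))))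
(.node 3 (.node 1 (.leaf 17702979) (.node 1 (.leaf 17586261) (.leaf 16920641))) (.node 1 (.leaf 17178699) (.node 1 (.leaf 17569869) (.leaf 17702995)))))
(.node 6 (.node 3 (.node 1 (.leaf 16939091) (.node 1 (.leaf 17586245) (.leaf 17526849))) (.node 1 (.leaf 17635409) (.node 1 (.leaf 17526855) (.leaf 17043523))))
(.node 3 (.node 1 (.leaf 17061955) (.node 1 (.leaf 17721433) (.leaf 17004613))) (.node 1 (.leaf 17649745) (.node 1 (.leaf 17127505) (.leaf 17004623))))))
(.node 12 (.node 6 (.node 3 (.node 1 (.leaf 17569883) (.node 1 (.leaf 17586255) (.leaf 17180741))) (.node 1 (.leaf 16937027) (.node 1 (.leaf 17197145) (.leaf 17512533))))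
(.node 3 (.node 1 (.leaf 17633361) (.node 1 (.leaf 17111121) (.leaf 17702993))) (.node 1 (.leaf 16986203) (.node 1 (.leaf 17180755) (.leaf 17512531)))))
(.node 6 (.node 3 (.node 1 (.leaf 17633367) (.node 1 (.leaf 17510471) (.leaf 17526865))) (.node 1 (.leaf 17705049) (.node 1 (.leaf 17649741) (.leaf 17512515))))
(.node 3 (.node 1 (.leaf 17633351) (.node 1 (.leaf 17649757) (.leaf 16920657))) (.node 1 (.leaf 17446993) (.node 1 (.leaf 17784905) (.leaf 17528897)))))))
(.node 24 (.node 12 (.node 6 (.node 3 (.node 1 (.leaf 17584193) (.node 1 (.leaf 17246283) (.leaf 16920645))) (.node 1 (.leaf 16920671) (.node 1 (.leaf 17002579) (.leaf 17195083))))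
(.node 3 (.node 1 (.leaf 17178695) (.node 1 (.leaf 17447007) (.leaf 17127519))) (.node 1 (.leaf 17512535) (.node 1 (.leaf 17178709) (.leaf 17195097)))))
(.node 6 (.node 3 (.node 1 (.leaf 16922713) (.node 1 (.leaf 17061967) (.leaf 17584207))) (.node 1 (.leaf 17721423) (.node 1 (.leaf 16922689) (.leaf 17059915))))
(.node 3 (.node 1 (.leaf 17180747) (.node 1 (.leaf 17246297) (.leaf 17635423))) (.node 1 (.leaf 17197129) (.node 1 (.leaf 16988233) (.leaf 17768535))))))
(.node 12 (.node 6 (.node 3 (.node 1 (.leaf 16922715) (.node 1 (.leaf 17635419) (.leaf 17768531))) (.node 1 (.leaf 17512519) (.node 1 (.leaf 17633347) (.leaf 17784921))))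
(.node 3 (.node 1 (.leaf 16920661) (.node 1 (.leaf 17784909) (.leaf 17569881))) (.node 1 (.leaf 17262681) (.node 1 (.leaf 17569871) (.leaf 16939089)))))
(.node 6 (.node 3 (.node 1 (.leaf 17569887) (.node 1 (.leaf 17262687) (.leaf 17004611))) (.node 1 (.leaf 17446999) (.node 1 (.leaf 17463363) (.leaf 17244235))))
(.node 3 (.node 1 (.leaf 17246289) (.node 1 (.leaf 17635415) (.leaf 17719373))) (.node 1 (.leaf 16988227) (.node 1 (.leaf 17719387) (.leaf 17461331))))))))
(.node 48 (.node 24 (.node 12 (.node 6 (.node 3 (.node 1 (.leaf 17586259) (.node 1 (.leaf 17719361) (.leaf 16988239))) (.node 1 (.leaf 17705027) (.node 1 (.leaf 17649751) (.leaf 17127511))))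
(.node 3 (.node 1 (.leaf 17178711) (.node 1 (.leaf 17004617) (.leaf 17512513))) (.node 1 (.leaf 17633349) (.node 1 (.leaf 17649759) (.leaf 17784927)))))
(.node 6 (.node 3 (.node 1 (.leaf 16920659) (.node 1 (.leaf 17446995) (.leaf 17784907))) (.node 1 (.leaf 16922701) (.node 1 (.leaf 17635405) (.leaf 17768517))))
(.node 3 (.node 1 (.leaf 17659979) (.node 1 (.leaf 17457227) (.leaf 17242189))) (.node 1 (.leaf 17051715) (.node 1 (.leaf 17000537) (.leaf 17522777))))))
(.node 12 (.node 6 (.node 3 (.node 1 (.leaf 17780825) (.node 1 (.leaf 17051733) (.leaf 16998481))) (.node 1 (.leaf 17240145) (.node 1 (.leaf 17068109) (.leaf 17051717))))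
(.node 3 (.node 1 (.leaf 17700931) (.node 1 (.leaf 17174595) (.leaf 17442889))) (.node 1 (.leaf 17256531) (.node 1 (.leaf 17117267) (.leaf 17051713)))))
(.node 6 (.node 3 (.node 1 (.leaf 17700935) (.node 1 (.leaf 17782849) (.leaf 17592385))) (.node 1 (.leaf 16984139) (.node 1 (.leaf 17000525) (.leaf 17174605))))
(.node 3 (.node 1 (.leaf 17135699) (.node 1 (.leaf 17522771) (.leaf 17174615))) (.node 1 (.leaf 17133663) (.node 1 (.leaf 17190987) (.leaf 17174599)))))))
(.node 24 (.node 12 (.node 6 (.node 3 (.node 1 (.leaf 17578055) (.node 1 (.leaf 16998493) (.leaf 17068097))) (.node 1 (.leaf 17051721) (.node 1 (.leaf 17000543) (.leaf 16984153))))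
(.node 3 (.node 1 (.leaf 17698905) (.node 1 (.leaf 17643607) (.leaf 17117271))) (.node 1 (.leaf 17698899) (.node 1 (.leaf 17641547) (.leaf 16998475)))))
(.node 6 (.node 3 (.node 1 (.leaf 17070147) (.node 1 (.leaf 17459289) (.leaf 16932953))) (.node 1 (.leaf 17176665) (.node 1 (.leaf 17070151) (.leaf 16982089))))
(.node 3 (.node 1 (.leaf 17764425) (.node 1 (.leaf 17576005) (.leaf 17592413))) (.node 1 (.leaf 17459293) (.node 1 (.leaf 17176667) (.leaf 17698907))))))
(.node 12 (.node 6 (.node 3 (.node 1 (.leaf 17070171) (.node 1 (.leaf 17459265) (.leaf 16998477))) (.node 1 (.leaf 17068113) (.node 1 (.leaf 17051737) (.leaf 17442905))))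
(.node 3 (.node 1 (.leaf 17700959) (.node 1 (.leaf 17174623) (.leaf 17578079))) (.node 1 (.leaf 17442901) (.node 1 (.leaf 17698891) (.leaf 17070155)))))
(.node 6 (.node 3 (.node 1 (.leaf 17135705) (.node 1 (.leaf 16916569) (.leaf 17053769))) (.node 1 (.leaf 17508425) (.node 1 (.leaf 17764429) (.leaf 17780819))))
(.node 3 (.node 1 (.leaf 16916571) (.node 1 (.leaf 17442907) (.leaf 17576027))) (.node 1 (.leaf 17135697) (.node 1 (.leaf 17522761) (.leaf 17000521))))))))))

/-- The stabiliser. -/
def caseBFullN1ElsL : Tab ℕ := .node 384 caseBFullN1ElsLL caseBFullN1ElsLR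

/-- The stabiliser. -/
def caseBFullN1ElsRL : Tab ℕ :=
(.node 192 (.node 96 (.node 48 (.node 24 (.node 12 (.node 6 (.node 3 (.node 1 (.leaf 17174601) (.node 1 (.leaf 17135703) (.leaf 17135687))) (.node 1 (.leaf 16916551) (.node 1 (.leaf 17780817) (.leaf 17657937))))
(.node 3 (.node 1 (.leaf 17698881) (.node 1 (.leaf 17070145) (.leaf 17459291))) (.node 1 (.leaf 16916563) (.node 1 (.leaf 17174621) (.leaf 17190993)))))
(.node 6 (.node 3 (.node 1 (.leaf 17053777) (.node 1 (.leaf 17717323) (.leaf 17053765))) (.node 1 (.leaf 16932931) (.node 1 (.leaf 17176643) (.leaf 17070173))))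
(.node 3 (.node 1 (.leaf 17053781) (.node 1 (.leaf 17508437) (.leaf 17764433))) (.node 1 (.leaf 17242193) (.node 1 (.leaf 17576017) (.leaf 17508443))))))
(.node 12 (.node 6 (.node 3 (.node 1 (.leaf 17764447) (.node 1 (.leaf 17576019) (.leaf 17053779))) (.node 1 (.leaf 17508435) (.node 1 (.leaf 17764439) (.leaf 17176655))))
(.node 3 (.node 1 (.leaf 17643599) (.node 1 (.leaf 17522769) (.leaf 17051741))) (.node 1 (.leaf 17578077) (.node 1 (.leaf 17000541) (.leaf 17780809)))))
(.node 6 (.node 3 (.node 1 (.leaf 17053763) (.node 1 (.leaf 17508419) (.leaf 17764423))) (.node 1 (.leaf 16916561) (.node 1 (.leaf 17135685) (.leaf 16916549))))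
(.node 3 (.node 1 (.leaf 16998483) (.node 1 (.leaf 17240147) (.leaf 17068111))) (.node 1 (.leaf 17051719) (.node 1 (.leaf 17442887) (.leaf 17700929)))))))
(.node 24 (.node 12 (.node 6 (.node 3 (.node 1 (.leaf 17174593) (.node 1 (.leaf 17442891) (.leaf 17698901))) (.node 1 (.leaf 17070165) (.node 1 (.leaf 17459279) (.leaf 17053783))))
(.node 3 (.node 1 (.leaf 17764435) (.node 1 (.leaf 17780813) (.leaf 16932945))) (.node 1 (.leaf 17176657) (.node 1 (.leaf 17070159) (.leaf 17457241)))))
(.node 6 (.node 3 (.node 1 (.leaf 17717337) (.node 1 (.leaf 16984159) (.leaf 17256523))) (.node 1 (.leaf 17592395) (.node 1 (.leaf 16984129) (.leaf 17700955))))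
(.node 3 (.node 1 (.leaf 17135707) (.node 1 (.leaf 17522755) (.leaf 17506389))) (.node 1 (.leaf 17256533) (.node 1 (.leaf 17592393) (.leaf 17070153))))))
(.node 12 (.node 6 (.node 3 (.node 1 (.leaf 16984137) (.node 1 (.leaf 17256541) (.leaf 17659973))) (.node 1 (.leaf 16982093) (.node 1 (.leaf 17240139) (.leaf 17068119))))
(.node 3 (.node 1 (.leaf 17594455) (.node 1 (.leaf 17524823) (.leaf 17070169))) (.node 1 (.leaf 17256525) (.node 1 (.leaf 17240131) (.leaf 17440843)))))
(.node 6 (.node 3 (.node 1 (.leaf 16918603) (.node 1 (.leaf 17766475) (.leaf 17641543))) (.node 1 (.leaf 17000539) (.node 1 (.leaf 17174619) (.leaf 17440847))))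
(.node 3 (.node 1 (.leaf 17766473) (.node 1 (.leaf 17240137) (.leaf 17440833))) (.node 1 (.leaf 16918605) (.node 1 (.leaf 16918609) (.leaf 17191007))))))))
(.node 48 (.node 24 (.node 12 (.node 6 (.node 3 (.node 1 (.leaf 17053791) (.node 1 (.leaf 16934981) (.leaf 16918593))) (.node 1 (.leaf 17766465) (.node 1 (.leaf 17440845) (.leaf 16984157))))
(.node 3 (.node 1 (.leaf 17256521) (.node 1 (.leaf 16918607) (.leaf 17766479))) (.node 1 (.leaf 17174609) (.node 1 (.leaf 17578065) (.leaf 17698885)))))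
(.node 6 (.node 3 (.node 1 (.leaf 17070149) (.node 1 (.leaf 17459295) (.leaf 17258571))) (.node 1 (.leaf 17657943) (.node 1 (.leaf 16916567) (.leaf 17258561))))
(.node 3 (.node 1 (.leaf 17053767) (.node 1 (.leaf 17508423) (.leaf 17764419))) (.node 1 (.leaf 17780829) (.node 1 (.leaf 17657949) (.leaf 16916565))))))
(.node 12 (.node 6 (.node 3 (.node 1 (.leaf 17258581) (.node 1 (.leaf 17657929) (.leaf 17070157))) (.node 1 (.leaf 16984141) (.node 1 (.leaf 17256537) (.leaf 17240151))))
(.node 3 (.node 1 (.leaf 17641559) (.node 1 (.leaf 17440863) (.leaf 17242183))) (.node 1 (.leaf 17576007) (.node 1 (.leaf 17119317) (.leaf 17764437)))))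
(.node 6 (.node 3 (.node 1 (.leaf 17133653) (.node 1 (.leaf 17457229) (.leaf 17440857))) (.node 1 (.leaf 17193049) (.node 1 (.leaf 17594439) (.leaf 17068103))))
(.node 3 (.node 1 (.leaf 16918599) (.node 1 (.leaf 17459275) (.leaf 17176653))) (.node 1 (.leaf 17715289) (.node 1 (.leaf 17258569) (.leaf 17657941)))))))
(.node 24 (.node 12 (.node 6 (.node 3 (.node 1 (.leaf 16935001) (.node 1 (.leaf 17242201) (.leaf 17133637))) (.node 1 (.leaf 17242179) (.node 1 (.leaf 17135691) (.leaf 16916555))))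
(.node 3 (.node 1 (.leaf 17242195) (.node 1 (.leaf 17508441) (.leaf 17576021))) (.node 1 (.leaf 17176649) (.node 1 (.leaf 17508447) (.leaf 17764443)))))
(.node 6 (.node 3 (.node 1 (.leaf 17242203) (.node 1 (.leaf 17508433) (.leaf 17242187))) (.node 1 (.leaf 17508417) (.node 1 (.leaf 17119321) (.leaf 17459273))))
(.node 3 (.node 1 (.leaf 17119299) (.node 1 (.leaf 16984155) (.leaf 17256527))) (.node 1 (.leaf 17641537) (.node 1 (.leaf 17440841) (.leaf 16918601))))))
(.node 12 (.node 6 (.node 3 (.node 1 (.leaf 17524813) (.node 1 (.leaf 17764417) (.leaf 17578075))) (.node 1 (.leaf 17780815) (.node 1 (.leaf 17133649) (.leaf 17457225))))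
(.node 3 (.node 1 (.leaf 16934985) (.node 1 (.leaf 17242185) (.leaf 17764427))) (.node 1 (.leaf 17133643) (.node 1 (.leaf 17457235) (.leaf 17135683)))))
(.node 6 (.node 3 (.node 1 (.leaf 17119305) (.node 1 (.leaf 17240143) (.leaf 17440839))) (.node 1 (.leaf 17133659) (.node 1 (.leaf 17457219) (.leaf 17440855))))
(.node 3 (.node 1 (.leaf 17594441) (.node 1 (.leaf 17068105) (.leaf 17193055))) (.node 1 (.leaf 17506393) (.node 1 (.leaf 17698909) (.leaf 17594433)))))))))
(.node 96 (.node 48 (.node 24 (.node 12 (.node 6 (.node 3 (.node 1 (.leaf 17594453) (.node 1 (.leaf 17068117) (.leaf 17766481))) (.node 1 (.leaf 17782863) (.node 1 (.leaf 17592399) (.leaf 16984133))))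
(.node 3 (.node 1 (.leaf 17506373) (.node 1 (.leaf 17256517) (.leaf 17592409))) (.node 1 (.leaf 16982109) (.node 1 (.leaf 17764445) (.leaf 17698895)))))
(.node 6 (.node 3 (.node 1 (.leaf 17780831) (.node 1 (.leaf 17176659) (.leaf 17592397))) (.node 1 (.leaf 17459277) (.node 1 (.leaf 17176651) (.leaf 17133635))))
(.node 3 (.node 1 (.leaf 17457243) (.node 1 (.leaf 17594449) (.leaf 17193031))) (.node 1 (.leaf 17524815) (.node 1 (.leaf 17576009) (.leaf 17524821))))))
(.node 12 (.node 6 (.node 3 (.node 1 (.leaf 17715285) (.node 1 (.leaf 17068115) (.leaf 17051739))) (.node 1 (.leaf 17700957) (.node 1 (.leaf 17698889) (.leaf 17459283))))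
(.node 3 (.node 1 (.leaf 17258567) (.node 1 (.leaf 17657947) (.leaf 17258573))) (.node 1 (.leaf 17508427) (.node 1 (.leaf 17258585) (.leaf 17657925)))))
(.node 6 (.node 3 (.node 1 (.leaf 17240155) (.node 1 (.leaf 16918611) (.leaf 17766483))) (.node 1 (.leaf 17641567) (.node 1 (.leaf 17133657) (.leaf 17457217))))
(.node 3 (.node 1 (.leaf 17068107) (.node 1 (.leaf 17193053) (.leaf 17592391))) (.node 1 (.leaf 17459271) (.node 1 (.leaf 17176641) (.leaf 17000527)))))))
(.node 24 (.node 12 (.node 6 (.node 3 (.node 1 (.leaf 17440859) (.node 1 (.leaf 17641565) (.leaf 17643589))) (.node 1 (.leaf 17659999) (.node 1 (.leaf 17457247) (.leaf 17457233))))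
(.node 3 (.node 1 (.leaf 17576031) (.node 1 (.leaf 16935007) (.leaf 17522767))) (.node 1 (.leaf 16935005) (.node 1 (.leaf 17457245) (.leaf 17135709)))))
(.node 6 (.node 3 (.node 1 (.leaf 16916573) (.node 1 (.leaf 17242181) (.leaf 17508431))) (.node 1 (.leaf 17576003) (.node 1 (.leaf 17256535) (.leaf 16934995))))
(.node 3 (.node 1 (.leaf 17240149) (.node 1 (.leaf 17440861) (.leaf 16934983))) (.node 1 (.leaf 17242199) (.node 1 (.leaf 17000515) (.leaf 17780803))))))
(.node 12 (.node 6 (.node 3 (.node 1 (.leaf 17051727) (.node 1 (.leaf 17051743) (.leaf 17700953))) (.node 1 (.leaf 17174617) (.node 1 (.leaf 17578073) (.leaf 17117257))))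
(.node 3 (.node 1 (.leaf 17700949) (.node 1 (.leaf 17240133) (.leaf 17576023))) (.node 1 (.leaf 16934999) (.node 1 (.leaf 17717313) (.leaf 17051723)))))
(.node 6 (.node 3 (.node 1 (.leaf 17191001) (.node 1 (.leaf 17782857) (.leaf 17117253))) (.node 1 (.leaf 17191003) (.node 1 (.leaf 17717339) (.leaf 16932955))))
(.node 3 (.node 1 (.leaf 17053773) (.node 1 (.leaf 17190995) (.leaf 17133645))) (.node 1 (.leaf 17190991) (.node 1 (.leaf 17117261) (.leaf 16932943))))))))
(.node 48 (.node 24 (.node 12 (.node 6 (.node 3 (.node 1 (.leaf 17117251) (.node 1 (.leaf 17000519) (.leaf 17457237))) (.node 1 (.leaf 16934997) (.node 1 (.leaf 17242197) (.leaf 17133641))))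
(.node 3 (.node 1 (.leaf 17717331) (.node 1 (.leaf 17459267) (.leaf 17117263))) (.node 1 (.leaf 17578061) (.node 1 (.leaf 17258583) (.leaf 17657931)))))
(.node 6 (.node 3 (.node 1 (.leaf 17053787) (.node 1 (.leaf 17780801) (.leaf 16916553))) (.node 1 (.leaf 17070161) (.node 1 (.leaf 16984145) (.leaf 16918595))))
(.node 3 (.node 1 (.leaf 17715275) (.node 1 (.leaf 17119307) (.leaf 17715271))) (.node 1 (.leaf 17715293) (.node 1 (.leaf 17193029) (.leaf 16918619))))))
(.node 12 (.node 6 (.node 3 (.node 1 (.leaf 17592407) (.node 1 (.leaf 17459287) (.leaf 17119325))) (.node 1 (.leaf 17715269) (.node 1 (.leaf 17119303) (.leaf 17717315))))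
(.node 3 (.node 1 (.leaf 17576013) (.node 1 (.leaf 16934989) (.leaf 17051729))) (.node 1 (.leaf 17700951) (.node 1 (.leaf 16982083) (.leaf 17190979)))))
(.node 6 (.node 3 (.node 1 (.leaf 17659997) (.node 1 (.leaf 17782867) (.leaf 16982101))) (.node 1 (.leaf 17659969) (.node 1 (.leaf 17117249) (.leaf 17506369))))
(.node 3 (.node 1 (.leaf 17594445) (.node 1 (.leaf 17578053) (.leaf 17766489))) (.node 1 (.leaf 17068121) (.node 1 (.leaf 17506385) (.leaf 17698897)))))))
(.node 24 (.node 12 (.node 6 (.node 3 (.node 1 (.leaf 17659989) (.node 1 (.leaf 17782873) (.leaf 16932929))) (.node 1 (.leaf 17578057) (.node 1 (.leaf 17782871) (.leaf 17117275))))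
(.node 3 (.node 1 (.leaf 17643611) (.node 1 (.leaf 17782861) (.leaf 16918617))) (.node 1 (.leaf 17700937) (.node 1 (.leaf 17715273) (.leaf 17193033)))))
(.node 6 (.node 3 (.node 1 (.leaf 17133639) (.node 1 (.leaf 17506381) (.leaf 17117259))) (.node 1 (.leaf 17506379) (.node 1 (.leaf 17524809) (.leaf 17715283))))
(.node 3 (.node 1 (.leaf 17506395) (.node 1 (.leaf 17000523) (.leaf 17135701))) (.node 1 (.leaf 17119327) (.node 1 (.leaf 17506383) (.leaf 17117269))))))
(.node 12 (.node 6 (.node 3 (.node 1 (.leaf 17133655) (.node 1 (.leaf 16982103) (.leaf 17700933))) (.node 1 (.leaf 17506399) (.node 1 (.leaf 17594451) (.leaf 17766471))))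
(.node 3 (.node 1 (.leaf 16982107) (.node 1 (.leaf 17659993) (.leaf 16982097))) (.node 1 (.leaf 17700947) (.node 1 (.leaf 17780823) (.leaf 16916575)))))
(.node 6 (.node 3 (.node 1 (.leaf 17592389) (.node 1 (.leaf 17506397) (.leaf 17000535))) (.node 1 (.leaf 17176661) (.node 1 (.leaf 17242177) (.leaf 17576001))))
(.node 3 (.node 1 (.leaf 17766487) (.node 1 (.leaf 17176645) (.leaf 17698893))) (.node 1 (.leaf 17643587) (.node 1 (.leaf 17190999) (.leaf 17174613))))))))))

/-- The stabiliser. -/
def caseBFullN1ElsRR : Tab ℕ :=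
(.node 192 (.node 96 (.node 48 (.node 24 (.node 12 (.node 6 (.node 3 (.node 1 (.leaf 17578069) (.node 1 (.leaf 17643591) (.leaf 17522783))) (.node 1 (.leaf 17506377) (.node 1 (.leaf 17592405) (.leaf 16984149))))
(.node 3 (.node 1 (.leaf 17256513) (.node 1 (.leaf 17256529) (.leaf 17117265))) (.node 1 (.leaf 16984143) (.node 1 (.leaf 17522775) (.leaf 17174611)))))
(.node 6 (.node 3 (.node 1 (.leaf 17643601) (.node 1 (.leaf 17191005) (.leaf 17522757))) (.node 1 (.leaf 17053785) (.node 1 (.leaf 17256519) (.leaf 17592411))))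
(.node 3 (.node 1 (.leaf 16934979) (.node 1 (.leaf 17717333) (.leaf 17190997))) (.node 1 (.leaf 16934991) (.node 1 (.leaf 16918615) (.leaf 16984135))))))
(.node 12 (.node 6 (.node 3 (.node 1 (.leaf 17053775) (.node 1 (.leaf 17643585) (.leaf 16932951))) (.node 1 (.leaf 17578067) (.node 1 (.leaf 17698887) (.leaf 17256539))))
(.node 3 (.node 1 (.leaf 17641553) (.node 1 (.leaf 17457231) (.leaf 17659971))) (.node 1 (.leaf 16982091) (.node 1 (.leaf 17717343) (.leaf 17176647)))))
(.node 6 (.node 3 (.node 1 (.leaf 17782855) (.node 1 (.leaf 16932959) (.leaf 17578071))) (.node 1 (.leaf 16932933) (.node 1 (.leaf 17766477) (.leaf 17649749))))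
(.node 3 (.node 1 (.leaf 17260619) (.node 1 (.leaf 17059919) (.leaf 17786959))) (.node 1 (.leaf 16986179) (.node 1 (.leaf 17195103) (.leaf 17059927)))))))
(.node 24 (.node 12 (.node 6 (.node 3 (.node 1 (.leaf 17786957) (.node 1 (.leaf 17260621) (.leaf 16986189))) (.node 1 (.leaf 17059929) (.node 1 (.leaf 17651783) (.leaf 17043535))))
(.node 3 (.node 1 (.leaf 17262677) (.node 1 (.leaf 17526869) (.leaf 17043537))) (.node 1 (.leaf 17260637) (.node 1 (.leaf 16986205) (.leaf 16920655)))))
(.node 6 (.node 3 (.node 1 (.leaf 17002591) (.node 1 (.leaf 17109087) (.leaf 17195079))) (.node 1 (.leaf 17043533) (.node 1 (.leaf 17528909) (.leaf 16920649))))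
(.node 3 (.node 1 (.leaf 17260633) (.node 1 (.leaf 16986201) (.leaf 17059917))) (.node 1 (.leaf 17569867) (.node 1 (.leaf 17784919) (.leaf 17768521))))))
(.node 12 (.node 6 (.node 3 (.node 1 (.leaf 17002569) (.node 1 (.leaf 17246301) (.leaf 17002561))) (.node 1 (.leaf 17786971) (.node 1 (.leaf 16986199) (.leaf 17002577))))
(.node 3 (.node 1 (.leaf 17195081) (.node 1 (.leaf 17721417) (.leaf 17528905))) (.node 1 (.leaf 17109069) (.node 1 (.leaf 17195093) (.leaf 17528907)))))
(.node 6 (.node 3 (.node 1 (.leaf 17002571) (.node 1 (.leaf 17109067) (.leaf 17786949))) (.node 1 (.leaf 17461317) (.node 1 (.leaf 17526871) (.leaf 17178719))))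
(.node 3 (.node 1 (.leaf 17002587) (.node 1 (.leaf 17109083) (.leaf 17195075))) (.node 1 (.leaf 17569865) (.node 1 (.leaf 17651787) (.leaf 16988229))))))))
(.node 48 (.node 24 (.node 12 (.node 6 (.node 3 (.node 1 (.leaf 17043549) (.node 1 (.leaf 17260625) (.leaf 16986193))) (.node 1 (.leaf 17059909) (.node 1 (.leaf 16986181) (.leaf 17633365))))
(.node 3 (.node 1 (.leaf 17703005) (.node 1 (.leaf 17512541) (.leaf 17633369))) (.node 1 (.leaf 17262669) (.node 1 (.leaf 16986207) (.leaf 17633375)))))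
(.node 6 (.node 3 (.node 1 (.leaf 17635399) (.node 1 (.leaf 17719389) (.leaf 16988243))) (.node 1 (.leaf 17045597) (.node 1 (.leaf 17567837) (.leaf 17197149))))
(.node 3 (.node 1 (.leaf 17045573) (.node 1 (.leaf 17197151) (.leaf 17045593))) (.node 1 (.leaf 17567817) (.node 1 (.leaf 17002581) (.leaf 17567833))))))
(.node 12 (.node 6 (.node 3 (.node 1 (.leaf 17045575) (.node 1 (.leaf 17703007) (.leaf 17567813))) (.node 1 (.leaf 17197125) (.node 1 (.leaf 17526857) (.leaf 16986177))))
(.node 3 (.node 1 (.leaf 17059925) (.node 1 (.leaf 17569875) (.leaf 17002563))) (.node 1 (.leaf 17109059) (.node 1 (.leaf 17195099) (.leaf 17569873)))))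
(.node 6 (.node 3 (.node 1 (.leaf 16986183) (.node 1 (.leaf 17702991) (.leaf 17463379))) (.node 1 (.leaf 17045589) (.node 1 (.leaf 17721411) (.leaf 17528899))))
(.node 3 (.node 1 (.leaf 16937041) (.node 1 (.leaf 17195089) (.leaf 17061959))) (.node 1 (.leaf 17045583) (.node 1 (.leaf 17770575) (.leaf 17567811)))))))
(.node 24 (.node 12 (.node 6 (.node 3 (.node 1 (.leaf 17059933) (.node 1 (.leaf 17786951) (.leaf 17244239))) (.node 1 (.leaf 17705055) (.node 1 (.leaf 17109071) (.leaf 17528913))))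
(.node 3 (.node 1 (.leaf 17786975) (.node 1 (.leaf 17195085) (.leaf 17721421))) (.node 1 (.leaf 17109065) (.node 1 (.leaf 17721437) (.leaf 17109081)))))
(.node 6 (.node 3 (.node 1 (.leaf 16937039) (.node 1 (.leaf 17059935) (.leaf 16937051))) (.node 1 (.leaf 17633357) (.node 1 (.leaf 17702981) (.leaf 17463385))))
(.node 3 (.node 1 (.leaf 17045599) (.node 1 (.leaf 17567839) (.leaf 17125447))) (.node 1 (.leaf 17526861) (.node 1 (.leaf 16922697) (.leaf 17061983))))))
(.node 12 (.node 6 (.node 3 (.node 1 (.leaf 17195101) (.node 1 (.leaf 16922717) (.leaf 16920667))) (.node 1 (.leaf 16937055) (.node 1 (.leaf 17045587) (.leaf 17510495))))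
(.node 3 (.node 1 (.leaf 17260631) (.node 1 (.leaf 17510489) (.leaf 17510481))) (.node 1 (.leaf 17512517) (.node 1 (.leaf 17195095) (.leaf 17260613)))))
(.node 6 (.node 3 (.node 1 (.leaf 17786955) (.node 1 (.leaf 17059911) (.leaf 17786973))) (.node 1 (.leaf 17061965) (.node 1 (.leaf 17510473) (.leaf 17125445))))
(.node 3 (.node 1 (.leaf 17528927) (.node 1 (.leaf 17125457) (.leaf 17244241))) (.node 1 (.leaf 17262679) (.node 1 (.leaf 17260639) (.leaf 17109085)))))))))
(.node 96 (.node 48 (.node 24 (.node 12 (.node 6 (.node 3 (.node 1 (.leaf 17705039) (.node 1 (.leaf 17446977) (.leaf 17567819))) (.node 1 (.leaf 17463381) (.node 1 (.leaf 16922703) (.leaf 17061977))))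
(.node 3 (.node 1 (.leaf 17770583) (.node 1 (.leaf 17059907) (.leaf 17786969))) (.node 1 (.leaf 17045581) (.node 1 (.leaf 17463383) (.leaf 17461313)))))
(.node 6 (.node 3 (.node 1 (.leaf 17444949) (.node 1 (.leaf 17061973) (.leaf 17528917))) (.node 1 (.leaf 17584213) (.node 1 (.leaf 17584215) (.leaf 17061975))))
(.node 3 (.node 1 (.leaf 16920663) (.node 1 (.leaf 17569879) (.leaf 17109061))) (.node 1 (.leaf 17528923) (.node 1 (.leaf 17584203) (.leaf 17045591))))))
(.node 12 (.node 6 (.node 3 (.node 1 (.leaf 17584195) (.node 1 (.leaf 17178715) (.leaf 17004629))) (.node 1 (.leaf 17262671) (.node 1 (.leaf 17784911) (.leaf 17526863))))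
(.node 3 (.node 1 (.leaf 17262673) (.node 1 (.leaf 17528915) (.leaf 17584211))) (.node 1 (.leaf 17768527) (.node 1 (.leaf 16939073) (.leaf 17768525)))))
(.node 6 (.node 3 (.node 1 (.leaf 17246285) (.node 1 (.leaf 17002567) (.leaf 17768523))) (.node 1 (.leaf 16922695) (.node 1 (.leaf 16939079) (.leaf 16939099))))
(.node 3 (.node 1 (.leaf 17649731) (.node 1 (.leaf 17584209) (.leaf 16922719))) (.node 1 (.leaf 16939077) (.node 1 (.leaf 17002573) (.leaf 16986185)))))))
(.node 24 (.node 12 (.node 6 (.node 3 (.node 1 (.leaf 17633353) (.node 1 (.leaf 17567835) (.leaf 17244253))) (.node 1 (.leaf 16937053) (.node 1 (.leaf 17244247) (.leaf 17770561))))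
(.node 3 (.node 1 (.leaf 17567821) (.node 1 (.leaf 17059923) (.leaf 16937047))) (.node 1 (.leaf 17244225) (.node 1 (.leaf 17246299) (.leaf 17528903)))))
(.node 6 (.node 3 (.node 1 (.leaf 17584199) (.node 1 (.leaf 17262675) (.leaf 17444951))) (.node 1 (.leaf 16939097) (.node 1 (.leaf 17111129) (.leaf 17197135))))
(.node 3 (.node 1 (.leaf 17111113) (.node 1 (.leaf 17260617) (.leaf 17180751))) (.node 1 (.leaf 17586265) (.node 1 (.leaf 17567823) (.leaf 17244255))))))
(.node 12 (.node 6 (.node 3 (.node 1 (.leaf 17770591) (.node 1 (.leaf 16922691) (.leaf 17111111))) (.node 1 (.leaf 16939101) (.node 1 (.leaf 17111133) (.leaf 17111117))))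
(.node 3 (.node 1 (.leaf 17111109) (.node 1 (.leaf 17111125) (.leaf 17510475))) (.node 1 (.leaf 17197123) (.node 1 (.leaf 17262667) (.leaf 17569877)))))
(.node 6 (.node 3 (.node 1 (.leaf 17111127) (.node 1 (.leaf 17786961) (.leaf 17528921))) (.node 1 (.leaf 17197139) (.node 1 (.leaf 17786945) (.leaf 17260615))))
(.node 3 (.node 1 (.leaf 17461339) (.node 1 (.leaf 17784913) (.leaf 17461315))) (.node 1 (.leaf 17111135) (.node 1 (.leaf 17512529) (.leaf 17703001))))))))
(.node 48 (.node 24 (.node 12 (.node 6 (.node 3 (.node 1 (.leaf 17702985) (.node 1 (.leaf 16939081) (.leaf 17127489))) (.node 1 (.leaf 17002575) (.node 1 (.leaf 17512525) (.leaf 17584219))))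
(.node 3 (.node 1 (.leaf 17584197) (.node 1 (.leaf 17567827) (.leaf 17002565))) (.node 1 (.leaf 17461337) (.node 1 (.leaf 17526859) (.leaf 17260611)))))
(.node 6 (.node 3 (.node 1 (.leaf 17463369) (.node 1 (.leaf 17635421) (.leaf 17246293))) (.node 1 (.leaf 17786947) (.node 1 (.leaf 17526867) (.leaf 17197127))))
(.node 3 (.node 1 (.leaf 17768543) (.node 1 (.leaf 17633355) (.leaf 17584201))) (.node 1 (.leaf 17125449) (.node 1 (.leaf 17111131) (.leaf 17510469))))))
(.node 12 (.node 6 (.node 3 (.node 1 (.leaf 17004619) (.node 1 (.leaf 17786967) (.leaf 16920665))) (.node 1 (.leaf 17178701) (.node 1 (.leaf 17127495) (.leaf 17111115))))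
(.node 3 (.node 1 (.leaf 17721413) (.node 1 (.leaf 17127491) (.leaf 16937025))) (.node 1 (.leaf 17125451) (.node 1 (.leaf 17721429) (.leaf 17584217)))))
(.node 6 (.node 3 (.node 1 (.leaf 16922711) (.node 1 (.leaf 17127517) (.leaf 17649739))) (.node 1 (.leaf 17178689) (.node 1 (.leaf 17528911) (.leaf 17178717))))
(.node 3 (.node 1 (.leaf 17512539) (.node 1 (.leaf 17195073) (.leaf 17512523))) (.node 1 (.leaf 16986187) (.node 1 (.leaf 17528901) (.leaf 17000513)))))))
(.node 24 (.node 12 (.node 6 (.node 3 (.node 1 (.leaf 17780821) (.node 1 (.leaf 17522753) (.leaf 17524811))) (.node 1 (.leaf 17000529) (.node 1 (.leaf 16984131) (.leaf 17000517))))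
(.node 3 (.node 1 (.leaf 17174597) (.node 1 (.leaf 17522779) (.leaf 17457223))) (.node 1 (.leaf 17000533) (.node 1 (.leaf 17522773) (.leaf 16916547)))))
(.node 6 (.node 3 (.node 1 (.leaf 17592415) (.node 1 (.leaf 17135695) (.leaf 17135689))) (.node 1 (.leaf 17133633) (.node 1 (.leaf 17135711) (.leaf 16916545))))
(.node 3 (.node 1 (.leaf 17522781) (.node 1 (.leaf 17051731) (.leaf 17506387))) (.node 1 (.leaf 16984147) (.node 1 (.leaf 17524819) (.leaf 17000531))))))
(.node 12 (.node 6 (.node 3 (.node 1 (.leaf 17119301) (.node 1 (.leaf 17576025) (.leaf 17176669))) (.node 1 (.leaf 17592387) (.node 1 (.leaf 17522765) (.leaf 17522759))))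
(.node 3 (.node 1 (.leaf 17506371) (.node 1 (.leaf 17070163) (.leaf 17576015))) (.node 1 (.leaf 17780805) (.node 1 (.leaf 17764421) (.leaf 16934977)))))
(.node 6 (.node 3 (.node 1 (.leaf 16934993) (.node 1 (.leaf 17780827) (.leaf 17524817))) (.node 1 (.leaf 17190985) (.node 1 (.leaf 17780811) (.leaf 17242191))))
(.node 3 (.node 1 (.leaf 17242207) (.node 1 (.leaf 17522763) (.leaf 17135681))) (.node 1 (.leaf 17594447) (.node 1 (.leaf 17592403) (.leaf 17133661))))))))))

/-- The stabiliser. -/
def caseBFullN1ElsR : Tab ℕ := .node 384 caseBFullN1ElsRL caseBFullN1ElsRR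

/-- The stabiliser. -/
def caseBFullN1Els : Tab ℕ := .node 768 caseBFullN1ElsL caseBFullN1ElsR

/-- Its index. -/
def caseBFullN1Ix : BT ℕ :=
(.node 17440833 860
(.node 17109057 371
(.node 16998465 37
(.node 16937025 1472
(.node 16922689 640
(.node 16918609 862
(.node 16916569 757
(.node 16916557 126
(.node 16916551 771 (.node 16916547 1499 (.node 16916545 1505 .tip .tip) (.node 16916549 809 .tip .tip)) (.node 16916555 917 (.node 16916553 1070 .tip .tip) .tip))
(.node 16916563 777 (.node 16916561 807 (.node 16916559 133 .tip .tip) .tip) (.node 16916567 880 (.node 16916565 887 .tip .tip) .tip)))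
(.node 16918597 143
(.node 16916575 1139 (.node 16916573 1020 (.node 16916571 762 .tip .tip) .tip) (.node 16918595 1073 (.node 16918593 866 .tip .tip) .tip))
(.node 16918603 852 (.node 16918601 935 (.node 16918599 906 .tip .tip) .tip) (.node 16918607 871 (.node 16918605 861 .tip .tip) .tip))))
(.node 16920649 1217
(.node 16918621 167
(.node 16918615 1174 (.node 16918613 231 (.node 16918611 997 .tip .tip) .tip) (.node 16918619 1079 (.node 16918617 1112 .tip .tip) .tip))
(.node 16920643 506 (.node 16920641 584 (.node 16918623 270 .tip .tip) .tip) (.node 16920647 305 (.node 16920645 626 .tip .tip) .tip)))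
(.node 16920661 654
(.node 16920655 1211 (.node 16920653 557 (.node 16920651 96 .tip .tip) .tip) (.node 16920659 684 (.node 16920657 620 .tip .tip) .tip))
(.node 16920667 1322 (.node 16920665 1466 (.node 16920663 1362 .tip .tip) .tip) (.node 16920671 627 (.node 16920669 490 .tip .tip) .tip)))))
(.node 16932945 824
(.node 16922713 636
(.node 16922701 687
(.node 16922695 1383 (.node 16922693 339 (.node 16922691 1417 .tip .tip) .tip) (.node 16922699 377 (.node 16922697 1318 .tip .tip) .tip))
(.node 16922707 474 (.node 16922705 481 (.node 16922703 1348 .tip .tip) .tip) (.node 16922711 1476 (.node 16922709 100 .tip .tip) .tip)))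
(.node 16932933 1191
(.node 16922719 1388 (.node 16922717 1321 (.node 16922715 648 .tip .tip) .tip) (.node 16932931 783 (.node 16932929 1106 .tip .tip) .tip))
(.node 16932939 296 (.node 16932937 255 (.node 16932935 259 .tip .tip) .tip) (.node 16932943 1055 (.node 16932941 276 .tip .tip) .tip))))
(.node 16934985 942
(.node 16932957 265
(.node 16932951 1178 (.node 16932949 221 (.node 16932947 32 .tip .tip) .tip) (.node 16932955 1049 (.node 16932953 734 .tip .tip) .tip))
(.node 16934979 1170 (.node 16934977 1523 (.node 16932959 1189 .tip .tip) .tip) (.node 16934983 1028 (.node 16934981 865 .tip .tip) .tip)))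
(.node 16934997 1059
(.node 16934991 1173 (.node 16934989 1087 (.node 16934987 186 .tip .tip) .tip) (.node 16934995 1025 (.node 16934993 1524 .tip .tip) .tip))
(.node 16935003 269 (.node 16935001 912 (.node 16934999 1041 .tip .tip) .tip) (.node 16935007 1015 (.node 16935005 1017 .tip .tip) .tip))))))
(.node 16984129 832
(.node 16939089 659
(.node 16937049 357
(.node 16937037 350
(.node 16937031 329 (.node 16937029 335 (.node 16937027 603 .tip .tip) .tip) (.node 16937035 443 (.node 16937033 389 .tip .tip) .tip))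
(.node 16937043 46 (.node 16937041 1290 (.node 16937039 1308 .tip .tip) .tip) (.node 16937047 1400 (.node 16937045 522 .tip .tip) .tip)))
(.node 16939077 1389
(.node 16937055 1323 (.node 16937053 1395 (.node 16937051 1310 .tip .tip) .tip) (.node 16939075 401 (.node 16939073 1378 .tip .tip) .tip))
(.node 16939083 84 (.node 16939081 1441 (.node 16939079 1384 .tip .tip) .tip) (.node 16939087 376 (.node 16939085 548 .tip .tip) .tip))))
(.node 16982089 737
(.node 16939101 1419
(.node 16939095 434 (.node 16939093 431 (.node 16939091 588 .tip .tip) .tip) (.node 16939099 1385 (.node 16939097 1407 .tip .tip) .tip))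
(.node 16982083 1090 (.node 16982081 294 (.node 16939103 577 .tip .tip) .tip) (.node 16982087 243 (.node 16982085 193 .tip .tip) .tip)))
(.node 16982101 1094
(.node 16982095 205 (.node 16982093 843 (.node 16982091 1185 .tip .tip) .tip) (.node 16982099 201 (.node 16982097 1136 .tip .tip) .tip))
(.node 16982107 1134 (.node 16982105 24 (.node 16982103 1129 .tip .tip) .tip) (.node 16982111 217 (.node 16982109 969 .tip .tip) .tip)))))
(.node 16986193 1250
(.node 16984153 725
(.node 16984141 891
(.node 16984135 1175 (.node 16984133 965 (.node 16984131 1492 .tip .tip) .tip) (.node 16984139 711 (.node 16984137 840 .tip .tip) .tip))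
(.node 16984147 1509 (.node 16984145 1072 (.node 16984143 1161 .tip .tip) .tip) (.node 16984151 138 (.node 16984149 1157 .tip .tip) .tip)))
(.node 16986181 1252
(.node 16984159 829 (.node 16984157 869 (.node 16984155 931 .tip .tip) .tip) (.node 16986179 1197 (.node 16986177 1277 .tip .tip) .tip))
(.node 16986187 1485 (.node 16986185 1391 (.node 16986183 1284 .tip .tip) .tip) (.node 16986191 486 (.node 16986189 1202 .tip .tip) .tip))))
(.node 16988233 646
(.node 16986205 1210
(.node 16986199 1228 (.node 16986197 300 (.node 16986195 314 .tip .tip) .tip) (.node 16986203 609 (.node 16986201 1219 .tip .tip) .tip))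
(.node 16988227 669 (.node 16988225 6 (.node 16986207 1258 .tip .tip) .tip) (.node 16988231 77 (.node 16988229 1247 .tip .tip) .tip)))
(.node 16988245 413
(.node 16988239 674 (.node 16988237 61 (.node 16988235 534 .tip .tip) .tip) (.node 16988243 1262 (.node 16988241 537 .tip .tip) .tip))
(.node 16988251 53 (.node 16988249 109 (.node 16988247 65 .tip .tip) .tip) (.node 16988255 566 (.node 16988253 527 .tip .tip) .tip)))))))
(.node 17051713 707
(.node 17004609 78
(.node 17000529 1491
(.node 16998489 1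
(.node 16998477 746
(.node 16998471 225 (.node 16998469 210 (.node 16998467 17 .tip .tip) .tip) (.node 16998475 731 (.node 16998473 214 .tip .tip) .tip))
(.node 16998483 810 (.node 16998481 698 (.node 16998479 21 .tip .tip) .tip) (.node 16998487 291 (.node 16998485 153 .tip .tip) .tip)))
(.node 17000517 1493
(.node 16998495 25 (.node 16998493 721 (.node 16998491 288 .tip .tip) .tip) (.node 17000515 1030 (.node 17000513 1487 .tip .tip) .tip))
(.node 17000523 1123 (.node 17000521 767 (.node 17000519 1057 .tip .tip) .tip) (.node 17000527 1007 (.node 17000525 712 .tip .tip) .tip))))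
(.node 17002569 1224
(.node 17000541 802
(.node 17000535 1142 (.node 17000533 1497 (.node 17000531 1511 .tip .tip) .tip) (.node 17000539 855 (.node 17000537 694 .tip .tip) .tip))
(.node 17002563 1280 (.node 17002561 1226 (.node 17000543 724 .tip .tip) .tip) (.node 17002567 1381 (.node 17002565 1448 .tip .tip) .tip)))
(.node 17002581 1270
(.node 17002575 1443 (.node 17002573 1390 (.node 17002571 1236 .tip .tip) .tip) (.node 17002579 628 (.node 17002577 1229 .tip .tip) .tip))
(.node 17002587 1242 (.node 17002585 439 (.node 17002583 307 .tip .tip) .tip) (.node 17002591 1212 (.node 17002589 361 .tip .tip) .tip)))))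
(.node 17043537 1208
(.node 17004633 89
(.node 17004621 498
(.node 17004615 7 (.node 17004613 596 (.node 17004611 662 .tip .tip) .tip) (.node 17004619 1464 (.node 17004617 679 .tip .tip) .tip))
(.node 17004627 365 (.node 17004625 74 (.node 17004623 599 .tip .tip) .tip) (.node 17004631 546 (.node 17004629 1370 .tip .tip) .tip)))
(.node 17043525 312
(.node 17004639 110 (.node 17004637 542 (.node 17004635 70 .tip .tip) .tip) (.node 17043523 593 (.node 17043521 0 .tip .tip) .tip))
(.node 17043531 352 (.node 17043529 302 (.node 17043527 8 .tip .tip) .tip) (.node 17043535 1205 (.node 17043533 1215 .tip .tip) .tip))))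
(.node 17045577 358
(.node 17043549 1248
(.node 17043543 452 (.node 17043541 323 (.node 17043539 366 .tip .tip) .tip) (.node 17043547 383 (.node 17043545 12 .tip .tip) .tip))
(.node 17045571 499 (.node 17045569 319 (.node 17043551 82 .tip .tip) .tip) (.node 17045575 1272 (.node 17045573 1266 .tip .tip) .tip)))
(.node 17045589 1287
(.node 17045583 1293 (.node 17045581 1353 (.node 17045579 444 .tip .tip) .tip) (.node 17045587 1324 (.node 17045585 407 .tip .tip) .tip))
(.node 17045595 341 (.node 17045593 1268 (.node 17045591 1367 .tip .tip) .tip) (.node 17045599 1314 (.node 17045597 1263 .tip .tip) .tip))))))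
(.node 17061953 359
(.node 17053777 780
(.node 17051737 748
(.node 17051725 113
(.node 17051719 813 (.node 17051717 701 (.node 17051715 693 .tip .tip) .tip) (.node 17051723 1043 (.node 17051721 723 .tip .tip) .tip))
(.node 17051731 1507 (.node 17051729 1088 (.node 17051727 1032 .tip .tip) .tip) (.node 17051735 188 (.node 17051733 697 .tip .tip) .tip)))
(.node 17053765 782
(.node 17051743 1033 (.node 17051741 800 (.node 17051739 986 .tip .tip) .tip) (.node 17053763 804 (.node 17053761 268 .tip .tip) .tip))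
(.node 17053771 184 (.node 17053769 758 (.node 17053767 882 .tip .tip) .tip) (.node 17053775 1176 (.node 17053773 1050 .tip .tip) .tip))))
(.node 17059913 347
(.node 17053789 128
(.node 17053783 821 (.node 17053781 786 (.node 17053779 794 .tip .tip) .tip) (.node 17053787 1068 (.node 17053785 1167 .tip .tip) .tip))
(.node 17059907 1351 (.node 17059905 301 (.node 17053791 864 .tip .tip) .tip) (.node 17059911 1333 (.node 17059909 1251 .tip .tip) .tip)))
(.node 17059925 1278
(.node 17059919 1195 (.node 17059917 1220 (.node 17059915 641 .tip .tip) .tip) (.node 17059923 1399 (.node 17059921 374 .tip .tip) .tip))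
(.node 17059931 487 (.node 17059929 1203 (.node 17059927 1199 .tip .tip) .tip) (.node 17059935 1309 (.node 17059933 1296 .tip .tip) .tip)))))
(.node 17068113 747
(.node 17061977 1349
(.node 17061965 1335
(.node 17061959 1292 (.node 17061957 475 (.node 17061955 594 .tip .tip) .tip) (.node 17061963 514 (.node 17061961 471 .tip .tip) .tip))
(.node 17061971 340 (.node 17061969 483 (.node 17061967 637 .tip .tip) .tip) (.node 17061975 1361 (.node 17061973 1357 .tip .tip) .tip)))
(.node 17068101 3
(.node 17061983 1319 (.node 17061981 67 (.node 17061979 539 .tip .tip) .tip) (.node 17068099 27 (.node 17068097 722 .tip .tip) .tip))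
(.node 17068107 1002 (.node 17068105 955 (.node 17068103 905 .tip .tip) .tip) (.node 17068111 812 (.node 17068109 700 .tip .tip) .tip))))
(.node 17070153 839
(.node 17068125 39
(.node 17068119 845 (.node 17068117 961 (.node 17068115 985 .tip .tip) .tip) (.node 17068123 35 (.node 17068121 1101 .tip .tip) .tip))
(.node 17070147 732 (.node 17070145 775 (.node 17068127 240 .tip .tip) .tip) (.node 17070151 736 (.node 17070149 876 .tip .tip) .tip)))
(.node 17070165 819
(.node 17070159 826 (.node 17070157 890 (.node 17070155 755 .tip .tip) .tip) (.node 17070163 1519 (.node 17070161 1071 .tip .tip) .tip))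
(.node 17070171 744 (.node 17070169 848 (.node 17070167 137 .tip .tip) .tip) (.node 17070175 120 (.node 17070173 785 .tip .tip) .tip))))))))
(.node 17190977 267
(.node 17133633 1503
(.node 17119297 180
(.node 17111121 607
(.node 17109081 1307
(.node 17109069 1233
(.node 17109063 424 (.node 17109061 1364 (.node 17109059 1281 .tip .tip) .tip) (.node 17109067 1237 (.node 17109065 1305 .tip .tip) .tip))
(.node 17109075 333 (.node 17109073 578 (.node 17109071 1300 .tip .tip) .tip) (.node 17109079 308 (.node 17109077 466 .tip .tip) .tip)))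
(.node 17111109 1422
(.node 17109087 1213 (.node 17109085 1343 (.node 17109083 1243 .tip .tip) .tip) (.node 17111107 402 (.node 17111105 567 .tip .tip) .tip))
(.node 17111115 1469 (.node 17111113 1410 (.node 17111111 1418 .tip .tip) .tip) (.node 17111119 510 (.node 17111117 1421 .tip .tip) .tip))))
(.node 17117257 1037
(.node 17111133 1420
(.node 17111127 1428 (.node 17111125 1423 (.node 17111123 421 .tip .tip) .tip) (.node 17111131 1462 (.node 17111129 1408 .tip .tip) .tip))
(.node 17117251 1056 (.node 17117249 1096 (.node 17111135 1437 .tip .tip) .tip) (.node 17117255 226 (.node 17117253 1046 .tip .tip) .tip)))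
(.node 17117269 1127
(.node 17117263 1064 (.node 17117261 1054 (.node 17117259 1118 .tip .tip) .tip) (.node 17117267 706 (.node 17117265 1160 .tip .tip) .tip))
(.node 17117275 1109 (.node 17117273 199 (.node 17117271 728 .tip .tip) .tip) (.node 17117279 258 (.node 17117277 263 .tip .tip) .tip)))))
(.node 17125457 1339
(.node 17119321 928
(.node 17119309 152
(.node 17119303 1084 (.node 17119301 1512 (.node 17119299 930 .tip .tip) .tip) (.node 17119307 1075 (.node 17119305 948 .tip .tip) .tip))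
(.node 17119315 272 (.node 17119313 213 (.node 17119311 158 .tip .tip) .tip) (.node 17119319 20 (.node 17119317 898 .tip .tip) .tip)))
(.node 17125445 1337
(.node 17119327 1125 (.node 17119325 1082 (.node 17119323 173 .tip .tip) .tip) (.node 17125443 399 (.node 17125441 394 .tip .tip) .tip))
(.node 17125451 1473 (.node 17125449 1461 (.node 17125447 1316 .tip .tip) .tip) (.node 17125455 451 (.node 17125453 411 .tip .tip) .tip))))
(.node 17127497 544
(.node 17125469 528
(.node 17125463 417 (.node 17125461 449 (.node 17125459 573 .tip .tip) .tip) (.node 17125467 55 (.node 17125465 62 .tip .tip) .tip))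
(.node 17127491 1471 (.node 17127489 1442 (.node 17125471 535 .tip .tip) .tip) (.node 17127495 1468 (.node 17127493 511 .tip .tip) .tip)))
(.node 17127509 507
(.node 17127503 72 (.node 17127501 559 (.node 17127499 98 .tip .tip) .tip) (.node 17127507 496 (.node 17127505 598 .tip .tip) .tip))
(.node 17127515 505 (.node 17127513 516 (.node 17127511 677 .tip .tip) .tip) (.node 17127519 632 (.node 17127517 1477 .tip .tip) .tip))))))
(.node 17176641 1006
(.node 17135697 765
(.node 17133657 1000
(.node 17133645 1052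
(.node 17133639 1116 (.node 17133637 914 (.node 17133635 977 .tip .tip) .tip) (.node 17133643 945 (.node 17133641 1061 .tip .tip) .tip))
(.node 17133651 200 (.node 17133649 940 (.node 17133647 162 .tip .tip) .tip) (.node 17133655 1128 (.node 17133653 900 .tip .tip) .tip)))
(.node 17135685 808
(.node 17133663 717 (.node 17133661 1535 (.node 17133659 951 .tip .tip) .tip) (.node 17135683 947 (.node 17135681 1532 .tip .tip) .tip))
(.node 17135691 916 (.node 17135689 1502 (.node 17135687 770 .tip .tip) .tip) (.node 17135695 1501 (.node 17135693 125 .tip .tip) .tip))))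
(.node 17174601 768
(.node 17135709 1019
(.node 17135703 769 (.node 17135701 1124 (.node 17135699 714 .tip .tip) .tip) (.node 17135707 834 (.node 17135705 756 .tip .tip) .tip))
(.node 17174595 703 (.node 17174593 816 (.node 17135711 1504 .tip .tip) .tip) (.node 17174599 719 (.node 17174597 1494 .tip .tip) .tip)))
(.node 17174613 1151
(.node 17174607 260 (.node 17174605 713 (.node 17174603 116 .tip .tip) .tip) (.node 17174611 1163 (.node 17174609 873 .tip .tip) .tip))
(.node 17174619 856 (.node 17174617 1035 (.node 17174615 716 .tip .tip) .tip) (.node 17174623 751 (.node 17174621 778 .tip .tip) .tip)))))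
(.node 17178705 502
(.node 17176665 735
(.node 17176653 908
(.node 17176647 1187 (.node 17176645 1147 (.node 17176643 784 .tip .tip) .tip) (.node 17176651 976 (.node 17176649 921 .tip .tip) .tip))
(.node 17176659 973 (.node 17176657 825 (.node 17176655 797 .tip .tip) .tip) (.node 17176663 171 (.node 17176661 1143 .tip .tip) .tip)))
(.node 17178693 512
(.node 17176671 246 (.node 17176669 1514 (.node 17176667 742 .tip .tip) .tip) (.node 17178691 310 (.node 17178689 1479 .tip .tip) .tip))
(.node 17178699 585 (.node 17178697 545 (.node 17178695 630 .tip .tip) .tip) (.node 17178703 73 (.node 17178701 1467 .tip .tip) .tip))))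
(.node 17180745 433
(.node 17178717 1481
(.node 17178711 678 (.node 17178709 634 (.node 17178707 497 .tip .tip) .tip) (.node 17178715 1369 (.node 17178713 517 .tip .tip) .tip))
(.node 17180739 581 (.node 17180737 59 (.node 17178719 1241 .tip .tip) .tip) (.node 17180743 532 (.node 17180741 602 .tip .tip) .tip)))
(.node 17180757 429
(.node 17180751 1412 (.node 17180749 448 (.node 17180747 642 .tip .tip) .tip) (.node 17180755 610 (.node 17180753 375 .tip .tip) .tip))
(.node 17180763 397 (.node 17180761 91 (.node 17180759 464 .tip .tip) .tip) (.node 17180767 552 (.node 17180765 437 .tip .tip) .tip)))))))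
(.node 17244225 1401
(.node 17197121 321
(.node 17193041 212
(.node 17191001 1044
(.node 17190989 252
(.node 17190983 202 (.node 17190981 195 (.node 17190979 1091 .tip .tip) .tip) (.node 17190987 718 (.node 17190985 1527 .tip .tip) .tip))
(.node 17190995 1051 (.node 17190993 779 (.node 17190991 1053 .tip .tip) .tip) (.node 17190999 1150 (.node 17190997 1172 .tip .tip) .tip)))
(.node 17193029 1078
(.node 17191007 863 (.node 17191005 1165 (.node 17191003 1047 .tip .tip) .tip) (.node 17193027 165 (.node 17193025 179 .tip .tip) .tip))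
(.node 17193035 168 (.node 17193033 1115 (.node 17193031 980 .tip .tip) .tip) (.node 17193039 290 (.node 17193037 151 .tip .tip) .tip))))
(.node 17195081 1230
(.node 17193053 1003
(.node 17193047 19 (.node 17193045 233 (.node 17193043 245 .tip .tip) .tip) (.node 17193051 172 (.node 17193049 903 .tip .tip) .tip))
(.node 17195075 1244 (.node 17195073 1483 (.node 17193055 956 .tip .tip) .tip) (.node 17195079 1214 (.node 17195077 338 .tip .tip) .tip)))
(.node 17195093 1234
(.node 17195087 309 (.node 17195085 1303 (.node 17195083 629 .tip .tip) .tip) (.node 17195091 473 (.node 17195089 1291 .tip .tip) .tip))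
(.node 17195099 1282 (.node 17195097 635 (.node 17195095 1330 .tip .tip) .tip) (.node 17195103 1198 (.node 17195101 1320 .tip .tip) .tip)))))
(.node 17240145 699
(.node 17197145 604
(.node 17197133 60
(.node 17197127 1457 (.node 17197125 1275 (.node 17197123 1425 .tip .tip) .tip) (.node 17197131 533 (.node 17197129 645 .tip .tip) .tip))
(.node 17197139 1431 (.node 17197137 445 (.node 17197135 1409 .tip .tip) .tip) (.node 17197143 398 (.node 17197141 412 .tip .tip) .tip)))
(.node 17240133 1039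
(.node 17197151 1267 (.node 17197149 1265 (.node 17197147 465 .tip .tip) .tip) (.node 17240131 850 (.node 17240129 38 .tip .tip) .tip))
(.node 17240139 844 (.node 17240137 859 (.node 17240135 30 .tip .tip) .tip) (.node 17240143 949 (.node 17240141 140 .tip .tip) .tip))))
(.node 17242185 943
(.node 17240157 283
(.node 17240151 893 (.node 17240149 1026 (.node 17240147 811 .tip .tip) .tip) (.node 17240155 996 (.node 17240153 2 .tip .tip) .tip))
(.node 17242179 915 (.node 17242177 1144 (.node 17240159 26 .tip .tip) .tip) (.node 17242183 896 (.node 17242181 1021 .tip .tip) .tip)))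
(.node 17242197 1060
(.node 17242191 1529 (.node 17242189 692 (.node 17242187 926 .tip .tip) .tip) (.node 17242195 918 (.node 17242193 789 .tip .tip) .tip))
(.node 17242203 924 (.node 17242201 913 (.node 17242199 1029 .tip .tip) .tip) (.node 17242207 1530 (.node 17242205 154 .tip .tip) .tip))))))
(.node 17258561 881
(.node 17246289 666
(.node 17244249 334
(.node 17244237 337
(.node 17244231 327 (.node 17244229 457 (.node 17244227 476 .tip .tip) .tip) (.node 17244235 665 (.node 17244233 387 .tip .tip) .tip))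
(.node 17244243 44 (.node 17244241 1340 (.node 17244239 1298 .tip .tip) .tip) (.node 17244247 1396 (.node 17244245 404 .tip .tip) .tip)))
(.node 17246277 414
(.node 17244255 1415 (.node 17244253 1394 (.node 17244251 351 .tip .tip) .tip) (.node 17246275 380 (.node 17246273 360 .tip .tip) .tip))
(.node 17246283 625 (.node 17246281 48 (.node 17246279 368 .tip .tip) .tip) (.node 17246287 523 (.node 17246285 1380 .tip .tip) .tip))))
(.node 17256521 870
(.node 17246301 1225
(.node 17246295 364 (.node 17246293 1454 (.node 17246291 391 .tip .tip) .tip) (.node 17246299 1402 (.node 17246297 643 .tip .tip) .tip))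
(.node 17256515 139 (.node 17256513 1158 (.node 17246303 460 .tip .tip) .tip) (.node 17256519 1168 (.node 17256517 967 .tip .tip) .tip)))
(.node 17256533 837
(.node 17256527 932 (.node 17256525 849 (.node 17256523 830 .tip .tip) .tip) (.node 17256531 705 (.node 17256529 1159 .tip .tip) .tip))
(.node 17256539 1181 (.node 17256537 892 (.node 17256535 1024 .tip .tip) .tip) (.node 17256543 257 (.node 17256541 841 .tip .tip) .tip)))))
(.node 17260625 1249
(.node 17258585 994
(.node 17258573 992
(.node 17258567 990 (.node 17258565 14 (.node 17258563 207 .tip .tip) .tip) (.node 17258571 878 (.node 17258569 910 .tip .tip) .tip))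
(.node 17258579 176 (.node 17258577 123 (.node 17258575 135 .tip .tip) .tip) (.node 17258583 1066 (.node 17258581 888 .tip .tip) .tip)))
(.node 17260613 1331
(.node 17258591 147 (.node 17258589 285 (.node 17258587 127 .tip .tip) .tip) (.node 17260611 1451 (.node 17260609 470 .tip .tip) .tip))
(.node 17260619 1194 (.node 17260617 1411 (.node 17260615 1433 .tip .tip) .tip) (.node 17260623 485 (.node 17260621 1201 .tip .tip) .tip))))
(.node 17262665 367
(.node 17260637 1209
(.node 17260631 1326 (.node 17260629 299 (.node 17260627 422 .tip .tip) .tip) (.node 17260635 403 (.node 17260633 1218 .tip .tip) .tip))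
(.node 17262659 90 (.node 17262657 564 (.node 17260639 1342 .tip .tip) .tip) (.node 17262663 106 (.node 17262661 87 .tip .tip) .tip)))
(.node 17262677 1206
(.node 17262671 1371 (.node 17262669 1257 (.node 17262667 1426 .tip .tip) .tip) (.node 17262675 1405 (.node 17262673 1374 .tip .tip) .tip))
(.node 17262683 79 (.node 17262681 657 (.node 17262679 1341 .tip .tip) .tip) (.node 17262687 661 (.node 17262685 9 .tip .tip) .tip)))))))))
(.node 17633345 469
(.node 17522753 1489
(.node 17461313 1355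
(.node 17446977 1345
(.node 17442897 122
(.node 17440857 902
(.node 17440845 868
(.node 17440839 950 (.node 17440837 142 (.node 17440835 164 .tip .tip) .tip) (.node 17440843 851 (.node 17440841 934 .tip .tip) .tip))
(.node 17440851 273 (.node 17440849 181 (.node 17440847 857 .tip .tip) .tip) (.node 17440855 953 (.node 17440853 232 .tip .tip) .tip)))
(.node 17442885 13
(.node 17440863 895 (.node 17440861 1027 (.node 17440859 1008 .tip .tip) .tip) (.node 17442883 206 (.node 17442881 118 .tip .tip) .tip))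
(.node 17442891 817 (.node 17442889 704 (.node 17442887 814 .tip .tip) .tip) (.node 17442895 134 (.node 17442893 114 .tip .tip) .tip))))
(.node 17444937 49
(.node 17442909 284
(.node 17442903 189 (.node 17442901 753 (.node 17442899 175 .tip .tip) .tip) (.node 17442907 763 (.node 17442905 749 .tip .tip) .tip))
(.node 17444931 381 (.node 17444929 492 (.node 17442911 146 .tip .tip) .tip) (.node 17444935 369 (.node 17444933 415 .tip .tip) .tip)))
(.node 17444949 1356
(.node 17444943 524 (.node 17444941 373 (.node 17444939 426 .tip .tip) .tip) (.node 17444947 392 (.node 17444945 482 .tip .tip) .tip))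
(.node 17444955 538 (.node 17444953 468 (.node 17444951 1406 .tip .tip) .tip) (.node 17444959 461 (.node 17444957 66 .tip .tip) .tip)))))
(.node 17457233 1013
(.node 17447001 454
(.node 17446989 558
(.node 17446983 304 (.node 17446981 354 (.node 17446979 311 .tip .tip) .tip) (.node 17446987 97 (.node 17446985 518 .tip .tip) .tip))
(.node 17446995 685 (.node 17446993 621 (.node 17446991 41 .tip .tip) .tip) (.node 17446999 663 (.node 17446997 384 .tip .tip) .tip)))
(.node 17457221 182
(.node 17447007 631 (.node 17447005 489 (.node 17447003 325 .tip .tip) .tip) (.node 17457219 952 (.node 17457217 1001 .tip .tip) .tip))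
(.node 17457227 691 (.node 17457225 941 (.node 17457223 1496 .tip .tip) .tip) (.node 17457231 1183 (.node 17457229 901 .tip .tip) .tip))))
(.node 17459273 929
(.node 17457245 1018
(.node 17457239 163 (.node 17457237 1058 (.node 17457235 946 .tip .tip) .tip) (.node 17457243 978 (.node 17457241 827 .tip .tip) .tip))
(.node 17459267 1063 (.node 17459265 745 (.node 17457247 1012 .tip .tip) .tip) (.node 17459271 1005 (.node 17459269 121 .tip .tip) .tip)))
(.node 17459285 197
(.node 17459279 820 (.node 17459277 975 (.node 17459275 907 .tip .tip) .tip) (.node 17459283 989 (.node 17459281 170 .tip .tip) .tip))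
(.node 17459291 776 (.node 17459289 733 (.node 17459287 1081 .tip .tip) .tip) (.node 17459295 877 (.node 17459293 741 .tip .tip) .tip))))))
(.node 17508417 927
(.node 17463377 355
(.node 17461337 1449
(.node 17461325 530
(.node 17461319 446 (.node 17461317 1239 (.node 17461315 1436 .tip .tip) .tip) (.node 17461323 57 (.node 17461321 509 .tip .tip) .tip))
(.node 17461331 671 (.node 17461329 395 (.node 17461327 423 .tip .tip) .tip) (.node 17461335 435 (.node 17461333 420 .tip .tip) .tip)))
(.node 17463365 336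
(.node 17461343 427 (.node 17461341 463 (.node 17461339 1434 .tip .tip) .tip) (.node 17463363 664 (.node 17463361 385 .tip .tip) .tip))
(.node 17463371 442 (.node 17463369 1452 (.node 17463367 318 .tip .tip) .tip) (.node 17463375 326 (.node 17463373 455 .tip .tip) .tip))))
(.node 17506377 1155
(.node 17463389 519
(.node 17463383 1354 (.node 17463381 1347 (.node 17463379 1286 .tip .tip) .tip) (.node 17463387 42 (.node 17463385 1313 .tip .tip) .tip))
(.node 17506371 1518 (.node 17506369 1097 (.node 17463391 322 .tip .tip) .tip) (.node 17506375 227 (.node 17506373 966 .tip .tip) .tip)))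
(.node 17506389 836
(.node 17506383 1126 (.node 17506381 1117 (.node 17506379 1119 .tip .tip) .tip) (.node 17506387 1508 (.node 17506385 1102 .tip .tip) .tip))
(.node 17506395 1122 (.node 17506393 957 (.node 17506391 248 .tip .tip) .tip) (.node 17506399 1131 (.node 17506397 1141 .tip .tip) .tip)))))
(.node 17510481 1328
(.node 17508441 919
(.node 17508429 251
(.node 17508423 883 (.node 17508421 194 (.node 17508419 805 .tip .tip) .tip) (.node 17508427 993 (.node 17508425 759 .tip .tip) .tip))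
(.node 17508435 795 (.node 17508433 925 (.node 17508431 1022 .tip .tip) .tip) (.node 17508439 156 (.node 17508437 787 .tip .tip) .tip)))
(.node 17510469 1463
(.node 17508447 922 (.node 17508445 129 (.node 17508443 791 .tip .tip) .tip) (.node 17510467 477 (.node 17510465 393 .tip .tip) .tip))
(.node 17510475 1424 (.node 17510473 1336 (.node 17510471 613 .tip .tip) .tip) (.node 17510479 450 (.node 17510477 410 .tip .tip) .tip))))
(.node 17512521 346
(.node 17510493 409
(.node 17510487 343 (.node 17510485 405 (.node 17510483 572 .tip .tip) .tip) (.node 17510491 54 (.node 17510489 1327 .tip .tip) .tip))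
(.node 17512515 617 (.node 17512513 680 (.node 17510495 1325 .tip .tip) .tip) (.node 17512519 651 (.node 17512517 1329 .tip .tip) .tip)))
(.node 17512533 605
(.node 17512527 569 (.node 17512525 1444 (.node 17512523 1484 .tip .tip) .tip) (.node 17512531 611 (.node 17512529 1438 .tip .tip) .tip))
(.node 17512539 1482 (.node 17512537 92 (.node 17512535 633 .tip .tip) .tip) (.node 17512543 553 (.node 17512541 1255 .tip .tip) .tip)))))))
(.node 17576001 1145
(.node 17528897 623
(.node 17524817 1526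
(.node 17522777 695
(.node 17522765 1516
(.node 17522759 1517 (.node 17522757 1166 (.node 17522755 835 .tip .tip) .tip) (.node 17522763 1531 (.node 17522761 766 .tip .tip) .tip))
(.node 17522771 715 (.node 17522769 799 (.node 17522767 1016 .tip .tip) .tip) (.node 17522775 1162 (.node 17522773 1498 .tip .tip) .tip)))
(.node 17524805 219
(.node 17522783 1154 (.node 17522781 1506 (.node 17522779 1495 .tip .tip) .tip) (.node 17524803 29 (.node 17524801 36 .tip .tip) .tip))
(.node 17524811 1490 (.node 17524809 1120 (.node 17524807 224 .tip .tip) .tip) (.node 17524815 981 (.node 17524813 936 .tip .tip) .tip))))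
(.node 17526857 1276
(.node 17524829 244
(.node 17524823 847 (.node 17524821 983 (.node 17524819 1510 .tip .tip) .tip) (.node 17524827 238 (.node 17524825 282 .tip .tip) .tip))
(.node 17526851 104 (.node 17526849 590 (.node 17524831 278 .tip .tip) .tip) (.node 17526855 592 (.node 17526853 112 .tip .tip) .tip)))
(.node 17526869 1207
(.node 17526863 1373 (.node 17526861 1317 (.node 17526859 1450 .tip .tip) .tip) (.node 17526867 1456 (.node 17526865 614 .tip .tip) .tip))
(.node 17526875 81 (.node 17526873 88 (.node 17526871 1240 .tip .tip) .tip) (.node 17526879 551 (.node 17526877 11 .tip .tip) .tip)))))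
(.node 17567825 406
(.node 17528921 1430
(.node 17528909 1216
(.node 17528903 1403 (.node 17528901 1486 (.node 17528899 1289 .tip .tip) .tip) (.node 17528907 1235 (.node 17528905 1232 .tip .tip) .tip))
(.node 17528915 1375 (.node 17528913 1301 (.node 17528911 1480 .tip .tip) .tip) (.node 17528919 332 (.node 17528917 1358 .tip .tip) .tip)))
(.node 17567813 1274
(.node 17528927 1338 (.node 17528925 362 (.node 17528923 1365 .tip .tip) .tip) (.node 17567811 1295 (.node 17567809 320 .tip .tip) .tip))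
(.node 17567819 1346 (.node 17567817 1269 (.node 17567815 478 .tip .tip) .tip) (.node 17567823 1414 (.node 17567821 1398 .tip .tip) .tip))))
(.node 17569865 1245
(.node 17567837 1264
(.node 17567831 344 (.node 17567829 441 (.node 17567827 1447 .tip .tip) .tip) (.node 17567835 1393 (.node 17567833 1271 .tip .tip) .tip))
(.node 17569859 550 (.node 17569857 563 (.node 17567839 1315 .tip .tip) .tip) (.node 17569863 105 (.node 17569861 86 .tip .tip) .tip)))
(.node 17569877 1427
(.node 17569871 658 (.node 17569869 586 (.node 17569867 1221 .tip .tip) .tip) (.node 17569875 1279 (.node 17569873 1283 .tip .tip) .tip))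
(.node 17569883 600 (.node 17569881 656 (.node 17569879 1363 .tip .tip) .tip) (.node 17569887 660 (.node 17569885 491 .tip .tip) .tip))))))
(.node 17586241 576
(.node 17578065 874
(.node 17576025 1513
(.node 17576013 1086
(.node 17576007 897 (.node 17576005 739 (.node 17576003 1023 .tip .tip) .tip) (.node 17576011 185 (.node 17576009 982 .tip .tip) .tip))
(.node 17576019 793 (.node 17576017 790 (.node 17576015 1520 .tip .tip) .tip) (.node 17576023 1040 (.node 17576021 920 .tip .tip) .tip)))
(.node 17578053 1099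
(.node 17576031 1014 (.node 17576029 155 (.node 17576027 764 .tip .tip) .tip) (.node 17578051 236 (.node 17578049 280 .tip .tip) .tip))
(.node 17578059 117 (.node 17578057 1107 (.node 17578055 720 .tip .tip) .tip) (.node 17578063 261 (.node 17578061 1065 .tip .tip) .tip))))
(.node 17584201 1460
(.node 17578077 801
(.node 17578071 1190 (.node 17578069 1152 (.node 17578067 1179 .tip .tip) .tip) (.node 17578075 938 (.node 17578073 1036 .tip .tip) .tip))
(.node 17584195 1368 (.node 17584193 624 (.node 17578079 752 .tip .tip) .tip) (.node 17584199 1404 (.node 17584197 1446 .tip .tip) .tip)))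
(.node 17584213 1359
(.node 17584207 638 (.node 17584205 440 (.node 17584203 1366 .tip .tip) .tip) (.node 17584211 1376 (.node 17584209 1387 .tip .tip) .tip))
(.node 17584219 1445 (.node 17584217 1475 (.node 17584215 1360 .tip .tip) .tip) (.node 17584223 479 (.node 17584221 363 .tip .tip) .tip)))))
(.node 17592401 169
(.node 17586265 1413
(.node 17586253 531
(.node 17586247 447 (.node 17586245 589 (.node 17586243 432 .tip .tip) .tip) (.node 17586251 58 (.node 17586249 580 .tip .tip) .tip))
(.node 17586259 672 (.node 17586257 396 (.node 17586255 601 .tip .tip) .tip) (.node 17586263 436 (.node 17586261 583 .tip .tip) .tip)))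
(.node 17592389 1140
(.node 17586271 428 (.node 17586269 85 (.node 17586267 549 .tip .tip) .tip) (.node 17592387 1515 (.node 17592385 710 .tip .tip) .tip))
(.node 17592395 831 (.node 17592393 838 (.node 17592391 1004 .tip .tip) .tip) (.node 17592399 964 (.node 17592397 974 .tip .tip) .tip))))
(.node 17594441 954
(.node 17592413 740
(.node 17592407 1080 (.node 17592405 1156 (.node 17592403 1534 .tip .tip) .tip) (.node 17592411 1169 (.node 17592409 968 .tip .tip) .tip))
(.node 17594435 28 (.node 17594433 959 (.node 17592415 1500 .tip .tip) .tip) (.node 17594439 904 (.node 17594437 218 .tip .tip) .tip)))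
(.node 17594453 960
(.node 17594447 1533 (.node 17594445 1098 (.node 17594443 234 .tip .tip) .tip) (.node 17594451 1132 (.node 17594449 979 .tip .tip) .tip))
(.node 17594459 237 (.node 17594457 281 (.node 17594455 846 .tip .tip) .tip) (.node 17594463 230 (.node 17594461 166 .tip .tip) .tip))))))))
(.node 17715265 157
(.node 17657921 286
(.node 17643585 1177
(.node 17635409 591
(.node 17633369 1256
(.node 17633357 1311
(.node 17633351 618 (.node 17633349 681 (.node 17633347 652 .tip .tip) .tip) (.node 17633355 1459 (.node 17633353 1392 .tip .tip) .tip))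
(.node 17633363 315 (.node 17633361 606 (.node 17633359 570 .tip .tip) .tip) (.node 17633367 612 (.node 17633365 1253 .tip .tip) .tip)))
(.node 17635397 382
(.node 17633375 1259 (.node 17633373 93 (.node 17633371 554 .tip .tip) .tip) (.node 17635395 416 (.node 17635393 370 .tip .tip) .tip))
(.node 17635403 378 (.node 17635401 525 (.node 17635399 1260 .tip .tip) .tip) (.node 17635407 50 (.node 17635405 688 .tip .tip) .tip))))
(.node 17641545 145
(.node 17635421 1453
(.node 17635415 667 (.node 17635413 101 (.node 17635411 561 .tip .tip) .tip) (.node 17635419 649 (.node 17635417 462 .tip .tip) .tip))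
(.node 17641539 16 (.node 17641537 933 (.node 17635423 644 .tip .tip) .tip) (.node 17641543 854 (.node 17641541 209 .tip .tip) .tip)))
(.node 17641557 178
(.node 17641551 159 (.node 17641549 141 (.node 17641547 730 .tip .tip) .tip) (.node 17641555 271 (.node 17641553 1182 .tip .tip) .tip))
(.node 17641563 287 (.node 17641561 149 (.node 17641559 894 .tip .tip) .tip) (.node 17641567 999 (.node 17641565 1009 .tip .tip) .tip)))))
(.node 17649745 597
(.node 17643609 250
(.node 17643597 275
(.node 17643591 1153 (.node 17643589 1010 (.node 17643587 1149 .tip .tip) .tip) (.node 17643595 295 (.node 17643593 254 .tip .tip) .tip))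
(.node 17643603 31 (.node 17643601 1164 (.node 17643599 798 .tip .tip) .tip) (.node 17643607 727 (.node 17643605 220 .tip .tip) .tip)))
(.node 17649733 504
(.node 17643615 247 (.node 17643613 264 (.node 17643611 1110 .tip .tip) .tip) (.node 17649731 1386 (.node 17649729 555 .tip .tip) .tip))
(.node 17649739 1478 (.node 17649737 543 (.node 17649735 94 .tip .tip) .tip) (.node 17649743 71 (.node 17649741 616 .tip .tip) .tip))))
(.node 17651785 75
(.node 17649757 619
(.node 17649751 676 (.node 17649749 1193 (.node 17649747 495 .tip .tip) .tip) (.node 17649755 513 (.node 17649753 501 .tip .tip) .tip))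
(.node 17651779 400 (.node 17651777 386 (.node 17649759 682 .tip .tip) .tip) (.node 17651783 1204 (.node 17651781 47 .tip .tip) .tip)))
(.node 17651797 51
(.node 17651791 4 (.node 17651789 456 (.node 17651787 1246 .tip .tip) .tip) (.node 17651795 459 (.node 17651793 330 .tip .tip) .tip))
(.node 17651803 43 (.node 17651801 63 (.node 17651799 107 .tip .tip) .tip) (.node 17651807 390 (.node 17651805 520 .tip .tip) .tip))))))
(.node 17700929 815
(.node 17659985 23
(.node 17657945 15
(.node 17657933 124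
(.node 17657927 132 (.node 17657925 995 (.node 17657923 148 .tip .tip) .tip) (.node 17657931 1067 (.node 17657929 889 .tip .tip) .tip))
(.node 17657939 136 (.node 17657937 773 (.node 17657935 177 .tip .tip) .tip) (.node 17657943 879 (.node 17657941 911 .tip .tip) .tip)))
(.node 17659973 842
(.node 17657951 208 (.node 17657949 886 (.node 17657947 991 .tip .tip) .tip) (.node 17659971 1184 (.node 17659969 1095 .tip .tip) .tip))
(.node 17659979 690 (.node 17659977 293 (.node 17659975 204 .tip .tip) .tip) (.node 17659983 242 (.node 17659981 192 .tip .tip) .tip))))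
(.node 17698889 988
(.node 17659997 1092
(.node 17659991 216 (.node 17659989 1104 (.node 17659987 253 .tip .tip) .tip) (.node 17659995 196 (.node 17659993 1135 .tip .tip) .tip))
(.node 17698883 228 (.node 17698881 774 (.node 17659999 1011 .tip .tip) .tip) (.node 17698887 1180 (.node 17698885 875 .tip .tip) .tip)))
(.node 17698901 818
(.node 17698895 971 (.node 17698893 1148 (.node 17698891 754 .tip .tip) .tip) (.node 17698899 729 (.node 17698897 1103 .tip .tip) .tip))
(.node 17698907 743 (.node 17698905 726 (.node 17698903 249 .tip .tip) .tip) (.node 17698911 119 (.node 17698909 958 .tip .tip) .tip)))))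
(.node 17702993 608
(.node 17700953 1034
(.node 17700941 235
(.node 17700935 708 (.node 17700933 1130 (.node 17700931 702 .tip .tip) .tip) (.node 17700939 115 (.node 17700937 1113 .tip .tip) .tip))
(.node 17700947 1137 (.node 17700945 190 (.node 17700943 279 .tip .tip) .tip) (.node 17700951 1089 (.node 17700949 1038 .tip .tip) .tip)))
(.node 17702981 1312
(.node 17700959 750 (.node 17700957 987 (.node 17700955 833 .tip .tip) .tip) (.node 17702979 582 (.node 17702977 568 .tip .tip) .tip))
(.node 17702987 83 (.node 17702985 1440 (.node 17702983 571 .tip .tip) .tip) (.node 17702991 1285 (.node 17702989 547 .tip .tip) .tip))))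
(.node 17705033 303
(.node 17703005 1254
(.node 17702999 575 (.node 17702997 430 (.node 17702995 587 .tip .tip) .tip) (.node 17703003 316 (.node 17703001 1439 .tip .tip) .tip))
(.node 17705027 675 (.node 17705025 40 (.node 17703007 1273 .tip .tip) .tip) (.node 17705031 494 (.node 17705029 313 .tip .tip) .tip)))
(.node 17705045 324
(.node 17705039 1344 (.node 17705037 306 (.node 17705035 353 .tip .tip) .tip) (.node 17705043 488 (.node 17705041 503 .tip .tip) .tip))
(.node 17705051 69 (.node 17705049 615 (.node 17705047 453 .tip .tip) .tip) (.node 17705055 1299 (.node 17705053 541 .tip .tip) .tip)))))))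
(.node 17768513 372
(.node 17721409 540
(.node 17717329 22
(.node 17715289 909
(.node 17715277 150
(.node 17715271 1076 (.node 17715269 1083 (.node 17715267 174 .tip .tip) .tip) (.node 17715275 1074 (.node 17715273 1114 .tip .tip) .tip))
(.node 17715283 1121 (.node 17715281 211 (.node 17715279 289 .tip .tip) .tip) (.node 17715287 18 (.node 17715285 984 .tip .tip) .tip)))
(.node 17717317 183
(.node 17715295 229 (.node 17715293 1077 (.node 17715291 160 .tip .tip) .tip) (.node 17717315 1085 (.node 17717313 1042 .tip .tip) .tip))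
(.node 17717323 781 (.node 17717321 292 (.node 17717319 203 .tip .tip) .tip) (.node 17717327 241 (.node 17717325 191 .tip .tip) .tip))))
(.node 17719369 76
(.node 17717341 187
(.node 17717335 215 (.node 17717333 1171 (.node 17717331 1062 .tip .tip) .tip) (.node 17717339 1048 (.node 17717337 828 .tip .tip) .tip))
(.node 17719363 56 (.node 17719361 673 (.node 17717343 1186 .tip .tip) .tip) (.node 17719367 317 (.node 17719365 529 .tip .tip) .tip)))
(.node 17719381 52
(.node 17719375 5 (.node 17719373 668 (.node 17719371 574 .tip .tip) .tip) (.node 17719379 526 (.node 17719377 565 .tip .tip) .tip))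
(.node 17719387 670 (.node 17719385 64 (.node 17719383 108 .tip .tip) .tip) (.node 17719391 536 (.node 17719389 1261 .tip .tip) .tip)))))
(.node 17764433 788
(.node 17721433 595
(.node 17721421 1304
(.node 17721415 68 (.node 17721413 1470 (.node 17721411 1288 .tip .tip) .tip) (.node 17721419 484 (.node 17721417 1231 .tip .tip) .tip))
(.node 17721427 472 (.node 17721425 515 (.node 17721423 639 .tip .tip) .tip) (.node 17721431 331 (.node 17721429 1474 .tip .tip) .tip)))
(.node 17764421 1522
(.node 17721439 480 (.node 17721437 1306 (.node 17721435 493 .tip .tip) .tip) (.node 17764419 884 (.node 17764417 937 .tip .tip) .tip))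
(.node 17764427 944 (.node 17764425 738 (.node 17764423 806 .tip .tip) .tip) (.node 17764431 161 (.node 17764429 760 .tip .tip) .tip))))
(.node 17766473 858
(.node 17764445 970
(.node 17764439 796 (.node 17764437 899 (.node 17764435 822 .tip .tip) .tip) (.node 17764443 923 (.node 17764441 130 .tip .tip) .tip))
(.node 17766467 298 (.node 17766465 867 (.node 17764447 792 .tip .tip) .tip) (.node 17766471 1133 (.node 17766469 144 .tip .tip) .tip)))
(.node 17766485 274
(.node 17766479 872 (.node 17766477 1192 (.node 17766475 853 .tip .tip) .tip) (.node 17766483 998 (.node 17766481 962 .tip .tip) .tip))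
(.node 17766491 34 (.node 17766489 1100 (.node 17766487 1146 .tip .tip) .tip) (.node 17766495 239 (.node 17766493 223 .tip .tip) .tip))))))
(.node 17782849 709
(.node 17770577 408
(.node 17768537 438
(.node 17768525 1379
(.node 17768519 425 (.node 17768517 689 (.node 17768515 379 .tip .tip) .tip) (.node 17768523 1382 (.node 17768521 1223 .tip .tip) .tip))
(.node 17768531 650 (.node 17768529 579 (.node 17768527 1377 .tip .tip) .tip) (.node 17768535 647 (.node 17768533 467 .tip .tip) .tip)))
(.node 17770565 458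
(.node 17768543 1458 (.node 17768541 102 (.node 17768539 562 .tip .tip) .tip) (.node 17770563 500 (.node 17770561 1397 .tip .tip) .tip))
(.node 17770571 418 (.node 17770569 388 (.node 17770567 328 .tip .tip) .tip) (.node 17770575 1294 (.node 17770573 349 .tip .tip) .tip))))
(.node 17780809 803
(.node 17770589 345
(.node 17770583 1350 (.node 17770581 521 (.node 17770579 45 .tip .tip) .tip) (.node 17770587 342 (.node 17770585 356 .tip .tip) .tip))
(.node 17780803 1031 (.node 17780801 1069 (.node 17770591 1416 .tip .tip) .tip) (.node 17780807 131 (.node 17780805 1521 .tip .tip) .tip)))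
(.node 17780821 1488
(.node 17780815 939 (.node 17780813 823 (.node 17780811 1528 .tip .tip) .tip) (.node 17780819 761 (.node 17780817 772 .tip .tip) .tip))
(.node 17780827 1525 (.node 17780825 696 (.node 17780823 1138 .tip .tip) .tip) (.node 17780831 972 (.node 17780829 885 .tip .tip) .tip)))))
(.node 17784913 1435
(.node 17782873 1105
(.node 17782861 1111
(.node 17782855 1188 (.node 17782853 33 (.node 17782851 222 .tip .tip) .tip) (.node 17782859 266 (.node 17782857 1045 .tip .tip) .tip))
(.node 17782867 1093 (.node 17782865 262 (.node 17782863 963 .tip .tip) .tip) (.node 17782871 1108 (.node 17782869 198 .tip .tip) .tip)))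
(.node 17784901 111
(.node 17782879 256 (.node 17782877 297 (.node 17782875 277 .tip .tip) .tip) (.node 17784899 103 (.node 17784897 556 .tip .tip) .tip))
(.node 17784907 686 (.node 17784905 622 (.node 17784903 95 .tip .tip) .tip) (.node 17784911 1372 (.node 17784909 655 .tip .tip) .tip))))
(.node 17786953 508
(.node 17784925 10
(.node 17784919 1222 (.node 17784917 560 (.node 17784915 99 .tip .tip) .tip) (.node 17784923 80 (.node 17784921 653 .tip .tip) .tip))
(.node 17786947 1455 (.node 17786945 1432 (.node 17784927 683 .tip .tip) .tip) (.node 17786951 1297 (.node 17786949 1238 .tip .tip) .tip)))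
(.node 17786965 419
(.node 17786959 1196 (.node 17786957 1200 (.node 17786955 1332 .tip .tip) .tip) (.node 17786963 348 (.node 17786961 1429 .tip .tip) .tip))
(.node 17786971 1227 (.node 17786969 1352 (.node 17786967 1465 .tip .tip) .tip) (.node 17786975 1302 (.node 17786973 1334 .tip .tip) .tip))))))))))

/-- The reasons. -/
def caseBFullN1HowLL : Tab (ℕ × ℕ) :=
(.node 192 (.node 96 (.node 48 (.node 24 (.node 12 (.node 6 (.node 3 (.node 1 (.leaf (0, 0)) (.node 1 (.leaf (20, 0)) (.leaf (21, 0)))) (.node 1 (.leaf (22, 0)) (.node 1 (.leaf (20, 1)) (.leaf (21, 1)))))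
(.node 3 (.node 1 (.leaf (22, 1)) (.node 1 (.leaf (20, 2)) (.leaf (21, 2)))) (.node 1 (.leaf (22, 2)) (.node 1 (.leaf (20, 3)) (.leaf (21, 3))))))
(.node 6 (.node 3 (.node 1 (.leaf (22, 3)) (.node 1 (.leaf (20, 4)) (.leaf (21, 4)))) (.node 1 (.leaf (22, 4)) (.node 1 (.leaf (20, 5)) (.leaf (21, 5)))))
(.node 3 (.node 1 (.leaf (22, 5)) (.node 1 (.leaf (20, 6)) (.leaf (21, 6)))) (.node 1 (.leaf (22, 6)) (.node 1 (.leaf (20, 7)) (.leaf (21, 7)))))))
(.node 12 (.node 6 (.node 3 (.node 1 (.leaf (22, 7)) (.node 1 (.leaf (20, 8)) (.leaf (21, 8)))) (.node 1 (.leaf (22, 8)) (.node 1 (.leaf (20, 9)) (.leaf (21, 9)))))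
(.node 3 (.node 1 (.leaf (22, 9)) (.node 1 (.leaf (20, 10)) (.leaf (21, 10)))) (.node 1 (.leaf (22, 10)) (.node 1 (.leaf (20, 11)) (.leaf (21, 11))))))
(.node 6 (.node 3 (.node 1 (.leaf (22, 11)) (.node 1 (.leaf (20, 12)) (.leaf (21, 12)))) (.node 1 (.leaf (22, 12)) (.node 1 (.leaf (21, 13)) (.leaf (22, 13)))))
(.node 3 (.node 1 (.leaf (20, 14)) (.node 1 (.leaf (21, 14)) (.leaf (22, 14)))) (.node 1 (.leaf (20, 15)) (.node 1 (.leaf (21, 15)) (.leaf (22, 15))))))))
(.node 24 (.node 12 (.node 6 (.node 3 (.node 1 (.leaf (20, 16)) (.node 1 (.leaf (21, 16)) (.leaf (22, 16)))) (.node 1 (.leaf (20, 17)) (.node 1 (.leaf (21, 17)) (.leaf (22, 17)))))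
(.node 3 (.node 1 (.leaf (20, 18)) (.node 1 (.leaf (21, 18)) (.leaf (22, 18)))) (.node 1 (.leaf (20, 19)) (.node 1 (.leaf (21, 19)) (.leaf (22, 19))))))
(.node 6 (.node 3 (.node 1 (.leaf (20, 20)) (.node 1 (.leaf (21, 20)) (.leaf (22, 20)))) (.node 1 (.leaf (20, 21)) (.node 1 (.leaf (21, 21)) (.leaf (22, 21)))))
(.node 3 (.node 1 (.leaf (20, 22)) (.node 1 (.leaf (21, 22)) (.leaf (22, 22)))) (.node 1 (.leaf (20, 23)) (.node 1 (.leaf (21, 23)) (.leaf (22, 23)))))))
(.node 12 (.node 6 (.node 3 (.node 1 (.leaf (20, 24)) (.node 1 (.leaf (21, 24)) (.leaf (22, 24)))) (.node 1 (.leaf (20, 25)) (.node 1 (.leaf (21, 25)) (.leaf (22, 25)))))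
(.node 3 (.node 1 (.leaf (20, 26)) (.node 1 (.leaf (22, 26)) (.leaf (20, 27)))) (.node 1 (.leaf (21, 27)) (.node 1 (.leaf (22, 27)) (.leaf (20, 28))))))
(.node 6 (.node 3 (.node 1 (.leaf (21, 28)) (.node 1 (.leaf (22, 28)) (.leaf (20, 29)))) (.node 1 (.leaf (21, 29)) (.node 1 (.leaf (22, 29)) (.leaf (20, 30)))))
(.node 3 (.node 1 (.leaf (22, 30)) (.node 1 (.leaf (20, 31)) (.leaf (21, 31)))) (.node 1 (.leaf (22, 31)) (.node 1 (.leaf (20, 32)) (.leaf (21, 32)))))))))
(.node 48 (.node 24 (.node 12 (.node 6 (.node 3 (.node 1 (.leaf (22, 32)) (.node 1 (.leaf (20, 33)) (.leaf (21, 33)))) (.node 1 (.leaf (22, 33)) (.node 1 (.leaf (20, 34)) (.leaf (21, 34)))))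
(.node 3 (.node 1 (.leaf (22, 34)) (.node 1 (.leaf (20, 35)) (.leaf (21, 35)))) (.node 1 (.leaf (20, 36)) (.node 1 (.leaf (21, 36)) (.leaf (20, 37))))))
(.node 6 (.node 3 (.node 1 (.leaf (21, 37)) (.node 1 (.leaf (22, 37)) (.leaf (20, 38)))) (.node 1 (.leaf (20, 39)) (.node 1 (.leaf (21, 39)) (.leaf (20, 40)))))
(.node 3 (.node 1 (.leaf (21, 40)) (.node 1 (.leaf (22, 40)) (.leaf (20, 41)))) (.node 1 (.leaf (21, 41)) (.node 1 (.leaf (22, 41)) (.leaf (20, 42)))))))
(.node 12 (.node 6 (.node 3 (.node 1 (.leaf (21, 42)) (.node 1 (.leaf (22, 42)) (.leaf (20, 43)))) (.node 1 (.leaf (21, 43)) (.node 1 (.leaf (22, 43)) (.leaf (20, 44)))))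
(.node 3 (.node 1 (.leaf (21, 44)) (.node 1 (.leaf (22, 44)) (.leaf (20, 45)))) (.node 1 (.leaf (21, 45)) (.node 1 (.leaf (22, 45)) (.leaf (20, 46))))))
(.node 6 (.node 3 (.node 1 (.leaf (21, 46)) (.node 1 (.leaf (22, 46)) (.leaf (20, 47)))) (.node 1 (.leaf (21, 47)) (.node 1 (.leaf (22, 47)) (.leaf (20, 48)))))
(.node 3 (.node 1 (.leaf (21, 48)) (.node 1 (.leaf (22, 48)) (.leaf (20, 49)))) (.node 1 (.leaf (21, 49)) (.node 1 (.leaf (22, 49)) (.leaf (20, 50))))))))
(.node 24 (.node 12 (.node 6 (.node 3 (.node 1 (.leaf (21, 50)) (.node 1 (.leaf (22, 50)) (.leaf (20, 51)))) (.node 1 (.leaf (21, 51)) (.node 1 (.leaf (22, 51)) (.leaf (20, 52)))))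
(.node 3 (.node 1 (.leaf (22, 52)) (.node 1 (.leaf (20, 53)) (.leaf (21, 53)))) (.node 1 (.leaf (22, 53)) (.node 1 (.leaf (20, 54)) (.leaf (21, 54))))))
(.node 6 (.node 3 (.node 1 (.leaf (22, 54)) (.node 1 (.leaf (21, 55)) (.leaf (22, 55)))) (.node 1 (.leaf (20, 56)) (.node 1 (.leaf (22, 56)) (.leaf (20, 57)))))
(.node 3 (.node 1 (.leaf (21, 57)) (.node 1 (.leaf (22, 57)) (.leaf (20, 58)))) (.node 1 (.leaf (21, 58)) (.node 1 (.leaf (22, 58)) (.leaf (21, 59)))))))
(.node 12 (.node 6 (.node 3 (.node 1 (.leaf (22, 59)) (.node 1 (.leaf (20, 60)) (.leaf (21, 60)))) (.node 1 (.leaf (22, 60)) (.node 1 (.leaf (20, 61)) (.leaf (21, 61)))))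
(.node 3 (.node 1 (.leaf (21, 62)) (.node 1 (.leaf (20, 63)) (.leaf (21, 63)))) (.node 1 (.leaf (22, 63)) (.node 1 (.leaf (20, 64)) (.leaf (20, 65))))))
(.node 6 (.node 3 (.node 1 (.leaf (21, 65)) (.node 1 (.leaf (22, 66)) (.leaf (20, 67)))) (.node 1 (.leaf (21, 67)) (.node 1 (.leaf (22, 67)) (.leaf (20, 68)))))
(.node 3 (.node 1 (.leaf (21, 68)) (.node 1 (.leaf (22, 68)) (.leaf (20, 69)))) (.node 1 (.leaf (21, 69)) (.node 1 (.leaf (22, 69)) (.leaf (20, 70))))))))))
(.node 96 (.node 48 (.node 24 (.node 12 (.node 6 (.node 3 (.node 1 (.leaf (21, 70)) (.node 1 (.leaf (22, 70)) (.leaf (20, 71)))) (.node 1 (.leaf (21, 71)) (.node 1 (.leaf (22, 71)) (.leaf (20, 72)))))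
(.node 3 (.node 1 (.leaf (21, 72)) (.node 1 (.leaf (22, 72)) (.leaf (20, 73)))) (.node 1 (.leaf (21, 73)) (.node 1 (.leaf (22, 73)) (.leaf (20, 74))))))
(.node 6 (.node 3 (.node 1 (.leaf (21, 74)) (.node 1 (.leaf (22, 74)) (.leaf (20, 75)))) (.node 1 (.leaf (21, 75)) (.node 1 (.leaf (22, 75)) (.leaf (20, 76)))))
(.node 3 (.node 1 (.leaf (21, 76)) (.node 1 (.leaf (22, 76)) (.leaf (20, 77)))) (.node 1 (.leaf (21, 77)) (.node 1 (.leaf (22, 77)) (.leaf (20, 78)))))))
(.node 12 (.node 6 (.node 3 (.node 1 (.leaf (21, 78)) (.node 1 (.leaf (22, 78)) (.leaf (20, 79)))) (.node 1 (.leaf (21, 79)) (.node 1 (.leaf (20, 80)) (.leaf (21, 80)))))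
(.node 3 (.node 1 (.leaf (22, 80)) (.node 1 (.leaf (20, 81)) (.leaf (22, 81)))) (.node 1 (.leaf (20, 82)) (.node 1 (.leaf (20, 83)) (.leaf (21, 83))))))
(.node 6 (.node 3 (.node 1 (.leaf (22, 83)) (.node 1 (.leaf (20, 84)) (.leaf (21, 84)))) (.node 1 (.leaf (22, 84)) (.node 1 (.leaf (20, 85)) (.leaf (21, 85)))))
(.node 3 (.node 1 (.leaf (22, 85)) (.node 1 (.leaf (21, 86)) (.leaf (22, 86)))) (.node 1 (.leaf (20, 87)) (.node 1 (.leaf (21, 87)) (.leaf (20, 88))))))))
(.node 24 (.node 12 (.node 6 (.node 3 (.node 1 (.leaf (21, 88)) (.node 1 (.leaf (20, 89)) (.leaf (21, 89)))) (.node 1 (.leaf (22, 89)) (.node 1 (.leaf (21, 90)) (.leaf (22, 91)))))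
(.node 3 (.node 1 (.leaf (20, 92)) (.node 1 (.leaf (21, 92)) (.leaf (22, 92)))) (.node 1 (.leaf (21, 93)) (.node 1 (.leaf (22, 93)) (.leaf (20, 94))))))
(.node 6 (.node 3 (.node 1 (.leaf (21, 94)) (.node 1 (.leaf (22, 94)) (.leaf (20, 95)))) (.node 1 (.leaf (21, 95)) (.node 1 (.leaf (22, 95)) (.leaf (20, 96)))))
(.node 3 (.node 1 (.leaf (21, 96)) (.node 1 (.leaf (22, 96)) (.leaf (20, 97)))) (.node 1 (.leaf (21, 97)) (.node 1 (.leaf (21, 98)) (.leaf (22, 98)))))))
(.node 12 (.node 6 (.node 3 (.node 1 (.leaf (20, 99)) (.node 1 (.leaf (21, 99)) (.leaf (22, 99)))) (.node 1 (.leaf (20, 100)) (.node 1 (.leaf (21, 100)) (.leaf (22, 100)))))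
(.node 3 (.node 1 (.leaf (20, 101)) (.node 1 (.leaf (22, 101)) (.leaf (20, 102)))) (.node 1 (.leaf (21, 102)) (.node 1 (.leaf (22, 102)) (.leaf (20, 103))))))
(.node 6 (.node 3 (.node 1 (.leaf (21, 103)) (.node 1 (.leaf (22, 103)) (.leaf (22, 104)))) (.node 1 (.leaf (21, 105)) (.node 1 (.leaf (22, 105)) (.leaf (20, 106)))))
(.node 3 (.node 1 (.leaf (21, 106)) (.node 1 (.leaf (22, 106)) (.leaf (20, 107)))) (.node 1 (.leaf (21, 107)) (.node 1 (.leaf (22, 107)) (.leaf (20, 108)))))))))
(.node 48 (.node 24 (.node 12 (.node 6 (.node 3 (.node 1 (.leaf (21, 108)) (.node 1 (.leaf (22, 108)) (.leaf (20, 109)))) (.node 1 (.leaf (22, 109)) (.node 1 (.leaf (20, 110)) (.leaf (21, 110)))))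
(.node 3 (.node 1 (.leaf (22, 110)) (.node 1 (.leaf (20, 111)) (.leaf (21, 111)))) (.node 1 (.leaf (22, 111)) (.node 1 (.leaf (20, 112)) (.leaf (20, 113))))))
(.node 6 (.node 3 (.node 1 (.leaf (21, 113)) (.node 1 (.leaf (22, 113)) (.leaf (20, 114)))) (.node 1 (.leaf (21, 114)) (.node 1 (.leaf (22, 114)) (.leaf (20, 115)))))
(.node 3 (.node 1 (.leaf (22, 115)) (.node 1 (.leaf (20, 116)) (.leaf (21, 116)))) (.node 1 (.leaf (22, 116)) (.node 1 (.leaf (20, 117)) (.leaf (21, 117)))))))
(.node 12 (.node 6 (.node 3 (.node 1 (.leaf (20, 118)) (.node 1 (.leaf (21, 118)) (.leaf (20, 119)))) (.node 1 (.leaf (21, 119)) (.node 1 (.leaf (22, 119)) (.leaf (20, 120)))))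
(.node 3 (.node 1 (.leaf (21, 120)) (.node 1 (.leaf (22, 120)) (.leaf (20, 121)))) (.node 1 (.leaf (21, 121)) (.node 1 (.leaf (22, 121)) (.leaf (20, 122))))))
(.node 6 (.node 3 (.node 1 (.leaf (21, 122)) (.node 1 (.leaf (22, 122)) (.leaf (20, 123)))) (.node 1 (.leaf (22, 123)) (.node 1 (.leaf (20, 124)) (.leaf (21, 124)))))
(.node 3 (.node 1 (.leaf (22, 124)) (.node 1 (.leaf (20, 125)) (.leaf (21, 125)))) (.node 1 (.leaf (22, 125)) (.node 1 (.leaf (21, 126)) (.leaf (22, 126))))))))
(.node 24 (.node 12 (.node 6 (.node 3 (.node 1 (.leaf (20, 127)) (.node 1 (.leaf (22, 127)) (.leaf (20, 128)))) (.node 1 (.leaf (21, 128)) (.node 1 (.leaf (22, 128)) (.leaf (20, 129)))))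
(.node 3 (.node 1 (.leaf (21, 129)) (.node 1 (.leaf (22, 129)) (.leaf (21, 130)))) (.node 1 (.leaf (22, 130)) (.node 1 (.leaf (20, 131)) (.leaf (21, 131))))))
(.node 6 (.node 3 (.node 1 (.leaf (22, 131)) (.node 1 (.leaf (20, 132)) (.leaf (21, 132)))) (.node 1 (.leaf (21, 133)) (.node 1 (.leaf (20, 134)) (.leaf (21, 134)))))
(.node 3 (.node 1 (.leaf (22, 134)) (.node 1 (.leaf (20, 135)) (.leaf (20, 136)))) (.node 1 (.leaf (21, 136)) (.node 1 (.leaf (22, 137)) (.leaf (20, 138)))))))
(.node 12 (.node 6 (.node 3 (.node 1 (.leaf (21, 138)) (.node 1 (.leaf (22, 138)) (.leaf (20, 139)))) (.node 1 (.leaf (21, 139)) (.node 1 (.leaf (22, 139)) (.leaf (20, 140)))))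
(.node 3 (.node 1 (.leaf (21, 140)) (.node 1 (.leaf (22, 140)) (.leaf (20, 141)))) (.node 1 (.leaf (21, 141)) (.node 1 (.leaf (22, 141)) (.leaf (20, 142))))))
(.node 6 (.node 3 (.node 1 (.leaf (21, 142)) (.node 1 (.leaf (22, 142)) (.leaf (20, 143)))) (.node 1 (.leaf (21, 143)) (.node 1 (.leaf (22, 143)) (.leaf (20, 144)))))
(.node 3 (.node 1 (.leaf (21, 144)) (.node 1 (.leaf (22, 144)) (.leaf (20, 145)))) (.node 1 (.leaf (21, 145)) (.node 1 (.leaf (22, 145)) (.leaf (20, 146)))))))))))

/-- The reasons. -/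
def caseBFullN1HowLR : Tab (ℕ × ℕ) :=
(.node 192 (.node 96 (.node 48 (.node 24 (.node 12 (.node 6 (.node 3 (.node 1 (.leaf (22, 146)) (.node 1 (.leaf (20, 147)) (.leaf (21, 147)))) (.node 1 (.leaf (22, 147)) (.node 1 (.leaf (20, 148)) (.leaf (21, 148)))))
(.node 3 (.node 1 (.leaf (22, 148)) (.node 1 (.leaf (20, 149)) (.leaf (21, 149)))) (.node 1 (.leaf (20, 150)) (.node 1 (.leaf (21, 150)) (.leaf (20, 151))))))
(.node 6 (.node 3 (.node 1 (.leaf (21, 151)) (.node 1 (.leaf (22, 151)) (.leaf (20, 152)))) (.node 1 (.leaf (22, 152)) (.node 1 (.leaf (20, 153)) (.leaf (20, 154)))))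
(.node 3 (.node 1 (.leaf (21, 154)) (.node 1 (.leaf (22, 154)) (.leaf (20, 155)))) (.node 1 (.leaf (21, 155)) (.node 1 (.leaf (22, 155)) (.leaf (20, 156)))))))
(.node 12 (.node 6 (.node 3 (.node 1 (.leaf (21, 156)) (.node 1 (.leaf (22, 156)) (.leaf (20, 157)))) (.node 1 (.leaf (21, 157)) (.node 1 (.leaf (20, 158)) (.leaf (21, 158)))))
(.node 3 (.node 1 (.leaf (20, 159)) (.node 1 (.leaf (21, 159)) (.leaf (22, 159)))) (.node 1 (.leaf (21, 160)) (.node 1 (.leaf (22, 161)) (.leaf (20, 162))))))
(.node 6 (.node 3 (.node 1 (.leaf (21, 162)) (.node 1 (.leaf (22, 162)) (.leaf (21, 163)))) (.node 1 (.leaf (22, 163)) (.node 1 (.leaf (20, 164)) (.leaf (21, 164)))))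
(.node 3 (.node 1 (.leaf (22, 164)) (.node 1 (.leaf (20, 165)) (.leaf (21, 165)))) (.node 1 (.leaf (22, 165)) (.node 1 (.leaf (20, 166)) (.leaf (21, 166))))))))
(.node 24 (.node 12 (.node 6 (.node 3 (.node 1 (.leaf (22, 166)) (.node 1 (.leaf (21, 167)) (.leaf (22, 167)))) (.node 1 (.leaf (20, 168)) (.node 1 (.leaf (21, 168)) (.leaf (22, 168)))))
(.node 3 (.node 1 (.leaf (20, 169)) (.node 1 (.leaf (21, 169)) (.leaf (22, 169)))) (.node 1 (.leaf (20, 170)) (.node 1 (.leaf (22, 170)) (.leaf (20, 171))))))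
(.node 6 (.node 3 (.node 1 (.leaf (21, 171)) (.node 1 (.leaf (22, 171)) (.leaf (20, 172)))) (.node 1 (.leaf (21, 172)) (.node 1 (.leaf (22, 172)) (.leaf (22, 173)))))
(.node 3 (.node 1 (.leaf (20, 174)) (.node 1 (.leaf (21, 174)) (.leaf (20, 175)))) (.node 1 (.leaf (21, 175)) (.node 1 (.leaf (22, 175)) (.leaf (20, 176)))))))
(.node 12 (.node 6 (.node 3 (.node 1 (.leaf (21, 176)) (.node 1 (.leaf (22, 176)) (.leaf (20, 177)))) (.node 1 (.leaf (22, 177)) (.node 1 (.leaf (20, 178)) (.leaf (21, 178)))))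
(.node 3 (.node 1 (.leaf (22, 178)) (.node 1 (.leaf (20, 179)) (.leaf (22, 179)))) (.node 1 (.leaf (20, 180)) (.node 1 (.leaf (20, 181)) (.leaf (21, 181))))))
(.node 6 (.node 3 (.node 1 (.leaf (22, 181)) (.node 1 (.leaf (20, 182)) (.leaf (21, 182)))) (.node 1 (.leaf (21, 183)) (.node 1 (.leaf (22, 183)) (.leaf (20, 184)))))
(.node 3 (.node 1 (.leaf (21, 184)) (.node 1 (.leaf (22, 184)) (.leaf (20, 185)))) (.node 1 (.leaf (21, 185)) (.node 1 (.leaf (22, 185)) (.leaf (20, 186)))))))))
(.node 48 (.node 24 (.node 12 (.node 6 (.node 3 (.node 1 (.leaf (21, 186)) (.node 1 (.leaf (22, 186)) (.leaf (20, 187)))) (.node 1 (.leaf (21, 187)) (.node 1 (.leaf (22, 187)) (.leaf (20, 188)))))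
(.node 3 (.node 1 (.leaf (21, 188)) (.node 1 (.leaf (22, 188)) (.leaf (21, 189)))) (.node 1 (.leaf (22, 189)) (.node 1 (.leaf (20, 190)) (.leaf (21, 190))))))
(.node 6 (.node 3 (.node 1 (.leaf (20, 191)) (.node 1 (.leaf (22, 191)) (.leaf (20, 192)))) (.node 1 (.leaf (22, 192)) (.node 1 (.leaf (20, 193)) (.leaf (21, 193)))))
(.node 3 (.node 1 (.leaf (22, 193)) (.node 1 (.leaf (20, 194)) (.leaf (21, 194)))) (.node 1 (.leaf (21, 195)) (.node 1 (.leaf (22, 195)) (.leaf (20, 196)))))))
(.node 12 (.node 6 (.node 3 (.node 1 (.leaf (22, 196)) (.node 1 (.leaf (21, 198)) (.leaf (21, 199)))) (.node 1 (.leaf (22, 199)) (.node 1 (.leaf (20, 200)) (.leaf (21, 200)))))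
(.node 3 (.node 1 (.leaf (22, 200)) (.node 1 (.leaf (20, 201)) (.leaf (21, 201)))) (.node 1 (.leaf (21, 202)) (.node 1 (.leaf (21, 203)) (.leaf (22, 203))))))
(.node 6 (.node 3 (.node 1 (.leaf (20, 205)) (.node 1 (.leaf (21, 205)) (.leaf (22, 206)))) (.node 1 (.leaf (20, 207)) (.node 1 (.leaf (21, 207)) (.leaf (20, 208)))))
(.node 3 (.node 1 (.leaf (21, 208)) (.node 1 (.leaf (20, 209)) (.leaf (21, 209)))) (.node 1 (.leaf (22, 209)) (.node 1 (.leaf (21, 210)) (.leaf (22, 210))))))))
(.node 24 (.node 12 (.node 6 (.node 3 (.node 1 (.leaf (21, 211)) (.node 1 (.leaf (22, 211)) (.leaf (20, 212)))) (.node 1 (.leaf (21, 212)) (.node 1 (.leaf (22, 212)) (.leaf (20, 213)))))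
(.node 3 (.node 1 (.leaf (21, 213)) (.node 1 (.leaf (22, 213)) (.leaf (21, 214)))) (.node 1 (.leaf (22, 214)) (.node 1 (.leaf (20, 215)) (.leaf (21, 215))))))
(.node 6 (.node 3 (.node 1 (.leaf (22, 215)) (.node 1 (.leaf (20, 216)) (.leaf (21, 216)))) (.node 1 (.leaf (22, 216)) (.node 1 (.leaf (20, 217)) (.leaf (21, 217)))))
(.node 3 (.node 1 (.leaf (22, 217)) (.node 1 (.leaf (20, 218)) (.leaf (21, 218)))) (.node 1 (.leaf (22, 218)) (.node 1 (.leaf (20, 219)) (.leaf (22, 219)))))))
(.node 12 (.node 6 (.node 3 (.node 1 (.leaf (20, 220)) (.node 1 (.leaf (21, 220)) (.leaf (22, 220)))) (.node 1 (.leaf (20, 221)) (.node 1 (.leaf (21, 221)) (.leaf (22, 221)))))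
(.node 3 (.node 1 (.leaf (20, 222)) (.node 1 (.leaf (21, 222)) (.leaf (22, 222)))) (.node 1 (.leaf (21, 223)) (.node 1 (.leaf (22, 223)) (.leaf (20, 224))))))
(.node 6 (.node 3 (.node 1 (.leaf (21, 224)) (.node 1 (.leaf (21, 225)) (.leaf (22, 225)))) (.node 1 (.leaf (20, 227)) (.node 1 (.leaf (21, 227)) (.leaf (22, 227)))))
(.node 3 (.node 1 (.leaf (21, 228)) (.node 1 (.leaf (22, 228)) (.leaf (20, 229)))) (.node 1 (.leaf (21, 229)) (.node 1 (.leaf (22, 229)) (.leaf (20, 230))))))))))
(.node 96 (.node 48 (.node 24 (.node 12 (.node 6 (.node 3 (.node 1 (.leaf (22, 230)) (.node 1 (.leaf (22, 231)) (.leaf (20, 232)))) (.node 1 (.leaf (21, 232)) (.node 1 (.leaf (21, 233)) (.leaf (22, 233)))))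
(.node 3 (.node 1 (.leaf (20, 234)) (.node 1 (.leaf (22, 234)) (.leaf (20, 235)))) (.node 1 (.leaf (20, 236)) (.node 1 (.leaf (22, 236)) (.leaf (20, 237))))))
(.node 6 (.node 3 (.node 1 (.leaf (21, 237)) (.node 1 (.leaf (22, 237)) (.leaf (22, 238)))) (.node 1 (.leaf (21, 239)) (.node 1 (.leaf (21, 240)) (.leaf (22, 240)))))
(.node 3 (.node 1 (.leaf (21, 241)) (.node 1 (.leaf (22, 241)) (.leaf (21, 242)))) (.node 1 (.leaf (22, 242)) (.node 1 (.leaf (20, 243)) (.leaf (22, 243)))))))
(.node 12 (.node 6 (.node 3 (.node 1 (.leaf (20, 244)) (.node 1 (.leaf (21, 245)) (.leaf (22, 245)))) (.node 1 (.leaf (20, 246)) (.node 1 (.leaf (22, 246)) (.leaf (21, 247)))))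
(.node 3 (.node 1 (.leaf (22, 247)) (.node 1 (.leaf (20, 248)) (.leaf (21, 248)))) (.node 1 (.leaf (20, 249)) (.node 1 (.leaf (20, 250)) (.leaf (21, 250))))))
(.node 6 (.node 3 (.node 1 (.leaf (22, 250)) (.node 1 (.leaf (22, 251)) (.leaf (20, 252)))) (.node 1 (.leaf (20, 253)) (.node 1 (.leaf (22, 253)) (.leaf (21, 254)))))
(.node 3 (.node 1 (.leaf (22, 254)) (.node 1 (.leaf (20, 255)) (.leaf (22, 255)))) (.node 1 (.leaf (20, 256)) (.node 1 (.leaf (22, 256)) (.leaf (20, 257))))))))
(.node 24 (.node 12 (.node 6 (.node 3 (.node 1 (.leaf (21, 257)) (.node 1 (.leaf (22, 257)) (.leaf (21, 258)))) (.node 1 (.leaf (22, 259)) (.node 1 (.leaf (20, 260)) (.leaf (22, 260)))))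
(.node 3 (.node 1 (.leaf (20, 261)) (.node 1 (.leaf (20, 262)) (.leaf (21, 262)))) (.node 1 (.leaf (21, 264)) (.node 1 (.leaf (22, 267)) (.leaf (20, 268))))))
(.node 6 (.node 3 (.node 1 (.leaf (21, 268)) (.node 1 (.leaf (22, 268)) (.leaf (20, 269)))) (.node 1 (.leaf (21, 269)) (.node 1 (.leaf (22, 269)) (.leaf (20, 270)))))
(.node 3 (.node 1 (.leaf (21, 270)) (.node 1 (.leaf (20, 271)) (.leaf (22, 271)))) (.node 1 (.leaf (20, 272)) (.node 1 (.leaf (21, 272)) (.leaf (21, 273)))))))
(.node 12 (.node 6 (.node 3 (.node 1 (.leaf (20, 274)) (.node 1 (.leaf (21, 274)) (.leaf (22, 274)))) (.node 1 (.leaf (21, 275)) (.node 1 (.leaf (22, 275)) (.leaf (21, 276)))))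
(.node 3 (.node 1 (.leaf (22, 276)) (.node 1 (.leaf (22, 277)) (.leaf (20, 278)))) (.node 1 (.leaf (21, 278)) (.node 1 (.leaf (22, 280)) (.leaf (21, 281))))))
(.node 6 (.node 3 (.node 1 (.leaf (20, 282)) (.node 1 (.leaf (21, 282)) (.leaf (20, 283)))) (.node 1 (.leaf (22, 284)) (.node 1 (.leaf (20, 285)) (.leaf (22, 285)))))
(.node 3 (.node 1 (.leaf (20, 287)) (.node 1 (.leaf (22, 287)) (.leaf (21, 288)))) (.node 1 (.leaf (22, 288)) (.node 1 (.leaf (22, 289)) (.leaf (20, 290)))))))))
(.node 48 (.node 24 (.node 12 (.node 6 (.node 3 (.node 1 (.leaf (21, 290)) (.node 1 (.leaf (21, 291)) (.leaf (22, 291)))) (.node 1 (.leaf (20, 293)) (.node 1 (.leaf (22, 293)) (.leaf (20, 294)))))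
(.node 3 (.node 1 (.leaf (21, 294)) (.node 1 (.leaf (22, 294)) (.leaf (21, 295)))) (.node 1 (.leaf (22, 295)) (.node 1 (.leaf (20, 296)) (.leaf (21, 296))))))
(.node 6 (.node 3 (.node 1 (.leaf (22, 296)) (.node 1 (.leaf (20, 297)) (.leaf (22, 297)))) (.node 1 (.leaf (20, 298)) (.node 1 (.leaf (21, 298)) (.leaf (22, 298)))))
(.node 3 (.node 1 (.leaf (20, 299)) (.node 1 (.leaf (21, 299)) (.leaf (22, 299)))) (.node 1 (.leaf (21, 300)) (.node 1 (.leaf (22, 300)) (.leaf (20, 301)))))))
(.node 12 (.node 6 (.node 3 (.node 1 (.leaf (21, 301)) (.node 1 (.leaf (22, 301)) (.leaf (20, 302)))) (.node 1 (.leaf (21, 302)) (.node 1 (.leaf (22, 302)) (.leaf (20, 303)))))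
(.node 3 (.node 1 (.leaf (22, 303)) (.node 1 (.leaf (20, 304)) (.leaf (22, 304)))) (.node 1 (.leaf (20, 305)) (.node 1 (.leaf (21, 305)) (.leaf (20, 306))))))
(.node 6 (.node 3 (.node 1 (.leaf (22, 306)) (.node 1 (.leaf (20, 307)) (.leaf (21, 307)))) (.node 1 (.leaf (22, 307)) (.node 1 (.leaf (20, 308)) (.leaf (21, 308)))))
(.node 3 (.node 1 (.leaf (22, 308)) (.node 1 (.leaf (21, 309)) (.leaf (22, 309)))) (.node 1 (.leaf (20, 310)) (.node 1 (.leaf (22, 310)) (.leaf (20, 311))))))))
(.node 24 (.node 12 (.node 6 (.node 3 (.node 1 (.leaf (21, 311)) (.node 1 (.leaf (20, 312)) (.leaf (22, 312)))) (.node 1 (.leaf (20, 313)) (.node 1 (.leaf (22, 314)) (.leaf (20, 315)))))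
(.node 3 (.node 1 (.leaf (21, 315)) (.node 1 (.leaf (22, 315)) (.leaf (20, 316)))) (.node 1 (.leaf (22, 316)) (.node 1 (.leaf (20, 317)) (.leaf (21, 317))))))
(.node 6 (.node 3 (.node 1 (.leaf (21, 318)) (.node 1 (.leaf (22, 318)) (.leaf (20, 319)))) (.node 1 (.leaf (21, 319)) (.node 1 (.leaf (22, 319)) (.leaf (20, 320)))))
(.node 3 (.node 1 (.leaf (21, 320)) (.node 1 (.leaf (22, 320)) (.leaf (20, 321)))) (.node 1 (.leaf (21, 321)) (.node 1 (.leaf (22, 321)) (.leaf (20, 322)))))))
(.node 12 (.node 6 (.node 3 (.node 1 (.leaf (21, 322)) (.node 1 (.leaf (22, 322)) (.leaf (20, 323)))) (.node 1 (.leaf (22, 323)) (.node 1 (.leaf (20, 324)) (.leaf (21, 324)))))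
(.node 3 (.node 1 (.leaf (22, 324)) (.node 1 (.leaf (20, 325)) (.leaf (21, 325)))) (.node 1 (.leaf (22, 325)) (.node 1 (.leaf (20, 326)) (.leaf (21, 326))))))
(.node 6 (.node 3 (.node 1 (.leaf (20, 327)) (.node 1 (.leaf (21, 327)) (.leaf (20, 328)))) (.node 1 (.leaf (21, 328)) (.node 1 (.leaf (22, 328)) (.leaf (20, 329)))))
(.node 3 (.node 1 (.leaf (22, 329)) (.node 1 (.leaf (20, 330)) (.leaf (20, 331)))) (.node 1 (.leaf (21, 332)) (.node 1 (.leaf (22, 332)) (.leaf (20, 333)))))))))))

/-- The reasons. -/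
def caseBFullN1HowL : Tab (ℕ × ℕ) := .node 384 caseBFullN1HowLL caseBFullN1HowLR

/-- The reasons. -/
def caseBFullN1HowRL : Tab (ℕ × ℕ) :=
(.node 192 (.node 96 (.node 48 (.node 24 (.node 12 (.node 6 (.node 3 (.node 1 (.leaf (21, 333)) (.node 1 (.leaf (22, 333)) (.leaf (20, 334)))) (.node 1 (.leaf (21, 334)) (.node 1 (.leaf (20, 335)) (.leaf (21, 335)))))
(.node 3 (.node 1 (.leaf (20, 336)) (.node 1 (.leaf (21, 336)) (.leaf (22, 336)))) (.node 1 (.leaf (21, 337)) (.node 1 (.leaf (22, 338)) (.leaf (20, 339))))))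
(.node 6 (.node 3 (.node 1 (.leaf (21, 339)) (.node 1 (.leaf (21, 340)) (.leaf (22, 340)))) (.node 1 (.leaf (20, 341)) (.node 1 (.leaf (21, 341)) (.leaf (22, 341)))))
(.node 3 (.node 1 (.leaf (20, 342)) (.node 1 (.leaf (21, 342)) (.leaf (22, 342)))) (.node 1 (.leaf (20, 343)) (.node 1 (.leaf (21, 343)) (.leaf (22, 343)))))))
(.node 12 (.node 6 (.node 3 (.node 1 (.leaf (21, 344)) (.node 1 (.leaf (22, 344)) (.leaf (20, 345)))) (.node 1 (.leaf (21, 345)) (.node 1 (.leaf (22, 345)) (.leaf (20, 346)))))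
(.node 3 (.node 1 (.leaf (21, 346)) (.node 1 (.leaf (20, 347)) (.leaf (22, 347)))) (.node 1 (.leaf (20, 348)) (.node 1 (.leaf (21, 348)) (.leaf (22, 348))))))
(.node 6 (.node 3 (.node 1 (.leaf (20, 349)) (.node 1 (.leaf (21, 349)) (.leaf (22, 349)))) (.node 1 (.leaf (22, 350)) (.node 1 (.leaf (20, 351)) (.leaf (21, 351)))))
(.node 3 (.node 1 (.leaf (20, 352)) (.node 1 (.leaf (21, 352)) (.leaf (22, 352)))) (.node 1 (.leaf (20, 353)) (.node 1 (.leaf (21, 353)) (.leaf (22, 353))))))))
(.node 24 (.node 12 (.node 6 (.node 3 (.node 1 (.leaf (20, 354)) (.node 1 (.leaf (22, 354)) (.leaf (20, 355)))) (.node 1 (.leaf (21, 355)) (.node 1 (.leaf (22, 355)) (.leaf (20, 356)))))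
(.node 3 (.node 1 (.leaf (22, 356)) (.node 1 (.leaf (20, 357)) (.leaf (20, 358)))) (.node 1 (.leaf (21, 358)) (.node 1 (.leaf (22, 358)) (.leaf (20, 359))))))
(.node 6 (.node 3 (.node 1 (.leaf (21, 359)) (.node 1 (.leaf (21, 360)) (.leaf (22, 360)))) (.node 1 (.leaf (21, 361)) (.node 1 (.leaf (22, 361)) (.leaf (20, 362)))))
(.node 3 (.node 1 (.leaf (21, 362)) (.node 1 (.leaf (22, 362)) (.leaf (20, 363)))) (.node 1 (.leaf (21, 363)) (.node 1 (.leaf (22, 363)) (.leaf (20, 364)))))))
(.node 12 (.node 6 (.node 3 (.node 1 (.leaf (21, 364)) (.node 1 (.leaf (22, 364)) (.leaf (21, 365)))) (.node 1 (.leaf (22, 365)) (.node 1 (.leaf (21, 366)) (.leaf (22, 366)))))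
(.node 3 (.node 1 (.leaf (20, 367)) (.node 1 (.leaf (21, 367)) (.leaf (20, 368)))) (.node 1 (.leaf (22, 368)) (.node 1 (.leaf (20, 369)) (.leaf (22, 369))))))
(.node 6 (.node 3 (.node 1 (.leaf (20, 370)) (.node 1 (.leaf (21, 370)) (.leaf (22, 370)))) (.node 1 (.leaf (20, 371)) (.node 1 (.leaf (21, 371)) (.leaf (21, 372)))))
(.node 3 (.node 1 (.leaf (22, 372)) (.node 1 (.leaf (20, 373)) (.leaf (22, 373)))) (.node 1 (.leaf (21, 375)) (.node 1 (.leaf (22, 376)) (.leaf (20, 377)))))))))
(.node 48 (.node 24 (.node 12 (.node 6 (.node 3 (.node 1 (.leaf (21, 377)) (.node 1 (.leaf (22, 377)) (.leaf (20, 378)))) (.node 1 (.leaf (21, 378)) (.node 1 (.leaf (21, 379)) (.leaf (21, 380)))))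
(.node 3 (.node 1 (.leaf (22, 380)) (.node 1 (.leaf (20, 382)) (.leaf (21, 382)))) (.node 1 (.leaf (20, 384)) (.node 1 (.leaf (21, 384)) (.leaf (20, 385))))))
(.node 6 (.node 3 (.node 1 (.leaf (21, 385)) (.node 1 (.leaf (22, 385)) (.leaf (21, 386)))) (.node 1 (.leaf (22, 386)) (.node 1 (.leaf (21, 387)) (.leaf (22, 387)))))
(.node 3 (.node 1 (.leaf (20, 388)) (.node 1 (.leaf (21, 388)) (.leaf (22, 388)))) (.node 1 (.leaf (20, 389)) (.node 1 (.leaf (21, 389)) (.leaf (22, 389)))))))
(.node 12 (.node 6 (.node 3 (.node 1 (.leaf (21, 390)) (.node 1 (.leaf (22, 390)) (.leaf (20, 391)))) (.node 1 (.leaf (21, 391)) (.node 1 (.leaf (22, 391)) (.leaf (20, 392)))))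
(.node 3 (.node 1 (.leaf (21, 392)) (.node 1 (.leaf (22, 392)) (.leaf (20, 393)))) (.node 1 (.leaf (21, 393)) (.node 1 (.leaf (22, 394)) (.leaf (20, 395))))))
(.node 6 (.node 3 (.node 1 (.leaf (21, 395)) (.node 1 (.leaf (22, 395)) (.leaf (20, 396)))) (.node 1 (.leaf (21, 396)) (.node 1 (.leaf (22, 396)) (.leaf (20, 397)))))
(.node 3 (.node 1 (.leaf (21, 397)) (.node 1 (.leaf (21, 398)) (.leaf (22, 398)))) (.node 1 (.leaf (21, 399)) (.node 1 (.leaf (21, 400)) (.leaf (22, 400))))))))
(.node 24 (.node 12 (.node 6 (.node 3 (.node 1 (.leaf (20, 402)) (.node 1 (.leaf (21, 402)) (.leaf (22, 402)))) (.node 1 (.leaf (22, 403)) (.node 1 (.leaf (20, 404)) (.leaf (21, 404)))))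
(.node 3 (.node 1 (.leaf (20, 405)) (.node 1 (.leaf (22, 405)) (.leaf (22, 406)))) (.node 1 (.leaf (21, 407)) (.node 1 (.leaf (21, 408)) (.leaf (22, 408))))))
(.node 6 (.node 3 (.node 1 (.leaf (20, 409)) (.node 1 (.leaf (22, 409)) (.leaf (20, 410)))) (.node 1 (.leaf (22, 410)) (.node 1 (.leaf (22, 411)) (.leaf (21, 412)))))
(.node 3 (.node 1 (.leaf (21, 413)) (.node 1 (.leaf (21, 414)) (.leaf (22, 414)))) (.node 1 (.leaf (21, 415)) (.node 1 (.leaf (22, 415)) (.leaf (20, 416)))))))
(.node 12 (.node 6 (.node 3 (.node 1 (.leaf (20, 417)) (.node 1 (.leaf (22, 418)) (.leaf (20, 419)))) (.node 1 (.leaf (22, 419)) (.node 1 (.leaf (21, 420)) (.leaf (22, 420)))))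
(.node 3 (.node 1 (.leaf (20, 421)) (.node 1 (.leaf (21, 421)) (.leaf (20, 423)))) (.node 1 (.leaf (21, 423)) (.node 1 (.leaf (22, 423)) (.leaf (22, 424))))))
(.node 6 (.node 3 (.node 1 (.leaf (20, 425)) (.node 1 (.leaf (20, 426)) (.leaf (22, 426)))) (.node 1 (.leaf (21, 427)) (.node 1 (.leaf (22, 427)) (.leaf (20, 428)))))
(.node 3 (.node 1 (.leaf (22, 428)) (.node 1 (.leaf (20, 429)) (.leaf (22, 429)))) (.node 1 (.leaf (21, 430)) (.node 1 (.leaf (22, 430)) (.leaf (21, 431))))))))))
(.node 96 (.node 48 (.node 24 (.node 12 (.node 6 (.node 3 (.node 1 (.leaf (22, 432)) (.node 1 (.leaf (20, 433)) (.leaf (22, 438)))) (.node 1 (.leaf (20, 439)) (.node 1 (.leaf (21, 439)) (.leaf (22, 439)))))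
(.node 3 (.node 1 (.leaf (20, 440)) (.node 1 (.leaf (21, 440)) (.leaf (22, 440)))) (.node 1 (.leaf (20, 441)) (.node 1 (.leaf (21, 441)) (.leaf (20, 442))))))
(.node 6 (.node 3 (.node 1 (.leaf (20, 443)) (.node 1 (.leaf (21, 444)) (.leaf (20, 445)))) (.node 1 (.leaf (21, 445)) (.node 1 (.leaf (22, 445)) (.leaf (21, 446)))))
(.node 3 (.node 1 (.leaf (22, 446)) (.node 1 (.leaf (22, 447)) (.leaf (22, 448)))) (.node 1 (.leaf (20, 449)) (.node 1 (.leaf (21, 450)) (.leaf (20, 451)))))))
(.node 12 (.node 6 (.node 3 (.node 1 (.leaf (21, 451)) (.node 1 (.leaf (22, 452)) (.leaf (20, 453)))) (.node 1 (.leaf (22, 453)) (.node 1 (.leaf (20, 455)) (.leaf (22, 455)))))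
(.node 3 (.node 1 (.leaf (21, 456)) (.node 1 (.leaf (22, 456)) (.leaf (22, 457)))) (.node 1 (.leaf (21, 458)) (.node 1 (.leaf (21, 459)) (.leaf (22, 459))))))
(.node 6 (.node 3 (.node 1 (.leaf (20, 461)) (.node 1 (.leaf (20, 462)) (.leaf (21, 462)))) (.node 1 (.leaf (22, 462)) (.node 1 (.leaf (21, 463)) (.leaf (22, 463)))))
(.node 3 (.node 1 (.leaf (20, 464)) (.node 1 (.leaf (22, 464)) (.leaf (20, 465)))) (.node 1 (.leaf (21, 465)) (.node 1 (.leaf (22, 465)) (.leaf (20, 466))))))))
(.node 24 (.node 12 (.node 6 (.node 3 (.node 1 (.leaf (21, 467)) (.node 1 (.leaf (21, 468)) (.leaf (22, 469)))) (.node 1 (.leaf (20, 470)) (.node 1 (.leaf (21, 470)) (.leaf (20, 471)))))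
(.node 3 (.node 1 (.leaf (20, 472)) (.node 1 (.leaf (21, 472)) (.leaf (21, 473)))) (.node 1 (.leaf (22, 474)) (.node 1 (.leaf (20, 475)) (.leaf (20, 476))))))
(.node 6 (.node 3 (.node 1 (.leaf (21, 476)) (.node 1 (.leaf (20, 477)) (.leaf (22, 477)))) (.node 1 (.leaf (22, 478)) (.node 1 (.leaf (21, 479)) (.leaf (21, 480)))))
(.node 3 (.node 1 (.leaf (20, 482)) (.node 1 (.leaf (22, 482)) (.leaf (21, 484)))) (.node 1 (.leaf (22, 485)) (.node 1 (.leaf (22, 486)) (.leaf (21, 487)))))))
(.node 12 (.node 6 (.node 3 (.node 1 (.leaf (22, 487)) (.node 1 (.leaf (20, 488)) (.leaf (22, 488)))) (.node 1 (.leaf (20, 489)) (.node 1 (.leaf (21, 489)) (.leaf (21, 490)))))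
(.node 3 (.node 1 (.leaf (21, 491)) (.node 1 (.leaf (20, 492)) (.leaf (20, 493)))) (.node 1 (.leaf (21, 493)) (.node 1 (.leaf (22, 493)) (.leaf (20, 494))))))
(.node 6 (.node 3 (.node 1 (.leaf (21, 495)) (.node 1 (.leaf (21, 496)) (.leaf (22, 496)))) (.node 1 (.leaf (22, 497)) (.node 1 (.leaf (20, 498)) (.leaf (20, 499)))))
(.node 3 (.node 1 (.leaf (20, 500)) (.node 1 (.leaf (21, 501)) (.leaf (20, 502)))) (.node 1 (.leaf (21, 504)) (.node 1 (.leaf (22, 505)) (.leaf (22, 506)))))))))
(.node 48 (.node 24 (.node 12 (.node 6 (.node 3 (.node 1 (.leaf (22, 507)) (.node 1 (.leaf (21, 508)) (.leaf (22, 509)))) (.node 1 (.leaf (20, 510)) (.node 1 (.leaf (21, 510)) (.leaf (22, 510)))))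
(.node 3 (.node 1 (.leaf (21, 514)) (.node 1 (.leaf (20, 516)) (.leaf (22, 516)))) (.node 1 (.leaf (21, 518)) (.node 1 (.leaf (21, 520)) (.leaf (22, 520))))))
(.node 6 (.node 3 (.node 1 (.leaf (20, 521)) (.node 1 (.leaf (20, 522)) (.leaf (22, 522)))) (.node 1 (.leaf (20, 523)) (.node 1 (.leaf (21, 523)) (.leaf (20, 525)))))
(.node 3 (.node 1 (.leaf (22, 526)) (.node 1 (.leaf (21, 527)) (.leaf (21, 528)))) (.node 1 (.leaf (22, 529)) (.node 1 (.leaf (21, 531)) (.leaf (21, 532)))))))
(.node 12 (.node 6 (.node 3 (.node 1 (.leaf (20, 533)) (.node 1 (.leaf (21, 533)) (.leaf (21, 534)))) (.node 1 (.leaf (21, 535)) (.node 1 (.leaf (21, 537)) (.leaf (21, 539)))))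
(.node 3 (.node 1 (.leaf (20, 540)) (.node 1 (.leaf (21, 540)) (.leaf (20, 541)))) (.node 1 (.leaf (22, 541)) (.node 1 (.leaf (22, 542)) (.leaf (21, 543))))))
(.node 6 (.node 3 (.node 1 (.leaf (22, 543)) (.node 1 (.leaf (21, 544)) (.leaf (21, 545)))) (.node 1 (.leaf (21, 546)) (.node 1 (.leaf (20, 547)) (.leaf (21, 547)))))
(.node 3 (.node 1 (.leaf (22, 549)) (.node 1 (.leaf (22, 550)) (.leaf (20, 551)))) (.node 1 (.leaf (21, 551)) (.node 1 (.leaf (22, 553)) (.leaf (21, 554))))))))
(.node 24 (.node 12 (.node 6 (.node 3 (.node 1 (.leaf (22, 555)) (.node 1 (.leaf (22, 556)) (.leaf (22, 557)))) (.node 1 (.leaf (21, 558)) (.node 1 (.leaf (21, 559)) (.leaf (22, 559)))))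
(.node 3 (.node 1 (.leaf (20, 560)) (.node 1 (.leaf (22, 560)) (.leaf (20, 561)))) (.node 1 (.leaf (21, 563)) (.node 1 (.leaf (22, 565)) (.leaf (20, 566))))))
(.node 6 (.node 3 (.node 1 (.leaf (22, 567)) (.node 1 (.leaf (21, 568)) (.leaf (20, 571)))) (.node 1 (.leaf (21, 571)) (.node 1 (.leaf (20, 573)) (.leaf (22, 574)))))
(.node 3 (.node 1 (.leaf (21, 575)) (.node 1 (.leaf (20, 578)) (.leaf (22, 578)))) (.node 1 (.leaf (20, 579)) (.node 1 (.leaf (21, 582)) (.leaf (21, 584)))))))
(.node 12 (.node 6 (.node 3 (.node 1 (.leaf (20, 585)) (.node 1 (.leaf (21, 585)) (.leaf (21, 586)))) (.node 1 (.leaf (21, 587)) (.node 1 (.leaf (22, 589)) (.leaf (20, 590)))))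
(.node 3 (.node 1 (.leaf (22, 596)) (.node 1 (.leaf (21, 599)) (.leaf (22, 599)))) (.node 1 (.leaf (21, 600)) (.node 1 (.leaf (20, 603)) (.leaf (22, 603))))))
(.node 6 (.node 3 (.node 1 (.leaf (20, 604)) (.node 1 (.leaf (21, 608)) (.leaf (22, 609)))) (.node 1 (.leaf (20, 611)) (.node 1 (.leaf (20, 613)) (.leaf (21, 613)))))
(.node 3 (.node 1 (.leaf (20, 614)) (.node 1 (.leaf (20, 617)) (.leaf (21, 618)))) (.node 1 (.leaf (22, 618)) (.node 1 (.leaf (21, 619)) (.leaf (20, 621)))))))))))

/-- The reasons. -/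
def caseBFullN1HowRR : Tab (ℕ × ℕ) :=
(.node 192 (.node 96 (.node 48 (.node 24 (.node 12 (.node 6 (.node 3 (.node 1 (.leaf (21, 621)) (.node 1 (.leaf (20, 622)) (.leaf (22, 623)))) (.node 1 (.leaf (20, 624)) (.node 1 (.leaf (22, 624)) (.leaf (21, 625)))))
(.node 3 (.node 1 (.leaf (22, 625)) (.node 1 (.leaf (20, 626)) (.leaf (21, 626)))) (.node 1 (.leaf (22, 628)) (.node 1 (.leaf (21, 629)) (.leaf (22, 629))))))
(.node 6 (.node 3 (.node 1 (.leaf (21, 633)) (.node 1 (.leaf (22, 634)) (.leaf (21, 635)))) (.node 1 (.leaf (22, 637)) (.node 1 (.leaf (21, 638)) (.leaf (22, 638)))))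
(.node 3 (.node 1 (.leaf (21, 639)) (.node 1 (.leaf (22, 639)) (.leaf (20, 640)))) (.node 1 (.leaf (22, 640)) (.node 1 (.leaf (21, 642)) (.leaf (21, 643)))))))
(.node 12 (.node 6 (.node 3 (.node 1 (.leaf (21, 648)) (.node 1 (.leaf (21, 651)) (.leaf (21, 653)))) (.node 1 (.leaf (21, 663)) (.node 1 (.leaf (20, 664)) (.leaf (22, 666)))))
(.node 3 (.node 1 (.leaf (22, 667)) (.node 1 (.leaf (22, 671)) (.leaf (22, 676)))) (.node 1 (.leaf (21, 678)) (.node 1 (.leaf (20, 679)) (.leaf (20, 680))))))
(.node 6 (.node 3 (.node 1 (.leaf (22, 683)) (.node 1 (.leaf (22, 684)) (.leaf (21, 685)))) (.node 1 (.leaf (21, 686)) (.node 1 (.leaf (22, 689)) (.leaf (22, 690)))))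
(.node 3 (.node 1 (.leaf (22, 692)) (.node 1 (.leaf (22, 693)) (.leaf (21, 694)))) (.node 1 (.leaf (22, 694)) (.node 1 (.leaf (21, 695)) (.leaf (21, 696))))))))
(.node 24 (.node 12 (.node 6 (.node 3 (.node 1 (.leaf (22, 696)) (.node 1 (.leaf (20, 697)) (.leaf (21, 697)))) (.node 1 (.leaf (22, 697)) (.node 1 (.leaf (20, 698)) (.leaf (21, 699)))))
(.node 3 (.node 1 (.leaf (22, 699)) (.node 1 (.leaf (21, 700)) (.leaf (22, 700)))) (.node 1 (.leaf (20, 701)) (.node 1 (.leaf (21, 701)) (.leaf (20, 702))))))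
(.node 6 (.node 3 (.node 1 (.leaf (20, 703)) (.node 1 (.leaf (21, 703)) (.leaf (22, 703)))) (.node 1 (.leaf (20, 704)) (.node 1 (.leaf (20, 705)) (.leaf (21, 706)))))
(.node 3 (.node 1 (.leaf (20, 707)) (.node 1 (.leaf (21, 707)) (.leaf (22, 707)))) (.node 1 (.leaf (21, 708)) (.node 1 (.leaf (22, 709)) (.leaf (20, 710)))))))
(.node 12 (.node 6 (.node 3 (.node 1 (.leaf (21, 710)) (.node 1 (.leaf (21, 711)) (.leaf (22, 711)))) (.node 1 (.leaf (21, 712)) (.node 1 (.leaf (22, 712)) (.leaf (20, 713)))))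
(.node 3 (.node 1 (.leaf (22, 713)) (.node 1 (.leaf (20, 714)) (.leaf (21, 714)))) (.node 1 (.leaf (22, 714)) (.node 1 (.leaf (21, 715)) (.leaf (22, 715))))))
(.node 6 (.node 3 (.node 1 (.leaf (20, 716)) (.node 1 (.leaf (21, 716)) (.leaf (20, 717)))) (.node 1 (.leaf (21, 717)) (.node 1 (.leaf (20, 718)) (.leaf (22, 718)))))
(.node 3 (.node 1 (.leaf (20, 719)) (.node 1 (.leaf (21, 719)) (.leaf (22, 719)))) (.node 1 (.leaf (22, 720)) (.node 1 (.leaf (20, 721)) (.leaf (22, 721)))))))))
(.node 48 (.node 24 (.node 12 (.node 6 (.node 3 (.node 1 (.leaf (22, 722)) (.node 1 (.leaf (20, 723)) (.leaf (21, 723)))) (.node 1 (.leaf (22, 723)) (.node 1 (.leaf (22, 724)) (.leaf (21, 726)))))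
(.node 3 (.node 1 (.leaf (22, 726)) (.node 1 (.leaf (21, 727)) (.leaf (22, 727)))) (.node 1 (.leaf (20, 728)) (.node 1 (.leaf (20, 729)) (.leaf (21, 729))))))
(.node 6 (.node 3 (.node 1 (.leaf (22, 730)) (.node 1 (.leaf (21, 731)) (.leaf (22, 731)))) (.node 1 (.leaf (22, 732)) (.node 1 (.leaf (20, 733)) (.leaf (21, 733)))))
(.node 3 (.node 1 (.leaf (21, 735)) (.node 1 (.leaf (22, 735)) (.leaf (22, 736)))) (.node 1 (.leaf (22, 739)) (.node 1 (.leaf (21, 740)) (.leaf (20, 741)))))))
(.node 12 (.node 6 (.node 3 (.node 1 (.leaf (21, 742)) (.node 1 (.leaf (22, 743)) (.leaf (20, 745)))) (.node 1 (.leaf (21, 745)) (.node 1 (.leaf (21, 747)) (.leaf (21, 748)))))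
(.node 3 (.node 1 (.leaf (22, 748)) (.node 1 (.leaf (21, 750)) (.leaf (20, 751)))) (.node 1 (.leaf (21, 751)) (.node 1 (.leaf (22, 751)) (.leaf (22, 752))))))
(.node 6 (.node 3 (.node 1 (.leaf (20, 754)) (.node 1 (.leaf (22, 754)) (.leaf (21, 755)))) (.node 1 (.leaf (22, 755)) (.node 1 (.leaf (20, 756)) (.leaf (21, 756)))))
(.node 3 (.node 1 (.leaf (22, 757)) (.node 1 (.leaf (20, 758)) (.leaf (22, 758)))) (.node 1 (.leaf (20, 759)) (.node 1 (.leaf (21, 759)) (.leaf (21, 760))))))))
(.node 24 (.node 12 (.node 6 (.node 3 (.node 1 (.leaf (21, 761)) (.node 1 (.leaf (22, 761)) (.leaf (21, 762)))) (.node 1 (.leaf (21, 763)) (.node 1 (.leaf (22, 765)) (.leaf (22, 766)))))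
(.node 3 (.node 1 (.leaf (21, 767)) (.node 1 (.leaf (22, 768)) (.leaf (20, 769)))) (.node 1 (.leaf (22, 769)) (.node 1 (.leaf (20, 770)) (.leaf (22, 770))))))
(.node 6 (.node 3 (.node 1 (.leaf (22, 771)) (.node 1 (.leaf (21, 772)) (.leaf (21, 773)))) (.node 1 (.leaf (21, 774)) (.node 1 (.leaf (22, 774)) (.leaf (21, 775)))))
(.node 3 (.node 1 (.leaf (22, 775)) (.node 1 (.leaf (20, 776)) (.leaf (20, 777)))) (.node 1 (.leaf (20, 779)) (.node 1 (.leaf (21, 780)) (.leaf (22, 780)))))))
(.node 12 (.node 6 (.node 3 (.node 1 (.leaf (20, 782)) (.node 1 (.leaf (21, 782)) (.leaf (22, 783)))) (.node 1 (.leaf (20, 784)) (.node 1 (.leaf (20, 787)) (.leaf (22, 787)))))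
(.node 3 (.node 1 (.leaf (22, 789)) (.node 1 (.leaf (21, 790)) (.leaf (22, 791)))) (.node 1 (.leaf (21, 798)) (.node 1 (.leaf (21, 799)) (.leaf (20, 800))))))
(.node 6 (.node 3 (.node 1 (.leaf (21, 802)) (.node 1 (.leaf (21, 803)) (.leaf (22, 803)))) (.node 1 (.leaf (22, 804)) (.node 1 (.leaf (22, 805)) (.leaf (20, 807)))))
(.node 3 (.node 1 (.leaf (21, 808)) (.node 1 (.leaf (20, 809)) (.leaf (21, 809)))) (.node 1 (.leaf (22, 811)) (.node 1 (.leaf (20, 813)) (.leaf (21, 816))))))))))
(.node 96 (.node 48 (.node 24 (.node 12 (.node 6 (.node 3 (.node 1 (.leaf (21, 817)) (.node 1 (.leaf (22, 817)) (.leaf (20, 820)))) (.node 1 (.leaf (22, 820)) (.node 1 (.leaf (21, 821)) (.leaf (22, 821)))))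
(.node 3 (.node 1 (.leaf (22, 822)) (.node 1 (.leaf (21, 823)) (.leaf (22, 823)))) (.node 1 (.leaf (21, 825)) (.node 1 (.leaf (21, 826)) (.leaf (22, 827))))))
(.node 6 (.node 3 (.node 1 (.leaf (20, 828)) (.node 1 (.leaf (21, 828)) (.leaf (20, 830)))) (.node 1 (.leaf (21, 830)) (.node 1 (.leaf (22, 831)) (.leaf (20, 832)))))
(.node 3 (.node 1 (.leaf (20, 833)) (.node 1 (.leaf (21, 833)) (.leaf (22, 834)))) (.node 1 (.leaf (22, 835)) (.node 1 (.leaf (21, 837)) (.leaf (22, 839)))))))
(.node 12 (.node 6 (.node 3 (.node 1 (.leaf (21, 841)) (.node 1 (.leaf (21, 843)) (.leaf (20, 844)))) (.node 1 (.leaf (22, 844)) (.node 1 (.leaf (20, 845)) (.leaf (21, 845)))))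
(.node 3 (.node 1 (.leaf (21, 847)) (.node 1 (.leaf (20, 849)) (.leaf (21, 849)))) (.node 1 (.leaf (21, 851)) (.node 1 (.leaf (22, 852)) (.leaf (22, 853))))))
(.node 6 (.node 3 (.node 1 (.leaf (20, 854)) (.node 1 (.leaf (20, 856)) (.leaf (21, 857)))) (.node 1 (.leaf (20, 858)) (.node 1 (.leaf (22, 861)) (.leaf (22, 862)))))
(.node 3 (.node 1 (.leaf (21, 863)) (.node 1 (.leaf (20, 865)) (.leaf (22, 865)))) (.node 1 (.leaf (22, 871)) (.node 1 (.leaf (20, 873)) (.leaf (20, 875))))))))
(.node 24 (.node 12 (.node 6 (.node 3 (.node 1 (.leaf (21, 875)) (.node 1 (.leaf (20, 877)) (.leaf (22, 878)))) (.node 1 (.leaf (21, 879)) (.node 1 (.leaf (22, 881)) (.leaf (21, 883)))))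
(.node 3 (.node 1 (.leaf (21, 884)) (.node 1 (.leaf (21, 885)) (.leaf (21, 886)))) (.node 1 (.leaf (21, 887)) (.node 1 (.leaf (21, 891)) (.leaf (20, 892))))))
(.node 6 (.node 3 (.node 1 (.leaf (21, 892)) (.node 1 (.leaf (22, 893)) (.leaf (22, 895)))) (.node 1 (.leaf (20, 896)) (.node 1 (.leaf (21, 896)) (.leaf (20, 898)))))
(.node 3 (.node 1 (.leaf (22, 900)) (.node 1 (.leaf (21, 901)) (.leaf (22, 903)))) (.node 1 (.leaf (22, 904)) (.node 1 (.leaf (20, 907)) (.leaf (22, 910)))))))
(.node 12 (.node 6 (.node 3 (.node 1 (.leaf (20, 911)) (.node 1 (.leaf (22, 912)) (.leaf (21, 913)))) (.node 1 (.leaf (20, 915)) (.node 1 (.leaf (21, 915)) (.leaf (21, 918)))))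
(.node 3 (.node 1 (.leaf (21, 924)) (.node 1 (.leaf (21, 926)) (.leaf (22, 927)))) (.node 1 (.leaf (20, 928)) (.node 1 (.leaf (21, 936)) (.leaf (22, 938))))))
(.node 6 (.node 3 (.node 1 (.leaf (21, 943)) (.node 1 (.leaf (20, 945)) (.leaf (21, 947)))) (.node 1 (.leaf (20, 948)) (.node 1 (.leaf (20, 951)) (.leaf (21, 952)))))
(.node 3 (.node 1 (.leaf (22, 952)) (.node 1 (.leaf (20, 955)) (.leaf (20, 956)))) (.node 1 (.leaf (20, 957)) (.node 1 (.leaf (22, 957)) (.leaf (22, 958)))))))))
(.node 48 (.node 24 (.node 12 (.node 6 (.node 3 (.node 1 (.leaf (20, 959)) (.node 1 (.leaf (21, 959)) (.leaf (21, 963)))) (.node 1 (.leaf (22, 965)) (.node 1 (.leaf (22, 966)) (.leaf (21, 967)))))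
(.node 3 (.node 1 (.leaf (22, 968)) (.node 1 (.leaf (21, 970)) (.leaf (21, 974)))) (.node 1 (.leaf (21, 977)) (.node 1 (.leaf (21, 985)) (.leaf (20, 986))))))
(.node 6 (.node 3 (.node 1 (.leaf (22, 989)) (.node 1 (.leaf (21, 998)) (.leaf (20, 999)))) (.node 1 (.leaf (20, 1000)) (.node 1 (.leaf (21, 1002)) (.leaf (22, 1006)))))
(.node 3 (.node 1 (.leaf (21, 1008)) (.node 1 (.leaf (22, 1010)) (.leaf (20, 1017)))) (.node 1 (.leaf (20, 1020)) (.node 1 (.leaf (21, 1021)) (.leaf (22, 1022)))))))
(.node 12 (.node 6 (.node 3 (.node 1 (.leaf (20, 1026)) (.node 1 (.leaf (22, 1031)) (.leaf (20, 1038)))) (.node 1 (.leaf (22, 1044)) (.node 1 (.leaf (21, 1045)) (.leaf (21, 1060)))))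
(.node 3 (.node 1 (.leaf (22, 1062)) (.node 1 (.leaf (22, 1064)) (.leaf (21, 1067)))) (.node 1 (.leaf (21, 1076)) (.node 1 (.leaf (22, 1085)) (.leaf (20, 1087))))))
(.node 6 (.node 3 (.node 1 (.leaf (22, 1087)) (.node 1 (.leaf (21, 1093)) (.leaf (22, 1104)))) (.node 1 (.leaf (20, 1107)) (.node 1 (.leaf (21, 1124)) (.leaf (20, 1152)))))
(.node 3 (.node 1 (.leaf (21, 1164)) (.node 1 (.leaf (20, 1167)) (.leaf (21, 1177)))) (.node 1 (.leaf (20, 1180)) (.node 1 (.leaf (20, 1181)) (.leaf (21, 1196))))))))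
(.node 24 (.node 12 (.node 6 (.node 3 (.node 1 (.leaf (22, 1196)) (.node 1 (.leaf (20, 1203)) (.leaf (21, 1206)))) (.node 1 (.leaf (22, 1210)) (.node 1 (.leaf (22, 1212)) (.leaf (20, 1213)))))
(.node 3 (.node 1 (.leaf (21, 1213)) (.node 1 (.leaf (21, 1214)) (.leaf (21, 1218)))) (.node 1 (.leaf (22, 1219)) (.node 1 (.leaf (20, 1220)) (.leaf (20, 1221))))))
(.node 6 (.node 3 (.node 1 (.leaf (21, 1224)) (.node 1 (.leaf (21, 1232)) (.leaf (22, 1233)))) (.node 1 (.leaf (21, 1239)) (.node 1 (.leaf (22, 1243)) (.leaf (20, 1245)))))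
(.node 3 (.node 1 (.leaf (20, 1251)) (.node 1 (.leaf (21, 1252)) (.leaf (22, 1255)))) (.node 1 (.leaf (20, 1256)) (.node 1 (.leaf (21, 1257)) (.leaf (22, 1258)))))))
(.node 12 (.node 6 (.node 3 (.node 1 (.leaf (21, 1262)) (.node 1 (.leaf (22, 1264)) (.leaf (21, 1266)))) (.node 1 (.leaf (20, 1267)) (.node 1 (.leaf (20, 1278)) (.leaf (21, 1282)))))
(.node 3 (.node 1 (.leaf (21, 1285)) (.node 1 (.leaf (22, 1287)) (.leaf (20, 1288)))) (.node 1 (.leaf (20, 1290)) (.node 1 (.leaf (22, 1294)) (.leaf (21, 1304))))))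
(.node 6 (.node 3 (.node 1 (.leaf (21, 1306)) (.node 1 (.leaf (20, 1308)) (.leaf (22, 1317)))) (.node 1 (.leaf (20, 1321)) (.node 1 (.leaf (20, 1323)) (.leaf (22, 1326)))))
(.node 3 (.node 1 (.leaf (20, 1327)) (.node 1 (.leaf (21, 1330)) (.leaf (22, 1364)))) (.node 1 (.leaf (20, 1374)) (.node 1 (.leaf (22, 1404)) (.leaf (21, 1449)))))))))))

/-- The reasons. -/
def caseBFullN1HowR : Tab (ℕ × ℕ) := .node 384 caseBFullN1HowRL caseBFullN1HowRR

/-- The reasons. -/
def caseBFullN1How : Tab (ℕ × ℕ) := .node 768 caseBFullN1HowL caseBFullN1HowR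

/-- The node. -/
def caseBFullN1Node : NodeD := ⟨1, 1536, caseBFullN1Els, caseBFullN1Ix, caseBFullN1How, fun b => bif b then (.node 7 (.node 3 (.node 1 (.leaf 86) (.node 1 (.leaf 84) (.leaf 83)))
(.node 2 (.node 1 (.leaf 85) (.leaf 87)) (.node 1 (.leaf 88) (.leaf 161))))
(.node 3 (.node 1 (.leaf 159) (.node 1 (.leaf 160) (.leaf 162)))
(.node 2 (.node 1 (.leaf 164) (.leaf 158)) (.node 1 (.leaf 163) (.leaf 156))))) else (.node 7 (.node 3 (.node 1 (.leaf 3518) (.node 1 (.leaf 3515) (.leaf 3512)))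
(.node 2 (.node 1 (.leaf 3510) (.leaf 3513)) (.node 1 (.leaf 3511) (.leaf 3))))
(.node 3 (.node 1 (.leaf 3517) (.node 1 (.leaf 3509) (.leaf 3508)))
(.node 2 (.node 1 (.leaf 3514) (.leaf 3516)) (.node 1 (.leaf 3519) (.leaf 3520)))))⟩

/-- The stabiliser. -/
def caseBFullN4ElsLL : Tab ℕ :=
(.node 192 (.node 96 (.node 48 (.node 24 (.node 12 (.node 6 (.node 3 (.node 1 (.leaf 17043521) (.node 1 (.leaf 11302995) (.leaf 25450585))) (.node 1 (.leaf 11302979) (.node 1 (.leaf 27867227) (.leaf 19683393))))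
(.node 3 (.node 1 (.leaf 27867217) (.node 1 (.leaf 11014211) (.leaf 17051721))) (.node 1 (.leaf 11014235) (.node 1 (.leaf 27867211) (.leaf 19683409)))))
(.node 6 (.node 3 (.node 1 (.leaf 27867201) (.node 1 (.leaf 17043523) (.leaf 9001043))) (.node 1 (.leaf 17043545) (.node 1 (.leaf 27621457) (.leaf 11278411))))
(.node 3 (.node 1 (.leaf 27621443) (.node 1 (.leaf 17043529) (.leaf 9001049))) (.node 1 (.leaf 17043539) (.node 1 (.leaf 19755083) (.leaf 27799641))))))
(.node 12 (.node 6 (.node 3 (.node 1 (.leaf 19755073) (.node 1 (.leaf 11294811) (.leaf 25458769))) (.node 1 (.leaf 11294795) (.node 1 (.leaf 19755091) (.leaf 27799617))))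
(.node 3 (.node 1 (.leaf 19755097) (.node 1 (.leaf 9001027) (.leaf 27621441))) (.node 1 (.leaf 11278427) (.node 1 (.leaf 27621459) (.leaf 9001033)))))
(.node 6 (.node 3 (.node 1 (.leaf 11302993) (.node 1 (.leaf 25450587) (.leaf 11302977))) (.node 1 (.leaf 17643609) (.node 1 (.leaf 27881545) (.leaf 17643601))))
(.node 3 (.node 1 (.leaf 11302987) (.node 1 (.leaf 25450561) (.leaf 11303003))) (.node 1 (.leaf 8925257) (.node 1 (.leaf 17111105) (.leaf 8925267)))))))
(.node 24 (.node 12 (.node 6 (.node 3 (.node 1 (.leaf 27875395) (.node 1 (.leaf 19675225) (.leaf 27875401))) (.node 1 (.leaf 8925275) (.node 1 (.leaf 17111123) (.leaf 8925249))))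
(.node 3 (.node 1 (.leaf 25450577) (.node 1 (.leaf 17643603) (.leaf 27881539))) (.node 1 (.leaf 17643611) (.node 1 (.leaf 25450571) (.leaf 9252931)))))
(.node 6 (.node 3 (.node 1 (.leaf 25450569) (.node 1 (.leaf 19206209) (.leaf 11030611))) (.node 1 (.leaf 19206235) (.node 1 (.leaf 9252937) (.leaf 25450563))))
(.node 3 (.node 1 (.leaf 27859027) (.node 1 (.leaf 19691593) (.leaf 27859033))) (.node 1 (.leaf 11022411) (.node 1 (.leaf 11022419) (.leaf 27859011))))))
(.node 12 (.node 6 (.node 3 (.node 1 (.leaf 19691609) (.node 1 (.leaf 27859017) (.leaf 9252955))) (.node 1 (.leaf 19206233) (.node 1 (.leaf 11030603) (.leaf 19206211))))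
(.node 3 (.node 1 (.leaf 9252945) (.node 1 (.leaf 17643593) (.leaf 27881561))) (.node 1 (.leaf 17643585) (.node 1 (.leaf 8925273) (.leaf 17111121)))))
(.node 6 (.node 3 (.node 1 (.leaf 8925251) (.node 1 (.leaf 27875411) (.leaf 19675209))) (.node 1 (.leaf 27875417) (.node 1 (.leaf 8925259) (.leaf 17111107))))
(.node 3 (.node 1 (.leaf 8925265) (.node 1 (.leaf 17643587) (.leaf 27881555))) (.node 1 (.leaf 17643595) (.node 1 (.leaf 27867225) (.leaf 19683395))))))))
(.node 48 (.node 24 (.node 12 (.node 6 (.node 3 (.node 1 (.leaf 27867219) (.node 1 (.leaf 11014209) (.leaf 17051723))) (.node 1 (.leaf 11014233) (.node 1 (.leaf 27867209) (.leaf 19683411))))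
(.node 3 (.node 1 (.leaf 27867203) (.node 1 (.leaf 25499723) (.leaf 11366483))) (.node 1 (.leaf 25499739) (.node 1 (.leaf 17061969) (.leaf 8982593)))))
(.node 6 (.node 3 (.node 1 (.leaf 17061963) (.node 1 (.leaf 25499715) (.leaf 11366491))) (.node 1 (.leaf 25499731) (.node 1 (.leaf 19683417) (.leaf 17051729))))
(.node 3 (.node 1 (.leaf 19683401) (.node 1 (.leaf 25696337) (.leaf 19683403))) (.node 1 (.leaf 9271379) (.node 1 (.leaf 27611227) (.leaf 9271363))))))
(.node 12 (.node 6 (.node 3 (.node 1 (.leaf 25696331) (.node 1 (.leaf 17068123) (.leaf 8992843))) (.node 1 (.leaf 17068097) (.node 1 (.leaf 27596873) (.leaf 27596891))))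
(.node 3 (.node 1 (.leaf 17068113) (.node 1 (.leaf 8992833) (.leaf 17068107))) (.node 1 (.leaf 25696323) (.node 1 (.leaf 9271361) (.leaf 27611209)))))
(.node 6 (.node 3 (.node 1 (.leaf 9271377) (.node 1 (.leaf 25696345) (.leaf 11014219))) (.node 1 (.leaf 17051713) (.node 1 (.leaf 11014227) (.leaf 25499713))))
(.node 3 (.node 1 (.leaf 11366489) (.node 1 (.leaf 25499729) (.leaf 17061979))) (.node 1 (.leaf 8982603) (.node 1 (.leaf 17061953) (.leaf 25499721)))))))
(.node 24 (.node 12 (.node 6 (.node 3 (.node 1 (.leaf 11366481) (.node 1 (.leaf 25499737) (.leaf 11014225))) (.node 1 (.leaf 17051739) (.node 1 (.leaf 11014217) (.leaf 25784393))))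
(.node 3 (.node 1 (.leaf 19732561) (.node 1 (.leaf 25784385) (.leaf 17051737))) (.node 1 (.leaf 9205841) (.node 1 (.leaf 25514073) (.leaf 9205827)))))
(.node 6 (.node 3 (.node 1 (.leaf 19738715) (.node 1 (.leaf 27816009) (.leaf 19738705))) (.node 1 (.leaf 9205835) (.node 1 (.leaf 25514051) (.leaf 9205849))))
(.node 3 (.node 1 (.leaf 25784387) (.node 1 (.leaf 19732571) (.leaf 25784395))) (.node 1 (.leaf 17051731) (.node 1 (.leaf 9009243) (.leaf 27613273))))))
(.node 12 (.node 6 (.node 3 (.node 1 (.leaf 11286595) (.node 1 (.leaf 27613259) (.leaf 9009233))) (.node 1 (.leaf 19746883) (.node 1 (.leaf 27791441) (.leaf 19746889))))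
(.node 3 (.node 1 (.leaf 19746907) (.node 1 (.leaf 27791433) (.leaf 19746897))) (.node 1 (.leaf 9009227) (.node 1 (.leaf 27613257) (.leaf 11286611)))))
(.node 6 (.node 3 (.node 1 (.leaf 27613275) (.node 1 (.leaf 9009217) (.leaf 25784401))) (.node 1 (.leaf 19732553) (.node 1 (.leaf 25784409) (.leaf 9205833))))
(.node 3 (.node 1 (.leaf 25514049) (.node 1 (.leaf 9205851) (.leaf 19738691))) (.node 1 (.leaf 27816017) (.node 1 (.leaf 19738697) (.leaf 9205843)))))))))
(.node 96 (.node 48 (.node 24 (.node 12 (.node 6 (.node 3 (.node 1 (.leaf 25514075) (.node 1 (.leaf 9205825) (.leaf 25784411))) (.node 1 (.leaf 19732547) (.node 1 (.leaf 25784403) (.leaf 11366467))))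
(.node 3 (.node 1 (.leaf 8982609) (.node 1 (.leaf 11366475) (.leaf 25696321))) (.node 1 (.leaf 19683419) (.node 1 (.leaf 27611211) (.leaf 25696347)))))
(.node 6 (.node 3 (.node 1 (.leaf 8992859) (.node 1 (.leaf 27596889) (.leaf 27596875))) (.node 1 (.leaf 8992849) (.node 1 (.leaf 25696339) (.leaf 27611225))))
(.node 3 (.node 1 (.leaf 25696329) (.node 1 (.leaf 11366473) (.leaf 8982619))) (.node 1 (.leaf 11366465) (.node 1 (.leaf 9001041) (.leaf 17043547))))))
(.node 12 (.node 6 (.node 3 (.node 1 (.leaf 11278409) (.node 1 (.leaf 17043531) (.leaf 9001051))) (.node 1 (.leaf 17043537) (.node 1 (.leaf 19755081) (.leaf 27799643))))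
(.node 3 (.node 1 (.leaf 19755075) (.node 1 (.leaf 11294809) (.leaf 25458771))) (.node 1 (.leaf 11294793) (.node 1 (.leaf 19755089) (.leaf 27799619)))))
(.node 6 (.node 3 (.node 1 (.leaf 19755099) (.node 1 (.leaf 9001025) (.leaf 11278425))) (.node 1 (.leaf 9001035) (.node 1 (.leaf 19230809) (.leaf 25704539))))
(.node 3 (.node 1 (.leaf 17649731) (.node 1 (.leaf 25704529) (.leaf 19230793))) (.node 1 (.leaf 11284547) (.node 1 (.leaf 25432137) (.leaf 11284563)))))))
(.node 24 (.node 12 (.node 6 (.node 3 (.node 1 (.leaf 17657931) (.node 1 (.leaf 17657923) (.leaf 11284569))) (.node 1 (.leaf 25432147) (.node 1 (.leaf 11284553) (.leaf 19230801))))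
(.node 3 (.node 1 (.leaf 25704531) (.node 1 (.leaf 17649739) (.leaf 25704537))) (.node 1 (.leaf 19230785) (.node 1 (.leaf 27621449) (.leaf 11278419)))))
(.node 6 (.node 3 (.node 1 (.leaf 27621467) (.node 1 (.leaf 11294787) (.leaf 25458761))) (.node 1 (.leaf 11294803) (.node 1 (.leaf 27621465) (.leaf 11278403))))
(.node 3 (.node 1 (.leaf 27621451) (.node 1 (.leaf 19148875) (.leaf 8941657))) (.node 1 (.leaf 19148883) (.node 1 (.leaf 11278401) (.leaf 25770073))))))
(.node 12 (.node 6 (.node 3 (.node 1 (.leaf 19746881) (.node 1 (.leaf 25770065) (.leaf 8919107))) (.node 1 (.leaf 17117259) (.node 1 (.leaf 8919129) (.leaf 25770057))))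
(.node 3 (.node 1 (.leaf 25770049) (.node 1 (.leaf 19148881) (.leaf 8941635))) (.node 1 (.leaf 19148873) (.node 1 (.leaf 25442371) (.leaf 17651777)))))
(.node 6 (.node 3 (.node 1 (.leaf 27856977) (.node 1 (.leaf 17651785) (.leaf 25442393))) (.node 1 (.leaf 8933457) (.node 1 (.leaf 17135705) (.leaf 8933451))))
(.node 3 (.node 1 (.leaf 8933443) (.node 1 (.leaf 17135691) (.leaf 8933465))) (.node 1 (.leaf 25442377) (.node 1 (.leaf 17651787) (.leaf 27856987))))))))
(.node 48 (.node 24 (.node 12 (.node 6 (.node 3 (.node 1 (.leaf 17651779) (.node 1 (.leaf 25442387) (.leaf 19148889))) (.node 1 (.leaf 8941643) (.node 1 (.leaf 19148865) (.leaf 25770059))))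
(.node 3 (.node 1 (.leaf 19746899) (.node 1 (.leaf 25770051) (.leaf 8919121))) (.node 1 (.leaf 17117273) (.node 1 (.leaf 8919115) (.leaf 25770075)))))
(.node 6 (.node 3 (.node 1 (.leaf 25770067) (.node 1 (.leaf 19148867) (.leaf 8941649))) (.node 1 (.leaf 19148891) (.node 1 (.leaf 27799633) (.leaf 25458777))))
(.node 3 (.node 1 (.leaf 27799625) (.node 1 (.leaf 19230803) (.leaf 17649737))) (.node 1 (.leaf 19230787) (.node 1 (.leaf 25432131) (.leaf 17657921))))))
(.node 12 (.node 6 (.node 3 (.node 1 (.leaf 17657929) (.node 1 (.leaf 25432153) (.leaf 19230811))) (.node 1 (.leaf 17649729) (.node 1 (.leaf 19230795) (.leaf 27799627))))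
(.node 3 (.node 1 (.leaf 25458755) (.node 1 (.leaf 27799635) (.leaf 17125459))) (.node 1 (.leaf 11081795) (.node 1 (.leaf 17125451) (.leaf 25440321)))))
(.node 6 (.node 3 (.node 1 (.leaf 9263193) (.node 1 (.leaf 25440339) (.leaf 17125467))) (.node 1 (.leaf 11081803) (.node 1 (.leaf 17125443) (.leaf 25458753))))
(.node 3 (.node 1 (.leaf 17584193) (.node 1 (.leaf 8982595) (.leaf 19216459))) (.node 1 (.leaf 17584211) (.node 1 (.leaf 25434187) (.leaf 9269331)))))))
(.node 24 (.node 12 (.node 6 (.node 3 (.node 1 (.leaf 25434201) (.node 1 (.leaf 19222609) (.leaf 19222603))) (.node 1 (.leaf 25434177) (.node 1 (.leaf 9269337) (.leaf 25434195))))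
(.node 3 (.node 1 (.leaf 17584219) (.node 1 (.leaf 8982617) (.leaf 19216465))) (.node 1 (.leaf 17584201) (.node 1 (.leaf 17125465) (.leaf 11081801)))))
(.node 6 (.node 3 (.node 1 (.leaf 17125441) (.node 1 (.leaf 25440331) (.leaf 9263187))) (.node 1 (.leaf 25440345) (.node 1 (.leaf 17125457) (.leaf 11081793))))
(.node 3 (.node 1 (.leaf 17125449) (.node 1 (.leaf 11294785) (.leaf 25458763))) (.node 1 (.leaf 11294801) (.node 1 (.leaf 17635409) (.leaf 27873345))))))
(.node 12 (.node 6 (.node 3 (.node 1 (.leaf 17635417) (.node 1 (.leaf 8917057) (.leaf 17119305))) (.node 1 (.leaf 8917083) (.node 1 (.leaf 27883595) (.leaf 19667025))))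
(.node 3 (.node 1 (.leaf 27883585) (.node 1 (.leaf 8917075) (.leaf 17119323))) (.node 1 (.leaf 8917065) (.node 1 (.leaf 17635419) (.leaf 27873355)))))
(.node 6 (.node 3 (.node 1 (.leaf 17635411) (.node 1 (.leaf 9244747) (.leaf 19214409))) (.node 1 (.leaf 11038811) (.node 1 (.leaf 19214419) (.leaf 9244737))))
(.node 3 (.node 1 (.leaf 9244755) (.node 1 (.leaf 19214417) (.leaf 11038787))) (.node 1 (.leaf 19214411) (.node 1 (.leaf 9244761) (.leaf 17635393))))))))))

/-- The stabiliser. -/
def caseBFullN4ElsLR : Tab ℕ :=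
(.node 192 (.node 96 (.node 48 (.node 24 (.node 12 (.node 6 (.node 3 (.node 1 (.leaf 27873361) (.node 1 (.leaf 17635401) (.leaf 8917073))) (.node 1 (.leaf 17119321) (.node 1 (.leaf 8917067) (.leaf 27883611))))
(.node 3 (.node 1 (.leaf 19667009) (.node 1 (.leaf 27883601) (.leaf 8917059))) (.node 1 (.leaf 17119307) (.node 1 (.leaf 8917081) (.leaf 17635403)))))
(.node 6 (.node 3 (.node 1 (.leaf 27873371) (.node 1 (.leaf 17635395) (.leaf 11081819))) (.node 1 (.leaf 9263169) (.node 1 (.leaf 11081811) (.leaf 17584217))))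
(.node 3 (.node 1 (.leaf 19216467) (.node 1 (.leaf 17584203) (.leaf 9269323))) (.node 1 (.leaf 19222601) (.node 1 (.leaf 19222611) (.leaf 9269313))))))
(.node 12 (.node 6 (.node 3 (.node 1 (.leaf 17584195) (.node 1 (.leaf 19216457) (.leaf 17584209))) (.node 1 (.leaf 11081809) (.node 1 (.leaf 9263179) (.leaf 11081817))))
(.node 3 (.node 1 (.leaf 25704523) (.node 1 (.leaf 17649747) (.leaf 25704513))) (.node 1 (.leaf 17657947) (.node 1 (.leaf 17657939) (.leaf 25704515)))))
(.node 6 (.node 3 (.node 1 (.leaf 17649755) (.node 1 (.leaf 25704521) (.leaf 8941641))) (.node 1 (.leaf 11278417) (.node 1 (.leaf 8919123) (.leaf 17117275))))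
(.node 3 (.node 1 (.leaf 8919113) (.node 1 (.leaf 8941651) (.leaf 17651793))) (.node 1 (.leaf 27856961) (.node 1 (.leaf 17651801) (.leaf 8933441)))))))
(.node 24 (.node 12 (.node 6 (.node 3 (.node 1 (.leaf 17135689) (.node 1 (.leaf 8933467) (.leaf 8933459))) (.node 1 (.leaf 17135707) (.node 1 (.leaf 8933449) (.leaf 17651803))))
(.node 3 (.node 1 (.leaf 27856971) (.node 1 (.leaf 17651795) (.leaf 8941659))) (.node 1 (.leaf 8919105) (.node 1 (.leaf 17117257) (.leaf 8919131)))))
(.node 6 (.node 3 (.node 1 (.leaf 8941633) (.node 1 (.leaf 17649753) (.leaf 17657937))) (.node 1 (.leaf 17657945) (.node 1 (.leaf 17649745) (.leaf 27881547))))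
(.node 3 (.node 1 (.leaf 11302985) (.node 1 (.leaf 11303001) (.leaf 27875393))) (.node 1 (.leaf 19675227) (.node 1 (.leaf 27875403) (.leaf 25450579))))))
(.node 12 (.node 6 (.node 3 (.node 1 (.leaf 27881537) (.node 1 (.leaf 9252929) (.leaf 11030609))) (.node 1 (.leaf 9252939) (.node 1 (.leaf 27859025) (.leaf 19691595))))
(.node 3 (.node 1 (.leaf 27859035) (.node 1 (.leaf 11022409) (.leaf 11022417))) (.node 1 (.leaf 27859009) (.node 1 (.leaf 19691611) (.leaf 27859019)))))
(.node 6 (.node 3 (.node 1 (.leaf 9252953) (.node 1 (.leaf 11030601) (.leaf 9252947))) (.node 1 (.leaf 27881563) (.node 1 (.leaf 27875409) (.leaf 19675211))))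
(.node 3 (.node 1 (.leaf 27875419) (.node 1 (.leaf 27881553) (.leaf 9181257))) (.node 1 (.leaf 25505857) (.node 1 (.leaf 9181275) (.leaf 19140673))))))))
(.node 48 (.node 24 (.node 12 (.node 6 (.node 3 (.node 1 (.leaf 19140697) (.node 1 (.leaf 25522257) (.leaf 11343945))) (.node 1 (.leaf 25522241) (.node 1 (.leaf 19140683) (.leaf 19140691))))
(.node 3 (.node 1 (.leaf 9181273) (.node 1 (.leaf 25505873) (.leaf 9181259))) (.node 1 (.leaf 19664977) (.node 1 (.leaf 11032659) (.leaf 17070169)))))
(.node 6 (.node 3 (.node 1 (.leaf 11032651) (.node 1 (.leaf 19664961) (.leaf 11352129))) (.node 1 (.leaf 25514057) (.node 1 (.leaf 25514065) (.leaf 11352137))))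
(.node 3 (.node 1 (.leaf 19664971) (.node 1 (.leaf 11032649) (.leaf 17070147))) (.node 1 (.leaf 11032657) (.node 1 (.leaf 19664987) (.leaf 9181249))))))
(.node 12 (.node 6 (.node 3 (.node 1 (.leaf 25505865) (.node 1 (.leaf 9181267) (.leaf 19140681))) (.node 1 (.leaf 19140689) (.node 1 (.leaf 25522265) (.leaf 11343937))))
(.node 3 (.node 1 (.leaf 25522249) (.node 1 (.leaf 19140675) (.leaf 19140699))) (.node 1 (.leaf 9181265) (.node 1 (.leaf 25505881) (.leaf 9181251)))))
(.node 6 (.node 3 (.node 1 (.leaf 17111129) (.node 1 (.leaf 19675201) (.leaf 17111115))) (.node 1 (.leaf 19691601) (.node 1 (.leaf 19691585) (.leaf 17111113))))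
(.node 3 (.node 1 (.leaf 19675217) (.node 1 (.leaf 17111131) (.leaf 11358299))) (.node 1 (.leaf 27553873) (.node 1 (.leaf 11358281) (.leaf 19667027)))))))
(.node 24 (.node 12 (.node 6 (.node 3 (.node 1 (.leaf 25712705) (.node 1 (.leaf 19667035) (.leaf 11358275))) (.node 1 (.leaf 27553865) (.node 1 (.leaf 11358289) (.leaf 19675219))))
(.node 3 (.node 1 (.leaf 11096147) (.node 1 (.leaf 9244745) (.leaf 11096155))) (.node 1 (.leaf 19689545) (.node 1 (.leaf 25702491) (.leaf 19689537)))))
(.node 6 (.node 3 (.node 1 (.leaf 9261145) (.node 1 (.leaf 9261129) (.leaf 19689555))) (.node 1 (.leaf 25702465) (.node 1 (.leaf 19689563) (.leaf 11096131))))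
(.node 3 (.node 1 (.leaf 11096139) (.node 1 (.leaf 11358273) (.leaf 27553867))) (.node 1 (.leaf 11358291) (.node 1 (.leaf 19667017) (.leaf 25712731))))))
(.node 12 (.node 6 (.node 3 (.node 1 (.leaf 11358297) (.node 1 (.leaf 27553875) (.leaf 11358283))) (.node 1 (.leaf 11038809) (.node 1 (.leaf 17059923) (.leaf 11038785))))
(.node 3 (.node 1 (.leaf 25524307) (.node 1 (.leaf 11341899) (.leaf 25524291))) (.node 1 (.leaf 17053769) (.node 1 (.leaf 9007193) (.leaf 17053779)))))
(.node 6 (.node 3 (.node 1 (.leaf 25524315) (.node 1 (.leaf 11341891) (.leaf 25524299))) (.node 1 (.leaf 17059913) (.node 1 (.leaf 25720905) (.leaf 9246795))))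
(.node 3 (.node 1 (.leaf 27603011) (.node 1 (.leaf 9246811) (.leaf 25720915))) (.node 1 (.leaf 25720923) (.node 1 (.leaf 9246809) (.leaf 27603025)))))))))
(.node 96 (.node 48 (.node 24 (.node 12 (.node 6 (.node 3 (.node 1 (.leaf 9246793) (.node 1 (.leaf 25720897) (.leaf 11038803))) (.node 1 (.leaf 17059929) (.node 1 (.leaf 11038795) (.leaf 25524313))))
(.node 3 (.node 1 (.leaf 11341889) (.node 1 (.leaf 25524297) (.leaf 17053763))) (.node 1 (.leaf 9007187) (.node 1 (.leaf 17053785) (.leaf 25524305)))))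
(.node 6 (.node 3 (.node 1 (.leaf 11341897) (.node 1 (.leaf 25524289) (.leaf 11038793))) (.node 1 (.leaf 17059907) (.node 1 (.leaf 11038801) (.leaf 27553859))))
(.node 3 (.node 1 (.leaf 25712723) (.node 1 (.leaf 27553883) (.leaf 11096129))) (.node 1 (.leaf 9244763) (.node 1 (.leaf 11096137) (.leaf 25702473))))))
(.node 12 (.node 6 (.node 3 (.node 1 (.leaf 9261131) (.node 1 (.leaf 9261147) (.leaf 25702483))) (.node 1 (.leaf 11096145) (.node 1 (.leaf 11096153) (.leaf 27553881))))
(.node 3 (.node 1 (.leaf 25712713) (.node 1 (.leaf 27553857) (.leaf 19206217))) (.node 1 (.leaf 11030619) (.node 1 (.leaf 19206227) (.leaf 11022403)))))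
(.node 6 (.node 3 (.node 1 (.leaf 11022427) (.node 1 (.leaf 19206225) (.leaf 11030595))) (.node 1 (.leaf 19206219) (.node 1 (.leaf 25505867) (.leaf 25522267))))
(.node 3 (.node 1 (.leaf 11343939) (.node 1 (.leaf 25522251) (.leaf 25505883))) (.node 1 (.leaf 11032665) (.node 1 (.leaf 17070163) (.leaf 11032641)))))))
(.node 24 (.node 12 (.node 6 (.node 3 (.node 1 (.leaf 25514067) (.node 1 (.leaf 11352139) (.leaf 11352131))) (.node 1 (.leaf 25514059) (.node 1 (.leaf 11032643) (.leaf 17070153))))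
(.node 3 (.node 1 (.leaf 11032667) (.node 1 (.leaf 25505859) (.leaf 25522259))) (.node 1 (.leaf 11343947) (.node 1 (.leaf 25522243) (.leaf 25505875)))))
(.node 6 (.node 3 (.node 1 (.leaf 11030593) (.node 1 (.leaf 11022425) (.leaf 11022401))) (.node 1 (.leaf 11030617) (.node 1 (.leaf 17592395) (.leaf 17592385))))
(.node 3 (.node 1 (.leaf 27596881) (.node 1 (.leaf 11040859) (.leaf 11040835))) (.node 1 (.leaf 25761875) (.node 1 (.leaf 25761883) (.leaf 11040841))))))
(.node 12 (.node 6 (.node 3 (.node 1 (.leaf 17061955) (.node 1 (.leaf 11040849) (.leaf 27596865))) (.node 1 (.leaf 17592387) (.node 1 (.leaf 17592393) (.leaf 27555923))))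
(.node 3 (.node 1 (.leaf 27555907) (.node 1 (.leaf 9195611) (.leaf 9195593))) (.node 1 (.leaf 27555905) (.node 1 (.leaf 27555921) (.leaf 25768025)))))
(.node 6 (.node 3 (.node 1 (.leaf 19748929) (.node 1 (.leaf 25768017) (.leaf 17068105))) (.node 1 (.leaf 9189441) (.node 1 (.leaf 25497673) (.leaf 9189459))))
(.node 3 (.node 1 (.leaf 9189467) (.node 1 (.leaf 25497683) (.leaf 9189449))) (.node 1 (.leaf 25768019) (.node 1 (.leaf 19748939) (.leaf 25768027))))))))
(.node 48 (.node 24 (.node 12 (.node 6 (.node 3 (.node 1 (.leaf 17068099) (.node 1 (.leaf 27555913) (.leaf 27555929))) (.node 1 (.leaf 9195585) (.node 1 (.leaf 9195603) (.leaf 27555931))))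
(.node 3 (.node 1 (.leaf 27555915) (.node 1 (.leaf 27596867) (.leaf 25761881))) (.node 1 (.leaf 25761873) (.node 1 (.leaf 17061961) (.leaf 27596883)))))
(.node 6 (.node 3 (.node 1 (.leaf 19691603) (.node 1 (.leaf 19691587) (.leaf 25507907))) (.node 1 (.leaf 25507923) (.node 1 (.leaf 8990793) (.leaf 25507915))))
(.node 3 (.node 1 (.leaf 25507931) (.node 1 (.leaf 9263195) (.leaf 27619411))) (.node 1 (.leaf 8984643) (.node 1 (.leaf 27605057) (.leaf 27605075))))))
(.node 12 (.node 6 (.node 3 (.node 1 (.leaf 8984649) (.node 1 (.leaf 9263177) (.leaf 27619393))) (.node 1 (.leaf 25507913) (.node 1 (.leaf 25507929) (.leaf 8990787))))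
(.node 3 (.node 1 (.leaf 25507905) (.node 1 (.leaf 25507921) (.leaf 25776193))) (.node 1 (.leaf 19740761) (.node 1 (.leaf 25776201) (.leaf 9197657)))))
(.node 6 (.node 3 (.node 1 (.leaf 9197643) (.node 1 (.leaf 19730515) (.leaf 27807809))) (.node 1 (.leaf 19730521) (.node 1 (.leaf 9197635) (.leaf 9197649))))
(.node 3 (.node 1 (.leaf 25776203) (.node 1 (.leaf 19740755) (.leaf 25776195))) (.node 1 (.leaf 25776217) (.node 1 (.leaf 19740737) (.leaf 25776209)))))))
(.node 24 (.node 12 (.node 6 (.node 3 (.node 1 (.leaf 9197633) (.node 1 (.leaf 9197651) (.leaf 19730507))) (.node 1 (.leaf 27807833) (.node 1 (.leaf 19730497) (.leaf 9197659))))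
(.node 3 (.node 1 (.leaf 9197641) (.node 1 (.leaf 25776211) (.leaf 19740747))) (.node 1 (.leaf 25776219) (.node 1 (.leaf 8990809) (.leaf 27619395)))))
(.node 6 (.node 3 (.node 1 (.leaf 8984659) (.node 1 (.leaf 27605073) (.leaf 27605059))) (.node 1 (.leaf 8984665) (.node 1 (.leaf 27619409) (.leaf 8990803))))
(.node 3 (.node 1 (.leaf 17592403) (.node 1 (.leaf 17592409) (.leaf 25761867))) (.node 1 (.leaf 25761859) (.node 1 (.leaf 17592411) (.leaf 17592401))))))
(.node 12 (.node 6 (.node 3 (.node 1 (.leaf 9195587) (.node 1 (.leaf 9195601) (.leaf 25768001))) (.node 1 (.leaf 19748953) (.node 1 (.leaf 25768009) (.leaf 9189465))))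
(.node 3 (.node 1 (.leaf 25497681) (.node 1 (.leaf 9189451) (.leaf 9189443))) (.node 1 (.leaf 25497675) (.node 1 (.leaf 9189457) (.leaf 25768011)))))
(.node 6 (.node 3 (.node 1 (.leaf 19748947) (.node 1 (.leaf 25768003) (.leaf 9195609))) (.node 1 (.leaf 9195595) (.node 1 (.leaf 25761857) (.leaf 25761865))))
(.node 3 (.node 1 (.leaf 11343961) (.node 1 (.leaf 11352145) (.leaf 11352153))) (.node 1 (.leaf 11343953) (.node 1 (.leaf 19667011) (.leaf 25712721))))))))))

/-- The stabiliser. -/
def caseBFullN4ElsL : Tab ℕ := .node 384 caseBFullN4ElsLL caseBFullN4ElsLR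

/-- The stabiliser. -/
def caseBFullN4ElsRL : Tab ℕ :=
(.node 192 (.node 96 (.node 48 (.node 24 (.node 12 (.node 6 (.node 3 (.node 1 (.leaf 19667019) (.node 1 (.leaf 19675203) (.leaf 19689561))) (.node 1 (.leaf 25702475) (.node 1 (.leaf 19689553) (.leaf 19689539))))
(.node 3 (.node 1 (.leaf 25702481) (.node 1 (.leaf 19689547) (.leaf 19667033))) (.node 1 (.leaf 25712715) (.node 1 (.leaf 11341915) (.leaf 9007177)))))
(.node 6 (.node 3 (.node 1 (.leaf 11341907) (.node 1 (.leaf 25720921) (.leaf 27603027))) (.node 1 (.leaf 25720899) (.node 1 (.leaf 25720907) (.leaf 27603009))))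
(.node 3 (.node 1 (.leaf 25720913) (.node 1 (.leaf 11341905) (.leaf 9007171))) (.node 1 (.leaf 11341913) (.node 1 (.leaf 25712707) (.leaf 25702489))))))
(.node 12 (.node 6 (.node 3 (.node 1 (.leaf 25702467) (.node 1 (.leaf 25712729) (.leaf 11343955))) (.node 1 (.leaf 11352155) (.node 1 (.leaf 11352147) (.leaf 11343963))))
(.node 3 (.node 1 (.leaf 17061971) (.node 1 (.leaf 17068121) (.leaf 8992841))) (.node 1 (.leaf 17068115) (.node 1 (.leaf 8992835) (.leaf 17051715)))))
(.node 6 (.node 3 (.node 1 (.leaf 17061977) (.node 1 (.leaf 8982601) (.leaf 19732563))) (.node 1 (.leaf 19738713) (.node 1 (.leaf 27816011) (.leaf 19738707))))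
(.node 3 (.node 1 (.leaf 19732569) (.node 1 (.leaf 9009241) (.leaf 11286593))) (.node 1 (.leaf 9009235) (.node 1 (.leaf 27791443) (.leaf 19746891)))))))
(.node 24 (.node 12 (.node 6 (.node 3 (.node 1 (.leaf 19746905) (.node 1 (.leaf 27791435) (.leaf 9009225))) (.node 1 (.leaf 11286609) (.node 1 (.leaf 9009219) (.leaf 19732555))))
(.node 3 (.node 1 (.leaf 19738689) (.node 1 (.leaf 27816019) (.leaf 19738699))) (.node 1 (.leaf 19732545) (.node 1 (.leaf 8982611) (.leaf 8992857)))))
(.node 6 (.node 3 (.node 1 (.leaf 8992851) (.node 1 (.leaf 27807811) (.leaf 17576025))) (.node 1 (.leaf 27807819) (.node 1 (.leaf 9007195) (.leaf 19224659))))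
(.node 3 (.node 1 (.leaf 27807825) (.node 1 (.leaf 17576011) (.leaf 27545691))) (.node 1 (.leaf 27545667) (.node 1 (.leaf 8990795) (.leaf 19208259))))))
(.node 12 (.node 6 (.node 3 (.node 1 (.leaf 25710657) (.node 1 (.leaf 25710667) (.leaf 8990811))) (.node 1 (.leaf 19208275) (.node 1 (.leaf 27545681) (.leaf 27545673))))
(.node 3 (.node 1 (.leaf 27807827) (.node 1 (.leaf 17576009) (.leaf 27807835))) (.node 1 (.leaf 9007179) (.node 1 (.leaf 19224643) (.leaf 17576027)))))
(.node 6 (.node 3 (.node 1 (.leaf 27807817) (.node 1 (.leaf 11292763) (.leaf 19740763))) (.node 1 (.leaf 27818057) (.node 1 (.leaf 19740753) (.leaf 11276363))))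
(.node 3 (.node 1 (.leaf 11276379) (.node 1 (.leaf 19740739) (.leaf 27818065))) (.node 1 (.leaf 19740745) (.node 1 (.leaf 11292747) (.leaf 25718857))))))))
(.node 48 (.node 24 (.node 12 (.node 6 (.node 3 (.node 1 (.leaf 25718851) (.node 1 (.leaf 19216475) (.leaf 19216451))) (.node 1 (.leaf 25718849) (.node 1 (.leaf 25718859) (.leaf 27603035))))
(.node 3 (.node 1 (.leaf 11292737) (.node 1 (.leaf 27603017) (.leaf 27818067))) (.node 1 (.leaf 11276369) (.node 1 (.leaf 25440347) (.leaf 11276353)))))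
(.node 6 (.node 3 (.node 1 (.leaf 27818059) (.node 1 (.leaf 27603019) (.leaf 11292753))) (.node 1 (.leaf 27603033) (.node 1 (.leaf 17576017) (.leaf 19224667))))
(.node 3 (.node 1 (.leaf 17576003) (.node 1 (.leaf 27545683) (.leaf 27545675))) (.node 1 (.leaf 19208267) (.node 1 (.leaf 25710665) (.leaf 25710659))))))
(.node 12 (.node 6 (.node 3 (.node 1 (.leaf 19208283) (.node 1 (.leaf 27545689) (.leaf 27545665))) (.node 1 (.leaf 17576001) (.node 1 (.leaf 19224651) (.leaf 17576019))))
(.node 3 (.node 1 (.leaf 9271371) (.node 1 (.leaf 27611203) (.leaf 9271387))) (.node 1 (.leaf 9271385) (.node 1 (.leaf 27611217) (.leaf 9271369)))))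
(.node 6 (.node 3 (.node 1 (.leaf 27613249) (.node 1 (.leaf 11286619) (.leaf 27613267))) (.node 1 (.leaf 27613265) (.node 1 (.leaf 11286603) (.leaf 27613251))))
(.node 3 (.node 1 (.leaf 27611219) (.node 1 (.leaf 27611201) (.leaf 11087945))) (.node 1 (.leaf 11087955) (.node 1 (.leaf 19165275) (.leaf 19165251)))))))
(.node 24 (.node 12 (.node 6 (.node 3 (.node 1 (.leaf 27605067) (.node 1 (.leaf 27605081) (.leaf 11087953))) (.node 1 (.leaf 11087947) (.node 1 (.leaf 17578075) (.leaf 17578065))))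
(.node 3 (.node 1 (.leaf 17578067) (.node 1 (.leaf 17578073) (.leaf 19142721))) (.node 1 (.leaf 8935507) (.node 1 (.leaf 19142745) (.leaf 11284555)))))
(.node 6 (.node 3 (.node 1 (.leaf 25759827) (.node 1 (.leaf 19757131) (.leaf 25759835))) (.node 1 (.leaf 25759811) (.node 1 (.leaf 19757147) (.leaf 25759819))))
(.node 3 (.node 1 (.leaf 19142747) (.node 1 (.leaf 8935497) (.leaf 19142723))) (.node 1 (.leaf 11284561) (.node 1 (.leaf 17578059) (.leaf 17578049))))))
(.node 12 (.node 6 (.node 3 (.node 1 (.leaf 17578051) (.node 1 (.leaf 17578057) (.leaf 19165249))) (.node 1 (.leaf 19165273) (.node 1 (.leaf 19730513) (.leaf 19730523))))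
(.node 3 (.node 1 (.leaf 19730505) (.node 1 (.leaf 19730499) (.leaf 17641563))) (.node 1 (.leaf 25456721) (.node 1 (.leaf 17633363) (.leaf 17633371)))))
(.node 6 (.node 3 (.node 1 (.leaf 25456715) (.node 1 (.leaf 17641555) (.leaf 25434193))) (.node 1 (.leaf 19157075) (.node 1 (.leaf 19157067) (.leaf 25778241))))
(.node 3 (.node 1 (.leaf 25778249) (.node 1 (.leaf 8943707) (.leaf 8943681))) (.node 1 (.leaf 25778257) (.node 1 (.leaf 25778265) (.leaf 19157065)))))))))
(.node 96 (.node 48 (.node 24 (.node 12 (.node 6 (.node 3 (.node 1 (.leaf 19157073) (.node 1 (.leaf 19157057) (.leaf 19157081))) (.node 1 (.leaf 25778259) (.node 1 (.leaf 25778267) (.leaf 8943689))))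
(.node 3 (.node 1 (.leaf 8943699) (.node 1 (.leaf 25778243) (.leaf 25778251))) (.node 1 (.leaf 19157083) (.node 1 (.leaf 19157059) (.leaf 17641553)))))
(.node 6 (.node 3 (.node 1 (.leaf 25456731) (.node 1 (.leaf 17633369) (.leaf 17633361))) (.node 1 (.leaf 25456705) (.node 1 (.leaf 17641561) (.leaf 25434203))))
(.node 3 (.node 1 (.leaf 11087963) (.node 1 (.leaf 11087937) (.leaf 19165257))) (.node 1 (.leaf 19165265) (.node 1 (.leaf 11087939) (.leaf 11087961))))))
(.node 12 (.node 6 (.node 3 (.node 1 (.leaf 19142739) (.node 1 (.leaf 8935489) (.leaf 19142731))) (.node 1 (.leaf 25759809) (.node 1 (.leaf 19757145) (.leaf 25759817))))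
(.node 3 (.node 1 (.leaf 25759825) (.node 1 (.leaf 19757129) (.leaf 25759833))) (.node 1 (.leaf 19142729) (.node 1 (.leaf 8935515) (.leaf 19142737)))))
(.node 6 (.node 3 (.node 1 (.leaf 19165267) (.node 1 (.leaf 19165259) (.leaf 27816001))) (.node 1 (.leaf 27791449) (.node 1 (.leaf 27791425) (.leaf 27816025))))
(.node 3 (.node 1 (.leaf 9007185) (.node 1 (.leaf 19224665) (.leaf 8990785))) (.node 1 (.leaf 19208265) (.node 1 (.leaf 8990801) (.leaf 19208281)))))))
(.node 24 (.node 12 (.node 6 (.node 3 (.node 1 (.leaf 9007169) (.node 1 (.leaf 19224649) (.leaf 27818051))) (.node 1 (.leaf 27818075) (.node 1 (.leaf 19216449) (.leaf 19216473))))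
(.node 3 (.node 1 (.leaf 27818073) (.node 1 (.leaf 25440337) (.leaf 27818049))) (.node 1 (.leaf 19224657) (.node 1 (.leaf 19208257) (.leaf 19208273)))))
(.node 6 (.node 3 (.node 1 (.leaf 19224641) (.node 1 (.leaf 27816027) (.leaf 27791427))) (.node 1 (.leaf 27791451) (.node 1 (.leaf 27816003) (.leaf 27547737))))
(.node 3 (.node 1 (.leaf 27547721) (.node 1 (.leaf 27547731) (.leaf 27547715))) (.node 1 (.leaf 17135681) (.node 1 (.leaf 27809857) (.leaf 27809881))))))
(.node 12 (.node 6 (.node 3 (.node 1 (.leaf 11104345) (.node 1 (.leaf 17119313) (.leaf 17119297))) (.node 1 (.leaf 11104337) (.node 1 (.leaf 27809875) (.leaf 25432155))))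
(.node 3 (.node 1 (.leaf 11284545) (.node 1 (.leaf 27809867) (.leaf 17135697))) (.node 1 (.leaf 27547729) (.node 1 (.leaf 27547713) (.leaf 27547739)))))
(.node 6 (.node 3 (.node 1 (.leaf 27547723) (.node 1 (.leaf 11089995) (.leaf 11090001))) (.node 1 (.leaf 11090011) (.node 1 (.leaf 11089985) (.leaf 27793489))))
(.node 3 (.node 1 (.leaf 17594443) (.node 1 (.leaf 27793497) (.leaf 27793475))) (.node 1 (.leaf 17594457) (.node 1 (.leaf 27793483) (.leaf 11090009))))))))
(.node 48 (.node 24 (.node 12 (.node 6 (.node 3 (.node 1 (.leaf 11089987) (.node 1 (.leaf 11089993) (.leaf 11090003))) (.node 1 (.leaf 17109059) (.node 1 (.leaf 11098195) (.leaf 17109083))))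
(.node 3 (.node 1 (.leaf 25456707) (.node 1 (.leaf 17109067) (.leaf 11098203))) (.node 1 (.leaf 17109075) (.node 1 (.leaf 25442385) (.leaf 17567825)))))
(.node 6 (.node 3 (.node 1 (.leaf 8998995) (.node 1 (.leaf 19232859) (.leaf 8998987))) (.node 1 (.leaf 17567811) (.node 1 (.leaf 17567819) (.leaf 8998985))))
(.node 3 (.node 1 (.leaf 19232833) (.node 1 (.leaf 8998993) (.leaf 17567833))) (.node 1 (.leaf 17109065) (.node 1 (.leaf 11098201) (.leaf 17109073))))))
(.node 12 (.node 6 (.node 3 (.node 1 (.leaf 9246787) (.node 1 (.leaf 25456713) (.leaf 17109057))) (.node 1 (.leaf 11098193) (.node 1 (.leaf 17109081) (.leaf 25442395))))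
(.node 3 (.node 1 (.leaf 17594449) (.node 1 (.leaf 17594435) (.leaf 17135699))) (.node 1 (.leaf 17119299) (.node 1 (.leaf 11104339) (.leaf 11104347)))))
(.node 6 (.node 3 (.node 1 (.leaf 17119315) (.node 1 (.leaf 11284571) (.leaf 25432145))) (.node 1 (.leaf 17135683) (.node 1 (.leaf 11286617) (.leaf 11286601))))
(.node 3 (.node 1 (.leaf 19222593) (.node 1 (.leaf 19222617) (.leaf 8927307))) (.node 1 (.leaf 8927313) (.node 1 (.leaf 17659977) (.leaf 27865177)))))))
(.node 24 (.node 12 (.node 6 (.node 3 (.node 1 (.leaf 17659969) (.node 1 (.leaf 17127505) (.leaf 17127491))) (.node 1 (.leaf 17659971) (.node 1 (.leaf 27865171) (.leaf 17659979))))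
(.node 3 (.node 1 (.leaf 8927321) (.node 1 (.leaf 8927299) (.leaf 19222619))) (.node 1 (.leaf 19222595) (.node 1 (.leaf 17133659) (.leaf 17133635)))))
(.node 6 (.node 3 (.node 1 (.leaf 17133651) (.node 1 (.leaf 17133643) (.leaf 9261137))) (.node 1 (.leaf 17133649) (.node 1 (.leaf 17133641) (.leaf 17133657))))
(.node 3 (.node 1 (.leaf 17133633) (.node 1 (.leaf 9261123) (.leaf 8927323))) (.node 1 (.leaf 8927297) (.node 1 (.leaf 17659993) (.leaf 27865161))))))
(.node 12 (.node 6 (.node 3 (.node 1 (.leaf 17659985) (.node 1 (.leaf 17127489) (.leaf 17127507))) (.node 1 (.leaf 17659987) (.node 1 (.leaf 27865155) (.leaf 17659995))))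
(.node 3 (.node 1 (.leaf 8927305) (.node 1 (.leaf 8927315) (.leaf 11104321))) (.node 1 (.leaf 11104329) (.node 1 (.leaf 27793481) (.leaf 17594451)))))
(.node 6 (.node 3 (.node 1 (.leaf 27793473) (.node 1 (.leaf 27793499) (.leaf 17594433))) (.node 1 (.leaf 27793491) (.node 1 (.leaf 11098187) (.leaf 9246801))))
(.node 3 (.node 1 (.leaf 11098179) (.node 1 (.leaf 17567817) (.leaf 19232835))) (.node 1 (.leaf 17567835) (.node 1 (.leaf 17567827) (.leaf 19232857))))))))))

/-- The stabiliser. -/
def caseBFullN4ElsRR : Tab ℕ :=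
(.node 192 (.node 96 (.node 48 (.node 24 (.node 12 (.node 6 (.node 3 (.node 1 (.leaf 17567809) (.node 1 (.leaf 11098177) (.leaf 11098185))) (.node 1 (.leaf 17594441) (.node 1 (.leaf 17594459) (.leaf 11104331))))
(.node 3 (.node 1 (.leaf 11104323) (.node 1 (.leaf 25710673) (.leaf 25710683))) (.node 1 (.leaf 25718873) (.node 1 (.leaf 25718867) (.leaf 25718865)))))
(.node 6 (.node 3 (.node 1 (.leaf 25718875) (.node 1 (.leaf 25710681) (.leaf 25710675))) (.node 1 (.leaf 27605083) (.node 1 (.leaf 27605065) (.leaf 8935491))))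
(.node 3 (.node 1 (.leaf 8935513) (.node 1 (.leaf 17641547) (.leaf 17633347))) (.node 1 (.leaf 17633355) (.node 1 (.leaf 17641539) (.leaf 8943691))))))
(.node 12 (.node 6 (.node 3 (.node 1 (.leaf 8943697) (.node 1 (.leaf 8943705) (.leaf 8943683))) (.node 1 (.leaf 17641537) (.node 1 (.leaf 17633353) (.leaf 17633345))))
(.node 3 (.node 1 (.leaf 17641545) (.node 1 (.leaf 8935505) (.leaf 8935499))) (.node 1 (.leaf 25432139) (.node 1 (.leaf 25442369) (.leaf 27856979)))))
(.node 6 (.node 3 (.node 1 (.leaf 25442379) (.node 1 (.leaf 27856985) (.leaf 25458779))) (.node 1 (.leaf 25432129) (.node 1 (.leaf 25440323) (.leaf 25434185))))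
(.node 3 (.node 1 (.leaf 9269329) (.node 1 (.leaf 25434179) (.leaf 9269339))) (.node 1 (.leaf 25440329) (.node 1 (.leaf 9263185) (.leaf 27873347)))))))
(.node 24 (.node 12 (.node 6 (.node 3 (.node 1 (.leaf 27883593) (.node 1 (.leaf 27883587) (.leaf 27873353))) (.node 1 (.leaf 9244739) (.node 1 (.leaf 9244753) (.leaf 27873363))))
(.node 3 (.node 1 (.leaf 27883609) (.node 1 (.leaf 27883603) (.leaf 27873369))) (.node 1 (.leaf 9263171) (.node 1 (.leaf 9269321) (.leaf 9269315)))))
(.node 6 (.node 3 (.node 1 (.leaf 27856963) (.node 1 (.leaf 27856969) (.leaf 27531339))) (.node 1 (.leaf 27531355) (.node 1 (.leaf 9187395) (.leaf 9187409))))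
(.node 3 (.node 1 (.leaf 27531353) (.node 1 (.leaf 27531337) (.leaf 11079747))) (.node 1 (.leaf 11079769) (.node 1 (.leaf 11079771) (.leaf 11079745))))))
(.node 12 (.node 6 (.node 3 (.node 1 (.leaf 9203795) (.node 1 (.leaf 25516123) (.leaf 9203777))) (.node 1 (.leaf 19167323) (.node 1 (.leaf 19167299) (.leaf 19167313))))
(.node 3 (.node 1 (.leaf 19167305) (.node 1 (.leaf 9203779) (.leaf 25516107))) (.node 1 (.leaf 9203793) (.node 1 (.leaf 11079753) (.leaf 11079763)))))
(.node 6 (.node 3 (.node 1 (.leaf 11079761) (.node 1 (.leaf 11079755) (.leaf 9187411))) (.node 1 (.leaf 9187393) (.node 1 (.leaf 11016259) (.leaf 19673177))))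
(.node 3 (.node 1 (.leaf 19673161) (.node 1 (.leaf 11016283) (.leaf 19159123))) (.node 1 (.leaf 19159115) (.node 1 (.leaf 19159129) (.leaf 19159105))))))))
(.node 48 (.node 24 (.node 12 (.node 6 (.node 3 (.node 1 (.leaf 19159131) (.node 1 (.leaf 19159107) (.leaf 19159121))) (.node 1 (.leaf 19159113) (.node 1 (.leaf 11016281) (.leaf 19673155))))
(.node 3 (.node 1 (.leaf 11040833) (.node 1 (.leaf 11040857) (.leaf 19673171))) (.node 1 (.leaf 11016257) (.node 1 (.leaf 27531331) (.leaf 27531347)))))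
(.node 6 (.node 3 (.node 1 (.leaf 9187403) (.node 1 (.leaf 9187417) (.leaf 27531345))) (.node 1 (.leaf 27531329) (.node 1 (.leaf 9203803) (.leaf 25516115))))
(.node 3 (.node 1 (.leaf 9203785) (.node 1 (.leaf 19167315) (.leaf 19167307))) (.node 1 (.leaf 19167321) (.node 1 (.leaf 19167297) (.leaf 9203787))))))
(.node 12 (.node 6 (.node 3 (.node 1 (.leaf 25516099) (.node 1 (.leaf 9203801) (.leaf 9187419))) (.node 1 (.leaf 9187401) (.node 1 (.leaf 17117267) (.leaf 17117249))))
(.node 3 (.node 1 (.leaf 17117251) (.node 1 (.leaf 17117265) (.leaf 17586241))) (.node 1 (.leaf 17586251) (.node 1 (.leaf 17586267) (.leaf 17586257)))))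
(.node 6 (.node 3 (.node 1 (.leaf 27537473) (.node 1 (.leaf 27537497) (.leaf 17127515))) (.node 1 (.leaf 17127497) (.node 1 (.leaf 17586265) (.leaf 17586259))))
(.node 3 (.node 1 (.leaf 17586243) (.node 1 (.leaf 17586249) (.leaf 27529289))) (.node 1 (.leaf 27529305) (.node 1 (.leaf 27529283) (.leaf 27529299)))))))
(.node 24 (.node 12 (.node 6 (.node 3 (.node 1 (.leaf 27529281) (.node 1 (.leaf 27529297) (.leaf 27529291))) (.node 1 (.leaf 27529307) (.node 1 (.leaf 11368529) (.leaf 11368515))))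
(.node 3 (.node 1 (.leaf 19673169) (.node 1 (.leaf 11368521) (.leaf 11368539))) (.node 1 (.leaf 19664985) (.node 1 (.leaf 11106393) (.leaf 25448539)))))
(.node 6 (.node 3 (.node 1 (.leaf 9254979) (.node 1 (.leaf 25448521) (.leaf 11106385))) (.node 1 (.leaf 11106377) (.node 1 (.leaf 25448523) (.leaf 9254995))))
(.node 3 (.node 1 (.leaf 25448537) (.node 1 (.leaf 11106369) (.leaf 11368523))) (.node 1 (.leaf 11368537) (.node 1 (.leaf 19673163) (.leaf 11368531))))))
(.node 12 (.node 6 (.node 3 (.node 1 (.leaf 11368513) (.node 1 (.leaf 19664963) (.leaf 27537499))) (.node 1 (.leaf 27537475) (.node 1 (.leaf 9261139) (.leaf 9261121))))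
(.node 3 (.node 1 (.leaf 25497689) (.node 1 (.leaf 11024459) (.leaf 17045569))) (.node 1 (.leaf 11024467) (.node 1 (.leaf 11360345) (.leaf 11360337)))))
(.node 6 (.node 3 (.node 1 (.leaf 11024465) (.node 1 (.leaf 17045595) (.leaf 11024457))) (.node 1 (.leaf 25497665) (.node 1 (.leaf 11350083) (.leaf 11350097))))
(.node 3 (.node 1 (.leaf 11350107) (.node 1 (.leaf 11350089) (.leaf 11350105))) (.node 1 (.leaf 11350091) (.node 1 (.leaf 11350081) (.leaf 11350099)))))))))
(.node 96 (.node 48 (.node 24 (.node 12 (.node 6 (.node 3 (.node 1 (.leaf 25497667) (.node 1 (.leaf 11024449) (.leaf 17045579))) (.node 1 (.leaf 11024473) (.node 1 (.leaf 11360339) (.leaf 11360347))))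
(.node 3 (.node 1 (.leaf 11024475) (.node 1 (.leaf 17045585) (.leaf 11024451))) (.node 1 (.leaf 25497691) (.node 1 (.leaf 27537491) (.leaf 27537483)))))
(.node 6 (.node 3 (.node 1 (.leaf 11106379) (.node 1 (.leaf 9254993) (.leaf 11106371))) (.node 1 (.leaf 11106395) (.node 1 (.leaf 9254977) (.leaf 11106387))))
(.node 3 (.node 1 (.leaf 27537481) (.node 1 (.leaf 27537489) (.leaf 19214401))) (.node 1 (.leaf 19214427) (.node 1 (.leaf 19214425) (.leaf 19214403))))))
(.node 12 (.node 6 (.node 3 (.node 1 (.leaf 25516113) (.node 1 (.leaf 25516097) (.leaf 11016265))) (.node 1 (.leaf 11016273) (.node 1 (.leaf 11016275) (.leaf 11040843))))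
(.node 3 (.node 1 (.leaf 11040851) (.node 1 (.leaf 11016267) (.leaf 25516121))) (.node 1 (.leaf 25516105) (.node 1 (.leaf 19150923) (.leaf 19150939)))))
(.node 6 (.node 3 (.node 1 (.leaf 19150913) (.node 1 (.leaf 19150929) (.leaf 9246803))) (.node 1 (.leaf 17569873) (.node 1 (.leaf 17569883) (.leaf 27619403))))
(.node 3 (.node 1 (.leaf 27619419) (.node 1 (.leaf 17569881) (.leaf 17569875))) (.node 1 (.leaf 19232843) (.node 1 (.leaf 19232849) (.leaf 17070155)))))))
(.node 24 (.node 12 (.node 6 (.node 3 (.node 1 (.leaf 19664979) (.node 1 (.leaf 19232851) (.leaf 19232841))) (.node 1 (.leaf 19150915) (.node 1 (.leaf 19150931) (.leaf 19150921))))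
(.node 3 (.node 1 (.leaf 19150937) (.node 1 (.leaf 25786443) (.leaf 17045587))) (.node 1 (.leaf 25786435) (.node 1 (.leaf 17059905) (.leaf 27539523)))))
(.node 6 (.node 3 (.node 1 (.leaf 27539539) (.node 1 (.leaf 9179211) (.leaf 9179225))) (.node 1 (.leaf 27539537) (.node 1 (.leaf 27539521) (.leaf 27539545))))
(.node 3 (.node 1 (.leaf 27539529) (.node 1 (.leaf 9179217) (.leaf 9179203))) (.node 1 (.leaf 27539531) (.node 1 (.leaf 27539547) (.leaf 25786433))))))
(.node 12 (.node 6 (.node 3 (.node 1 (.leaf 17045593) (.node 1 (.leaf 25786441) (.leaf 17059915))) (.node 1 (.leaf 9246785) (.node 1 (.leaf 27619417) (.leaf 27619401))))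
(.node 3 (.node 1 (.leaf 19664969) (.node 1 (.leaf 17070145) (.leaf 19681345))) (.node 1 (.leaf 25694291) (.node 1 (.leaf 19681353) (.leaf 19681371)))))
(.node 6 (.node 3 (.node 1 (.leaf 25694281) (.node 1 (.leaf 19681363) (.leaf 27594827))) (.node 1 (.leaf 27594841) (.node 1 (.leaf 8999003) (.leaf 25694273))))
(.node 3 (.node 1 (.leaf 25694299) (.node 1 (.leaf 19757123) (.leaf 19757137))) (.node 1 (.leaf 19681361) (.node 1 (.leaf 25694275) (.leaf 19681369))))))))
(.node 48 (.node 24 (.node 12 (.node 6 (.node 3 (.node 1 (.leaf 19681355) (.node 1 (.leaf 25694297) (.leaf 19681347))) (.node 1 (.leaf 8998977) (.node 1 (.leaf 27594843) (.leaf 27594825))))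
(.node 3 (.node 1 (.leaf 25694289) (.node 1 (.leaf 25694283) (.leaf 17569865))) (.node 1 (.leaf 17569859) (.node 1 (.leaf 17569857) (.leaf 17569867)))))
(.node 6 (.node 3 (.node 1 (.leaf 25786451) (.node 1 (.leaf 25786459) (.leaf 9179219))) (.node 1 (.leaf 9179201) (.node 1 (.leaf 9179209) (.leaf 9179227))))
(.node 3 (.node 1 (.leaf 25786457) (.node 1 (.leaf 25786449) (.leaf 17127499))) (.node 1 (.leaf 17127513) (.node 1 (.leaf 19673153) (.leaf 19673179))))))
(.node 12 (.node 6 (.node 3 (.node 1 (.leaf 11360329) (.node 1 (.leaf 11360321) (.leaf 11360323))) (.node 1 (.leaf 11360331) (.node 1 (.leaf 17070171) (.leaf 17059921))))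
(.node 3 (.node 1 (.leaf 17053771) (.node 1 (.leaf 17053777) (.leaf 17059931))) (.node 1 (.leaf 17053761) (.node 1 (.leaf 17053787) (.leaf 17070161)))))
(.node 6 (.node 3 (.node 1 (.leaf 19748931) (.node 1 (.leaf 19748937) (.leaf 8984641))) (.node 1 (.leaf 8984651) (.node 1 (.leaf 8984657) (.leaf 8984667))))
(.node 3 (.node 1 (.leaf 19748955) (.node 1 (.leaf 19748945) (.leaf 27801689))) (.node 1 (.leaf 27801681) (.node 1 (.leaf 27801675) (.leaf 27801667)))))))
(.node 24 (.node 12 (.node 6 (.node 3 (.node 1 (.leaf 27801673) (.node 1 (.leaf 27801665) (.leaf 27801691))) (.node 1 (.leaf 27801683) (.node 1 (.leaf 19757121) (.leaf 11300947))))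
(.node 3 (.node 1 (.leaf 11300931) (.node 1 (.leaf 19757139) (.leaf 27594835))) (.node 1 (.leaf 11300937) (.node 1 (.leaf 27594817) (.leaf 27809883)))))
(.node 6 (.node 3 (.node 1 (.leaf 27809859) (.node 1 (.leaf 27594819) (.leaf 11300953))) (.node 1 (.leaf 27594833) (.node 1 (.leaf 9254985) (.leaf 9255001))))
(.node 3 (.node 1 (.leaf 9255003) (.node 1 (.leaf 9254987) (.leaf 11300955))) (.node 1 (.leaf 11292755) (.node 1 (.leaf 11300929) (.leaf 11292745))))))
(.node 12 (.node 6 (.node 3 (.node 1 (.leaf 8998979) (.node 1 (.leaf 25448515) (.leaf 8999001))) (.node 1 (.leaf 25448531) (.node 1 (.leaf 27809873) (.leaf 27809865))))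
(.node 3 (.node 1 (.leaf 11276377) (.node 1 (.leaf 11276361) (.leaf 11292761))) (.node 1 (.leaf 11300945) (.node 1 (.leaf 11300939) (.leaf 25448513)))))
(.node 6 (.node 3 (.node 1 (.leaf 11292739) (.node 1 (.leaf 11276371) (.leaf 11276355))) (.node 1 (.leaf 25456723) (.node 1 (.leaf 25456729) (.leaf 27865179))))
(.node 3 (.node 1 (.leaf 27865169) (.node 1 (.leaf 27865163) (.leaf 27865153))) (.node 1 (.leaf 25448529) (.node 1 (.leaf 17045571) (.leaf 17045577))))))))))

/-- The stabiliser. -/
def caseBFullN4ElsR : Tab ℕ := .node 384 caseBFullN4ElsRL caseBFullN4ElsRR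

/-- The stabiliser. -/
def caseBFullN4Els : Tab ℕ := .node 768 caseBFullN4ElsL caseBFullN4ElsR

/-- Its index. -/
def caseBFullN4Ix : BT ℕ :=
(.node 19140673 479
(.node 11276353 875
(.node 9244737 377
(.node 8998977 1443
(.node 8941633 444
(.node 8927297 1125
(.node 8919121 296
(.node 8917081 394
(.node 8917067 388 (.node 8917059 392 (.node 8917057 361 .tip .tip) (.node 8917065 369 .tip .tip)) (.node 8917075 367 (.node 8917073 386 .tip .tip) .tip))
(.node 8919107 266 (.node 8919105 441 (.node 8917083 363 .tip .tip) .tip) (.node 8919115 298 (.node 8919113 426 .tip .tip) .tip)))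
(.node 8925257 45
(.node 8919131 443 (.node 8919129 268 (.node 8919123 424 .tip .tip) .tip) (.node 8925251 84 (.node 8925249 53 .tip .tip) .tip))
(.node 8925267 47 (.node 8925265 90 (.node 8925259 88 .tip .tip) .tip) (.node 8925275 51 (.node 8925273 82 .tip .tip) .tip))))
(.node 8933457 279
(.node 8927321 1110
(.node 8927307 1100 (.node 8927305 1134 (.node 8927299 1111 .tip .tip) .tip) (.node 8927315 1135 (.node 8927313 1101 .tip .tip) .tip))
(.node 8933443 282 (.node 8933441 431 (.node 8927323 1124 .tip .tip) .tip) (.node 8933451 281 (.node 8933449 436 .tip .tip) .tip)))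
(.node 8935497 931
(.node 8933467 433 (.node 8933465 284 (.node 8933459 434 .tip .tip) .tip) (.node 8935491 1169 (.node 8935489 985 .tip .tip) .tip))
(.node 8935507 921 (.node 8935505 1183 (.node 8935499 1184 .tip .tip) .tip) (.node 8935515 994 (.node 8935513 1170 .tip .tip) .tip)))))
(.node 8984641 1478
(.node 8943697 1176
(.node 8941657 260
(.node 8941643 291 (.node 8941641 422 (.node 8941635 272 .tip .tip) .tip) (.node 8941651 427 (.node 8941649 302 .tip .tip) .tip))
(.node 8943683 1178 (.node 8943681 956 (.node 8941659 440 .tip .tip) .tip) (.node 8943691 1175 (.node 8943689 965 .tip .tip) .tip)))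
(.node 8982601 805
(.node 8943707 955 (.node 8943705 1177 (.node 8943699 966 .tip .tip) .tip) (.node 8982595 331 (.node 8982593 107 .tip .tip) .tip))
(.node 8982611 826 (.node 8982609 198 (.node 8982603 141 .tip .tip) .tip) (.node 8982619 212 (.node 8982617 343 .tip .tip) .tip))))
(.node 8990801 1006
(.node 8984665 735
(.node 8984651 1479 (.node 8984649 696 (.node 8984643 693 .tip .tip) .tip) (.node 8984659 732 (.node 8984657 1480 .tip .tip) .tip))
(.node 8990787 701 (.node 8990785 1004 (.node 8984667 1481 .tip .tip) .tip) (.node 8990795 838 (.node 8990793 688 .tip .tip) .tip)))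
(.node 8992841 800
(.node 8990811 842 (.node 8990809 730 (.node 8990803 737 .tip .tip) .tip) (.node 8992835 802 (.node 8992833 127 .tip .tip) .tip))
(.node 8992851 828 (.node 8992849 207 (.node 8992843 122 .tip .tip) .tip) (.node 8992859 204 (.node 8992857 827 .tip .tip) .tip))))))
(.node 9187393 1239
(.node 9009217 181
(.node 9001041 214
(.node 8999001 1514
(.node 8998987 1070 (.node 8998985 1073 (.node 8998979 1512 .tip .tip) .tip) (.node 8998995 1068 (.node 8998993 1075 .tip .tip) .tip))
(.node 9001027 31 (.node 9001025 229 (.node 8999003 1432 .tip .tip) .tip) (.node 9001035 231 (.node 9001033 35 .tip .tip) .tip)))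
(.node 9007177 779
(.node 9001051 218 (.node 9001049 20 (.node 9001043 14 .tip .tip) .tip) (.node 9007171 788 (.node 9007169 1008 .tip .tip) .tip))
(.node 9007187 585 (.node 9007185 1002 (.node 9007179 849 .tip .tip) .tip) (.node 9007195 832 (.node 9007193 562 .tip .tip) .tip))))
(.node 9179217 1411
(.node 9009241 811
(.node 9009227 177 (.node 9009225 818 (.node 9009219 820 .tip .tip) .tip) (.node 9009235 813 (.node 9009233 170 .tip .tip) .tip))
(.node 9179203 1412 (.node 9179201 1455 (.node 9009243 166 .tip .tip) .tip) (.node 9179211 1405 (.node 9179209 1456 .tip .tip) .tip)))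
(.node 9181257 476
(.node 9179227 1457 (.node 9179225 1406 (.node 9179219 1454 .tip .tip) .tip) (.node 9181251 515 (.node 9181249 503 .tip .tip) .tip))
(.node 9181267 505 (.node 9181265 513 (.node 9181259 488 .tip .tip) .tip) (.node 9181275 478 (.node 9181273 486 .tip .tip) .tip)))))
(.node 9197633 720
(.node 9189457 754
(.node 9187417 1261
(.node 9187403 1260 (.node 9187401 1275 (.node 9187395 1216 .tip .tip) .tip) (.node 9187411 1238 (.node 9187409 1217 .tip .tip) .tip))
(.node 9189443 752 (.node 9189441 663 (.node 9187419 1274 .tip .tip) .tip) (.node 9189451 751 (.node 9189449 668 .tip .tip) .tip)))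
(.node 9195593 656
(.node 9189467 666 (.node 9189465 749 (.node 9189459 665 .tip .tip) .tip) (.node 9195587 744 (.node 9195585 675 .tip .tip) .tip))
(.node 9195603 676 (.node 9195601 745 (.node 9195595 759 .tip .tip) .tip) (.node 9195611 655 (.node 9195609 758 .tip .tip) .tip))))
(.node 9203793 1233
(.node 9197657 707
(.node 9197643 708 (.node 9197641 726 (.node 9197635 712 .tip .tip) .tip) (.node 9197651 721 (.node 9197649 713 .tip .tip) .tip))
(.node 9203779 1231 (.node 9203777 1226 (.node 9197659 725 .tip .tip) .tip) (.node 9203787 1271 (.node 9203785 1266 .tip .tip) .tip)))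
(.node 9205833 185
(.node 9203803 1264 (.node 9203801 1273 (.node 9203795 1224 .tip .tip) .tip) (.node 9205827 155 (.node 9205825 193 .tip .tip) .tip))
(.node 9205843 191 (.node 9205841 153 (.node 9205835 159 .tip .tip) .tip) (.node 9205851 187 (.node 9205849 161 .tip .tip) .tip)))))))
(.node 11030593 636
(.node 9269313 407
(.node 9254977 1360
(.node 9246801 1145
(.node 9244761 382
(.node 9244747 373 (.node 9244745 535 (.node 9244739 1203 .tip .tip) .tip) (.node 9244755 378 (.node 9244753 1204 .tip .tip) .tip))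
(.node 9246787 1080 (.node 9246785 1419 (.node 9244763 597 .tip .tip) .tip) (.node 9246795 569 (.node 9246793 576 .tip .tip) .tip)))
(.node 9252937 64
(.node 9246811 571 (.node 9246809 574 (.node 9246803 1382 .tip .tip) .tip) (.node 9252931 59 (.node 9252929 457 .tip .tip) .tip))
(.node 9252947 470 (.node 9252945 78 (.node 9252939 459 .tip .tip) .tip) (.node 9252955 74 (.node 9252953 468 .tip .tip) .tip))))
(.node 9261137 1118
(.node 9255001 1505
(.node 9254987 1507 (.node 9254985 1504 (.node 9254979 1308 .tip .tip) .tip) (.node 9254995 1313 (.node 9254993 1357 .tip .tip) .tip))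
(.node 9261123 1123 (.node 9261121 1325 (.node 9255003 1506 .tip .tip) .tip) (.node 9261131 600 (.node 9261129 541 .tip .tip) .tip)))
(.node 9263177 697
(.node 9261147 601 (.node 9261145 540 (.node 9261139 1324 .tip .tip) .tip) (.node 9263171 1209 (.node 9263169 399 .tip .tip) .tip))
(.node 9263187 350 (.node 9263185 1198 (.node 9263179 412 .tip .tip) .tip) (.node 9263195 691 (.node 9263193 324 .tip .tip) .tip)))))
(.node 11016257 1257
(.node 9271377 132
(.node 9269337 340
(.node 9269323 404 (.node 9269321 1210 (.node 9269315 1211 .tip .tip) .tip) (.node 9269331 335 (.node 9269329 1194 .tip .tip) .tip))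
(.node 9271363 119 (.node 9271361 130 (.node 9269339 1196 .tip .tip) .tip) (.node 9271371 894 (.node 9271369 899 .tip .tip) .tip)))
(.node 11014217 148
(.node 9271387 896 (.node 9271385 897 (.node 9271379 117 .tip .tip) .tip) (.node 11014211 7 (.node 11014209 97 .tip .tip) .tip))
(.node 11014227 136 (.node 11014225 146 (.node 11014219 134 .tip .tip) .tip) (.node 11014235 9 (.node 11014233 99 .tip .tip) .tip))))
(.node 11022417 464
(.node 11016281 1252
(.node 11016267 1375 (.node 11016265 1370 (.node 11016259 1240 .tip .tip) .tip) (.node 11016275 1372 (.node 11016273 1371 .tip .tip) .tip))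
(.node 11022403 611 (.node 11022401 638 (.node 11016283 1243 .tip .tip) .tip) (.node 11022411 69 (.node 11022409 463 .tip .tip) .tip)))
(.node 11024457 1334
(.node 11022427 612 (.node 11022425 637 (.node 11022419 70 .tip .tip) .tip) (.node 11024451 1352 (.node 11024449 1345 .tip .tip) .tip))
(.node 11024467 1329 (.node 11024465 1332 (.node 11024459 1327 .tip .tip) .tip) (.node 11024475 1350 (.node 11024473 1347 .tip .tip) .tip))))))
(.node 11087937 979
(.node 11040833 1254
(.node 11032657 501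
(.node 11030617 639
(.node 11030603 76 (.node 11030601 469 (.node 11030595 614 .tip .tip) .tip) (.node 11030611 62 (.node 11030609 458 .tip .tip) .tip))
(.node 11032643 628 (.node 11032641 623 (.node 11030619 609 .tip .tip) .tip) (.node 11032651 492 (.node 11032649 499 .tip .tip) .tip)))
(.node 11038793 590
(.node 11032667 630 (.node 11032665 621 (.node 11032659 490 .tip .tip) .tip) (.node 11038787 380 (.node 11038785 557 .tip .tip) .tip))
(.node 11038803 578 (.node 11038801 592 (.node 11038795 580 .tip .tip) .tip) (.node 11038811 375 (.node 11038809 555 .tip .tip) .tip))))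
(.node 11079761 1236
(.node 11040857 1255
(.node 11040843 1373 (.node 11040841 647 (.node 11040835 644 .tip .tip) .tip) (.node 11040851 1374 (.node 11040849 649 .tip .tip) .tip))
(.node 11079747 1220 (.node 11079745 1223 (.node 11040859 643 .tip .tip) .tip) (.node 11079755 1237 (.node 11079753 1234 .tip .tip) .tip)))
(.node 11081801 347
(.node 11079771 1222 (.node 11079769 1221 (.node 11079763 1235 .tip .tip) .tip) (.node 11081795 321 (.node 11081793 353 .tip .tip) .tip))
(.node 11081811 400 (.node 11081809 411 (.node 11081803 327 .tip .tip) .tip) (.node 11081819 398 (.node 11081817 413 .tip .tip) .tip)))))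
(.node 11098177 1153
(.node 11090001 1046
(.node 11087961 983
(.node 11087947 915 (.node 11087945 908 (.node 11087939 982 .tip .tip) .tip) (.node 11087955 909 (.node 11087953 914 .tip .tip) .tip))
(.node 11089987 1056 (.node 11089985 1048 (.node 11087963 978 .tip .tip) .tip) (.node 11089995 1045 (.node 11089993 1057 .tip .tip) .tip)))
(.node 11096137 598
(.node 11090011 1047 (.node 11090009 1055 (.node 11090003 1058 .tip .tip) .tip) (.node 11096131 545 (.node 11096129 596 .tip .tip) .tip))
(.node 11096147 534 (.node 11096145 603 (.node 11096139 546 .tip .tip) .tip) (.node 11096155 536 (.node 11096153 604 .tip .tip) .tip))))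
(.node 11104337 1035
(.node 11098201 1078
(.node 11098187 1144 (.node 11098185 1154 (.node 11098179 1146 .tip .tip) .tip) (.node 11098195 1060 (.node 11098193 1083 .tip .tip) .tip))
(.node 11104323 1158 (.node 11104321 1136 (.node 11098203 1064 .tip .tip) .tip) (.node 11104331 1157 (.node 11104329 1137 .tip .tip) .tip)))
(.node 11106377 1311
(.node 11104347 1091 (.node 11104345 1032 (.node 11104339 1090 .tip .tip) .tip) (.node 11106371 1358 (.node 11106369 1315 .tip .tip) .tip))
(.node 11106387 1361 (.node 11106385 1310 (.node 11106379 1356 .tip .tip) .tip) (.node 11106395 1359 (.node 11106393 1306 .tip .tip) .tip))))))))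
(.node 17109057 1082
(.node 11358273 547
(.node 11300929 1510
(.node 11286593 812
(.node 11278417 423
(.node 11276377 1518
(.node 11276363 857 (.node 11276361 1519 (.node 11276355 1526 .tip .tip) .tip) (.node 11276371 1525 (.node 11276369 873 .tip .tip) .tip))
(.node 11278403 257 (.node 11278401 262 (.node 11276379 858 .tip .tip) .tip) (.node 11278411 17 (.node 11278409 216 .tip .tip) .tip)))
(.node 11284553 244
(.node 11278427 33 (.node 11278425 230 (.node 11278419 251 .tip .tip) .tip) (.node 11284547 237 (.node 11284545 1038 .tip .tip) .tip))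
(.node 11284563 239 (.node 11284561 933 (.node 11284555 923 .tip .tip) .tip) (.node 11284571 1093 (.node 11284569 242 .tip .tip) .tip))))
(.node 11292753 878
(.node 11286617 1096
(.node 11286603 904 (.node 11286601 1097 (.node 11286595 168 .tip .tip) .tip) (.node 11286611 179 (.node 11286609 819 .tip .tip) .tip))
(.node 11292739 1524 (.node 11292737 870 (.node 11286619 901 .tip .tip) .tip) (.node 11292747 862 (.node 11292745 1511 .tip .tip) .tip)))
(.node 11294793 225
(.node 11292763 853 (.node 11292761 1520 (.node 11292755 1509 .tip .tip) .tip) (.node 11294787 253 (.node 11294785 355 .tip .tip) .tip))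
(.node 11294803 255 (.node 11294801 357 (.node 11294795 27 .tip .tip) .tip) (.node 11294811 25 (.node 11294809 223 .tip .tip) .tip)))))
(.node 11343937 509
(.node 11302993 36
(.node 11300953 1502
(.node 11300939 1522 (.node 11300937 1497 (.node 11300931 1494 .tip .tip) .tip) (.node 11300947 1493 (.node 11300945 1521 .tip .tip) .tip))
(.node 11302979 3 (.node 11302977 38 (.node 11300955 1508 .tip .tip) .tip) (.node 11302987 42 (.node 11302985 450 .tip .tip) .tip)))
(.node 11341897 588
(.node 11303003 44 (.node 11303001 451 (.node 11302995 1 .tip .tip) .tip) (.node 11341891 565 (.node 11341889 582 .tip .tip) .tip))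
(.node 11341907 780 (.node 11341905 787 (.node 11341899 559 .tip .tip) .tip) (.node 11341915 778 (.node 11341913 789 .tip .tip) .tip))))
(.node 11350097 1337
(.node 11343961 762
(.node 11343947 633 (.node 11343945 482 (.node 11343939 618 .tip .tip) .tip) (.node 11343955 794 (.node 11343953 765 .tip .tip) .tip))
(.node 11350083 1336 (.node 11350081 1342 (.node 11343963 797 .tip .tip) .tip) (.node 11350091 1341 (.node 11350089 1339 .tip .tip) .tip)))
(.node 11352137 497
(.node 11350107 1338 (.node 11350105 1340 (.node 11350099 1343 .tip .tip) .tip) (.node 11352131 626 (.node 11352129 494 .tip .tip) .tip))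
(.node 11352147 796 (.node 11352145 763 (.node 11352139 625 .tip .tip) .tip) (.node 11352155 795 (.node 11352153 764 .tip .tip) .tip))))))
(.node 17051713 135
(.node 11368513 1320
(.node 11360337 1331
(.node 11358297 552
(.node 11358283 554 (.node 11358281 526 (.node 11358275 530 .tip .tip) .tip) (.node 11358291 549 (.node 11358289 532 .tip .tip) .tip))
(.node 11360323 1466 (.node 11360321 1465 (.node 11358299 524 .tip .tip) .tip) (.node 11360331 1467 (.node 11360329 1464 .tip .tip) .tip)))
(.node 11366473 211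
(.node 11360347 1349 (.node 11360345 1330 (.node 11360339 1348 .tip .tip) .tip) (.node 11366467 197 (.node 11366465 213 .tip .tip) .tip))
(.node 11366483 104 (.node 11366481 144 (.node 11366475 199 .tip .tip) .tip) (.node 11366491 110 (.node 11366489 138 .tip .tip) .tip))))
(.node 17043537 219
(.node 11368537 1317
(.node 11368523 1316 (.node 11368521 1303 (.node 11368515 1301 .tip .tip) .tip) (.node 11368531 1319 (.node 11368529 1300 .tip .tip) .tip))
(.node 17043523 13 (.node 17043521 0 (.node 11368539 1304 .tip .tip) .tip) (.node 17043531 217 (.node 17043529 19 .tip .tip) .tip)))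
(.node 17045577 1535
(.node 17043547 215 (.node 17043545 15 (.node 17043539 21 .tip .tip) .tip) (.node 17045571 1534 (.node 17045569 1328 .tip .tip) .tip))
(.node 17045587 1400 (.node 17045585 1351 (.node 17045579 1346 .tip .tip) .tip) (.node 17045595 1333 (.node 17045593 1416 .tip .tip) .tip)))))
(.node 17061953 142
(.node 17053777 1471
(.node 17051737 152
(.node 17051723 98 (.node 17051721 8 (.node 17051715 803 .tip .tip) .tip) (.node 17051731 165 (.node 17051729 113 .tip .tip) .tip))
(.node 17053763 584 (.node 17053761 1473 (.node 17051739 147 .tip .tip) .tip) (.node 17053771 1470 (.node 17053769 561 .tip .tip) .tip)))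
(.node 17059913 567
(.node 17053787 1474 (.node 17053785 586 (.node 17053779 563 .tip .tip) .tip) (.node 17059907 591 (.node 17059905 1402 .tip .tip) .tip))
(.node 17059923 556 (.node 17059921 1469 (.node 17059915 1418 .tip .tip) .tip) (.node 17059931 1472 (.node 17059929 579 .tip .tip) .tip))))
(.node 17068113 126
(.node 17061977 804
(.node 17061963 108 (.node 17061961 682 (.node 17061955 648 .tip .tip) .tip) (.node 17061971 798 (.node 17061969 106 .tip .tip) .tip))
(.node 17068099 672 (.node 17068097 123 (.node 17061979 140 .tip .tip) .tip) (.node 17068107 128 (.node 17068105 662 .tip .tip) .tip)))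
(.node 17070153 629
(.node 17068123 121 (.node 17068121 799 (.node 17068115 801 .tip .tip) .tip) (.node 17070147 500 (.node 17070145 1423 .tip .tip) .tip))
(.node 17070163 622 (.node 17070161 1475 (.node 17070155 1391 .tip .tip) .tip) (.node 17070171 1468 (.node 17070169 491 .tip .tip) .tip)))))))
(.node 17584193 330
(.node 17133633 1122
(.node 17119297 1034
(.node 17111121 83
(.node 17109081 1084
(.node 17109067 1063 (.node 17109065 1077 (.node 17109059 1059 .tip .tip) .tip) (.node 17109075 1065 (.node 17109073 1079 .tip .tip) .tip))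
(.node 17111107 89 (.node 17111105 46 (.node 17109083 1061 .tip .tip) .tip) (.node 17111115 518 (.node 17111113 521 .tip .tip) .tip)))
(.node 17117257 442
(.node 17111131 523 (.node 17111129 516 (.node 17111123 52 .tip .tip) .tip) (.node 17117251 1278 (.node 17117249 1277 .tip .tip) .tip))
(.node 17117267 1276 (.node 17117265 1279 (.node 17117259 267 .tip .tip) .tip) (.node 17117275 425 (.node 17117273 297 .tip .tip) .tip))))
(.node 17125457 352
(.node 17119321 387
(.node 17119307 393 (.node 17119305 362 (.node 17119299 1089 .tip .tip) .tip) (.node 17119315 1092 (.node 17119313 1033 .tip .tip) .tip))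
(.node 17125443 328 (.node 17125441 348 (.node 17119323 368 .tip .tip) .tip) (.node 17125451 322 (.node 17125449 354 .tip .tip) .tip)))
(.node 17127497 1287
(.node 17125467 326 (.node 17125465 346 (.node 17125459 320 .tip .tip) .tip) (.node 17127491 1106 (.node 17127489 1129 .tip .tip) .tip))
(.node 17127507 1130 (.node 17127505 1105 (.node 17127499 1460 .tip .tip) .tip) (.node 17127515 1286 (.node 17127513 1461 .tip .tip) .tip)))))
(.node 17569857 1450
(.node 17135697 1040
(.node 17133657 1121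
(.node 17133643 1117 (.node 17133641 1120 (.node 17133635 1115 .tip .tip) .tip) (.node 17133651 1116 (.node 17133649 1119 .tip .tip) .tip))
(.node 17135683 1095 (.node 17135681 1029 (.node 17133659 1114 .tip .tip) .tip) (.node 17135691 283 (.node 17135689 432 .tip .tip) .tip)))
(.node 17567817 1147
(.node 17135707 435 (.node 17135705 280 (.node 17135699 1088 .tip .tip) .tip) (.node 17567811 1071 (.node 17567809 1152 .tip .tip) .tip))
(.node 17567827 1150 (.node 17567825 1067 (.node 17567819 1072 .tip .tip) .tip) (.node 17567835 1149 (.node 17567833 1076 .tip .tip) .tip))))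
(.node 17576017 880
(.node 17569881 1387
(.node 17569867 1451 (.node 17569865 1448 (.node 17569859 1449 .tip .tip) .tip) (.node 17569875 1388 (.node 17569873 1383 .tip .tip) .tip))
(.node 17576003 882 (.node 17576001 891 (.node 17569883 1384 .tip .tip) .tip) (.node 17576011 835 (.node 17576009 847 .tip .tip) .tip)))
(.node 17578057 937
(.node 17576027 851 (.node 17576025 830 (.node 17576019 893 .tip .tip) .tip) (.node 17578051 936 (.node 17578049 935 .tip .tip) .tip))
(.node 17578067 918 (.node 17578065 917 (.node 17578059 934 .tip .tip) .tip) (.node 17578075 916 (.node 17578073 919 .tip .tip) .tip))))))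
(.node 17641537 1179
(.node 17594433 1142
(.node 17586257 1283
(.node 17584217 401
(.node 17584203 403 (.node 17584201 345 (.node 17584195 408 .tip .tip) .tip) (.node 17584211 333 (.node 17584209 410 .tip .tip) .tip))
(.node 17586243 1290 (.node 17586241 1280 (.node 17584219 342 .tip .tip) .tip) (.node 17586251 1281 (.node 17586249 1291 .tip .tip) .tip)))
(.node 17592393 652
(.node 17586267 1282 (.node 17586265 1288 (.node 17586259 1289 .tip .tip) .tip) (.node 17592387 651 (.node 17592385 641 .tip .tip) .tip))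
(.node 17592403 738 (.node 17592401 743 (.node 17592395 640 .tip .tip) .tip) (.node 17592411 742 (.node 17592409 739 .tip .tip) .tip))))
(.node 17633361 974
(.node 17594457 1053
(.node 17594443 1050 (.node 17594441 1155 (.node 17594435 1087 .tip .tip) .tip) (.node 17594451 1139 (.node 17594449 1086 .tip .tip) .tip))
(.node 17633347 1172 (.node 17633345 1181 (.node 17594459 1156 .tip .tip) .tip) (.node 17633355 1173 (.node 17633353 1180 .tip .tip) .tip)))
(.node 17635401 385
(.node 17633371 947 (.node 17633369 973 (.node 17633363 946 .tip .tip) .tip) (.node 17635395 397 (.node 17635393 383 .tip .tip) .tip))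
(.node 17635411 372 (.node 17635409 358 (.node 17635403 395 .tip .tip) .tip) (.node 17635419 370 (.node 17635417 360 .tip .tip) .tip)))))
(.node 17651777 275
(.node 17643601 41
(.node 17641561 976
(.node 17641547 1171 (.node 17641545 1182 (.node 17641539 1174 .tip .tip) .tip) (.node 17641555 949 (.node 17641553 971 .tip .tip) .tip))
(.node 17643587 91 (.node 17643585 81 (.node 17641563 944 .tip .tip) .tip) (.node 17643595 93 (.node 17643593 79 .tip .tip) .tip)))
(.node 17649737 308
(.node 17643611 57 (.node 17643609 39 (.node 17643603 55 .tip .tip) .tip) (.node 17649731 234 (.node 17649729 315 .tip .tip) .tip))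
(.node 17649747 415 (.node 17649745 448 (.node 17649739 247 .tip .tip) .tip) (.node 17649755 420 (.node 17649753 445 .tip .tip) .tip))))
(.node 17657937 446
(.node 17651801 430
(.node 17651787 286 (.node 17651785 277 (.node 17651779 288 .tip .tip) .tip) (.node 17651795 439 (.node 17651793 428 .tip .tip) .tip))
(.node 17657923 241 (.node 17657921 311 (.node 17651803 437 .tip .tip) .tip) (.node 17657931 240 (.node 17657929 312 .tip .tip) .tip)))
(.node 17659977 1102
(.node 17657947 417 (.node 17657945 447 (.node 17657939 418 .tip .tip) .tip) (.node 17659971 1107 (.node 17659969 1104 .tip .tip) .tip))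
(.node 17659987 1131 (.node 17659985 1128 (.node 17659979 1109 .tip .tip) .tip) (.node 17659995 1133 (.node 17659993 1126 .tip .tip) .tip)))))))))
(.node 25694273 1433
(.node 19730497 724
(.node 19222593 1098
(.node 19165249 938
(.node 19150913 1380
(.node 19142737 995
(.node 19140697 480
(.node 19140683 484 (.node 19140681 506 (.node 19140675 511 .tip .tip) .tip) (.node 19140691 485 (.node 19140689 507 .tip .tip) .tip))
(.node 19142723 932 (.node 19142721 920 (.node 19140699 512 .tip .tip) .tip) (.node 19142731 986 (.node 19142729 993 .tip .tip) .tip)))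
(.node 19148873 273
(.node 19142747 930 (.node 19142745 922 (.node 19142739 984 .tip .tip) .tip) (.node 19148867 301 (.node 19148865 292 .tip .tip) .tip))
(.node 19148883 261 (.node 19148881 271 (.node 19148875 259 .tip .tip) .tip) (.node 19148891 303 (.node 19148889 290 .tip .tip) .tip))))
(.node 19157073 960
(.node 19150937 1398
(.node 19150923 1378 (.node 19150921 1397 (.node 19150915 1395 .tip .tip) .tip) (.node 19150931 1396 (.node 19150929 1381 .tip .tip) .tip))
(.node 19157059 970 (.node 19157057 961 (.node 19150939 1379 .tip .tip) .tip) (.node 19157067 952 (.node 19157065 959 .tip .tip) .tip)))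
(.node 19159113 1251
(.node 19157083 969 (.node 19157081 962 (.node 19157075 951 .tip .tip) .tip) (.node 19159107 1249 (.node 19159105 1247 .tip .tip) .tip))
(.node 19159123 1244 (.node 19159121 1250 (.node 19159115 1245 .tip .tip) .tip) (.node 19159131 1248 (.node 19159129 1246 .tip .tip) .tip)))))
(.node 19208257 1018
(.node 19167313 1229
(.node 19165273 939
(.node 19165259 997 (.node 19165257 980 (.node 19165251 911 .tip .tip) .tip) (.node 19165267 996 (.node 19165265 981 .tip .tip) .tip))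
(.node 19167299 1228 (.node 19167297 1270 (.node 19165275 910 .tip .tip) .tip) (.node 19167307 1268 (.node 19167305 1230 .tip .tip) .tip)))
(.node 19206217 608
(.node 19167323 1227 (.node 19167321 1269 (.node 19167315 1267 .tip .tip) .tip) (.node 19206211 77 (.node 19206209 61 .tip .tip) .tip))
(.node 19206227 610 (.node 19206225 613 (.node 19206219 615 .tip .tip) .tip) (.node 19206235 63 (.node 19206233 75 .tip .tip) .tip))))
(.node 19214417 379
(.node 19208281 1007
(.node 19208267 885 (.node 19208265 1005 (.node 19208259 839 .tip .tip) .tip) (.node 19208275 843 (.node 19208273 1019 .tip .tip) .tip))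
(.node 19214403 1367 (.node 19214401 1364 (.node 19208283 888 .tip .tip) .tip) (.node 19214411 381 (.node 19214409 374 .tip .tip) .tip)))
(.node 19216457 409
(.node 19214427 1365 (.node 19214425 1366 (.node 19214419 376 .tip .tip) .tip) (.node 19216451 866 (.node 19216449 1012 .tip .tip) .tip))
(.node 19216467 402 (.node 19216465 344 (.node 19216459 332 .tip .tip) .tip) (.node 19216475 865 (.node 19216473 1013 .tip .tip) .tip))))))
(.node 19673153 1462
(.node 19232833 1074
(.node 19224657 1017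
(.node 19222617 1099
(.node 19222603 338 (.node 19222601 405 (.node 19222595 1113 .tip .tip) .tip) (.node 19222611 406 (.node 19222609 337 .tip .tip) .tip))
(.node 19224643 850 (.node 19224641 1020 (.node 19222619 1112 .tip .tip) .tip) (.node 19224651 892 (.node 19224649 1009 .tip .tip) .tip)))
(.node 19230793 236
(.node 19224667 881 (.node 19224665 1003 (.node 19224659 833 .tip .tip) .tip) (.node 19230787 309 (.node 19230785 249 .tip .tip) .tip))
(.node 19230803 307 (.node 19230801 245 (.node 19230795 316 .tip .tip) .tip) (.node 19230811 314 (.node 19230809 232 .tip .tip) .tip))))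
(.node 19664977 489
(.node 19232857 1151
(.node 19232843 1389 (.node 19232841 1394 (.node 19232835 1148 .tip .tip) .tip) (.node 19232851 1393 (.node 19232849 1390 .tip .tip) .tip))
(.node 19664963 1321 (.node 19664961 493 (.node 19232859 1069 .tip .tip) .tip) (.node 19664971 498 (.node 19664969 1422 .tip .tip) .tip)))
(.node 19667017 550
(.node 19664987 502 (.node 19664985 1305 (.node 19664979 1392 .tip .tip) .tip) (.node 19667011 766 (.node 19667009 390 .tip .tip) .tip))
(.node 19667027 527 (.node 19667025 365 (.node 19667019 768 .tip .tip) .tip) (.node 19667035 529 (.node 19667033 776 .tip .tip) .tip)))))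
(.node 19683393 5
(.node 19675217 522
(.node 19673177 1241
(.node 19673163 1318 (.node 19673161 1242 (.node 19673155 1253 .tip .tip) .tip) (.node 19673171 1256 (.node 19673169 1302 .tip .tip) .tip))
(.node 19675203 769 (.node 19675201 517 (.node 19673179 1463 .tip .tip) .tip) (.node 19675211 473 (.node 19675209 86 .tip .tip) .tip)))
(.node 19681353 1426
(.node 19675227 453 (.node 19675225 49 (.node 19675219 533 .tip .tip) .tip) (.node 19681347 1442 (.node 19681345 1424 .tip .tip) .tip))
(.node 19681363 1429 (.node 19681361 1437 (.node 19681355 1440 .tip .tip) .tip) (.node 19681371 1427 (.node 19681369 1439 .tip .tip) .tip))))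
(.node 19689553 772
(.node 19683417 112
(.node 19683403 116 (.node 19683401 114 (.node 19683395 95 .tip .tip) .tip) (.node 19683411 101 (.node 19683409 11 .tip .tip) .tip))
(.node 19689539 773 (.node 19689537 539 (.node 19683419 201 .tip .tip) .tip) (.node 19689547 775 (.node 19689545 537 .tip .tip) .tip)))
(.node 19691593 67
(.node 19689563 544 (.node 19689561 770 (.node 19689555 542 .tip .tip) .tip) (.node 19691587 685 (.node 19691585 520 .tip .tip) .tip))
(.node 19691603 684 (.node 19691601 519 (.node 19691595 461 .tip .tip) .tip) (.node 19691611 466 (.node 19691609 72 .tip .tip) .tip)))))))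
(.node 25448513 1523
(.node 19755073 24
(.node 19740737 718
(.node 19732561 150
(.node 19730521 711
(.node 19730507 722 (.node 19730505 942 (.node 19730499 943 .tip .tip) .tip) (.node 19730515 709 (.node 19730513 940 .tip .tip) .tip))
(.node 19732547 195 (.node 19732545 825 (.node 19730523 941 .tip .tip) .tip) (.node 19732555 821 (.node 19732553 183 .tip .tip) .tip)))
(.node 19738697 190
(.node 19732571 163 (.node 19732569 810 (.node 19732563 806 .tip .tip) .tip) (.node 19738691 188 (.node 19738689 822 .tip .tip) .tip))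
(.node 19738707 809 (.node 19738705 158 (.node 19738699 824 .tip .tip) .tip) (.node 19738715 156 (.node 19738713 807 .tip .tip) .tip))))
(.node 19746897 176
(.node 19740761 705
(.node 19740747 728 (.node 19740745 861 (.node 19740739 859 .tip .tip) .tip) (.node 19740755 715 (.node 19740753 856 .tip .tip) .tip))
(.node 19746883 171 (.node 19746881 264 (.node 19740763 854 .tip .tip) .tip) (.node 19746891 815 (.node 19746889 173 .tip .tip) .tip)))
(.node 19748937 1477
(.node 19746907 174 (.node 19746905 816 (.node 19746899 294 .tip .tip) .tip) (.node 19748931 1476 (.node 19748929 660 .tip .tip) .tip))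
(.node 19748947 756 (.node 19748945 1483 (.node 19748939 670 .tip .tip) .tip) (.node 19748955 1482 (.node 19748953 747 .tip .tip) .tip)))))
(.node 25434177 339
(.node 19757137 1436
(.node 19755097 30
(.node 19755083 22 (.node 19755081 220 (.node 19755075 222 .tip .tip) .tip) (.node 19755091 28 (.node 19755089 226 .tip .tip) .tip))
(.node 19757123 1435 (.node 19757121 1492 (.node 19755099 228 .tip .tip) .tip) (.node 19757131 925 (.node 19757129 991 .tip .tip) .tip)))
(.node 25432137 238
(.node 19757147 928 (.node 19757145 988 (.node 19757139 1495 .tip .tip) .tip) (.node 25432131 310 (.node 25432129 1191 .tip .tip) .tip))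
(.node 25432147 243 (.node 25432145 1094 (.node 25432139 1185 .tip .tip) .tip) (.node 25432155 1037 (.node 25432153 313 .tip .tip) .tip))))
(.node 25440337 1015
(.node 25434201 336
(.node 25434187 334 (.node 25434185 1193 (.node 25434179 1195 .tip .tip) .tip) (.node 25434195 341 (.node 25434193 950 .tip .tip) .tip))
(.node 25440323 1192 (.node 25440321 323 (.node 25434203 977 .tip .tip) .tip) (.node 25440331 349 (.node 25440329 1197 .tip .tip) .tip)))
(.node 25442377 285
(.node 25440347 874 (.node 25440345 351 (.node 25440339 325 .tip .tip) .tip) (.node 25442371 274 (.node 25442369 1186 .tip .tip) .tip))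
(.node 25442387 289 (.node 25442385 1066 (.node 25442379 1188 .tip .tip) .tip) (.node 25442395 1085 (.node 25442393 278 .tip .tip) .tip))))))
(.node 25505857 477
(.node 25458753 329
(.node 25450577 54
(.node 25448537 1314
(.node 25448523 1312 (.node 25448521 1309 (.node 25448515 1513 .tip .tip) .tip) (.node 25448531 1515 (.node 25448529 1533 .tip .tip) .tip))
(.node 25450563 65 (.node 25450561 43 (.node 25448539 1307 .tip .tip) .tip) (.node 25450571 58 (.node 25450569 60 .tip .tip) .tip)))
(.node 25456713 1081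
(.node 25450587 37 (.node 25450585 2 (.node 25450579 455 .tip .tip) .tip) (.node 25456707 1062 (.node 25456705 975 .tip .tip) .tip))
(.node 25456723 1527 (.node 25456721 945 (.node 25456715 948 .tip .tip) .tip) (.node 25456731 972 (.node 25456729 1528 .tip .tip) .tip))))
(.node 25497681 750
(.node 25458777 305
(.node 25458763 356 (.node 25458761 254 (.node 25458755 318 .tip .tip) .tip) (.node 25458771 224 (.node 25458769 26 .tip .tip) .tip))
(.node 25497667 1344 (.node 25497665 1335 (.node 25458779 1190 .tip .tip) .tip) (.node 25497675 753 (.node 25497673 664 .tip .tip) .tip)))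
(.node 25499721 143
(.node 25497691 1353 (.node 25497689 1326 (.node 25497683 667 .tip .tip) .tip) (.node 25499715 109 (.node 25499713 137 .tip .tip) .tip))
(.node 25499731 111 (.node 25499729 139 (.node 25499723 103 .tip .tip) .tip) (.node 25499739 105 (.node 25499737 145 .tip .tip) .tip)))))
(.node 25516097 1369
(.node 25507921 703
(.node 25505881 514
(.node 25505867 616 (.node 25505865 504 (.node 25505859 631 .tip .tip) .tip) (.node 25505875 635 (.node 25505873 487 .tip .tip) .tip))
(.node 25507907 686 (.node 25507905 702 (.node 25505883 620 .tip .tip) .tip) (.node 25507915 689 (.node 25507913 699 .tip .tip) .tip)))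
(.node 25514057 495
(.node 25507931 690 (.node 25507929 700 (.node 25507923 687 .tip .tip) .tip) (.node 25514051 160 (.node 25514049 186 .tip .tip) .tip))
(.node 25514067 624 (.node 25514065 496 (.node 25514059 627 .tip .tip) .tip) (.node 25514075 192 (.node 25514073 154 .tip .tip) .tip))))
(.node 25522257 481
(.node 25516121 1376
(.node 25516107 1232 (.node 25516105 1377 (.node 25516099 1272 .tip .tip) .tip) (.node 25516115 1265 (.node 25516113 1368 .tip .tip) .tip))
(.node 25522243 634 (.node 25522241 483 (.node 25516123 1225 .tip .tip) .tip) (.node 25522251 619 (.node 25522249 510 .tip .tip) .tip)))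
(.node 25524297 583
(.node 25522267 617 (.node 25522265 508 (.node 25522259 632 .tip .tip) .tip) (.node 25524291 560 (.node 25524289 589 .tip .tip) .tip))
(.node 25524307 558 (.node 25524305 587 (.node 25524299 566 .tip .tip) .tip) (.node 25524315 564 (.node 25524313 581 .tip .tip) .tip))))))))
(.node 27594817 1498
(.node 25776193 704
(.node 25718849 867
(.node 25704513 416
(.node 25696337 115
(.node 25694297 1441
(.node 25694283 1447 (.node 25694281 1428 (.node 25694275 1438 .tip .tip) .tip) (.node 25694291 1425 (.node 25694289 1446 .tip .tip) .tip))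
(.node 25696323 129 (.node 25696321 200 (.node 25694299 1434 .tip .tip) .tip) (.node 25696331 120 (.node 25696329 210 .tip .tip) .tip)))
(.node 25702473 599
(.node 25696347 203 (.node 25696345 133 (.node 25696339 208 .tip .tip) .tip) (.node 25702467 792 (.node 25702465 543 .tip .tip) .tip))
(.node 25702483 602 (.node 25702481 774 (.node 25702475 771 .tip .tip) .tip) (.node 25702491 538 (.node 25702489 791 .tip .tip) .tip))))
(.node 25710673 1159
(.node 25704537 248
(.node 25704523 414 (.node 25704521 421 (.node 25704515 419 .tip .tip) .tip) (.node 25704531 246 (.node 25704529 235 .tip .tip) .tip))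
(.node 25710659 887 (.node 25710657 840 (.node 25704539 233 .tip .tip) .tip) (.node 25710667 841 (.node 25710665 886 .tip .tip) .tip)))
(.node 25712713 606
(.node 25710683 1160 (.node 25710681 1165 (.node 25710675 1166 .tip .tip) .tip) (.node 25712707 790 (.node 25712705 528 .tip .tip) .tip))
(.node 25712723 594 (.node 25712721 767 (.node 25712715 777 .tip .tip) .tip) (.node 25712731 551 (.node 25712729 793 .tip .tip) .tip)))))
(.node 25761857 760
(.node 25720913 786
(.node 25718873 1161
(.node 25718859 868 (.node 25718857 863 (.node 25718851 864 .tip .tip) .tip) (.node 25718867 1162 (.node 25718865 1163 .tip .tip) .tip))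
(.node 25720899 783 (.node 25720897 577 (.node 25718875 1164 .tip .tip) .tip) (.node 25720907 784 (.node 25720905 568 .tip .tip) .tip)))
(.node 25759817 989
(.node 25720923 573 (.node 25720921 781 (.node 25720915 572 .tip .tip) .tip) (.node 25759811 927 (.node 25759809 987 .tip .tip) .tip))
(.node 25759827 924 (.node 25759825 990 (.node 25759819 929 .tip .tip) .tip) (.node 25759835 926 (.node 25759833 992 .tip .tip) .tip))))
(.node 25768017 661
(.node 25761881 680
(.node 25761867 740 (.node 25761865 761 (.node 25761859 741 .tip .tip) .tip) (.node 25761875 645 (.node 25761873 681 .tip .tip) .tip))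
(.node 25768003 757 (.node 25768001 746 (.node 25761883 646 .tip .tip) .tip) (.node 25768011 755 (.node 25768009 748 .tip .tip) .tip)))
(.node 25770057 269
(.node 25768027 671 (.node 25768025 659 (.node 25768019 669 .tip .tip) .tip) (.node 25770051 295 (.node 25770049 270 .tip .tip) .tip))
(.node 25770067 300 (.node 25770065 265 (.node 25770059 293 .tip .tip) .tip) (.node 25770075 299 (.node 25770073 263 .tip .tip) .tip))))))
(.node 27537473 1284
(.node 25786433 1415
(.node 25778257 957
(.node 25776217 717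
(.node 25776203 714 (.node 25776201 706 (.node 25776195 716 .tip .tip) .tip) (.node 25776211 727 (.node 25776209 719 .tip .tip) .tip))
(.node 25778243 967 (.node 25778241 953 (.node 25776219 729 .tip .tip) .tip) (.node 25778251 968 (.node 25778249 954 .tip .tip) .tip)))
(.node 25784393 149
(.node 25778267 964 (.node 25778265 958 (.node 25778259 963 .tip .tip) .tip) (.node 25784387 162 (.node 25784385 151 .tip .tip) .tip))
(.node 25784403 196 (.node 25784401 182 (.node 25784395 164 .tip .tip) .tip) (.node 25784411 194 (.node 25784409 184 .tip .tip) .tip))))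
(.node 27529297 1297
(.node 25786457 1458
(.node 25786443 1399 (.node 25786441 1417 (.node 25786435 1401 .tip .tip) .tip) (.node 25786451 1452 (.node 25786449 1459 .tip .tip) .tip))
(.node 27529283 1294 (.node 27529281 1296 (.node 25786459 1453 .tip .tip) .tip) (.node 27529291 1298 (.node 27529289 1292 .tip .tip) .tip)))
(.node 27531337 1219
(.node 27529307 1299 (.node 27529305 1293 (.node 27529299 1295 .tip .tip) .tip) (.node 27531331 1258 (.node 27531329 1263 .tip .tip) .tip))
(.node 27531347 1259 (.node 27531345 1262 (.node 27531339 1214 .tip .tip) .tip) (.node 27531355 1215 (.node 27531353 1218 .tip .tip) .tip)))))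
(.node 27547713 1042
(.node 27539537 1407
(.node 27537497 1285
(.node 27537483 1355 (.node 27537481 1362 (.node 27537475 1323 .tip .tip) .tip) (.node 27537491 1354 (.node 27537489 1363 .tip .tip) .tip))
(.node 27539523 1403 (.node 27539521 1408 (.node 27537499 1322 .tip .tip) .tip) (.node 27539531 1413 (.node 27539529 1410 .tip .tip) .tip)))
(.node 27545673 845
(.node 27539547 1414 (.node 27539545 1409 (.node 27539539 1404 .tip .tip) .tip) (.node 27545667 837 (.node 27545665 890 .tip .tip) .tip))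
(.node 27545683 883 (.node 27545681 844 (.node 27545675 884 .tip .tip) .tip) (.node 27545691 836 (.node 27545689 889 .tip .tip) .tip))))
(.node 27553873 525
(.node 27547737 1025
(.node 27547723 1044 (.node 27547721 1026 (.node 27547715 1028 .tip .tip) .tip) (.node 27547731 1027 (.node 27547729 1041 .tip .tip) .tip))
(.node 27553859 593 (.node 27553857 607 (.node 27547739 1043 .tip .tip) .tip) (.node 27553867 548 (.node 27553865 531 .tip .tip) .tip)))
(.node 27555913 673
(.node 27553883 595 (.node 27553881 605 (.node 27553875 553 .tip .tip) .tip) (.node 27555907 654 (.node 27555905 657 .tip .tip) .tip))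
(.node 27555923 653 (.node 27555921 658 (.node 27555915 678 .tip .tip) .tip) (.node 27555931 677 (.node 27555929 674 .tip .tip) .tip)))))))
(.node 27807809 710
(.node 27619393 698
(.node 27605057 694
(.node 27596881 642
(.node 27594841 1431
(.node 27594827 1430 (.node 27594825 1445 (.node 27594819 1501 .tip .tip) .tip) (.node 27594835 1496 (.node 27594833 1503 .tip .tip) .tip))
(.node 27596867 679 (.node 27596865 650 (.node 27594843 1444 .tip .tip) .tip) (.node 27596875 206 (.node 27596873 124 .tip .tip) .tip)))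
(.node 27603017 871
(.node 27596891 125 (.node 27596889 205 (.node 27596883 683 .tip .tip) .tip) (.node 27603011 570 (.node 27603009 785 .tip .tip) .tip))
(.node 27603027 782 (.node 27603025 575 (.node 27603019 877 .tip .tip) .tip) (.node 27603035 869 (.node 27603033 879 .tip .tip) .tip))))
(.node 27611217 898
(.node 27605081 913
(.node 27605067 912 (.node 27605065 1168 (.node 27605059 734 .tip .tip) .tip) (.node 27605075 695 (.node 27605073 733 .tip .tip) .tip))
(.node 27611203 895 (.node 27611201 907 (.node 27605083 1167 .tip .tip) .tip) (.node 27611211 202 (.node 27611209 131 .tip .tip) .tip)))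
(.node 27613257 178
(.node 27611227 118 (.node 27611225 209 (.node 27611219 906 .tip .tip) .tip) (.node 27613251 905 (.node 27613249 900 .tip .tip) .tip))
(.node 27613267 902 (.node 27613265 903 (.node 27613259 169 .tip .tip) .tip) (.node 27613275 180 (.node 27613273 167 .tip .tip) .tip)))))
(.node 27793473 1140
(.node 27621457 16
(.node 27619417 1420
(.node 27619403 1385 (.node 27619401 1421 (.node 27619395 731 .tip .tip) .tip) (.node 27619411 692 (.node 27619409 736 .tip .tip) .tip))
(.node 27621443 18 (.node 27621441 32 (.node 27619419 1386 .tip .tip) .tip) (.node 27621451 258 (.node 27621449 250 .tip .tip) .tip)))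
(.node 27791433 175
(.node 27621467 252 (.node 27621465 256 (.node 27621459 34 .tip .tip) .tip) (.node 27791427 1022 (.node 27791425 1000 .tip .tip) .tip))
(.node 27791443 814 (.node 27791441 172 (.node 27791435 817 .tip .tip) .tip) (.node 27791451 1023 (.node 27791449 999 .tip .tip) .tip))))
(.node 27799633 304
(.node 27793497 1051
(.node 27793483 1054 (.node 27793481 1138 (.node 27793475 1052 .tip .tip) .tip) (.node 27793491 1143 (.node 27793489 1049 .tip .tip) .tip))
(.node 27799619 227 (.node 27799617 29 (.node 27793499 1141 .tip .tip) .tip) (.node 27799627 317 (.node 27799625 306 .tip .tip) .tip)))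
(.node 27801673 1488
(.node 27799643 221 (.node 27799641 23 (.node 27799635 319 .tip .tip) .tip) (.node 27801667 1487 (.node 27801665 1489 .tip .tip) .tip))
(.node 27801683 1491 (.node 27801681 1485 (.node 27801675 1486 .tip .tip) .tip) (.node 27801691 1490 (.node 27801689 1484 .tip .tip) .tip))))))
(.node 27865153 1532
(.node 27818049 1016
(.node 27809873 1516
(.node 27807833 723
(.node 27807819 831 (.node 27807817 852 (.node 27807811 829 .tip .tip) .tip) (.node 27807827 846 (.node 27807825 834 .tip .tip) .tip))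
(.node 27809859 1500 (.node 27809857 1030 (.node 27807835 848 .tip .tip) .tip) (.node 27809867 1039 (.node 27809865 1517 .tip .tip) .tip)))
(.node 27816009 157
(.node 27809883 1499 (.node 27809881 1031 (.node 27809875 1036 .tip .tip) .tip) (.node 27816003 1024 (.node 27816001 998 .tip .tip) .tip))
(.node 27816019 823 (.node 27816017 189 (.node 27816011 808 .tip .tip) .tip) (.node 27816027 1021 (.node 27816025 1001 .tip .tip) .tip))))
(.node 27856977 276
(.node 27818073 1014
(.node 27818059 876 (.node 27818057 855 (.node 27818051 1010 .tip .tip) .tip) (.node 27818067 872 (.node 27818065 860 .tip .tip) .tip))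
(.node 27856963 1212 (.node 27856961 429 (.node 27818075 1011 .tip .tip) .tip) (.node 27856971 438 (.node 27856969 1213 .tip .tip) .tip)))
(.node 27859017 73
(.node 27856987 287 (.node 27856985 1189 (.node 27856979 1187 .tip .tip) .tip) (.node 27859011 71 (.node 27859009 465 .tip .tip) .tip))
(.node 27859027 66 (.node 27859025 460 (.node 27859019 467 .tip .tip) .tip) (.node 27859035 462 (.node 27859033 68 .tip .tip) .tip)))))
(.node 27875393 452
(.node 27867217 6
(.node 27865177 1103
(.node 27865163 1531 (.node 27865161 1127 (.node 27865155 1132 .tip .tip) .tip) (.node 27865171 1108 (.node 27865169 1530 .tip .tip) .tip))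
(.node 27867203 102 (.node 27867201 12 (.node 27865179 1529 .tip .tip) .tip) (.node 27867211 10 (.node 27867209 100 .tip .tip) .tip)))
(.node 27873353 1202
(.node 27867227 4 (.node 27867225 94 (.node 27867219 96 .tip .tip) .tip) (.node 27873347 1199 (.node 27873345 359 .tip .tip) .tip))
(.node 27873363 1205 (.node 27873361 384 (.node 27873355 371 .tip .tip) .tip) (.node 27873371 396 (.node 27873369 1208 .tip .tip) .tip))))
(.node 27881553 475
(.node 27875417 87
(.node 27875403 454 (.node 27875401 50 (.node 27875395 48 .tip .tip) .tip) (.node 27875411 85 (.node 27875409 472 .tip .tip) .tip))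
(.node 27881539 56 (.node 27881537 456 (.node 27875419 474 .tip .tip) .tip) (.node 27881547 449 (.node 27881545 40 .tip .tip) .tip)))
(.node 27883593 1200
(.node 27881563 471 (.node 27881561 80 (.node 27881555 92 .tip .tip) .tip) (.node 27883587 1201 (.node 27883585 366 .tip .tip) .tip))
(.node 27883603 1207 (.node 27883601 391 (.node 27883595 364 .tip .tip) .tip) (.node 27883611 389 (.node 27883609 1206 .tip .tip) .tip))))))))))

/-- The reasons. -/
def caseBFullN4HowLL : Tab (ℕ × ℕ) :=
(.node 192 (.node 96 (.node 48 (.node 24 (.node 12 (.node 6 (.node 3 (.node 1 (.leaf (0, 0)) (.node 1 (.leaf (48, 0)) (.leaf (49, 0)))) (.node 1 (.leaf (50, 0)) (.node 1 (.leaf (48, 1)) (.leaf (49, 1)))))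
(.node 3 (.node 1 (.leaf (50, 1)) (.node 1 (.leaf (48, 2)) (.leaf (49, 2)))) (.node 1 (.leaf (50, 2)) (.node 1 (.leaf (48, 3)) (.leaf (49, 3))))))
(.node 6 (.node 3 (.node 1 (.leaf (50, 3)) (.node 1 (.leaf (48, 4)) (.leaf (49, 4)))) (.node 1 (.leaf (50, 4)) (.node 1 (.leaf (48, 5)) (.leaf (49, 5)))))
(.node 3 (.node 1 (.leaf (50, 5)) (.node 1 (.leaf (48, 6)) (.leaf (49, 6)))) (.node 1 (.leaf (50, 6)) (.node 1 (.leaf (48, 7)) (.leaf (49, 7)))))))
(.node 12 (.node 6 (.node 3 (.node 1 (.leaf (50, 7)) (.node 1 (.leaf (48, 8)) (.leaf (49, 8)))) (.node 1 (.leaf (50, 8)) (.node 1 (.leaf (48, 9)) (.leaf (49, 9)))))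
(.node 3 (.node 1 (.leaf (50, 9)) (.node 1 (.leaf (49, 10)) (.leaf (48, 11)))) (.node 1 (.leaf (49, 11)) (.node 1 (.leaf (50, 11)) (.leaf (49, 12))))))
(.node 6 (.node 3 (.node 1 (.leaf (48, 13)) (.node 1 (.leaf (49, 13)) (.leaf (50, 13)))) (.node 1 (.leaf (48, 14)) (.node 1 (.leaf (49, 14)) (.leaf (50, 14)))))
(.node 3 (.node 1 (.leaf (48, 15)) (.node 1 (.leaf (49, 15)) (.leaf (50, 15)))) (.node 1 (.leaf (48, 16)) (.node 1 (.leaf (49, 16)) (.leaf (50, 16))))))))
(.node 24 (.node 12 (.node 6 (.node 3 (.node 1 (.leaf (48, 17)) (.node 1 (.leaf (49, 17)) (.leaf (50, 17)))) (.node 1 (.leaf (48, 18)) (.node 1 (.leaf (49, 18)) (.leaf (50, 18)))))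
(.node 3 (.node 1 (.leaf (49, 19)) (.node 1 (.leaf (48, 20)) (.leaf (49, 20)))) (.node 1 (.leaf (50, 20)) (.node 1 (.leaf (49, 21)) (.leaf (49, 22))))))
(.node 6 (.node 3 (.node 1 (.leaf (50, 22)) (.node 1 (.leaf (48, 23)) (.leaf (49, 23)))) (.node 1 (.leaf (50, 23)) (.node 1 (.leaf (49, 24)) (.leaf (50, 24)))))
(.node 3 (.node 1 (.leaf (48, 25)) (.node 1 (.leaf (49, 25)) (.leaf (50, 25)))) (.node 1 (.leaf (48, 26)) (.node 1 (.leaf (50, 26)) (.leaf (48, 27)))))))
(.node 12 (.node 6 (.node 3 (.node 1 (.leaf (49, 27)) (.node 1 (.leaf (50, 27)) (.leaf (49, 28)))) (.node 1 (.leaf (48, 29)) (.node 1 (.leaf (49, 29)) (.leaf (50, 29)))))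
(.node 3 (.node 1 (.leaf (49, 30)) (.node 1 (.leaf (48, 31)) (.leaf (49, 31)))) (.node 1 (.leaf (50, 31)) (.node 1 (.leaf (48, 32)) (.leaf (49, 32))))))
(.node 6 (.node 3 (.node 1 (.leaf (50, 32)) (.node 1 (.leaf (48, 33)) (.leaf (49, 33)))) (.node 1 (.leaf (50, 33)) (.node 1 (.leaf (48, 34)) (.leaf (49, 34)))))
(.node 3 (.node 1 (.leaf (50, 34)) (.node 1 (.leaf (48, 35)) (.leaf (49, 35)))) (.node 1 (.leaf (50, 35)) (.node 1 (.leaf (48, 36)) (.leaf (49, 36)))))))))
(.node 48 (.node 24 (.node 12 (.node 6 (.node 3 (.node 1 (.leaf (50, 36)) (.node 1 (.leaf (48, 37)) (.leaf (49, 37)))) (.node 1 (.leaf (50, 37)) (.node 1 (.leaf (48, 38)) (.leaf (49, 38)))))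
(.node 3 (.node 1 (.leaf (50, 38)) (.node 1 (.leaf (48, 39)) (.leaf (49, 39)))) (.node 1 (.leaf (50, 39)) (.node 1 (.leaf (48, 40)) (.leaf (49, 40))))))
(.node 6 (.node 3 (.node 1 (.leaf (50, 40)) (.node 1 (.leaf (48, 41)) (.leaf (49, 41)))) (.node 1 (.leaf (50, 41)) (.node 1 (.leaf (49, 42)) (.leaf (49, 43)))))
(.node 3 (.node 1 (.leaf (49, 44)) (.node 1 (.leaf (49, 45)) (.leaf (50, 45)))) (.node 1 (.leaf (48, 46)) (.node 1 (.leaf (49, 46)) (.leaf (50, 46)))))))
(.node 12 (.node 6 (.node 3 (.node 1 (.leaf (49, 47)) (.node 1 (.leaf (48, 48)) (.leaf (49, 48)))) (.node 1 (.leaf (50, 48)) (.node 1 (.leaf (48, 49)) (.leaf (50, 49)))))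
(.node 3 (.node 1 (.leaf (48, 50)) (.node 1 (.leaf (49, 50)) (.leaf (50, 50)))) (.node 1 (.leaf (49, 51)) (.node 1 (.leaf (48, 52)) (.leaf (49, 52))))))
(.node 6 (.node 3 (.node 1 (.leaf (50, 52)) (.node 1 (.leaf (49, 53)) (.leaf (48, 54)))) (.node 1 (.leaf (49, 54)) (.node 1 (.leaf (50, 54)) (.leaf (48, 55)))))
(.node 3 (.node 1 (.leaf (49, 55)) (.node 1 (.leaf (50, 55)) (.leaf (48, 56)))) (.node 1 (.leaf (49, 56)) (.node 1 (.leaf (50, 56)) (.leaf (48, 57))))))))
(.node 24 (.node 12 (.node 6 (.node 3 (.node 1 (.leaf (49, 57)) (.node 1 (.leaf (50, 57)) (.leaf (48, 58)))) (.node 1 (.leaf (49, 58)) (.node 1 (.leaf (50, 58)) (.leaf (48, 59)))))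
(.node 3 (.node 1 (.leaf (49, 59)) (.node 1 (.leaf (50, 59)) (.leaf (49, 60)))) (.node 1 (.leaf (48, 61)) (.node 1 (.leaf (49, 61)) (.leaf (50, 61))))))
(.node 6 (.node 3 (.node 1 (.leaf (48, 62)) (.node 1 (.leaf (49, 62)) (.leaf (50, 62)))) (.node 1 (.leaf (48, 63)) (.node 1 (.leaf (49, 63)) (.leaf (50, 63)))))
(.node 3 (.node 1 (.leaf (48, 64)) (.node 1 (.leaf (49, 64)) (.leaf (50, 64)))) (.node 1 (.leaf (49, 65)) (.node 1 (.leaf (49, 66)) (.leaf (48, 67)))))))
(.node 12 (.node 6 (.node 3 (.node 1 (.leaf (49, 67)) (.node 1 (.leaf (50, 67)) (.leaf (49, 68)))) (.node 1 (.leaf (48, 69)) (.node 1 (.leaf (49, 69)) (.leaf (50, 69)))))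
(.node 3 (.node 1 (.leaf (48, 70)) (.node 1 (.leaf (49, 70)) (.leaf (50, 70)))) (.node 1 (.leaf (49, 71)) (.node 1 (.leaf (48, 72)) (.leaf (49, 72))))))
(.node 6 (.node 3 (.node 1 (.leaf (50, 72)) (.node 1 (.leaf (49, 73)) (.leaf (48, 74)))) (.node 1 (.leaf (49, 74)) (.node 1 (.leaf (50, 74)) (.leaf (48, 75)))))
(.node 3 (.node 1 (.leaf (49, 75)) (.node 1 (.leaf (50, 75)) (.leaf (48, 76)))) (.node 1 (.leaf (49, 76)) (.node 1 (.leaf (50, 76)) (.leaf (48, 77))))))))))
(.node 96 (.node 48 (.node 24 (.node 12 (.node 6 (.node 3 (.node 1 (.leaf (49, 77)) (.node 1 (.leaf (50, 77)) (.leaf (48, 78)))) (.node 1 (.leaf (49, 78)) (.node 1 (.leaf (50, 78)) (.leaf (49, 79)))))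
(.node 3 (.node 1 (.leaf (49, 80)) (.node 1 (.leaf (49, 81)) (.leaf (49, 82)))) (.node 1 (.leaf (50, 82)) (.node 1 (.leaf (49, 83)) (.leaf (49, 84))))))
(.node 6 (.node 3 (.node 1 (.leaf (49, 85)) (.node 1 (.leaf (48, 86)) (.leaf (50, 86)))) (.node 1 (.leaf (49, 87)) (.node 1 (.leaf (49, 88)) (.leaf (49, 89)))))
(.node 3 (.node 1 (.leaf (49, 90)) (.node 1 (.leaf (49, 91)) (.leaf (49, 92)))) (.node 1 (.leaf (49, 93)) (.node 1 (.leaf (49, 94)) (.leaf (50, 94)))))))
(.node 12 (.node 6 (.node 3 (.node 1 (.leaf (49, 95)) (.node 1 (.leaf (48, 96)) (.leaf (49, 96)))) (.node 1 (.leaf (50, 96)) (.node 1 (.leaf (48, 97)) (.leaf (49, 97)))))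
(.node 3 (.node 1 (.leaf (50, 97)) (.node 1 (.leaf (48, 98)) (.leaf (49, 98)))) (.node 1 (.leaf (50, 98)) (.node 1 (.leaf (48, 99)) (.leaf (49, 99))))))
(.node 6 (.node 3 (.node 1 (.leaf (50, 99)) (.node 1 (.leaf (49, 100)) (.leaf (49, 101)))) (.node 1 (.leaf (49, 102)) (.node 1 (.leaf (49, 103)) (.leaf (48, 104)))))
(.node 3 (.node 1 (.leaf (49, 104)) (.node 1 (.leaf (50, 104)) (.leaf (49, 105)))) (.node 1 (.leaf (48, 106)) (.node 1 (.leaf (49, 106)) (.leaf (50, 106))))))))
(.node 24 (.node 12 (.node 6 (.node 3 (.node 1 (.leaf (48, 107)) (.node 1 (.leaf (50, 107)) (.leaf (48, 108)))) (.node 1 (.leaf (49, 108)) (.node 1 (.leaf (50, 108)) (.leaf (49, 109)))))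
(.node 3 (.node 1 (.leaf (48, 110)) (.node 1 (.leaf (49, 110)) (.leaf (50, 110)))) (.node 1 (.leaf (49, 111)) (.node 1 (.leaf (48, 112)) (.leaf (49, 112))))))
(.node 6 (.node 3 (.node 1 (.leaf (50, 112)) (.node 1 (.leaf (48, 113)) (.leaf (49, 113)))) (.node 1 (.leaf (50, 113)) (.node 1 (.leaf (48, 114)) (.leaf (49, 114)))))
(.node 3 (.node 1 (.leaf (50, 114)) (.node 1 (.leaf (48, 115)) (.leaf (49, 115)))) (.node 1 (.leaf (50, 115)) (.node 1 (.leaf (49, 116)) (.leaf (48, 117)))))))
(.node 12 (.node 6 (.node 3 (.node 1 (.leaf (49, 117)) (.node 1 (.leaf (50, 117)) (.leaf (48, 118)))) (.node 1 (.leaf (49, 118)) (.node 1 (.leaf (50, 118)) (.leaf (48, 119)))))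
(.node 3 (.node 1 (.leaf (50, 119)) (.node 1 (.leaf (48, 120)) (.leaf (49, 120)))) (.node 1 (.leaf (50, 120)) (.node 1 (.leaf (49, 121)) (.leaf (48, 122))))))
(.node 6 (.node 3 (.node 1 (.leaf (49, 122)) (.node 1 (.leaf (50, 122)) (.leaf (49, 123)))) (.node 1 (.leaf (48, 124)) (.node 1 (.leaf (49, 124)) (.leaf (50, 124)))))
(.node 3 (.node 1 (.leaf (48, 125)) (.node 1 (.leaf (49, 125)) (.leaf (50, 125)))) (.node 1 (.leaf (49, 126)) (.node 1 (.leaf (48, 127)) (.leaf (49, 127)))))))))
(.node 48 (.node 24 (.node 12 (.node 6 (.node 3 (.node 1 (.leaf (50, 127)) (.node 1 (.leaf (49, 128)) (.leaf (48, 129)))) (.node 1 (.leaf (49, 129)) (.node 1 (.leaf (50, 129)) (.leaf (48, 130)))))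
(.node 3 (.node 1 (.leaf (49, 130)) (.node 1 (.leaf (50, 130)) (.leaf (48, 131)))) (.node 1 (.leaf (49, 131)) (.node 1 (.leaf (50, 131)) (.leaf (48, 132))))))
(.node 6 (.node 3 (.node 1 (.leaf (50, 132)) (.node 1 (.leaf (48, 133)) (.leaf (49, 133)))) (.node 1 (.leaf (50, 133)) (.node 1 (.leaf (49, 134)) (.leaf (49, 135)))))
(.node 3 (.node 1 (.leaf (49, 136)) (.node 1 (.leaf (49, 137)) (.leaf (49, 138)))) (.node 1 (.leaf (49, 139)) (.node 1 (.leaf (49, 140)) (.leaf (48, 141)))))))
(.node 12 (.node 6 (.node 3 (.node 1 (.leaf (50, 141)) (.node 1 (.leaf (49, 142)) (.leaf (49, 143)))) (.node 1 (.leaf (49, 144)) (.node 1 (.leaf (49, 145)) (.leaf (49, 146)))))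
(.node 3 (.node 1 (.leaf (49, 147)) (.node 1 (.leaf (49, 148)) (.leaf (48, 149)))) (.node 1 (.leaf (49, 149)) (.node 1 (.leaf (50, 149)) (.leaf (48, 150))))))
(.node 6 (.node 3 (.node 1 (.leaf (49, 150)) (.node 1 (.leaf (50, 150)) (.leaf (48, 151)))) (.node 1 (.leaf (49, 151)) (.node 1 (.leaf (50, 151)) (.leaf (49, 152)))))
(.node 3 (.node 1 (.leaf (49, 153)) (.node 1 (.leaf (48, 154)) (.leaf (49, 154)))) (.node 1 (.leaf (49, 155)) (.node 1 (.leaf (48, 156)) (.leaf (49, 156))))))))
(.node 24 (.node 12 (.node 6 (.node 3 (.node 1 (.leaf (50, 156)) (.node 1 (.leaf (48, 157)) (.leaf (50, 157)))) (.node 1 (.leaf (48, 158)) (.node 1 (.leaf (49, 158)) (.leaf (50, 158)))))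
(.node 3 (.node 1 (.leaf (49, 159)) (.node 1 (.leaf (48, 160)) (.leaf (49, 160)))) (.node 1 (.leaf (49, 161)) (.node 1 (.leaf (48, 162)) (.leaf (49, 162))))))
(.node 6 (.node 3 (.node 1 (.leaf (50, 162)) (.node 1 (.leaf (48, 163)) (.leaf (49, 163)))) (.node 1 (.leaf (50, 163)) (.node 1 (.leaf (48, 164)) (.leaf (49, 164)))))
(.node 3 (.node 1 (.leaf (50, 164)) (.node 1 (.leaf (48, 165)) (.leaf (49, 165)))) (.node 1 (.leaf (50, 165)) (.node 1 (.leaf (48, 166)) (.leaf (49, 166)))))))
(.node 12 (.node 6 (.node 3 (.node 1 (.leaf (50, 166)) (.node 1 (.leaf (48, 167)) (.leaf (49, 167)))) (.node 1 (.leaf (50, 167)) (.node 1 (.leaf (48, 168)) (.leaf (49, 168)))))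
(.node 3 (.node 1 (.leaf (50, 168)) (.node 1 (.leaf (48, 169)) (.leaf (49, 169)))) (.node 1 (.leaf (50, 169)) (.node 1 (.leaf (48, 170)) (.leaf (49, 170))))))
(.node 6 (.node 3 (.node 1 (.leaf (50, 170)) (.node 1 (.leaf (49, 171)) (.leaf (48, 172)))) (.node 1 (.leaf (49, 172)) (.node 1 (.leaf (50, 172)) (.leaf (49, 173)))))
(.node 3 (.node 1 (.leaf (49, 174)) (.node 1 (.leaf (48, 175)) (.leaf (49, 175)))) (.node 1 (.leaf (50, 175)) (.node 1 (.leaf (49, 176)) (.leaf (48, 177)))))))))))

/-- The reasons. -/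
def caseBFullN4HowLR : Tab (ℕ × ℕ) :=
(.node 192 (.node 96 (.node 48 (.node 24 (.node 12 (.node 6 (.node 3 (.node 1 (.leaf (49, 177)) (.node 1 (.leaf (50, 177)) (.leaf (48, 178)))) (.node 1 (.leaf (49, 178)) (.node 1 (.leaf (50, 178)) (.leaf (48, 179)))))
(.node 3 (.node 1 (.leaf (49, 179)) (.node 1 (.leaf (50, 179)) (.leaf (48, 180)))) (.node 1 (.leaf (49, 180)) (.node 1 (.leaf (50, 180)) (.leaf (48, 181))))))
(.node 6 (.node 3 (.node 1 (.leaf (49, 181)) (.node 1 (.leaf (50, 181)) (.leaf (49, 182)))) (.node 1 (.leaf (49, 183)) (.node 1 (.leaf (49, 184)) (.leaf (49, 185)))))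
(.node 3 (.node 1 (.leaf (49, 186)) (.node 1 (.leaf (49, 187)) (.leaf (49, 188)))) (.node 1 (.leaf (48, 189)) (.node 1 (.leaf (50, 189)) (.leaf (49, 190)))))))
(.node 12 (.node 6 (.node 3 (.node 1 (.leaf (49, 191)) (.node 1 (.leaf (49, 192)) (.leaf (49, 193)))) (.node 1 (.leaf (49, 194)) (.node 1 (.leaf (49, 195)) (.leaf (49, 196)))))
(.node 3 (.node 1 (.leaf (48, 197)) (.node 1 (.leaf (49, 197)) (.leaf (50, 197)))) (.node 1 (.leaf (48, 198)) (.node 1 (.leaf (50, 198)) (.leaf (48, 199))))))
(.node 6 (.node 3 (.node 1 (.leaf (49, 199)) (.node 1 (.leaf (50, 199)) (.leaf (49, 200)))) (.node 1 (.leaf (49, 201)) (.node 1 (.leaf (48, 202)) (.leaf (49, 202)))))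
(.node 3 (.node 1 (.leaf (50, 202)) (.node 1 (.leaf (49, 203)) (.leaf (48, 204)))) (.node 1 (.leaf (49, 204)) (.node 1 (.leaf (50, 204)) (.leaf (48, 205))))))))
(.node 24 (.node 12 (.node 6 (.node 3 (.node 1 (.leaf (49, 205)) (.node 1 (.leaf (50, 205)) (.leaf (48, 206)))) (.node 1 (.leaf (49, 206)) (.node 1 (.leaf (50, 206)) (.leaf (48, 207)))))
(.node 3 (.node 1 (.leaf (49, 207)) (.node 1 (.leaf (50, 207)) (.leaf (49, 208)))) (.node 1 (.leaf (48, 209)) (.node 1 (.leaf (49, 209)) (.leaf (50, 209))))))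
(.node 6 (.node 3 (.node 1 (.leaf (49, 210)) (.node 1 (.leaf (49, 211)) (.leaf (48, 212)))) (.node 1 (.leaf (50, 212)) (.node 1 (.leaf (49, 213)) (.leaf (49, 214)))))
(.node 3 (.node 1 (.leaf (48, 215)) (.node 1 (.leaf (50, 215)) (.leaf (48, 216)))) (.node 1 (.leaf (49, 216)) (.node 1 (.leaf (50, 216)) (.leaf (49, 217)))))))
(.node 12 (.node 6 (.node 3 (.node 1 (.leaf (49, 218)) (.node 1 (.leaf (49, 220)) (.leaf (49, 221)))) (.node 1 (.leaf (49, 222)) (.node 1 (.leaf (48, 223)) (.leaf (49, 223)))))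
(.node 3 (.node 1 (.leaf (50, 223)) (.node 1 (.leaf (48, 224)) (.leaf (50, 224)))) (.node 1 (.leaf (48, 225)) (.node 1 (.leaf (49, 225)) (.leaf (50, 225))))))
(.node 6 (.node 3 (.node 1 (.leaf (49, 226)) (.node 1 (.leaf (49, 227)) (.leaf (49, 228)))) (.node 1 (.leaf (49, 229)) (.node 1 (.leaf (48, 230)) (.leaf (49, 230)))))
(.node 3 (.node 1 (.leaf (50, 230)) (.node 1 (.leaf (49, 231)) (.leaf (48, 232)))) (.node 1 (.leaf (49, 232)) (.node 1 (.leaf (50, 232)) (.leaf (48, 233)))))))))
(.node 48 (.node 24 (.node 12 (.node 6 (.node 3 (.node 1 (.leaf (50, 233)) (.node 1 (.leaf (48, 234)) (.leaf (49, 234)))) (.node 1 (.leaf (50, 234)) (.node 1 (.leaf (48, 235)) (.leaf (50, 235)))))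
(.node 3 (.node 1 (.leaf (48, 236)) (.node 1 (.leaf (49, 236)) (.leaf (50, 236)))) (.node 1 (.leaf (49, 237)) (.node 1 (.leaf (48, 238)) (.leaf (49, 238))))))
(.node 6 (.node 3 (.node 1 (.leaf (50, 238)) (.node 1 (.leaf (49, 239)) (.leaf (49, 240)))) (.node 1 (.leaf (50, 240)) (.node 1 (.leaf (48, 241)) (.leaf (49, 241)))))
(.node 3 (.node 1 (.leaf (49, 242)) (.node 1 (.leaf (48, 243)) (.leaf (49, 243)))) (.node 1 (.leaf (50, 243)) (.node 1 (.leaf (49, 244)) (.leaf (48, 245)))))))
(.node 12 (.node 6 (.node 3 (.node 1 (.leaf (49, 245)) (.node 1 (.leaf (50, 245)) (.leaf (48, 246)))) (.node 1 (.leaf (50, 246)) (.node 1 (.leaf (48, 247)) (.leaf (49, 247)))))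
(.node 3 (.node 1 (.leaf (50, 247)) (.node 1 (.leaf (48, 248)) (.leaf (50, 248)))) (.node 1 (.leaf (48, 249)) (.node 1 (.leaf (49, 249)) (.leaf (50, 249))))))
(.node 6 (.node 3 (.node 1 (.leaf (49, 250)) (.node 1 (.leaf (49, 251)) (.leaf (49, 252)))) (.node 1 (.leaf (49, 253)) (.node 1 (.leaf (49, 255)) (.leaf (49, 256)))))
(.node 3 (.node 1 (.leaf (49, 257)) (.node 1 (.leaf (49, 258)) (.leaf (48, 259)))) (.node 1 (.leaf (49, 259)) (.node 1 (.leaf (50, 259)) (.leaf (48, 260))))))))
(.node 24 (.node 12 (.node 6 (.node 3 (.node 1 (.leaf (49, 260)) (.node 1 (.leaf (50, 260)) (.leaf (48, 261)))) (.node 1 (.leaf (49, 261)) (.node 1 (.leaf (50, 261)) (.leaf (49, 262)))))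
(.node 3 (.node 1 (.leaf (49, 263)) (.node 1 (.leaf (49, 264)) (.leaf (49, 265)))) (.node 1 (.leaf (48, 266)) (.node 1 (.leaf (49, 266)) (.leaf (50, 266))))))
(.node 6 (.node 3 (.node 1 (.leaf (48, 267)) (.node 1 (.leaf (50, 267)) (.leaf (48, 268)))) (.node 1 (.leaf (49, 268)) (.node 1 (.leaf (50, 268)) (.leaf (49, 269)))))
(.node 3 (.node 1 (.leaf (49, 270)) (.node 1 (.leaf (48, 271)) (.leaf (49, 271)))) (.node 1 (.leaf (50, 271)) (.node 1 (.leaf (48, 272)) (.leaf (49, 272)))))))
(.node 12 (.node 6 (.node 3 (.node 1 (.leaf (48, 273)) (.node 1 (.leaf (49, 273)) (.leaf (50, 273)))) (.node 1 (.leaf (48, 274)) (.node 1 (.leaf (49, 274)) (.leaf (50, 274)))))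
(.node 3 (.node 1 (.leaf (48, 275)) (.node 1 (.leaf (49, 275)) (.leaf (50, 275)))) (.node 1 (.leaf (48, 276)) (.node 1 (.leaf (49, 276)) (.leaf (50, 276))))))
(.node 6 (.node 3 (.node 1 (.leaf (48, 277)) (.node 1 (.leaf (49, 277)) (.leaf (50, 277)))) (.node 1 (.leaf (49, 278)) (.node 1 (.leaf (49, 279)) (.leaf (48, 280)))))
(.node 3 (.node 1 (.leaf (49, 280)) (.node 1 (.leaf (50, 280)) (.leaf (49, 281)))) (.node 1 (.leaf (49, 282)) (.node 1 (.leaf (48, 283)) (.leaf (49, 283))))))))))
(.node 96 (.node 48 (.node 24 (.node 12 (.node 6 (.node 3 (.node 1 (.leaf (50, 283)) (.node 1 (.leaf (49, 284)) (.leaf (48, 285)))) (.node 1 (.leaf (49, 285)) (.node 1 (.leaf (50, 285)) (.leaf (48, 286)))))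
(.node 3 (.node 1 (.leaf (49, 286)) (.node 1 (.leaf (50, 286)) (.leaf (48, 287)))) (.node 1 (.leaf (49, 287)) (.node 1 (.leaf (50, 287)) (.leaf (48, 288))))))
(.node 6 (.node 3 (.node 1 (.leaf (49, 288)) (.node 1 (.leaf (50, 288)) (.leaf (48, 289)))) (.node 1 (.leaf (49, 289)) (.node 1 (.leaf (50, 289)) (.leaf (49, 290)))))
(.node 3 (.node 1 (.leaf (49, 291)) (.node 1 (.leaf (49, 292)) (.leaf (49, 293)))) (.node 1 (.leaf (49, 294)) (.node 1 (.leaf (49, 295)) (.leaf (49, 296)))))))
(.node 12 (.node 6 (.node 3 (.node 1 (.leaf (48, 297)) (.node 1 (.leaf (50, 297)) (.leaf (49, 298)))) (.node 1 (.leaf (49, 299)) (.node 1 (.leaf (49, 300)) (.leaf (49, 301)))))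
(.node 3 (.node 1 (.leaf (49, 302)) (.node 1 (.leaf (49, 303)) (.leaf (48, 304)))) (.node 1 (.leaf (49, 304)) (.node 1 (.leaf (50, 304)) (.leaf (48, 305))))))
(.node 6 (.node 3 (.node 1 (.leaf (50, 305)) (.node 1 (.leaf (48, 306)) (.leaf (49, 306)))) (.node 1 (.leaf (50, 306)) (.node 1 (.leaf (49, 307)) (.leaf (48, 308)))))
(.node 3 (.node 1 (.leaf (49, 308)) (.node 1 (.leaf (50, 308)) (.leaf (49, 309)))) (.node 1 (.leaf (48, 310)) (.node 1 (.leaf (49, 310)) (.leaf (50, 310))))))))
(.node 24 (.node 12 (.node 6 (.node 3 (.node 1 (.leaf (48, 311)) (.node 1 (.leaf (49, 311)) (.leaf (49, 312)))) (.node 1 (.leaf (50, 312)) (.node 1 (.leaf (48, 313)) (.leaf (49, 313)))))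
(.node 3 (.node 1 (.leaf (50, 313)) (.node 1 (.leaf (49, 314)) (.leaf (48, 315)))) (.node 1 (.leaf (49, 315)) (.node 1 (.leaf (50, 315)) (.leaf (49, 316))))))
(.node 6 (.node 3 (.node 1 (.leaf (49, 317)) (.node 1 (.leaf (48, 318)) (.leaf (50, 318)))) (.node 1 (.leaf (49, 319)) (.node 1 (.leaf (48, 321)) (.leaf (50, 321)))))
(.node 3 (.node 1 (.leaf (49, 322)) (.node 1 (.leaf (48, 323)) (.leaf (50, 323)))) (.node 1 (.leaf (48, 324)) (.node 1 (.leaf (50, 324)) (.leaf (48, 325)))))))
(.node 12 (.node 6 (.node 3 (.node 1 (.leaf (49, 325)) (.node 1 (.leaf (50, 325)) (.leaf (49, 326)))) (.node 1 (.leaf (48, 327)) (.node 1 (.leaf (50, 327)) (.leaf (48, 330)))))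
(.node 3 (.node 1 (.leaf (50, 330)) (.node 1 (.leaf (48, 332)) (.leaf (50, 332)))) (.node 1 (.leaf (48, 333)) (.node 1 (.leaf (50, 333)) (.leaf (48, 335))))))
(.node 6 (.node 3 (.node 1 (.leaf (49, 335)) (.node 1 (.leaf (50, 335)) (.leaf (49, 336)))) (.node 1 (.leaf (48, 337)) (.node 1 (.leaf (49, 337)) (.leaf (50, 337)))))
(.node 3 (.node 1 (.leaf (48, 338)) (.node 1 (.leaf (49, 338)) (.leaf (50, 338)))) (.node 1 (.leaf (48, 340)) (.node 1 (.leaf (49, 340)) (.leaf (50, 340)))))))))
(.node 48 (.node 24 (.node 12 (.node 6 (.node 3 (.node 1 (.leaf (49, 341)) (.node 1 (.leaf (48, 342)) (.leaf (50, 342)))) (.node 1 (.leaf (48, 344)) (.node 1 (.leaf (50, 344)) (.leaf (48, 345)))))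
(.node 3 (.node 1 (.leaf (50, 345)) (.node 1 (.leaf (49, 346)) (.leaf (48, 350)))) (.node 1 (.leaf (50, 350)) (.node 1 (.leaf (49, 351)) (.leaf (49, 354))))))
(.node 6 (.node 3 (.node 1 (.leaf (49, 355)) (.node 1 (.leaf (49, 357)) (.leaf (48, 358)))) (.node 1 (.leaf (50, 358)) (.node 1 (.leaf (49, 359)) (.leaf (48, 360)))))
(.node 3 (.node 1 (.leaf (50, 360)) (.node 1 (.leaf (48, 362)) (.leaf (49, 362)))) (.node 1 (.leaf (49, 364)) (.node 1 (.leaf (48, 365)) (.leaf (50, 365)))))))
(.node 12 (.node 6 (.node 3 (.node 1 (.leaf (49, 366)) (.node 1 (.leaf (48, 368)) (.leaf (49, 368)))) (.node 1 (.leaf (48, 370)) (.node 1 (.leaf (50, 370)) (.leaf (49, 371)))))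
(.node 3 (.node 1 (.leaf (48, 372)) (.node 1 (.leaf (50, 372)) (.leaf (48, 373)))) (.node 1 (.leaf (49, 373)) (.node 1 (.leaf (50, 373)) (.leaf (48, 374))))))
(.node 6 (.node 3 (.node 1 (.leaf (50, 374)) (.node 1 (.leaf (48, 375)) (.leaf (49, 375)))) (.node 1 (.leaf (50, 375)) (.node 1 (.leaf (48, 376)) (.leaf (50, 376)))))
(.node 3 (.node 1 (.leaf (48, 377)) (.node 1 (.leaf (49, 377)) (.leaf (50, 377)))) (.node 1 (.leaf (48, 378)) (.node 1 (.leaf (49, 378)) (.leaf (50, 378))))))))
(.node 24 (.node 12 (.node 6 (.node 3 (.node 1 (.leaf (48, 379)) (.node 1 (.leaf (50, 379)) (.leaf (48, 380)))) (.node 1 (.leaf (49, 380)) (.node 1 (.leaf (50, 380)) (.leaf (48, 381)))))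
(.node 3 (.node 1 (.leaf (50, 381)) (.node 1 (.leaf (48, 382)) (.leaf (49, 382)))) (.node 1 (.leaf (50, 382)) (.node 1 (.leaf (49, 384)) (.leaf (49, 387))))))
(.node 6 (.node 3 (.node 1 (.leaf (49, 389)) (.node 1 (.leaf (48, 390)) (.leaf (50, 390)))) (.node 1 (.leaf (49, 391)) (.node 1 (.leaf (49, 393)) (.leaf (49, 396)))))
(.node 3 (.node 1 (.leaf (48, 398)) (.node 1 (.leaf (50, 398)) (.leaf (48, 399)))) (.node 1 (.leaf (50, 399)) (.node 1 (.leaf (48, 400)) (.leaf (50, 400)))))))
(.node 12 (.node 6 (.node 3 (.node 1 (.leaf (48, 402)) (.node 1 (.leaf (50, 402)) (.leaf (48, 404)))) (.node 1 (.leaf (49, 404)) (.node 1 (.leaf (50, 404)) (.leaf (48, 405)))))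
(.node 3 (.node 1 (.leaf (49, 405)) (.node 1 (.leaf (50, 405)) (.leaf (48, 406)))) (.node 1 (.leaf (49, 406)) (.node 1 (.leaf (50, 406)) (.leaf (48, 407))))))
(.node 6 (.node 3 (.node 1 (.leaf (49, 407)) (.node 1 (.leaf (50, 407)) (.leaf (48, 409)))) (.node 1 (.leaf (50, 409)) (.node 1 (.leaf (48, 412)) (.leaf (50, 412)))))
(.node 3 (.node 1 (.leaf (49, 415)) (.node 1 (.leaf (49, 417)) (.leaf (49, 418)))) (.node 1 (.leaf (49, 420)) (.node 1 (.leaf (48, 422)) (.leaf (49, 422)))))))))))

/-- The reasons. -/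
def caseBFullN4HowL : Tab (ℕ × ℕ) := .node 384 caseBFullN4HowLL caseBFullN4HowLR

/-- The reasons. -/
def caseBFullN4HowRL : Tab (ℕ × ℕ) :=
(.node 192 (.node 96 (.node 48 (.node 24 (.node 12 (.node 6 (.node 3 (.node 1 (.leaf (50, 422)) (.node 1 (.leaf (49, 423)) (.leaf (48, 424)))) (.node 1 (.leaf (49, 424)) (.node 1 (.leaf (50, 424)) (.leaf (48, 426)))))
(.node 3 (.node 1 (.leaf (49, 426)) (.node 1 (.leaf (50, 426)) (.leaf (48, 427)))) (.node 1 (.leaf (49, 427)) (.node 1 (.leaf (49, 428)) (.leaf (49, 429))))))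
(.node 6 (.node 3 (.node 1 (.leaf (49, 430)) (.node 1 (.leaf (49, 431)) (.leaf (49, 432)))) (.node 1 (.leaf (49, 433)) (.node 1 (.leaf (49, 434)) (.leaf (49, 435)))))
(.node 3 (.node 1 (.leaf (49, 436)) (.node 1 (.leaf (49, 437)) (.leaf (49, 438)))) (.node 1 (.leaf (49, 439)) (.node 1 (.leaf (49, 440)) (.leaf (49, 441)))))))
(.node 12 (.node 6 (.node 3 (.node 1 (.leaf (49, 443)) (.node 1 (.leaf (49, 444)) (.leaf (49, 445)))) (.node 1 (.leaf (49, 446)) (.node 1 (.leaf (49, 447)) (.leaf (49, 448)))))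
(.node 3 (.node 1 (.leaf (48, 449)) (.node 1 (.leaf (48, 452)) (.leaf (49, 452)))) (.node 1 (.leaf (48, 454)) (.node 1 (.leaf (49, 454)) (.leaf (49, 455))))))
(.node 6 (.node 3 (.node 1 (.leaf (48, 456)) (.node 1 (.leaf (49, 456)) (.leaf (49, 457)))) (.node 1 (.leaf (48, 458)) (.node 1 (.leaf (49, 458)) (.leaf (50, 458)))))
(.node 3 (.node 1 (.leaf (49, 459)) (.node 1 (.leaf (49, 460)) (.leaf (49, 461)))) (.node 1 (.leaf (49, 462)) (.node 1 (.leaf (49, 463)) (.leaf (50, 463))))))))
(.node 24 (.node 12 (.node 6 (.node 3 (.node 1 (.leaf (48, 464)) (.node 1 (.leaf (49, 464)) (.leaf (49, 465)))) (.node 1 (.leaf (49, 466)) (.node 1 (.leaf (49, 467)) (.leaf (49, 468)))))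
(.node 3 (.node 1 (.leaf (48, 469)) (.node 1 (.leaf (49, 469)) (.leaf (50, 469)))) (.node 1 (.leaf (49, 470)) (.node 1 (.leaf (49, 471)) (.leaf (49, 472))))))
(.node 6 (.node 3 (.node 1 (.leaf (49, 474)) (.node 1 (.leaf (48, 476)) (.leaf (49, 476)))) (.node 1 (.leaf (50, 476)) (.node 1 (.leaf (48, 477)) (.leaf (49, 477)))))
(.node 3 (.node 1 (.leaf (48, 478)) (.node 1 (.leaf (49, 478)) (.leaf (49, 479)))) (.node 1 (.leaf (49, 480)) (.node 1 (.leaf (48, 481)) (.leaf (49, 481)))))))
(.node 12 (.node 6 (.node 3 (.node 1 (.leaf (48, 482)) (.node 1 (.leaf (50, 482)) (.leaf (48, 483)))) (.node 1 (.leaf (49, 483)) (.node 1 (.leaf (49, 484)) (.leaf (49, 485)))))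
(.node 3 (.node 1 (.leaf (48, 486)) (.node 1 (.leaf (49, 486)) (.leaf (50, 486)))) (.node 1 (.leaf (48, 487)) (.node 1 (.leaf (49, 487)) (.leaf (49, 488))))))
(.node 6 (.node 3 (.node 1 (.leaf (50, 488)) (.node 1 (.leaf (49, 489)) (.leaf (48, 490)))) (.node 1 (.leaf (49, 490)) (.node 1 (.leaf (50, 490)) (.leaf (48, 491)))))
(.node 3 (.node 1 (.leaf (50, 491)) (.node 1 (.leaf (48, 492)) (.leaf (49, 492)))) (.node 1 (.leaf (50, 492)) (.node 1 (.leaf (49, 493)) (.leaf (48, 494)))))))))
(.node 48 (.node 24 (.node 12 (.node 6 (.node 3 (.node 1 (.leaf (50, 494)) (.node 1 (.leaf (49, 495)) (.leaf (49, 496)))) (.node 1 (.leaf (48, 497)) (.node 1 (.leaf (50, 497)) (.leaf (48, 498)))))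
(.node 3 (.node 1 (.leaf (49, 498)) (.node 1 (.leaf (50, 498)) (.leaf (49, 499)))) (.node 1 (.leaf (48, 500)) (.node 1 (.leaf (49, 500)) (.leaf (50, 500))))))
(.node 6 (.node 3 (.node 1 (.leaf (49, 501)) (.node 1 (.leaf (48, 502)) (.leaf (49, 502)))) (.node 1 (.leaf (50, 502)) (.node 1 (.leaf (49, 503)) (.leaf (49, 504)))))
(.node 3 (.node 1 (.leaf (49, 505)) (.node 1 (.leaf (49, 506)) (.leaf (49, 507)))) (.node 1 (.leaf (49, 508)) (.node 1 (.leaf (48, 509)) (.leaf (50, 509)))))))
(.node 12 (.node 6 (.node 3 (.node 1 (.leaf (49, 510)) (.node 1 (.leaf (49, 511)) (.leaf (49, 512)))) (.node 1 (.leaf (49, 513)) (.node 1 (.leaf (49, 514)) (.leaf (49, 515)))))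
(.node 3 (.node 1 (.leaf (48, 516)) (.node 1 (.leaf (49, 516)) (.leaf (50, 516)))) (.node 1 (.leaf (48, 518)) (.node 1 (.leaf (49, 518)) (.leaf (50, 518))))))
(.node 6 (.node 3 (.node 1 (.leaf (48, 519)) (.node 1 (.leaf (49, 519)) (.leaf (50, 519)))) (.node 1 (.leaf (48, 520)) (.node 1 (.leaf (49, 520)) (.leaf (50, 520)))))
(.node 3 (.node 1 (.leaf (49, 521)) (.node 1 (.leaf (49, 523)) (.leaf (48, 525)))) (.node 1 (.leaf (50, 525)) (.node 1 (.leaf (48, 528)) (.leaf (50, 528))))))))
(.node 24 (.node 12 (.node 6 (.node 3 (.node 1 (.leaf (48, 529)) (.node 1 (.leaf (50, 529)) (.leaf (48, 531)))) (.node 1 (.leaf (50, 531)) (.node 1 (.leaf (48, 534)) (.leaf (50, 534)))))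
(.node 3 (.node 1 (.leaf (48, 536)) (.node 1 (.leaf (50, 536)) (.leaf (48, 538)))) (.node 1 (.leaf (49, 538)) (.node 1 (.leaf (50, 538)) (.leaf (49, 539))))))
(.node 6 (.node 3 (.node 1 (.leaf (48, 540)) (.node 1 (.leaf (49, 540)) (.leaf (50, 540)))) (.node 1 (.leaf (48, 541)) (.node 1 (.leaf (49, 541)) (.leaf (50, 541)))))
(.node 3 (.node 1 (.leaf (48, 543)) (.node 1 (.leaf (49, 543)) (.leaf (50, 543)))) (.node 1 (.leaf (49, 544)) (.node 1 (.leaf (48, 545)) (.leaf (50, 545)))))))
(.node 12 (.node 6 (.node 3 (.node 1 (.leaf (48, 546)) (.node 1 (.leaf (50, 546)) (.leaf (48, 551)))) (.node 1 (.leaf (50, 551)) (.node 1 (.leaf (48, 555)) (.leaf (50, 555)))))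
(.node 3 (.node 1 (.leaf (48, 557)) (.node 1 (.leaf (50, 557)) (.leaf (49, 559)))) (.node 1 (.leaf (49, 561)) (.node 1 (.leaf (48, 562)) (.leaf (50, 562))))))
(.node 6 (.node 3 (.node 1 (.leaf (49, 563)) (.node 1 (.leaf (49, 565)) (.leaf (49, 567)))) (.node 1 (.leaf (48, 568)) (.node 1 (.leaf (50, 568)) (.leaf (48, 569)))))
(.node 3 (.node 1 (.leaf (50, 569)) (.node 1 (.leaf (48, 570)) (.leaf (50, 570)))) (.node 1 (.leaf (48, 571)) (.node 1 (.leaf (50, 571)) (.leaf (48, 572))))))))))
(.node 96 (.node 48 (.node 24 (.node 12 (.node 6 (.node 3 (.node 1 (.leaf (50, 572)) (.node 1 (.leaf (48, 573)) (.leaf (50, 573)))) (.node 1 (.leaf (48, 574)) (.node 1 (.leaf (50, 574)) (.leaf (48, 575)))))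
(.node 3 (.node 1 (.leaf (50, 575)) (.node 1 (.leaf (48, 576)) (.leaf (50, 576)))) (.node 1 (.leaf (48, 577)) (.node 1 (.leaf (50, 577)) (.leaf (49, 582))))))
(.node 6 (.node 3 (.node 1 (.leaf (49, 584)) (.node 1 (.leaf (48, 585)) (.leaf (50, 585)))) (.node 1 (.leaf (49, 586)) (.node 1 (.leaf (49, 588)) (.leaf (49, 591)))))
(.node 3 (.node 1 (.leaf (48, 593)) (.node 1 (.leaf (50, 593)) (.leaf (48, 594)))) (.node 1 (.leaf (50, 594)) (.node 1 (.leaf (48, 595)) (.leaf (50, 595)))))))
(.node 12 (.node 6 (.node 3 (.node 1 (.leaf (48, 599)) (.node 1 (.leaf (49, 599)) (.leaf (50, 599)))) (.node 1 (.leaf (48, 600)) (.node 1 (.leaf (49, 600)) (.leaf (50, 600)))))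
(.node 3 (.node 1 (.leaf (48, 601)) (.node 1 (.leaf (49, 601)) (.leaf (50, 601)))) (.node 1 (.leaf (48, 602)) (.node 1 (.leaf (49, 602)) (.leaf (50, 602))))))
(.node 6 (.node 3 (.node 1 (.leaf (48, 606)) (.node 1 (.leaf (50, 606)) (.leaf (49, 609)))) (.node 1 (.leaf (49, 611)) (.node 1 (.leaf (49, 612)) (.leaf (49, 614)))))
(.node 3 (.node 1 (.leaf (48, 616)) (.node 1 (.leaf (49, 616)) (.leaf (48, 617)))) (.node 1 (.leaf (49, 617)) (.node 1 (.leaf (48, 619)) (.leaf (49, 619))))))))
(.node 24 (.node 12 (.node 6 (.node 3 (.node 1 (.leaf (48, 620)) (.node 1 (.leaf (49, 620)) (.leaf (49, 621)))) (.node 1 (.leaf (49, 623)) (.node 1 (.leaf (49, 624)) (.leaf (49, 627)))))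
(.node 3 (.node 1 (.leaf (49, 628)) (.node 1 (.leaf (49, 629)) (.leaf (49, 630)))) (.node 1 (.leaf (49, 631)) (.node 1 (.leaf (49, 632)) (.leaf (49, 634))))))
(.node 6 (.node 3 (.node 1 (.leaf (49, 635)) (.node 1 (.leaf (49, 636)) (.leaf (49, 637)))) (.node 1 (.leaf (49, 638)) (.node 1 (.leaf (49, 639)) (.leaf (48, 640)))))
(.node 3 (.node 1 (.leaf (50, 640)) (.node 1 (.leaf (48, 641)) (.leaf (50, 641)))) (.node 1 (.leaf (49, 642)) (.node 1 (.leaf (49, 643)) (.leaf (49, 644)))))))
(.node 12 (.node 6 (.node 3 (.node 1 (.leaf (49, 645)) (.node 1 (.leaf (50, 645)) (.leaf (48, 646)))) (.node 1 (.leaf (49, 646)) (.node 1 (.leaf (49, 647)) (.leaf (49, 648)))))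
(.node 3 (.node 1 (.leaf (50, 648)) (.node 1 (.leaf (49, 649)) (.leaf (49, 650)))) (.node 1 (.leaf (48, 651)) (.node 1 (.leaf (50, 651)) (.leaf (48, 652))))))
(.node 6 (.node 3 (.node 1 (.leaf (50, 652)) (.node 1 (.leaf (48, 653)) (.leaf (50, 653)))) (.node 1 (.leaf (48, 654)) (.node 1 (.leaf (50, 654)) (.leaf (48, 655)))))
(.node 3 (.node 1 (.leaf (49, 655)) (.node 1 (.leaf (50, 655)) (.leaf (48, 656)))) (.node 1 (.leaf (49, 656)) (.node 1 (.leaf (50, 656)) (.leaf (48, 657)))))))))
(.node 48 (.node 24 (.node 12 (.node 6 (.node 3 (.node 1 (.leaf (50, 657)) (.node 1 (.leaf (48, 658)) (.leaf (50, 658)))) (.node 1 (.leaf (48, 659)) (.node 1 (.leaf (49, 659)) (.leaf (50, 659)))))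
(.node 3 (.node 1 (.leaf (50, 660)) (.node 1 (.leaf (48, 661)) (.leaf (49, 661)))) (.node 1 (.leaf (50, 661)) (.node 1 (.leaf (49, 662)) (.leaf (49, 663))))))
(.node 6 (.node 3 (.node 1 (.leaf (48, 664)) (.node 1 (.leaf (49, 664)) (.leaf (50, 664)))) (.node 1 (.leaf (49, 665)) (.node 1 (.leaf (49, 666)) (.leaf (48, 667)))))
(.node 3 (.node 1 (.leaf (49, 667)) (.node 1 (.leaf (50, 667)) (.leaf (49, 668)))) (.node 1 (.leaf (48, 669)) (.node 1 (.leaf (49, 669)) (.leaf (50, 669)))))))
(.node 12 (.node 6 (.node 3 (.node 1 (.leaf (49, 670)) (.node 1 (.leaf (50, 670)) (.leaf (48, 671)))) (.node 1 (.leaf (49, 671)) (.node 1 (.leaf (50, 671)) (.leaf (49, 672)))))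
(.node 3 (.node 1 (.leaf (49, 675)) (.node 1 (.leaf (49, 676)) (.leaf (49, 679)))) (.node 1 (.leaf (48, 680)) (.node 1 (.leaf (49, 680)) (.leaf (49, 681))))))
(.node 6 (.node 3 (.node 1 (.leaf (50, 681)) (.node 1 (.leaf (48, 682)) (.leaf (49, 682)))) (.node 1 (.leaf (49, 683)) (.node 1 (.leaf (49, 684)) (.leaf (49, 685)))))
(.node 3 (.node 1 (.leaf (49, 687)) (.node 1 (.leaf (49, 689)) (.leaf (48, 692)))) (.node 1 (.leaf (50, 692)) (.node 1 (.leaf (48, 693)) (.leaf (49, 693))))))))
(.node 24 (.node 12 (.node 6 (.node 3 (.node 1 (.leaf (50, 693)) (.node 1 (.leaf (49, 694)) (.leaf (49, 695)))) (.node 1 (.leaf (48, 696)) (.node 1 (.leaf (49, 696)) (.leaf (50, 696)))))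
(.node 3 (.node 1 (.leaf (48, 698)) (.node 1 (.leaf (50, 698)) (.leaf (49, 699)))) (.node 1 (.leaf (49, 703)) (.node 1 (.leaf (48, 704)) (.leaf (50, 704))))))
(.node 6 (.node 3 (.node 1 (.leaf (48, 706)) (.node 1 (.leaf (50, 706)) (.leaf (49, 711)))) (.node 1 (.leaf (48, 714)) (.node 1 (.leaf (50, 714)) (.leaf (48, 716)))))
(.node 3 (.node 1 (.leaf (50, 716)) (.node 1 (.leaf (49, 722)) (.leaf (48, 731)))) (.node 1 (.leaf (50, 731)) (.node 1 (.leaf (48, 732)) (.leaf (49, 732)))))))
(.node 12 (.node 6 (.node 3 (.node 1 (.leaf (50, 732)) (.node 1 (.leaf (49, 733)) (.leaf (49, 734)))) (.node 1 (.leaf (48, 735)) (.node 1 (.leaf (49, 735)) (.leaf (50, 735)))))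
(.node 3 (.node 1 (.leaf (48, 736)) (.node 1 (.leaf (50, 736)) (.leaf (49, 740)))) (.node 1 (.leaf (49, 741)) (.node 1 (.leaf (48, 744)) (.leaf (49, 744))))))
(.node 6 (.node 3 (.node 1 (.leaf (50, 744)) (.node 1 (.leaf (48, 745)) (.leaf (49, 745)))) (.node 1 (.leaf (50, 745)) (.node 1 (.leaf (49, 746)) (.leaf (49, 747)))))
(.node 3 (.node 1 (.leaf (49, 748)) (.node 1 (.leaf (49, 749)) (.leaf (49, 750)))) (.node 1 (.leaf (49, 751)) (.node 1 (.leaf (49, 752)) (.leaf (49, 753)))))))))))

/-- The reasons. -/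
def caseBFullN4HowRR : Tab (ℕ × ℕ) :=
(.node 192 (.node 96 (.node 48 (.node 24 (.node 12 (.node 6 (.node 3 (.node 1 (.leaf (49, 754)) (.node 1 (.leaf (49, 755)) (.leaf (49, 757)))) (.node 1 (.leaf (49, 758)) (.node 1 (.leaf (49, 759)) (.leaf (49, 760)))))
(.node 3 (.node 1 (.leaf (49, 761)) (.node 1 (.leaf (48, 762)) (.leaf (50, 762)))) (.node 1 (.leaf (48, 763)) (.node 1 (.leaf (50, 763)) (.leaf (48, 764))))))
(.node 6 (.node 3 (.node 1 (.leaf (50, 764)) (.node 1 (.leaf (48, 765)) (.leaf (50, 765)))) (.node 1 (.leaf (48, 768)) (.node 1 (.leaf (50, 768)) (.leaf (49, 771)))))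
(.node 3 (.node 1 (.leaf (49, 774)) (.node 1 (.leaf (49, 778)) (.leaf (48, 779)))) (.node 1 (.leaf (50, 779)) (.node 1 (.leaf (49, 780)) (.leaf (48, 782)))))))
(.node 12 (.node 6 (.node 3 (.node 1 (.leaf (50, 782)) (.node 1 (.leaf (48, 785)) (.leaf (50, 785)))) (.node 1 (.leaf (49, 787)) (.node 1 (.leaf (48, 788)) (.leaf (50, 788)))))
(.node 3 (.node 1 (.leaf (49, 789)) (.node 1 (.leaf (49, 791)) (.leaf (49, 792)))) (.node 1 (.leaf (49, 798)) (.node 1 (.leaf (49, 799)) (.leaf (49, 800))))))
(.node 6 (.node 3 (.node 1 (.leaf (49, 801)) (.node 1 (.leaf (49, 802)) (.leaf (49, 803)))) (.node 1 (.leaf (49, 804)) (.node 1 (.leaf (48, 806)) (.leaf (48, 807)))))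
(.node 3 (.node 1 (.leaf (49, 807)) (.node 1 (.leaf (48, 809)) (.leaf (49, 809)))) (.node 1 (.leaf (48, 810)) (.node 1 (.leaf (49, 810)) (.leaf (49, 811))))))))
(.node 24 (.node 12 (.node 6 (.node 3 (.node 1 (.leaf (48, 812)) (.node 1 (.leaf (50, 812)) (.leaf (49, 813)))) (.node 1 (.leaf (49, 815)) (.node 1 (.leaf (49, 816)) (.leaf (49, 818)))))
(.node 3 (.node 1 (.leaf (48, 819)) (.node 1 (.leaf (50, 819)) (.leaf (49, 820)))) (.node 1 (.leaf (49, 821)) (.node 1 (.leaf (49, 822)) (.leaf (49, 824))))))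
(.node 6 (.node 3 (.node 1 (.leaf (49, 827)) (.node 1 (.leaf (49, 828)) (.leaf (48, 830)))) (.node 1 (.leaf (50, 830)) (.node 1 (.leaf (48, 833)) (.leaf (50, 833)))))
(.node 3 (.node 1 (.leaf (48, 835)) (.node 1 (.leaf (50, 835)) (.leaf (48, 836)))) (.node 1 (.leaf (50, 836)) (.node 1 (.leaf (48, 837)) (.leaf (50, 837)))))))
(.node 12 (.node 6 (.node 3 (.node 1 (.leaf (48, 839)) (.node 1 (.leaf (49, 839)) (.leaf (50, 839)))) (.node 1 (.leaf (48, 840)) (.node 1 (.leaf (50, 840)) (.leaf (48, 841)))))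
(.node 3 (.node 1 (.leaf (50, 841)) (.node 1 (.leaf (48, 843)) (.leaf (49, 843)))) (.node 1 (.leaf (50, 843)) (.node 1 (.leaf (48, 844)) (.leaf (50, 844))))))
(.node 6 (.node 3 (.node 1 (.leaf (48, 845)) (.node 1 (.leaf (50, 845)) (.leaf (48, 850)))) (.node 1 (.leaf (50, 850)) (.node 1 (.leaf (49, 855)) (.leaf (49, 857)))))
(.node 3 (.node 1 (.leaf (49, 858)) (.node 1 (.leaf (49, 860)) (.leaf (48, 863)))) (.node 1 (.leaf (50, 863)) (.node 1 (.leaf (48, 864)) (.leaf (50, 864)))))))))
(.node 48 (.node 24 (.node 12 (.node 6 (.node 3 (.node 1 (.leaf (48, 867)) (.node 1 (.leaf (50, 867)) (.leaf (48, 868)))) (.node 1 (.leaf (50, 868)) (.node 1 (.leaf (49, 872)) (.leaf (49, 873)))))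
(.node 3 (.node 1 (.leaf (48, 874)) (.node 1 (.leaf (50, 874)) (.leaf (49, 875)))) (.node 1 (.leaf (49, 876)) (.node 1 (.leaf (48, 880)) (.leaf (50, 880))))))
(.node 6 (.node 3 (.node 1 (.leaf (48, 881)) (.node 1 (.leaf (50, 881)) (.leaf (48, 882)))) (.node 1 (.leaf (50, 882)) (.node 1 (.leaf (48, 885)) (.leaf (49, 885)))))
(.node 3 (.node 1 (.leaf (50, 885)) (.node 1 (.leaf (48, 886)) (.leaf (50, 886)))) (.node 1 (.leaf (48, 887)) (.node 1 (.leaf (50, 887)) (.leaf (48, 888)))))))
(.node 12 (.node 6 (.node 3 (.node 1 (.leaf (49, 888)) (.node 1 (.leaf (50, 888)) (.leaf (48, 892)))) (.node 1 (.leaf (50, 892)) (.node 1 (.leaf (49, 895)) (.leaf (49, 898)))))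
(.node 3 (.node 1 (.leaf (49, 906)) (.node 1 (.leaf (49, 907)) (.leaf (48, 908)))) (.node 1 (.leaf (50, 908)) (.node 1 (.leaf (48, 909)) (.leaf (50, 909))))))
(.node 6 (.node 3 (.node 1 (.leaf (49, 910)) (.node 1 (.leaf (49, 911)) (.leaf (49, 912)))) (.node 1 (.leaf (49, 913)) (.node 1 (.leaf (48, 914)) (.leaf (50, 914)))))
(.node 3 (.node 1 (.leaf (48, 915)) (.node 1 (.leaf (50, 915)) (.leaf (48, 916)))) (.node 1 (.leaf (50, 916)) (.node 1 (.leaf (48, 917)) (.leaf (50, 917))))))))
(.node 24 (.node 12 (.node 6 (.node 3 (.node 1 (.leaf (48, 918)) (.node 1 (.leaf (50, 918)) (.leaf (48, 919)))) (.node 1 (.leaf (50, 919)) (.node 1 (.leaf (48, 920)) (.leaf (50, 920)))))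
(.node 3 (.node 1 (.leaf (50, 921)) (.node 1 (.leaf (48, 922)) (.leaf (50, 922)))) (.node 1 (.leaf (49, 923)) (.node 1 (.leaf (49, 924)) (.leaf (48, 925))))))
(.node 6 (.node 3 (.node 1 (.leaf (49, 925)) (.node 1 (.leaf (50, 925)) (.leaf (49, 926)))) (.node 1 (.leaf (49, 927)) (.node 1 (.leaf (48, 928)) (.leaf (49, 928)))))
(.node 3 (.node 1 (.leaf (50, 928)) (.node 1 (.leaf (49, 929)) (.leaf (48, 930)))) (.node 1 (.leaf (50, 930)) (.node 1 (.leaf (50, 931)) (.leaf (48, 932)))))))
(.node 12 (.node 6 (.node 3 (.node 1 (.leaf (50, 932)) (.node 1 (.leaf (49, 933)) (.leaf (49, 938)))) (.node 1 (.leaf (49, 939)) (.node 1 (.leaf (49, 941)) (.leaf (49, 942)))))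
(.node 3 (.node 1 (.leaf (50, 944)) (.node 1 (.leaf (48, 945)) (.leaf (49, 945)))) (.node 1 (.leaf (50, 945)) (.node 1 (.leaf (49, 946)) (.leaf (49, 947))))))
(.node 6 (.node 3 (.node 1 (.leaf (48, 948)) (.node 1 (.leaf (49, 948)) (.leaf (50, 948)))) (.node 1 (.leaf (48, 949)) (.node 1 (.leaf (48, 951)) (.leaf (50, 951)))))
(.node 3 (.node 1 (.leaf (48, 952)) (.node 1 (.leaf (50, 952)) (.leaf (48, 959)))) (.node 1 (.leaf (50, 959)) (.node 1 (.leaf (48, 960)) (.leaf (50, 960))))))))))
(.node 96 (.node 48 (.node 24 (.node 12 (.node 6 (.node 3 (.node 1 (.leaf (48, 971)) (.node 1 (.leaf (48, 972)) (.leaf (49, 972)))) (.node 1 (.leaf (50, 972)) (.node 1 (.leaf (49, 973)) (.leaf (49, 974)))))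
(.node 3 (.node 1 (.leaf (48, 975)) (.node 1 (.leaf (49, 975)) (.leaf (50, 975)))) (.node 1 (.leaf (50, 976)) (.node 1 (.leaf (49, 980)) (.leaf (49, 981))))))
(.node 6 (.node 3 (.node 1 (.leaf (49, 987)) (.node 1 (.leaf (49, 988)) (.leaf (49, 989)))) (.node 1 (.leaf (49, 990)) (.node 1 (.leaf (49, 991)) (.leaf (49, 992)))))
(.node 3 (.node 1 (.leaf (49, 996)) (.node 1 (.leaf (49, 997)) (.leaf (48, 999)))) (.node 1 (.leaf (50, 999)) (.node 1 (.leaf (48, 1000)) (.leaf (50, 1000)))))))
(.node 12 (.node 6 (.node 3 (.node 1 (.leaf (49, 1005)) (.node 1 (.leaf (49, 1007)) (.leaf (49, 1010)))) (.node 1 (.leaf (49, 1011)) (.node 1 (.leaf (49, 1014)) (.leaf (48, 1015)))))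
(.node 3 (.node 1 (.leaf (50, 1015)) (.node 1 (.leaf (49, 1016)) (.leaf (49, 1018)))) (.node 1 (.leaf (49, 1019)) (.node 1 (.leaf (49, 1025)) (.leaf (49, 1026))))))
(.node 6 (.node 3 (.node 1 (.leaf (49, 1027)) (.node 1 (.leaf (49, 1028)) (.leaf (48, 1029)))) (.node 1 (.leaf (48, 1032)) (.node 1 (.leaf (50, 1032)) (.leaf (49, 1033)))))
(.node 3 (.node 1 (.leaf (49, 1034)) (.node 1 (.leaf (48, 1035)) (.leaf (50, 1035)))) (.node 1 (.leaf (48, 1036)) (.node 1 (.leaf (50, 1036)) (.leaf (49, 1037))))))))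
(.node 24 (.node 12 (.node 6 (.node 3 (.node 1 (.leaf (49, 1038)) (.node 1 (.leaf (48, 1039)) (.leaf (50, 1039)))) (.node 1 (.leaf (49, 1041)) (.node 1 (.leaf (49, 1042)) (.leaf (49, 1043)))))
(.node 3 (.node 1 (.leaf (49, 1044)) (.node 1 (.leaf (49, 1060)) (.leaf (49, 1062)))) (.node 1 (.leaf (49, 1064)) (.node 1 (.leaf (49, 1066)) (.leaf (48, 1067))))))
(.node 6 (.node 3 (.node 1 (.leaf (50, 1067)) (.node 1 (.leaf (48, 1069)) (.leaf (50, 1069)))) (.node 1 (.leaf (48, 1071)) (.node 1 (.leaf (50, 1071)) (.leaf (48, 1072)))))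
(.node 3 (.node 1 (.leaf (50, 1072)) (.node 1 (.leaf (48, 1074)) (.leaf (50, 1074)))) (.node 1 (.leaf (48, 1076)) (.node 1 (.leaf (50, 1076)) (.leaf (49, 1078)))))))
(.node 12 (.node 6 (.node 3 (.node 1 (.leaf (49, 1081)) (.node 1 (.leaf (49, 1083)) (.leaf (49, 1085)))) (.node 1 (.leaf (48, 1088)) (.node 1 (.leaf (49, 1089)) (.leaf (49, 1092)))))
(.node 3 (.node 1 (.leaf (49, 1093)) (.node 1 (.leaf (49, 1094)) (.leaf (48, 1100)))) (.node 1 (.leaf (49, 1100)) (.node 1 (.leaf (50, 1100)) (.leaf (48, 1101))))))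
(.node 6 (.node 3 (.node 1 (.leaf (49, 1101)) (.node 1 (.leaf (50, 1101)) (.leaf (49, 1105)))) (.node 1 (.leaf (49, 1106)) (.node 1 (.leaf (49, 1108)) (.leaf (49, 1110)))))
(.node 3 (.node 1 (.leaf (49, 1111)) (.node 1 (.leaf (49, 1118)) (.leaf (49, 1123)))) (.node 1 (.leaf (48, 1124)) (.node 1 (.leaf (49, 1124)) (.leaf (50, 1124)))))))))
(.node 48 (.node 24 (.node 12 (.node 6 (.node 3 (.node 1 (.leaf (48, 1125)) (.node 1 (.leaf (49, 1125)) (.leaf (50, 1125)))) (.node 1 (.leaf (49, 1127)) (.node 1 (.leaf (49, 1129)) (.leaf (49, 1130)))))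
(.node 3 (.node 1 (.leaf (49, 1134)) (.node 1 (.leaf (49, 1135)) (.leaf (48, 1136)))) (.node 1 (.leaf (50, 1136)) (.node 1 (.leaf (48, 1137)) (.leaf (50, 1137))))))
(.node 6 (.node 3 (.node 1 (.leaf (49, 1144)) (.node 1 (.leaf (49, 1146)) (.leaf (48, 1148)))) (.node 1 (.leaf (50, 1148)) (.node 1 (.leaf (48, 1151)) (.leaf (50, 1151)))))
(.node 3 (.node 1 (.leaf (49, 1153)) (.node 1 (.leaf (49, 1154)) (.leaf (49, 1167)))) (.node 1 (.leaf (49, 1168)) (.node 1 (.leaf (50, 1169)) (.leaf (50, 1170)))))))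
(.node 12 (.node 6 (.node 3 (.node 1 (.leaf (49, 1172)) (.node 1 (.leaf (49, 1173)) (.leaf (49, 1180)))) (.node 1 (.leaf (49, 1181)) (.node 1 (.leaf (49, 1185)) (.leaf (49, 1186)))))
(.node 3 (.node 1 (.leaf (48, 1187)) (.node 1 (.leaf (50, 1187)) (.leaf (49, 1188)))) (.node 1 (.leaf (48, 1189)) (.node 1 (.leaf (50, 1189)) (.leaf (49, 1191))))))
(.node 6 (.node 3 (.node 1 (.leaf (49, 1194)) (.node 1 (.leaf (49, 1196)) (.leaf (49, 1200)))) (.node 1 (.leaf (49, 1201)) (.node 1 (.leaf (49, 1206)) (.leaf (49, 1207)))))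
(.node 3 (.node 1 (.leaf (49, 1210)) (.node 1 (.leaf (49, 1211)) (.leaf (48, 1224)))) (.node 1 (.leaf (50, 1224)) (.node 1 (.leaf (48, 1226)) (.leaf (50, 1226))))))))
(.node 24 (.node 12 (.node 6 (.node 3 (.node 1 (.leaf (48, 1231)) (.node 1 (.leaf (50, 1231)) (.leaf (48, 1233)))) (.node 1 (.leaf (50, 1233)) (.node 1 (.leaf (50, 1240)) (.leaf (49, 1241)))))
(.node 3 (.node 1 (.leaf (49, 1242)) (.node 1 (.leaf (48, 1243)) (.leaf (48, 1253)))) (.node 1 (.leaf (49, 1253)) (.node 1 (.leaf (50, 1253)) (.leaf (49, 1254))))))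
(.node 6 (.node 3 (.node 1 (.leaf (49, 1255)) (.node 1 (.leaf (48, 1256)) (.leaf (49, 1256)))) (.node 1 (.leaf (50, 1256)) (.node 1 (.leaf (48, 1286)) (.leaf (50, 1286)))))
(.node 3 (.node 1 (.leaf (48, 1287)) (.node 1 (.leaf (50, 1287)) (.leaf (49, 1302)))) (.node 1 (.leaf (49, 1305)) (.node 1 (.leaf (49, 1318)) (.leaf (49, 1321)))))))
(.node 12 (.node 6 (.node 3 (.node 1 (.leaf (48, 1326)) (.node 1 (.leaf (49, 1333)) (.leaf (48, 1344)))) (.node 1 (.leaf (49, 1346)) (.node 1 (.leaf (49, 1373)) (.leaf (49, 1374)))))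
(.node 3 (.node 1 (.leaf (48, 1391)) (.node 1 (.leaf (50, 1391)) (.leaf (49, 1392)))) (.node 1 (.leaf (50, 1400)) (.node 1 (.leaf (48, 1416)) (.leaf (49, 1416))))))
(.node 6 (.node 3 (.node 1 (.leaf (49, 1422)) (.node 1 (.leaf (48, 1423)) (.leaf (50, 1423)))) (.node 1 (.leaf (49, 1470)) (.node 1 (.leaf (49, 1473)) (.leaf (49, 1478)))))
(.node 3 (.node 1 (.leaf (49, 1479)) (.node 1 (.leaf (49, 1480)) (.leaf (49, 1481)))) (.node 1 (.leaf (48, 1492)) (.node 1 (.leaf (49, 1527)) (.leaf (49, 1528)))))))))))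

/-- The reasons. -/
def caseBFullN4HowR : Tab (ℕ × ℕ) := .node 384 caseBFullN4HowRL caseBFullN4HowRR

/-- The reasons. -/
def caseBFullN4How : Tab (ℕ × ℕ) := .node 768 caseBFullN4HowL caseBFullN4HowR

/-- The node. -/
def caseBFullN4Node : NodeD := ⟨4, 1536, caseBFullN4Els, caseBFullN4Ix, caseBFullN4How, fun b => bif b then (.node 7 (.node 3 (.node 1 (.leaf 31) (.node 1 (.leaf 3521) (.leaf 118)))
(.node 2 (.node 1 (.leaf 121) (.leaf 125)) (.node 1 (.leaf 114) (.leaf 116))))
(.node 3 (.node 1 (.leaf 124) (.node 1 (.leaf 120) (.leaf 117)))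
(.node 2 (.node 1 (.leaf 123) (.leaf 115)) (.node 1 (.leaf 119) (.leaf 122))))) else (.node 7 (.node 3 (.node 1 (.leaf 281) (.node 1 (.leaf 276) (.leaf 64)))
(.node 2 (.node 1 (.leaf 58) (.leaf 277)) (.node 1 (.leaf 279) (.leaf 60))))
(.node 3 (.node 1 (.leaf 62) (.node 1 (.leaf 274) (.leaf 282)))
(.node 2 (.node 1 (.leaf 63) (.leaf 61)) (.node 1 (.leaf 278) (.leaf 280)))))⟩

/-- The stabiliser. -/
def caseBFullN7Els : Tab ℕ :=
(.node 128 (.node 64 (.node 32 (.node 16 (.node 8 (.node 4 (.node 2 (.node 1 (.leaf 17043521) (.leaf 17043527)) (.node 1 (.leaf 17193041) (.leaf 17043523)))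
(.node 2 (.node 1 (.leaf 17190977) (.leaf 17764417)) (.node 1 (.leaf 17193047) (.leaf 17043525))))
(.node 4 (.node 2 (.node 1 (.leaf 17190983) (.leaf 17764423)) (.node 1 (.leaf 17193029) (.leaf 17633345)))
(.node 2 (.node 1 (.leaf 17193043) (.leaf 17635409)) (.node 1 (.leaf 17061969) (.leaf 17190979)))))
(.node 8 (.node 4 (.node 2 (.node 1 (.leaf 17764419) (.leaf 17190999)) (.node 1 (.leaf 17569873) (.leaf 17567809)))
(.node 2 (.node 1 (.leaf 17125441) (.leaf 17651793)) (.node 1 (.leaf 17649729) (.leaf 17193027))))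
(.node 4 (.node 2 (.node 1 (.leaf 17633351) (.leaf 17193045)) (.node 1 (.leaf 17635415) (.leaf 17061975)))
(.node 2 (.node 1 (.leaf 17190981) (.leaf 17764421)) (.node 1 (.leaf 17190993) (.leaf 17569879))))))
(.node 16 (.node 8 (.node 4 (.node 2 (.node 1 (.leaf 17567815) (.leaf 17125447)) (.node 1 (.leaf 17651799) (.leaf 17649735)))
(.node 2 (.node 1 (.leaf 17633365) (.leaf 17193031)) (.node 1 (.leaf 17635397) (.leaf 17061957))))
(.node 4 (.node 2 (.node 1 (.leaf 17782865) (.leaf 17633347)) (.node 1 (.leaf 17780801) (.leaf 17174593)))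
(.node 2 (.node 1 (.leaf 17635411) (.leaf 17061971)) (.node 1 (.leaf 17635413) (.leaf 17715265)))))
(.node 8 (.node 4 (.node 2 (.node 1 (.leaf 17717329) (.leaf 17242193)) (.node 1 (.leaf 17766481) (.leaf 17190997)))
(.node 2 (.node 1 (.leaf 17569875) (.leaf 17567811)) (.node 1 (.leaf 17125443) (.leaf 17651795))))
(.node 4 (.node 2 (.node 1 (.leaf 17649731) (.leaf 17569863)) (.node 1 (.leaf 17567831) (.leaf 17125463)))
(.node 2 (.node 1 (.leaf 17569877) (.leaf 17176657)) (.node 1 (.leaf 17240129) (.leaf 17651781)))))))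
(.node 32 (.node 16 (.node 8 (.node 4 (.node 2 (.node 1 (.leaf 17649751) (.leaf 17633363)) (.node 1 (.leaf 17193025) (.leaf 17635395)))
(.node 2 (.node 1 (.leaf 17061955) (.leaf 17782871)) (.node 1 (.leaf 17633349) (.leaf 17780807))))
(.node 4 (.node 2 (.node 1 (.leaf 17174599) (.leaf 17061973)) (.node 1 (.leaf 17715271) (.leaf 17717335)))
(.node 2 (.node 1 (.leaf 17242199) (.leaf 17766487)) (.node 1 (.leaf 17190995) (.leaf 17567813)))))
(.node 8 (.node 4 (.node 2 (.node 1 (.leaf 17125445) (.leaf 17651797)) (.node 1 (.leaf 17649733) (.leaf 17569857)))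
(.node 2 (.node 1 (.leaf 17567825) (.leaf 17125457)) (.node 1 (.leaf 17176663) (.leaf 17240135))))
(.node 4 (.node 2 (.node 1 (.leaf 17651779) (.leaf 17649745)) (.node 1 (.leaf 17782853) (.leaf 17633367)))
(.node 2 (.node 1 (.leaf 17780821) (.leaf 17174613)) (.node 1 (.leaf 17635399) (.leaf 17061959))))))
(.node 16 (.node 8 (.node 4 (.node 2 (.node 1 (.leaf 17635393) (.leaf 17715285)) (.node 1 (.leaf 17717317) (.leaf 17242181)))
(.node 2 (.node 1 (.leaf 17764437) (.leaf 17766469)) (.node 1 (.leaf 17782867) (.leaf 17045585))))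
(.node 4 (.node 2 (.node 1 (.leaf 17780803) (.leaf 17174595)) (.node 1 (.leaf 17780823) (.leaf 17111121)))
(.node 2 (.node 1 (.leaf 17109057) (.leaf 17584193)) (.node 1 (.leaf 17059905) (.leaf 17715267)))))
(.node 8 (.node 4 (.node 2 (.node 1 (.leaf 17717331) (.leaf 17242195)) (.node 1 (.leaf 17766483) (.leaf 17715269)))
(.node 2 (.node 1 (.leaf 17717333) (.leaf 17242197)) (.node 1 (.leaf 17715287) (.leaf 17586257))))
(.node 4 (.node 2 (.node 1 (.leaf 17766485) (.leaf 17569861)) (.node 1 (.leaf 17567829) (.leaf 17125461)))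
(.node 2 (.node 1 (.leaf 17176659) (.leaf 17240131)) (.node 1 (.leaf 17651783) (.leaf 17649749))))))))
(.node 64 (.node 32 (.node 16 (.node 8 (.node 4 (.node 2 (.node 1 (.leaf 17569859) (.leaf 17782855)) (.node 1 (.leaf 17176647) (.leaf 17717319)))
(.node 2 (.node 1 (.leaf 17240151) (.leaf 17766471)) (.node 1 (.leaf 17764439) (.leaf 17780805))))
(.node 4 (.node 2 (.node 1 (.leaf 17782869) (.leaf 17176661)) (.node 1 (.leaf 17127505) (.leaf 17176645)))
(.node 2 (.node 1 (.leaf 17242183) (.leaf 17782851)) (.node 1 (.leaf 17633361) (.leaf 17780819)))))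
(.node 8 (.node 4 (.node 2 (.node 1 (.leaf 17174611) (.leaf 17061953)) (.node 1 (.leaf 17715283) (.leaf 17717315)))
(.node 2 (.node 1 (.leaf 17242179) (.leaf 17764435)) (.node 1 (.leaf 17766467) (.leaf 17045591))))
(.node 4 (.node 2 (.node 1 (.leaf 17174597) (.leaf 17780817)) (.node 1 (.leaf 17111127) (.leaf 17109063)))
(.node 2 (.node 1 (.leaf 17584199) (.leaf 17059911)) (.node 1 (.leaf 17715281) (.leaf 17586263))))))
(.node 16 (.node 8 (.node 4 (.node 2 (.node 1 (.leaf 17567827) (.leaf 17125459)) (.node 1 (.leaf 17240133) (.leaf 17651777)))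
(.node 2 (.node 1 (.leaf 17649747) (.leaf 17782849)) (.node 1 (.leaf 17176641) (.leaf 17717313))))
(.node 4 (.node 2 (.node 1 (.leaf 17240145) (.leaf 17766465)) (.node 1 (.leaf 17764433) (.leaf 17127511)))
(.node 2 (.node 1 (.leaf 17176643) (.leaf 17242177)) (.node 1 (.leaf 17043541) (.leaf 17045573)))))
(.node 8 (.node 4 (.node 2 (.node 1 (.leaf 17174615) (.leaf 17111109)) (.node 1 (.leaf 17109077) (.leaf 17584213)))
(.node 2 (.node 1 (.leaf 17059925) (.leaf 17586245)) (.node 1 (.leaf 17045587) (.leaf 17045589))))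
(.node 4 (.node 2 (.node 1 (.leaf 17256513) (.leaf 17258577)) (.node 1 (.leaf 17700945) (.leaf 17111123)))
(.node 2 (.node 1 (.leaf 17109059) (.leaf 17584195)) (.node 1 (.leaf 17059907) (.leaf 17111111)))))))
(.node 32 (.node 16 (.node 8 (.node 4 (.node 2 (.node 1 (.leaf 17109079) (.leaf 17584215)) (.node 1 (.leaf 17111125) (.leaf 17698881)))
(.node 2 (.node 1 (.leaf 17059927) (.leaf 17586259)) (.node 1 (.leaf 17109061) (.leaf 17586261))))
(.node 4 (.node 2 (.node 1 (.leaf 17059909) (.leaf 17045575)) (.node 1 (.leaf 17043543) (.leaf 17584197)))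
(.node 2 (.node 1 (.leaf 17240149) (.leaf 17127507)) (.node 1 (.leaf 17127495) (.leaf 17586247)))))
(.node 8 (.node 4 (.node 2 (.node 1 (.leaf 17127509) (.leaf 17127493)) (.node 1 (.leaf 17043539) (.leaf 17045571)))
(.node 2 (.node 1 (.leaf 17174609) (.leaf 17111107)) (.node 1 (.leaf 17109075) (.leaf 17584211))))
(.node 4 (.node 2 (.node 1 (.leaf 17059923) (.leaf 17586243)) (.node 1 (.leaf 17256519) (.leaf 17258583)))
(.node 2 (.node 1 (.leaf 17700951) (.leaf 17111105)) (.node 1 (.leaf 17109073) (.leaf 17584209))))))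
(.node 16 (.node 8 (.node 4 (.node 2 (.node 1 (.leaf 17698887) (.leaf 17059921)) (.node 1 (.leaf 17045569) (.leaf 17043537)))
(.node 2 (.node 1 (.leaf 17240147) (.leaf 17127489)) (.node 1 (.leaf 17586241) (.leaf 17127491))))
(.node 4 (.node 2 (.node 1 (.leaf 17256533) (.leaf 17258565)) (.node 1 (.leaf 17700933) (.leaf 17698901)))
(.node 2 (.node 1 (.leaf 17256515) (.leaf 17258579)) (.node 1 (.leaf 17700947) (.leaf 17256517)))))
(.node 8 (.node 4 (.node 2 (.node 1 (.leaf 17258581) (.leaf 17700949)) (.node 1 (.leaf 17256535) (.leaf 17698883)))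
(.node 2 (.node 1 (.leaf 17258567) (.leaf 17698903)) (.node 1 (.leaf 17700935) (.leaf 17698885))))
(.node 4 (.node 2 (.node 1 (.leaf 17256531) (.leaf 17258563)) (.node 1 (.leaf 17700931) (.leaf 17698899)))
(.node 2 (.node 1 (.leaf 17256529) (.leaf 17258561)) (.node 1 (.leaf 17698897) (.leaf 17700929)))))))))

/-- Its index. -/
def caseBFullN7Ix : BT ℕ :=
(.node 17567809 19
(.node 17174593 43
(.node 17109057 108
(.node 17059905 110
(.node 17045569 226
(.node 17043537 227
(.node 17043525 7 (.node 17043523 3 (.node 17043521 0 .tip .tip) .tip) (.node 17043527 1 .tip .tip))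
(.node 17043541 174 (.node 17043539 210 .tip .tip) (.node 17043543 202 .tip .tip)))
(.node 17045585 103
(.node 17045573 175 (.node 17045571 211 .tip .tip) (.node 17045575 201 .tip .tip))
(.node 17045589 183 (.node 17045587 182 .tip .tip) (.node 17045591 151 .tip .tip))))
(.node 17061953 145
(.node 17059921 225
(.node 17059909 200 (.node 17059907 190 .tip .tip) (.node 17059911 157 .tip .tip))
(.node 17059925 180 (.node 17059923 216 .tip .tip) (.node 17059927 196 .tip .tip)))
(.node 17061969 14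
(.node 17061957 39 (.node 17061955 68 .tip .tip) (.node 17061959 95 .tip .tip))
(.node 17061973 73 (.node 17061971 45 .tip .tip) (.node 17061975 27 .tip .tip)))))
(.node 17125441 20
(.node 17111105 221
(.node 17109073 222
(.node 17109061 198 (.node 17109059 188 .tip .tip) (.node 17109063 155 .tip .tip))
(.node 17109077 178 (.node 17109075 214 .tip .tip) (.node 17109079 192 .tip .tip)))
(.node 17111121 107
(.node 17111109 177 (.node 17111107 213 .tip .tip) (.node 17111111 191 .tip .tip))
(.node 17111125 194 (.node 17111123 187 .tip .tip) (.node 17111127 154 .tip .tip))))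
(.node 17127489 229
(.node 17125457 85
(.node 17125445 80 (.node 17125443 54 .tip .tip) (.node 17125447 33 .tip .tip))
(.node 17125461 123 (.node 17125459 161 .tip .tip) (.node 17125463 59 .tip .tip)))
(.node 17127505 138
(.node 17127493 209 (.node 17127491 231 .tip .tip) (.node 17127495 206 .tip .tip))
(.node 17127509 208 (.node 17127507 205 .tip .tip) (.node 17127511 171 .tip .tip))))))
(.node 17240129 62
(.node 17190977 4
(.node 17176641 166
(.node 17174609 212
(.node 17174597 152 (.node 17174595 105 .tip .tip) (.node 17174599 72 .tip .tip))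
(.node 17174613 93 (.node 17174611 144 .tip .tip) (.node 17174615 176 .tip .tip)))
(.node 17176657 61
(.node 17176645 139 (.node 17176643 172 .tip .tip) (.node 17176647 130 .tip .tip))
(.node 17176661 137 (.node 17176659 124 .tip .tip) (.node 17176663 86 .tip .tip))))
(.node 17193025 66
(.node 17190993 30
(.node 17190981 28 (.node 17190979 15 .tip .tip) (.node 17190983 8 .tip .tip))
(.node 17190997 51 (.node 17190995 78 .tip .tip) (.node 17190999 17 .tip .tip)))
(.node 17193041 2
(.node 17193029 10 (.node 17193027 23 .tip .tip) (.node 17193031 37 .tip .tip))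
(.node 17193045 25 (.node 17193043 12 .tip .tip) (.node 17193047 6 .tip .tip)))))
(.node 17256513 184
(.node 17242177 173
(.node 17240145 168
(.node 17240133 162 (.node 17240131 125 .tip .tip) (.node 17240135 87 .tip .tip))
(.node 17240149 204 (.node 17240147 228 .tip .tip) (.node 17240151 132 .tip .tip)))
(.node 17242193 49
(.node 17242181 99 (.node 17242179 148 .tip .tip) (.node 17242183 140 .tip .tip))
(.node 17242197 117 (.node 17242195 113 .tip .tip) (.node 17242199 76 .tip .tip))))
(.node 17258561 253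
(.node 17256529 252
(.node 17256517 239 (.node 17256515 236 .tip .tip) (.node 17256519 218 .tip .tip))
(.node 17256533 232 (.node 17256531 248 .tip .tip) (.node 17256535 242 .tip .tip)))
(.node 17258577 185
(.node 17258565 233 (.node 17258563 249 .tip .tip) (.node 17258567 244 .tip .tip))
(.node 17258581 240 (.node 17258579 237 .tip .tip) (.node 17258583 219 .tip .tip)))))))
(.node 17698881 195
(.node 17633345 11
(.node 17584193 109
(.node 17569857 83
(.node 17567825 84
(.node 17567813 79 (.node 17567811 53 .tip .tip) (.node 17567815 32 .tip .tip))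
(.node 17567829 122 (.node 17567827 160 .tip .tip) (.node 17567831 58 .tip .tip)))
(.node 17569873 18
(.node 17569861 121 (.node 17569859 128 .tip .tip) (.node 17569863 57 .tip .tip))
(.node 17569877 60 (.node 17569875 52 .tip .tip) (.node 17569879 31 .tip .tip))))
(.node 17586241 230
(.node 17584209 223
(.node 17584197 203 (.node 17584195 189 .tip .tip) (.node 17584199 156 .tip .tip))
(.node 17584213 179 (.node 17584211 215 .tip .tip) (.node 17584215 193 .tip .tip)))
(.node 17586257 119
(.node 17586245 181 (.node 17586243 217 .tip .tip) (.node 17586247 207 .tip .tip))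
(.node 17586261 199 (.node 17586259 197 .tip .tip) (.node 17586263 159 .tip .tip)))))
(.node 17649729 22
(.node 17635393 96
(.node 17633361 142
(.node 17633349 70 (.node 17633347 41 .tip .tip) (.node 17633351 24 .tip .tip))
(.node 17633365 36 (.node 17633363 65 .tip .tip) (.node 17633367 91 .tip .tip)))
(.node 17635409 13
(.node 17635397 38 (.node 17635395 67 .tip .tip) (.node 17635399 94 .tip .tip))
(.node 17635413 46 (.node 17635411 44 .tip .tip) (.node 17635415 26 .tip .tip))))
(.node 17651777 163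
(.node 17649745 89
(.node 17649733 82 (.node 17649731 56 .tip .tip) (.node 17649735 35 .tip .tip))
(.node 17649749 127 (.node 17649747 164 .tip .tip) (.node 17649751 64 .tip .tip)))
(.node 17651793 21
(.node 17651781 63 (.node 17651779 88 .tip .tip) (.node 17651783 126 .tip .tip))
(.node 17651797 81 (.node 17651795 55 .tip .tip) (.node 17651799 34 .tip .tip))))))
(.node 17764417 5
(.node 17715265 47
(.node 17700929 255
(.node 17698897 254
(.node 17698885 247 (.node 17698883 243 .tip .tip) (.node 17698887 224 .tip .tip))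
(.node 17698901 235 (.node 17698899 251 .tip .tip) (.node 17698903 245 .tip .tip)))
(.node 17700945 186
(.node 17700933 234 (.node 17700931 250 .tip .tip) (.node 17700935 246 .tip .tip))
(.node 17700949 241 (.node 17700947 238 .tip .tip) (.node 17700951 220 .tip .tip))))
(.node 17717313 167
(.node 17715281 158
(.node 17715269 115 (.node 17715267 111 .tip .tip) (.node 17715271 74 .tip .tip))
(.node 17715285 97 (.node 17715283 146 .tip .tip) (.node 17715287 118 .tip .tip)))
(.node 17717329 48
(.node 17717317 98 (.node 17717315 147 .tip .tip) (.node 17717319 131 .tip .tip))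
(.node 17717333 116 (.node 17717331 112 .tip .tip) (.node 17717335 75 .tip .tip)))))
(.node 17780801 42
(.node 17766465 169
(.node 17764433 170
(.node 17764421 29 (.node 17764419 16 .tip .tip) (.node 17764423 9 .tip .tip))
(.node 17764437 100 (.node 17764435 149 .tip .tip) (.node 17764439 134 .tip .tip)))
(.node 17766481 50
(.node 17766469 101 (.node 17766467 150 .tip .tip) (.node 17766471 133 .tip .tip))
(.node 17766485 120 (.node 17766483 114 .tip .tip) (.node 17766487 77 .tip .tip))))
(.node 17782849 165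
(.node 17780817 153
(.node 17780805 135 (.node 17780803 104 .tip .tip) (.node 17780807 71 .tip .tip))
(.node 17780821 92 (.node 17780819 143 .tip .tip) (.node 17780823 106 .tip .tip)))
(.node 17782865 40
(.node 17782853 90 (.node 17782851 141 .tip .tip) (.node 17782855 129 .tip .tip))
(.node 17782869 136 (.node 17782867 102 .tip .tip) (.node 17782871 69 .tip .tip))))))))

/-- The reasons. -/
def caseBFullN7How : Tab (ℕ × ℕ) :=
(.node 128 (.node 64 (.node 32 (.node 16 (.node 8 (.node 4 (.node 2 (.node 1 (.leaf (0, 0)) (.leaf (70, 0))) (.node 1 (.leaf (71, 0)) (.leaf (72, 0))))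
(.node 2 (.node 1 (.leaf (73, 0)) (.leaf (74, 0))) (.node 1 (.leaf (71, 1)) (.leaf (72, 1)))))
(.node 4 (.node 2 (.node 1 (.leaf (73, 1)) (.leaf (74, 1))) (.node 1 (.leaf (70, 2)) (.leaf (71, 2))))
(.node 2 (.node 1 (.leaf (72, 2)) (.leaf (73, 2))) (.node 1 (.leaf (74, 2)) (.leaf (73, 3))))))
(.node 8 (.node 4 (.node 2 (.node 1 (.leaf (74, 3)) (.leaf (70, 4))) (.node 1 (.leaf (71, 4)) (.leaf (73, 4))))
(.node 2 (.node 1 (.leaf (74, 4)) (.leaf (71, 5))) (.node 1 (.leaf (73, 5)) (.leaf (70, 6)))))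
(.node 4 (.node 2 (.node 1 (.leaf (71, 6)) (.leaf (72, 6))) (.node 1 (.leaf (73, 6)) (.leaf (74, 6))))
(.node 2 (.node 1 (.leaf (73, 7)) (.leaf (74, 7))) (.node 1 (.leaf (70, 8)) (.leaf (71, 8)))))))
(.node 16 (.node 8 (.node 4 (.node 2 (.node 1 (.leaf (73, 8)) (.leaf (74, 8))) (.node 1 (.leaf (71, 9)) (.leaf (73, 9))))
(.node 2 (.node 1 (.leaf (71, 10)) (.leaf (72, 10))) (.node 1 (.leaf (73, 10)) (.leaf (74, 10)))))
(.node 4 (.node 2 (.node 1 (.leaf (71, 11)) (.leaf (72, 11))) (.node 1 (.leaf (73, 11)) (.leaf (74, 11))))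
(.node 2 (.node 1 (.leaf (73, 12)) (.leaf (74, 12))) (.node 1 (.leaf (70, 13)) (.leaf (71, 13))))))
(.node 8 (.node 4 (.node 2 (.node 1 (.leaf (73, 13)) (.leaf (74, 13))) (.node 1 (.leaf (73, 14)) (.leaf (70, 15))))
(.node 2 (.node 1 (.leaf (71, 15)) (.leaf (73, 15))) (.node 1 (.leaf (74, 15)) (.leaf (71, 16)))))
(.node 4 (.node 2 (.node 1 (.leaf (73, 16)) (.leaf (71, 17))) (.node 1 (.leaf (73, 17)) (.leaf (74, 17))))
(.node 2 (.node 1 (.leaf (70, 18)) (.leaf (74, 18))) (.node 1 (.leaf (74, 19)) (.leaf (70, 21))))))))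
(.node 32 (.node 16 (.node 8 (.node 4 (.node 2 (.node 1 (.leaf (70, 22)) (.leaf (71, 23))) (.node 1 (.leaf (72, 23)) (.leaf (73, 23))))
(.node 2 (.node 1 (.leaf (74, 23)) (.leaf (71, 24))) (.node 1 (.leaf (72, 24)) (.leaf (73, 24)))))
(.node 4 (.node 2 (.node 1 (.leaf (74, 24)) (.leaf (74, 25))) (.node 1 (.leaf (71, 26)) (.leaf (73, 26))))
(.node 2 (.node 1 (.leaf (74, 26)) (.leaf (73, 27))) (.node 1 (.leaf (70, 28)) (.leaf (73, 28))))))
(.node 8 (.node 4 (.node 2 (.node 1 (.leaf (74, 28)) (.leaf (71, 29))) (.node 1 (.leaf (73, 29)) (.leaf (71, 30))))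
(.node 2 (.node 1 (.leaf (73, 30)) (.leaf (74, 30))) (.node 1 (.leaf (74, 31)) (.leaf (74, 32)))))
(.node 4 (.node 2 (.node 1 (.leaf (70, 34)) (.leaf (70, 35))) (.node 1 (.leaf (71, 36)) (.leaf (72, 36))))
(.node 2 (.node 1 (.leaf (73, 36)) (.leaf (74, 36))) (.node 1 (.leaf (73, 37)) (.leaf (74, 37)))))))
(.node 16 (.node 8 (.node 4 (.node 2 (.node 1 (.leaf (70, 38)) (.leaf (71, 38))) (.node 1 (.leaf (73, 38)) (.leaf (74, 38))))
(.node 2 (.node 1 (.leaf (71, 39)) (.leaf (73, 39))) (.node 1 (.leaf (72, 40)) (.leaf (73, 40)))))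
(.node 4 (.node 2 (.node 1 (.leaf (73, 41)) (.leaf (74, 41))) (.node 1 (.leaf (70, 42)) (.leaf (71, 42))))
(.node 2 (.node 1 (.leaf (73, 42)) (.leaf (74, 42))) (.node 1 (.leaf (73, 43)) (.leaf (71, 44))))))
(.node 8 (.node 4 (.node 2 (.node 1 (.leaf (73, 44)) (.leaf (74, 44))) (.node 1 (.leaf (73, 45)) (.leaf (71, 46))))
(.node 2 (.node 1 (.leaf (73, 46)) (.leaf (74, 46))) (.node 1 (.leaf (70, 47)) (.leaf (74, 48)))))
(.node 4 (.node 2 (.node 1 (.leaf (70, 50)) (.leaf (71, 51))) (.node 1 (.leaf (73, 51)) (.leaf (74, 51))))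
(.node 2 (.node 1 (.leaf (74, 52)) (.leaf (74, 53))) (.node 1 (.leaf (70, 55)) (.leaf (70, 56)))))))))
(.node 64 (.node 32 (.node 16 (.node 8 (.node 4 (.node 2 (.node 1 (.leaf (70, 57)) (.leaf (73, 57))) (.node 1 (.leaf (74, 57)) (.leaf (71, 58))))
(.node 2 (.node 1 (.leaf (74, 58)) (.leaf (71, 59))) (.node 1 (.leaf (73, 59)) (.leaf (71, 60)))))
(.node 4 (.node 2 (.node 1 (.leaf (73, 60)) (.leaf (74, 60))) (.node 1 (.leaf (73, 61)) (.leaf (73, 63))))
(.node 2 (.node 1 (.leaf (71, 64)) (.leaf (71, 65))) (.node 1 (.leaf (72, 65)) (.leaf (73, 65))))))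
(.node 8 (.node 4 (.node 2 (.node 1 (.leaf (74, 65)) (.leaf (74, 66))) (.node 1 (.leaf (71, 67)) (.leaf (73, 67))))
(.node 2 (.node 1 (.leaf (74, 67)) (.leaf (71, 68))) (.node 1 (.leaf (73, 68)) (.leaf (73, 69)))))
(.node 4 (.node 2 (.node 1 (.leaf (74, 70)) (.leaf (70, 71))) (.node 1 (.leaf (71, 71)) (.leaf (73, 71))))
(.node 2 (.node 1 (.leaf (74, 71)) (.leaf (73, 72))) (.node 1 (.leaf (70, 74)) (.leaf (74, 75)))))))
(.node 16 (.node 8 (.node 4 (.node 2 (.node 1 (.leaf (73, 78)) (.leaf (74, 78))) (.node 1 (.leaf (74, 79)) (.leaf (70, 81))))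
(.node 2 (.node 1 (.leaf (70, 82)) (.leaf (73, 83))) (.node 1 (.leaf (74, 83)) (.leaf (71, 84)))))
(.node 4 (.node 2 (.node 1 (.leaf (74, 84)) (.leaf (71, 85))) (.node 1 (.leaf (73, 85)) (.leaf (73, 86))))
(.node 2 (.node 1 (.leaf (73, 88)) (.leaf (71, 89))) (.node 1 (.leaf (71, 90)) (.leaf (73, 90))))))
(.node 8 (.node 4 (.node 2 (.node 1 (.leaf (74, 91)) (.leaf (71, 92))) (.node 1 (.leaf (73, 92)) (.leaf (74, 92))))
(.node 2 (.node 1 (.leaf (73, 93)) (.leaf (74, 98))) (.node 1 (.leaf (73, 102)) (.leaf (70, 103)))))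
(.node 4 (.node 2 (.node 1 (.leaf (71, 103)) (.leaf (73, 103))) (.node 1 (.leaf (74, 103)) (.leaf (71, 104))))
(.node 2 (.node 1 (.leaf (73, 104)) (.leaf (74, 104))) (.node 1 (.leaf (73, 105)) (.leaf (71, 106))))))))
(.node 32 (.node 16 (.node 8 (.node 4 (.node 2 (.node 1 (.leaf (73, 106)) (.leaf (74, 106))) (.node 1 (.leaf (70, 107)) (.leaf (74, 108))))
(.node 2 (.node 1 (.leaf (70, 110)) (.leaf (74, 112))) (.node 1 (.leaf (71, 116)) (.leaf (74, 116)))))
(.node 4 (.node 2 (.node 1 (.leaf (71, 117)) (.leaf (71, 118))) (.node 1 (.leaf (73, 118)) (.leaf (71, 120))))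
(.node 2 (.node 1 (.leaf (74, 122)) (.leaf (73, 124))) (.node 1 (.leaf (73, 130)) (.leaf (74, 131))))))
(.node 8 (.node 4 (.node 2 (.node 1 (.leaf (73, 137)) (.leaf (70, 138))) (.node 1 (.leaf (71, 141)) (.leaf (73, 141))))
(.node 2 (.node 1 (.leaf (74, 142)) (.leaf (71, 143))) (.node 1 (.leaf (73, 143)) (.leaf (74, 143)))))
(.node 4 (.node 2 (.node 1 (.leaf (73, 144)) (.leaf (74, 147))) (.node 1 (.leaf (71, 151)) (.leaf (73, 151))))
(.node 2 (.node 1 (.leaf (74, 151)) (.leaf (71, 153))) (.node 1 (.leaf (73, 153)) (.leaf (74, 153)))))))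
(.node 16 (.node 8 (.node 4 (.node 2 (.node 1 (.leaf (74, 155)) (.leaf (70, 157))) (.node 1 (.leaf (71, 158)) (.leaf (73, 158))))
(.node 2 (.node 1 (.leaf (74, 160)) (.leaf (73, 166))) (.node 1 (.leaf (74, 167)) (.leaf (70, 171)))))
(.node 4 (.node 2 (.node 1 (.leaf (71, 175)) (.leaf (73, 175))) (.node 1 (.leaf (74, 175)) (.leaf (74, 178))))
(.node 2 (.node 1 (.leaf (71, 182)) (.leaf (73, 182))) (.node 1 (.leaf (74, 182)) (.leaf (71, 183))))))
(.node 8 (.node 4 (.node 2 (.node 1 (.leaf (73, 183)) (.leaf (74, 183))) (.node 1 (.leaf (70, 184)) (.leaf (74, 188))))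
(.node 2 (.node 1 (.leaf (71, 192)) (.leaf (74, 192))) (.node 1 (.leaf (71, 196)) (.leaf (74, 198)))))
(.node 4 (.node 2 (.node 1 (.leaf (71, 211)) (.leaf (73, 211))) (.node 1 (.leaf (74, 211)) (.leaf (74, 214))))
(.node 2 (.node 1 (.leaf (70, 218)) (.leaf (71, 222))) (.node 1 (.leaf (74, 222)) (.leaf (71, 225))))))))))

/-- The node. -/
def caseBFullN7Node : NodeD := ⟨7, 256, caseBFullN7Els, caseBFullN7Ix, caseBFullN7How, fun b => bif b then (.node 7 (.node 3 (.node 1 (.leaf 93) (.node 1 (.leaf 92) (.leaf 3535)))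
(.node 2 (.node 1 (.leaf 3536) (.leaf 89)) (.node 1 (.leaf 91) (.leaf 219))))
(.node 3 (.node 1 (.leaf 221) (.node 1 (.leaf 215) (.leaf 214)))
(.node 2 (.node 1 (.leaf 220) (.leaf 216)) (.node 1 (.leaf 217) (.leaf 218))))) else (.node 7 (.node 3 (.node 1 (.leaf 3532) (.node 1 (.leaf 3529) (.leaf 3526)))
(.node 2 (.node 1 (.leaf 3524) (.leaf 3527)) (.node 1 (.leaf 3525) (.leaf 59))))
(.node 3 (.node 1 (.leaf 3531) (.node 1 (.leaf 3523) (.leaf 3522)))
(.node 2 (.node 1 (.leaf 3528) (.leaf 3530)) (.node 1 (.leaf 3533) (.leaf 3534)))))⟩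

/-- The stabiliser. -/
def caseBFullN10Els : Tab ℕ :=
(.node 64 (.node 32 (.node 16 (.node 8 (.node 4 (.node 2 (.node 1 (.leaf 17043521) (.leaf 25432131)) (.node 1 (.leaf 17045571) (.leaf 17045569)))
(.node 2 (.node 1 (.leaf 17051713) (.leaf 27529281)) (.node 1 (.leaf 25434187) (.leaf 23408707))))
(.node 4 (.node 2 (.node 1 (.leaf 25434177) (.leaf 25434179)) (.node 1 (.leaf 25440323) (.leaf 19140675)))
(.node 2 (.node 1 (.leaf 17045577) (.leaf 31797313)) (.node 1 (.leaf 17043523) (.leaf 17053763)))))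
(.node 8 (.node 4 (.node 2 (.node 1 (.leaf 27531331) (.leaf 25432137)) (.node 1 (.leaf 21313601) (.leaf 17053761)))
(.node 2 (.node 1 (.leaf 27531329) (.leaf 25432139)) (.node 1 (.leaf 21313603) (.leaf 27537473))))
(.node 4 (.node 2 (.node 1 (.leaf 25442379) (.leaf 31789123)) (.node 1 (.leaf 19142731) (.leaf 29700163)))
(.node 2 (.node 1 (.leaf 29702217) (.leaf 29700161)) (.node 1 (.leaf 23410753) (.leaf 23410755))))))
(.node 16 (.node 8 (.node 4 (.node 2 (.node 1 (.leaf 23402563) (.leaf 31797315)) (.node 1 (.leaf 29702219) (.leaf 25432129)))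
(.node 2 (.node 1 (.leaf 25442369) (.leaf 19142721)) (.node 1 (.leaf 17043531) (.leaf 29702211))))
(.node 4 (.node 2 (.node 1 (.leaf 25442371) (.leaf 19142723)) (.node 1 (.leaf 17043529) (.leaf 29702209)))
(.node 2 (.node 1 (.leaf 19148867) (.leaf 17053769)) (.node 1 (.leaf 23400513) (.leaf 27531337)))))
(.node 8 (.node 4 (.node 2 (.node 1 (.leaf 21311553) (.leaf 21313611)) (.node 1 (.leaf 21311555) (.leaf 31799363)))
(.node 2 (.node 1 (.leaf 31799361) (.leaf 31791169)) (.node 1 (.leaf 23408705) (.leaf 21313609))))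
(.node 4 (.node 2 (.node 1 (.leaf 17051715) (.leaf 27529283)) (.node 1 (.leaf 25434185) (.leaf 27539523)))
(.node 2 (.node 1 (.leaf 25440329) (.leaf 29694017)) (.node 1 (.leaf 19140681) (.leaf 31797323)))))))
(.node 32 (.node 16 (.node 8 (.node 4 (.node 2 (.node 1 (.leaf 21303361) (.leaf 31797321)) (.node 1 (.leaf 27539521) (.leaf 25440331)))
(.node 2 (.node 1 (.leaf 29694019) (.leaf 19140683)) (.node 1 (.leaf 21303363) (.leaf 19150923))))
(.node 4 (.node 2 (.node 1 (.leaf 21305417) (.leaf 31791171)) (.node 1 (.leaf 23400515) (.leaf 21305419)))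
(.node 2 (.node 1 (.leaf 23410761) (.leaf 23410763)) (.node 1 (.leaf 29700171) (.leaf 29700169)))))
(.node 8 (.node 4 (.node 2 (.node 1 (.leaf 29691977) (.leaf 29691979)) (.node 1 (.leaf 19148865) (.leaf 25440321)))
(.node 2 (.node 1 (.leaf 19140673) (.leaf 17045579)) (.node 1 (.leaf 19150913) (.leaf 17051723))))
(.node 4 (.node 2 (.node 1 (.leaf 21305411) (.leaf 27529291)) (.node 1 (.leaf 23408713) (.leaf 29691971)))
(.node 2 (.node 1 (.leaf 23408715) (.leaf 19150915)) (.node 1 (.leaf 17051721) (.leaf 21305409))))))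
(.node 16 (.node 8 (.node 4 (.node 2 (.node 1 (.leaf 27529289) (.leaf 29691969)) (.node 1 (.leaf 27539529) (.leaf 29694027)))
(.node 2 (.node 1 (.leaf 23402561) (.leaf 31789121)) (.node 1 (.leaf 29694025) (.leaf 31799371))))
(.node 4 (.node 2 (.node 1 (.leaf 31799369) (.leaf 21311561)) (.node 1 (.leaf 21311563) (.leaf 21303371)))
(.node 2 (.node 1 (.leaf 21303369) (.leaf 27537475)) (.node 1 (.leaf 25442377) (.leaf 19142729)))))
(.node 8 (.node 4 (.node 2 (.node 1 (.leaf 19148873) (.leaf 23400523)) (.node 1 (.leaf 23400521) (.leaf 31791179)))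
(.node 2 (.node 1 (.leaf 31791177) (.leaf 19148875)) (.node 1 (.leaf 27539531) (.leaf 17053771))))
(.node 4 (.node 2 (.node 1 (.leaf 27531339) (.leaf 27537483)) (.node 1 (.leaf 31789129) (.leaf 31789131)))
(.node 2 (.node 1 (.leaf 23402569) (.leaf 23402571)) (.node 1 (.leaf 27537481) (.leaf 19150921))))))))

/-- Its index. -/
def caseBFullN10Ix : BT ℕ :=
(.node 25432129 35
(.node 21303361 64
(.node 19140673 84
(.node 17051713 4
(.node 17045569 3
(.node 17043529 42 (.node 17043523 14 (.node 17043521 0 .tip .tip) .tip) (.node 17043531 38 .tip .tip))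
(.node 17045577 12 (.node 17045571 2 .tip .tip) (.node 17045579 85 .tip .tip)))
(.node 17053761 19
(.node 17051721 94 (.node 17051715 56 .tip .tip) (.node 17051723 87 .tip .tip))
(.node 17053769 45 (.node 17053763 15 .tip .tip) (.node 17053771 119 .tip .tip))))
(.node 19148865 82
(.node 19142721 37
(.node 19140681 62 (.node 19140675 11 .tip .tip) (.node 19140683 69 .tip .tip))
(.node 19142729 111 (.node 19142723 41 .tip .tip) (.node 19142731 26 .tip .tip)))
(.node 19150913 86
(.node 19148873 112 (.node 19148867 44 .tip .tip) (.node 19148875 117 .tip .tip))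
(.node 19150921 127 (.node 19150915 93 .tip .tip) (.node 19150923 71 .tip .tip)))))
(.node 23400513 46
(.node 21311553 48
(.node 21305409 95
(.node 21303369 108 (.node 21303363 70 .tip .tip) (.node 21303371 107 .tip .tip))
(.node 21305417 72 (.node 21305411 88 .tip .tip) (.node 21305419 75 .tip .tip)))
(.node 21313601 18
(.node 21311561 105 (.node 21311555 50 .tip .tip) (.node 21311563 106 .tip .tip))
(.node 21313609 55 (.node 21313603 22 .tip .tip) (.node 21313611 49 .tip .tip))))
(.node 23408705 54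
(.node 23402561 100
(.node 23400521 114 (.node 23400515 74 .tip .tip) (.node 23400523 113 .tip .tip))
(.node 23402569 124 (.node 23402563 32 .tip .tip) (.node 23402571 125 .tip .tip)))
(.node 23410753 30
(.node 23408713 90 (.node 23408707 7 .tip .tip) (.node 23408715 92 .tip .tip))
(.node 23410761 76 (.node 23410755 31 .tip .tip) (.node 23410763 77 .tip .tip))))))
(.node 29691969 97
(.node 27529281 5
(.node 25440321 83
(.node 25434177 8
(.node 25432137 17 (.node 25432131 1 .tip .tip) (.node 25432139 21 .tip .tip))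
(.node 25434185 58 (.node 25434179 9 .tip .tip) (.node 25434187 6 .tip .tip)))
(.node 25442369 36
(.node 25440329 60 (.node 25440323 10 .tip .tip) (.node 25440331 67 .tip .tip))
(.node 25442377 110 (.node 25442371 40 .tip .tip) (.node 25442379 24 .tip .tip))))
(.node 27537473 23
(.node 27531329 20
(.node 27529289 96 (.node 27529283 57 .tip .tip) (.node 27529291 89 .tip .tip))
(.node 27531337 47 (.node 27531331 16 .tip .tip) (.node 27531339 120 .tip .tip)))
(.node 27539521 66
(.node 27537481 126 (.node 27537475 109 .tip .tip) (.node 27537483 121 .tip .tip))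
(.node 27539529 98 (.node 27539523 59 .tip .tip) (.node 27539531 118 .tip .tip)))))
(.node 31789121 101
(.node 29700161 29
(.node 29694017 61
(.node 29691977 80 (.node 29691971 91 .tip .tip) (.node 29691979 81 .tip .tip))
(.node 29694025 102 (.node 29694019 68 .tip .tip) (.node 29694027 99 .tip .tip)))
(.node 29702209 43
(.node 29700169 79 (.node 29700163 27 .tip .tip) (.node 29700171 78 .tip .tip))
(.node 29702217 28 (.node 29702211 39 .tip .tip) (.node 29702219 34 .tip .tip))))
(.node 31797313 13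
(.node 31791169 53
(.node 31789129 122 (.node 31789123 25 .tip .tip) (.node 31789131 123 .tip .tip))
(.node 31791177 116 (.node 31791171 73 .tip .tip) (.node 31791179 115 .tip .tip)))
(.node 31799361 52
(.node 31797321 65 (.node 31797315 33 .tip .tip) (.node 31797323 63 .tip .tip))
(.node 31799369 104 (.node 31799363 51 .tip .tip) (.node 31799371 103 .tip .tip)))))))

/-- The reasons. -/
def caseBFullN10How : Tab (ℕ × ℕ) :=
(.node 64 (.node 32 (.node 16 (.node 8 (.node 4 (.node 2 (.node 1 (.leaf (0, 0)) (.leaf (100, 0))) (.node 1 (.leaf (101, 0)) (.leaf (102, 0))))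
(.node 2 (.node 1 (.leaf (103, 0)) (.leaf (104, 0))) (.node 1 (.leaf (105, 0)) (.leaf (127, 0)))))
(.node 4 (.node 2 (.node 1 (.leaf (101, 1)) (.leaf (102, 1))) (.node 1 (.leaf (103, 1)) (.leaf (104, 1))))
(.node 2 (.node 1 (.leaf (105, 1)) (.leaf (127, 1))) (.node 1 (.leaf (102, 2)) (.leaf (103, 2))))))
(.node 8 (.node 4 (.node 2 (.node 1 (.leaf (104, 2)) (.leaf (105, 2))) (.node 1 (.leaf (127, 2)) (.leaf (103, 3))))
(.node 2 (.node 1 (.leaf (104, 3)) (.leaf (105, 3))) (.node 1 (.leaf (127, 3)) (.leaf (104, 4)))))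
(.node 4 (.node 2 (.node 1 (.leaf (105, 4)) (.leaf (127, 4))) (.node 1 (.leaf (105, 5)) (.leaf (127, 5))))
(.node 2 (.node 1 (.leaf (127, 6)) (.leaf (100, 7))) (.node 1 (.leaf (101, 7)) (.leaf (102, 7)))))))
(.node 16 (.node 8 (.node 4 (.node 2 (.node 1 (.leaf (103, 7)) (.leaf (104, 7))) (.node 1 (.leaf (105, 7)) (.leaf (102, 8))))
(.node 2 (.node 1 (.leaf (103, 8)) (.leaf (104, 8))) (.node 1 (.leaf (105, 8)) (.leaf (127, 8)))))
(.node 4 (.node 2 (.node 1 (.leaf (103, 9)) (.leaf (104, 9))) (.node 1 (.leaf (105, 9)) (.leaf (127, 9))))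
(.node 2 (.node 1 (.leaf (104, 10)) (.leaf (105, 10))) (.node 1 (.leaf (127, 10)) (.leaf (105, 11))))))
(.node 8 (.node 4 (.node 2 (.node 1 (.leaf (127, 11)) (.leaf (127, 12))) (.node 1 (.leaf (100, 13)) (.leaf (101, 13))))
(.node 2 (.node 1 (.leaf (102, 13)) (.leaf (103, 13))) (.node 1 (.leaf (104, 13)) (.leaf (105, 13)))))
(.node 4 (.node 2 (.node 1 (.leaf (103, 14)) (.leaf (104, 14))) (.node 1 (.leaf (105, 14)) (.leaf (104, 15))))
(.node 2 (.node 1 (.leaf (105, 15)) (.leaf (127, 15))) (.node 1 (.leaf (105, 16)) (.leaf (127, 17))))))))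
(.node 32 (.node 16 (.node 8 (.node 4 (.node 2 (.node 1 (.leaf (103, 18)) (.leaf (105, 18))) (.node 1 (.leaf (104, 19)) (.leaf (105, 19))))
(.node 2 (.node 1 (.leaf (127, 19)) (.leaf (105, 20))) (.node 1 (.leaf (103, 22)) (.leaf (105, 23)))))
(.node 4 (.node 2 (.node 1 (.leaf (127, 24)) (.leaf (102, 25))) (.node 1 (.leaf (104, 25)) (.leaf (105, 25))))
(.node 2 (.node 1 (.leaf (127, 26)) (.leaf (105, 27))) (.node 1 (.leaf (101, 28)) (.leaf (102, 28))))))
(.node 8 (.node 4 (.node 2 (.node 1 (.leaf (103, 28)) (.leaf (105, 32))) (.node 1 (.leaf (127, 32)) (.leaf (103, 35))))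
(.node 2 (.node 1 (.leaf (104, 35)) (.leaf (105, 35))) (.node 1 (.leaf (104, 36)) (.leaf (105, 36)))))
(.node 4 (.node 2 (.node 1 (.leaf (127, 36)) (.leaf (105, 37))) (.node 1 (.leaf (127, 38)) (.leaf (103, 39))))
(.node 2 (.node 1 (.leaf (105, 39)) (.leaf (104, 40))) (.node 1 (.leaf (105, 40)) (.leaf (127, 40)))))))
(.node 16 (.node 8 (.node 4 (.node 2 (.node 1 (.leaf (105, 41)) (.leaf (103, 43))) (.node 1 (.leaf (105, 44)) (.leaf (127, 45))))
(.node 2 (.node 1 (.leaf (102, 46)) (.leaf (104, 46))) (.node 1 (.leaf (105, 46)) (.leaf (127, 47)))))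
(.node 4 (.node 2 (.node 1 (.leaf (105, 48)) (.leaf (101, 49))) (.node 1 (.leaf (102, 49)) (.leaf (103, 49))))
(.node 2 (.node 1 (.leaf (105, 53)) (.leaf (127, 53))) (.node 1 (.leaf (105, 56)) (.leaf (105, 57))))))
(.node 8 (.node 4 (.node 2 (.node 1 (.leaf (105, 59)) (.leaf (127, 60))) (.node 1 (.leaf (105, 61)) (.leaf (103, 63))))
(.node 2 (.node 1 (.leaf (105, 64)) (.leaf (105, 66))) (.node 1 (.leaf (127, 80)) (.leaf (105, 83)))))
(.node 4 (.node 2 (.node 1 (.leaf (105, 84)) (.leaf (105, 86))) (.node 1 (.leaf (127, 87)) (.leaf (105, 88))))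
(.node 2 (.node 1 (.leaf (103, 90)) (.leaf (105, 91))) (.node 1 (.leaf (105, 93)) (.leaf (127, 107)))))))))

/-- The node. -/
def caseBFullN10Node : NodeD := ⟨10, 128, caseBFullN10Els, caseBFullN10Ix, caseBFullN10How, fun b => bif b then (.node 7 (.node 3 (.node 1 (.leaf 90) (.node 1 (.leaf 3549) (.leaf 369)))
(.node 2 (.node 1 (.leaf 371) (.leaf 366)) (.node 1 (.leaf 372) (.leaf 3550))))
(.node 3 (.node 1 (.leaf 3547) (.node 1 (.leaf 128) (.leaf 3548)))
(.node 2 (.node 1 (.leaf 368) (.leaf 370)) (.node 1 (.leaf 367) (.leaf 373))))) else (.node 7 (.node 3 (.node 1 (.leaf 322) (.node 1 (.leaf 324) (.leaf 3541)))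
(.node 2 (.node 1 (.leaf 3540) (.leaf 326)) (.node 1 (.leaf 325) (.leaf 3537))))
(.node 3 (.node 1 (.leaf 3544) (.node 1 (.leaf 3539) (.leaf 3538)))
(.node 2 (.node 1 (.leaf 3542) (.leaf 3543)) (.node 1 (.leaf 3545) (.leaf 3546)))))⟩

/-- The stabiliser. -/
def caseBFullN18Els : Tab ℕ :=
(.node 96 (.node 48 (.node 24 (.node 12 (.node 6 (.node 3 (.node 1 (.leaf 17043521) (.node 1 (.leaf 9181257) (.leaf 27539523))) (.node 1 (.leaf 11096153) (.node 1 (.leaf 25694289) (.leaf 19689547))))
(.node 3 (.node 1 (.leaf 27605081) (.node 1 (.leaf 8990795) (.leaf 11292753))) (.node 1 (.leaf 19683403) (.node 1 (.leaf 27856987) (.leaf 17070145)))))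
(.node 6 (.node 3 (.node 1 (.leaf 17045569) (.node 1 (.leaf 11032659) (.leaf 19755097))) (.node 1 (.leaf 25524307) (.node 1 (.leaf 27801665) (.leaf 11022419))))
(.node 3 (.node 1 (.leaf 19208283) (.node 1 (.leaf 9195593) (.leaf 19740761))) (.node 1 (.leaf 25784393) (.node 1 (.leaf 17109073) (.leaf 25778249))))))
(.node 12 (.node 6 (.node 3 (.node 1 (.leaf 17578067) (.node 1 (.leaf 27555907) (.leaf 25514067))) (.node 1 (.leaf 9187401) (.node 1 (.leaf 27791425) (.leaf 19142729))))
(.node 3 (.node 1 (.leaf 17594451) (.node 1 (.leaf 9203785) (.leaf 27545667))) (.node 1 (.leaf 11090009) (.node 1 (.leaf 9179209) (.leaf 27537475)))))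
(.node 6 (.node 3 (.node 1 (.leaf 11098201) (.node 1 (.leaf 17649731) (.leaf 19165257))) (.node 1 (.leaf 11341915) (.node 1 (.leaf 25704529) (.leaf 11104345))))
(.node 3 (.node 1 (.leaf 17127505) (.node 1 (.leaf 9246785) (.leaf 17117265))) (.node 1 (.leaf 8941635) (.node 1 (.leaf 19681355) (.leaf 17643587)))))))
(.node 24 (.node 12 (.node 6 (.node 3 (.node 1 (.leaf 25720913) (.node 1 (.leaf 11276369) (.leaf 8933443))) (.node 1 (.leaf 25712721) (.node 1 (.leaf 19675211) (.leaf 27619417))))
(.node 3 (.node 1 (.leaf 11360347) (.node 1 (.leaf 25718865) (.leaf 19232859))) (.node 1 (.leaf 17633347) (.node 1 (.leaf 11343963) (.leaf 25505875)))))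
(.node 6 (.node 3 (.node 1 (.leaf 8998987) (.node 1 (.leaf 19222619) (.leaf 8984651))) (.node 1 (.leaf 25440331) (.node 1 (.leaf 27883611) (.leaf 9007179))))
(.node 3 (.node 1 (.leaf 17059905) (.node 1 (.leaf 17133649) (.leaf 9252929))) (.node 1 (.leaf 27594841) (.node 1 (.leaf 17111121) (.leaf 8935491))))))
(.node 12 (.node 6 (.node 3 (.node 1 (.leaf 19691595) (.node 1 (.leaf 9244737) (.leaf 11030611))) (.node 1 (.leaf 25456715) (.node 1 (.leaf 27867227) (.leaf 19667019))))
(.node 3 (.node 1 (.leaf 27611225) (.node 1 (.leaf 9001035) (.leaf 11286609))) (.node 1 (.leaf 19673163) (.node 1 (.leaf 25696337) (.leaf 27603033)))))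
(.node 6 (.node 3 (.node 1 (.leaf 8992843) (.node 1 (.leaf 11294801) (.leaf 27859035))) (.node 1 (.leaf 17068097) (.node 1 (.leaf 27613273) (.leaf 25759817))))
(.node 3 (.node 1 (.leaf 9271361) (.node 1 (.leaf 25450571) (.leaf 11024467))) (.node 1 (.leaf 27793473) (.node 1 (.leaf 25442379) (.leaf 17051713))))))))
(.node 48 (.node 24 (.node 12 (.node 6 (.node 3 (.node 1 (.leaf 11038803) (.node 1 (.leaf 19748953) (.leaf 27865179))) (.node 1 (.leaf 17061953) (.node 1 (.leaf 11358299) (.leaf 17659971))))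
(.node 3 (.node 1 (.leaf 25507923) (.node 1 (.leaf 11352155) (.leaf 25497683))) (.node 1 (.leaf 25516115) (.node 1 (.leaf 9189449) (.leaf 9263169)))))
(.node 6 (.node 3 (.node 1 (.leaf 25786441) (.node 1 (.leaf 19732569) (.leaf 25761865))) (.node 1 (.leaf 17586259) (.node 1 (.leaf 19230811) (.leaf 11014227))))
(.node 3 (.node 1 (.leaf 27816001) (.node 1 (.leaf 11040851) (.leaf 27807809))) (.node 1 (.leaf 19730521) (.node 1 (.leaf 11300945) (.leaf 8925251))))))
(.node 12 (.node 6 (.node 3 (.node 1 (.leaf 27596889) (.node 1 (.leaf 9269313) (.leaf 25776201))) (.node 1 (.leaf 19757145) (.node 1 (.leaf 9261121) (.leaf 8919107))))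
(.node 3 (.node 1 (.leaf 17119313) (.node 1 (.leaf 8927299) (.leaf 17567827))) (.node 1 (.leaf 25768009) (.node 1 (.leaf 17125457) (.leaf 9197641)))))
(.node 6 (.node 3 (.node 1 (.leaf 11079769) (.node 1 (.leaf 11368539) (.leaf 11016275))) (.node 1 (.leaf 19214427) (.node 1 (.leaf 9205833) (.leaf 17584211))))
(.node 3 (.node 1 (.leaf 25522259) (.node 1 (.leaf 27799617) (.leaf 17657923))) (.node 1 (.leaf 17651779) (.node 1 (.leaf 19167305) (.leaf 8943683)))))))
(.node 24 (.node 12 (.node 6 (.node 3 (.node 1 (.leaf 19159113) (.node 1 (.leaf 19148873) (.leaf 11106393))) (.node 1 (.leaf 19746905) (.node 1 (.leaf 17135697) (.leaf 27529283))))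
(.node 3 (.node 1 (.leaf 27818049) (.node 1 (.leaf 19206235) (.leaf 19738713))) (.node 1 (.leaf 17576019) (.node 1 (.leaf 27553859) (.leaf 19140681)))))
(.node 6 (.node 3 (.node 1 (.leaf 17592403) (.node 1 (.leaf 27547715) (.leaf 11087961))) (.node 1 (.leaf 27881563) (.node 1 (.leaf 17635395) (.leaf 17641539))))
(.node 3 (.node 1 (.leaf 27531331) (.node 1 (.leaf 19150921) (.leaf 11081817))) (.node 1 (.leaf 27809857) (.node 1 (.leaf 25458763) (.leaf 25770057))))))
(.node 12 (.node 6 (.node 3 (.node 1 (.leaf 25432139) (.node 1 (.leaf 9254977) (.leaf 25702481))) (.node 1 (.leaf 27873371) (.node 1 (.leaf 25710673) (.leaf 25448523))))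
(.node 3 (.node 1 (.leaf 11284561) (.node 1 (.leaf 11302993) (.leaf 19157065))) (.node 1 (.leaf 11366491) (.node 1 (.leaf 17569875) (.leaf 19216475)))))
(.node 6 (.node 3 (.node 1 (.leaf 19224667) (.node 1 (.leaf 8982603) (.leaf 27875419))) (.node 1 (.leaf 11350107) (.node 1 (.leaf 25499731) (.leaf 9009227))))
(.node 3 (.node 1 (.leaf 25434187) (.node 1 (.leaf 27621465) (.leaf 17053761))) (.node 1 (.leaf 19664971) (.node 1 (.leaf 11278417) (.leaf 8917059)))))))))

/-- Its index. -/
def caseBFullN18Ix : BT ℕ :=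
(.node 19140681 155
(.node 11276369 49
(.node 9244737 73
(.node 8998987 60
(.node 8941635 45
(.node 8927299 127 (.node 8919107 125 (.node 8917059 191 .tip .tip) (.node 8925251 119 .tip .tip)) (.node 8935491 71 (.node 8933443 50 .tip .tip) .tip))
(.node 8984651 62 (.node 8982603 181 (.node 8943683 143 .tip .tip) .tip) (.node 8992843 84 (.node 8990795 7 .tip .tip) .tip)))
(.node 9187401 27
(.node 9009227 185 (.node 9007179 65 (.node 9001035 79 .tip .tip) .tip) (.node 9181257 1 (.node 9179209 34 .tip .tip) .tip))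
(.node 9197641 131 (.node 9195593 19 (.node 9189449 106 .tip .tip) .tip) (.node 9205833 136 (.node 9203785 31 .tip .tip) .tip))))
(.node 11030611 74
(.node 9269313 121
(.node 9254977 169 (.node 9252929 68 (.node 9246785 43 .tip .tip) .tip) (.node 9263169 107 (.node 9261121 124 .tip .tip) .tip))
(.node 11016275 134 (.node 11014227 113 (.node 9271361 90 .tip .tip) .tip) (.node 11024467 92 (.node 11022419 17 .tip .tip) .tip)))
(.node 11087961 158
(.node 11040851 115 (.node 11038803 96 (.node 11032659 13 .tip .tip) .tip) (.node 11081817 164 (.node 11079769 132 .tip .tip) .tip))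
(.node 11098201 36 (.node 11096153 3 (.node 11090009 33 .tip .tip) .tip) (.node 11106393 146 (.node 11104345 41 .tip .tip) .tip)))))
(.node 17109073 22
(.node 11358299 100
(.node 11300945 118
(.node 11286609 80 (.node 11284561 174 (.node 11278417 190 .tip .tip) .tip) (.node 11294801 85 (.node 11292753 8 .tip .tip) .tip))
(.node 11343963 58 (.node 11341915 39 (.node 11302993 175 .tip .tip) .tip) (.node 11352155 103 (.node 11350107 183 .tip .tip) .tip)))
(.node 17051713 95
(.node 11368539 133 (.node 11366491 177 (.node 11360347 54 .tip .tip) .tip) (.node 17045569 12 (.node 17043521 0 .tip .tip) .tip))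
(.node 17061953 99 (.node 17059905 66 (.node 17053761 188 .tip .tip) .tip) (.node 17070145 11 (.node 17068097 87 .tip .tip) .tip))))
(.node 17584211 137
(.node 17133649 67
(.node 17119313 126 (.node 17117265 44 (.node 17111121 70 .tip .tip) .tip) (.node 17127505 42 (.node 17125457 130 .tip .tip) .tip))
(.node 17569875 178 (.node 17567827 128 (.node 17135697 148 .tip .tip) .tip) (.node 17578067 24 (.node 17576019 153 .tip .tip) .tip)))
(.node 17641539 161
(.node 17594451 30 (.node 17592403 156 (.node 17586259 111 .tip .tip) .tip) (.node 17635395 160 (.node 17633347 57 .tip .tip) .tip))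
(.node 17651779 141 (.node 17649731 37 (.node 17643587 47 .tip .tip) .tip) (.node 17659971 101 (.node 17657923 140 .tip .tip) .tip))))))
(.node 25694289 4
(.node 19730521 117
(.node 19222619 61
(.node 19165257 38
(.node 19150921 163 (.node 19148873 145 (.node 19142729 29 .tip .tip) .tip) (.node 19159113 144 (.node 19157065 176 .tip .tip) .tip))
(.node 19208283 18 (.node 19206235 151 (.node 19167305 142 .tip .tip) .tip) (.node 19216475 179 (.node 19214427 135 .tip .tip) .tip)))
(.node 19673163 81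
(.node 19232859 56 (.node 19230811 112 (.node 19224667 180 .tip .tip) .tip) (.node 19667019 77 (.node 19664971 189 .tip .tip) .tip))
(.node 19683403 9 (.node 19681355 46 (.node 19675211 52 .tip .tip) .tip) (.node 19691595 72 (.node 19689547 5 .tip .tip) .tip))))
(.node 25448523 173
(.node 19755097 14
(.node 19740761 20 (.node 19738713 152 (.node 19732569 109 .tip .tip) .tip) (.node 19748953 97 (.node 19746905 147 .tip .tip) .tip))
(.node 25434187 186 (.node 25432139 168 (.node 19757145 123 .tip .tip) .tip) (.node 25442379 94 (.node 25440331 63 .tip .tip) .tip)))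
(.node 25505875 59
(.node 25458763 166 (.node 25456715 75 (.node 25450571 91 .tip .tip) .tip) (.node 25499731 184 (.node 25497683 104 .tip .tip) .tip))
(.node 25516115 105 (.node 25514067 26 (.node 25507923 102 .tip .tip) .tip) (.node 25524307 15 (.node 25522259 138 .tip .tip) .tip)))))
(.node 27594841 69
(.node 25776201 122
(.node 25718865 55
(.node 25704529 40 (.node 25702481 170 (.node 25696337 82 .tip .tip) .tip) (.node 25712721 51 (.node 25710673 172 .tip .tip) .tip))
(.node 25761865 110 (.node 25759817 89 (.node 25720913 48 .tip .tip) .tip) (.node 25770057 167 (.node 25768009 129 .tip .tip) .tip)))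
(.node 27537475 35
(.node 25786441 108 (.node 25784393 21 (.node 25778249 23 .tip .tip) .tip) (.node 27531331 162 (.node 27529283 149 .tip .tip) .tip))
(.node 27547715 157 (.node 27545667 32 (.node 27539523 2 .tip .tip) .tip) (.node 27555907 25 (.node 27553859 154 .tip .tip) .tip))))
(.node 27807809 116
(.node 27619417 53
(.node 27605081 6 (.node 27603033 83 (.node 27596889 120 .tip .tip) .tip) (.node 27613273 88 (.node 27611225 78 .tip .tip) .tip))
(.node 27793473 93 (.node 27791425 28 (.node 27621465 187 .tip .tip) .tip) (.node 27801665 16 (.node 27799617 139 .tip .tip) .tip)))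
(.node 27865179 98
(.node 27818049 150 (.node 27816001 114 (.node 27809857 165 .tip .tip) .tip) (.node 27859035 86 (.node 27856987 10 .tip .tip) .tip))
(.node 27875419 182 (.node 27873371 171 (.node 27867227 76 .tip .tip) .tip) (.node 27883611 64 (.node 27881563 159 .tip .tip) .tip)))))))

/-- The reasons. -/
def caseBFullN18How : Tab (ℕ × ℕ) :=
(.node 96 (.node 48 (.node 24 (.node 12 (.node 6 (.node 3 (.node 1 (.leaf (0, 0)) (.node 1 (.leaf (168, 0)) (.leaf (169, 0)))) (.node 1 (.leaf (170, 0)) (.node 1 (.leaf (168, 1)) (.leaf (169, 1)))))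
(.node 3 (.node 1 (.leaf (170, 1)) (.node 1 (.leaf (168, 2)) (.leaf (170, 2)))) (.node 1 (.leaf (168, 3)) (.node 1 (.leaf (169, 3)) (.leaf (170, 3))))))
(.node 6 (.node 3 (.node 1 (.leaf (168, 4)) (.node 1 (.leaf (169, 4)) (.leaf (170, 4)))) (.node 1 (.leaf (168, 5)) (.node 1 (.leaf (170, 5)) (.leaf (168, 6)))))
(.node 3 (.node 1 (.leaf (169, 6)) (.node 1 (.leaf (170, 6)) (.leaf (168, 7)))) (.node 1 (.leaf (169, 7)) (.node 1 (.leaf (170, 7)) (.leaf (168, 8)))))))
(.node 12 (.node 6 (.node 3 (.node 1 (.leaf (169, 8)) (.node 1 (.leaf (170, 8)) (.leaf (168, 9)))) (.node 1 (.leaf (169, 9)) (.node 1 (.leaf (170, 9)) (.leaf (168, 10)))))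
(.node 3 (.node 1 (.leaf (170, 10)) (.node 1 (.leaf (168, 11)) (.leaf (169, 11)))) (.node 1 (.leaf (170, 11)) (.node 1 (.leaf (168, 12)) (.leaf (169, 12))))))
(.node 6 (.node 3 (.node 1 (.leaf (170, 12)) (.node 1 (.leaf (168, 13)) (.leaf (170, 13)))) (.node 1 (.leaf (169, 14)) (.node 1 (.leaf (170, 14)) (.leaf (168, 15)))))
(.node 3 (.node 1 (.leaf (169, 15)) (.node 1 (.leaf (170, 15)) (.leaf (168, 16)))) (.node 1 (.leaf (169, 16)) (.node 1 (.leaf (170, 16)) (.leaf (168, 17))))))))
(.node 24 (.node 12 (.node 6 (.node 3 (.node 1 (.leaf (169, 17)) (.node 1 (.leaf (168, 18)) (.leaf (170, 18)))) (.node 1 (.leaf (168, 19)) (.node 1 (.leaf (169, 19)) (.leaf (170, 19)))))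
(.node 3 (.node 1 (.leaf (169, 20)) (.node 1 (.leaf (170, 20)) (.leaf (168, 21)))) (.node 1 (.leaf (170, 21)) (.node 1 (.leaf (168, 22)) (.leaf (169, 22))))))
(.node 6 (.node 3 (.node 1 (.leaf (170, 22)) (.node 1 (.leaf (168, 23)) (.leaf (169, 23)))) (.node 1 (.leaf (168, 24)) (.node 1 (.leaf (170, 24)) (.leaf (168, 25)))))
(.node 3 (.node 1 (.leaf (169, 25)) (.node 1 (.leaf (169, 26)) (.leaf (170, 26)))) (.node 1 (.leaf (170, 27)) (.node 1 (.leaf (168, 28)) (.leaf (169, 28)))))))
(.node 12 (.node 6 (.node 3 (.node 1 (.leaf (170, 28)) (.node 1 (.leaf (168, 29)) (.leaf (170, 29)))) (.node 1 (.leaf (168, 30)) (.node 1 (.leaf (170, 30)) (.leaf (169, 31)))))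
(.node 3 (.node 1 (.leaf (170, 31)) (.node 1 (.leaf (168, 32)) (.leaf (170, 32)))) (.node 1 (.leaf (168, 33)) (.node 1 (.leaf (168, 34)) (.leaf (170, 34))))))
(.node 6 (.node 3 (.node 1 (.leaf (168, 35)) (.node 1 (.leaf (170, 35)) (.leaf (169, 36)))) (.node 1 (.leaf (170, 36)) (.node 1 (.leaf (168, 37)) (.leaf (170, 37)))))
(.node 3 (.node 1 (.leaf (168, 38)) (.node 1 (.leaf (169, 38)) (.leaf (170, 38)))) (.node 1 (.leaf (168, 39)) (.node 1 (.leaf (170, 39)) (.leaf (168, 40)))))))))
(.node 48 (.node 24 (.node 12 (.node 6 (.node 3 (.node 1 (.leaf (169, 40)) (.node 1 (.leaf (170, 40)) (.leaf (169, 41)))) (.node 1 (.leaf (170, 41)) (.node 1 (.leaf (168, 42)) (.leaf (169, 43)))))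
(.node 3 (.node 1 (.leaf (170, 43)) (.node 1 (.leaf (168, 44)) (.leaf (169, 44)))) (.node 1 (.leaf (168, 46)) (.node 1 (.leaf (169, 46)) (.leaf (169, 47))))))
(.node 6 (.node 3 (.node 1 (.leaf (170, 47)) (.node 1 (.leaf (170, 48)) (.leaf (168, 49)))) (.node 1 (.leaf (168, 50)) (.node 1 (.leaf (170, 50)) (.leaf (169, 51)))))
(.node 3 (.node 1 (.leaf (170, 52)) (.node 1 (.leaf (168, 53)) (.leaf (168, 54)))) (.node 1 (.leaf (170, 55)) (.node 1 (.leaf (168, 56)) (.leaf (170, 56)))))))
(.node 12 (.node 6 (.node 3 (.node 1 (.leaf (168, 57)) (.node 1 (.leaf (169, 57)) (.leaf (170, 57)))) (.node 1 (.leaf (169, 58)) (.node 1 (.leaf (170, 59)) (.leaf (170, 61)))))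
(.node 3 (.node 1 (.leaf (170, 62)) (.node 1 (.leaf (168, 63)) (.leaf (170, 64)))) (.node 1 (.leaf (169, 65)) (.node 1 (.leaf (170, 65)) (.leaf (168, 66))))))
(.node 6 (.node 3 (.node 1 (.leaf (170, 66)) (.node 1 (.leaf (168, 67)) (.leaf (168, 69)))) (.node 1 (.leaf (169, 69)) (.node 1 (.leaf (170, 69)) (.leaf (168, 71)))))
(.node 3 (.node 1 (.leaf (168, 72)) (.node 1 (.leaf (170, 72)) (.leaf (169, 73)))) (.node 1 (.leaf (168, 74)) (.node 1 (.leaf (170, 74)) (.leaf (168, 75))))))))
(.node 24 (.node 12 (.node 6 (.node 3 (.node 1 (.leaf (169, 75)) (.node 1 (.leaf (168, 76)) (.leaf (169, 76)))) (.node 1 (.leaf (168, 79)) (.node 1 (.leaf (170, 79)) (.leaf (170, 80)))))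
(.node 3 (.node 1 (.leaf (170, 81)) (.node 1 (.leaf (169, 83)) (.leaf (168, 84)))) (.node 1 (.leaf (169, 85)) (.node 1 (.leaf (170, 85)) (.leaf (168, 86))))))
(.node 6 (.node 3 (.node 1 (.leaf (170, 86)) (.node 1 (.leaf (169, 87)) (.leaf (170, 87)))) (.node 1 (.leaf (168, 90)) (.node 1 (.leaf (169, 90)) (.leaf (168, 92)))))
(.node 3 (.node 1 (.leaf (169, 95)) (.node 1 (.leaf (168, 98)) (.leaf (170, 99)))) (.node 1 (.leaf (168, 100)) (.node 1 (.leaf (170, 100)) (.leaf (170, 101)))))))
(.node 12 (.node 6 (.node 3 (.node 1 (.leaf (170, 103)) (.node 1 (.leaf (170, 105)) (.leaf (168, 106)))) (.node 1 (.leaf (168, 107)) (.node 1 (.leaf (170, 109)) (.leaf (168, 111)))))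
(.node 3 (.node 1 (.leaf (169, 111)) (.node 1 (.leaf (168, 112)) (.leaf (170, 115)))) (.node 1 (.leaf (169, 117)) (.node 1 (.leaf (169, 118)) (.leaf (169, 120))))))
(.node 6 (.node 3 (.node 1 (.leaf (168, 122)) (.node 1 (.leaf (169, 122)) (.leaf (168, 124)))) (.node 1 (.leaf (168, 126)) (.node 1 (.leaf (169, 126)) (.leaf (170, 126)))))
(.node 3 (.node 1 (.leaf (168, 128)) (.node 1 (.leaf (170, 131)) (.leaf (170, 132)))) (.node 1 (.leaf (169, 136)) (.node 1 (.leaf (168, 151)) (.leaf (169, 165))))))))))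

/-- The node. -/
def caseBFullN18Node : NodeD := ⟨18, 192, caseBFullN18Els, caseBFullN18Ix, caseBFullN18How, fun b => bif b then (.node 7 (.node 3 (.node 1 (.leaf 157) (.node 1 (.leaf 3563) (.leaf 3558)))
(.node 2 (.node 1 (.leaf 3568) (.leaf 3566)) (.node 1 (.leaf 3564) (.leaf 3565))))
(.node 3 (.node 1 (.leaf 3559) (.node 1 (.leaf 3569) (.leaf 3560)))
(.node 2 (.node 1 (.leaf 3567) (.leaf 3562)) (.node 1 (.leaf 3557) (.leaf 3561))))) else (.node 7 (.node 3 (.node 1 (.leaf 769) (.node 1 (.leaf 768) (.leaf 3553)))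
(.node 2 (.node 1 (.leaf 3552) (.leaf 767)) (.node 1 (.leaf 764) (.leaf 3551))))
(.node 3 (.node 1 (.leaf 3556) (.node 1 (.leaf 765) (.leaf 762)))
(.node 2 (.node 1 (.leaf 3554) (.leaf 3555)) (.node 1 (.leaf 763) (.leaf 766)))))⟩

/-- The stabiliser. -/
def caseBFullN22Els : Tab ℕ :=
(.node 16 (.node 8 (.node 4 (.node 2 (.node 1 (.leaf 17043521) (.leaf 17059907)) (.node 1 (.leaf 17649747) (.leaf 17109075)))
(.node 2 (.node 1 (.leaf 17111105) (.leaf 19079261)) (.node 1 (.leaf 17633361) (.leaf 17125457))))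
(.node 4 (.node 2 (.node 1 (.leaf 17127491) (.leaf 19603535)) (.node 1 (.leaf 17584193) (.leaf 17586259)))
(.node 2 (.node 1 (.leaf 19621965) (.leaf 17045587)) (.node 1 (.leaf 19081293) (.leaf 19015773)))))
(.node 8 (.node 4 (.node 2 (.node 1 (.leaf 19097695) (.leaf 19013709)) (.node 1 (.leaf 17567811) (.leaf 17569873)))
(.node 2 (.node 1 (.leaf 17061969) (.leaf 19605599)) (.node 1 (.leaf 19540047) (.leaf 19538015))))
(.node 4 (.node 2 (.node 1 (.leaf 17651777) (.leaf 19619933)) (.node 1 (.leaf 19554381) (.leaf 19556445)))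
(.node 2 (.node 1 (.leaf 19095631) (.leaf 19030111)) (.node 1 (.leaf 19032143) (.leaf 17635395))))))

/-- Its index. -/
def caseBFullN22Ix : BT ℕ :=
(.node 19013709 17
(.node 17567811 18
(.node 17109075 3
(.node 17059907 1 (.node 17045587 13 (.node 17043521 0 .tip .tip) .tip) (.node 17061969 20 .tip .tip))
(.node 17125457 7 (.node 17111105 4 .tip .tip) (.node 17127491 8 .tip .tip)))
(.node 17633361 6
(.node 17584193 10 (.node 17569873 19 .tip .tip) (.node 17586259 11 .tip .tip))
(.node 17649747 2 (.node 17635395 31 .tip .tip) (.node 17651777 24 .tip .tip))))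
(.node 19538015 23
(.node 19079261 5
(.node 19030111 29 (.node 19015773 15 .tip .tip) (.node 19032143 30 .tip .tip))
(.node 19095631 28 (.node 19081293 14 .tip .tip) (.node 19097695 16 .tip .tip)))
(.node 19603535 9
(.node 19554381 26 (.node 19540047 22 .tip .tip) (.node 19556445 27 .tip .tip))
(.node 19619933 25 (.node 19605599 21 .tip .tip) (.node 19621965 12 .tip .tip)))))

/-- The reasons. -/
def caseBFullN22How : Tab (ℕ × ℕ) :=
(.node 16 (.node 8 (.node 4 (.node 2 (.node 1 (.leaf (0, 0)) (.leaf (202, 0))) (.node 1 (.leaf (203, 0)) (.leaf (204, 0))))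
(.node 2 (.node 1 (.leaf (205, 0)) (.leaf (223, 0))) (.node 1 (.leaf (203, 1)) (.leaf (204, 1)))))
(.node 4 (.node 2 (.node 1 (.leaf (205, 1)) (.leaf (223, 1))) (.node 1 (.leaf (204, 2)) (.leaf (205, 2))))
(.node 2 (.node 1 (.leaf (223, 2)) (.leaf (205, 3))) (.node 1 (.leaf (223, 3)) (.leaf (223, 4))))))
(.node 8 (.node 4 (.node 2 (.node 1 (.leaf (202, 5)) (.leaf (204, 5))) (.node 1 (.leaf (204, 6)) (.leaf (205, 6))))
(.node 2 (.node 1 (.leaf (205, 7)) (.leaf (223, 7))) (.node 1 (.leaf (223, 8)) (.leaf (204, 9)))))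
(.node 4 (.node 2 (.node 1 (.leaf (205, 10)) (.leaf (223, 10))) (.node 1 (.leaf (223, 11)) (.leaf (204, 12))))
(.node 2 (.node 1 (.leaf (202, 14)) (.leaf (202, 15))) (.node 1 (.leaf (204, 16)) (.leaf (205, 18)))))))

/-- The node. -/
def caseBFullN22Node : NodeD := ⟨22, 32, caseBFullN22Els, caseBFullN22Ix, caseBFullN22How, fun b => bif b then (.node 7 (.node 3 (.node 1 (.leaf 3580) (.node 1 (.leaf 3587) (.leaf 3582)))
(.node 2 (.node 1 (.leaf 3592) (.leaf 3590)) (.node 1 (.leaf 3588) (.leaf 3589))))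
(.node 3 (.node 1 (.leaf 3583) (.node 1 (.leaf 3593) (.leaf 3584)))
(.node 2 (.node 1 (.leaf 3591) (.leaf 3586)) (.node 1 (.leaf 3581) (.leaf 3585))))) else (.node 7 (.node 3 (.node 1 (.leaf 3579) (.node 1 (.leaf 3576) (.leaf 3574)))
(.node 2 (.node 1 (.leaf 3573) (.leaf 416)) (.node 1 (.leaf 412) (.leaf 3570))))
(.node 3 (.node 1 (.leaf 3578) (.node 1 (.leaf 3572) (.leaf 3571)))
(.node 2 (.node 1 (.leaf 3575) (.leaf 3577)) (.node 1 (.leaf 415) (.leaf 414)))))⟩

/-- The stabiliser. -/
def caseBFullN29Els : Tab ℕ :=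
(.node 96 (.node 48 (.node 24 (.node 12 (.node 6 (.node 3 (.node 1 (.leaf 17043521) (.node 1 (.leaf 17002567) (.leaf 17043527))) (.node 1 (.leaf 17000527) (.node 1 (.leaf 17770585) (.leaf 17002585))))
(.node 3 (.node 1 (.leaf 17780831) (.node 1 (.leaf 17002561) (.leaf 17000521))) (.node 1 (.leaf 17576023) (.node 1 (.leaf 17000535) (.leaf 17584209)))))
(.node 6 (.node 3 (.node 1 (.leaf 17043537) (.node 1 (.leaf 17770577) (.leaf 17051727))) (.node 1 (.leaf 17770567) (.node 1 (.leaf 17780801) (.leaf 17524809))))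
(.node 3 (.node 1 (.leaf 17780809) (.node 1 (.leaf 17510487) (.leaf 17770591))) (.node 1 (.leaf 17002591) (.node 1 (.leaf 17780825) (.leaf 17576017))))))
(.node 12 (.node 6 (.node 3 (.node 1 (.leaf 17000529) (.node 1 (.leaf 17584215) (.leaf 17240153))) (.node 1 (.leaf 17576025) (.node 1 (.leaf 17246273) (.leaf 17576015))))
(.node 3 (.node 1 (.leaf 17584201) (.node 1 (.leaf 17526855) (.leaf 17584199))) (.node 1 (.leaf 17508447) (.node 1 (.leaf 17002583) (.leaf 17043543)))))
(.node 6 (.node 3 (.node 1 (.leaf 17000543) (.node 1 (.leaf 17043545) (.leaf 17051719))) (.node 1 (.leaf 17256513) (.node 1 (.leaf 17051713) (.leaf 17262665))))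
(.node 3 (.node 1 (.leaf 17043535) (.node 1 (.leaf 17770575) (.leaf 17051729))) (.node 1 (.leaf 17524823) (.node 1 (.leaf 17780823) (.leaf 17510473)))))))
(.node 24 (.node 12 (.node 6 (.node 3 (.node 1 (.leaf 17592401) (.node 1 (.leaf 17524817) (.leaf 17567815))) (.node 1 (.leaf 17524831) (.node 1 (.leaf 17510465) (.leaf 17246297))))
(.node 3 (.node 1 (.leaf 17510489) (.node 1 (.leaf 17240143) (.leaf 17770583))) (.node 1 (.leaf 17051721) (.node 1 (.leaf 17770561) (.leaf 17780807)))))
(.node 6 (.node 3 (.node 1 (.leaf 17524815) (.node 1 (.leaf 17780815) (.leaf 17510481))) (.node 1 (.leaf 17240159) (.node 1 (.leaf 17576031) (.leaf 17246279))))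
(.node 3 (.node 1 (.leaf 17576009) (.node 1 (.leaf 17584207) (.leaf 17526849))) (.node 1 (.leaf 17584193) (.node 1 (.leaf 17508441) (.leaf 17002577))))))
(.node 12 (.node 6 (.node 3 (.node 1 (.leaf 17240151) (.node 1 (.leaf 17246287) (.leaf 17059913))) (.node 1 (.leaf 17246281) (.node 1 (.leaf 17068103) (.leaf 17240129))))
(.node 3 (.node 1 (.leaf 17576001) (.node 1 (.leaf 17526879) (.leaf 17584223))) (.node 1 (.leaf 17508423) (.node 1 (.leaf 17786969) (.leaf 17526873)))))
(.node 6 (.node 3 (.node 1 (.leaf 17764431) (.node 1 (.leaf 17526865) (.leaf 17508425))) (.node 1 (.leaf 17051735) (.node 1 (.leaf 17508439) (.leaf 17770569))))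
(.node 3 (.node 1 (.leaf 17002569) (.node 1 (.leaf 17000537) (.leaf 17576007))) (.node 1 (.leaf 17000519) (.node 1 (.leaf 17043551) (.leaf 17256521))))))))
(.node 48 (.node 24 (.node 12 (.node 6 (.node 3 (.node 1 (.leaf 17262657) (.node 1 (.leaf 17256535) (.leaf 17256527))) (.node 1 (.leaf 17262663) (.node 1 (.leaf 17567825) (.leaf 17262673))))
(.node 3 (.node 1 (.leaf 17592415) (.node 1 (.leaf 17043529) (.leaf 17000513))) (.node 1 (.leaf 17051737) (.node 1 (.leaf 17256543) (.leaf 17051743)))))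
(.node 6 (.node 3 (.node 1 (.leaf 17262679) (.node 1 (.leaf 17592399) (.leaf 17567833))) (.node 1 (.leaf 17524801) (.node 1 (.leaf 17510495) (.leaf 17510471))))
(.node 3 (.node 1 (.leaf 17240145) (.node 1 (.leaf 17592393) (.leaf 17567839))) (.node 1 (.leaf 16986177) (.node 1 (.leaf 17567809) (.leaf 16984153))))))
(.node 12 (.node 6 (.node 3 (.node 1 (.leaf 17592391) (.node 1 (.leaf 17524807) (.leaf 17510479))) (.node 1 (.leaf 17059921) (.node 1 (.leaf 17246289) (.leaf 17068127))))
(.node 3 (.node 1 (.leaf 17246295) (.node 1 (.leaf 17240137) (.leaf 17256519))) (.node 1 (.leaf 17262671) (.node 1 (.leaf 17780817) (.leaf 17592407)))))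
(.node 6 (.node 3 (.node 1 (.leaf 17524825) (.node 1 (.leaf 17246303) (.leaf 17059919))) (.node 1 (.leaf 17068097) (.node 1 (.leaf 17240135) (.leaf 17584217))))
(.node 3 (.node 1 (.leaf 17508417) (.node 1 (.leaf 17786975) (.leaf 17764425))) (.node 1 (.leaf 17526871) (.node 1 (.leaf 17508431) (.leaf 17508433)))))))
(.node 24 (.node 12 (.node 6 (.node 3 (.node 1 (.leaf 17002575) (.node 1 (.leaf 17059911) (.leaf 17068105))) (.node 1 (.leaf 17059935) (.node 1 (.leaf 17059905) (.leaf 17068111))))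
(.node 3 (.node 1 (.leaf 17764441) (.node 1 (.leaf 17068121) (.leaf 17786961))) (.node 1 (.leaf 17786945) (.node 1 (.leaf 17764439) (.leaf 17526857)))))
(.node 6 (.node 3 (.node 1 (.leaf 17786951) (.node 1 (.leaf 17764433) (.leaf 16984137))) (.node 1 (.leaf 16986199) (.node 1 (.leaf 17786959) (.leaf 17526863))))
(.node 3 (.node 1 (.leaf 17256537) (.node 1 (.leaf 17262681) (.leaf 17262687))) (.node 1 (.leaf 17567831) (.node 1 (.leaf 16984143) (.leaf 17567817))))))
(.node 12 (.node 6 (.node 3 (.node 1 (.leaf 17592385) (.node 1 (.leaf 17256529) (.leaf 17567823))) (.node 1 (.leaf 16986207) (.node 1 (.leaf 16984135) (.leaf 17592409))))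
(.node 3 (.node 1 (.leaf 16986201) (.node 1 (.leaf 16984129) (.leaf 16986191))) (.node 1 (.leaf 16986183) (.node 1 (.leaf 16984159) (.leaf 17068113)))))
(.node 6 (.node 3 (.node 1 (.leaf 16984145) (.node 1 (.leaf 17059927) (.leaf 17059929))) (.node 1 (.leaf 17068119) (.node 1 (.leaf 17764417) (.leaf 17786953))))
(.node 3 (.node 1 (.leaf 17764447) (.node 1 (.leaf 17786967) (.leaf 16986193))) (.node 1 (.leaf 17764423) (.node 1 (.leaf 16984151) (.leaf 16986185)))))))))

/-- Its index. -/
def caseBFullN29Ix : BT ℕ :=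
(.node 17508417 138
(.node 17059905 148
(.node 17002561 7
(.node 16986193 188
(.node 16984153 119
(.node 16984143 166 (.node 16984135 172 (.node 16984129 175 .tip .tip) (.node 16984137 158 .tip .tip)) (.node 16984151 190 (.node 16984145 180 .tip .tip) .tip))
(.node 16986183 177 (.node 16986177 117 (.node 16984159 178 .tip .tip) .tip) (.node 16986191 176 (.node 16986185 191 .tip .tip) .tip)))
(.node 17000521 8
(.node 16986207 171 (.node 16986201 174 (.node 16986199 159 .tip .tip) .tip) (.node 17000519 93 (.node 17000513 104 .tip .tip) .tip))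
(.node 17000535 10 (.node 17000529 24 (.node 17000527 3 .tip .tip) .tip) (.node 17000543 36 (.node 17000537 91 .tip .tip) .tip))))
(.node 17043537 12
(.node 17002585 5
(.node 17002575 144 (.node 17002569 90 (.node 17002567 1 .tip .tip) .tip) (.node 17002583 34 (.node 17002577 71 .tip .tip) .tip))
(.node 17043527 2 (.node 17043521 0 (.node 17002591 21 .tip .tip) .tip) (.node 17043535 42 (.node 17043529 103 .tip .tip) .tip)))
(.node 17051721 57
(.node 17043551 94 (.node 17043545 37 (.node 17043543 35 .tip .tip) .tip) (.node 17051719 38 (.node 17051713 40 .tip .tip) .tip))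
(.node 17051735 87 (.node 17051729 44 (.node 17051727 14 .tip .tip) .tip) (.node 17051743 107 (.node 17051737 105 .tip .tip) .tip)))))
(.node 17246273 28
(.node 17068113 179
(.node 17059929 182
(.node 17059919 134 (.node 17059913 74 (.node 17059911 145 .tip .tip) .tip) (.node 17059927 181 (.node 17059921 123 .tip .tip) .tip))
(.node 17068103 76 (.node 17068097 135 (.node 17059935 147 .tip .tip) .tip) (.node 17068111 149 (.node 17068105 146 .tip .tip) .tip)))
(.node 17240137 127
(.node 17068127 125 (.node 17068121 151 (.node 17068119 183 .tip .tip) .tip) (.node 17240135 136 (.node 17240129 77 .tip .tip) .tip))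
(.node 17240151 72 (.node 17240145 114 (.node 17240143 55 .tip .tip) .tip) (.node 17240159 63 (.node 17240153 26 .tip .tip) .tip))))
(.node 17256529 169
(.node 17246297 53
(.node 17246287 73 (.node 17246281 75 (.node 17246279 65 .tip .tip) .tip) (.node 17246295 126 (.node 17246289 124 .tip .tip) .tip))
(.node 17256519 128 (.node 17256513 39 (.node 17246303 133 .tip .tip) .tip) (.node 17256527 98 (.node 17256521 95 .tip .tip) .tip)))
(.node 17262665 41
(.node 17256543 106 (.node 17256537 162 (.node 17256535 97 .tip .tip) .tip) (.node 17262663 99 (.node 17262657 96 .tip .tip) .tip))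
(.node 17262679 108 (.node 17262673 101 (.node 17262671 129 .tip .tip) .tip) (.node 17262687 164 (.node 17262681 163 .tip .tip) .tip))))))
(.node 17584193 69
(.node 17526849 68
(.node 17510481 62
(.node 17508441 70
(.node 17508431 142 (.node 17508425 86 (.node 17508423 81 .tip .tip) .tip) (.node 17508439 88 (.node 17508433 143 .tip .tip) .tip))
(.node 17510471 113 (.node 17510465 52 (.node 17508447 33 .tip .tip) .tip) (.node 17510479 122 (.node 17510473 47 .tip .tip) .tip)))
(.node 17524809 17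
(.node 17510495 112 (.node 17510489 54 (.node 17510487 19 .tip .tip) .tip) (.node 17524807 121 (.node 17524801 111 .tip .tip) .tip))
(.node 17524823 45 (.node 17524817 49 (.node 17524815 60 .tip .tip) .tip) (.node 17524831 51 (.node 17524825 132 .tip .tip) .tip))))
(.node 17567825 100
(.node 17526873 83
(.node 17526863 161 (.node 17526857 155 (.node 17526855 31 .tip .tip) .tip) (.node 17526871 141 (.node 17526865 85 .tip .tip) .tip))
(.node 17567815 50 (.node 17567809 118 (.node 17526879 79 .tip .tip) .tip) (.node 17567823 170 (.node 17567817 167 .tip .tip) .tip)))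
(.node 17576009 66
(.node 17567839 116 (.node 17567833 110 (.node 17567831 165 .tip .tip) .tip) (.node 17576007 92 (.node 17576001 78 .tip .tip) .tip))
(.node 17576023 9 (.node 17576017 23 (.node 17576015 29 .tip .tip) .tip) (.node 17576031 64 (.node 17576025 27 .tip .tip) .tip)))))
(.node 17770561 58
(.node 17592401 48
(.node 17584217 137
(.node 17584207 67 (.node 17584201 30 (.node 17584199 32 .tip .tip) .tip) (.node 17584215 25 (.node 17584209 11 .tip .tip) .tip))
(.node 17592391 120 (.node 17592385 168 (.node 17584223 80 .tip .tip) .tip) (.node 17592399 109 (.node 17592393 115 .tip .tip) .tip)))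
(.node 17764425 140
(.node 17592415 102 (.node 17592409 173 (.node 17592407 131 .tip .tip) .tip) (.node 17764423 189 (.node 17764417 184 .tip .tip) .tip))
(.node 17764439 154 (.node 17764433 157 (.node 17764431 84 .tip .tip) .tip) (.node 17764447 186 (.node 17764441 150 .tip .tip) .tip))))
(.node 17780817 130
(.node 17770585 4
(.node 17770575 43 (.node 17770569 89 (.node 17770567 15 .tip .tip) .tip) (.node 17770583 56 (.node 17770577 13 .tip .tip) .tip))
(.node 17780807 59 (.node 17780801 16 (.node 17770591 20 .tip .tip) .tip) (.node 17780815 61 (.node 17780809 18 .tip .tip) .tip)))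
(.node 17786953 185
(.node 17780831 6 (.node 17780825 22 (.node 17780823 46 .tip .tip) .tip) (.node 17786951 156 (.node 17786945 153 .tip .tip) .tip))
(.node 17786967 187 (.node 17786961 152 (.node 17786959 160 .tip .tip) .tip) (.node 17786975 139 (.node 17786969 82 .tip .tip) .tip)))))))

/-- The reasons. -/
def caseBFullN29How : Tab (ℕ × ℕ) :=
(.node 96 (.node 48 (.node 24 (.node 12 (.node 6 (.node 3 (.node 1 (.leaf (0, 0)) (.node 1 (.leaf (286, 0)) (.leaf (287, 0)))) (.node 1 (.leaf (288, 0)) (.node 1 (.leaf (286, 1)) (.leaf (287, 1)))))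
(.node 3 (.node 1 (.leaf (288, 1)) (.node 1 (.leaf (286, 2)) (.leaf (288, 2)))) (.node 1 (.leaf (286, 3)) (.node 1 (.leaf (287, 3)) (.leaf (288, 3))))))
(.node 6 (.node 3 (.node 1 (.leaf (286, 4)) (.node 1 (.leaf (287, 4)) (.leaf (288, 4)))) (.node 1 (.leaf (286, 5)) (.node 1 (.leaf (288, 5)) (.leaf (286, 6)))))
(.node 3 (.node 1 (.leaf (287, 6)) (.node 1 (.leaf (288, 6)) (.leaf (286, 7)))) (.node 1 (.leaf (287, 7)) (.node 1 (.leaf (288, 7)) (.leaf (286, 8)))))))
(.node 12 (.node 6 (.node 3 (.node 1 (.leaf (287, 8)) (.node 1 (.leaf (288, 8)) (.leaf (286, 9)))) (.node 1 (.leaf (287, 9)) (.node 1 (.leaf (288, 9)) (.leaf (286, 10)))))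
(.node 3 (.node 1 (.leaf (288, 10)) (.node 1 (.leaf (286, 11)) (.leaf (287, 11)))) (.node 1 (.leaf (288, 11)) (.node 1 (.leaf (286, 12)) (.leaf (287, 12))))))
(.node 6 (.node 3 (.node 1 (.leaf (288, 12)) (.node 1 (.leaf (286, 13)) (.leaf (288, 13)))) (.node 1 (.leaf (286, 14)) (.node 1 (.leaf (287, 14)) (.leaf (288, 14)))))
(.node 3 (.node 1 (.leaf (286, 15)) (.node 1 (.leaf (287, 15)) (.leaf (288, 15)))) (.node 1 (.leaf (286, 16)) (.node 1 (.leaf (287, 16)) (.leaf (288, 16))))))))
(.node 24 (.node 12 (.node 6 (.node 3 (.node 1 (.leaf (286, 17)) (.node 1 (.leaf (287, 17)) (.leaf (288, 17)))) (.node 1 (.leaf (286, 18)) (.node 1 (.leaf (288, 18)) (.leaf (286, 19)))))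
(.node 3 (.node 1 (.leaf (287, 19)) (.node 1 (.leaf (288, 19)) (.leaf (287, 20)))) (.node 1 (.leaf (288, 20)) (.node 1 (.leaf (286, 21)) (.leaf (288, 21))))))
(.node 6 (.node 3 (.node 1 (.leaf (286, 22)) (.node 1 (.leaf (287, 22)) (.leaf (288, 22)))) (.node 1 (.leaf (286, 23)) (.node 1 (.leaf (287, 23)) (.leaf (288, 23)))))
(.node 3 (.node 1 (.leaf (286, 24)) (.node 1 (.leaf (288, 24)) (.leaf (286, 25)))) (.node 1 (.leaf (287, 25)) (.node 1 (.leaf (288, 25)) (.leaf (288, 26)))))))
(.node 12 (.node 6 (.node 3 (.node 1 (.leaf (286, 27)) (.node 1 (.leaf (288, 27)) (.leaf (286, 28)))) (.node 1 (.leaf (287, 28)) (.node 1 (.leaf (288, 28)) (.leaf (286, 29)))))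
(.node 3 (.node 1 (.leaf (287, 29)) (.node 1 (.leaf (286, 30)) (.leaf (287, 30)))) (.node 1 (.leaf (288, 30)) (.node 1 (.leaf (286, 31)) (.leaf (287, 31))))))
(.node 6 (.node 3 (.node 1 (.leaf (288, 31)) (.node 1 (.leaf (286, 32)) (.leaf (288, 32)))) (.node 1 (.leaf (286, 33)) (.node 1 (.leaf (287, 33)) (.leaf (286, 34)))))
(.node 3 (.node 1 (.leaf (287, 34)) (.node 1 (.leaf (288, 35)) (.leaf (286, 36)))) (.node 1 (.leaf (287, 36)) (.node 1 (.leaf (287, 37)) (.leaf (286, 38)))))))))
(.node 48 (.node 24 (.node 12 (.node 6 (.node 3 (.node 1 (.leaf (288, 38)) (.node 1 (.leaf (287, 39)) (.leaf (286, 40)))) (.node 1 (.leaf (288, 40)) (.node 1 (.leaf (286, 41)) (.leaf (287, 41)))))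
(.node 3 (.node 1 (.leaf (288, 41)) (.node 1 (.leaf (287, 42)) (.leaf (288, 42)))) (.node 1 (.leaf (288, 43)) (.node 1 (.leaf (286, 44)) (.leaf (287, 44))))))
(.node 6 (.node 3 (.node 1 (.leaf (288, 44)) (.node 1 (.leaf (286, 45)) (.leaf (288, 45)))) (.node 1 (.leaf (286, 46)) (.node 1 (.leaf (288, 46)) (.leaf (287, 47)))))
(.node 3 (.node 1 (.leaf (288, 47)) (.node 1 (.leaf (286, 49)) (.leaf (288, 49)))) (.node 1 (.leaf (286, 50)) (.node 1 (.leaf (287, 50)) (.leaf (288, 50)))))))
(.node 12 (.node 6 (.node 3 (.node 1 (.leaf (286, 51)) (.node 1 (.leaf (287, 51)) (.leaf (287, 52)))) (.node 1 (.leaf (286, 53)) (.node 1 (.leaf (287, 53)) (.leaf (288, 53)))))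
(.node 3 (.node 1 (.leaf (286, 54)) (.node 1 (.leaf (287, 55)) (.leaf (286, 57)))) (.node 1 (.leaf (288, 57)) (.node 1 (.leaf (287, 59)) (.leaf (286, 60))))))
(.node 6 (.node 3 (.node 1 (.leaf (286, 61)) (.node 1 (.leaf (286, 62)) (.leaf (286, 65)))) (.node 1 (.leaf (288, 65)) (.node 1 (.leaf (286, 66)) (.leaf (287, 67)))))
(.node 3 (.node 1 (.leaf (288, 67)) (.node 1 (.leaf (286, 68)) (.leaf (288, 68)))) (.node 1 (.leaf (286, 69)) (.node 1 (.leaf (288, 69)) (.leaf (287, 70))))))))
(.node 24 (.node 12 (.node 6 (.node 3 (.node 1 (.leaf (287, 71)) (.node 1 (.leaf (286, 73)) (.leaf (288, 73)))) (.node 1 (.leaf (287, 74)) (.node 1 (.leaf (286, 75)) (.leaf (288, 75)))))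
(.node 3 (.node 1 (.leaf (286, 76)) (.node 1 (.leaf (287, 76)) (.leaf (288, 76)))) (.node 1 (.leaf (286, 79)) (.node 1 (.leaf (288, 79)) (.leaf (286, 80))))))
(.node 6 (.node 3 (.node 1 (.leaf (286, 83)) (.node 1 (.leaf (288, 83)) (.leaf (286, 84)))) (.node 1 (.leaf (288, 84)) (.node 1 (.leaf (286, 85)) (.leaf (287, 85)))))
(.node 3 (.node 1 (.leaf (286, 87)) (.node 1 (.leaf (287, 96)) (.leaf (287, 99)))) (.node 1 (.leaf (287, 100)) (.node 1 (.leaf (288, 100)) (.leaf (286, 101)))))))
(.node 12 (.node 6 (.node 3 (.node 1 (.leaf (287, 102)) (.node 1 (.leaf (286, 107)) (.leaf (286, 108)))) (.node 1 (.leaf (286, 110)) (.node 1 (.leaf (288, 110)) (.leaf (286, 111)))))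
(.node 3 (.node 1 (.leaf (286, 116)) (.node 1 (.leaf (288, 116)) (.leaf (287, 117)))) (.node 1 (.leaf (286, 118)) (.node 1 (.leaf (288, 118)) (.leaf (286, 119))))))
(.node 6 (.node 3 (.node 1 (.leaf (287, 119)) (.node 1 (.leaf (288, 119)) (.leaf (286, 124)))) (.node 1 (.leaf (288, 124)) (.node 1 (.leaf (286, 125)) (.leaf (288, 125)))))
(.node 3 (.node 1 (.leaf (286, 135)) (.node 1 (.leaf (288, 135)) (.leaf (288, 140)))) (.node 1 (.leaf (286, 151)) (.node 1 (.leaf (286, 157)) (.leaf (288, 157))))))))))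

/-- The node. -/
def caseBFullN29Node : NodeD := ⟨29, 192, caseBFullN29Els, caseBFullN29Ix, caseBFullN29How, fun b => bif b then (.node 7 (.node 3 (.node 1 (.leaf 346) (.node 1 (.leaf 342) (.leaf 345)))
(.node 2 (.node 1 (.leaf 341) (.leaf 343)) (.node 1 (.leaf 344) (.leaf 3612))))
(.node 3 (.node 1 (.leaf 3608) (.node 1 (.leaf 3614) (.leaf 3609)))
(.node 2 (.node 1 (.leaf 3613) (.leaf 3611)) (.node 1 (.leaf 3607) (.leaf 3610))))) else (.node 7 (.node 3 (.node 1 (.leaf 3604) (.node 1 (.leaf 3601) (.leaf 3598)))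
(.node 2 (.node 1 (.leaf 3596) (.leaf 3599)) (.node 1 (.leaf 3597) (.leaf 275))))
(.node 3 (.node 1 (.leaf 3603) (.node 1 (.leaf 3595) (.leaf 3594)))
(.node 2 (.node 1 (.leaf 3600) (.leaf 3602)) (.node 1 (.leaf 3605) (.leaf 3606)))))⟩

/-- The stabiliser. -/
def caseBFullN39Els : Tab ℕ :=
(.node 16 (.node 8 (.node 4 (.node 2 (.node 1 (.leaf 17043521) (.leaf 17635393)) (.node 1 (.leaf 16984143) (.leaf 17524801)))
(.node 2 (.node 1 (.leaf 16932959) (.leaf 17440833)) (.node 1 (.leaf 17440847) (.leaf 17584207))))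
(.node 4 (.node 2 (.node 1 (.leaf 16932929) (.leaf 17524831)) (.node 1 (.leaf 17127519) (.leaf 16984129)))
(.node 2 (.node 1 (.leaf 17127505) (.leaf 17635407)) (.node 1 (.leaf 17127503) (.leaf 17635423)))))
(.node 8 (.node 4 (.node 2 (.node 1 (.leaf 17127489) (.leaf 17584209)) (.node 1 (.leaf 17043551) (.leaf 17584223)))
(.node 2 (.node 1 (.leaf 17043535) (.leaf 17584193)) (.node 1 (.leaf 16932945) (.leaf 17440849))))
(.node 4 (.node 2 (.node 1 (.leaf 16932943) (.leaf 17440863)) (.node 1 (.leaf 16984145) (.leaf 17524817)))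
(.node 2 (.node 1 (.leaf 16984159) (.leaf 17524815)) (.node 1 (.leaf 17635409) (.leaf 17043537))))))

/-- Its index. -/
def caseBFullN39Ix : BT ℕ :=
(.node 17440833 5
(.node 17043521 0
(.node 16984129 11
(.node 16932945 22 (.node 16932943 24 (.node 16932929 8 .tip .tip) .tip) (.node 16932959 4 .tip .tip))
(.node 16984145 26 (.node 16984143 2 .tip .tip) (.node 16984159 28 .tip .tip)))
(.node 17127489 16
(.node 17043537 31 (.node 17043535 20 .tip .tip) (.node 17043551 18 .tip .tip))
(.node 17127505 12 (.node 17127503 14 .tip .tip) (.node 17127519 10 .tip .tip))))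
(.node 17584193 21
(.node 17524801 3
(.node 17440849 23 (.node 17440847 6 .tip .tip) (.node 17440863 25 .tip .tip))
(.node 17524817 27 (.node 17524815 29 .tip .tip) (.node 17524831 9 .tip .tip)))
(.node 17635393 1
(.node 17584209 17 (.node 17584207 7 .tip .tip) (.node 17584223 19 .tip .tip))
(.node 17635409 30 (.node 17635407 13 .tip .tip) (.node 17635423 15 .tip .tip)))))

/-- The reasons. -/
def caseBFullN39How : Tab (ℕ × ℕ) :=
(.node 16 (.node 8 (.node 4 (.node 2 (.node 1 (.leaf (0, 0)) (.leaf (330, 0))) (.node 1 (.leaf (331, 0)) (.leaf (332, 0))))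
(.node 2 (.node 1 (.leaf (331, 1)) (.leaf (332, 1))) (.node 1 (.leaf (330, 2)) (.leaf (332, 2)))))
(.node 4 (.node 2 (.node 1 (.leaf (330, 3)) (.leaf (330, 4))) (.node 1 (.leaf (332, 4)) (.leaf (330, 5))))
(.node 2 (.node 1 (.leaf (331, 6)) (.leaf (332, 6))) (.node 1 (.leaf (330, 7)) (.leaf (331, 8))))))
(.node 8 (.node 4 (.node 2 (.node 1 (.leaf (332, 8)) (.leaf (331, 9))) (.node 1 (.leaf (332, 9)) (.leaf (330, 10))))
(.node 2 (.node 1 (.leaf (331, 11)) (.leaf (332, 11))) (.node 1 (.leaf (332, 12)) (.leaf (331, 14)))))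
(.node 4 (.node 2 (.node 1 (.leaf (332, 14)) (.leaf (332, 15))) (.node 1 (.leaf (332, 17)) (.leaf (331, 19))))
(.node 2 (.node 1 (.leaf (332, 19)) (.leaf (332, 20))) (.node 1 (.leaf (332, 23)) (.leaf (332, 27)))))))

/-- The node. -/
def caseBFullN39Node : NodeD := ⟨39, 32, caseBFullN39Els, caseBFullN39Ix, caseBFullN39How, fun b => bif b then (.node 7 (.node 3 (.node 1 (.leaf 353) (.node 1 (.leaf 349) (.leaf 347)))
(.node 2 (.node 1 (.leaf 351) (.leaf 3635)) (.node 1 (.leaf 3633) (.leaf 3634))))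
(.node 3 (.node 1 (.leaf 3629) (.node 1 (.leaf 3637) (.leaf 3630)))
(.node 2 (.node 1 (.leaf 3636) (.leaf 3632)) (.node 1 (.leaf 3628) (.leaf 3631))))) else (.node 7 (.node 3 (.node 1 (.leaf 3625) (.node 1 (.leaf 3622) (.leaf 3619)))
(.node 2 (.node 1 (.leaf 3617) (.leaf 3620)) (.node 1 (.leaf 3618) (.leaf 323))))
(.node 3 (.node 1 (.leaf 3624) (.node 1 (.leaf 3616) (.leaf 3615)))
(.node 2 (.node 1 (.leaf 3621) (.leaf 3623)) (.node 1 (.leaf 3626) (.leaf 3627)))))⟩

/-- The stabiliser. -/
def caseBFullN42Els : Tab ℕ :=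
(.node 8 (.node 4 (.node 2 (.node 1 (.leaf 17043521) (.leaf 11081819)) (.node 1 (.leaf 19206209) (.leaf 11106395)))
(.node 2 (.node 1 (.leaf 15341661) (.leaf 8919131)) (.node 1 (.leaf 17068097) (.leaf 23466053))))
(.node 4 (.node 2 (.node 1 (.leaf 8943707) (.leaf 13310045)) (.node 1 (.leaf 15364189) (.leaf 23492677)))
(.node 2 (.node 1 (.leaf 19230785) (.leaf 21434437)) (.node 1 (.leaf 13332573) (.leaf 21461061)))))

/-- Its index. -/
def caseBFullN42Ix : BT ℕ :=
(.node 17043521 0
(.node 13310045 9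
(.node 11081819 1 (.node 8943707 8 (.node 8919131 5 .tip .tip) .tip) (.node 11106395 3 .tip .tip))
(.node 15341661 4 (.node 13332573 14 .tip .tip) (.node 15364189 10 .tip .tip)))
(.node 21434437 13
(.node 19206209 2 (.node 17068097 6 .tip .tip) (.node 19230785 12 .tip .tip))
(.node 23466053 7 (.node 21461061 15 .tip .tip) (.node 23492677 11 .tip .tip))))

/-- The reasons. -/
def caseBFullN42How : Tab (ℕ × ℕ) :=
(.node 8 (.node 4 (.node 2 (.node 1 (.leaf (0, 0)) (.leaf (355, 0))) (.node 1 (.leaf (356, 0)) (.leaf (357, 0))))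
(.node 2 (.node 1 (.leaf (375, 0)) (.leaf (356, 1))) (.node 1 (.leaf (357, 1)) (.leaf (375, 1)))))
(.node 4 (.node 2 (.node 1 (.leaf (357, 2)) (.leaf (375, 2))) (.node 1 (.leaf (375, 3)) (.leaf (357, 4))))
(.node 2 (.node 1 (.leaf (357, 5)) (.leaf (375, 5))) (.node 1 (.leaf (375, 8)) (.leaf (357, 9))))))

/-- The node. -/
def caseBFullN42Node : NodeD := ⟨42, 16, caseBFullN42Els, caseBFullN42Ix, caseBFullN42How, fun b => bif b then (.node 7 (.node 3 (.node 1 (.leaf 348) (.node 1 (.leaf 3650) (.leaf 458)))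
(.node 2 (.node 1 (.leaf 3654) (.leaf 456)) (.node 1 (.leaf 3651) (.leaf 3652))))
(.node 3 (.node 1 (.leaf 457) (.node 1 (.leaf 3655) (.leaf 455)))
(.node 2 (.node 1 (.leaf 3653) (.leaf 3649)) (.node 1 (.leaf 3648) (.leaf 376))))) else (.node 7 (.node 3 (.node 1 (.leaf 482) (.node 1 (.leaf 481) (.leaf 3643)))
(.node 2 (.node 1 (.leaf 3641) (.leaf 3644)) (.node 1 (.leaf 3642) (.leaf 3638))))
(.node 3 (.node 1 (.leaf 3647) (.node 1 (.leaf 3640) (.leaf 3639)))
(.node 2 (.node 1 (.leaf 3645) (.leaf 3646)) (.node 1 (.leaf 480) (.leaf 478)))))⟩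

/-- The stabiliser. -/
def caseBFullN53Els : Tab ℕ :=
(.node 12 (.node 6 (.node 3 (.node 1 (.leaf 17043521) (.node 1 (.leaf 17256533) (.leaf 17698901))) (.node 1 (.leaf 5193813) (.node 1 (.leaf 17567825) (.leaf 17125457))))
(.node 3 (.node 1 (.leaf 21250129) (.node 1 (.leaf 17649729) (.leaf 4538433))) (.node 1 (.leaf 4608065) (.node 1 (.leaf 17780805) (.leaf 17174597)))))
(.node 6 (.node 3 (.node 1 (.leaf 4669509) (.node 1 (.leaf 21381205) (.leaf 21827669))) (.node 1 (.leaf 21905477) (.node 1 (.leaf 5001301) (.leaf 5062737))))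
(.node 3 (.node 1 (.leaf 5132369) (.node 1 (.leaf 21958737) (.leaf 21774401))) (.node 1 (.leaf 21303365) (.node 1 (.leaf 4476997) (.leaf 21434433))))))

/-- Its index. -/
def caseBFullN53Ix : BT ℕ :=
(.node 17567825 4
(.node 5132369 18
(.node 4669509 12 (.node 4538433 8 (.node 4476997 22 .tip .tip) (.node 4608065 9 .tip .tip)) (.node 5062737 17 (.node 5001301 16 .tip .tip) .tip))
(.node 17125457 5 (.node 17043521 0 (.node 5193813 3 .tip .tip) .tip) (.node 17256533 1 (.node 17174597 11 .tip .tip) .tip)))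
(.node 21381205 13
(.node 17780805 10 (.node 17698901 2 (.node 17649729 7 .tip .tip) .tip) (.node 21303365 21 (.node 21250129 6 .tip .tip) .tip))
(.node 21827669 14 (.node 21774401 20 (.node 21434433 23 .tip .tip) .tip) (.node 21958737 19 (.node 21905477 15 .tip .tip) .tip))))

/-- The reasons. -/
def caseBFullN53How : Tab (ℕ × ℕ) :=
(.node 12 (.node 6 (.node 3 (.node 1 (.leaf (0, 0)) (.node 1 (.leaf (419, 0)) (.leaf (420, 0)))) (.node 1 (.leaf (3432, 0)) (.node 1 (.leaf (419, 1)) (.leaf (420, 1)))))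
(.node 3 (.node 1 (.leaf (3432, 1)) (.node 1 (.leaf (419, 2)) (.leaf (3432, 2)))) (.node 1 (.leaf (419, 3)) (.node 1 (.leaf (419, 4)) (.leaf (420, 4))))))
(.node 6 (.node 3 (.node 1 (.leaf (3432, 4)) (.node 1 (.leaf (3432, 5)) (.leaf (419, 6)))) (.node 1 (.leaf (3432, 7)) (.node 1 (.leaf (419, 8)) (.leaf (419, 9)))))
(.node 3 (.node 1 (.leaf (420, 9)) (.node 1 (.leaf (3432, 9)) (.leaf (3432, 10)))) (.node 1 (.leaf (420, 14)) (.node 1 (.leaf (3432, 14)) (.leaf (419, 15)))))))

/-- The node. -/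
def caseBFullN53Node : NodeD := ⟨53, 24, caseBFullN53Els, caseBFullN53Ix, caseBFullN53How, fun b => bif b then (.node 7 (.node 3 (.node 1 (.leaf 3669) (.node 1 (.leaf 523) (.leaf 3671)))
(.node 2 (.node 1 (.leaf 3679) (.leaf 522)) (.node 1 (.leaf 3676) (.leaf 3677))))
(.node 3 (.node 1 (.leaf 3672) (.node 1 (.leaf 3680) (.leaf 3673)))
(.node 2 (.node 1 (.leaf 3678) (.leaf 3675)) (.node 1 (.leaf 3670) (.leaf 3674))))) else (.node 7 (.node 3 (.node 1 (.leaf 3666) (.node 1 (.leaf 3663) (.leaf 3660)))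
(.node 2 (.node 1 (.leaf 3658) (.leaf 3661)) (.node 1 (.leaf 3659) (.leaf 413))))
(.node 3 (.node 1 (.leaf 3665) (.node 1 (.leaf 3657) (.leaf 3656)))
(.node 2 (.node 1 (.leaf 3662) (.leaf 3664)) (.node 1 (.leaf 3667) (.leaf 3668)))))⟩

/-- The stabiliser. -/
def caseBFullN67Els : Tab ℕ :=
(.node 2 (.node 1 (.leaf 17043521) (.leaf 17635395)) (.node 1 (.leaf 17584193) (.leaf 17127491)))

/-- Its index. -/
def caseBFullN67Ix : BT ℕ :=
(.node 17584193 2 (.node 17127491 3 (.node 17043521 0 .tip .tip) .tip) (.node 17635395 1 .tip .tip))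

/-- The reasons. -/
def caseBFullN67How : Tab (ℕ × ℕ) :=
(.node 2 (.node 1 (.leaf (0, 0)) (.leaf (485, 0))) (.node 1 (.leaf (486, 0)) (.leaf (486, 1))))

/-- The node. -/
def caseBFullN67Node : NodeD := ⟨67, 4, caseBFullN67Els, caseBFullN67Ix, caseBFullN67How, fun b => bif b then (.node 7 (.node 3 (.node 1 (.leaf 3694) (.node 1 (.leaf 3701) (.leaf 3696)))
(.node 2 (.node 1 (.leaf 1403) (.leaf 3704)) (.node 1 (.leaf 3702) (.leaf 3703))))
(.node 3 (.node 1 (.leaf 3697) (.node 1 (.leaf 3706) (.leaf 3698)))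
(.node 2 (.node 1 (.leaf 3705) (.leaf 3700)) (.node 1 (.leaf 3695) (.leaf 3699))))) else (.node 7 (.node 3 (.node 1 (.leaf 3691) (.node 1 (.leaf 3688) (.leaf 3685)))
(.node 2 (.node 1 (.leaf 3683) (.leaf 3686)) (.node 1 (.leaf 3684) (.leaf 479))))
(.node 3 (.node 1 (.leaf 3690) (.node 1 (.leaf 3682) (.leaf 3681)))
(.node 2 (.node 1 (.leaf 3687) (.leaf 3689)) (.node 1 (.leaf 3692) (.leaf 3693)))))⟩

/-- The stabiliser. -/
def caseBFullN112Els : Tab ℕ :=
(.node 6 (.node 3 (.node 1 (.leaf 17043521) (.node 1 (.leaf 17567813) (.leaf 17698897))) (.node 1 (.leaf 21381205) (.node 1 (.leaf 17174613) (.leaf 21905489))))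
(.node 3 (.node 1 (.leaf 21774405) (.node 1 (.leaf 21250113) (.leaf 5132369))) (.node 1 (.leaf 4608085) (.node 1 (.leaf 4476993) (.leaf 5001285)))))

/-- Its index. -/
def caseBFullN112Ix : BT ℕ :=
(.node 17567813 1
(.node 5132369 8 (.node 4608085 9 (.node 4476993 10 .tip .tip) (.node 5001285 11 .tip .tip)) (.node 17174613 4 (.node 17043521 0 .tip .tip) .tip))
(.node 21381205 3 (.node 21250113 7 (.node 17698897 2 .tip .tip) .tip) (.node 21905489 5 (.node 21774405 6 .tip .tip) .tip)))

/-- The reasons. -/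
def caseBFullN112How : Tab (ℕ × ℕ) :=
(.node 6 (.node 3 (.node 1 (.leaf (0, 0)) (.node 1 (.leaf (750, 0)) (.leaf (751, 0)))) (.node 1 (.leaf (3455, 0)) (.node 1 (.leaf (751, 1)) (.leaf (3455, 1)))))
(.node 3 (.node 1 (.leaf (3455, 2)) (.node 1 (.leaf (751, 3)) (.leaf (3455, 3)))) (.node 1 (.leaf (3455, 5)) (.node 1 (.leaf (3455, 6)) (.leaf (3455, 7))))))

/-- The node. -/
def caseBFullN112Node : NodeD := ⟨112, 12, caseBFullN112Els, caseBFullN112Ix, caseBFullN112How, fun b => bif b then (.node 7 (.node 3 (.node 1 (.leaf 3721) (.node 1 (.leaf 3727) (.leaf 752)))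
(.node 2 (.node 1 (.leaf 3732) (.leaf 3730)) (.node 1 (.leaf 3728) (.leaf 3729))))
(.node 3 (.node 1 (.leaf 3723) (.node 1 (.leaf 3733) (.leaf 3724)))
(.node 2 (.node 1 (.leaf 3731) (.leaf 3726)) (.node 1 (.leaf 3722) (.leaf 3725))))) else (.node 7 (.node 3 (.node 1 (.leaf 3718) (.node 1 (.leaf 3715) (.leaf 3712)))
(.node 2 (.node 1 (.leaf 3710) (.leaf 3713)) (.node 1 (.leaf 3711) (.leaf 3707))))
(.node 3 (.node 1 (.leaf 3717) (.node 1 (.leaf 3709) (.leaf 3708)))
(.node 2 (.node 1 (.leaf 3714) (.leaf 3716)) (.node 1 (.leaf 3719) (.leaf 3720)))))⟩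

/-- The stabiliser. -/
def caseBFullN114Els : Tab ℕ :=
(.node 84 (.node 42 (.node 21 (.node 10 (.node 5 (.node 2 (.node 1 (.leaf 17043521) (.leaf 17068113)) (.node 1 (.leaf 17051737) (.node 1 (.leaf 8917063) (.leaf 23531615))))
(.node 2 (.node 1 (.leaf 6572127) (.leaf 17059913)) (.node 1 (.leaf 8941647) (.node 1 (.leaf 15429719) (.leaf 31737943)))))
(.node 5 (.node 2 (.node 1 (.leaf 8925271) (.leaf 31666255)) (.node 1 (.leaf 14960719) (.node 1 (.leaf 8933471) (.leaf 15405145))))
(.node 3 (.node 1 (.leaf 6826073) (.node 1 (.leaf 23556169) (.leaf 23537735))) (.node 1 (.leaf 6770753) (.node 1 (.leaf 6582361) (.leaf 6580305))))))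
(.node 10 (.node 5 (.node 2 (.node 1 (.leaf 8603727) (.leaf 23873601)) (.node 1 (.leaf 7295047) (.node 1 (.leaf 23349319) (.leaf 31991881))))
(.node 2 (.node 1 (.leaf 15411279) (.leaf 32190545)) (.node 1 (.leaf 31723593) (.node 1 (.leaf 31746113) (.leaf 9390151)))))
(.node 5 (.node 2 (.node 1 (.leaf 15485009) (.leaf 7286849)) (.node 1 (.leaf 15214657) (.node 1 (.leaf 31674449) (.leaf 31664215))))
(.node 3 (.node 1 (.leaf 14905433) (.node 1 (.leaf 14962753) (.leaf 14968905))) (.node 1 (.leaf 8865887) (.node 1 (.leaf 32262233) (.leaf 23603281)))))))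
(.node 21 (.node 10 (.node 5 (.node 2 (.node 1 (.leaf 15419457) (.leaf 7024711)) (.node 1 (.leaf 6844511) (.node 1 (.leaf 6842447) (.leaf 16984145))))
(.node 2 (.node 1 (.leaf 15476807) (.leaf 23545937)) (.node 1 (.leaf 31936591) (.node 1 (.leaf 8867927) (.leaf 6778951)))))
(.node 5 (.node 2 (.node 1 (.leaf 6776905) (.leaf 14897239)) (.node 1 (.leaf 17584223) (.node 1 (.leaf 6574167) (.leaf 8613959))))
(.node 3 (.node 1 (.leaf 25915465) (.node 1 (.leaf 8611913) (.leaf 32008263))) (.node 1 (.leaf 25432135) (.node 1 (.leaf 8605761) (.leaf 25905233))))))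
(.node 10 (.node 5 (.node 2 (.node 1 (.leaf 23883863) (.leaf 23865423)) (.node 1 (.leaf 7284831) (.node 1 (.leaf 24055881) (.leaf 23343185))))
(.node 2 (.node 1 (.leaf 23357529) (.leaf 9128023)) (.node 1 (.leaf 7096393) (.node 1 (.leaf 31985751) (.leaf 17770561)))))
(.node 5 (.node 2 (.node 1 (.leaf 9121887) (.leaf 32182351)) (.node 1 (.leaf 32204889) (.node 1 (.leaf 24064095) (.leaf 17576023))))
(.node 3 (.node 1 (.leaf 31731807) (.node 1 (.leaf 9375823) (.leaf 25628761))) (.node 1 (.leaf 9398361) (.node 1 (.leaf 25456719) (.leaf 9384017))))))))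
(.node 42 (.node 21 (.node 10 (.node 5 (.node 2 (.node 1 (.leaf 25643073) (.leaf 15470687)) (.node 1 (.leaf 7293017) (.node 1 (.leaf 15667287) (.leaf 15224911))))
(.node 2 (.node 1 (.leaf 15231071) (.leaf 17246281)) (.node 1 (.leaf 7088215) (.node 1 (.leaf 31672393) (.leaf 23294047)))))
(.node 5 (.node 2 (.node 1 (.leaf 14903377) (.leaf 17592399)) (.node 1 (.leaf 14970951) (.node 1 (.leaf 26169425) (.leaf 8874065))))
(.node 3 (.node 1 (.leaf 23619671) (.node 1 (.leaf 25440343) (.leaf 8876121))) (.node 1 (.leaf 26167369) (.node 1 (.leaf 32264263) (.leaf 32254047))))))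
(.node 10 (.node 5 (.node 2 (.node 1 (.leaf 23605319) (.leaf 17508441)) (.node 1 (.leaf 17510473) (.node 1 (.leaf 7041089) (.leaf 7039063))))
(.node 2 (.node 1 (.leaf 23277641) (.leaf 9187417)) (.node 1 (.leaf 6828105) (.node 1 (.leaf 17002561) (.leaf 25653335)))))
(.node 5 (.node 2 (.node 1 (.leaf 17000535) (.leaf 25694273)) (.node 1 (.leaf 16986183) (.node 1 (.leaf 25634895) (.leaf 15495241))))
(.node 3 (.node 1 (.leaf 17256537) (.node 1 (.leaf 31920209) (.leaf 31942751))) (.node 1 (.leaf 15683673) (.node 1 (.leaf 9195593) (.leaf 6768719)))))))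
(.node 21 (.node 10 (.node 5 (.node 2 (.node 1 (.leaf 25718865) (.leaf 14895199)) (.node 1 (.leaf 25710665) (.node 1 (.leaf 17780815) (.leaf 23334991))))
(.node 2 (.node 1 (.leaf 25897031) (.leaf 17786975)) (.node 1 (.leaf 25372767) (.node 1 (.leaf 32002137) (.leaf 25448543)))))
(.node 5 (.node 2 (.node 1 (.leaf 9179201) (.leaf 23275609)) (.node 1 (.leaf 25890911) (.node 1 (.leaf 17524815) (.leaf 23859289))))
(.node 3 (.node 1 (.leaf 24078401) (.node 1 (.leaf 17567815) (.leaf 25374785))) (.node 1 (.leaf 9136193) (.node 1 (.leaf 9113673) (.leaf 25380953))))))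
(.node 10 (.node 5 (.node 2 (.node 1 (.leaf 7090255) (.leaf 17764433)) (.node 1 (.leaf 32196679) (.node 1 (.leaf 24070231) (.leaf 25702489))))
(.node 2 (.node 1 (.leaf 26159191) (.leaf 9203793)) (.node 1 (.leaf 15673417) (.node 1 (.leaf 17262663) (.leaf 15689799)))))
(.node 5 (.node 2 (.node 1 (.leaf 15208529) (.leaf 25382983)) (.node 1 (.leaf 17240151) (.node 1 (.leaf 7098449) (.leaf 23291983))))
(.node 3 (.node 1 (.leaf 17526879) (.node 1 (.leaf 23621697) (.leaf 31926337))) (.node 1 (.leaf 26161231) (.node 1 (.leaf 32256065) (.leaf 7022673)))))))))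

/-- Its index. -/
def caseBFullN114Ix : BT ℕ :=
(.node 17508441 106
(.node 9195593 124
(.node 7286849 32
(.node 6842447 45
(.node 6770753 18
(.node 6580305 20 (.node 6574167 55 (.node 6572127 5 .tip .tip) .tip) (.node 6768719 125 (.node 6582361 19 .tip .tip) .tip))
(.node 6826073 15 (.node 6778951 51 (.node 6776905 52 .tip .tip) .tip) (.node 6828105 112 .tip .tip)))
(.node 7088215 91
(.node 7024711 43 (.node 7022673 167 (.node 6844511 44 .tip .tip) .tip) (.node 7041089 108 (.node 7039063 109 .tip .tip) .tip))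
(.node 7098449 160 (.node 7096393 70 (.node 7090255 147 .tip .tip) .tip) (.node 7284831 65 .tip .tip))))
(.node 8917063 3
(.node 8613959 56
(.node 8603727 21 (.node 7295047 23 (.node 7293017 86 .tip .tip) .tip) (.node 8611913 58 (.node 8605761 61 .tip .tip) .tip))
(.node 8874065 98 (.node 8867927 50 (.node 8865887 39 .tip .tip) .tip) (.node 8876121 101 .tip .tip)))
(.node 9121887 73
(.node 8941647 7 (.node 8933471 13 (.node 8925271 10 .tip .tip) .tip) (.node 9113673 145 .tip .tip))
(.node 9179201 136 (.node 9136193 144 (.node 9128023 69 .tip .tip) .tip) (.node 9187417 111 .tip .tip)))))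
(.node 15429719 8
(.node 14962753 37
(.node 14895199 127
(.node 9384017 83 (.node 9375823 79 (.node 9203793 153 .tip .tip) .tip) (.node 9398361 81 (.node 9390151 30 .tip .tip) .tip))
(.node 14905433 36 (.node 14903377 94 (.node 14897239 53 .tip .tip) .tip) (.node 14960719 12 .tip .tip)))
(.node 15224911 88
(.node 15208529 157 (.node 14970951 96 (.node 14968905 38 .tip .tip) .tip) (.node 15214657 33 .tip .tip))
(.node 15411279 26 (.node 15405145 14 (.node 15231071 89 .tip .tip) .tip) (.node 15419457 42 .tip .tip))))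
(.node 17000535 115
(.node 15673417 154
(.node 15485009 31 (.node 15476807 47 (.node 15470687 85 .tip .tip) .tip) (.node 15667287 87 (.node 15495241 119 .tip .tip) .tip))
(.node 16984145 46 (.node 15689799 156 (.node 15683673 123 .tip .tip) .tip) (.node 16986183 117 .tip .tip)))
(.node 17068113 1
(.node 17051737 2 (.node 17043521 0 (.node 17002561 113 .tip .tip) .tip) (.node 17059913 6 .tip .tip))
(.node 17256537 120 (.node 17246281 90 (.node 17240151 159 .tip .tip) .tip) (.node 17262663 155 .tip .tip))))))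
(.node 25448543 135
(.node 23537735 17
(.node 17786975 132
(.node 17584223 54
(.node 17526879 162 (.node 17524815 139 (.node 17510473 107 .tip .tip) .tip) (.node 17576023 77 (.node 17567815 142 .tip .tip) .tip))
(.node 17770561 72 (.node 17764433 148 (.node 17592399 95 .tip .tip) .tip) (.node 17780815 129 .tip .tip)))
(.node 23334991 130
(.node 23291983 161 (.node 23277641 110 (.node 23275609 137 .tip .tip) .tip) (.node 23294047 93 .tip .tip))
(.node 23357529 68 (.node 23349319 24 (.node 23343185 67 .tip .tip) .tip) (.node 23531615 4 .tip .tip))))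
(.node 24055881 66
(.node 23621697 163
(.node 23603281 41 (.node 23556169 16 (.node 23545937 48 .tip .tip) .tip) (.node 23619671 99 (.node 23605319 105 .tip .tip) .tip))
(.node 23873601 22 (.node 23865423 64 (.node 23859289 140 .tip .tip) .tip) (.node 23883863 63 .tip .tip)))
(.node 25374785 143
(.node 24078401 141 (.node 24070231 150 (.node 24064095 76 .tip .tip) .tip) (.node 25372767 133 .tip .tip))
(.node 25432135 60 (.node 25382983 158 (.node 25380953 146 .tip .tip) .tip) (.node 25440343 100 .tip .tip)))))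
(.node 31674449 34
(.node 25897031 131
(.node 25694273 116
(.node 25634895 118 (.node 25628761 80 (.node 25456719 82 .tip .tip) .tip) (.node 25653335 114 (.node 25643073 84 .tip .tip) .tip))
(.node 25718865 126 (.node 25710665 128 (.node 25702489 151 .tip .tip) .tip) (.node 25890911 138 .tip .tip)))
(.node 26167369 102
(.node 26159191 152 (.node 25915465 57 (.node 25905233 62 .tip .tip) .tip) (.node 26161231 165 .tip .tip))
(.node 31666255 11 (.node 31664215 35 (.node 26169425 97 .tip .tip) .tip) (.node 31672393 92 .tip .tip))))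
(.node 32002137 134
(.node 31926337 164
(.node 31737943 9 (.node 31731807 78 (.node 31723593 28 .tip .tip) .tip) (.node 31920209 121 (.node 31746113 29 .tip .tip) .tip))
(.node 31985751 71 (.node 31942751 122 (.node 31936591 49 .tip .tip) .tip) (.node 31991881 25 .tip .tip)))
(.node 32204889 75
(.node 32190545 27 (.node 32182351 74 (.node 32008263 59 .tip .tip) .tip) (.node 32196679 149 .tip .tip))
(.node 32262233 40 (.node 32256065 166 (.node 32254047 104 .tip .tip) .tip) (.node 32264263 103 .tip .tip)))))))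

/-- The reasons. -/
def caseBFullN114How : Tab (ℕ × ℕ) :=
(.node 84 (.node 42 (.node 21 (.node 10 (.node 5 (.node 2 (.node 1 (.leaf (0, 0)) (.leaf (756, 0))) (.node 1 (.leaf (757, 0)) (.node 1 (.leaf (772, 0)) (.leaf (774, 0)))))
(.node 2 (.node 1 (.leaf (3468, 0)) (.leaf (757, 1))) (.node 1 (.leaf (772, 1)) (.node 1 (.leaf (774, 1)) (.leaf (3468, 1))))))
(.node 5 (.node 2 (.node 1 (.leaf (772, 2)) (.leaf (774, 2))) (.node 1 (.leaf (3468, 2)) (.node 1 (.leaf (757, 3)) (.leaf (774, 3)))))
(.node 3 (.node 1 (.leaf (3468, 3)) (.node 1 (.leaf (756, 4)) (.leaf (757, 4)))) (.node 1 (.leaf (3468, 4)) (.node 1 (.leaf (756, 5)) (.leaf (757, 5)))))))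
(.node 10 (.node 5 (.node 2 (.node 1 (.leaf (772, 5)) (.leaf (774, 5))) (.node 1 (.leaf (774, 6)) (.node 1 (.leaf (3468, 6)) (.leaf (3468, 7)))))
(.node 2 (.node 1 (.leaf (757, 8)) (.leaf (3468, 8))) (.node 1 (.leaf (756, 9)) (.node 1 (.leaf (757, 9)) (.leaf (772, 9))))))
(.node 5 (.node 2 (.node 1 (.leaf (774, 9)) (.leaf (774, 10))) (.node 1 (.leaf (3468, 10)) (.node 1 (.leaf (756, 11)) (.leaf (757, 11)))))
(.node 3 (.node 1 (.leaf (3468, 11)) (.node 1 (.leaf (756, 12)) (.leaf (757, 12)))) (.node 1 (.leaf (772, 12)) (.node 1 (.leaf (774, 12)) (.leaf (3468, 13))))))))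
(.node 21 (.node 10 (.node 5 (.node 2 (.node 1 (.leaf (757, 14)) (.leaf (3468, 14))) (.node 1 (.leaf (756, 15)) (.node 1 (.leaf (757, 15)) (.leaf (772, 15)))))
(.node 2 (.node 1 (.leaf (774, 15)) (.leaf (757, 16))) (.node 1 (.leaf (3468, 16)) (.node 1 (.leaf (3468, 17)) (.leaf (756, 18))))))
(.node 5 (.node 2 (.node 1 (.leaf (757, 18)) (.leaf (772, 18))) (.node 1 (.leaf (774, 18)) (.node 1 (.leaf (757, 19)) (.leaf (772, 19)))))
(.node 3 (.node 1 (.leaf (774, 19)) (.node 1 (.leaf (772, 20)) (.leaf (774, 20)))) (.node 1 (.leaf (3468, 20)) (.node 1 (.leaf (757, 21)) (.leaf (774, 21)))))))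
(.node 10 (.node 5 (.node 2 (.node 1 (.leaf (756, 22)) (.leaf (757, 22))) (.node 1 (.leaf (757, 23)) (.node 1 (.leaf (3468, 23)) (.leaf (756, 24)))))
(.node 2 (.node 1 (.leaf (757, 24)) (.leaf (772, 24))) (.node 1 (.leaf (774, 24)) (.node 1 (.leaf (756, 25)) (.leaf (772, 25))))))
(.node 5 (.node 2 (.node 1 (.leaf (3468, 26)) (.leaf (756, 27))) (.node 1 (.leaf (757, 27)) (.node 1 (.leaf (772, 27)) (.leaf (774, 27)))))
(.node 3 (.node 1 (.leaf (757, 28)) (.node 1 (.leaf (772, 28)) (.leaf (774, 28)))) (.node 1 (.leaf (772, 29)) (.node 1 (.leaf (3468, 29)) (.leaf (757, 30)))))))))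
(.node 42 (.node 21 (.node 10 (.node 5 (.node 2 (.node 1 (.leaf (774, 30)) (.leaf (756, 31))) (.node 1 (.leaf (757, 32)) (.node 1 (.leaf (3468, 32)) (.leaf (756, 33)))))
(.node 2 (.node 1 (.leaf (757, 33)) (.leaf (772, 33))) (.node 1 (.leaf (774, 33)) (.node 1 (.leaf (757, 34)) (.leaf (3468, 34))))))
(.node 5 (.node 2 (.node 1 (.leaf (757, 36)) (.leaf (774, 36))) (.node 1 (.leaf (757, 37)) (.node 1 (.leaf (774, 37)) (.leaf (772, 38)))))
(.node 3 (.node 1 (.leaf (774, 38)) (.node 1 (.leaf (3468, 38)) (.leaf (757, 39)))) (.node 1 (.leaf (774, 39)) (.node 1 (.leaf (756, 40)) (.leaf (757, 40)))))))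
(.node 10 (.node 5 (.node 2 (.node 1 (.leaf (756, 41)) (.leaf (772, 41))) (.node 1 (.leaf (3468, 42)) (.node 1 (.leaf (756, 43)) (.leaf (757, 43)))))
(.node 2 (.node 1 (.leaf (772, 43)) (.leaf (774, 43))) (.node 1 (.leaf (757, 44)) (.node 1 (.leaf (772, 44)) (.leaf (774, 44))))))
(.node 5 (.node 2 (.node 1 (.leaf (772, 45)) (.leaf (3468, 45))) (.node 1 (.leaf (757, 46)) (.node 1 (.leaf (774, 46)) (.leaf (756, 47)))))
(.node 3 (.node 1 (.leaf (3468, 48)) (.node 1 (.leaf (756, 49)) (.leaf (757, 49)))) (.node 1 (.leaf (772, 49)) (.node 1 (.leaf (774, 49)) (.leaf (757, 51))))))))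
(.node 21 (.node 10 (.node 5 (.node 2 (.node 1 (.leaf (774, 51)) (.leaf (757, 53))) (.node 1 (.leaf (774, 53)) (.node 1 (.leaf (774, 55)) (.leaf (3468, 55)))))
(.node 2 (.node 1 (.leaf (757, 57)) (.leaf (774, 58))) (.node 1 (.leaf (3468, 58)) (.node 1 (.leaf (756, 59)) (.leaf (756, 60))))))
(.node 5 (.node 2 (.node 1 (.leaf (772, 60)) (.leaf (3468, 61))) (.node 1 (.leaf (757, 62)) (.node 1 (.leaf (3468, 62)) (.leaf (757, 63)))))
(.node 3 (.node 1 (.leaf (757, 66)) (.node 1 (.leaf (774, 66)) (.leaf (774, 67)))) (.node 1 (.leaf (772, 68)) (.node 1 (.leaf (757, 69)) (.leaf (774, 69)))))))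
(.node 10 (.node 5 (.node 2 (.node 1 (.leaf (756, 70)) (.leaf (772, 71))) (.node 1 (.leaf (757, 74)) (.node 1 (.leaf (757, 76)) (.leaf (774, 76)))))
(.node 2 (.node 1 (.leaf (3468, 81)) (.leaf (772, 82))) (.node 1 (.leaf (3468, 83)) (.node 1 (.leaf (3468, 84)) (.leaf (757, 87))))))
(.node 5 (.node 2 (.node 1 (.leaf (757, 88)) (.leaf (774, 88))) (.node 1 (.leaf (757, 90)) (.node 1 (.leaf (756, 91)) (.leaf (757, 93)))))
(.node 3 (.node 1 (.leaf (774, 96)) (.node 1 (.leaf (756, 99)) (.leaf (3468, 101)))) (.node 1 (.leaf (757, 102)) (.node 1 (.leaf (757, 103)) (.leaf (757, 108))))))))))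

/-- The node. -/
def caseBFullN114Node : NodeD := ⟨114, 168, caseBFullN114Els, caseBFullN114Ix, caseBFullN114How, fun b => bif b then (.node 7 (.node 3 (.node 1 (.leaf 753) (.node 1 (.leaf 773) (.leaf 3748)))
(.node 2 (.node 1 (.leaf 3754) (.leaf 3753)) (.node 1 (.leaf 3751) (.leaf 3752))))
(.node 3 (.node 1 (.leaf 3749) (.node 1 (.leaf 3755) (.leaf 3750)))
(.node 2 (.node 1 (.leaf 777) (.leaf 778)) (.node 1 (.leaf 776) (.leaf 775))))) else (.node 7 (.node 3 (.node 1 (.leaf 3745) (.node 1 (.leaf 3742) (.leaf 3739)))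
(.node 2 (.node 1 (.leaf 3737) (.leaf 3740)) (.node 1 (.leaf 3738) (.leaf 3734))))
(.node 3 (.node 1 (.leaf 3744) (.node 1 (.leaf 3736) (.leaf 3735)))
(.node 2 (.node 1 (.leaf 3741) (.leaf 3743)) (.node 1 (.leaf 3746) (.leaf 3747)))))⟩

/-- The inverse action. -/
def caseBFullInv0LL : Tab ℕ :=
(.node 192 (.node 96 (.node 48 (.node 24 (.node 12 (.node 6 (.node 3 (.node 1 (.leaf 0) (.node 1 (.leaf 631) (.leaf 434))) (.node 1 (.leaf 270) (.node 1 (.leaf 134) (.leaf 913))))
(.node 3 (.node 1 (.leaf 178) (.node 1 (.leaf 1444) (.leaf 12))) (.node 1 (.leaf 579) (.node 1 (.leaf 692) (.leaf 227)))))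
(.node 6 (.node 3 (.node 1 (.leaf 8) (.node 1 (.leaf 993) (.leaf 1197))) (.node 1 (.leaf 271) (.node 1 (.leaf 1022) (.leaf 206))))
(.node 3 (.node 1 (.leaf 1165) (.node 1 (.leaf 98) (.leaf 626))) (.node 1 (.leaf 904) (.node 1 (.leaf 1242) (.leaf 588))))))
(.node 12 (.node 6 (.node 3 (.node 1 (.leaf 1161) (.node 1 (.leaf 685) (.leaf 1459))) (.node 1 (.leaf 1388) (.node 1 (.leaf 446) (.leaf 1527))))
(.node 3 (.node 1 (.leaf 466) (.node 1 (.leaf 797) (.leaf 1190))) (.node 1 (.leaf 610) (.node 1 (.leaf 931) (.leaf 674)))))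
(.node 6 (.node 3 (.node 1 (.leaf 729) (.node 1 (.leaf 279) (.leaf 34))) (.node 1 (.leaf 828) (.node 1 (.leaf 513) (.leaf 688))))
(.node 3 (.node 1 (.leaf 1318) (.node 1 (.leaf 786) (.leaf 18))) (.node 1 (.leaf 220) (.node 1 (.leaf 1512) (.leaf 968)))))))
(.node 24 (.node 12 (.node 6 (.node 3 (.node 1 (.leaf 820) (.node 1 (.leaf 245) (.leaf 1122))) (.node 1 (.leaf 1314) (.node 1 (.leaf 932) (.leaf 522))))
(.node 3 (.node 1 (.leaf 619) (.node 1 (.leaf 1018) (.leaf 11))) (.node 1 (.leaf 1128) (.node 1 (.leaf 1040) (.leaf 310)))))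
(.node 6 (.node 3 (.node 1 (.leaf 777) (.node 1 (.leaf 1149) (.leaf 350))) (.node 1 (.leaf 988) (.node 1 (.leaf 582) (.leaf 1114))))
(.node 3 (.node 1 (.leaf 871) (.node 1 (.leaf 1097) (.leaf 501))) (.node 1 (.leaf 59) (.node 1 (.leaf 380) (.leaf 71))))))
(.node 12 (.node 6 (.node 3 (.node 1 (.leaf 1350) (.node 1 (.leaf 401) (.leaf 1408))) (.node 1 (.leaf 518) (.node 1 (.leaf 512) (.leaf 552))))
(.node 3 (.node 1 (.leaf 806) (.node 1 (.leaf 708) (.leaf 1188))) (.node 1 (.leaf 81) (.node 1 (.leaf 148) (.leaf 921)))))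
(.node 6 (.node 3 (.node 1 (.leaf 46) (.node 1 (.leaf 603) (.leaf 888))) (.node 1 (.leaf 1428) (.node 1 (.leaf 1389) (.leaf 954))))
(.node 3 (.node 1 (.leaf 48) (.node 1 (.leaf 1284) (.leaf 573))) (.node 1 (.leaf 226) (.node 1 (.leaf 1317) (.leaf 346))))))))
(.node 48 (.node 24 (.node 12 (.node 6 (.node 3 (.node 1 (.leaf 1522) (.node 1 (.leaf 716) (.leaf 182))) (.node 1 (.leaf 421) (.node 1 (.leaf 973) (.leaf 1099))))
(.node 3 (.node 1 (.leaf 1153) (.node 1 (.leaf 433) (.leaf 278))) (.node 1 (.leaf 264) (.node 1 (.leaf 411) (.leaf 103)))))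
(.node 6 (.node 3 (.node 1 (.leaf 679) (.node 1 (.leaf 1070) (.leaf 145))) (.node 1 (.leaf 1290) (.node 1 (.leaf 623) (.leaf 1210))))
(.node 3 (.node 1 (.leaf 35) (.node 1 (.leaf 1221) (.leaf 1307))) (.node 1 (.leaf 293) (.node 1 (.leaf 1332) (.leaf 348))))))
(.node 12 (.node 6 (.node 3 (.node 1 (.leaf 601) (.node 1 (.leaf 792) (.leaf 1404))) (.node 1 (.leaf 1414) (.node 1 (.leaf 1009) (.leaf 1199))))
(.node 3 (.node 1 (.leaf 114) (.node 1 (.leaf 1246) (.leaf 880))) (.node 1 (.leaf 575) (.node 1 (.leaf 107) (.leaf 1064)))))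
(.node 6 (.node 3 (.node 1 (.leaf 1083) (.node 1 (.leaf 1207) (.leaf 569))) (.node 1 (.leaf 763) (.node 1 (.leaf 1124) (.leaf 412))))
(.node 3 (.node 1 (.leaf 926) (.node 1 (.leaf 1053) (.leaf 698))) (.node 1 (.leaf 497) (.node 1 (.leaf 1286) (.leaf 914)))))))
(.node 24 (.node 12 (.node 6 (.node 3 (.node 1 (.leaf 1386) (.node 1 (.leaf 1019) (.leaf 1005))) (.node 1 (.leaf 254) (.node 1 (.leaf 1494) (.leaf 287))))
(.node 3 (.node 1 (.leaf 804) (.node 1 (.leaf 327) (.leaf 1452))) (.node 1 (.leaf 1466) (.node 1 (.leaf 780) (.leaf 204)))))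
(.node 6 (.node 3 (.node 1 (.leaf 167) (.node 1 (.leaf 724) (.leaf 1082))) (.node 1 (.leaf 33) (.node 1 (.leaf 1016) (.leaf 596))))
(.node 3 (.node 1 (.leaf 671) (.node 1 (.leaf 906) (.leaf 1322))) (.node 1 (.leaf 9) (.node 1 (.leaf 749) (.leaf 858))))))
(.node 12 (.node 6 (.node 3 (.node 1 (.leaf 945) (.node 1 (.leaf 897) (.leaf 1287))) (.node 1 (.leaf 1211) (.node 1 (.leaf 416) (.leaf 545))))
(.node 3 (.node 1 (.leaf 311) (.node 1 (.leaf 408) (.leaf 362))) (.node 1 (.leaf 656) (.node 1 (.leaf 385) (.leaf 442)))))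
(.node 6 (.node 3 (.node 1 (.leaf 1129) (.node 1 (.leaf 329) (.leaf 1088))) (.node 1 (.leaf 159) (.node 1 (.leaf 450) (.leaf 1337))))
(.node 3 (.node 1 (.leaf 1468) (.node 1 (.leaf 615) (.leaf 1250))) (.node 1 (.leaf 1120) (.node 1 (.leaf 113) (.leaf 1372)))))))))
(.node 96 (.node 48 (.node 24 (.node 12 (.node 6 (.node 3 (.node 1 (.leaf 84) (.node 1 (.leaf 467) (.leaf 128))) (.node 1 (.leaf 639) (.node 1 (.leaf 816) (.leaf 798))))
(.node 3 (.node 1 (.leaf 3) (.node 1 (.leaf 695) (.leaf 1361))) (.node 1 (.leaf 813) (.node 1 (.leaf 54) (.leaf 1499)))))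
(.node 6 (.node 3 (.node 1 (.leaf 212) (.node 1 (.leaf 1420) (.leaf 402))) (.node 1 (.leaf 694) (.node 1 (.leaf 519) (.leaf 1478))))
(.node 3 (.node 1 (.leaf 93) (.node 1 (.leaf 1104) (.leaf 982))) (.node 1 (.leaf 146) (.node 1 (.leaf 505) (.leaf 1380))))))
(.node 12 (.node 6 (.node 3 (.node 1 (.leaf 1036) (.node 1 (.leaf 1191) (.leaf 928))) (.node 1 (.leaf 1071) (.node 1 (.leaf 774) (.leaf 818))))
(.node 3 (.node 1 (.leaf 665) (.node 1 (.leaf 1299) (.leaf 551))) (.node 1 (.leaf 296) (.node 1 (.leaf 528) (.leaf 1498)))))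
(.node 6 (.node 3 (.node 1 (.leaf 554) (.node 1 (.leaf 877) (.leaf 430))) (.node 1 (.leaf 1203) (.node 1 (.leaf 620) (.leaf 925))))
(.node 3 (.node 1 (.leaf 667) (.node 1 (.leaf 257) (.leaf 1308))) (.node 1 (.leaf 1146) (.node 1 (.leaf 169) (.leaf 1441)))))))
(.node 24 (.node 12 (.node 6 (.node 3 (.node 1 (.leaf 137) (.node 1 (.leaf 842) (.leaf 1186))) (.node 1 (.leaf 1355) (.node 1 (.leaf 1147) (.leaf 49))))
(.node 3 (.node 1 (.leaf 809) (.node 1 (.leaf 765) (.leaf 392))) (.node 1 (.leaf 1119) (.node 1 (.leaf 171) (.leaf 1010)))))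
(.node 6 (.node 3 (.node 1 (.leaf 824) (.node 1 (.leaf 769) (.leaf 1025))) (.node 1 (.leaf 426) (.node 1 (.leaf 283) (.leaf 1315))))
(.node 3 (.node 1 (.leaf 717) (.node 1 (.leaf 742) (.leaf 1259))) (.node 1 (.leaf 461) (.node 1 (.leaf 1245) (.leaf 1062))))))
(.node 12 (.node 6 (.node 3 (.node 1 (.leaf 723) (.node 1 (.leaf 451) (.leaf 1216))) (.node 1 (.leaf 1302) (.node 1 (.leaf 485) (.leaf 541))))
(.node 3 (.node 1 (.leaf 1505) (.node 1 (.leaf 889) (.leaf 992))) (.node 1 (.leaf 905) (.node 1 (.leaf 1412) (.leaf 366)))))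
(.node 6 (.node 3 (.node 1 (.leaf 644) (.node 1 (.leaf 1467) (.leaf 830))) (.node 1 (.leaf 543) (.node 1 (.leaf 1443) (.leaf 627))))
(.node 3 (.node 1 (.leaf 964) (.node 1 (.leaf 20) (.leaf 478))) (.node 1 (.leaf 1222) (.node 1 (.leaf 645) (.leaf 943))))))))
(.node 48 (.node 24 (.node 12 (.node 6 (.node 3 (.node 1 (.leaf 511) (.node 1 (.leaf 1525) (.leaf 156))) (.node 1 (.leaf 491) (.node 1 (.leaf 1377) (.leaf 1392))))
(.node 3 (.node 1 (.leaf 1417) (.node 1 (.leaf 1373) (.leaf 907))) (.node 1 (.leaf 386) (.node 1 (.leaf 51) (.leaf 315)))))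
(.node 6 (.node 3 (.node 1 (.leaf 827) (.node 1 (.leaf 810) (.leaf 1049))) (.node 1 (.leaf 328) (.node 1 (.leaf 249) (.leaf 632))))
(.node 3 (.node 1 (.leaf 490) (.node 1 (.leaf 606) (.leaf 72))) (.node 1 (.leaf 775) (.node 1 (.leaf 1504) (.leaf 1375))))))
(.node 12 (.node 6 (.node 3 (.node 1 (.leaf 1008) (.node 1 (.leaf 94) (.leaf 1160))) (.node 1 (.leaf 299) (.node 1 (.leaf 119) (.leaf 611))))
(.node 3 (.node 1 (.leaf 747) (.node 1 (.leaf 240) (.leaf 896))) (.node 1 (.leaf 1243) (.node 1 (.leaf 1042) (.leaf 649)))))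
(.node 6 (.node 3 (.node 1 (.leaf 139) (.node 1 (.leaf 1201) (.leaf 67))) (.node 1 (.leaf 1121) (.node 1 (.leaf 1046) (.leaf 1091))))
(.node 3 (.node 1 (.leaf 1312) (.node 1 (.leaf 80) (.leaf 231))) (.node 1 (.leaf 1435) (.node 1 (.leaf 162) (.leaf 597)))))))
(.node 24 (.node 12 (.node 6 (.node 3 (.node 1 (.leaf 153) (.node 1 (.leaf 313) (.leaf 1391))) (.node 1 (.leaf 994) (.node 1 (.leaf 523) (.leaf 251))))
(.node 3 (.node 1 (.leaf 710) (.node 1 (.leaf 1035) (.leaf 796))) (.node 1 (.leaf 855) (.node 1 (.leaf 826) (.leaf 431)))))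
(.node 6 (.node 3 (.node 1 (.leaf 472) (.node 1 (.leaf 1458) (.leaf 394))) (.node 1 (.leaf 862) (.node 1 (.leaf 1475) (.leaf 845))))
(.node 3 (.node 1 (.leaf 1105) (.node 1 (.leaf 150) (.leaf 884))) (.node 1 (.leaf 657) (.node 1 (.leaf 502) (.leaf 1223))))))
(.node 12 (.node 6 (.node 3 (.node 1 (.leaf 1198) (.node 1 (.leaf 60) (.leaf 1039))) (.node 1 (.leaf 1081) (.node 1 (.leaf 43) (.leaf 1167))))
(.node 3 (.node 1 (.leaf 531) (.node 1 (.leaf 1231) (.leaf 1477))) (.node 1 (.leaf 751) (.node 1 (.leaf 184) (.leaf 1382)))))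
(.node 6 (.node 3 (.node 1 (.leaf 494) (.node 1 (.leaf 104) (.leaf 721))) (.node 1 (.leaf 1510) (.node 1 (.leaf 1431) (.leaf 223))))
(.node 3 (.node 1 (.leaf 846) (.node 1 (.leaf 760) (.leaf 1033))) (.node 1 (.leaf 778) (.node 1 (.leaf 357) (.leaf 61))))))))))

/-- The inverse action. -/
def caseBFullInv0LR : Tab ℕ :=
(.node 192 (.node 96 (.node 48 (.node 24 (.node 12 (.node 6 (.node 3 (.node 1 (.leaf 1423) (.node 1 (.leaf 456) (.leaf 740))) (.node 1 (.leaf 1059) (.node 1 (.leaf 375) (.leaf 326))))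
(.node 3 (.node 1 (.leaf 1266) (.node 1 (.leaf 151) (.leaf 915))) (.node 1 (.leaf 970) (.node 1 (.leaf 1235) (.leaf 1152)))))
(.node 6 (.node 3 (.node 1 (.leaf 542) (.node 1 (.leaf 129) (.leaf 1416))) (.node 1 (.leaf 681) (.node 1 (.leaf 1138) (.leaf 998))))
(.node 3 (.node 1 (.leaf 711) (.node 1 (.leaf 1090) (.leaf 1234))) (.node 1 (.leaf 101) (.node 1 (.leaf 883) (.leaf 1356))))))
(.node 12 (.node 6 (.node 3 (.node 1 (.leaf 10) (.node 1 (.leaf 1189) (.leaf 377))) (.node 1 (.leaf 865) (.node 1 (.leaf 319) (.leaf 1074))))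
(.node 3 (.node 1 (.leaf 675) (.node 1 (.leaf 930) (.leaf 1402))) (.node 1 (.leaf 533) (.node 1 (.leaf 660) (.leaf 509)))))
(.node 6 (.node 3 (.node 1 (.leaf 1224) (.node 1 (.leaf 779) (.leaf 654))) (.node 1 (.leaf 1472) (.node 1 (.leaf 147) (.leaf 1378))))
(.node 3 (.node 1 (.leaf 1066) (.node 1 (.leaf 960) (.leaf 1168))) (.node 1 (.leaf 562) (.node 1 (.leaf 230) (.leaf 1421)))))))
(.node 24 (.node 12 (.node 6 (.node 3 (.node 1 (.leaf 314) (.node 1 (.leaf 130) (.leaf 23))) (.node 1 (.leaf 1442) (.node 1 (.leaf 399) (.leaf 908))))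
(.node 3 (.node 1 (.leaf 534) (.node 1 (.leaf 1001) (.leaf 1045))) (.node 1 (.leaf 388) (.node 1 (.leaf 22) (.leaf 652)))))
(.node 6 (.node 3 (.node 1 (.leaf 1139) (.node 1 (.leaf 1291) (.leaf 1141))) (.node 1 (.leaf 521) (.node 1 (.leaf 1228) (.leaf 233))))
(.node 3 (.node 1 (.leaf 1529) (.node 1 (.leaf 514) (.leaf 618))) (.node 1 (.leaf 76) (.node 1 (.leaf 924) (.leaf 701))))))
(.node 12 (.node 6 (.node 3 (.node 1 (.leaf 6) (.node 1 (.leaf 920) (.leaf 1159))) (.node 1 (.leaf 276) (.node 1 (.leaf 707) (.leaf 854))))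
(.node 3 (.node 1 (.leaf 1100) (.node 1 (.leaf 738) (.leaf 1115))) (.node 1 (.leaf 991) (.node 1 (.leaf 524) (.leaf 97)))))
(.node 6 (.node 3 (.node 1 (.leaf 1471) (.node 1 (.leaf 852) (.leaf 1174))) (.node 1 (.leaf 1065) (.node 1 (.leaf 316) (.leaf 918))))
(.node 3 (.node 1 (.leaf 604) (.node 1 (.leaf 32) (.leaf 801))) (.node 1 (.leaf 282) (.node 1 (.leaf 1027) (.leaf 253))))))))
(.node 48 (.node 24 (.node 12 (.node 6 (.node 3 (.node 1 (.leaf 244) (.node 1 (.leaf 481) (.leaf 7))) (.node 1 (.leaf 715) (.node 1 (.leaf 539) (.leaf 1249))))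
(.node 3 (.node 1 (.leaf 683) (.node 1 (.leaf 607) (.leaf 861))) (.node 1 (.leaf 1515) (.node 1 (.leaf 1486) (.leaf 221)))))
(.node 6 (.node 3 (.node 1 (.leaf 1142) (.node 1 (.leaf 795) (.leaf 1007))) (.node 1 (.leaf 912) (.node 1 (.leaf 1041) (.leaf 191))))
(.node 3 (.node 1 (.leaf 882) (.node 1 (.leaf 1248) (.leaf 745))) (.node 1 (.leaf 438) (.node 1 (.leaf 463) (.leaf 515))))))
(.node 12 (.node 6 (.node 3 (.node 1 (.leaf 168) (.node 1 (.leaf 609) (.leaf 1112))) (.node 1 (.leaf 382) (.node 1 (.leaf 50) (.leaf 1180))))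
(.node 3 (.node 1 (.leaf 300) (.node 1 (.leaf 200) (.leaf 1427))) (.node 1 (.leaf 121) (.node 1 (.leaf 1047) (.leaf 771)))))
(.node 6 (.node 3 (.node 1 (.leaf 1241) (.node 1 (.leaf 1509) (.leaf 1085))) (.node 1 (.leaf 1171) (.node 1 (.leaf 1244) (.leaf 1251))))
(.node 3 (.node 1 (.leaf 730) (.node 1 (.leaf 374) (.leaf 893))) (.node 1 (.leaf 553) (.node 1 (.leaf 267) (.leaf 1520)))))))
(.node 24 (.node 12 (.node 6 (.node 3 (.node 1 (.leaf 210) (.node 1 (.leaf 1507) (.leaf 1026))) (.node 1 (.leaf 832) (.node 1 (.leaf 744) (.leaf 133))))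
(.node 3 (.node 1 (.leaf 68) (.node 1 (.leaf 477) (.leaf 1457))) (.node 1 (.leaf 320) (.node 1 (.leaf 1262) (.leaf 13)))))
(.node 6 (.node 3 (.node 1 (.leaf 397) (.node 1 (.leaf 558) (.leaf 1117))) (.node 1 (.leaf 1029) (.node 1 (.leaf 1110) (.leaf 979))))
(.node 3 (.node 1 (.leaf 526) (.node 1 (.leaf 1526) (.leaf 1328))) (.node 1 (.leaf 1331) (.node 1 (.leaf 817) (.leaf 957))))))
(.node 12 (.node 6 (.node 3 (.node 1 (.leaf 1261) (.node 1 (.leaf 42) (.leaf 1004))) (.node 1 (.leaf 1111) (.node 1 (.leaf 396) (.leaf 549))))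
(.node 3 (.node 1 (.leaf 1340) (.node 1 (.leaf 1293) (.leaf 788))) (.node 1 (.leaf 1063) (.node 1 (.leaf 166) (.leaf 493)))))
(.node 6 (.node 3 (.node 1 (.leaf 345) (.node 1 (.leaf 1095) (.leaf 1260))) (.node 1 (.leaf 172) (.node 1 (.leaf 398) (.leaf 689))))
(.node 3 (.node 1 (.leaf 239) (.node 1 (.leaf 664) (.leaf 1335))) (.node 1 (.leaf 841) (.node 1 (.leaf 635) (.leaf 540)))))))))
(.node 96 (.node 48 (.node 24 (.node 12 (.node 6 (.node 3 (.node 1 (.leaf 1240) (.node 1 (.leaf 213) (.leaf 143))) (.node 1 (.leaf 1521) (.node 1 (.leaf 1170) (.leaf 1352))))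
(.node 3 (.node 1 (.leaf 517) (.node 1 (.leaf 1438) (.leaf 581))) (.node 1 (.leaf 537) (.node 1 (.leaf 295) (.leaf 894)))))
(.node 6 (.node 3 (.node 1 (.leaf 2) (.node 1 (.leaf 587) (.leaf 1479))) (.node 1 (.leaf 334) (.node 1 (.leaf 500) (.leaf 82))))
(.node 3 (.node 1 (.leaf 1205) (.node 1 (.leaf 281) (.leaf 808))) (.node 1 (.leaf 1294) (.node 1 (.leaf 1455) (.leaf 923))))))
(.node 12 (.node 6 (.node 3 (.node 1 (.leaf 1252) (.node 1 (.leaf 285) (.leaf 557))) (.node 1 (.leaf 1396) (.node 1 (.leaf 965) (.leaf 1384))))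
(.node 3 (.node 1 (.leaf 594) (.node 1 (.leaf 1324) (.leaf 52))) (.node 1 (.leaf 1480) (.node 1 (.leaf 183) (.leaf 301)))))
(.node 6 (.node 3 (.node 1 (.leaf 1354) (.node 1 (.leaf 471) (.leaf 170))) (.node 1 (.leaf 142) (.node 1 (.leaf 1395) (.leaf 1276))))
(.node 3 (.node 1 (.leaf 211) (.node 1 (.leaf 860) (.leaf 686))) (.node 1 (.leaf 849) (.node 1 (.leaf 1366) (.leaf 289)))))))
(.node 24 (.node 12 (.node 6 (.node 3 (.node 1 (.leaf 1084) (.node 1 (.leaf 181) (.leaf 256))) (.node 1 (.leaf 1028) (.node 1 (.leaf 1265) (.leaf 5))))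
(.node 3 (.node 1 (.leaf 718) (.node 1 (.leaf 1418) (.leaf 1500))) (.node 1 (.leaf 678) (.node 1 (.leaf 962) (.leaf 951)))))
(.node 6 (.node 3 (.node 1 (.leaf 1133) (.node 1 (.leaf 510) (.leaf 1069))) (.node 1 (.leaf 127) (.node 1 (.leaf 1488) (.leaf 838))))
(.node 3 (.node 1 (.leaf 261) (.node 1 (.leaf 318) (.leaf 1196))) (.node 1 (.leaf 1316) (.node 1 (.leaf 108) (.leaf 1182))))))
(.node 12 (.node 6 (.node 3 (.node 1 (.leaf 110) (.node 1 (.leaf 437) (.leaf 647))) (.node 1 (.leaf 614) (.node 1 (.leaf 1381) (.leaf 475))))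
(.node 3 (.node 1 (.leaf 57) (.node 1 (.leaf 1390) (.leaf 811))) (.node 1 (.leaf 507) (.node 1 (.leaf 985) (.leaf 1239)))))
(.node 6 (.node 3 (.node 1 (.leaf 633) (.node 1 (.leaf 574) (.leaf 333))) (.node 1 (.leaf 819) (.node 1 (.leaf 420) (.leaf 699))))
(.node 3 (.node 1 (.leaf 856) (.node 1 (.leaf 262) (.leaf 435))) (.node 1 (.leaf 650) (.node 1 (.leaf 1256) (.leaf 591))))))))
(.node 48 (.node 24 (.node 12 (.node 6 (.node 3 (.node 1 (.leaf 584) (.node 1 (.leaf 995) (.leaf 126))) (.node 1 (.leaf 870) (.node 1 (.leaf 190) (.leaf 1305))))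
(.node 3 (.node 1 (.leaf 418) (.node 1 (.leaf 712) (.leaf 1462))) (.node 1 (.leaf 1385) (.node 1 (.leaf 984) (.leaf 486)))))
(.node 6 (.node 3 (.node 1 (.leaf 1406) (.node 1 (.leaf 100) (.leaf 1176))) (.node 1 (.leaf 403) (.node 1 (.leaf 499) (.leaf 4))))
(.node 3 (.node 1 (.leaf 684) (.node 1 (.leaf 443) (.leaf 175))) (.node 1 (.leaf 885) (.node 1 (.leaf 353) (.leaf 188))))))
(.node 12 (.node 6 (.node 3 (.node 1 (.leaf 177) (.node 1 (.leaf 990) (.leaf 363))) (.node 1 (.leaf 1072) (.node 1 (.leaf 361) (.leaf 229))))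
(.node 3 (.node 1 (.leaf 901) (.node 1 (.leaf 45) (.leaf 1050))) (.node 1 (.leaf 1013) (.node 1 (.leaf 1237) (.leaf 922)))))
(.node 6 (.node 3 (.node 1 (.leaf 58) (.node 1 (.leaf 194) (.leaf 91))) (.node 1 (.leaf 17) (.node 1 (.leaf 646) (.leaf 668))))
(.node 3 (.node 1 (.leaf 576) (.node 1 (.leaf 1445) (.leaf 193))) (.node 1 (.leaf 1108) (.node 1 (.leaf 65) (.leaf 1015)))))))
(.node 24 (.node 12 (.node 6 (.node 3 (.node 1 (.leaf 971) (.node 1 (.leaf 340) (.leaf 1341))) (.node 1 (.leaf 1440) (.node 1 (.leaf 144) (.leaf 460))))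
(.node 3 (.node 1 (.leaf 1524) (.node 1 (.leaf 863) (.leaf 423))) (.node 1 (.leaf 944) (.node 1 (.leaf 1485) (.leaf 1430)))))
(.node 6 (.node 3 (.node 1 (.leaf 92) (.node 1 (.leaf 758) (.leaf 1463))) (.node 1 (.leaf 255) (.node 1 (.leaf 781) (.leaf 1137))))
(.node 3 (.node 1 (.leaf 358) (.node 1 (.leaf 851) (.leaf 1303))) (.node 1 (.leaf 961) (.node 1 (.leaf 1489) (.leaf 1003))))))
(.node 12 (.node 6 (.node 3 (.node 1 (.leaf 351) (.node 1 (.leaf 1464) (.leaf 1323))) (.node 1 (.leaf 1473) (.node 1 (.leaf 1080) (.leaf 429))))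
(.node 3 (.node 1 (.leaf 96) (.node 1 (.leaf 755) (.leaf 1087))) (.node 1 (.leaf 1365) (.node 1 (.leaf 180) (.leaf 898)))))
(.node 6 (.node 3 (.node 1 (.leaf 1255) (.node 1 (.leaf 1320) (.leaf 39))) (.node 1 (.leaf 972) (.node 1 (.leaf 454) (.leaf 727))))
(.node 3 (.node 1 (.leaf 544) (.node 1 (.leaf 381) (.leaf 734))) (.node 1 (.leaf 634) (.node 1 (.leaf 405) (.leaf 88))))))))))

/-- The inverse action. -/
def caseBFullInv0L : Tab ℕ := .node 384 caseBFullInv0LL caseBFullInv0LR

/-- The inverse action. -/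
def caseBFullInv0RL : Tab ℕ :=
(.node 192 (.node 96 (.node 48 (.node 24 (.node 12 (.node 6 (.node 3 (.node 1 (.leaf 1304) (.node 1 (.leaf 1148) (.leaf 1454))) (.node 1 (.leaf 1002) (.node 1 (.leaf 306) (.leaf 589))))
(.node 3 (.node 1 (.leaf 703) (.node 1 (.leaf 1219) (.leaf 1379))) (.node 1 (.leaf 700) (.node 1 (.leaf 135) (.leaf 1533)))))
(.node 6 (.node 3 (.node 1 (.leaf 999) (.node 1 (.leaf 31) (.leaf 1359))) (.node 1 (.leaf 1048) (.node 1 (.leaf 821) (.leaf 465))))
(.node 3 (.node 1 (.leaf 802) (.node 1 (.leaf 916) (.leaf 947))) (.node 1 (.leaf 853) (.node 1 (.leaf 243) (.leaf 568))))))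
(.node 12 (.node 6 (.node 3 (.node 1 (.leaf 40) (.node 1 (.leaf 608) (.leaf 767))) (.node 1 (.leaf 805) (.node 1 (.leaf 1407) (.leaf 736))))
(.node 3 (.node 1 (.leaf 164) (.node 1 (.leaf 1339) (.leaf 286))) (.node 1 (.leaf 799) (.node 1 (.leaf 364) (.leaf 238)))))
(.node 6 (.node 3 (.node 1 (.leaf 1400) (.node 1 (.leaf 563) (.leaf 338))) (.node 1 (.leaf 176) (.node 1 (.leaf 1297) (.leaf 1363))))
(.node 3 (.node 1 (.leaf 317) (.node 1 (.leaf 696) (.leaf 969))) (.node 1 (.leaf 448) (.node 1 (.leaf 1058) (.leaf 1270)))))))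
(.node 24 (.node 12 (.node 6 (.node 3 (.node 1 (.leaf 1495) (.node 1 (.leaf 782) (.leaf 291))) (.node 1 (.leaf 1103) (.node 1 (.leaf 1257) (.leaf 1434))))
(.node 3 (.node 1 (.leaf 468) (.node 1 (.leaf 1535) (.leaf 1415))) (.node 1 (.leaf 949) (.node 1 (.leaf 1506) (.leaf 637)))))
(.node 6 (.node 3 (.node 1 (.leaf 733) (.node 1 (.leaf 529) (.leaf 373))) (.node 1 (.leaf 489) (.node 1 (.leaf 275) (.leaf 909))))
(.node 3 (.node 1 (.leaf 332) (.node 1 (.leaf 890) (.leaf 1011))) (.node 1 (.leaf 445) (.node 1 (.leaf 464) (.leaf 1229))))))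
(.node 12 (.node 6 (.node 3 (.node 1 (.leaf 1519) (.node 1 (.leaf 732) (.leaf 1067))) (.node 1 (.leaf 347) (.node 1 (.leaf 977) (.leaf 207))))
(.node 3 (.node 1 (.leaf 378) (.node 1 (.leaf 1502) (.leaf 783))) (.node 1 (.leaf 1346) (.node 1 (.leaf 548) (.leaf 1336)))))
(.node 6 (.node 3 (.node 1 (.leaf 116) (.node 1 (.leaf 789) (.leaf 642))) (.node 1 (.leaf 1487) (.node 1 (.leaf 1247) (.leaf 1281))))
(.node 3 (.node 1 (.leaf 290) (.node 1 (.leaf 622) (.leaf 202))) (.node 1 (.leaf 1409) (.node 1 (.leaf 532) (.leaf 1094))))))))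
(.node 48 (.node 24 (.node 12 (.node 6 (.node 3 (.node 1 (.leaf 154) (.node 1 (.leaf 953) (.leaf 753))) (.node 1 (.leaf 850) (.node 1 (.leaf 1230) (.leaf 16))))
(.node 3 (.node 1 (.leaf 1179) (.node 1 (.leaf 393) (.leaf 308))) (.node 1 (.leaf 447) (.node 1 (.leaf 406) (.leaf 1370)))))
(.node 6 (.node 3 (.node 1 (.leaf 1523) (.node 1 (.leaf 455) (.leaf 28))) (.node 1 (.leaf 1422) (.node 1 (.leaf 709) (.leaf 359))))
(.node 3 (.node 1 (.leaf 325) (.node 1 (.leaf 1118) (.leaf 1017))) (.node 1 (.leaf 272) (.node 1 (.leaf 663) (.leaf 322))))))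
(.node 12 (.node 6 (.node 3 (.node 1 (.leaf 215) (.node 1 (.leaf 1367) (.leaf 958))) (.node 1 (.leaf 1531) (.node 1 (.leaf 1401) (.leaf 30))))
(.node 3 (.node 1 (.leaf 773) (.node 1 (.leaf 1429) (.leaf 585))) (.node 1 (.leaf 803) (.node 1 (.leaf 369) (.leaf 235)))))
(.node 6 (.node 3 (.node 1 (.leaf 504) (.node 1 (.leaf 407) (.leaf 1253))) (.node 1 (.leaf 1193) (.node 1 (.leaf 655) (.leaf 847))))
(.node 3 (.node 1 (.leaf 617) (.node 1 (.leaf 1215) (.leaf 323))) (.node 1 (.leaf 833) (.node 1 (.leaf 1143) (.leaf 1154)))))))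
(.node 24 (.node 12 (.node 6 (.node 3 (.node 1 (.leaf 946) (.node 1 (.leaf 1037) (.leaf 1474))) (.node 1 (.leaf 942) (.node 1 (.leaf 1279) (.leaf 1184))))
(.node 3 (.node 1 (.leaf 825) (.node 1 (.leaf 831) (.leaf 547))) (.node 1 (.leaf 14) (.node 1 (.leaf 725) (.leaf 1233)))))
(.node 6 (.node 3 (.node 1 (.leaf 379) (.node 1 (.leaf 1078) (.leaf 371))) (.node 1 (.leaf 1282) (.node 1 (.leaf 910) (.leaf 837))))
(.node 3 (.node 1 (.leaf 1383) (.node 1 (.leaf 1283) (.leaf 793))) (.node 1 (.leaf 599) (.node 1 (.leaf 304) (.leaf 508))))))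
(.node 12 (.node 6 (.node 3 (.node 1 (.leaf 1263) (.node 1 (.leaf 892) (.leaf 44))) (.node 1 (.leaf 1226) (.node 1 (.leaf 1344) (.leaf 1426))))
(.node 3 (.node 1 (.leaf 248) (.node 1 (.leaf 1024) (.leaf 1482))) (.node 1 (.leaf 900) (.node 1 (.leaf 1274) (.leaf 1012)))))
(.node 6 (.node 3 (.node 1 (.leaf 1130) (.node 1 (.leaf 473) (.leaf 250))) (.node 1 (.leaf 661) (.node 1 (.leaf 1125) (.leaf 106))))
(.node 3 (.node 1 (.leaf 387) (.node 1 (.leaf 1021) (.leaf 1484))) (.node 1 (.leaf 1204) (.node 1 (.leaf 1325) (.leaf 840)))))))))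
(.node 96 (.node 48 (.node 24 (.node 12 (.node 6 (.node 3 (.node 1 (.leaf 302) (.node 1 (.leaf 876) (.leaf 247))) (.node 1 (.leaf 785) (.node 1 (.leaf 535) (.leaf 1306))))
(.node 3 (.node 1 (.leaf 726) (.node 1 (.leaf 252) (.leaf 330))) (.node 1 (.leaf 527) (.node 1 (.leaf 66) (.leaf 538)))))
(.node 6 (.node 3 (.node 1 (.leaf 927) (.node 1 (.leaf 25) (.leaf 790))) (.node 1 (.leaf 1280) (.node 1 (.leaf 1) (.leaf 983))))
(.node 3 (.node 1 (.leaf 356) (.node 1 (.leaf 1374) (.leaf 1127))) (.node 1 (.leaf 425) (.node 1 (.leaf 155) (.leaf 1269))))))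
(.node 12 (.node 6 (.node 3 (.node 1 (.leaf 598) (.node 1 (.leaf 658) (.leaf 335))) (.node 1 (.leaf 1054) (.node 1 (.leaf 722) (.leaf 117))))
(.node 3 (.node 1 (.leaf 1364) (.node 1 (.leaf 963) (.leaf 693))) (.node 1 (.leaf 484) (.node 1 (.leaf 312) (.leaf 704)))))
(.node 6 (.node 3 (.node 1 (.leaf 996) (.node 1 (.leaf 719) (.leaf 1348))) (.node 1 (.leaf 864) (.node 1 (.leaf 881) (.leaf 343))))
(.node 3 (.node 1 (.leaf 503) (.node 1 (.leaf 1492) (.leaf 1425))) (.node 1 (.leaf 577) (.node 1 (.leaf 259) (.leaf 1023)))))))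
(.node 24 (.node 12 (.node 6 (.node 3 (.node 1 (.leaf 339) (.node 1 (.leaf 413) (.leaf 1157))) (.node 1 (.leaf 496) (.node 1 (.leaf 560) (.leaf 1349))))
(.node 3 (.node 1 (.leaf 246) (.node 1 (.leaf 1116) (.leaf 677))) (.node 1 (.leaf 978) (.node 1 (.leaf 1481) (.leaf 648)))))
(.node 6 (.node 3 (.node 1 (.leaf 1329) (.node 1 (.leaf 955) (.leaf 1093))) (.node 1 (.leaf 372) (.node 1 (.leaf 149) (.leaf 424))))
(.node 3 (.node 1 (.leaf 118) (.node 1 (.leaf 1460) (.leaf 595))) (.node 1 (.leaf 37) (.node 1 (.leaf 566) (.leaf 1296))))))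
(.node 12 (.node 6 (.node 3 (.node 1 (.leaf 242) (.node 1 (.leaf 1131) (.leaf 1387))) (.node 1 (.leaf 439) (.node 1 (.leaf 1300) (.leaf 629))))
(.node 3 (.node 1 (.leaf 1465) (.node 1 (.leaf 807) (.leaf 79))) (.node 1 (.leaf 836) (.node 1 (.leaf 1109) (.leaf 1098)))))
(.node 6 (.node 3 (.node 1 (.leaf 152) (.node 1 (.leaf 605) (.leaf 1132))) (.node 1 (.leaf 265) (.node 1 (.leaf 1185) (.leaf 427))))
(.node 3 (.node 1 (.leaf 673) (.node 1 (.leaf 324) (.leaf 1347))) (.node 1 (.leaf 1051) (.node 1 (.leaf 1273) (.leaf 659))))))))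
(.node 48 (.node 24 (.node 12 (.node 6 (.node 3 (.node 1 (.leaf 352) (.node 1 (.leaf 298) (.leaf 814))) (.node 1 (.leaf 89) (.node 1 (.leaf 1419) (.leaf 666))))
(.node 3 (.node 1 (.leaf 74) (.node 1 (.leaf 492) (.leaf 1319))) (.node 1 (.leaf 1342) (.node 1 (.leaf 735) (.leaf 1156)))))
(.node 6 (.node 3 (.node 1 (.leaf 570) (.node 1 (.leaf 952) (.leaf 770))) (.node 1 (.leaf 404) (.node 1 (.leaf 222) (.leaf 277))))
(.node 3 (.node 1 (.leaf 124) (.node 1 (.leaf 258) (.leaf 966))) (.node 1 (.leaf 354) (.node 1 (.leaf 449) (.leaf 419))))))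
(.node 12 (.node 6 (.node 3 (.node 1 (.leaf 1034) (.node 1 (.leaf 140) (.leaf 209))) (.node 1 (.leaf 956) (.node 1 (.leaf 624) (.leaf 1214))))
(.node 3 (.node 1 (.leaf 937) (.node 1 (.leaf 948) (.leaf 19))) (.node 1 (.leaf 482) (.node 1 (.leaf 1369) (.leaf 625)))))
(.node 6 (.node 3 (.node 1 (.leaf 136) (.node 1 (.leaf 869) (.leaf 761))) (.node 1 (.leaf 367) (.node 1 (.leaf 756) (.leaf 389))))
(.node 3 (.node 1 (.leaf 1437) (.node 1 (.leaf 766) (.leaf 205))) (.node 1 (.leaf 1225) (.node 1 (.leaf 743) (.leaf 886)))))))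
(.node 24 (.node 12 (.node 6 (.node 3 (.node 1 (.leaf 452) (.node 1 (.leaf 1285) (.leaf 583))) (.node 1 (.leaf 1123) (.node 1 (.leaf 1075) (.leaf 887))))
(.node 3 (.node 1 (.leaf 1516) (.node 1 (.leaf 555) (.leaf 376))) (.node 1 (.leaf 87) (.node 1 (.leaf 630) (.leaf 641)))))
(.node 6 (.node 3 (.node 1 (.leaf 997) (.node 1 (.leaf 556) (.leaf 874))) (.node 1 (.leaf 934) (.node 1 (.leaf 600) (.leaf 391))))
(.node 3 (.node 1 (.leaf 935) (.node 1 (.leaf 616) (.leaf 1497))) (.node 1 (.leaf 638) (.node 1 (.leaf 384) (.leaf 368))))))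
(.node 12 (.node 6 (.node 3 (.node 1 (.leaf 422) (.node 1 (.leaf 1158) (.leaf 752))) (.node 1 (.leaf 70) (.node 1 (.leaf 303) (.leaf 470))))
(.node 3 (.node 1 (.leaf 1368) (.node 1 (.leaf 111) (.leaf 911))) (.node 1 (.leaf 27) (.node 1 (.leaf 1264) (.leaf 670)))))
(.node 6 (.node 3 (.node 1 (.leaf 24) (.node 1 (.leaf 878) (.leaf 561))) (.node 1 (.leaf 218) (.node 1 (.leaf 174) (.leaf 1371))))
(.node 3 (.node 1 (.leaf 776) (.node 1 (.leaf 1183) (.leaf 479))) (.node 1 (.leaf 1295) (.node 1 (.leaf 1192) (.leaf 1212))))))))))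

/-- The inverse action. -/
def caseBFullInv0RR : Tab ℕ :=
(.node 192 (.node 96 (.node 48 (.node 24 (.node 12 (.node 6 (.node 3 (.node 1 (.leaf 895) (.node 1 (.leaf 757) (.leaf 1217))) (.node 1 (.leaf 1321) (.node 1 (.leaf 241) (.leaf 341))))
(.node 3 (.node 1 (.leaf 754) (.node 1 (.leaf 458) (.leaf 1268))) (.node 1 (.leaf 1513) (.node 1 (.leaf 309) (.leaf 400)))))
(.node 6 (.node 3 (.node 1 (.leaf 1055) (.node 1 (.leaf 938) (.leaf 1450))) (.node 1 (.leaf 1483) (.node 1 (.leaf 122) (.leaf 1155))))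
(.node 3 (.node 1 (.leaf 572) (.node 1 (.leaf 1309) (.leaf 586))) (.node 1 (.leaf 829) (.node 1 (.leaf 636) (.leaf 1446))))))
(.node 12 (.node 6 (.node 3 (.node 1 (.leaf 232) (.node 1 (.leaf 787) (.leaf 487))) (.node 1 (.leaf 414) (.node 1 (.leaf 1079) (.leaf 621))))
(.node 3 (.node 1 (.leaf 669) (.node 1 (.leaf 480) (.leaf 29))) (.node 1 (.leaf 848) (.node 1 (.leaf 1213) (.leaf 714)))))
(.node 6 (.node 3 (.node 1 (.leaf 1397) (.node 1 (.leaf 409) (.leaf 653))) (.node 1 (.leaf 123) (.node 1 (.leaf 1277) (.leaf 1476))))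
(.node 3 (.node 1 (.leaf 415) (.node 1 (.leaf 1232) (.leaf 459))) (.node 1 (.leaf 83) (.node 1 (.leaf 360) (.leaf 390)))))))
(.node 24 (.node 12 (.node 6 (.node 3 (.node 1 (.leaf 1145) (.node 1 (.leaf 498) (.leaf 196))) (.node 1 (.leaf 834) (.node 1 (.leaf 224) (.leaf 307))))
(.node 3 (.node 1 (.leaf 1073) (.node 1 (.leaf 417) (.leaf 739))) (.node 1 (.leaf 981) (.node 1 (.leaf 676) (.leaf 950)))))
(.node 6 (.node 3 (.node 1 (.leaf 1151) (.node 1 (.leaf 1032) (.leaf 75))) (.node 1 (.leaf 225) (.node 1 (.leaf 185) (.leaf 1136))))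
(.node 3 (.node 1 (.leaf 131) (.node 1 (.leaf 1162) (.leaf 690))) (.node 1 (.leaf 940) (.node 1 (.leaf 120) (.leaf 1000))))))
(.node 12 (.node 6 (.node 3 (.node 1 (.leaf 571) (.node 1 (.leaf 640) (.leaf 768))) (.node 1 (.leaf 1351) (.node 1 (.leaf 201) (.leaf 236))))
(.node 3 (.node 1 (.leaf 1288) (.node 1 (.leaf 565) (.leaf 902))) (.node 1 (.leaf 933) (.node 1 (.leaf 219) (.leaf 62)))))
(.node 6 (.node 3 (.node 1 (.leaf 1052) (.node 1 (.leaf 1433) (.leaf 1272))) (.node 1 (.leaf 1164) (.node 1 (.leaf 1187) (.leaf 1447))))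
(.node 3 (.node 1 (.leaf 179) (.node 1 (.leaf 1020) (.leaf 520))) (.node 1 (.leaf 234) (.node 1 (.leaf 195) (.leaf 1061))))))))
(.node 48 (.node 24 (.node 12 (.node 6 (.node 3 (.node 1 (.leaf 41) (.node 1 (.leaf 1511) (.leaf 199))) (.node 1 (.leaf 873) (.node 1 (.leaf 189) (.leaf 1195))))
(.node 3 (.node 1 (.leaf 1393) (.node 1 (.leaf 1326) (.leaf 444))) (.node 1 (.leaf 90) (.node 1 (.leaf 1200) (.leaf 260)))))
(.node 6 (.node 3 (.node 1 (.leaf 1424) (.node 1 (.leaf 1405) (.leaf 720))) (.node 1 (.leaf 746) (.node 1 (.leaf 1163) (.leaf 1267))))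
(.node 3 (.node 1 (.leaf 125) (.node 1 (.leaf 1360) (.leaf 432))) (.node 1 (.leaf 844) (.node 1 (.leaf 349) (.leaf 305))))))
(.node 12 (.node 6 (.node 3 (.node 1 (.leaf 1238) (.node 1 (.leaf 1508) (.leaf 495))) (.node 1 (.leaf 1411) (.node 1 (.leaf 163) (.leaf 1436))))
(.node 3 (.node 1 (.leaf 55) (.node 1 (.leaf 1177) (.leaf 879))) (.node 1 (.leaf 857) (.node 1 (.leaf 759) (.leaf 38)))))
(.node 6 (.node 3 (.node 1 (.leaf 342) (.node 1 (.leaf 1077) (.leaf 187))) (.node 1 (.leaf 651) (.node 1 (.leaf 1496) (.leaf 1289))))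
(.node 3 (.node 1 (.leaf 1394) (.node 1 (.leaf 929) (.leaf 706))) (.node 1 (.leaf 1330) (.node 1 (.leaf 986) (.leaf 383)))))))
(.node 24 (.node 12 (.node 6 (.node 3 (.node 1 (.leaf 1031) (.node 1 (.leaf 161) (.leaf 959))) (.node 1 (.leaf 410) (.node 1 (.leaf 1313) (.leaf 483))))
(.node 3 (.node 1 (.leaf 546) (.node 1 (.leaf 297) (.leaf 939))) (.node 1 (.leaf 160) (.node 1 (.leaf 474) (.leaf 469)))))
(.node 6 (.node 3 (.node 1 (.leaf 839) (.node 1 (.leaf 208) (.leaf 559))) (.node 1 (.leaf 1311) (.node 1 (.leaf 47) (.leaf 216))))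
(.node 3 (.node 1 (.leaf 1057) (.node 1 (.leaf 899) (.leaf 800))) (.node 1 (.leaf 337) (.node 1 (.leaf 525) (.leaf 1218))))))
(.node 12 (.node 6 (.node 3 (.node 1 (.leaf 102) (.node 1 (.leaf 1334) (.leaf 197))) (.node 1 (.leaf 936) (.node 1 (.leaf 1178) (.leaf 835))))
(.node 3 (.node 1 (.leaf 1096) (.node 1 (.leaf 1534) (.leaf 867))) (.node 1 (.leaf 321) (.node 1 (.leaf 1310) (.leaf 602)))))
(.node 6 (.node 3 (.node 1 (.leaf 530) (.node 1 (.leaf 764) (.leaf 1169))) (.node 1 (.leaf 580) (.node 1 (.leaf 1208) (.leaf 266))))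
(.node 3 (.node 1 (.leaf 784) (.node 1 (.leaf 476) (.leaf 269))) (.node 1 (.leaf 63) (.node 1 (.leaf 613) (.leaf 728)))))))))
(.node 96 (.node 48 (.node 24 (.node 12 (.node 6 (.node 3 (.node 1 (.leaf 115) (.node 1 (.leaf 866) (.leaf 1181))) (.node 1 (.leaf 1518) (.node 1 (.leaf 73) (.leaf 1432))))
(.node 3 (.node 1 (.leaf 872) (.node 1 (.leaf 1227) (.leaf 672))) (.node 1 (.leaf 344) (.node 1 (.leaf 612) (.leaf 974)))))
(.node 6 (.node 3 (.node 1 (.leaf 702) (.node 1 (.leaf 1470) (.leaf 516))) (.node 1 (.leaf 550) (.node 1 (.leaf 628) (.leaf 288))))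
(.node 3 (.node 1 (.leaf 750) (.node 1 (.leaf 1014) (.leaf 1453))) (.node 1 (.leaf 1345) (.node 1 (.leaf 1491) (.leaf 15))))))
(.node 12 (.node 6 (.node 3 (.node 1 (.leaf 203) (.node 1 (.leaf 687) (.leaf 875))) (.node 1 (.leaf 1258) (.node 1 (.leaf 141) (.leaf 1172))))
(.node 3 (.node 1 (.leaf 173) (.node 1 (.leaf 1144) (.leaf 488))) (.node 1 (.leaf 680) (.node 1 (.leaf 1209) (.leaf 237)))))
(.node 6 (.node 3 (.node 1 (.leaf 86) (.node 1 (.leaf 691) (.leaf 138))) (.node 1 (.leaf 1194) (.node 1 (.leaf 440) (.leaf 436))))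
(.node 3 (.node 1 (.leaf 157) (.node 1 (.leaf 748) (.leaf 737))) (.node 1 (.leaf 794) (.node 1 (.leaf 21) (.leaf 78)))))))
(.node 24 (.node 12 (.node 6 (.node 3 (.node 1 (.leaf 989) (.node 1 (.leaf 1275) (.leaf 1135))) (.node 1 (.leaf 1107) (.node 1 (.leaf 1461) (.leaf 331))))
(.node 3 (.node 1 (.leaf 1126) (.node 1 (.leaf 365) (.leaf 355))) (.node 1 (.leaf 1086) (.node 1 (.leaf 567) (.leaf 274)))))
(.node 6 (.node 3 (.node 1 (.leaf 428) (.node 1 (.leaf 77) (.leaf 1220))) (.node 1 (.leaf 1353) (.node 1 (.leaf 263) (.leaf 1376))))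
(.node 3 (.node 1 (.leaf 903) (.node 1 (.leaf 1254) (.leaf 1528))) (.node 1 (.leaf 1043) (.node 1 (.leaf 217) (.leaf 967))))))
(.node 12 (.node 6 (.node 3 (.node 1 (.leaf 791) (.node 1 (.leaf 1175) (.leaf 976))) (.node 1 (.leaf 536) (.node 1 (.leaf 462) (.leaf 843))))
(.node 3 (.node 1 (.leaf 975) (.node 1 (.leaf 1398) (.leaf 1030))) (.node 1 (.leaf 228) (.node 1 (.leaf 941) (.leaf 453)))))
(.node 6 (.node 3 (.node 1 (.leaf 1503) (.node 1 (.leaf 395) (.leaf 1517))) (.node 1 (.leaf 506) (.node 1 (.leaf 705) (.leaf 1292))))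
(.node 3 (.node 1 (.leaf 1338) (.node 1 (.leaf 1530) (.leaf 1150))) (.node 1 (.leaf 1413) (.node 1 (.leaf 1501) (.leaf 731))))))))
(.node 48 (.node 24 (.node 12 (.node 6 (.node 3 (.node 1 (.leaf 105) (.node 1 (.leaf 1068) (.leaf 713))) (.node 1 (.leaf 823) (.node 1 (.leaf 1089) (.leaf 1301))))
(.node 3 (.node 1 (.leaf 294) (.node 1 (.leaf 1358) (.leaf 186))) (.node 1 (.leaf 1056) (.node 1 (.leaf 1038) (.leaf 1044)))))
(.node 6 (.node 3 (.node 1 (.leaf 1451) (.node 1 (.leaf 697) (.leaf 109))) (.node 1 (.leaf 682) (.node 1 (.leaf 1532) (.leaf 1060))))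
(.node 3 (.node 1 (.leaf 815) (.node 1 (.leaf 1327) (.leaf 284))) (.node 1 (.leaf 85) (.node 1 (.leaf 292) (.leaf 1333))))))
(.node 12 (.node 6 (.node 3 (.node 1 (.leaf 592) (.node 1 (.leaf 1166) (.leaf 1469))) (.node 1 (.leaf 1206) (.node 1 (.leaf 1490) (.leaf 336))))
(.node 3 (.node 1 (.leaf 1357) (.node 1 (.leaf 1514) (.leaf 1343))) (.node 1 (.leaf 643) (.node 1 (.leaf 578) (.leaf 1449)))))
(.node 6 (.node 3 (.node 1 (.leaf 1410) (.node 1 (.leaf 980) (.leaf 158))) (.node 1 (.leaf 1456) (.node 1 (.leaf 214) (.leaf 1278))))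
(.node 3 (.node 1 (.leaf 36) (.node 1 (.leaf 1399) (.leaf 132))) (.node 1 (.leaf 53) (.node 1 (.leaf 772) (.leaf 564)))))))
(.node 24 (.node 12 (.node 6 (.node 3 (.node 1 (.leaf 1101) (.node 1 (.leaf 1006) (.leaf 1448))) (.node 1 (.leaf 859) (.node 1 (.leaf 1102) (.leaf 1493))))
(.node 3 (.node 1 (.leaf 593) (.node 1 (.leaf 1202) (.leaf 868))) (.node 1 (.leaf 1092) (.node 1 (.leaf 56) (.leaf 1134)))))
(.node 6 (.node 3 (.node 1 (.leaf 1271) (.node 1 (.leaf 1106) (.leaf 273))) (.node 1 (.leaf 1113) (.node 1 (.leaf 69) (.leaf 198))))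
(.node 3 (.node 1 (.leaf 95) (.node 1 (.leaf 1173) (.leaf 987))) (.node 1 (.leaf 64) (.node 1 (.leaf 441) (.leaf 268))))))
(.node 12 (.node 6 (.node 3 (.node 1 (.leaf 192) (.node 1 (.leaf 1140) (.leaf 822))) (.node 1 (.leaf 919) (.node 1 (.leaf 762) (.leaf 1439))))
(.node 3 (.node 1 (.leaf 1236) (.node 1 (.leaf 1298) (.leaf 812))) (.node 1 (.leaf 165) (.node 1 (.leaf 1362) (.leaf 741)))))
(.node 6 (.node 3 (.node 1 (.leaf 1076) (.node 1 (.leaf 112) (.leaf 457))) (.node 1 (.leaf 917) (.node 1 (.leaf 1403) (.leaf 370))))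
(.node 3 (.node 1 (.leaf 662) (.node 1 (.leaf 891) (.leaf 590))) (.node 1 (.leaf 99) (.node 1 (.leaf 26) (.leaf 280))))))))))

/-- The inverse action. -/
def caseBFullInv0R : Tab ℕ := .node 384 caseBFullInv0RL caseBFullInv0RR

/-- The inverse action. -/
def caseBFullInv0 : Tab ℕ := .node 768 caseBFullInv0L caseBFullInv0R

/-- The inverse action. -/
def caseBFullInv1LL : Tab ℕ :=
(.node 192 (.node 96 (.node 48 (.node 24 (.node 12 (.node 6 (.node 3 (.node 1 (.leaf 0) (.node 1 (.leaf 77) (.leaf 779))) (.node 1 (.leaf 1117) (.node 1 (.leaf 32) (.leaf 485))))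
(.node 3 (.node 1 (.leaf 1321) (.node 1 (.leaf 1033) (.leaf 81))) (.node 1 (.leaf 17) (.node 1 (.leaf 1347) (.leaf 73)))))
(.node 6 (.node 3 (.node 1 (.leaf 12) (.node 1 (.leaf 313) (.leaf 1096))) (.node 1 (.leaf 1356) (.node 1 (.leaf 36) (.leaf 9))))
(.node 3 (.node 1 (.leaf 1140) (.node 1 (.leaf 426) (.leaf 1492))) (.node 1 (.leaf 1101) (.node 1 (.leaf 476) (.leaf 1221))))))
(.node 12 (.node 6 (.node 3 (.node 1 (.leaf 1059) (.node 1 (.leaf 717) (.leaf 202))) (.node 1 (.leaf 1493) (.node 1 (.leaf 562) (.leaf 327))))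
(.node 3 (.node 1 (.leaf 30) (.node 1 (.leaf 1361) (.leaf 4))) (.node 1 (.leaf 1366) (.node 1 (.leaf 1413) (.leaf 1452)))))
(.node 6 (.node 3 (.node 1 (.leaf 16) (.node 1 (.leaf 127) (.leaf 1295))) (.node 1 (.leaf 248) (.node 1 (.leaf 1325) (.leaf 1214))))
(.node 3 (.node 1 (.leaf 304) (.node 1 (.leaf 889) (.leaf 1460))) (.node 1 (.leaf 390) (.node 1 (.leaf 108) (.leaf 1327)))))))
(.node 24 (.node 12 (.node 6 (.node 3 (.node 1 (.leaf 822) (.node 1 (.leaf 463) (.leaf 710))) (.node 1 (.leaf 1397) (.node 1 (.leaf 1470) (.leaf 576))))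
(.node 3 (.node 1 (.leaf 1179) (.node 1 (.leaf 1185) (.leaf 1260))) (.node 1 (.leaf 858) (.node 1 (.leaf 195) (.leaf 714)))))
(.node 6 (.node 3 (.node 1 (.leaf 1526) (.node 1 (.leaf 594) (.leaf 376))) (.node 1 (.leaf 1086) (.node 1 (.leaf 1056) (.leaf 90))))
(.node 3 (.node 1 (.leaf 236) (.node 1 (.leaf 536) (.leaf 1156))) (.node 1 (.leaf 1437) (.node 1 (.leaf 1032) (.leaf 407))))))
(.node 12 (.node 6 (.node 3 (.node 1 (.leaf 1289) (.node 1 (.leaf 11) (.leaf 122))) (.node 1 (.leaf 429) (.node 1 (.leaf 964) (.leaf 1))))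
(.node 3 (.node 1 (.leaf 1475) (.node 1 (.leaf 1498) (.leaf 1450))) (.node 1 (.leaf 8) (.node 1 (.leaf 178) (.leaf 1041)))))
(.node 6 (.node 3 (.node 1 (.leaf 158) (.node 1 (.leaf 879) (.leaf 1228))) (.node 1 (.leaf 629) (.node 1 (.leaf 1416) (.leaf 199))))
(.node 3 (.node 1 (.leaf 65) (.node 1 (.leaf 1103) (.leaf 541))) (.node 1 (.leaf 291) (.node 1 (.leaf 381) (.leaf 1267))))))))
(.node 48 (.node 24 (.node 12 (.node 6 (.node 3 (.node 1 (.leaf 1428) (.node 1 (.leaf 1142) (.leaf 810))) (.node 1 (.leaf 977) (.node 1 (.leaf 590) (.leaf 101))))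
(.node 3 (.node 1 (.leaf 387) (.node 1 (.leaf 1532) (.leaf 773))) (.node 1 (.leaf 185) (.node 1 (.leaf 1092) (.leaf 797)))))
(.node 6 (.node 3 (.node 1 (.leaf 46) (.node 1 (.leaf 146) (.leaf 1003))) (.node 1 (.leaf 733) (.node 1 (.leaf 1194) (.leaf 782))))
(.node 3 (.node 1 (.leaf 225) (.node 1 (.leaf 1035) (.leaf 372))) (.node 1 (.leaf 727) (.node 1 (.leaf 251) (.leaf 1197))))))
(.node 12 (.node 6 (.node 3 (.node 1 (.leaf 1307) (.node 1 (.leaf 1133) (.leaf 74))) (.node 1 (.leaf 644) (.node 1 (.leaf 651) (.leaf 1050))))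
(.node 3 (.node 1 (.leaf 177) (.node 1 (.leaf 37) (.leaf 1391))) (.node 1 (.leaf 706) (.node 1 (.leaf 830) (.leaf 1235)))))
(.node 6 (.node 3 (.node 1 (.leaf 469) (.node 1 (.leaf 534) (.leaf 699))) (.node 1 (.leaf 207) (.node 1 (.leaf 464) (.leaf 1363))))
(.node 3 (.node 1 (.leaf 1517) (.node 1 (.leaf 1238) (.leaf 1253))) (.node 1 (.leaf 738) (.node 1 (.leaf 1243) (.leaf 632)))))))
(.node 24 (.node 12 (.node 6 (.node 3 (.node 1 (.leaf 151) (.node 1 (.leaf 906) (.leaf 109))) (.node 1 (.leaf 619) (.node 1 (.leaf 419) (.leaf 778))))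
(.node 3 (.node 1 (.leaf 150) (.node 1 (.leaf 144) (.leaf 686))) (.node 1 (.leaf 266) (.node 1 (.leaf 918) (.leaf 814)))))
(.node 6 (.node 3 (.node 1 (.leaf 507) (.node 1 (.leaf 1080) (.leaf 84))) (.node 1 (.leaf 602) (.node 1 (.leaf 599) (.leaf 211))))
(.node 3 (.node 1 (.leaf 365) (.node 1 (.leaf 434) (.leaf 1162))) (.node 1 (.leaf 1205) (.node 1 (.leaf 1504) (.leaf 431))))))
(.node 12 (.node 6 (.node 3 (.node 1 (.leaf 679) (.node 1 (.leaf 354) (.leaf 1494))) (.node 1 (.leaf 697) (.node 1 (.leaf 548) (.leaf 569))))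
(.node 3 (.node 1 (.leaf 1089) (.node 1 (.leaf 1336) (.leaf 1299))) (.node 1 (.leaf 126) (.node 1 (.leaf 82) (.leaf 1467)))))
(.node 6 (.node 3 (.node 1 (.leaf 209) (.node 1 (.leaf 616) (.leaf 909))) (.node 1 (.leaf 692) (.node 1 (.leaf 1417) (.leaf 105))))
(.node 3 (.node 1 (.leaf 555) (.node 1 (.leaf 1388) (.leaf 988))) (.node 1 (.leaf 1181) (.node 1 (.leaf 190) (.leaf 995)))))))))
(.node 96 (.node 48 (.node 24 (.node 12 (.node 6 (.node 3 (.node 1 (.leaf 524) (.node 1 (.leaf 1053) (.leaf 794))) (.node 1 (.leaf 58) (.node 1 (.leaf 196) (.leaf 1534))))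
(.node 3 (.node 1 (.leaf 475) (.node 1 (.leaf 89) (.leaf 1232))) (.node 1 (.leaf 510) (.node 1 (.leaf 26) (.leaf 959)))))
(.node 6 (.node 3 (.node 1 (.leaf 926) (.node 1 (.leaf 837) (.leaf 488))) (.node 1 (.leaf 135) (.node 1 (.leaf 788) (.leaf 180))))
(.node 3 (.node 1 (.leaf 401) (.node 1 (.leaf 161) (.leaf 841))) (.node 1 (.leaf 1062) (.node 1 (.leaf 1510) (.leaf 701))))))
(.node 12 (.node 6 (.node 3 (.node 1 (.leaf 1188) (.node 1 (.leaf 1095) (.leaf 1465))) (.node 1 (.leaf 398) (.node 1 (.leaf 559) (.leaf 921))))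
(.node 3 (.node 1 (.leaf 297) (.node 1 (.leaf 816) (.leaf 844))) (.node 1 (.leaf 114) (.node 1 (.leaf 292) (.leaf 1443)))))
(.node 6 (.node 3 (.node 1 (.leaf 1432) (.node 1 (.leaf 924) (.leaf 955))) (.node 1 (.leaf 413) (.node 1 (.leaf 934) (.leaf 776))))
(.node 3 (.node 1 (.leaf 965) (.node 1 (.leaf 653) (.leaf 66))) (.node 1 (.leaf 428) (.node 1 (.leaf 238) (.leaf 484)))))))
(.node 24 (.node 12 (.node 6 (.node 3 (.node 1 (.leaf 973) (.node 1 (.leaf 747) (.leaf 1406))) (.node 1 (.leaf 1167) (.node 1 (.leaf 667) (.leaf 528))))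
(.node 3 (.node 1 (.leaf 338) (.node 1 (.leaf 897) (.leaf 39))) (.node 1 (.leaf 1491) (.node 1 (.leaf 418) (.leaf 118)))))
(.node 6 (.node 3 (.node 1 (.leaf 1147) (.node 1 (.leaf 256) (.leaf 743))) (.node 1 (.leaf 1349) (.node 1 (.leaf 253) (.leaf 558))))
(.node 3 (.node 1 (.leaf 359) (.node 1 (.leaf 1330) (.leaf 873))) (.node 1 (.leaf 1442) (.node 1 (.leaf 751) (.leaf 1505))))))
(.node 12 (.node 6 (.node 3 (.node 1 (.leaf 761) (.node 1 (.leaf 288) (.leaf 153))) (.node 1 (.leaf 452) (.node 1 (.leaf 328) (.leaf 1255))))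
(.node 3 (.node 1 (.leaf 447) (.node 1 (.leaf 908) (.leaf 815))) (.node 1 (.leaf 774) (.node 1 (.leaf 1012) (.leaf 1306)))))
(.node 6 (.node 3 (.node 1 (.leaf 553) (.node 1 (.leaf 393) (.leaf 1433))) (.node 1 (.leaf 370) (.node 1 (.leaf 444) (.leaf 1271))))
(.node 3 (.node 1 (.leaf 1372) (.node 1 (.leaf 1093) (.leaf 1393))) (.node 1 (.leaf 367) (.node 1 (.leaf 1346) (.leaf 1030))))))))
(.node 48 (.node 24 (.node 12 (.node 6 (.node 3 (.node 1 (.leaf 265) (.node 1 (.leaf 364) (.leaf 1444))) (.node 1 (.leaf 93) (.node 1 (.leaf 226) (.leaf 685))))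
(.node 3 (.node 1 (.leaf 1027) (.node 1 (.leaf 968) (.leaf 1145))) (.node 1 (.leaf 222) (.node 1 (.leaf 832) (.leaf 1312)))))
(.node 6 (.node 3 (.node 1 (.leaf 1014) (.node 1 (.leaf 821) (.leaf 331))) (.node 1 (.leaf 389) (.node 1 (.leaf 42) (.leaf 951))))
(.node 3 (.node 1 (.leaf 874) (.node 1 (.leaf 322) (.leaf 813))) (.node 1 (.leaf 1409) (.node 1 (.leaf 332) (.leaf 1328))))))
(.node 12 (.node 6 (.node 3 (.node 1 (.leaf 420) (.node 1 (.leaf 13) (.leaf 939))) (.node 1 (.leaf 884) (.node 1 (.leaf 396) (.leaf 966))))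
(.node 3 (.node 1 (.leaf 502) (.node 1 (.leaf 345) (.leaf 1462))) (.node 1 (.leaf 1288) (.node 1 (.leaf 307) (.leaf 787)))))
(.node 6 (.node 3 (.node 1 (.leaf 724) (.node 1 (.leaf 1083) (.leaf 356))) (.node 1 (.leaf 29) (.node 1 (.leaf 268) (.leaf 981))))
(.node 3 (.node 1 (.leaf 512) (.node 1 (.leaf 302) (.leaf 310))) (.node 1 (.leaf 333) (.node 1 (.leaf 929) (.leaf 1198)))))))
(.node 24 (.node 12 (.node 6 (.node 3 (.node 1 (.leaf 712) (.node 1 (.leaf 698) (.leaf 246))) (.node 1 (.leaf 1445) (.node 1 (.leaf 1477) (.leaf 392))))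
(.node 3 (.node 1 (.leaf 1004) (.node 1 (.leaf 716) (.leaf 500))) (.node 1 (.leaf 319) (.node 1 (.leaf 805) (.leaf 801)))))
(.node 6 (.node 3 (.node 1 (.leaf 1177) (.node 1 (.leaf 573) (.leaf 894))) (.node 1 (.leaf 800) (.node 1 (.leaf 769) (.leaf 1373))))
(.node 3 (.node 1 (.leaf 169) (.node 1 (.leaf 907) (.leaf 326))) (.node 1 (.leaf 451) (.node 1 (.leaf 1341) (.leaf 258))))))
(.node 12 (.node 6 (.node 3 (.node 1 (.leaf 383) (.node 1 (.leaf 1506) (.leaf 1304))) (.node 1 (.leaf 363) (.node 1 (.leaf 289) (.leaf 162))))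
(.node 3 (.node 1 (.leaf 443) (.node 1 (.leaf 285) (.leaf 902))) (.node 1 (.leaf 650) (.node 1 (.leaf 279) (.leaf 1503)))))
(.node 6 (.node 3 (.node 1 (.leaf 116) (.node 1 (.leaf 656) (.leaf 1278))) (.node 1 (.leaf 1487) (.node 1 (.leaf 62) (.leaf 720))))
(.node 3 (.node 1 (.leaf 1441) (.node 1 (.leaf 1191) (.leaf 791))) (.node 1 (.leaf 94) (.node 1 (.leaf 1381) (.leaf 360))))))))))

/-- The inverse action. -/
def caseBFullInv1LR : Tab ℕ :=
(.node 192 (.node 96 (.node 48 (.node 24 (.node 12 (.node 6 (.node 3 (.node 1 (.leaf 846) (.node 1 (.leaf 506) (.leaf 549))) (.node 1 (.leaf 102) (.node 1 (.leaf 1519) (.leaf 303))))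
(.node 3 (.node 1 (.leaf 45) (.node 1 (.leaf 916) (.leaf 341))) (.node 1 (.leaf 277) (.node 1 (.leaf 1161) (.leaf 567)))))
(.node 6 (.node 3 (.node 1 (.leaf 316) (.node 1 (.leaf 494) (.leaf 219))) (.node 1 (.leaf 1472) (.node 1 (.leaf 571) (.leaf 210))))
(.node 3 (.node 1 (.leaf 819) (.node 1 (.leaf 672) (.leaf 1209))) (.node 1 (.leaf 532) (.node 1 (.leaf 574) (.leaf 71))))))
(.node 12 (.node 6 (.node 3 (.node 1 (.leaf 1061) (.node 1 (.leaf 1175) (.leaf 1500))) (.node 1 (.leaf 676) (.node 1 (.leaf 1283) (.leaf 231))))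
(.node 3 (.node 1 (.leaf 694) (.node 1 (.leaf 479) (.leaf 1091))) (.node 1 (.leaf 556) (.node 1 (.leaf 250) (.leaf 148)))))
(.node 6 (.node 3 (.node 1 (.leaf 312) (.node 1 (.leaf 1146) (.leaf 432))) (.node 1 (.leaf 1216) (.node 1 (.leaf 752) (.leaf 641))))
(.node 3 (.node 1 (.leaf 19) (.node 1 (.leaf 1322) (.leaf 237))) (.node 1 (.leaf 75) (.node 1 (.leaf 898) (.leaf 167)))))))
(.node 24 (.node 12 (.node 6 (.node 3 (.node 1 (.leaf 422) (.node 1 (.leaf 1459) (.leaf 163))) (.node 1 (.leaf 612) (.node 1 (.leaf 862) (.leaf 1106))))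
(.node 3 (.node 1 (.leaf 608) (.node 1 (.leaf 1195) (.leaf 440))) (.node 1 (.leaf 460) (.node 1 (.leaf 670) (.leaf 366)))))
(.node 6 (.node 3 (.node 1 (.leaf 280) (.node 1 (.leaf 1367) (.leaf 957))) (.node 1 (.leaf 270) (.node 1 (.leaf 655) (.leaf 529))))
(.node 3 (.node 1 (.leaf 1173) (.node 1 (.leaf 357) (.leaf 267))) (.node 1 (.leaf 1000) (.node 1 (.leaf 1357) (.leaf 756))))))
(.node 12 (.node 6 (.node 3 (.node 1 (.leaf 1237) (.node 1 (.leaf 1082) (.leaf 1139))) (.node 1 (.leaf 960) (.node 1 (.leaf 441) (.leaf 1155))))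
(.node 3 (.node 1 (.leaf 1522) (.node 1 (.leaf 49) (.leaf 136))) (.node 1 (.leaf 1405) (.node 1 (.leaf 910) (.leaf 1157)))))
(.node 6 (.node 3 (.node 1 (.leaf 1453) (.node 1 (.leaf 132) (.leaf 561))) (.node 1 (.leaf 1072) (.node 1 (.leaf 802) (.leaf 540))))
(.node 3 (.node 1 (.leaf 1018) (.node 1 (.leaf 198) (.leaf 22))) (.node 1 (.leaf 1064) (.node 1 (.leaf 609) (.leaf 415))))))))
(.node 48 (.node 24 (.node 12 (.node 6 (.node 3 (.node 1 (.leaf 527) (.node 1 (.leaf 1225) (.leaf 678))) (.node 1 (.leaf 1104) (.node 1 (.leaf 239) (.leaf 5))))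
(.node 3 (.node 1 (.leaf 702) (.node 1 (.leaf 621) (.leaf 206))) (.node 1 (.leaf 1154) (.node 1 (.leaf 1401) (.leaf 1034)))))
(.node 6 (.node 3 (.node 1 (.leaf 700) (.node 1 (.leaf 493) (.leaf 397))) (.node 1 (.leaf 870) (.node 1 (.leaf 1028) (.leaf 709))))
(.node 3 (.node 1 (.leaf 1169) (.node 1 (.leaf 1254) (.leaf 344))) (.node 1 (.leaf 538) (.node 1 (.leaf 318) (.leaf 652))))))
(.node 12 (.node 6 (.node 3 (.node 1 (.leaf 683) (.node 1 (.leaf 843) (.leaf 385))) (.node 1 (.leaf 156) (.node 1 (.leaf 1387) (.leaf 1230))))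
(.node 3 (.node 1 (.leaf 201) (.node 1 (.leaf 1410) (.leaf 330))) (.node 1 (.leaf 518) (.node 1 (.leaf 514) (.leaf 770)))))
(.node 6 (.node 3 (.node 1 (.leaf 1110) (.node 1 (.leaf 636) (.leaf 513))) (.node 1 (.leaf 1337) (.node 1 (.leaf 1143) (.leaf 654))))
(.node 3 (.node 1 (.leaf 1248) (.node 1 (.leaf 1128) (.leaf 192))) (.node 1 (.leaf 1376) (.node 1 (.leaf 1057) (.leaf 480)))))))
(.node 24 (.node 12 (.node 6 (.node 3 (.node 1 (.leaf 245) (.node 1 (.leaf 449) (.leaf 648))) (.node 1 (.leaf 1350) (.node 1 (.leaf 405) (.leaf 1268))))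
(.node 3 (.node 1 (.leaf 133) (.node 1 (.leaf 1378) (.leaf 67))) (.node 1 (.leaf 728) (.node 1 (.leaf 501) (.leaf 952)))))
(.node 6 (.node 3 (.node 1 (.leaf 473) (.node 1 (.leaf 92) (.leaf 823))) (.node 1 (.leaf 891) (.node 1 (.leaf 842) (.leaf 1303))))
(.node 3 (.node 1 (.leaf 1334) (.node 1 (.leaf 1149) (.leaf 172))) (.node 1 (.leaf 386) (.node 1 (.leaf 550) (.leaf 1535))))))
(.node 12 (.node 6 (.node 3 (.node 1 (.leaf 861) (.node 1 (.leaf 276) (.leaf 1115))) (.node 1 (.leaf 186) (.node 1 (.leaf 417) (.leaf 1360))))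
(.node 3 (.node 1 (.leaf 257) (.node 1 (.leaf 220) (.leaf 1377))) (.node 1 (.leaf 470) (.node 1 (.leaf 28) (.leaf 1340)))))
(.node 6 (.node 3 (.node 1 (.leaf 1355) (.node 1 (.leaf 986) (.leaf 1305))) (.node 1 (.leaf 395) (.node 1 (.leaf 688) (.leaf 173))))
(.node 3 (.node 1 (.leaf 1496) (.node 1 (.leaf 400) (.leaf 825))) (.node 1 (.leaf 349) (.node 1 (.leaf 406) (.leaf 1063)))))))))
(.node 96 (.node 48 (.node 24 (.node 12 (.node 6 (.node 3 (.node 1 (.leaf 53) (.node 1 (.leaf 781) (.leaf 1088))) (.node 1 (.leaf 666) (.node 1 (.leaf 942) (.leaf 1007))))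
(.node 3 (.node 1 (.leaf 1466) (.node 1 (.leaf 1137) (.leaf 1474))) (.node 1 (.leaf 596) (.node 1 (.leaf 1201) (.leaf 1046)))))
(.node 6 (.node 3 (.node 1 (.leaf 866) (.node 1 (.leaf 1065) (.leaf 100))) (.node 1 (.leaf 1049) (.node 1 (.leaf 1098) (.leaf 1319))))
(.node 3 (.node 1 (.leaf 61) (.node 1 (.leaf 748) (.leaf 585))) (.node 1 (.leaf 1365) (.node 1 (.leaf 1396) (.leaf 160))))))
(.node 12 (.node 6 (.node 3 (.node 1 (.leaf 856) (.node 1 (.leaf 1153) (.leaf 159))) (.node 1 (.leaf 890) (.node 1 (.leaf 1436) (.leaf 789))))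
(.node 3 (.node 1 (.leaf 871) (.node 1 (.leaf 1105) (.leaf 438))) (.node 1 (.leaf 478) (.node 1 (.leaf 1150) (.leaf 933)))))
(.node 6 (.node 3 (.node 1 (.leaf 435) (.node 1 (.leaf 1016) (.leaf 1039))) (.node 1 (.leaf 1021) (.node 1 (.leaf 181) (.leaf 880))))
(.node 3 (.node 1 (.leaf 1163) (.node 1 (.leaf 147) (.leaf 1116))) (.node 1 (.leaf 487) (.node 1 (.leaf 899) (.leaf 936)))))))
(.node 24 (.node 12 (.node 6 (.node 3 (.node 1 (.leaf 1249) (.node 1 (.leaf 642) (.leaf 1449))) (.node 1 (.leaf 1087) (.node 1 (.leaf 1129) (.leaf 87))))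
(.node 3 (.node 1 (.leaf 868) (.node 1 (.leaf 824) (.leaf 143))) (.node 1 (.leaf 1094) (.node 1 (.leaf 1525) (.leaf 1131)))))
(.node 6 (.node 3 (.node 1 (.leaf 517) (.node 1 (.leaf 1234) (.leaf 646))) (.node 1 (.leaf 1043) (.node 1 (.leaf 975) (.leaf 425))))
(.node 3 (.node 1 (.leaf 625) (.node 1 (.leaf 885) (.leaf 123))) (.node 1 (.leaf 1513) (.node 1 (.leaf 638) (.leaf 1159))))))
(.node 12 (.node 6 (.node 3 (.node 1 (.leaf 530) (.node 1 (.leaf 1060) (.leaf 369))) (.node 1 (.leaf 124) (.node 1 (.leaf 503) (.leaf 235))))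
(.node 3 (.node 1 (.leaf 521) (.node 1 (.leaf 448) (.leaf 373))) (.node 1 (.leaf 1343) (.node 1 (.leaf 1135) (.leaf 766)))))
(.node 6 (.node 3 (.node 1 (.leaf 1359) (.node 1 (.leaf 963) (.leaf 1183))) (.node 1 (.leaf 962) (.node 1 (.leaf 1333) (.leaf 718))))
(.node 3 (.node 1 (.leaf 579) (.node 1 (.leaf 244) (.leaf 1326))) (.node 1 (.leaf 1011) (.node 1 (.leaf 442) (.leaf 947))))))))
(.node 48 (.node 24 (.node 12 (.node 6 (.node 3 (.node 1 (.leaf 403) (.node 1 (.leaf 972) (.leaf 1040))) (.node 1 (.leaf 1171) (.node 1 (.leaf 411) (.leaf 1352))))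
(.node 3 (.node 1 (.leaf 482) (.node 1 (.leaf 168) (.leaf 1502))) (.node 1 (.leaf 1240) (.node 1 (.leaf 1051) (.leaf 504)))))
(.node 6 (.node 3 (.node 1 (.leaf 1404) (.node 1 (.leaf 293) (.leaf 152))) (.node 1 (.leaf 876) (.node 1 (.leaf 568) (.leaf 1025))))
(.node 3 (.node 1 (.leaf 1300) (.node 1 (.leaf 1353) (.leaf 183))) (.node 1 (.leaf 1461) (.node 1 (.leaf 414) (.leaf 1010))))))
(.node 12 (.node 6 (.node 3 (.node 1 (.leaf 886) (.node 1 (.leaf 171) (.leaf 337))) (.node 1 (.leaf 134) (.node 1 (.leaf 492) (.leaf 215))))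
(.node 3 (.node 1 (.leaf 486) (.node 1 (.leaf 1414) (.leaf 1242))) (.node 1 (.leaf 786) (.node 1 (.leaf 129) (.leaf 828)))))
(.node 6 (.node 3 (.node 1 (.leaf 833) (.node 1 (.leaf 497) (.leaf 50))) (.node 1 (.leaf 1408) (.node 1 (.leaf 336) (.leaf 713))))
(.node 3 (.node 1 (.leaf 59) (.node 1 (.leaf 1435) (.leaf 343))) (.node 1 (.leaf 25) (.node 1 (.leaf 665) (.leaf 1458)))))))
(.node 24 (.node 12 (.node 6 (.node 3 (.node 1 (.leaf 377) (.node 1 (.leaf 741) (.leaf 827))) (.node 1 (.leaf 875) (.node 1 (.leaf 324) (.leaf 1165))))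
(.node 3 (.node 1 (.leaf 990) (.node 1 (.leaf 117) (.leaf 537))) (.node 1 (.leaf 905) (.node 1 (.leaf 867) (.leaf 783)))))
(.node 6 (.node 3 (.node 1 (.leaf 762) (.node 1 (.leaf 111) (.leaf 892))) (.node 1 (.leaf 767) (.node 1 (.leaf 904) (.leaf 1020))))
(.node 3 (.node 1 (.leaf 141) (.node 1 (.leaf 901) (.leaf 1236))) (.node 1 (.leaf 721) (.node 1 (.leaf 742) (.leaf 254))))))
(.node 12 (.node 6 (.node 3 (.node 1 (.leaf 881) (.node 1 (.leaf 1097) (.leaf 1152))) (.node 1 (.leaf 241) (.node 1 (.leaf 595) (.leaf 1138))))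
(.node 3 (.node 1 (.leaf 838) (.node 1 (.leaf 262) (.leaf 424))) (.node 1 (.leaf 1168) (.node 1 (.leaf 792) (.leaf 1264)))))
(.node 6 (.node 3 (.node 1 (.leaf 455) (.node 1 (.leaf 923) (.leaf 991))) (.node 1 (.leaf 1318) (.node 1 (.leaf 1022) (.leaf 264))))
(.node 3 (.node 1 (.leaf 732) (.node 1 (.leaf 1530) (.leaf 967))) (.node 1 (.leaf 1323) (.node 1 (.leaf 659) (.leaf 735))))))))))

/-- The inverse action. -/
def caseBFullInv1L : Tab ℕ := .node 384 caseBFullInv1LL caseBFullInv1LR

/-- The inverse action. -/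
def caseBFullInv1RL : Tab ℕ :=
(.node 192 (.node 96 (.node 48 (.node 24 (.node 12 (.node 6 (.node 3 (.node 1 (.leaf 1200) (.node 1 (.leaf 352) (.leaf 515))) (.node 1 (.leaf 1476) (.node 1 (.leaf 812) (.leaf 104))))
(.node 3 (.node 1 (.leaf 273) (.node 1 (.leaf 1423) (.leaf 233))) (.node 1 (.leaf 1329) (.node 1 (.leaf 149) (.leaf 2)))))
(.node 6 (.node 3 (.node 1 (.leaf 790) (.node 1 (.leaf 577) (.leaf 113))) (.node 1 (.leaf 731) (.node 1 (.leaf 1345) (.leaf 1284))))
(.node 3 (.node 1 (.leaf 705) (.node 1 (.leaf 323) (.leaf 208))) (.node 1 (.leaf 605) (.node 1 (.leaf 780) (.leaf 380))))))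
(.node 12 (.node 6 (.node 3 (.node 1 (.leaf 754) (.node 1 (.leaf 956) (.leaf 194))) (.node 1 (.leaf 1182) (.node 1 (.leaf 913) (.leaf 107))))
(.node 3 (.node 1 (.leaf 1420) (.node 1 (.leaf 1075) (.leaf 351))) (.node 1 (.leaf 347) (.node 1 (.leaf 472) (.leaf 1005)))))
(.node 6 (.node 3 (.node 1 (.leaf 1294) (.node 1 (.leaf 346) (.leaf 1118))) (.node 1 (.leaf 1123) (.node 1 (.leaf 1112) (.leaf 1531))))
(.node 3 (.node 1 (.leaf 98) (.node 1 (.leaf 1184) (.leaf 772))) (.node 1 (.leaf 308) (.node 1 (.leaf 155) (.leaf 272)))))))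
(.node 24 (.node 12 (.node 6 (.node 3 (.node 1 (.leaf 223) (.node 1 (.leaf 996) (.leaf 1407))) (.node 1 (.leaf 402) (.node 1 (.leaf 1370) (.leaf 301))))
(.node 3 (.node 1 (.leaf 48) (.node 1 (.leaf 542) (.leaf 631))) (.node 1 (.leaf 572) (.node 1 (.leaf 1113) (.leaf 722)))))
(.node 6 (.node 3 (.node 1 (.leaf 707) (.node 1 (.leaf 1399) (.leaf 130))) (.node 1 (.leaf 1261) (.node 1 (.leaf 298) (.leaf 708))))
(.node 3 (.node 1 (.leaf 1126) (.node 1 (.leaf 1265) (.leaf 1058))) (.node 1 (.leaf 205) (.node 1 (.leaf 750) (.leaf 839))))))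
(.node 12 (.node 6 (.node 3 (.node 1 (.leaf 1332) (.node 1 (.leaf 212) (.leaf 544))) (.node 1 (.leaf 505) (.node 1 (.leaf 224) (.leaf 845))))
(.node 3 (.node 1 (.leaf 384) (.node 1 (.leaf 1425) (.leaf 1309))) (.node 1 (.leaf 1006) (.node 1 (.leaf 1213) (.leaf 1203)))))
(.node 6 (.node 3 (.node 1 (.leaf 1125) (.node 1 (.leaf 1176) (.leaf 854))) (.node 1 (.leaf 1202) (.node 1 (.leaf 600) (.leaf 1392))))
(.node 3 (.node 1 (.leaf 57) (.node 1 (.leaf 1222) (.leaf 1047))) (.node 1 (.leaf 552) (.node 1 (.leaf 436) (.leaf 1471))))))))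
(.node 48 (.node 24 (.node 12 (.node 6 (.node 3 (.node 1 (.leaf 1439) (.node 1 (.leaf 1217) (.leaf 588))) (.node 1 (.leaf 730) (.node 1 (.leaf 630) (.leaf 1489))))
(.node 3 (.node 1 (.leaf 495) (.node 1 (.leaf 606) (.leaf 1446))) (.node 1 (.leaf 260) (.node 1 (.leaf 306) (.leaf 723)))))
(.node 6 (.node 3 (.node 1 (.leaf 687) (.node 1 (.leaf 1199) (.leaf 1468))) (.node 1 (.leaf 85) (.node 1 (.leaf 617) (.leaf 744))))
(.node 3 (.node 1 (.leaf 961) (.node 1 (.leaf 1239) (.leaf 315))) (.node 1 (.leaf 643) (.node 1 (.leaf 696) (.leaf 943))))))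
(.node 12 (.node 6 (.node 3 (.node 1 (.leaf 1244) (.node 1 (.leaf 43) (.leaf 603))) (.node 1 (.leaf 543) (.node 1 (.leaf 734) (.leaf 1511))))
(.node 3 (.node 1 (.leaf 350) (.node 1 (.leaf 1044) (.leaf 1251))) (.node 1 (.leaf 247) (.node 1 (.leaf 430) (.leaf 622)))))
(.node 6 (.node 3 (.node 1 (.leaf 1247) (.node 1 (.leaf 739) (.leaf 368))) (.node 1 (.leaf 1219) (.node 1 (.leaf 736) (.leaf 729))))
(.node 3 (.node 1 (.leaf 145) (.node 1 (.leaf 355) (.leaf 271))) (.node 1 (.leaf 182) (.node 1 (.leaf 466) (.leaf 1164)))))))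
(.node 24 (.node 12 (.node 6 (.node 3 (.node 1 (.leaf 1422) (.node 1 (.leaf 796) (.leaf 914))) (.node 1 (.leaf 1109) (.node 1 (.leaf 391) (.leaf 1382))))
(.node 3 (.node 1 (.leaf 154) (.node 1 (.leaf 1102) (.leaf 920))) (.node 1 (.leaf 221) (.node 1 (.leaf 1160) (.leaf 757)))))
(.node 6 (.node 3 (.node 1 (.leaf 229) (.node 1 (.leaf 1218) (.leaf 204))) (.node 1 (.leaf 927) (.node 1 (.leaf 1132) (.leaf 334))))
(.node 3 (.node 1 (.leaf 1311) (.node 1 (.leaf 941) (.leaf 974))) (.node 1 (.leaf 611) (.node 1 (.leaf 232) (.leaf 993))))))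
(.node 12 (.node 6 (.node 3 (.node 1 (.leaf 623) (.node 1 (.leaf 1473) (.leaf 992))) (.node 1 (.leaf 314) (.node 1 (.leaf 1456) (.leaf 931))))
(.node 3 (.node 1 (.leaf 580) (.node 1 (.leaf 887) (.leaf 1292))) (.node 1 (.leaf 994) (.node 1 (.leaf 1227) (.leaf 671)))))
(.node 6 (.node 3 (.node 1 (.leaf 1119) (.node 1 (.leaf 1048) (.leaf 1431))) (.node 1 (.leaf 305) (.node 1 (.leaf 539) (.leaf 1320))))
(.node 3 (.node 1 (.leaf 1389) (.node 1 (.leaf 230) (.leaf 793))) (.node 1 (.leaf 446) (.node 1 (.leaf 1375) (.leaf 203)))))))))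
(.node 96 (.node 48 (.node 24 (.node 12 (.node 6 (.node 3 (.node 1 (.leaf 459) (.node 1 (.leaf 882) (.leaf 663))) (.node 1 (.leaf 661) (.node 1 (.leaf 76) (.leaf 234))))
(.node 3 (.node 1 (.leaf 317) (.node 1 (.leaf 764) (.leaf 295))) (.node 1 (.leaf 980) (.node 1 (.leaf 1148) (.leaf 1141)))))
(.node 6 (.node 3 (.node 1 (.leaf 673) (.node 1 (.leaf 240) (.leaf 932))) (.node 1 (.leaf 640) (.node 1 (.leaf 1314) (.leaf 99))))
(.node 3 (.node 1 (.leaf 1189) (.node 1 (.leaf 1448) (.leaf 969))) (.node 1 (.leaf 329) (.node 1 (.leaf 1170) (.leaf 1390))))))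
(.node 12 (.node 6 (.node 3 (.node 1 (.leaf 1358) (.node 1 (.leaf 1192) (.leaf 565))) (.node 1 (.leaf 987) (.node 1 (.leaf 188) (.leaf 1301))))
(.node 3 (.node 1 (.leaf 726) (.node 1 (.leaf 758) (.leaf 938))) (.node 1 (.leaf 935) (.node 1 (.leaf 945) (.leaf 191)))))
(.node 6 (.node 3 (.node 1 (.leaf 817) (.node 1 (.leaf 1310) (.leaf 1351))) (.node 1 (.leaf 1451) (.node 1 (.leaf 453) (.leaf 1469))))
(.node 3 (.node 1 (.leaf 1002) (.node 1 (.leaf 110) (.leaf 342))) (.node 1 (.leaf 803) (.node 1 (.leaf 849) (.leaf 581)))))))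
(.node 24 (.node 12 (.node 6 (.node 3 (.node 1 (.leaf 1275) (.node 1 (.leaf 1394) (.leaf 695))) (.node 1 (.leaf 669) (.node 1 (.leaf 274) (.leaf 1282))))
(.node 3 (.node 1 (.leaf 300) (.node 1 (.leaf 1190) (.leaf 613))) (.node 1 (.leaf 1524) (.node 1 (.leaf 474) (.leaf 1279)))))
(.node 6 (.node 3 (.node 1 (.leaf 737) (.node 1 (.leaf 615) (.leaf 760))) (.node 1 (.leaf 1287) (.node 1 (.leaf 1258) (.leaf 689))))
(.node 3 (.node 1 (.leaf 1403) (.node 1 (.leaf 294) (.leaf 496))) (.node 1 (.leaf 1455) (.node 1 (.leaf 287) (.leaf 1285))))))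
(.node 12 (.node 6 (.node 3 (.node 1 (.leaf 70) (.node 1 (.leaf 7) (.leaf 491))) (.node 1 (.leaf 115) (.node 1 (.leaf 1076) (.leaf 1121))))
(.node 3 (.node 1 (.leaf 1250) (.node 1 (.leaf 614) (.leaf 674))) (.node 1 (.leaf 83) (.node 1 (.leaf 1490) (.leaf 639)))))
(.node 6 (.node 3 (.node 1 (.leaf 895) (.node 1 (.leaf 1338) (.leaf 587))) (.node 1 (.leaf 860) (.node 1 (.leaf 949) (.leaf 591))))
(.node 3 (.node 1 (.leaf 125) (.node 1 (.leaf 682) (.leaf 1266))) (.node 1 (.leaf 193) (.node 1 (.leaf 1210) (.leaf 1316))))))))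
(.node 48 (.node 24 (.node 12 (.node 6 (.node 3 (.node 1 (.leaf 64) (.node 1 (.leaf 526) (.leaf 836))) (.node 1 (.leaf 24) (.node 1 (.leaf 649) (.leaf 408))))
(.node 3 (.node 1 (.leaf 213) (.node 1 (.leaf 575) (.leaf 477))) (.node 1 (.leaf 589) (.node 1 (.leaf 1269) (.leaf 1241)))))
(.node 6 (.node 3 (.node 1 (.leaf 1438) (.node 1 (.leaf 1380) (.leaf 1256))) (.node 1 (.leaf 1071) (.node 1 (.leaf 471) (.leaf 1434))))
(.node 3 (.node 1 (.leaf 1122) (.node 1 (.leaf 799) (.leaf 1036))) (.node 1 (.leaf 1421) (.node 1 (.leaf 1354) (.leaf 1379))))))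
(.node 12 (.node 6 (.node 3 (.node 1 (.leaf 157) (.node 1 (.leaf 1508) (.leaf 457))) (.node 1 (.leaf 325) (.node 1 (.leaf 1302) (.leaf 1134))))
(.node 3 (.node 1 (.leaf 63) (.node 1 (.leaf 627) (.leaf 578))) (.node 1 (.leaf 174) (.node 1 (.leaf 1252) (.leaf 416)))))
(.node 6 (.node 3 (.node 1 (.leaf 106) (.node 1 (.leaf 283) (.leaf 633))) (.node 1 (.leaf 217) (.node 1 (.leaf 14) (.leaf 745))))
(.node 3 (.node 1 (.leaf 592) (.node 1 (.leaf 1174) (.leaf 1100))) (.node 1 (.leaf 21) (.node 1 (.leaf 919) (.leaf 91)))))))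
(.node 24 (.node 12 (.node 6 (.node 3 (.node 1 (.leaf 483) (.node 1 (.leaf 607) (.leaf 437))) (.node 1 (.leaf 1523) (.node 1 (.leaf 1196) (.leaf 915))))
(.node 3 (.node 1 (.leaf 516) (.node 1 (.leaf 1308) (.leaf 808))) (.node 1 (.leaf 826) (.node 1 (.leaf 1385) (.leaf 554)))))
(.node 6 (.node 3 (.node 1 (.leaf 620) (.node 1 (.leaf 3) (.leaf 806))) (.node 1 (.leaf 948) (.node 1 (.leaf 1296) (.leaf 1037))))
(.node 3 (.node 1 (.leaf 1074) (.node 1 (.leaf 807) (.leaf 1386))) (.node 1 (.leaf 852) (.node 1 (.leaf 834) (.leaf 1223))))))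
(.node 12 (.node 6 (.node 3 (.node 1 (.leaf 523) (.node 1 (.leaf 628) (.leaf 1344))) (.node 1 (.leaf 635) (.node 1 (.leaf 928) (.leaf 121))))
(.node 3 (.node 1 (.leaf 1085) (.node 1 (.leaf 658) (.leaf 1342))) (.node 1 (.leaf 583) (.node 1 (.leaf 749) (.leaf 458)))))
(.node 6 (.node 3 (.node 1 (.leaf 18) (.node 1 (.leaf 971) (.leaf 97))) (.node 1 (.leaf 520) (.node 1 (.leaf 1384) (.leaf 296))))
(.node 3 (.node 1 (.leaf 421) (.node 1 (.leaf 252) (.leaf 970))) (.node 1 (.leaf 547) (.node 1 (.leaf 610) (.leaf 1362))))))))))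

/-- The inverse action. -/
def caseBFullInv1RR : Tab ℕ :=
(.node 192 (.node 96 (.node 48 (.node 24 (.node 12 (.node 6 (.node 3 (.node 1 (.leaf 746) (.node 1 (.leaf 601) (.leaf 489))) (.node 1 (.leaf 461) (.node 1 (.leaf 68) (.leaf 467))))
(.node 3 (.node 1 (.leaf 1263) (.node 1 (.leaf 647) (.leaf 922))) (.node 1 (.leaf 394) (.node 1 (.leaf 164) (.leaf 618)))))
(.node 6 (.node 3 (.node 1 (.leaf 911) (.node 1 (.leaf 725) (.leaf 1246))) (.node 1 (.leaf 243) (.node 1 (.leaf 753) (.leaf 498))))
(.node 3 (.node 1 (.leaf 982) (.node 1 (.leaf 675) (.leaf 1187))) (.node 1 (.leaf 450) (.node 1 (.leaf 1099) (.leaf 409))))))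
(.node 12 (.node 6 (.node 3 (.node 1 (.leaf 853) (.node 1 (.leaf 348) (.leaf 1206))) (.node 1 (.leaf 54) (.node 1 (.leaf 1324) (.leaf 189))))
(.node 3 (.node 1 (.leaf 795) (.node 1 (.leaf 662) (.leaf 811))) (.node 1 (.leaf 55) (.node 1 (.leaf 1186) (.leaf 1172)))))
(.node 6 (.node 3 (.node 1 (.leaf 216) (.node 1 (.leaf 978) (.leaf 1015))) (.node 1 (.leaf 379) (.node 1 (.leaf 985) (.leaf 1447))))
(.node 3 (.node 1 (.leaf 112) (.node 1 (.leaf 439) (.leaf 1108))) (.node 1 (.leaf 119) (.node 1 (.leaf 335) (.leaf 877)))))))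
(.node 24 (.node 12 (.node 6 (.node 3 (.node 1 (.leaf 768) (.node 1 (.leaf 586) (.leaf 855))) (.node 1 (.leaf 851) (.node 1 (.leaf 1233) (.leaf 165))))
(.node 3 (.node 1 (.leaf 1178) (.node 1 (.leaf 1291) (.leaf 1317))) (.node 1 (.leaf 404) (.node 1 (.leaf 1054) (.leaf 1313)))))
(.node 6 (.node 3 (.node 1 (.leaf 1398) (.node 1 (.leaf 850) (.leaf 41))) (.node 1 (.leaf 1272) (.node 1 (.leaf 423) (.leaf 865))))
(.node 3 (.node 1 (.leaf 925) (.node 1 (.leaf 903) (.leaf 1226))) (.node 1 (.leaf 23) (.node 1 (.leaf 859) (.leaf 1127))))))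
(.node 12 (.node 6 (.node 3 (.node 1 (.leaf 1402) (.node 1 (.leaf 481) (.leaf 1220))) (.node 1 (.leaf 946) (.node 1 (.leaf 86) (.leaf 1479))))
(.node 3 (.node 1 (.leaf 509) (.node 1 (.leaf 1231) (.leaf 200))) (.node 1 (.leaf 1204) (.node 1 (.leaf 637) (.leaf 131)))))
(.node 6 (.node 3 (.node 1 (.leaf 740) (.node 1 (.leaf 456) (.leaf 139))) (.node 1 (.leaf 883) (.node 1 (.leaf 681) (.leaf 1067))))
(.node 3 (.node 1 (.leaf 704) (.node 1 (.leaf 142) (.leaf 888))) (.node 1 (.leaf 1276) (.node 1 (.leaf 1166) (.leaf 900))))))))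
(.node 48 (.node 24 (.node 12 (.node 6 (.node 3 (.node 1 (.leaf 522) (.node 1 (.leaf 624) (.leaf 1038))) (.node 1 (.leaf 896) (.node 1 (.leaf 1090) (.leaf 140))))
(.node 3 (.node 1 (.leaf 499) (.node 1 (.leaf 269) (.leaf 1070))) (.node 1 (.leaf 1485) (.node 1 (.leaf 1024) (.leaf 1411)))))
(.node 6 (.node 3 (.node 1 (.leaf 56) (.node 1 (.leaf 831) (.leaf 1497))) (.node 1 (.leaf 1158) (.node 1 (.leaf 755) (.leaf 835))))
(.node 3 (.node 1 (.leaf 1052) (.node 1 (.leaf 95) (.leaf 533))) (.node 1 (.leaf 1066) (.node 1 (.leaf 1464) (.leaf 281))))))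
(.node 12 (.node 6 (.node 3 (.node 1 (.leaf 1215) (.node 1 (.leaf 1374) (.leaf 1427))) (.node 1 (.leaf 1008) (.node 1 (.leaf 1245) (.leaf 1277))))
(.node 3 (.node 1 (.leaf 374) (.node 1 (.leaf 1019) (.leaf 1480))) (.node 1 (.leaf 1514) (.node 1 (.leaf 1013) (.leaf 412)))))
(.node 6 (.node 3 (.node 1 (.leaf 785) (.node 1 (.leaf 1031) (.leaf 1286))) (.node 1 (.leaf 1023) (.node 1 (.leaf 321) (.leaf 72))))
(.node 3 (.node 1 (.leaf 1483) (.node 1 (.leaf 1207) (.leaf 944))) (.node 1 (.leaf 1368) (.node 1 (.leaf 804) (.leaf 38)))))))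
(.node 24 (.node 12 (.node 6 (.node 3 (.node 1 (.leaf 1120) (.node 1 (.leaf 1484) (.leaf 1395))) (.node 1 (.leaf 176) (.node 1 (.leaf 690) (.leaf 989))))
(.node 3 (.node 1 (.leaf 1084) (.node 1 (.leaf 545) (.leaf 362))) (.node 1 (.leaf 566) (.node 1 (.leaf 275) (.leaf 120)))))
(.node 6 (.node 3 (.node 1 (.leaf 1111) (.node 1 (.leaf 848) (.leaf 997))) (.node 1 (.leaf 930) (.node 1 (.leaf 299) (.leaf 1211))))
(.node 3 (.node 1 (.leaf 976) (.node 1 (.leaf 1488) (.leaf 1055))) (.node 1 (.leaf 1208) (.node 1 (.leaf 759) (.leaf 593))))))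
(.node 12 (.node 6 (.node 3 (.node 1 (.leaf 953) (.node 1 (.leaf 6) (.leaf 427))) (.node 1 (.leaf 765) (.node 1 (.leaf 1180) (.leaf 40))))
(.node 3 (.node 1 (.leaf 668) (.node 1 (.leaf 47) (.leaf 311))) (.node 1 (.leaf 777) (.node 1 (.leaf 259) (.leaf 1529)))))
(.node 6 (.node 3 (.node 1 (.leaf 840) (.node 1 (.leaf 664) (.leaf 546))) (.node 1 (.leaf 1478) (.node 1 (.leaf 175) (.leaf 519))))
(.node 3 (.node 1 (.leaf 1045) (.node 1 (.leaf 1512) (.leaf 563))) (.node 1 (.leaf 358) (.node 1 (.leaf 1136) (.leaf 657)))))))))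
(.node 96 (.node 48 (.node 24 (.node 12 (.node 6 (.node 3 (.node 1 (.leaf 1130) (.node 1 (.leaf 784) (.leaf 286))) (.node 1 (.leaf 10) (.node 1 (.leaf 1364) (.leaf 255))))
(.node 3 (.node 1 (.leaf 531) (.node 1 (.leaf 998) (.leaf 677))) (.node 1 (.leaf 691) (.node 1 (.leaf 1078) (.leaf 564)))))
(.node 6 (.node 3 (.node 1 (.leaf 15) (.node 1 (.leaf 454) (.leaf 984))) (.node 1 (.leaf 660) (.node 1 (.leaf 557) (.leaf 31))))
(.node 3 (.node 1 (.leaf 1151) (.node 1 (.leaf 137) (.leaf 1348))) (.node 1 (.leaf 597) (.node 1 (.leaf 33) (.leaf 445))))))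
(.node 12 (.node 6 (.node 3 (.node 1 (.leaf 1293) (.node 1 (.leaf 1515) (.leaf 820))) (.node 1 (.leaf 1412) (.node 1 (.leaf 282) (.leaf 353))))
(.node 3 (.node 1 (.leaf 1273) (.node 1 (.leaf 958) (.leaf 525))) (.node 1 (.leaf 560) (.node 1 (.leaf 535) (.leaf 1079)))))
(.node 6 (.node 3 (.node 1 (.leaf 1069) (.node 1 (.leaf 382) (.leaf 917))) (.node 1 (.leaf 1528) (.node 1 (.leaf 1144) (.leaf 1114))))
(.node 3 (.node 1 (.leaf 1124) (.node 1 (.leaf 508) (.leaf 187))) (.node 1 (.leaf 954) (.node 1 (.leaf 983) (.leaf 128)))))))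
(.node 24 (.node 12 (.node 6 (.node 3 (.node 1 (.leaf 857) (.node 1 (.leaf 284) (.leaf 1009))) (.node 1 (.leaf 1298) (.node 1 (.leaf 598) (.leaf 51))))
(.node 3 (.node 1 (.leaf 1212) (.node 1 (.leaf 829) (.leaf 1482))) (.node 1 (.leaf 490) (.node 1 (.leaf 1224) (.leaf 1026)))))
(.node 6 (.node 3 (.node 1 (.leaf 684) (.node 1 (.leaf 465) (.leaf 242))) (.node 1 (.leaf 818) (.node 1 (.leaf 711) (.leaf 309))))
(.node 3 (.node 1 (.leaf 511) (.node 1 (.leaf 1259) (.leaf 1371))) (.node 1 (.leaf 34) (.node 1 (.leaf 703) (.leaf 1424))))))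
(.node 12 (.node 6 (.node 3 (.node 1 (.leaf 88) (.node 1 (.leaf 184) (.leaf 1501))) (.node 1 (.leaf 1481) (.node 1 (.leaf 798) (.leaf 1077))))
(.node 3 (.node 1 (.leaf 912) (.node 1 (.leaf 775) (.leaf 1415))) (.node 1 (.leaf 847) (.node 1 (.leaf 1457) (.leaf 1274)))))
(.node 6 (.node 3 (.node 1 (.leaf 96) (.node 1 (.leaf 1429) (.leaf 1520))) (.node 1 (.leaf 950) (.node 1 (.leaf 228) (.leaf 278))))
(.node 3 (.node 1 (.leaf 1073) (.node 1 (.leaf 715) (.leaf 604))) (.node 1 (.leaf 69) (.node 1 (.leaf 1068) (.leaf 864))))))))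
(.node 48 (.node 24 (.node 12 (.node 6 (.node 3 (.node 1 (.leaf 1499) (.node 1 (.leaf 378) (.leaf 261))) (.node 1 (.leaf 227) (.node 1 (.leaf 290) (.leaf 339))))
(.node 3 (.node 1 (.leaf 872) (.node 1 (.leaf 1193) (.leaf 979))) (.node 1 (.leaf 626) (.node 1 (.leaf 80) (.leaf 999)))))
(.node 6 (.node 3 (.node 1 (.leaf 35) (.node 1 (.leaf 468) (.leaf 1516))) (.node 1 (.leaf 1029) (.node 1 (.leaf 940) (.leaf 1426))))
(.node 3 (.node 1 (.leaf 719) (.node 1 (.leaf 433) (.leaf 44))) (.node 1 (.leaf 693) (.node 1 (.leaf 320) (.leaf 1486))))))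
(.node 12 (.node 6 (.node 3 (.node 1 (.leaf 1270) (.node 1 (.leaf 218) (.leaf 582))) (.node 1 (.leaf 179) (.node 1 (.leaf 878) (.leaf 1001))))
(.node 3 (.node 1 (.leaf 52) (.node 1 (.leaf 863) (.leaf 399))) (.node 1 (.leaf 937) (.node 1 (.leaf 584) (.leaf 78)))))
(.node 6 (.node 3 (.node 1 (.leaf 771) (.node 1 (.leaf 340) (.leaf 1335))) (.node 1 (.leaf 1229) (.node 1 (.leaf 1280) (.leaf 1419))))
(.node 3 (.node 1 (.leaf 1400) (.node 1 (.leaf 1290) (.leaf 1297))) (.node 1 (.leaf 1257) (.node 1 (.leaf 1463) (.leaf 375)))))))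
(.node 24 (.node 12 (.node 6 (.node 3 (.node 1 (.leaf 1315) (.node 1 (.leaf 869) (.leaf 1042))) (.node 1 (.leaf 249) (.node 1 (.leaf 20) (.leaf 27))))
(.node 3 (.node 1 (.leaf 170) (.node 1 (.leaf 1507) (.leaf 570))) (.node 1 (.leaf 1262) (.node 1 (.leaf 79) (.leaf 1440)))))
(.node 6 (.node 3 (.node 1 (.leaf 410) (.node 1 (.leaf 1418) (.leaf 680))) (.node 1 (.leaf 371) (.node 1 (.leaf 166) (.leaf 263))))
(.node 3 (.node 1 (.leaf 361) (.node 1 (.leaf 1495) (.leaf 1081))) (.node 1 (.leaf 1518) (.node 1 (.leaf 214) (.leaf 893))))))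
(.node 12 (.node 6 (.node 3 (.node 1 (.leaf 1339) (.node 1 (.leaf 645) (.leaf 1281))) (.node 1 (.leaf 1369) (.node 1 (.leaf 1454) (.leaf 138))))
(.node 3 (.node 1 (.leaf 1509) (.node 1 (.leaf 388) (.leaf 1430))) (.node 1 (.leaf 1533) (.node 1 (.leaf 462) (.leaf 1107)))))
(.node 6 (.node 3 (.node 1 (.leaf 1017) (.node 1 (.leaf 634) (.leaf 60))) (.node 1 (.leaf 1527) (.node 1 (.leaf 1383) (.leaf 1331))))
(.node 3 (.node 1 (.leaf 763) (.node 1 (.leaf 809) (.leaf 103))) (.node 1 (.leaf 1521) (.node 1 (.leaf 197) (.leaf 551))))))))))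

/-- The inverse action. -/
def caseBFullInv1R : Tab ℕ := .node 384 caseBFullInv1RL caseBFullInv1RR

/-- The inverse action. -/
def caseBFullInv1 : Tab ℕ := .node 768 caseBFullInv1L caseBFullInv1R

/-- The bound. -/
def caseBFullBound : BoundD := ⟨[caseBFullN0Node, caseBFullN1Node, caseBFullN4Node, caseBFullN7Node,
  caseBFullN10Node, caseBFullN18Node, caseBFullN22Node, caseBFullN29Node,
  caseBFullN39Node, caseBFullN42Node, caseBFullN53Node, caseBFullN67Node,
  caseBFullN112Node, caseBFullN114Node], fun b => bif b then caseBFullInv1 else caseBFullInv0, 11385⟩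

end Cfsg.Lib.HeldType
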