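import Cfsg.Agent.HeldType.TrivialB
import Cfsg.Agent.HeldType.FullB

/-!
The checks of one case.
-/

set_option autoImplicit false
set_option maxRecDepth 100000

namespace Cfsg.Lib.HeldType

theorem caseBLoc0_ok : caseBLoc0Cert.ok caseBPars caseBCube = true := by decide +kernel

theorem caseBLoc1_ok : caseBLoc1Cert.ok caseBPars caseBCube = true := by decide +kernel

theorem caseBTrivial_defs : caseBTrivial.okDefs = true := by decide +kernel

theorem caseBTrivial_facts0 : allR (caseBTrivial.okAt caseBPars) 0 90 = true := by decide +kernel

theorem caseBTrivial_facts (k : ℕ) (hk : k < 90) : caseBTrivial.okAt caseBPars k = true := by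
  exact allR_sound _ _ _ caseBTrivial_facts0 k (by omega) (by omega)

theorem caseBFull_defs : caseBFull.okDefs = true := by decide +kernel

theorem caseBFull_facts0 : allR (caseBFull.okAt caseBPars) 0 500 = true := by decide +kernel

theorem caseBFull_facts500 : allR (caseBFull.okAt caseBPars) 500 500 = true := by decide +kernel

theorem caseBFull_facts1000 : allR (caseBFull.okAt caseBPars) 1000 500 = true := by decide +kernel

theorem caseBFull_facts1500 : allR (caseBFull.okAt caseBPars) 1500 500 = true := by decide +kernel

theorem caseBFull_facts2000 : allR (caseBFull.okAt caseBPars) 2000 500 = true := by decide +kernel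

theorem caseBFull_facts2500 : allR (caseBFull.okAt caseBPars) 2500 500 = true := by decide +kernel

theorem caseBFull_facts3000 : allR (caseBFull.okAt caseBPars) 3000 500 = true := by decide +kernel

theorem caseBFull_facts3500 : allR (caseBFull.okAt caseBPars) 3500 256 = true := by decide +kernel

theorem caseBFull_facts (k : ℕ) (hk : k < 3756) : caseBFull.okAt caseBPars k = true := by
  by_cases h0 : k < 500
  · exact allR_sound _ _ _ caseBFull_facts0 k (by omega) (by omega)
  by_cases h500 : k < 1000
  · exact allR_sound _ _ _ caseBFull_facts500 k (by omega) (by omega)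
  by_cases h1000 : k < 1500
  · exact allR_sound _ _ _ caseBFull_facts1000 k (by omega) (by omega)
  by_cases h1500 : k < 2000
  · exact allR_sound _ _ _ caseBFull_facts1500 k (by omega) (by omega)
  by_cases h2000 : k < 2500
  · exact allR_sound _ _ _ caseBFull_facts2000 k (by omega) (by omega)
  by_cases h2500 : k < 3000
  · exact allR_sound _ _ _ caseBFull_facts2500 k (by omega) (by omega)
  by_cases h3000 : k < 3500
  · exact allR_sound _ _ _ caseBFull_facts3000 k (by omega) (by omega)
  exact allR_sound _ _ _ caseBFull_facts3500 k (by omega) (by omega)

theorem caseBFull_bound : caseBFullBound.ok caseBFull caseBPars = true := by decide +kernel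

end Cfsg.Lib.HeldType
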