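import Cfsg.Agent.HeldType.LocalC

/-!
An enumeration of double cosets.
-/

set_option autoImplicit false
set_option maxRecDepth 100000

namespace Cfsg.Lib.HeldType

/-- The facts. -/
def caseCFullFactsLLLLL : Tab Fct :=
(.node 122 (.node 61 (.node 30 (.node 15 (.node 7 (.node 3 (.node 1 (.leaf ⟨0, 17043521, none, 0, 32125001⟩) (.node 1 (.leaf ⟨0, 17043521, none, 0, 10971209⟩) (.leaf ⟨0, 31801425, (some false), 1, 17043521⟩)))
(.node 2 (.node 1 (.leaf ⟨1, 17043521, (some false), 0, 14958673⟩) (.leaf ⟨0, 6776923, (some false), 1, 17043521⟩)) (.node 1 (.leaf ⟨0, 17043521, (some false), 1, 17766471⟩) (.leaf ⟨0, 32125001, (some false), 1, 17766471⟩))))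
(.node 4 (.node 2 (.node 1 (.leaf ⟨0, 4808797, (some false), 1, 17766471⟩) (.leaf ⟨0, 13510735, (some false), 1, 17766471⟩)) (.node 1 (.leaf ⟨0, 13310023, (some false), 1, 17043521⟩) (.leaf ⟨0, 7292999, (some false), 1, 17786975⟩)))
(.node 2 (.node 1 (.leaf ⟨0, 9056345, (some false), 1, 17786975⟩) (.leaf ⟨0, 19085399, (some false), 1, 17117251⟩)) (.node 1 (.leaf ⟨0, 10971209, (some false), 1, 17135693⟩) (.leaf ⟨0, 29904967, (some false), 1, 17135693⟩)))))
(.node 7 (.node 3 (.node 1 (.leaf ⟨0, 27529303, (some false), 1, 17135693⟩) (.node 1 (.leaf ⟨0, 23928925, (some false), 1, 17786975⟩) (.leaf ⟨1, 17766471, none, 1, 17135693⟩)))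
(.node 2 (.node 1 (.leaf ⟨1, 17700937, none, 1, 17786975⟩) (.leaf ⟨1, 17463363, none, 1, 17766471⟩)) (.node 1 (.leaf ⟨1, 17043521, none, 1, 16935001⟩) (.leaf ⟨1, 17043521, none, 1, 17117269⟩))))
(.node 4 (.node 2 (.node 1 (.leaf ⟨1, 17043521, none, 1, 17768543⟩) (.leaf ⟨1, 19085399, (some false), 2, 17043521⟩)) (.node 1 (.leaf ⟨2, 19085399, (some false), 3, 17043521⟩) (.leaf ⟨3, 17043521, (some false), 2, 19560517⟩)))
(.node 2 (.node 1 (.leaf ⟨0, 21446743, none, 3, 19619931⟩) (.leaf ⟨3, 17043521, none, 0, 10897487⟩)) (.node 1 (.leaf ⟨2, 19877955, none, 1, 17786975⟩) (.leaf ⟨2, 17043521, none, 1, 19167307⟩))))))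
(.node 15 (.node 7 (.node 3 (.node 1 (.leaf ⟨0, 11495495, (some true), 4, 17043521⟩) (.node 1 (.leaf ⟨4, 17043521, (some true), 0, 11495495⟩) (.leaf ⟨0, 4544593, (some true), 4, 25448529⟩)))
(.node 2 (.node 1 (.leaf ⟨0, 17043521, (some true), 4, 8917067⟩) (.leaf ⟨0, 32125001, (some true), 4, 8917067⟩)) (.node 1 (.leaf ⟨0, 4808797, (some true), 4, 8917067⟩) (.leaf ⟨0, 13510735, (some true), 4, 8917067⟩))))
(.node 4 (.node 2 (.node 1 (.leaf ⟨0, 25385043, (some true), 4, 8917067⟩) (.leaf ⟨0, 29904967, (some true), 4, 25759817⟩)) (.node 1 (.leaf ⟨0, 17059919, (some true), 4, 25522243⟩) (.leaf ⟨0, 13310023, (some true), 4, 8943707⟩)))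
(.node 2 (.node 1 (.leaf ⟨0, 31801425, (some true), 4, 8943707⟩) (.leaf ⟨0, 32131155, (some true), 4, 19148891⟩)) (.node 1 (.leaf ⟨0, 19085399, (some true), 4, 11087947⟩) (.leaf ⟨0, 10971209, (some true), 4, 25759817⟩)))))
(.node 8 (.node 4 (.node 2 (.node 1 (.leaf ⟨4, 8917067, none, 4, 25759817⟩) (.leaf ⟨4, 9261123, none, 4, 8917067⟩)) (.node 1 (.leaf ⟨4, 11276361, none, 4, 8917067⟩) (.leaf ⟨4, 17043521, none, 4, 19730499⟩)))
(.node 2 (.node 1 (.leaf ⟨4, 17043521, none, 4, 17659985⟩) (.leaf ⟨4, 17043521, none, 4, 25497667⟩)) (.node 1 (.leaf ⟨4, 17059919, (some true), 5, 17043521⟩) (.leaf ⟨5, 17059919, (some true), 6, 17043521⟩))))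
(.node 4 (.node 2 (.node 1 (.leaf ⟨6, 17043521, (some true), 5, 17059919⟩) (.leaf ⟨0, 10960991, none, 6, 27816021⟩)) (.node 1 (.leaf ⟨6, 17043521, none, 0, 25632857⟩) (.leaf ⟨5, 17635405, none, 4, 25759817⟩)))
(.node 2 (.node 1 (.leaf ⟨5, 17043521, none, 4, 11081799⟩) (.leaf ⟨4, 4808797, (some false), 7, 17043521⟩)) (.node 1 (.leaf ⟨7, 17043521, (some false), 4, 23685197⟩) (.leaf ⟨4, 27529303, (some false), 7, 17659999⟩)))))))
(.node 30 (.node 15 (.node 7 (.node 3 (.node 1 (.leaf ⟨4, 29904967, (some false), 7, 17784923⟩) (.node 1 (.leaf ⟨4, 13510735, (some false), 7, 16998495⟩) (.leaf ⟨4, 17043521, (some false), 7, 17051739⟩)))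
(.node 2 (.node 1 (.leaf ⟨4, 19085399, (some false), 7, 17258571⟩) (.leaf ⟨7, 17768529, none, 7, 17784923⟩)) (.node 1 (.leaf ⟨7, 17191001, none, 7, 17258571⟩) (.leaf ⟨7, 17768527, none, 7, 16998495⟩))))
(.node 4 (.node 2 (.node 1 (.leaf ⟨7, 17180761, none, 7, 17784923⟩) (.leaf ⟨7, 17043521, none, 7, 17651779⟩)) (.node 1 (.leaf ⟨7, 17043521, none, 7, 17715281⟩) (.leaf ⟨7, 17043521, none, 7, 17111123⟩)))
(.node 2 (.node 1 (.leaf ⟨7, 17043521, none, 7, 17059911⟩) (.leaf ⟨7, 11495495, (some true), 8, 17043521⟩)) (.node 1 (.leaf ⟨8, 17043521, (some true), 7, 11495495⟩) (.leaf ⟨8, 13510735, (some false), 9, 17043521⟩)))))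
(.node 7 (.node 3 (.node 1 (.leaf ⟨9, 17043521, (some false), 8, 29761631⟩) (.node 1 (.leaf ⟨0, 31737951, none, 9, 17578073⟩) (.leaf ⟨9, 17043521, none, 0, 21776477⟩)))
(.node 2 (.node 1 (.leaf ⟨8, 11368513, none, 1, 17786975⟩) (.leaf ⟨8, 17043521, none, 1, 25305157⟩)) (.node 1 (.leaf ⟨1, 11495495, (some true), 7, 25894981⟩) (.leaf ⟨1, 17043521, (some true), 7, 17197151⟩))))
(.node 4 (.node 2 (.node 1 (.leaf ⟨1, 10971209, (some true), 7, 25905239⟩) (.leaf ⟨1, 17059919, (some true), 7, 17703005⟩)) (.node 1 (.leaf ⟨1, 25385043, (some true), 7, 10971231⟩) (.leaf ⟨1, 19085399, (some true), 7, 19816525⟩)))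
(.node 2 (.node 1 (.leaf ⟨7, 19085399, (some false), 10, 17043521⟩) (.leaf ⟨10, 17043521, (some true), 11, 17043521⟩)) (.node 1 (.leaf ⟨11, 17043521, (some true), 10, 17043521⟩) (.leaf ⟨11, 19085399, (some false), 12, 17043521⟩))))))
(.node 15 (.node 7 (.node 3 (.node 1 (.leaf ⟨12, 17043521, (some false), 11, 19560517⟩) (.node 1 (.leaf ⟨0, 23619675, none, 12, 19603523⟩) (.leaf ⟨12, 17043521, none, 0, 8998999⟩)))
(.node 2 (.node 1 (.leaf ⟨11, 19863641, none, 1, 17766471⟩) (.leaf ⟨11, 17043521, none, 1, 19140681⟩)) (.node 1 (.leaf ⟨10, 19208283, none, 7, 17197151⟩) (.leaf ⟨10, 17043521, none, 7, 19294279⟩))))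
(.node 4 (.node 2 (.node 1 (.leaf ⟨7, 19085399, (some true), 13, 17043521⟩) (.leaf ⟨13, 17043521, (some true), 7, 19085399⟩)) (.node 1 (.leaf ⟨7, 17059919, (some true), 13, 19757121⟩) (.leaf ⟨7, 17043521, (some true), 13, 19746881⟩)))
(.node 2 (.node 1 (.leaf ⟨7, 25385043, (some true), 13, 8935491⟩) (.leaf ⟨13, 8933451, none, 13, 8935491⟩)) (.node 1 (.leaf ⟨13, 19224643, none, 13, 19746881⟩) (.leaf ⟨13, 8943681, none, 13, 8935491⟩)))))
(.node 8 (.node 4 (.node 2 (.node 1 (.leaf ⟨13, 19681361, none, 13, 19746881⟩) (.leaf ⟨13, 17061955, none, 13, 17043521⟩)) (.node 1 (.leaf ⟨13, 8941635, none, 13, 8935491⟩) (.leaf ⟨13, 17043521, none, 13, 17061953⟩)))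
(.node 2 (.node 1 (.leaf ⟨13, 17043521, none, 13, 17061955⟩) (.leaf ⟨13, 17043521, none, 13, 17109075⟩)) (.node 1 (.leaf ⟨13, 17043521, none, 13, 17059907⟩) (.leaf ⟨13, 17043521, none, 13, 17635395⟩))))
(.node 4 (.node 2 (.node 1 (.leaf ⟨13, 17043521, none, 13, 17045585⟩) (.leaf ⟨13, 19085399, (some true), 14, 17043521⟩)) (.node 1 (.leaf ⟨14, 17043521, (some true), 13, 19085399⟩) (.leaf ⟨14, 11495495, (some true), 15, 17043521⟩)))
(.node 2 (.node 1 (.leaf ⟨15, 17043521, (some true), 14, 11495495⟩) (.leaf ⟨0, 6889539, none, 15, 4925521⟩)) (.node 1 (.leaf ⟨15, 17043521, none, 0, 19667033⟩) (.leaf ⟨14, 27664477, none, 4, 8917067⟩))))))))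
(.node 61 (.node 30 (.node 15 (.node 7 (.node 3 (.node 1 (.leaf ⟨14, 17043521, none, 4, 4927577⟩) (.node 1 (.leaf ⟨4, 32125001, (some true), 13, 25628749⟩) (.leaf ⟨4, 4544593, (some true), 13, 27662415⟩)))
(.node 2 (.node 1 (.leaf ⟨4, 13510735, (some true), 13, 17446999⟩) (.leaf ⟨4, 4808797, (some true), 13, 17174613⟩)) (.node 1 (.leaf ⟨4, 31801425, (some true), 13, 27662407⟩) (.leaf ⟨4, 32131155, (some true), 13, 27947079⟩))))
(.node 4 (.node 2 (.node 1 (.leaf ⟨4, 10971209, (some true), 13, 28194909⟩) (.leaf ⟨4, 25385043, (some true), 13, 8616021⟩)) (.node 1 (.leaf ⟨4, 13310023, (some true), 13, 8616015⟩) (.leaf ⟨4, 29904967, (some true), 13, 19542093⟩)))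
(.node 2 (.node 1 (.leaf ⟨4, 19085399, (some true), 13, 19814479⟩) (.leaf ⟨4, 11495495, (some true), 13, 26103877⟩)) (.node 1 (.leaf ⟨13, 11210845, none, 13, 8616021⟩) (.leaf ⟨13, 17043521, none, 13, 19097683⟩)))))
(.node 7 (.node 3 (.node 1 (.leaf ⟨13, 10971209, (some true), 7, 25376847⟩) (.node 1 (.leaf ⟨1, 6776923, (some false), 16, 17043521⟩) (.leaf ⟨16, 17043521, (some false), 1, 21979225⟩)))
(.node 2 (.node 1 (.leaf ⟨1, 13310023, (some false), 16, 17195095⟩) (.leaf ⟨1, 31801425, (some false), 16, 16984135⟩)) (.node 1 (.leaf ⟨1, 29904967, (some false), 16, 17524823⟩) (.leaf ⟨1, 32125001, (some false), 16, 17508439⟩))))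
(.node 4 (.node 2 (.node 1 (.leaf ⟨1, 27529303, (some false), 16, 17659981⟩) (.leaf ⟨1, 13510735, (some false), 16, 17180745⟩)) (.node 1 (.leaf ⟨1, 7292999, (some false), 16, 17043541⟩) (.leaf ⟨1, 4808797, (some false), 16, 17059925⟩)))
(.node 2 (.node 1 (.leaf ⟨1, 10971209, (some false), 16, 17447001⟩) (.leaf ⟨1, 23928925, (some false), 16, 17584221⟩)) (.node 1 (.leaf ⟨1, 9056345, (some false), 16, 17659979⟩) (.leaf ⟨16, 17190993, none, 16, 17059925⟩))))))
(.node 15 (.node 7 (.node 3 (.node 1 (.leaf ⟨16, 17508429, none, 16, 16984135⟩) (.node 1 (.leaf ⟨16, 17569879, none, 16, 17584221⟩) (.leaf ⟨16, 17442901, none, 16, 17508439⟩)))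
(.node 2 (.node 1 (.leaf ⟨16, 17506393, none, 16, 17524823⟩) (.leaf ⟨16, 17043521, none, 16, 17061981⟩)) (.node 1 (.leaf ⟨16, 17043521, none, 16, 17109059⟩) (.leaf ⟨16, 17043521, none, 16, 17061979⟩))))
(.node 4 (.node 2 (.node 1 (.leaf ⟨16, 17043521, none, 16, 17567813⟩) (.leaf ⟨16, 17043521, none, 16, 17698901⟩)) (.node 1 (.leaf ⟨16, 19085399, (some false), 17, 17043521⟩) (.leaf ⟨17, 19085399, (some false), 18, 17043521⟩)))
(.node 2 (.node 1 (.leaf ⟨18, 17043521, (some false), 17, 19560517⟩) (.leaf ⟨1, 5058653, none, 18, 19157087⟩)) (.node 1 (.leaf ⟨18, 17043521, none, 1, 23885891⟩) (.leaf ⟨17, 19877955, none, 16, 17659979⟩)))))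
(.node 8 (.node 4 (.node 2 (.node 1 (.leaf ⟨17, 17043521, none, 16, 19865679⟩) (.leaf ⟨7, 10971209, (some true), 19, 17043521⟩)) (.node 1 (.leaf ⟨19, 17059919, (some true), 20, 17043521⟩) (.leaf ⟨20, 17043521, (some true), 19, 17059919⟩)))
(.node 2 (.node 1 (.leaf ⟨1, 27992139, none, 20, 11278415⟩) (.leaf ⟨20, 17043521, none, 1, 11487303⟩)) (.node 1 (.leaf ⟨19, 11098191, none, 7, 25894981⟩) (.leaf ⟨19, 17043521, none, 7, 25315409⟩))))
(.node 4 (.node 2 (.node 1 (.leaf ⟨1, 4544593, (some true), 21, 17043521⟩) (.leaf ⟨21, 17043521, (some true), 1, 4544593⟩)) (.node 1 (.leaf ⟨1, 13310023, (some true), 21, 11016267⟩) (.leaf ⟨1, 13510735, (some true), 21, 25499715⟩)))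
(.node 2 (.node 1 (.leaf ⟨1, 4808797, (some true), 21, 19681369⟩) (.leaf ⟨1, 31801425, (some true), 21, 27793499⟩)) (.node 1 (.leaf ⟨1, 29904967, (some true), 21, 27793497⟩) (.leaf ⟨1, 32125001, (some true), 21, 25710665⟩)))))))
(.node 30 (.node 15 (.node 7 (.node 3 (.node 1 (.leaf ⟨1, 32131155, (some true), 21, 17649753⟩) (.node 1 (.leaf ⟨21, 11038801, none, 21, 17043521⟩) (.leaf ⟨21, 9203785, none, 21, 27793499⟩)))
(.node 2 (.node 1 (.leaf ⟨21, 17043521, none, 21, 11286619⟩) (.leaf ⟨21, 17043521, none, 21, 9009225⟩)) (.node 1 (.leaf ⟨21, 13510735, (some false), 22, 17043521⟩) (.leaf ⟨22, 17043521, (some false), 21, 29761631⟩))))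
(.node 4 (.node 2 (.node 1 (.leaf ⟨21, 29904967, (some false), 22, 17127503⟩) (.leaf ⟨21, 19085399, (some false), 22, 17506391⟩)) (.node 1 (.leaf ⟨21, 17043521, (some false), 22, 17178703⟩) (.leaf ⟨21, 27529303, (some false), 22, 17715269⟩)))
(.node 2 (.node 1 (.leaf ⟨21, 4808797, (some false), 22, 17440841⟩) (.leaf ⟨22, 17070163, none, 22, 17043521⟩)) (.node 1 (.leaf ⟨22, 17004619, none, 22, 17440841⟩) (.leaf ⟨22, 17197141, none, 22, 17715269⟩)))))
(.node 7 (.node 3 (.node 1 (.leaf ⟨22, 17043521, none, 22, 17578065⟩) (.node 1 (.leaf ⟨22, 17043521, none, 22, 17657923⟩) (.leaf ⟨22, 17043521, none, 22, 17070163⟩)))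
(.node 2 (.node 1 (.leaf ⟨22, 17043521, (some true), 23, 17043521⟩) (.leaf ⟨23, 17043521, (some true), 22, 17043521⟩)) (.node 1 (.leaf ⟨23, 17043521, (some false), 24, 17043521⟩) (.leaf ⟨24, 17043521, (some false), 23, 17127489⟩))))
(.node 4 (.node 2 (.node 1 (.leaf ⟨1, 23672907, none, 24, 17698891⟩) (.leaf ⟨24, 17043521, none, 1, 23685185⟩)) (.node 1 (.leaf ⟨23, 17061961, none, 16, 17059925⟩) (.leaf ⟨23, 17043521, none, 16, 17045583⟩)))
(.node 2 (.node 1 (.leaf ⟨16, 17059919, (some true), 22, 17061971⟩) (.leaf ⟨16, 17043521, (some true), 22, 17059921⟩)) (.node 1 (.leaf ⟨16, 19085399, (some true), 22, 19681363⟩) (.leaf ⟨16, 25385043, (some true), 22, 11352131⟩))))))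
(.node 15 (.node 7 (.node 3 (.node 1 (.leaf ⟨22, 19085399, (some false), 25, 17043521⟩) (.node 1 (.leaf ⟨25, 10971209, (some true), 26, 17043521⟩) (.leaf ⟨26, 17043521, (some true), 25, 10971209⟩)))
(.node 2 (.node 1 (.leaf ⟨26, 27529303, (some false), 27, 17043521⟩) (.leaf ⟨27, 17043521, (some false), 26, 25516101⟩)) (.node 1 (.leaf ⟨1, 6824031, none, 27, 19288157⟩) (.leaf ⟨27, 17043521, none, 1, 21592131⟩))))
(.node 4 (.node 2 (.node 1 (.leaf ⟨26, 29825119, none, 16, 17059925⟩) (.leaf ⟨26, 17043521, none, 16, 27684943⟩)) (.node 1 (.leaf ⟨25, 16984145, none, 22, 19681363⟩) (.leaf ⟨25, 17043521, none, 22, 19621955⟩)))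
(.node 2 (.node 1 (.leaf ⟨22, 25385043, (some true), 28, 17043521⟩) (.leaf ⟨28, 17043521, (some true), 22, 25385043⟩)) (.node 1 (.leaf ⟨22, 10971209, (some true), 28, 11343953⟩) (.leaf ⟨28, 27537481, none, 28, 17043521⟩)))))
(.node 8 (.node 4 (.node 2 (.node 1 (.leaf ⟨28, 17051715, none, 28, 17043521⟩) (.leaf ⟨28, 17659985, none, 28, 11343953⟩)) (.node 1 (.leaf ⟨28, 19757139, none, 28, 11343953⟩) (.leaf ⟨28, 17043521, none, 28, 27539523⟩)))
(.node 2 (.node 1 (.leaf ⟨28, 17043521, none, 28, 25442369⟩) (.leaf ⟨28, 17043521, none, 28, 17051715⟩)) (.node 1 (.leaf ⟨28, 17043521, none, 28, 27537481⟩) (.leaf ⟨28, 4544593, (some true), 29, 17043521⟩))))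
(.node 4 (.node 2 (.node 1 (.leaf ⟨29, 17043521, (some true), 28, 4544593⟩) (.leaf ⟨29, 32125001, (some true), 30, 17043521⟩)) (.node 1 (.leaf ⟨30, 17043521, (some true), 29, 32125001⟩) (.leaf ⟨1, 13377607, none, 30, 21110853⟩)))
(.node 2 (.node 1 (.leaf ⟨30, 17043521, none, 1, 13504579⟩) (.leaf ⟨29, 4683857, none, 21, 25710665⟩)) (.node 1 (.leaf ⟨29, 17043521, none, 21, 23490647⟩) (.leaf ⟨21, 13310023, (some true), 28, 29702233⟩)))))))))

/-- The facts. -/
def caseCFullFactsLLLLR : Tab Fct :=
(.node 122 (.node 61 (.node 30 (.node 15 (.node 7 (.node 3 (.node 1 (.leaf ⟨21, 4808797, (some true), 28, 32002139⟩) (.node 1 (.leaf ⟨21, 10971209, (some true), 28, 13398097⟩) (.leaf ⟨21, 29904967, (some true), 28, 6912089⟩)))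
(.node 2 (.node 1 (.leaf ⟨21, 25385043, (some true), 28, 31799361⟩) (.leaf ⟨21, 13510735, (some true), 28, 29956169⟩)) (.node 1 (.leaf ⟨21, 32131155, (some true), 28, 30167129⟩) (.leaf ⟨21, 4544593, (some true), 28, 4993099⟩))))
(.node 4 (.node 2 (.node 1 (.leaf ⟨21, 19085399, (some true), 28, 23621707⟩) (.leaf ⟨21, 31801425, (some true), 28, 5001281⟩)) (.node 1 (.leaf ⟨21, 11495495, (some true), 28, 15562827⟩) (.leaf ⟨21, 32125001, (some true), 28, 23885889⟩)))
(.node 2 (.node 1 (.leaf ⟨22, 19085399, (some true), 31, 17043521⟩) (.leaf ⟨31, 17043521, (some true), 22, 19085399⟩)) (.node 1 (.leaf ⟨22, 11495495, (some true), 31, 27873369⟩) (.leaf ⟨31, 17649745, none, 31, 17043521⟩)))))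
(.node 7 (.node 3 (.node 1 (.leaf ⟨31, 17061955, none, 31, 17043521⟩) (.node 1 (.leaf ⟨31, 27539545, none, 31, 27873369⟩) (.leaf ⟨31, 27611227, none, 31, 27873369⟩)))
(.node 2 (.node 1 (.leaf ⟨31, 17043521, none, 31, 17633347⟩) (.leaf ⟨31, 17043521, none, 31, 17584193⟩)) (.node 1 (.leaf ⟨31, 17043521, none, 31, 17061955⟩) (.leaf ⟨31, 17043521, none, 31, 17649745⟩))))
(.node 4 (.node 2 (.node 1 (.leaf ⟨31, 25385043, (some true), 32, 17043521⟩) (.leaf ⟨32, 17043521, (some true), 31, 25385043⟩)) (.node 1 (.leaf ⟨32, 4808797, (some true), 33, 17043521⟩) (.leaf ⟨33, 17043521, (some true), 32, 4808797⟩)))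
(.node 2 (.node 1 (.leaf ⟨1, 21903443, none, 33, 16982099⟩) (.leaf ⟨33, 17043521, none, 1, 28258369⟩)) (.node 1 (.leaf ⟨32, 15228997, none, 7, 10971231⟩) (.leaf ⟨32, 17043521, none, 7, 15210567⟩))))))
(.node 15 (.node 7 (.node 3 (.node 1 (.leaf ⟨7, 29904967, (some true), 31, 25825345⟩) (.node 1 (.leaf ⟨7, 13510735, (some true), 31, 25319497⟩) (.leaf ⟨7, 4544593, (some true), 31, 19626067⟩)))
(.node 2 (.node 1 (.leaf ⟨7, 32131155, (some true), 31, 17782867⟩) (.leaf ⟨7, 32125001, (some true), 31, 16988243⟩)) (.node 1 (.leaf ⟨7, 31801425, (some true), 31, 17780803⟩) (.leaf ⟨7, 13310023, (some true), 31, 26105939⟩))))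
(.node 4 (.node 2 (.node 1 (.leaf ⟨7, 4808797, (some true), 31, 8542289⟩) (.leaf ⟨31, 19034201, none, 31, 17780803⟩)) (.node 1 (.leaf ⟨31, 17043521, none, 31, 19097679⟩) (.leaf ⟨31, 11495495, (some true), 22, 26171463⟩)))
(.node 2 (.node 1 (.leaf ⟨4, 6776923, (some false), 34, 17043521⟩) (.leaf ⟨34, 17043521, (some false), 4, 21979225⟩)) (.node 1 (.leaf ⟨4, 13310023, (some false), 34, 17197137⟩) (.leaf ⟨4, 9056345, (some false), 34, 17463383⟩)))))
(.node 8 (.node 4 (.node 2 (.node 1 (.leaf ⟨4, 23928925, (some false), 34, 17651783⟩) (.leaf ⟨4, 10971209, (some false), 34, 17659973⟩)) (.node 1 (.leaf ⟨4, 32125001, (some false), 34, 17260627⟩) (.leaf ⟨4, 7292999, (some false), 34, 17258585⟩)))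
(.node 2 (.node 1 (.leaf ⟨4, 31801425, (some false), 34, 17442885⟩) (.leaf ⟨34, 16984137, none, 34, 17197137⟩)) (.node 1 (.leaf ⟨34, 17649737, none, 34, 17442885⟩) (.leaf ⟨34, 17463365, none, 34, 17260627⟩))))
(.node 4 (.node 2 (.node 1 (.leaf ⟨34, 17043521, none, 34, 17463371⟩) (.leaf ⟨34, 17043521, none, 34, 16932943⟩)) (.node 1 (.leaf ⟨34, 17043521, none, 34, 17190999⟩) (.leaf ⟨34, 19085399, (some false), 35, 17043521⟩)))
(.node 2 (.node 1 (.leaf ⟨35, 19085399, (some false), 36, 17043521⟩) (.leaf ⟨36, 17043521, (some false), 35, 19560517⟩)) (.node 1 (.leaf ⟨4, 10967133, none, 36, 19818591⟩) (.leaf ⟨36, 17043521, none, 4, 23885891⟩)))))))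
(.node 30 (.node 15 (.node 7 (.node 3 (.node 1 (.leaf ⟨35, 19877955, none, 34, 17463383⟩) (.node 1 (.leaf ⟨35, 17043521, none, 34, 19013701⟩) (.leaf ⟨13, 25385043, (some true), 37, 17043521⟩)))
(.node 2 (.node 1 (.leaf ⟨37, 17059919, (some true), 38, 17043521⟩) (.leaf ⟨38, 17043521, (some true), 37, 17059919⟩)) (.node 1 (.leaf ⟨4, 26171483, none, 38, 19148879⟩) (.leaf ⟨38, 17043521, none, 4, 27947103⟩))))
(.node 4 (.node 2 (.node 1 (.leaf ⟨37, 11079759, none, 13, 19814479⟩) (.leaf ⟨37, 17043521, none, 13, 9318465⟩)) (.node 1 (.leaf ⟨13, 9056345, (some false), 39, 17043521⟩) (.leaf ⟨39, 17043521, (some false), 13, 10711131⟩)))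
(.node 2 (.node 1 (.leaf ⟨13, 23928925, (some false), 39, 17576013⟩) (.leaf ⟨13, 13310023, (some false), 39, 17698885⟩)) (.node 1 (.leaf ⟨13, 6776923, (some false), 39, 17705037⟩) (.leaf ⟨39, 17766493, none, 39, 17698885⟩)))))
(.node 7 (.node 3 (.node 1 (.leaf ⟨39, 16937039, none, 39, 17698885⟩) (.node 1 (.leaf ⟨39, 17197149, none, 39, 17705037⟩) (.leaf ⟨39, 17461335, none, 39, 17698885⟩)))
(.node 2 (.node 1 (.leaf ⟨39, 17043521, none, 39, 16932947⟩) (.leaf ⟨39, 17043521, none, 39, 17584209⟩)) (.node 1 (.leaf ⟨39, 17043521, none, 39, 16916575⟩) (.leaf ⟨39, 17043521, none, 39, 17111117⟩))))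
(.node 4 (.node 2 (.node 1 (.leaf ⟨13, 17043521, (some false), 40, 17043521⟩) (.leaf ⟨13, 19085399, (some false), 40, 17764423⟩)) (.node 1 (.leaf ⟨40, 17059919, (some true), 41, 17043521⟩) (.leaf ⟨41, 17043521, (some true), 40, 17059919⟩)))
(.node 2 (.node 1 (.leaf ⟨41, 17043521, (some false), 42, 17043521⟩) (.leaf ⟨42, 17043521, (some false), 41, 17127489⟩)) (.node 1 (.leaf ⟨4, 6891589, none, 42, 17717313⟩) (.leaf ⟨42, 17043521, none, 4, 21573719⟩))))))
(.node 15 (.node 7 (.node 3 (.node 1 (.leaf ⟨41, 17242189, none, 7, 17043521⟩) (.node 1 (.leaf ⟨41, 17043521, none, 7, 17176651⟩) (.leaf ⟨40, 11341909, none, 13, 8935491⟩)))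
(.node 2 (.node 1 (.leaf ⟨40, 17043521, none, 13, 19691615⟩) (.leaf ⟨39, 19085399, (some true), 43, 17043521⟩)) (.node 1 (.leaf ⟨43, 17043521, (some true), 39, 19085399⟩) (.leaf ⟨43, 19085399, (some false), 44, 17043521⟩))))
(.node 4 (.node 2 (.node 1 (.leaf ⟨44, 17043521, (some false), 43, 19560517⟩) (.leaf ⟨4, 23347291, none, 44, 16982081⟩)) (.node 1 (.leaf ⟨44, 17043521, none, 4, 25313367⟩) (.leaf ⟨43, 19818561, none, 34, 17442885⟩)))
(.node 2 (.node 1 (.leaf ⟨43, 17043521, none, 34, 19814479⟩) (.leaf ⟨34, 19085399, (some true), 39, 19624031⟩)) (.node 1 (.leaf ⟨34, 10971209, (some true), 39, 25309263⟩) (.leaf ⟨34, 17059919, (some true), 39, 17780831⟩)))))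
(.node 8 (.node 4 (.node 2 (.node 1 (.leaf ⟨34, 25385043, (some true), 39, 11145311⟩) (.leaf ⟨34, 11495495, (some true), 39, 25653343⟩)) (.node 1 (.leaf ⟨34, 17043521, (some true), 39, 17698885⟩) (.leaf ⟨39, 19085399, (some false), 45, 17043521⟩)))
(.node 2 (.node 1 (.leaf ⟨45, 25385043, (some true), 46, 17043521⟩) (.leaf ⟨46, 17043521, (some true), 45, 25385043⟩)) (.node 1 (.leaf ⟨46, 29904967, (some false), 47, 17043521⟩) (.leaf ⟨47, 17043521, (some false), 46, 13113429⟩))))
(.node 4 (.node 2 (.node 1 (.leaf ⟨4, 9324639, none, 47, 19757127⟩) (.leaf ⟨47, 17043521, none, 4, 25378891⟩)) (.node 1 (.leaf ⟨46, 27799639, none, 34, 17442885⟩) (.leaf ⟨46, 17043521, none, 34, 9134155⟩)))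
(.node 2 (.node 1 (.leaf ⟨45, 27922507, none, 39, 25309263⟩) (.leaf ⟨45, 17043521, none, 39, 19032133⟩)) (.node 1 (.leaf ⟨13, 11495495, (some true), 48, 17043521⟩) (.leaf ⟨13, 17059919, (some true), 48, 11294787⟩))))))))
(.node 61 (.node 30 (.node 15 (.node 7 (.node 3 (.node 1 (.leaf ⟨48, 13310023, (some true), 49, 17043521⟩) (.node 1 (.leaf ⟨49, 17043521, (some true), 48, 13310023⟩) (.leaf ⟨4, 17176669, none, 49, 21571665⟩)))
(.node 2 (.node 1 (.leaf ⟨49, 17043521, none, 4, 11427933⟩) (.leaf ⟨48, 29577295, none, 13, 26103877⟩)) (.node 1 (.leaf ⟨48, 17043521, none, 13, 27791447⟩) (.leaf ⟨39, 11495495, (some true), 50, 17043521⟩))))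
(.node 4 (.node 2 (.node 1 (.leaf ⟨50, 17043521, (some true), 39, 11495495⟩) (.leaf ⟨39, 17059919, (some true), 50, 11368521⟩)) (.node 1 (.leaf ⟨39, 10971209, (some true), 50, 17043529⟩) (.leaf ⟨39, 17043521, (some true), 50, 11350089⟩)))
(.node 2 (.node 1 (.leaf ⟨50, 8919107, none, 50, 17043521⟩) (.leaf ⟨50, 11366473, none, 50, 11350089⟩)) (.node 1 (.leaf ⟨50, 19206219, none, 50, 17043529⟩) (.leaf ⟨50, 17043521, none, 50, 19206211⟩)))))
(.node 7 (.node 3 (.node 1 (.leaf ⟨50, 17043521, none, 50, 17068097⟩) (.node 1 (.leaf ⟨50, 17043521, none, 50, 8919107⟩) (.leaf ⟨50, 13510735, (some true), 51, 17043521⟩)))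
(.node 2 (.node 1 (.leaf ⟨51, 17043521, (some true), 50, 13510735⟩) (.leaf ⟨51, 10971209, (some true), 52, 17043521⟩)) (.node 1 (.leaf ⟨52, 17043521, (some true), 51, 10971209⟩) (.leaf ⟨4, 21893201, none, 52, 6975557⟩))))
(.node 4 (.node 2 (.node 1 (.leaf ⟨52, 17043521, none, 4, 8538185⟩) (.leaf ⟨51, 19882073, none, 13, 28194909⟩)) (.node 1 (.leaf ⟨51, 17043521, none, 13, 6645839⟩) (.leaf ⟨13, 4808797, (some true), 50, 5120093⟩)))
(.node 2 (.node 1 (.leaf ⟨13, 29904967, (some true), 50, 32204885⟩) (.leaf ⟨13, 4544593, (some true), 50, 21973061⟩)) (.node 1 (.leaf ⟨13, 31801425, (some true), 50, 21973069⟩) (.leaf ⟨13, 32131155, (some true), 50, 6768717⟩))))))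
(.node 15 (.node 7 (.node 3 (.node 1 (.leaf ⟨13, 32125001, (some true), 50, 21971013⟩) (.node 1 (.leaf ⟨13, 13310023, (some true), 50, 21194839⟩) (.leaf ⟨13, 13510735, (some true), 50, 30040141⟩)))
(.node 2 (.node 1 (.leaf ⟨50, 14901319, none, 50, 21973061⟩) (.leaf ⟨50, 17043521, none, 50, 23492675⟩)) (.node 1 (.leaf ⟨50, 32125001, (some true), 39, 28002373⟩) (.leaf ⟨7, 23928925, (some false), 53, 17043521⟩))))
(.node 4 (.node 2 (.node 1 (.leaf ⟨53, 17043521, (some false), 7, 4991053⟩) (.leaf ⟨7, 27529303, (some false), 53, 17526877⟩)) (.node 1 (.leaf ⟨7, 29904967, (some false), 53, 17180739⟩) (.leaf ⟨7, 13310023, (some false), 53, 16916547⟩)))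
(.node 2 (.node 1 (.leaf ⟨7, 13510735, (some false), 53, 16934999⟩) (.leaf ⟨7, 4808797, (some false), 53, 17782851⟩)) (.node 1 (.leaf ⟨7, 9056345, (some false), 53, 17592405⟩) (.leaf ⟨7, 6776923, (some false), 53, 17111125⟩)))))
(.node 8 (.node 4 (.node 2 (.node 1 (.leaf ⟨53, 17262661, none, 53, 16934999⟩) (.leaf ⟨53, 17109063, none, 53, 17043521⟩)) (.node 1 (.leaf ⟨53, 17715291, none, 53, 17111125⟩) (.leaf ⟨53, 17043521, none, 53, 17258587⟩)))
(.node 2 (.node 1 (.leaf ⟨53, 17043521, none, 53, 17109063⟩) (.leaf ⟨53, 17043521, none, 53, 17698899⟩)) (.node 1 (.leaf ⟨53, 19085399, (some false), 54, 17043521⟩) (.leaf ⟨54, 19085399, (some false), 55, 17043521⟩))))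
(.node 4 (.node 2 (.node 1 (.leaf ⟨55, 17043521, (some false), 54, 19560517⟩) (.leaf ⟨7, 25827411, none, 55, 19816537⟩)) (.node 1 (.leaf ⟨55, 17043521, none, 7, 5191765⟩) (.leaf ⟨54, 19691589, none, 53, 16916547⟩)))
(.node 2 (.node 1 (.leaf ⟨54, 17043521, none, 53, 19359821⟩) (.leaf ⟨31, 17043521, (some false), 56, 17043521⟩)) (.node 1 (.leaf ⟨56, 17043521, (some false), 31, 17127489⟩) (.leaf ⟨31, 19085399, (some false), 56, 17782873⟩)))))))
(.node 30 (.node 15 (.node 7 (.node 3 (.node 1 (.leaf ⟨13, 27529303, (some false), 57, 17043521⟩) (.node 1 (.leaf ⟨57, 17043521, (some false), 13, 25516101⟩) (.leaf ⟨13, 13510735, (some false), 57, 16986191⟩)))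
(.node 2 (.node 1 (.leaf ⟨13, 4808797, (some false), 57, 17053777⟩) (.leaf ⟨13, 29904967, (some false), 57, 17193043⟩)) (.node 1 (.leaf ⟨13, 10971209, (some false), 57, 16984155⟩) (.leaf ⟨13, 7292999, (some false), 57, 17703003⟩))))
(.node 4 (.node 2 (.node 1 (.leaf ⟨13, 32125001, (some false), 57, 17700945⟩) (.leaf ⟨13, 31801425, (some false), 57, 17528903⟩)) (.node 1 (.leaf ⟨57, 17446987, none, 57, 17700945⟩) (.leaf ⟨57, 17524829, none, 57, 17043521⟩)))
(.node 2 (.node 1 (.leaf ⟨57, 17111119, none, 57, 17043521⟩) (.leaf ⟨57, 16988247, none, 57, 17528903⟩)) (.node 1 (.leaf ⟨57, 17043521, none, 57, 17584209⟩) (.leaf ⟨57, 17043521, none, 57, 17111119⟩)))))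
(.node 7 (.node 3 (.node 1 (.leaf ⟨57, 17043521, none, 57, 17524829⟩) (.node 1 (.leaf ⟨57, 17043521, none, 57, 17524813⟩) (.leaf ⟨57, 19085399, (some true), 58, 17043521⟩)))
(.node 2 (.node 1 (.leaf ⟨58, 17043521, (some true), 57, 19085399⟩) (.leaf ⟨58, 19085399, (some false), 59, 17043521⟩)) (.node 1 (.leaf ⟨59, 17043521, (some false), 58, 19560517⟩) (.leaf ⟨7, 8869963, none, 59, 17721419⟩))))
(.node 4 (.node 2 (.node 1 (.leaf ⟨59, 17043521, none, 7, 23949377⟩) (.leaf ⟨58, 19861587, none, 53, 17592405⟩)) (.node 1 (.leaf ⟨58, 17043521, none, 53, 19343431⟩) (.leaf ⟨53, 11495495, (some true), 57, 25382999⟩)))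
(.node 2 (.node 1 (.leaf ⟨53, 10971209, (some true), 57, 25849949⟩) (.leaf ⟨16, 11495495, (some true), 60, 17043521⟩)) (.node 1 (.leaf ⟨60, 17043521, (some true), 16, 11495495⟩) (.leaf ⟨16, 10971209, (some true), 60, 11081811⟩))))))
(.node 15 (.node 7 (.node 3 (.node 1 (.leaf ⟨60, 11089995, none, 60, 11081811⟩) (.node 1 (.leaf ⟨60, 11098179, none, 60, 11081811⟩) (.leaf ⟨60, 17043523, none, 60, 17043521⟩)))
(.node 2 (.node 1 (.leaf ⟨60, 11098195, none, 60, 11081811⟩) (.leaf ⟨60, 17059929, none, 60, 17043521⟩)) (.node 1 (.leaf ⟨60, 17043537, none, 60, 17043521⟩) (.leaf ⟨60, 17043521, none, 60, 17043537⟩))))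
(.node 4 (.node 2 (.node 1 (.leaf ⟨60, 17043521, none, 60, 17059929⟩) (.leaf ⟨60, 17043521, none, 60, 17053761⟩)) (.node 1 (.leaf ⟨60, 17043521, none, 60, 17043523⟩) (.leaf ⟨60, 17043521, none, 60, 17053771⟩)))
(.node 2 (.node 1 (.leaf ⟨60, 17043521, none, 60, 17061977⟩) (.leaf ⟨60, 13510735, (some false), 61, 17043521⟩)) (.node 1 (.leaf ⟨61, 17043521, (some false), 60, 29761631⟩) (.leaf ⟨7, 10897485, none, 61, 17125451⟩)))))
(.node 8 (.node 4 (.node 2 (.node 1 (.leaf ⟨61, 17043521, none, 7, 9390167⟩) (.leaf ⟨7, 7292999, (some false), 60, 7020623⟩)) (.node 1 (.leaf ⟨7, 10971209, (some false), 60, 31936587⟩) (.leaf ⟨7, 31801425, (some false), 60, 27611215⟩)))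
(.node 2 (.node 1 (.leaf ⟨7, 32125001, (some false), 60, 9197633⟩) (.leaf ⟨31, 13310023, (some false), 62, 17043521⟩)) (.node 1 (.leaf ⟨62, 17043521, (some false), 31, 29511765⟩) (.leaf ⟨31, 6776923, (some false), 62, 17004625⟩))))
(.node 4 (.node 2 (.node 1 (.leaf ⟨31, 9056345, (some false), 62, 17715285⟩) (.leaf ⟨31, 23928925, (some false), 62, 16918597⟩)) (.node 1 (.leaf ⟨62, 16984151, none, 62, 17004625⟩) (.leaf ⟨62, 17522759, none, 62, 17004625⟩)))
(.node 2 (.node 1 (.leaf ⟨62, 17043521, none, 62, 17592393⟩) (.leaf ⟨62, 17043521, none, 62, 17070153⟩)) (.node 1 (.leaf ⟨62, 11495495, (some true), 63, 17043521⟩) (.leaf ⟨63, 17043521, (some true), 62, 11495495⟩)))))))))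

/-- The facts. -/
def caseCFullFactsLLLL : Tab Fct := .node 244 caseCFullFactsLLLLL caseCFullFactsLLLLR

/-- The facts. -/
def caseCFullFactsLLLRL : Tab Fct :=
(.node 122 (.node 61 (.node 30 (.node 15 (.node 7 (.node 3 (.node 1 (.leaf ⟨62, 25385043, (some true), 63, 27816011⟩) (.node 1 (.leaf ⟨63, 32125001, (some true), 64, 17043521⟩) (.leaf ⟨64, 17043521, (some true), 63, 32125001⟩)))
(.node 2 (.node 1 (.leaf ⟨64, 32125001, (some true), 65, 17043521⟩) (.leaf ⟨65, 17043521, (some true), 64, 32125001⟩)) (.node 1 (.leaf ⟨7, 6975583, none, 65, 4929603⟩) (.leaf ⟨65, 17043521, none, 7, 19230813⟩))))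
(.node 4 (.node 2 (.node 1 (.leaf ⟨64, 30093401, none, 13, 19757121⟩) (.leaf ⟨64, 17043521, none, 13, 23480399⟩)) (.node 1 (.leaf ⟨63, 4943937, none, 50, 30040141⟩) (.leaf ⟨63, 17043521, none, 50, 4542559⟩)))
(.node 2 (.node 1 (.leaf ⟨50, 29904967, (some true), 62, 8865861⟩) (.leaf ⟨50, 4808797, (some true), 62, 8536143⟩)) (.node 1 (.leaf ⟨50, 11495495, (some true), 62, 8546383⟩) (.leaf ⟨50, 19085399, (some true), 62, 9322581⟩)))))
(.node 7 (.node 3 (.node 1 (.leaf ⟨57, 19085399, (some false), 66, 17043521⟩) (.node 1 (.leaf ⟨66, 19085399, (some false), 67, 17043521⟩) (.leaf ⟨67, 17043521, (some false), 66, 19560517⟩)))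
(.node 2 (.node 1 (.leaf ⟨13, 21827663, none, 67, 19341381⟩) (.leaf ⟨67, 17043521, none, 13, 30029895⟩)) (.node 1 (.leaf ⟨66, 19099725, none, 57, 17700945⟩) (.leaf ⟨66, 17043521, none, 57, 19013701⟩))))
(.node 4 (.node 2 (.node 1 (.leaf ⟨50, 32131155, (some true), 68, 17043521⟩) (.leaf ⟨68, 17059919, (some true), 69, 17043521⟩)) (.node 1 (.leaf ⟨69, 17043521, (some true), 68, 17059919⟩) (.leaf ⟨13, 13373533, none, 69, 11016285⟩)))
(.node 2 (.node 1 (.leaf ⟨69, 17043521, none, 13, 21829697⟩) (.leaf ⟨68, 17569887, none, 50, 21973061⟩)) (.node 1 (.leaf ⟨68, 17043521, none, 50, 23480395⟩) (.leaf ⟨50, 13510735, (some false), 70, 17043521⟩))))))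
(.node 15 (.node 7 (.node 3 (.node 1 (.leaf ⟨50, 27529303, (some false), 70, 17119325⟩) (.node 1 (.leaf ⟨50, 31801425, (some false), 71, 17043521⟩) (.leaf ⟨71, 17043521, (some false), 50, 14958673⟩)))
(.node 2 (.node 1 (.leaf ⟨50, 9056345, (some false), 71, 17702989⟩) (.leaf ⟨50, 6776923, (some false), 71, 17594463⟩)) (.node 1 (.leaf ⟨50, 7292999, (some false), 71, 17643589⟩) (.leaf ⟨71, 17594437, none, 71, 17643589⟩))))
(.node 4 (.node 2 (.node 1 (.leaf ⟨71, 17260637, none, 71, 17702989⟩) (.leaf ⟨71, 17043521, none, 71, 17649745⟩)) (.node 1 (.leaf ⟨71, 17043521, none, 71, 17125441⟩) (.leaf ⟨70, 25385043, (some true), 72, 17043521⟩)))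
(.node 2 (.node 1 (.leaf ⟨72, 17043521, (some true), 70, 25385043⟩) (.leaf ⟨72, 4808797, (some false), 73, 17043521⟩)) (.node 1 (.leaf ⟨73, 17043521, (some false), 72, 23685197⟩) (.leaf ⟨13, 21968983, none, 73, 17195085⟩)))))
(.node 8 (.node 4 (.node 2 (.node 1 (.leaf ⟨73, 17043521, none, 13, 13445191⟩) (.leaf ⟨72, 29976671, none, 39, 17698885⟩)) (.node 1 (.leaf ⟨72, 17043521, none, 39, 11032645⟩) (.leaf ⟨70, 17193025, none, 50, 11368521⟩)))
(.node 2 (.node 1 (.leaf ⟨70, 17043521, none, 50, 29780063⟩) (.leaf ⟨71, 19085399, (some false), 74, 17043521⟩)) (.node 1 (.leaf ⟨74, 17043521, (some true), 75, 17043521⟩) (.leaf ⟨75, 17043521, (some true), 74, 17043521⟩))))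
(.node 4 (.node 2 (.node 1 (.leaf ⟨75, 19085399, (some false), 76, 17043521⟩) (.leaf ⟨76, 17043521, (some false), 75, 19560517⟩)) (.node 1 (.leaf ⟨13, 23668819, none, 76, 19605595⟩) (.leaf ⟨76, 17043521, none, 13, 8917063⟩)))
(.node 2 (.node 1 (.leaf ⟨75, 19621975, none, 57, 17193043⟩) (.leaf ⟨75, 17043521, none, 57, 19275865⟩)) (.node 1 (.leaf ⟨57, 10971209, (some true), 74, 27807811⟩) (.leaf ⟨57, 11495495, (some true), 74, 27873355⟩)))))))
(.node 30 (.node 15 (.node 7 (.node 3 (.node 1 (.leaf ⟨57, 17043521, (some true), 74, 19730515⟩) (.node 1 (.leaf ⟨57, 17059919, (some true), 74, 19667027⟩) (.leaf ⟨71, 17043521, (some true), 77, 17043521⟩)))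
(.node 2 (.node 1 (.leaf ⟨77, 19085399, (some true), 78, 17043521⟩) (.leaf ⟨78, 17043521, (some true), 77, 19085399⟩)) (.node 1 (.leaf ⟨78, 25385043, (some true), 79, 17043521⟩) (.leaf ⟨79, 17043521, (some true), 78, 25385043⟩))))
(.node 4 (.node 2 (.node 1 (.leaf ⟨13, 14905439, none, 79, 4808773⟩) (.leaf ⟨79, 17043521, none, 13, 29970503⟩)) (.node 1 (.leaf ⟨78, 26097737, none, 50, 32204885⟩) (.leaf ⟨78, 17043521, none, 50, 11159625⟩)))
(.node 2 (.node 1 (.leaf ⟨50, 10971209, (some true), 77, 8542277⟩) (.leaf ⟨50, 25385043, (some true), 77, 27750487⟩)) (.node 1 (.leaf ⟨50, 4544593, (some true), 77, 8812629⟩) (.leaf ⟨50, 31801425, (some true), 77, 19339335⟩)))))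
(.node 7 (.node 3 (.node 1 (.leaf ⟨71, 25385043, (some true), 80, 17043521⟩) (.node 1 (.leaf ⟨80, 17043521, (some true), 71, 25385043⟩) (.leaf ⟨80, 4808797, (some true), 81, 17043521⟩)))
(.node 2 (.node 1 (.leaf ⟨81, 17043521, (some true), 80, 4808797⟩) (.leaf ⟨81, 19085399, (some true), 82, 17043521⟩)) (.node 1 (.leaf ⟨82, 17043521, (some true), 81, 19085399⟩) (.leaf ⟨13, 21588061, none, 82, 17002577⟩))))
(.node 4 (.node 2 (.node 1 (.leaf ⟨82, 17043521, none, 13, 27865173⟩) (.leaf ⟨81, 27922519, none, 48, 11294787⟩)) (.node 1 (.leaf ⟨81, 27922519, none, 13, 17127517⟩) (.leaf ⟨81, 17043521, none, 13, 13510749⟩)))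
(.node 2 (.node 1 (.leaf ⟨80, 23683151, none, 50, 30040141⟩) (.leaf ⟨80, 17043521, none, 50, 29954115⟩)) (.node 1 (.leaf ⟨71, 10901593, none, 77, 8812629⟩) (.leaf ⟨77, 17043521, none, 71, 19157065⟩))))))
(.node 15 (.node 7 (.node 3 (.node 1 (.leaf ⟨16, 32125001, (some false), 83, 17043521⟩) (.node 1 (.leaf ⟨16, 31801425, (some false), 83, 17068107⟩) (.leaf ⟨83, 17061979, none, 83, 17068107⟩)))
(.node 2 (.node 1 (.leaf ⟨83, 17045571, none, 83, 17068107⟩) (.leaf ⟨83, 17059905, none, 83, 17043521⟩)) (.node 1 (.leaf ⟨83, 17053777, none, 83, 17068107⟩) (.leaf ⟨83, 17053761, none, 83, 17043521⟩))))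
(.node 4 (.node 2 (.node 1 (.leaf ⟨83, 17061953, none, 83, 17043521⟩) (.leaf ⟨83, 17043521, none, 83, 17061953⟩)) (.node 1 (.leaf ⟨83, 17043521, none, 83, 17053761⟩) (.leaf ⟨83, 17043521, none, 83, 17061979⟩)))
(.node 2 (.node 1 (.leaf ⟨83, 17043521, none, 83, 17059905⟩) (.leaf ⟨83, 17043521, none, 83, 17070153⟩)) (.node 1 (.leaf ⟨83, 17043521, none, 83, 17053777⟩) (.leaf ⟨83, 19085399, (some false), 84, 17043521⟩)))))
(.node 8 (.node 4 (.node 2 (.node 1 (.leaf ⟨84, 17043521, (some false), 83, 19560517⟩) (.leaf ⟨84, 17240147, none, 84, 17043521⟩)) (.node 1 (.leaf ⟨84, 17567815, none, 84, 17043521⟩) (.leaf ⟨84, 17633345, none, 84, 17043521⟩)))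
(.node 2 (.node 1 (.leaf ⟨84, 17240151, none, 84, 17043521⟩) (.leaf ⟨84, 17043521, none, 84, 17240151⟩)) (.node 1 (.leaf ⟨84, 17043521, none, 84, 17633345⟩) (.leaf ⟨84, 17043521, none, 84, 17567815⟩))))
(.node 4 (.node 2 (.node 1 (.leaf ⟨84, 17043521, none, 84, 17240147⟩) (.leaf ⟨84, 19085399, (some false), 85, 17043521⟩)) (.node 1 (.leaf ⟨85, 17043521, (some false), 84, 19560517⟩) (.leaf ⟨16, 4675677, none, 85, 19083341⟩)))
(.node 2 (.node 1 (.leaf ⟨85, 17043521, none, 16, 10709075⟩) (.leaf ⟨16, 10971209, (some false), 84, 19691589⟩)) (.node 1 (.leaf ⟨16, 7292999, (some false), 84, 19746901⟩) (.leaf ⟨16, 29904967, (some false), 86, 17043521⟩))))))))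
(.node 61 (.node 30 (.node 15 (.node 7 (.node 3 (.node 1 (.leaf ⟨86, 17043521, (some false), 16, 13113429⟩) (.node 1 (.leaf ⟨16, 4808797, (some false), 86, 17446999⟩) (.leaf ⟨16, 27529303, (some false), 86, 17176663⟩)))
(.node 2 (.node 1 (.leaf ⟨16, 13510735, (some false), 86, 17133659⟩) (.leaf ⟨16, 13310023, (some false), 86, 17109081⟩)) (.node 1 (.leaf ⟨16, 6776923, (some false), 86, 16932951⟩) (.leaf ⟨16, 9056345, (some false), 86, 17764427⟩))))
(.node 4 (.node 2 (.node 1 (.leaf ⟨16, 23928925, (some false), 86, 16986197⟩) (.leaf ⟨86, 17004627, none, 86, 16986197⟩)) (.node 1 (.leaf ⟨86, 17053777, none, 86, 17043521⟩) (.leaf ⟨86, 17195089, none, 86, 17764427⟩)))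
(.node 2 (.node 1 (.leaf ⟨86, 17043521, none, 86, 17657927⟩) (.leaf ⟨86, 17043521, none, 86, 17053777⟩)) (.node 1 (.leaf ⟨86, 17043521, none, 86, 17061961⟩) (.leaf ⟨86, 19085399, (some false), 87, 17043521⟩)))))
(.node 7 (.node 3 (.node 1 (.leaf ⟨87, 19085399, (some false), 88, 17043521⟩) (.node 1 (.leaf ⟨88, 17043521, (some false), 87, 19560517⟩) (.leaf ⟨16, 25696347, none, 88, 19664961⟩)))
(.node 2 (.node 1 (.leaf ⟨88, 17043521, none, 16, 8984651⟩) (.leaf ⟨87, 19877955, none, 86, 17446999⟩)) (.node 1 (.leaf ⟨87, 17043521, none, 86, 19032133⟩) (.leaf ⟨16, 4808797, (some true), 89, 17043521⟩))))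
(.node 4 (.node 2 (.node 1 (.leaf ⟨16, 4544593, (some true), 89, 27865163⟩) (.leaf ⟨16, 31801425, (some true), 89, 27859011⟩)) (.node 1 (.leaf ⟨16, 29904967, (some true), 89, 19746883⟩) (.leaf ⟨16, 32125001, (some true), 89, 27875395⟩)))
(.node 2 (.node 1 (.leaf ⟨16, 13510735, (some true), 89, 19740755⟩) (.leaf ⟨16, 13310023, (some true), 89, 11284545⟩)) (.node 1 (.leaf ⟨16, 32131155, (some true), 89, 27801691⟩) (.leaf ⟨89, 19150923, none, 89, 17043521⟩))))))
(.node 15 (.node 7 (.node 3 (.node 1 (.leaf ⟨89, 27883595, none, 89, 27865163⟩) (.node 1 (.leaf ⟨89, 19738707, none, 89, 19740755⟩) (.leaf ⟨89, 8925259, none, 89, 27801691⟩)))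
(.node 2 (.node 1 (.leaf ⟨89, 17043521, none, 89, 27531337⟩) (.leaf ⟨89, 17043521, none, 89, 17045569⟩)) (.node 1 (.leaf ⟨89, 17043521, none, 89, 17051713⟩) (.leaf ⟨89, 17043521, none, 89, 19150923⟩))))
(.node 4 (.node 2 (.node 1 (.leaf ⟨89, 17043521, (some false), 92, 17043521⟩) (.leaf ⟨92, 17043521, (some false), 89, 17127489⟩)) (.node 1 (.leaf ⟨89, 27529303, (some false), 92, 17569881⟩) (.leaf ⟨89, 13510735, (some false), 92, 17174617⟩)))
(.node 2 (.node 1 (.leaf ⟨89, 19085399, (some false), 92, 17051713⟩) (.leaf ⟨92, 17584193, none, 92, 17043521⟩)) (.node 1 (.leaf ⟨92, 17524819, none, 92, 17043521⟩) (.leaf ⟨92, 17043521, none, 92, 17524819⟩)))))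
(.node 8 (.node 4 (.node 2 (.node 1 (.leaf ⟨92, 17043521, none, 92, 17584193⟩) (.leaf ⟨22, 4808797, (some false), 93, 17043521⟩)) (.node 1 (.leaf ⟨93, 17043521, (some false), 22, 23685197⟩) (.leaf ⟨22, 27529303, (some false), 93, 17643587⟩)))
(.node 2 (.node 1 (.leaf ⟨22, 29904967, (some false), 93, 17719379⟩) (.leaf ⟨22, 13510735, (some false), 93, 17440845⟩)) (.node 1 (.leaf ⟨93, 17119311, none, 93, 17643587⟩) (.leaf ⟨93, 17702999, none, 93, 17440845⟩))))
(.node 4 (.node 2 (.node 1 (.leaf ⟨93, 17174593, none, 93, 17043521⟩) (.leaf ⟨93, 17043521, none, 93, 17174593⟩)) (.node 1 (.leaf ⟨93, 17043521, none, 93, 17174615⟩) (.leaf ⟨93, 17043521, none, 93, 17567815⟩)))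
(.node 2 (.node 1 (.leaf ⟨93, 11495495, (some true), 94, 17043521⟩) (.leaf ⟨94, 17043521, (some true), 93, 11495495⟩)) (.node 1 (.leaf ⟨94, 13510735, (some false), 95, 17043521⟩) (.leaf ⟨95, 17043521, (some false), 94, 29761631⟩)))))))
(.node 30 (.node 15 (.node 7 (.node 3 (.node 1 (.leaf ⟨16, 11145293, none, 95, 17045577⟩) (.node 1 (.leaf ⟨95, 17043521, none, 16, 11212871⟩) (.leaf ⟨94, 11368539, none, 86, 17109081⟩)))
(.node 2 (.node 1 (.leaf ⟨94, 17043521, none, 86, 25702467⟩) (.leaf ⟨86, 17043521, (some true), 93, 17180741⟩)) (.node 1 (.leaf ⟨86, 17059919, (some true), 93, 17719391⟩) (.leaf ⟨93, 19085399, (some false), 96, 17043521⟩))))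
(.node 4 (.node 2 (.node 1 (.leaf ⟨96, 17043521, (some true), 97, 17043521⟩) (.leaf ⟨97, 17043521, (some true), 96, 17043521⟩)) (.node 1 (.leaf ⟨97, 19085399, (some false), 98, 17043521⟩) (.leaf ⟨98, 17043521, (some false), 97, 19560517⟩)))
(.node 2 (.node 1 (.leaf ⟨16, 27662413, none, 98, 19097681⟩) (.leaf ⟨98, 17043521, none, 16, 5185613⟩)) (.node 1 (.leaf ⟨97, 19036241, none, 86, 16932951⟩) (.leaf ⟨97, 17043521, none, 86, 19150923⟩)))))
(.node 7 (.node 3 (.node 1 (.leaf ⟨96, 19206211, none, 93, 17180741⟩) (.node 1 (.leaf ⟨96, 17043521, none, 93, 19341383⟩) (.leaf ⟨93, 17059919, (some true), 99, 17043521⟩)))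
(.node 2 (.node 1 (.leaf ⟨99, 17043521, (some true), 93, 17059919⟩) (.leaf ⟨93, 19085399, (some true), 99, 19230801⟩)) (.node 1 (.leaf ⟨93, 17043521, (some true), 99, 17070161⟩) (.leaf ⟨99, 17592403, none, 99, 17070161⟩))))
(.node 4 (.node 2 (.node 1 (.leaf ⟨99, 17043521, none, 99, 17569859⟩) (.leaf ⟨99, 11495495, (some true), 100, 17043521⟩)) (.node 1 (.leaf ⟨100, 17043521, (some true), 99, 11495495⟩) (.leaf ⟨100, 32131155, (some true), 101, 17043521⟩)))
(.node 2 (.node 1 (.leaf ⟨101, 17043521, (some true), 100, 32131155⟩) (.leaf ⟨16, 27531349, none, 101, 21178451⟩)) (.node 1 (.leaf ⟨101, 17043521, none, 16, 31662153⟩) (.leaf ⟨100, 31662153, none, 89, 27801691⟩))))))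
(.node 15 (.node 7 (.node 3 (.node 1 (.leaf ⟨100, 17043521, none, 89, 28192863⟩) (.node 1 (.leaf ⟨89, 19085399, (some true), 99, 17705037⟩) (.leaf ⟨89, 32125001, (some true), 99, 26165327⟩)))
(.node 2 (.node 1 (.leaf ⟨89, 32131155, (some true), 99, 25567327⟩) (.leaf ⟨89, 11495495, (some true), 99, 27478085⟩)) (.node 1 (.leaf ⟨89, 25385043, (some true), 99, 10707039⟩) (.leaf ⟨89, 13310023, (some true), 99, 10971215⟩))))
(.node 4 (.node 2 (.node 1 (.leaf ⟨89, 13510735, (some true), 99, 19540037⟩) (.leaf ⟨89, 10971209, (some true), 99, 25315399⟩)) (.node 1 (.leaf ⟨92, 11495495, (some true), 102, 17043521⟩) (.leaf ⟨102, 17043521, (some true), 92, 11495495⟩)))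
(.node 2 (.node 1 (.leaf ⟨92, 17059919, (some true), 102, 25440329⟩) (.leaf ⟨102, 13310023, (some true), 103, 17043521⟩)) (.node 1 (.leaf ⟨103, 17043521, (some true), 102, 13310023⟩) (.leaf ⟨103, 31801425, (some true), 104, 17043521⟩)))))
(.node 8 (.node 4 (.node 2 (.node 1 (.leaf ⟨104, 17043521, (some true), 103, 31801425⟩) (.leaf ⟨16, 12736585, none, 104, 4925505⟩)) (.node 1 (.leaf ⟨104, 17043521, none, 16, 23601223⟩) (.leaf ⟨103, 30165067, none, 89, 17043521⟩)))
(.node 2 (.node 1 (.leaf ⟨103, 17043521, none, 89, 6774861⟩) (.leaf ⟨102, 29757527, none, 99, 19540037⟩)) (.node 1 (.leaf ⟨102, 17043521, none, 99, 28194907⟩) (.leaf ⟨99, 25385043, (some true), 92, 9398359⟩))))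
(.node 4 (.node 2 (.node 1 (.leaf ⟨21, 7292999, (some false), 105, 17043521⟩) (.leaf ⟨105, 17043521, (some false), 21, 21448789⟩)) (.node 1 (.leaf ⟨21, 32125001, (some false), 105, 17135701⟩) (.leaf ⟨21, 13310023, (some false), 105, 17240143⟩)))
(.node 2 (.node 1 (.leaf ⟨21, 10971209, (some false), 105, 17111131⟩) (.leaf ⟨21, 23928925, (some false), 105, 17444937⟩)) (.node 1 (.leaf ⟨21, 31801425, (some false), 105, 17459293⟩) (.leaf ⟨21, 9056345, (some false), 105, 17633375⟩)))))))))

/-- The facts. -/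
def caseCFullFactsLLLRR : Tab Fct :=
(.node 122 (.node 61 (.node 30 (.node 15 (.node 7 (.node 3 (.node 1 (.leaf ⟨105, 17070171, none, 105, 17135701⟩) (.node 1 (.leaf ⟨21, 6776923, (some false), 105, 17442897⟩) (.leaf ⟨105, 17193037, none, 105, 17442897⟩)))
(.node 2 (.node 1 (.leaf ⟨105, 17721439, none, 105, 17459293⟩) (.leaf ⟨105, 17043521, none, 105, 17764419⟩)) (.node 1 (.leaf ⟨105, 17043521, none, 105, 17002585⟩) (.leaf ⟨105, 17043521, none, 105, 17109077⟩))))
(.node 4 (.node 2 (.node 1 (.leaf ⟨105, 19085399, (some false), 106, 17043521⟩) (.leaf ⟨106, 19085399, (some false), 107, 17043521⟩)) (.node 1 (.leaf ⟨107, 17043521, (some false), 106, 19560517⟩) (.leaf ⟨21, 14895169, none, 107, 19036231⟩)))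
(.node 2 (.node 1 (.leaf ⟨107, 17043521, none, 21, 23412811⟩) (.leaf ⟨106, 19691589, none, 105, 17459293⟩)) (.node 1 (.leaf ⟨106, 17043521, none, 105, 19802185⟩) (.leaf ⟨28, 29904967, (some true), 108, 17043521⟩)))))
(.node 7 (.node 3 (.node 1 (.leaf ⟨108, 17059919, (some true), 109, 17043521⟩) (.node 1 (.leaf ⟨109, 17043521, (some true), 108, 17059919⟩) (.leaf ⟨21, 14907485, none, 109, 11341919⟩)))
(.node 2 (.node 1 (.leaf ⟨109, 17043521, none, 21, 21180483⟩) (.leaf ⟨108, 27818071, none, 28, 23885889⟩)) (.node 1 (.leaf ⟨108, 17043521, none, 28, 32051295⟩) (.leaf ⟨21, 17059919, (some true), 110, 17043521⟩))))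
(.node 4 (.node 2 (.node 1 (.leaf ⟨110, 17059919, (some true), 111, 17043521⟩) (.leaf ⟨111, 17043521, (some true), 110, 17059919⟩)) (.node 1 (.leaf ⟨111, 17059919, (some true), 112, 17043521⟩) (.leaf ⟨112, 17043521, (some true), 111, 17059919⟩)))
(.node 2 (.node 1 (.leaf ⟨21, 8917063, none, 112, 9254981⟩) (.leaf ⟨112, 17043521, none, 21, 17651779⟩)) (.node 1 (.leaf ⟨111, 17635405, none, 1, 4544593⟩) (.leaf ⟨111, 17043521, none, 1, 7098445⟩))))))
(.node 15 (.node 7 (.node 3 (.node 1 (.leaf ⟨110, 25768023, none, 21, 27793497⟩) (.node 1 (.leaf ⟨110, 17043521, none, 21, 19230791⟩) (.leaf ⟨28, 32125001, (some false), 113, 17043521⟩)))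
(.node 2 (.node 1 (.leaf ⟨113, 17043521, (some false), 28, 14905419⟩) (.leaf ⟨28, 10971209, (some false), 113, 16916563⟩)) (.node 1 (.leaf ⟨28, 9056345, (some false), 113, 17567811⟩) (.leaf ⟨28, 6776923, (some false), 113, 17440833⟩))))
(.node 4 (.node 2 (.node 1 (.leaf ⟨113, 17768521, none, 113, 17440833⟩) (.leaf ⟨113, 16982105, none, 113, 16916563⟩)) (.node 1 (.leaf ⟨113, 17043521, none, 113, 17109063⟩) (.leaf ⟨113, 17043521, none, 113, 17240133⟩)))
(.node 2 (.node 1 (.leaf ⟨28, 4808797, (some false), 114, 17043521⟩) (.leaf ⟨114, 17043521, (some true), 115, 17043521⟩)) (.node 1 (.leaf ⟨115, 17043521, (some true), 114, 17043521⟩) (.leaf ⟨115, 17043521, (some false), 116, 17043521⟩)))))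
(.node 8 (.node 4 (.node 2 (.node 1 (.leaf ⟨116, 17043521, (some false), 115, 17127489⟩) (.leaf ⟨21, 6905923, none, 116, 17190993⟩)) (.node 1 (.leaf ⟨116, 17043521, none, 21, 23670867⟩) (.leaf ⟨115, 17717321, none, 22, 17440841⟩)))
(.node 2 (.node 1 (.leaf ⟨115, 17043521, none, 22, 16988225⟩) (.leaf ⟨114, 11294811, none, 28, 17043521⟩)) (.node 1 (.leaf ⟨114, 17043521, none, 28, 27881547⟩) (.leaf ⟨113, 19085399, (some false), 117, 17043521⟩))))
(.node 4 (.node 2 (.node 1 (.leaf ⟨117, 17043521, (some false), 113, 19560517⟩) (.leaf ⟨117, 17043521, (some true), 118, 17043521⟩)) (.node 1 (.leaf ⟨118, 17043521, (some true), 117, 17043521⟩) (.leaf ⟨118, 19085399, (some false), 119, 17043521⟩)))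
(.node 2 (.node 1 (.leaf ⟨119, 17043521, (some false), 118, 19560517⟩) (.leaf ⟨21, 13453399, none, 119, 19537995⟩)) (.node 1 (.leaf ⟨119, 17043521, none, 21, 32129101⟩) (.leaf ⟨118, 19273799, none, 105, 17459293⟩)))))))
(.node 30 (.node 15 (.node 7 (.node 3 (.node 1 (.leaf ⟨118, 17043521, none, 105, 19560543⟩) (.node 1 (.leaf ⟨105, 19085399, (some true), 117, 17133633⟩) (.leaf ⟨105, 17059919, (some true), 117, 19730499⟩)))
(.node 2 (.node 1 (.leaf ⟨105, 17043521, (some true), 117, 19673153⟩) (.leaf ⟨105, 25385043, (some true), 117, 9254979⟩)) (.node 1 (.leaf ⟨105, 11495495, (some true), 117, 27555915⟩) (.leaf ⟨105, 10971209, (some true), 117, 27603009⟩))))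
(.node 4 (.node 2 (.node 1 (.leaf ⟨113, 17059919, (some true), 120, 17043521⟩) (.leaf ⟨120, 17043521, (some true), 113, 17059919⟩)) (.node 1 (.leaf ⟨113, 17043521, (some true), 120, 17135683⟩) (.leaf ⟨113, 19085399, (some true), 120, 19232849⟩)))
(.node 2 (.node 1 (.leaf ⟨113, 25385043, (some true), 120, 11341899⟩) (.leaf ⟨120, 11495495, (some true), 121, 17043521⟩)) (.node 1 (.leaf ⟨121, 17043521, (some true), 120, 11495495⟩) (.leaf ⟨121, 32131155, (some true), 122, 17043521⟩)))))
(.node 7 (.node 3 (.node 1 (.leaf ⟨122, 17043521, (some true), 121, 32131155⟩) (.node 1 (.leaf ⟨21, 5132363, none, 122, 23224401⟩) (.leaf ⟨122, 17043521, none, 21, 8800327⟩)))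
(.node 2 (.node 1 (.leaf ⟨121, 6955081, none, 28, 15562827⟩) (.leaf ⟨121, 17043521, none, 28, 21903427⟩)) (.node 1 (.leaf ⟨28, 32125001, (some true), 120, 17457223⟩) (.leaf ⟨28, 10971209, (some true), 120, 19884111⟩))))
(.node 4 (.node 2 (.node 1 (.leaf ⟨28, 25385043, (some true), 120, 25567309⟩) (.leaf ⟨28, 32131155, (some true), 120, 9330765⟩)) (.node 1 (.leaf ⟨28, 19085399, (some true), 120, 9060437⟩) (.leaf ⟨28, 13510735, (some true), 120, 9060445⟩)))
(.node 2 (.node 1 (.leaf ⟨28, 13310023, (some true), 120, 25567325⟩) (.leaf ⟨28, 11495495, (some true), 120, 17459277⟩)) (.node 1 (.leaf ⟨120, 17457231, none, 120, 19884111⟩) (.leaf ⟨120, 17043521, none, 120, 19863617⟩))))))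
(.node 15 (.node 7 (.node 3 (.node 1 (.leaf ⟨120, 25385043, (some true), 113, 8992847⟩) (.node 1 (.leaf ⟨22, 6776923, (some false), 123, 17043521⟩) (.leaf ⟨123, 17043521, (some false), 22, 21979225⟩)))
(.node 2 (.node 1 (.leaf ⟨22, 10971209, (some false), 123, 17447001⟩) (.leaf ⟨22, 23928925, (some false), 123, 17176643⟩)) (.node 1 (.leaf ⟨22, 31801425, (some false), 123, 16918613⟩) (.leaf ⟨22, 32125001, (some false), 123, 17195099⟩))))
(.node 4 (.node 2 (.node 1 (.leaf ⟨22, 13310023, (some false), 123, 16918595⟩) (.leaf ⟨22, 7292999, (some false), 123, 17193039⟩)) (.node 1 (.leaf ⟨22, 9056345, (some false), 123, 17004633⟩) (.leaf ⟨123, 17109061, none, 123, 17043521⟩)))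
(.node 2 (.node 1 (.leaf ⟨123, 17246301, none, 123, 16918613⟩) (.leaf ⟨123, 17043521, none, 123, 17174599⟩)) (.node 1 (.leaf ⟨123, 17043521, none, 123, 17109061⟩) (.leaf ⟨123, 19085399, (some false), 124, 17043521⟩)))))
(.node 8 (.node 4 (.node 2 (.node 1 (.leaf ⟨124, 19085399, (some false), 125, 17043521⟩) (.leaf ⟨125, 17043521, (some false), 124, 19560517⟩)) (.node 1 (.leaf ⟨22, 31791185, none, 125, 19675219⟩) (.leaf ⟨125, 17043521, none, 22, 23885891⟩)))
(.node 2 (.node 1 (.leaf ⟨124, 19877955, none, 123, 17004633⟩) (.leaf ⟨124, 17043521, none, 123, 19538015⟩)) (.node 1 (.leaf ⟨22, 32131155, (some true), 126, 17043521⟩) (.leaf ⟨126, 17043521, (some true), 22, 32131155⟩))))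
(.node 4 (.node 2 (.node 1 (.leaf ⟨22, 29904967, (some true), 126, 11350083⟩) (.leaf ⟨22, 32125001, (some true), 126, 17051713⟩)) (.node 1 (.leaf ⟨22, 4808797, (some true), 126, 25497683⟩) (.leaf ⟨22, 13310023, (some true), 126, 25778259⟩)))
(.node 2 (.node 1 (.leaf ⟨22, 31801425, (some true), 126, 11030601⟩) (.leaf ⟨22, 13510735, (some true), 126, 25507913⟩)) (.node 1 (.leaf ⟨22, 4544593, (some true), 126, 8990811⟩) (.leaf ⟨126, 9197635, none, 126, 25507913⟩))))))))
(.node 61 (.node 30 (.node 15 (.node 7 (.node 3 (.node 1 (.leaf ⟨126, 17043521, none, 126, 8990803⟩) (.node 1 (.leaf ⟨126, 17059919, (some true), 127, 17043521⟩) (.leaf ⟨127, 17059919, (some true), 128, 17043521⟩)))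
(.node 2 (.node 1 (.leaf ⟨128, 17043521, (some true), 127, 17059919⟩) (.leaf ⟨22, 29499457, none, 128, 11087965⟩)) (.node 1 (.leaf ⟨128, 17043521, none, 22, 15419471⟩) (.leaf ⟨127, 27881551, none, 126, 25507913⟩))))
(.node 4 (.node 2 (.node 1 (.leaf ⟨127, 17043521, none, 126, 19738709⟩) (.leaf ⟨126, 19085399, (some false), 129, 17043521⟩)) (.node 1 (.leaf ⟨129, 17043521, (some false), 126, 19560517⟩) (.leaf ⟨126, 29904967, (some false), 129, 17786975⟩)))
(.node 2 (.node 1 (.leaf ⟨126, 17043521, (some false), 129, 17133635⟩) (.leaf ⟨126, 4808797, (some false), 129, 17717337⟩)) (.node 1 (.leaf ⟨22, 17059919, (some true), 130, 17043521⟩) (.leaf ⟨130, 17043521, (some true), 22, 17059919⟩)))))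
(.node 7 (.node 3 (.node 1 (.leaf ⟨130, 17578059, none, 130, 17043521⟩) (.node 1 (.leaf ⟨130, 17657929, none, 130, 17043521⟩) (.leaf ⟨130, 17070153, none, 130, 17043521⟩)))
(.node 2 (.node 1 (.leaf ⟨130, 17043521, none, 130, 17070153⟩) (.leaf ⟨130, 17043521, none, 130, 17643611⟩)) (.node 1 (.leaf ⟨130, 17043521, none, 130, 17594459⟩) (.leaf ⟨130, 13510735, (some false), 131, 17043521⟩))))
(.node 4 (.node 2 (.node 1 (.leaf ⟨131, 17043521, (some false), 130, 29761631⟩) (.leaf ⟨130, 4808797, (some false), 131, 16937037⟩)) (.node 1 (.leaf ⟨130, 27529303, (some false), 131, 17262663⟩) (.leaf ⟨130, 29904967, (some false), 131, 17567815⟩)))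
(.node 2 (.node 1 (.leaf ⟨131, 17594455, none, 131, 17567815⟩) (.leaf ⟨131, 17242185, none, 131, 17262663⟩)) (.node 1 (.leaf ⟨131, 17594447, none, 131, 17567815⟩) (.leaf ⟨131, 17043521, none, 131, 17053785⟩))))))
(.node 15 (.node 7 (.node 3 (.node 1 (.leaf ⟨131, 17043521, none, 131, 17070153⟩) (.node 1 (.leaf ⟨131, 17043521, none, 131, 17053777⟩) (.leaf ⟨129, 10971209, (some true), 132, 17043521⟩)))
(.node 2 (.node 1 (.leaf ⟨132, 17043521, (some true), 129, 10971209⟩) (.leaf ⟨132, 13510735, (some false), 133, 17043521⟩)) (.node 1 (.leaf ⟨133, 17043521, (some false), 132, 29761631⟩) (.leaf ⟨22, 7288913, none, 133, 17633371⟩))))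
(.node 4 (.node 2 (.node 1 (.leaf ⟨133, 17043521, none, 22, 6713433⟩) (.leaf ⟨132, 13523015, none, 123, 16918595⟩)) (.node 1 (.leaf ⟨132, 17043521, none, 123, 26161247⟩) (.leaf ⟨123, 19085399, (some true), 129, 19343427⟩)))
(.node 2 (.node 1 (.leaf ⟨123, 17043521, (some true), 129, 17768513⟩) (.leaf ⟨123, 17059919, (some true), 129, 16984131⟩)) (.node 1 (.leaf ⟨123, 25385043, (some true), 129, 10971201⟩) (.leaf ⟨31, 27529303, (some false), 134, 17043521⟩)))))
(.node 8 (.node 4 (.node 2 (.node 1 (.leaf ⟨134, 17043521, (some false), 31, 25516101⟩) (.leaf ⟨31, 29904967, (some false), 134, 17700931⟩)) (.node 1 (.leaf ⟨31, 13510735, (some false), 134, 17176669⟩) (.leaf ⟨31, 4808797, (some false), 134, 17784915⟩)))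
(.node 2 (.node 1 (.leaf ⟨31, 32125001, (some false), 134, 17528903⟩) (.leaf ⟨31, 7292999, (some false), 134, 17244225⟩)) (.node 1 (.leaf ⟨31, 10971209, (some false), 134, 17442899⟩) (.leaf ⟨31, 31801425, (some false), 134, 17256537⟩))))
(.node 4 (.node 2 (.node 1 (.leaf ⟨134, 16984141, none, 134, 17043521⟩) (.leaf ⟨134, 17447003, none, 134, 17256537⟩)) (.node 1 (.leaf ⟨134, 17043521, none, 134, 16916547⟩) (.leaf ⟨134, 17043521, none, 134, 16984141⟩)))
(.node 2 (.node 1 (.leaf ⟨134, 19085399, (some true), 135, 17043521⟩) (.leaf ⟨135, 17043521, (some true), 134, 19085399⟩)) (.node 1 (.leaf ⟨135, 19085399, (some false), 136, 17043521⟩) (.leaf ⟨136, 17043521, (some false), 135, 19560517⟩)))))))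
(.node 30 (.node 15 (.node 7 (.node 3 (.node 1 (.leaf ⟨22, 26163269, none, 136, 17180753⟩) (.node 1 (.leaf ⟨136, 17043521, none, 22, 23930975⟩) (.leaf ⟨135, 19681363, none, 123, 16918595⟩)))
(.node 2 (.node 1 (.leaf ⟨135, 17043521, none, 123, 19619923⟩) (.leaf ⟨123, 10971209, (some true), 134, 26169429⟩)) (.node 1 (.leaf ⟨126, 13510735, (some false), 137, 17043521⟩) (.leaf ⟨137, 17043521, (some false), 126, 29761631⟩))))
(.node 4 (.node 2 (.node 1 (.leaf ⟨126, 27529303, (some false), 137, 17193045⟩) (.leaf ⟨137, 19085399, (some false), 138, 17043521⟩)) (.node 1 (.leaf ⟨138, 17043521, (some false), 137, 19560517⟩) (.leaf ⟨138, 10971209, (some true), 139, 17043521⟩)))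
(.node 2 (.node 1 (.leaf ⟨139, 17043521, (some true), 138, 10971209⟩) (.leaf ⟨139, 27529303, (some false), 140, 17043521⟩)) (.node 1 (.leaf ⟨140, 17043521, (some false), 139, 25516101⟩) (.leaf ⟨22, 15622217, none, 140, 19798109⟩)))))
(.node 7 (.node 3 (.node 1 (.leaf ⟨140, 17043521, none, 22, 25442389⟩) (.node 1 (.leaf ⟨139, 31856731, none, 93, 17440845⟩) (.leaf ⟨139, 17043521, none, 93, 28194911⟩)))
(.node 2 (.node 1 (.leaf ⟨138, 17440859, none, 99, 19230801⟩) (.leaf ⟨138, 17043521, none, 99, 19083335⟩)) (.node 1 (.leaf ⟨99, 19085399, (some false), 137, 19544135⟩) (.leaf ⟨56, 19085399, (some false), 141, 17043521⟩))))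
(.node 4 (.node 2 (.node 1 (.leaf ⟨141, 17043521, (some false), 56, 19560517⟩) (.leaf ⟨141, 17043521, (some true), 142, 17043521⟩)) (.node 1 (.leaf ⟨142, 17043521, (some true), 141, 17043521⟩) (.leaf ⟨142, 19085399, (some false), 143, 17043521⟩)))
(.node 2 (.node 1 (.leaf ⟨143, 17043521, (some false), 142, 19560517⟩) (.leaf ⟨22, 17700935, none, 143, 19800153⟩)) (.node 1 (.leaf ⟨143, 17043521, none, 22, 19165259⟩) (.leaf ⟨142, 19355743, none, 25, 17043521⟩))))))
(.node 15 (.node 7 (.node 3 (.node 1 (.leaf ⟨142, 19355743, none, 22, 19621955⟩) (.node 1 (.leaf ⟨142, 17043521, none, 22, 16922713⟩) (.leaf ⟨141, 11343953, none, 28, 17043521⟩)))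
(.node 2 (.node 1 (.leaf ⟨141, 17043521, none, 28, 25761881⟩) (.leaf ⟨56, 19880019, none, 114, 17043521⟩)) (.node 1 (.leaf ⟨56, 19880019, none, 28, 27881547⟩) (.leaf ⟨56, 17043521, none, 28, 29894751⟩))))
(.node 4 (.node 2 (.node 1 (.leaf ⟨28, 29904967, (some false), 31, 17592413⟩) (.leaf ⟨28, 27529303, (some false), 144, 17043521⟩)) (.node 1 (.leaf ⟨144, 17043521, (some false), 28, 25516101⟩) (.leaf ⟨28, 17043521, (some false), 144, 17442891⟩)))
(.node 2 (.node 1 (.leaf ⟨28, 13510735, (some false), 144, 16939095⟩) (.leaf ⟨28, 19085399, (some false), 144, 17070153⟩)) (.node 1 (.leaf ⟨144, 16916559, none, 144, 17043521⟩) (.leaf ⟨144, 17506389, none, 144, 17442891⟩)))))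
(.node 8 (.node 4 (.node 2 (.node 1 (.leaf ⟨144, 17043521, none, 144, 17111117⟩) (.leaf ⟨144, 17043521, none, 144, 16916559⟩)) (.node 1 (.leaf ⟨144, 11495495, (some true), 145, 17043521⟩) (.leaf ⟨145, 17043521, (some true), 144, 11495495⟩)))
(.node 2 (.node 1 (.leaf ⟨144, 10971209, (some true), 145, 19206219⟩) (.leaf ⟨144, 17059919, (some true), 145, 9189451⟩)) (.node 1 (.leaf ⟨144, 17043521, (some true), 145, 11350089⟩) (.leaf ⟨145, 13510735, (some true), 146, 17043521⟩))))
(.node 4 (.node 2 (.node 1 (.leaf ⟨146, 17043521, (some true), 145, 13510735⟩) (.leaf ⟨146, 10971209, (some true), 147, 17043521⟩)) (.node 1 (.leaf ⟨147, 17043521, (some true), 146, 10971209⟩) (.leaf ⟨22, 11427931, none, 147, 4946005⟩)))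
(.node 2 (.node 1 (.leaf ⟨147, 17043521, none, 22, 14899295⟩) (.leaf ⟨146, 25305179, none, 126, 25778259⟩)) (.node 1 (.leaf ⟨146, 17043521, none, 126, 17528901⟩) (.leaf ⟨126, 19085399, (some true), 145, 23208029⟩)))))))))

/-- The facts. -/
def caseCFullFactsLLLR : Tab Fct := .node 244 caseCFullFactsLLLRL caseCFullFactsLLLRR

/-- The facts. -/
def caseCFullFactsLLL : Tab Fct := .node 488 caseCFullFactsLLLL caseCFullFactsLLLR

/-- The facts. -/
def caseCFullFactsLLRLL : Tab Fct :=
(.node 122 (.node 61 (.node 30 (.node 15 (.node 7 (.node 3 (.node 1 (.leaf ⟨126, 4808797, (some true), 145, 21129287⟩) (.node 1 (.leaf ⟨126, 10971209, (some true), 145, 23472223⟩) (.leaf ⟨126, 4544593, (some true), 145, 15417423⟩)))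
(.node 2 (.node 1 (.leaf ⟨144, 19085399, (some false), 148, 17043521⟩) (.leaf ⟨148, 19085399, (some false), 149, 17043521⟩)) (.node 1 (.leaf ⟨149, 17043521, (some false), 148, 19560517⟩) (.leaf ⟨28, 19556431, none, 149, 19167317⟩))))
(.node 4 (.node 2 (.node 1 (.leaf ⟨149, 17043521, none, 28, 17260633⟩) (.leaf ⟨148, 19206223, none, 144, 17442891⟩)) (.node 1 (.leaf ⟨148, 17043521, none, 144, 19603525⟩) (.leaf ⟨28, 4808797, (some true), 152, 17043521⟩)))
(.node 2 (.node 1 (.leaf ⟨152, 17043521, (some true), 28, 4808797⟩) (.leaf ⟨152, 17567827, none, 152, 17043521⟩)) (.node 1 (.leaf ⟨152, 17567825, none, 152, 17043521⟩) (.leaf ⟨152, 17633361, none, 152, 17043521⟩)))))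
(.node 7 (.node 3 (.node 1 (.leaf ⟨152, 17633345, none, 152, 17043521⟩) (.node 1 (.leaf ⟨152, 17043521, none, 152, 17633345⟩) (.leaf ⟨152, 17043521, none, 152, 17633361⟩)))
(.node 2 (.node 1 (.leaf ⟨152, 17043521, none, 152, 17567825⟩) (.leaf ⟨152, 17043521, none, 152, 17567827⟩)) (.node 1 (.leaf ⟨152, 29904967, (some false), 153, 17043521⟩) (.leaf ⟨153, 17043521, (some false), 152, 13113429⟩))))
(.node 4 (.node 2 (.node 1 (.leaf ⟨152, 27529303, (some false), 153, 17766483⟩) (.leaf ⟨152, 4808797, (some false), 153, 17461331⟩)) (.node 1 (.leaf ⟨152, 13510735, (some false), 153, 17578061⟩) (.leaf ⟨153, 17780813, none, 153, 17766483⟩)))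
(.node 2 (.node 1 (.leaf ⟨153, 17578077, none, 153, 17578061⟩) (.leaf ⟨153, 17043521, none, 153, 17043537⟩)) (.node 1 (.leaf ⟨153, 17043521, none, 153, 17061961⟩) (.leaf ⟨152, 19085399, (some false), 154, 17043521⟩))))))
(.node 15 (.node 7 (.node 3 (.node 1 (.leaf ⟨154, 17043521, (some false), 152, 19560517⟩) (.node 1 (.leaf ⟨154, 10971209, (some true), 155, 17043521⟩) (.leaf ⟨155, 17043521, (some true), 154, 10971209⟩)))
(.node 2 (.node 1 (.leaf ⟨155, 13510735, (some false), 156, 17043521⟩) (.leaf ⟨156, 17043521, (some false), 155, 29761631⟩)) (.node 1 (.leaf ⟨28, 4728917, none, 156, 17643585⟩) (.leaf ⟨156, 17043521, none, 28, 29909069⟩))))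
(.node 4 (.node 2 (.node 1 (.leaf ⟨155, 23291995, none, 31, 17592413⟩) (.leaf ⟨155, 17043521, none, 31, 25374793⟩)) (.node 1 (.leaf ⟨154, 10635339, none, 32, 17043521⟩) (.leaf ⟨154, 10635339, none, 7, 15210567⟩)))
(.node 2 (.node 1 (.leaf ⟨154, 17043521, none, 7, 25372763⟩) (.leaf ⟨152, 19097683, none, 60, 9197633⟩)) (.node 1 (.leaf ⟨152, 17043521, none, 60, 21194833⟩) (.leaf ⟨60, 32131155, (some true), 28, 13377629⟩)))))
(.node 8 (.node 4 (.node 2 (.node 1 (.leaf ⟨60, 13510735, (some true), 28, 15214677⟩) (.leaf ⟨60, 13310023, (some true), 28, 31737927⟩)) (.node 1 (.leaf ⟨60, 9056345, (some false), 153, 17584209⟩) (.leaf ⟨60, 13310023, (some false), 153, 17240131⟩)))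
(.node 2 (.node 1 (.leaf ⟨60, 7292999, (some false), 153, 17768541⟩) (.leaf ⟨60, 32125001, (some false), 153, 17780807⟩)) (.node 1 (.leaf ⟨153, 17190977, none, 153, 17780807⟩) (.leaf ⟨153, 17043521, none, 153, 17633367⟩))))
(.node 4 (.node 2 (.node 1 (.leaf ⟨28, 17059919, (some true), 157, 17043521⟩) (.leaf ⟨157, 17043521, (some true), 28, 17059919⟩)) (.node 1 (.leaf ⟨157, 8941635, none, 157, 17043521⟩) (.leaf ⟨157, 11079771, none, 157, 17043521⟩)))
(.node 2 (.node 1 (.leaf ⟨157, 17068123, none, 157, 17043521⟩) (.leaf ⟨157, 8919105, none, 157, 17043521⟩)) (.node 1 (.leaf ⟨157, 17043521, none, 157, 8919105⟩) (.leaf ⟨157, 17043521, none, 157, 17068123⟩)))))))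
(.node 30 (.node 15 (.node 7 (.node 3 (.node 1 (.leaf ⟨157, 17043521, none, 157, 11079771⟩) (.node 1 (.leaf ⟨157, 17043521, none, 157, 8941635⟩) (.leaf ⟨157, 4808797, (some false), 158, 17043521⟩)))
(.node 2 (.node 1 (.leaf ⟨157, 19085399, (some false), 158, 17242203⟩) (.leaf ⟨157, 29904967, (some false), 158, 17178689⟩)) (.node 1 (.leaf ⟨157, 17043521, (some false), 158, 17070149⟩) (.leaf ⟨158, 11495495, (some true), 159, 17043521⟩))))
(.node 4 (.node 2 (.node 1 (.leaf ⟨159, 17043521, (some true), 158, 11495495⟩) (.leaf ⟨159, 13510735, (some false), 160, 17043521⟩)) (.node 1 (.leaf ⟨160, 17043521, (some false), 159, 29761631⟩) (.leaf ⟨28, 11343943, none, 160, 17043539⟩)))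
(.node 2 (.node 1 (.leaf ⟨160, 17043521, none, 28, 11343957⟩) (.leaf ⟨159, 25434205, none, 144, 16939095⟩)) (.node 1 (.leaf ⟨159, 17043521, none, 144, 25382987⟩) (.leaf ⟨144, 25385043, (some true), 158, 11427917⟩)))))
(.node 7 (.node 3 (.node 1 (.leaf ⟨120, 31801425, (some false), 161, 17043521⟩) (.node 1 (.leaf ⟨120, 7292999, (some false), 161, 16918613⟩) (.leaf ⟨28, 31801425, (some true), 162, 17043521⟩)))
(.node 2 (.node 1 (.leaf ⟨162, 17043521, (some true), 28, 31801425⟩) (.leaf ⟨162, 11106393, none, 162, 17043521⟩)) (.node 1 (.leaf ⟨162, 11104347, none, 162, 17043521⟩) (.leaf ⟨162, 8917083, none, 162, 17043521⟩))))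
(.node 4 (.node 2 (.node 1 (.leaf ⟨162, 8943681, none, 162, 17043521⟩) (.leaf ⟨162, 17043521, none, 162, 8943681⟩)) (.node 1 (.leaf ⟨162, 17043521, none, 162, 8917083⟩) (.leaf ⟨162, 17043521, none, 162, 11104347⟩)))
(.node 2 (.node 1 (.leaf ⟨162, 17043521, none, 162, 11106393⟩) (.leaf ⟨161, 19085399, (some false), 164, 17043521⟩)) (.node 1 (.leaf ⟨164, 17043521, (some false), 161, 19560517⟩) (.leaf ⟨164, 11495495, (some true), 165, 17043521⟩))))))
(.node 15 (.node 7 (.node 3 (.node 1 (.leaf ⟨165, 17043521, (some true), 164, 11495495⟩) (.node 1 (.leaf ⟨165, 27529303, (some false), 166, 17043521⟩) (.leaf ⟨166, 17043521, (some false), 165, 25516101⟩)))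
(.node 2 (.node 1 (.leaf ⟨28, 4939855, none, 166, 19607645⟩) (.leaf ⟨166, 17043521, none, 28, 25442385⟩)) (.node 1 (.leaf ⟨165, 13572191, none, 144, 16939095⟩) (.leaf ⟨165, 17043521, none, 144, 27467863⟩))))
(.node 4 (.node 2 (.node 1 (.leaf ⟨164, 27730007, none, 145, 17043521⟩) (.leaf ⟨164, 17043521, none, 145, 23214171⟩)) (.node 1 (.leaf ⟨145, 27529303, (some false), 161, 19294273⟩) (.leaf ⟨120, 19085399, (some true), 171, 17043521⟩)))
(.node 2 (.node 1 (.leaf ⟨171, 25385043, (some true), 172, 17043521⟩) (.leaf ⟨172, 17043521, (some true), 171, 25385043⟩)) (.node 1 (.leaf ⟨28, 23861325, none, 172, 21571671⟩) (.leaf ⟨172, 17043521, none, 28, 19292239⟩)))))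
(.node 8 (.node 4 (.node 2 (.node 1 (.leaf ⟨171, 17446995, none, 120, 17459277⟩) (.leaf ⟨171, 17043521, none, 120, 17051733⟩)) (.node 1 (.leaf ⟨161, 25385043, (some true), 173, 17043521⟩) (.leaf ⟨173, 17043521, (some true), 161, 25385043⟩)))
(.node 2 (.node 1 (.leaf ⟨173, 31801425, (some true), 174, 17043521⟩) (.leaf ⟨174, 17043521, (some true), 173, 31801425⟩)) (.node 1 (.leaf ⟨174, 13310023, (some true), 175, 17043521⟩) (.leaf ⟨175, 17043521, (some true), 174, 13310023⟩))))
(.node 4 (.node 2 (.node 1 (.leaf ⟨28, 17512537, none, 175, 21508167⟩) (.leaf ⟨175, 17043521, none, 28, 8984655⟩)) (.node 1 (.leaf ⟨174, 7026757, none, 157, 17043521⟩) (.leaf ⟨174, 17043521, none, 157, 25839699⟩)))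
(.node 2 (.node 1 (.leaf ⟨157, 10971209, (some true), 173, 13379659⟩) (.leaf ⟨157, 31801425, (some true), 173, 32260185⟩)) (.node 1 (.leaf ⟨157, 29904967, (some true), 173, 15214675⟩) (.leaf ⟨157, 19085399, (some true), 173, 32057427⟩))))))))
(.node 61 (.node 30 (.node 15 (.node 7 (.node 3 (.node 1 (.leaf ⟨157, 4544593, (some true), 173, 21831747⟩) (.node 1 (.leaf ⟨173, 32251979, none, 173, 21831747⟩) (.leaf ⟨173, 17043521, none, 173, 23400517⟩)))
(.node 2 (.node 1 (.leaf ⟨134, 19085399, (some false), 176, 17043521⟩) (.leaf ⟨176, 19085399, (some false), 177, 17043521⟩)) (.node 1 (.leaf ⟨177, 17043521, (some false), 176, 19560517⟩) (.leaf ⟨31, 31797317, none, 177, 19208261⟩))))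
(.node 4 (.node 2 (.node 1 (.leaf ⟨177, 17043521, none, 31, 29634625⟩) (.leaf ⟨176, 19032139, none, 134, 17442899⟩)) (.node 1 (.leaf ⟨176, 17043521, none, 134, 19748935⟩) (.leaf ⟨62, 19085399, (some false), 178, 17043521⟩)))
(.node 2 (.node 1 (.leaf ⟨178, 19085399, (some false), 179, 17043521⟩) (.leaf ⟨179, 17043521, (some false), 178, 19560517⟩)) (.node 1 (.leaf ⟨31, 8607823, none, 179, 19667029⟩) (.leaf ⟨179, 17043521, none, 31, 27416651⟩)))))
(.node 7 (.node 3 (.node 1 (.leaf ⟨178, 19877955, none, 62, 16918597⟩) (.node 1 (.leaf ⟨178, 17043521, none, 62, 19607637⟩) (.leaf ⟨31, 19085399, (some true), 180, 17043521⟩)))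
(.node 2 (.node 1 (.leaf ⟨180, 17059919, (some true), 181, 17043521⟩) (.leaf ⟨181, 17043521, (some true), 180, 17059919⟩)) (.node 1 (.leaf ⟨181, 17059919, (some true), 182, 17043521⟩) (.leaf ⟨182, 17043521, (some true), 181, 17059919⟩))))
(.node 4 (.node 2 (.node 1 (.leaf ⟨31, 19353671, none, 182, 17053775⟩) (.leaf ⟨182, 17043521, none, 31, 19036233⟩)) (.node 1 (.leaf ⟨181, 8943685, none, 32, 17043521⟩) (.leaf ⟨181, 8943685, none, 7, 15210567⟩)))
(.node 2 (.node 1 (.leaf ⟨181, 17043521, none, 7, 12873795⟩) (.leaf ⟨180, 19148871, none, 31, 19626067⟩)) (.node 1 (.leaf ⟨180, 17043521, none, 31, 17715295⟩) (.leaf ⟨31, 10895445, none, 157, 17659981⟩))))))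
(.node 15 (.node 7 (.node 3 (.node 1 (.leaf ⟨157, 17043521, none, 31, 25903179⟩) (.node 1 (.leaf ⟨31, 10971209, (some true), 28, 9263199⟩) (.leaf ⟨31, 17059919, (some true), 28, 25720911⟩)))
(.node 2 (.node 1 (.leaf ⟨158, 17506373, none, 134, 17256537⟩) (.leaf ⟨31, 4808797, (some true), 173, 4546633⟩)) (.node 1 (.leaf ⟨31, 13510735, (some true), 173, 13379665⟩) (.leaf ⟨31, 29904967, (some true), 173, 23928913⟩))))
(.node 4 (.node 2 (.node 1 (.leaf ⟨31, 13310023, (some true), 173, 13385811⟩) (.leaf ⟨31, 31801425, (some true), 173, 23603265⟩)) (.node 1 (.leaf ⟨31, 32131155, (some true), 173, 32057419⟩) (.leaf ⟨31, 4544593, (some true), 173, 29960259⟩)))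
(.node 2 (.node 1 (.leaf ⟨31, 32125001, (some true), 173, 4792409⟩) (.leaf ⟨173, 32055385, none, 173, 23928913⟩)) (.node 1 (.leaf ⟨173, 17043521, none, 173, 21368901⟩) (.leaf ⟨173, 13310023, (some true), 161, 19609665⟩)))))
(.node 8 (.node 4 (.node 2 (.node 1 (.leaf ⟨173, 25385043, (some true), 161, 17174617⟩) (.leaf ⟨158, 17043521, none, 134, 17705039⟩)) (.node 1 (.leaf ⟨134, 25385043, (some true), 159, 19673169⟩) (.leaf ⟨173, 7292999, (some false), 183, 17043521⟩)))
(.node 2 (.node 1 (.leaf ⟨183, 17043521, (some false), 173, 21448789⟩) (.leaf ⟨183, 17059919, (some true), 184, 17043521⟩)) (.node 1 (.leaf ⟨184, 17043521, (some true), 183, 17059919⟩) (.leaf ⟨184, 17043521, (some false), 185, 17043521⟩))))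
(.node 4 (.node 2 (.node 1 (.leaf ⟨185, 17043521, (some false), 184, 17127489⟩) (.leaf ⟨31, 21313631, none, 185, 17780825⟩)) (.node 1 (.leaf ⟨185, 17043521, none, 31, 4612183⟩) (.leaf ⟨184, 17512529, none, 62, 17715285⟩)))
(.node 2 (.node 1 (.leaf ⟨184, 17043521, none, 62, 17508443⟩) (.leaf ⟨62, 10971209, (some true), 183, 25720919⟩)) (.node 1 (.leaf ⟨62, 19085399, (some true), 183, 19157063⟩) (.leaf ⟨62, 17043521, (some true), 186, 17043521⟩)))))))
(.node 30 (.node 15 (.node 7 (.node 3 (.node 1 (.leaf ⟨186, 17043521, (some false), 187, 17043521⟩) (.node 1 (.leaf ⟨187, 17043521, (some false), 186, 17127489⟩) (.leaf ⟨31, 11475039, none, 187, 19353667⟩)))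
(.node 2 (.node 1 (.leaf ⟨187, 17043521, none, 31, 32329817⟩) (.leaf ⟨186, 17180763, none, 62, 17715285⟩)) (.node 1 (.leaf ⟨186, 17043521, none, 62, 17594443⟩) (.leaf ⟨173, 23928925, (some false), 188, 17043521⟩))))
(.node 4 (.node 2 (.node 1 (.leaf ⟨188, 17043521, (some false), 173, 4991053⟩) (.leaf ⟨173, 13310023, (some false), 188, 17133657⟩)) (.node 1 (.leaf ⟨173, 29904967, (some false), 188, 17786971⟩) (.leaf ⟨173, 4808797, (some false), 188, 16918595⟩)))
(.node 2 (.node 1 (.leaf ⟨188, 11495495, (some true), 189, 17043521⟩) (.leaf ⟨189, 17043521, (some true), 188, 11495495⟩)) (.node 1 (.leaf ⟨189, 13510735, (some true), 190, 17043521⟩) (.leaf ⟨190, 17043521, (some true), 189, 13510735⟩)))))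
(.node 7 (.node 3 (.node 1 (.leaf ⟨190, 10971209, (some true), 191, 17043521⟩) (.node 1 (.leaf ⟨191, 17043521, (some true), 190, 10971209⟩) (.leaf ⟨31, 13115459, none, 191, 23230533⟩)))
(.node 2 (.node 1 (.leaf ⟨191, 17043521, none, 31, 30232651⟩) (.leaf ⟨190, 27478083, none, 173, 29960259⟩)) (.node 1 (.leaf ⟨190, 17043521, none, 173, 25319489⟩) (.leaf ⟨189, 23210077, none, 161, 17174617⟩))))
(.node 4 (.node 2 (.node 1 (.leaf ⟨189, 17043521, none, 161, 27729993⟩) (.leaf ⟨161, 10971209, (some true), 188, 27402309⟩)) (.node 1 (.leaf ⟨188, 17059919, (some true), 192, 17043521⟩) (.leaf ⟨192, 17043521, (some true), 188, 17059919⟩)))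
(.node 2 (.node 1 (.leaf ⟨192, 25385043, (some true), 193, 17043521⟩) (.leaf ⟨193, 17043521, (some true), 192, 25385043⟩)) (.node 1 (.leaf ⟨193, 4544593, (some true), 194, 17043521⟩) (.leaf ⟨194, 17043521, (some true), 193, 4544593⟩))))))
(.node 15 (.node 7 (.node 3 (.node 1 (.leaf ⟨31, 23939155, none, 194, 7043155⟩) (.node 1 (.leaf ⟨194, 17043521, none, 31, 9136193⟩) (.leaf ⟨193, 23402577, none, 28, 9263199⟩)))
(.node 2 (.node 1 (.leaf ⟨193, 17043521, none, 28, 11419727⟩) (.leaf ⟨192, 26103891, none, 120, 17459277⟩)) (.node 1 (.leaf ⟨192, 17043521, none, 120, 29509707⟩) (.leaf ⟨120, 32131155, (some true), 188, 17657941⟩))))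
(.node 4 (.node 2 (.node 1 (.leaf ⟨120, 31801425, (some true), 188, 17117253⟩) (.leaf ⟨34, 29904967, (some false), 195, 17043521⟩)) (.node 1 (.leaf ⟨34, 23928925, (some false), 195, 16998481⟩) (.leaf ⟨34, 10971209, (some false), 195, 17721409⟩)))
(.node 2 (.node 1 (.leaf ⟨34, 13510735, (some false), 195, 17586255⟩) (.leaf ⟨34, 6776923, (some false), 195, 16934993⟩)) (.node 1 (.leaf ⟨34, 31801425, (some false), 195, 17592393⟩) (.leaf ⟨34, 27529303, (some false), 195, 17190987⟩)))))
(.node 8 (.node 4 (.node 2 (.node 1 (.leaf ⟨34, 9056345, (some false), 195, 17178719⟩) (.leaf ⟨34, 7292999, (some false), 195, 17528909⟩)) (.node 1 (.leaf ⟨34, 4808797, (some false), 195, 16986185⟩) (.leaf ⟨34, 13310023, (some false), 195, 17592405⟩)))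
(.node 2 (.node 1 (.leaf ⟨34, 32125001, (some false), 195, 17567809⟩) (.leaf ⟨195, 17567831, none, 195, 17592405⟩)) (.node 1 (.leaf ⟨195, 17002571, none, 195, 16986185⟩) (.leaf ⟨195, 17721421, none, 195, 17721409⟩))))
(.node 4 (.node 2 (.node 1 (.leaf ⟨195, 17176659, none, 195, 17178719⟩) (.leaf ⟨195, 17043521, none, 195, 17053769⟩)) (.node 1 (.leaf ⟨195, 17043521, none, 195, 17043545⟩) (.leaf ⟨195, 17043521, none, 195, 17059907⟩)))
(.node 2 (.node 1 (.leaf ⟨195, 17043521, none, 195, 17051715⟩) (.leaf ⟨39, 25385043, (some true), 198, 17043521⟩)) (.node 1 (.leaf ⟨198, 17059919, (some true), 199, 17043521⟩) (.leaf ⟨199, 17043521, (some true), 198, 17059919⟩)))))))))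

/-- The facts. -/
def caseCFullFactsLLRLR : Tab Fct :=
(.node 122 (.node 61 (.node 30 (.node 15 (.node 7 (.node 3 (.node 1 (.leaf ⟨34, 19560527, none, 199, 27547717⟩) (.node 1 (.leaf ⟨199, 17043521, none, 34, 25374795⟩) (.leaf ⟨198, 25448517, none, 39, 11145311⟩)))
(.node 2 (.node 1 (.leaf ⟨198, 17043521, none, 39, 10645587⟩) (.leaf ⟨34, 4544593, (some true), 200, 17043521⟩)) (.node 1 (.leaf ⟨200, 17043521, (some true), 34, 4544593⟩) (.leaf ⟨34, 31801425, (some true), 200, 27818075⟩))))
(.node 4 (.node 2 (.node 1 (.leaf ⟨34, 32125001, (some true), 200, 11286611⟩) (.leaf ⟨34, 29904967, (some true), 200, 25458761⟩)) (.node 1 (.leaf ⟨34, 4808797, (some true), 200, 17125459⟩) (.leaf ⟨34, 13310023, (some true), 200, 17045595⟩)))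
(.node 2 (.node 1 (.leaf ⟨34, 13510735, (some true), 200, 9181275⟩) (.leaf ⟨34, 32131155, (some true), 200, 17569867⟩)) (.node 1 (.leaf ⟨200, 17567811, none, 200, 17043521⟩) (.leaf ⟨200, 11081795, none, 200, 17045595⟩)))))
(.node 7 (.node 3 (.node 1 (.leaf ⟨200, 17635417, none, 200, 17569867⟩) (.node 1 (.leaf ⟨200, 17043521, none, 200, 17109075⟩) (.leaf ⟨200, 17043521, none, 200, 11079769⟩)))
(.node 2 (.node 1 (.leaf ⟨200, 17043521, none, 200, 17567811⟩) (.leaf ⟨200, 17059919, (some true), 201, 17043521⟩)) (.node 1 (.leaf ⟨201, 17059919, (some true), 202, 17043521⟩) (.leaf ⟨202, 17043521, (some true), 201, 17059919⟩))))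
(.node 4 (.node 2 (.node 1 (.leaf ⟨34, 23343177, none, 202, 25710669⟩) (.leaf ⟨202, 17043521, none, 34, 7098445⟩)) (.node 1 (.leaf ⟨201, 25768023, none, 200, 25458761⟩) (.leaf ⟨201, 17043521, none, 200, 17641549⟩)))
(.node 2 (.node 1 (.leaf ⟨200, 29904967, (some false), 203, 17043521⟩) (.leaf ⟨200, 4808797, (some false), 203, 17461315⟩)) (.node 1 (.leaf ⟨200, 27529303, (some false), 203, 17780813⟩) (.leaf ⟨200, 13510735, (some false), 203, 17592389⟩))))))
(.node 15 (.node 7 (.node 3 (.node 1 (.leaf ⟨200, 19085399, (some false), 203, 16982091⟩) (.node 1 (.leaf ⟨203, 17506393, none, 203, 16982091⟩) (.leaf ⟨203, 17440841, none, 203, 16982091⟩)))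
(.node 2 (.node 1 (.leaf ⟨203, 17043521, none, 203, 17633347⟩) (.leaf ⟨203, 17043521, none, 203, 17567827⟩)) (.node 1 (.leaf ⟨203, 17059919, (some true), 204, 17043521⟩) (.leaf ⟨204, 17043521, (some true), 203, 17059919⟩))))
(.node 4 (.node 2 (.node 1 (.leaf ⟨204, 17043521, (some false), 205, 17043521⟩) (.leaf ⟨205, 17043521, (some false), 204, 17127489⟩)) (.node 1 (.leaf ⟨34, 5195861, none, 205, 17700953⟩) (.leaf ⟨205, 17043521, none, 34, 6637657⟩)))
(.node 2 (.node 1 (.leaf ⟨204, 17240143, none, 195, 17528909⟩) (.leaf ⟨204, 17043521, none, 195, 17522755⟩)) (.node 1 (.leaf ⟨195, 10971209, (some true), 203, 25514079⟩) (.leaf ⟨195, 19085399, (some true), 203, 19740767⟩)))))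
(.node 8 (.node 4 (.node 2 (.node 1 (.leaf ⟨39, 23928925, (some false), 206, 17043521⟩) (.leaf ⟨206, 17043521, (some false), 39, 4991053⟩)) (.node 1 (.leaf ⟨39, 6776923, (some false), 206, 17242181⟩) (.leaf ⟨206, 17176643, none, 206, 17242181⟩)))
(.node 2 (.node 1 (.leaf ⟨206, 17698899, none, 206, 17043521⟩) (.leaf ⟨206, 17043543, none, 206, 17043521⟩)) (.node 1 (.leaf ⟨206, 17567811, none, 206, 17043521⟩) (.leaf ⟨206, 17043521, none, 206, 17567811⟩))))
(.node 4 (.node 2 (.node 1 (.leaf ⟨206, 17043521, none, 206, 17043543⟩) (.leaf ⟨206, 17043521, none, 206, 17698899⟩)) (.node 1 (.leaf ⟨206, 17043521, none, 206, 17109061⟩) (.leaf ⟨206, 19085399, (some false), 207, 17043521⟩)))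
(.node 2 (.node 1 (.leaf ⟨207, 17061955, none, 207, 17043521⟩) (.leaf ⟨207, 17061977, none, 207, 17043521⟩)) (.node 1 (.leaf ⟨207, 17051737, none, 207, 17043521⟩) (.leaf ⟨207, 17045579, none, 207, 17043521⟩)))))))
(.node 30 (.node 15 (.node 7 (.node 3 (.node 1 (.leaf ⟨207, 17043521, none, 207, 17045579⟩) (.node 1 (.leaf ⟨207, 17043521, none, 207, 17051737⟩) (.leaf ⟨207, 17043521, none, 207, 17061977⟩)))
(.node 2 (.node 1 (.leaf ⟨207, 17043521, none, 207, 17061955⟩) (.leaf ⟨207, 17059919, (some true), 208, 17043521⟩)) (.node 1 (.leaf ⟨208, 17043521, (some true), 207, 17059919⟩) (.leaf ⟨208, 19085399, (some false), 209, 17043521⟩))))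
(.node 4 (.node 2 (.node 1 (.leaf ⟨209, 17043521, (some false), 208, 19560517⟩) (.leaf ⟨34, 25499717, none, 209, 19556427⟩)) (.node 1 (.leaf ⟨209, 17043521, none, 34, 7037005⟩) (.leaf ⟨208, 19148885, none, 195, 17586255⟩)))
(.node 2 (.node 1 (.leaf ⟨208, 17043521, none, 195, 19755097⟩) (.leaf ⟨195, 17043521, (some true), 207, 19730527⟩)) (.node 1 (.leaf ⟨39, 13310023, (some false), 210, 17043521⟩) (.leaf ⟨210, 17043521, (some false), 39, 29511765⟩)))))
(.node 7 (.node 3 (.node 1 (.leaf ⟨39, 9056345, (some false), 210, 17717335⟩) (.node 1 (.leaf ⟨210, 17715291, none, 210, 17717335⟩) (.leaf ⟨210, 17068115, none, 210, 17043521⟩)))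
(.node 2 (.node 1 (.leaf ⟨210, 17059931, none, 210, 17043521⟩) (.leaf ⟨210, 17059923, none, 210, 17043521⟩)) (.node 1 (.leaf ⟨210, 17043521, none, 210, 17059923⟩) (.leaf ⟨210, 17043521, none, 210, 17059931⟩))))
(.node 4 (.node 2 (.node 1 (.leaf ⟨210, 17043521, none, 210, 17068115⟩) (.leaf ⟨210, 17043521, none, 210, 17045593⟩)) (.node 1 (.leaf ⟨210, 19085399, (some true), 211, 17043521⟩) (.leaf ⟨210, 25385043, (some true), 211, 8925251⟩)))
(.node 2 (.node 1 (.leaf ⟨210, 10971209, (some true), 211, 27816009⟩) (.leaf ⟨210, 11495495, (some true), 211, 27537475⟩)) (.node 1 (.leaf ⟨211, 27799641, none, 211, 27537475⟩) (.leaf ⟨211, 9187393, none, 211, 8925251⟩))))))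
(.node 15 (.node 7 (.node 3 (.node 1 (.leaf ⟨211, 17043521, none, 211, 17567811⟩) (.node 1 (.leaf ⟨211, 17043521, none, 211, 17633361⟩) (.leaf ⟨211, 25385043, (some true), 212, 17043521⟩)))
(.node 2 (.node 1 (.leaf ⟨212, 17043521, (some true), 211, 25385043⟩) (.leaf ⟨212, 4808797, (some true), 213, 17043521⟩)) (.node 1 (.leaf ⟨213, 17043521, (some true), 212, 4808797⟩) (.leaf ⟨34, 10704979, none, 213, 17508417⟩))))
(.node 4 (.node 2 (.node 1 (.leaf ⟨213, 17043521, none, 34, 4989011⟩) (.leaf ⟨212, 12929117, none, 200, 27818075⟩)) (.node 1 (.leaf ⟨212, 17043521, none, 200, 14897241⟩) (.leaf ⟨200, 32125001, (some true), 211, 28201041⟩)))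
(.node 2 (.node 1 (.leaf ⟨200, 13310023, (some true), 211, 8540227⟩) (.leaf ⟨200, 29904967, (some true), 211, 17780801⟩)) (.node 1 (.leaf ⟨200, 4544593, (some true), 211, 27947097⟩) (.leaf ⟨206, 25385043, (some true), 214, 17043521⟩)))))
(.node 8 (.node 4 (.node 2 (.node 1 (.leaf ⟨214, 17043521, (some true), 206, 25385043⟩) (.leaf ⟨206, 19085399, (some true), 214, 27818067⟩)) (.node 1 (.leaf ⟨206, 17059919, (some true), 214, 11081793⟩) (.leaf ⟨206, 17043521, (some true), 214, 11104337⟩)))
(.node 2 (.node 1 (.leaf ⟨214, 27865171, none, 214, 11104337⟩) (.leaf ⟨214, 25718851, none, 214, 27818067⟩)) (.node 1 (.leaf ⟨214, 17043521, none, 214, 19142729⟩) (.leaf ⟨214, 17043521, none, 214, 27539523⟩))))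
(.node 4 (.node 2 (.node 1 (.leaf ⟨214, 29904967, (some true), 215, 17043521⟩) (.leaf ⟨215, 17043521, (some true), 214, 29904967⟩)) (.node 1 (.leaf ⟨215, 11495495, (some true), 216, 17043521⟩) (.leaf ⟨216, 17043521, (some true), 215, 11495495⟩)))
(.node 2 (.node 1 (.leaf ⟨34, 11278415, none, 216, 7041093⟩) (.leaf ⟨216, 17043521, none, 34, 13320269⟩)) (.node 1 (.leaf ⟨215, 19015773, none, 200, 9181275⟩) (.leaf ⟨215, 17043521, none, 200, 6957131⟩))))))))
(.node 61 (.node 30 (.node 15 (.node 7 (.node 3 (.node 1 (.leaf ⟨200, 32131155, (some true), 214, 21852231⟩) (.node 1 (.leaf ⟨200, 13510735, (some true), 214, 4730951⟩) (.leaf ⟨200, 4808797, (some true), 214, 21573703⟩)))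
(.node 2 (.node 1 (.leaf ⟨200, 31801425, (some true), 214, 13441093⟩) (.leaf ⟨200, 11495495, (some true), 214, 30158943⟩)) (.node 1 (.leaf ⟨200, 10971209, (some true), 214, 5068893⟩) (.leaf ⟨39, 32125001, (some false), 217, 17043521⟩))))
(.node 4 (.node 2 (.node 1 (.leaf ⟨217, 17043521, (some false), 39, 14905419⟩) (.leaf ⟨39, 27529303, (some false), 217, 17260621⟩)) (.node 1 (.leaf ⟨39, 7292999, (some false), 217, 17002591⟩) (.leaf ⟨39, 4808797, (some false), 217, 16922709⟩)))
(.node 2 (.node 1 (.leaf ⟨39, 29904967, (some false), 217, 17125463⟩) (.leaf ⟨39, 10971209, (some false), 217, 17195091⟩)) (.node 1 (.leaf ⟨39, 13510735, (some false), 217, 17649737⟩) (.leaf ⟨39, 31801425, (some false), 217, 17045593⟩)))))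
(.node 7 (.node 3 (.node 1 (.leaf ⟨217, 17715275, none, 217, 17260621⟩) (.node 1 (.leaf ⟨217, 17180751, none, 217, 17195091⟩) (.leaf ⟨217, 17043521, none, 217, 17061977⟩)))
(.node 2 (.node 1 (.leaf ⟨217, 17043521, none, 217, 17657943⟩) (.leaf ⟨217, 19085399, (some false), 218, 17043521⟩)) (.node 1 (.leaf ⟨218, 19085399, (some false), 219, 17043521⟩) (.leaf ⟨219, 17043521, (some false), 218, 19560517⟩))))
(.node 4 (.node 2 (.node 1 (.leaf ⟨39, 8874079, none, 219, 19214415⟩) (.leaf ⟨219, 17043521, none, 39, 10709075⟩)) (.node 1 (.leaf ⟨218, 19691589, none, 217, 17195091⟩) (.leaf ⟨218, 17043521, none, 217, 19538015⟩)))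
(.node 2 (.node 1 (.leaf ⟨39, 29904967, (some true), 220, 17043521⟩) (.leaf ⟨220, 17043521, (some true), 39, 29904967⟩)) (.node 1 (.leaf ⟨39, 32125001, (some true), 220, 19165257⟩) (.leaf ⟨39, 13510735, (some true), 220, 17135681⟩))))))
(.node 15 (.node 7 (.node 3 (.node 1 (.leaf ⟨39, 31801425, (some true), 220, 17119315⟩) (.node 1 (.leaf ⟨39, 13310023, (some true), 220, 25786449⟩) (.leaf ⟨39, 32131155, (some true), 220, 25448513⟩)))
(.node 2 (.node 1 (.leaf ⟨39, 4808797, (some true), 220, 11368523⟩) (.leaf ⟨39, 4544593, (some true), 220, 25450569⟩)) (.node 1 (.leaf ⟨220, 25516107, none, 220, 17135681⟩) (.leaf ⟨220, 27545667, none, 220, 25450569⟩))))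
(.node 4 (.node 2 (.node 1 (.leaf ⟨220, 17043521, none, 220, 19142731⟩) (.leaf ⟨220, 17043521, none, 220, 27539529⟩)) (.node 1 (.leaf ⟨220, 17059919, (some true), 221, 17043521⟩) (.leaf ⟨221, 17059919, (some true), 222, 17043521⟩)))
(.node 2 (.node 1 (.leaf ⟨222, 17043521, (some true), 221, 17059919⟩) (.leaf ⟨39, 23402573, none, 222, 11286623⟩)) (.node 1 (.leaf ⟨222, 17043521, none, 39, 13129817⟩) (.leaf ⟨221, 25770069, none, 220, 25450569⟩)))))
(.node 8 (.node 4 (.node 2 (.node 1 (.leaf ⟨221, 17043521, none, 220, 17649741⟩) (.leaf ⟨220, 19085399, (some false), 223, 17043521⟩)) (.node 1 (.leaf ⟨223, 17043521, (some false), 220, 19560517⟩) (.leaf ⟨220, 17043521, (some false), 223, 17510483⟩)))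
(.node 2 (.node 1 (.leaf ⟨220, 27529303, (some false), 223, 17594457⟩) (.leaf ⟨220, 13510735, (some false), 223, 17506379⟩)) (.node 1 (.leaf ⟨223, 10971209, (some true), 224, 17043521⟩) (.leaf ⟨224, 17043521, (some true), 223, 10971209⟩))))
(.node 4 (.node 2 (.node 1 (.leaf ⟨224, 13510735, (some false), 225, 17043521⟩) (.leaf ⟨225, 17043521, (some false), 224, 29761631⟩)) (.node 1 (.leaf ⟨39, 21839941, none, 225, 17649739⟩) (.leaf ⟨225, 17043521, none, 39, 4472909⟩)))
(.node 2 (.node 1 (.leaf ⟨224, 31936603, none, 217, 17045593⟩) (.leaf ⟨224, 17043521, none, 217, 25917507⟩)) (.node 1 (.leaf ⟨217, 25385043, (some true), 223, 11419739⟩) (.leaf ⟨217, 19085399, (some true), 223, 19867721⟩)))))))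
(.node 30 (.node 15 (.node 7 (.node 3 (.node 1 (.leaf ⟨217, 10971209, (some true), 223, 26093633⟩) (.node 1 (.leaf ⟨217, 11495495, (some true), 223, 25903177⟩) (.leaf ⟨220, 4808797, (some false), 226, 17043521⟩)))
(.node 2 (.node 1 (.leaf ⟨226, 17043521, (some false), 220, 23685197⟩) (.leaf ⟨226, 11495495, (some true), 227, 17043521⟩)) (.node 1 (.leaf ⟨227, 17043521, (some true), 226, 11495495⟩) (.leaf ⟨227, 13510735, (some false), 228, 17043521⟩))))
(.node 4 (.node 2 (.node 1 (.leaf ⟨228, 17043521, (some false), 227, 29761631⟩) (.leaf ⟨39, 29694035, none, 228, 17043521⟩)) (.node 1 (.leaf ⟨228, 17043521, none, 39, 29694035⟩) (.leaf ⟨227, 4862043, none, 210, 17717335⟩)))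
(.node 2 (.node 1 (.leaf ⟨227, 17043521, none, 210, 26093637⟩) (.leaf ⟨226, 25897031, none, 211, 27537475⟩)) (.node 1 (.leaf ⟨226, 17043521, none, 211, 19097693⟩) (.leaf ⟨211, 19085399, (some false), 220, 4796483⟩)))))
(.node 7 (.node 3 (.node 1 (.leaf ⟨50, 29904967, (some false), 229, 17043521⟩) (.node 1 (.leaf ⟨229, 17043521, (some false), 50, 13113429⟩) (.leaf ⟨50, 4808797, (some false), 229, 16922711⟩)))
(.node 2 (.node 1 (.leaf ⟨50, 19085399, (some false), 229, 16984159⟩) (.leaf ⟨50, 17043521, (some false), 229, 17782869⟩)) (.node 1 (.leaf ⟨50, 23928925, (some false), 229, 17109069⟩) (.leaf ⟨50, 13310023, (some false), 229, 17195085⟩))))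
(.node 4 (.node 2 (.node 1 (.leaf ⟨50, 10971209, (some false), 229, 17002561⟩) (.leaf ⟨50, 32125001, (some false), 229, 17721431⟩)) (.node 1 (.leaf ⟨229, 16998487, none, 229, 17002561⟩) (.leaf ⟨229, 17043521, none, 229, 17053785⟩)))
(.node 2 (.node 1 (.leaf ⟨229, 19085399, (some false), 230, 17043521⟩) (.leaf ⟨230, 11495495, (some true), 231, 17043521⟩)) (.node 1 (.leaf ⟨231, 17043521, (some true), 230, 11495495⟩) (.leaf ⟨231, 27529303, (some false), 232, 17043521⟩))))))
(.node 15 (.node 7 (.node 3 (.node 1 (.leaf ⟨232, 17043521, (some false), 231, 25516101⟩) (.node 1 (.leaf ⟨39, 28196931, none, 232, 19353669⟩) (.leaf ⟨232, 17043521, none, 39, 13387861⟩)))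
(.node 2 (.node 1 (.leaf ⟨231, 4943959, none, 217, 17002591⟩) (.leaf ⟨231, 17043521, none, 217, 27856975⟩)) (.node 1 (.leaf ⟨217, 17059919, (some true), 230, 19081311⟩) (.leaf ⟨217, 17043521, (some true), 230, 19882061⟩))))
(.node 4 (.node 2 (.node 1 (.leaf ⟨223, 19085399, (some false), 233, 17043521⟩) (.leaf ⟨233, 17059919, (some true), 234, 17043521⟩)) (.node 1 (.leaf ⟨234, 17043521, (some true), 233, 17059919⟩) (.leaf ⟨234, 19085399, (some false), 235, 17043521⟩)))
(.node 2 (.node 1 (.leaf ⟨235, 17043521, (some false), 234, 19560517⟩) (.leaf ⟨39, 29640781, none, 235, 19605587⟩)) (.node 1 (.leaf ⟨235, 17043521, none, 39, 12795983⟩) (.leaf ⟨234, 19863639, none, 217, 17045593⟩)))))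
(.node 8 (.node 4 (.node 2 (.node 1 (.leaf ⟨234, 17043521, none, 217, 19861595⟩) (.leaf ⟨233, 8933471, none, 223, 11419739⟩)) (.node 1 (.leaf ⟨233, 17043521, none, 223, 19537997⟩) (.leaf ⟨223, 19085399, (some true), 236, 17043521⟩)))
(.node 2 (.node 1 (.leaf ⟨236, 17043521, (some true), 223, 19085399⟩) (.leaf ⟨236, 11495495, (some true), 237, 17043521⟩)) (.node 1 (.leaf ⟨237, 17043521, (some true), 236, 11495495⟩) (.leaf ⟨237, 13310023, (some true), 238, 17043521⟩))))
(.node 4 (.node 2 (.node 1 (.leaf ⟨238, 17043521, (some true), 237, 13310023⟩) (.leaf ⟨39, 5001285, none, 238, 4749399⟩)) (.node 1 (.leaf ⟨238, 17043521, none, 39, 17522763⟩) (.leaf ⟨237, 23296069, none, 50, 17043529⟩)))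
(.node 2 (.node 1 (.leaf ⟨237, 17043521, none, 50, 25831519⟩) (.leaf ⟨236, 25372765, none, 62, 8546383⟩)) (.node 1 (.leaf ⟨236, 17043521, none, 62, 6637653⟩) (.leaf ⟨62, 4808797, (some true), 223, 11155541⟩)))))))))

/-- The facts. -/
def caseCFullFactsLLRL : Tab Fct := .node 244 caseCFullFactsLLRLL caseCFullFactsLLRLR

/-- The facts. -/
def caseCFullFactsLLRRL : Tab Fct :=
(.node 122 (.node 61 (.node 30 (.node 15 (.node 7 (.node 3 (.node 1 (.leaf ⟨62, 13310023, (some true), 223, 17193039⟩) (.node 1 (.leaf ⟨62, 4544593, (some true), 223, 19017815⟩) (.leaf ⟨62, 32131155, (some true), 223, 11415645⟩)))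
(.node 2 (.node 1 (.leaf ⟨62, 13510735, (some true), 223, 27947095⟩) (.leaf ⟨62, 31801425, (some true), 223, 11483231⟩)) (.node 1 (.leaf ⟨62, 32125001, (some true), 223, 17463383⟩) (.leaf ⟨62, 29904967, (some true), 223, 9375823⟩))))
(.node 4 (.node 2 (.node 1 (.leaf ⟨223, 17059919, (some true), 239, 17043521⟩) (.leaf ⟨239, 17043521, (some true), 223, 17059919⟩)) (.node 1 (.leaf ⟨239, 19085399, (some true), 240, 17043521⟩) (.leaf ⟨240, 17043521, (some true), 239, 19085399⟩)))
(.node 2 (.node 1 (.leaf ⟨240, 25385043, (some true), 241, 17043521⟩) (.leaf ⟨241, 17043521, (some true), 240, 25385043⟩)) (.node 1 (.leaf ⟨39, 23531611, none, 241, 6891589⟩) (.leaf ⟨241, 17043521, none, 39, 28002397⟩)))))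
(.node 7 (.node 3 (.node 1 (.leaf ⟨240, 19877971, none, 50, 17043521⟩) (.node 1 (.leaf ⟨240, 17043521, none, 50, 19355729⟩) (.leaf ⟨239, 10909781, none, 77, 27750487⟩)))
(.node 2 (.node 1 (.leaf ⟨239, 10909781, none, 71, 25630809⟩) (.leaf ⟨239, 17043521, none, 71, 29712457⟩)) (.node 1 (.leaf ⟨71, 31801425, (some true), 223, 11081821⟩) (.leaf ⟨71, 13310023, (some true), 223, 17649743⟩))))
(.node 4 (.node 2 (.node 1 (.leaf ⟨71, 13510735, (some true), 223, 11360341⟩) (.leaf ⟨71, 4544593, (some true), 223, 11022423⟩)) (.node 1 (.leaf ⟨230, 19085399, (some false), 242, 17043521⟩) (.leaf ⟨242, 17043521, (some false), 230, 19560517⟩)))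
(.node 2 (.node 1 (.leaf ⟨50, 9332803, none, 242, 19097671⟩) (.leaf ⟨242, 17043521, none, 50, 21368907⟩)) (.node 1 (.leaf ⟨230, 19290199, none, 229, 17002561⟩) (.leaf ⟨230, 17043521, none, 229, 19621957⟩))))))
(.node 15 (.node 7 (.node 3 (.node 1 (.leaf ⟨229, 17059919, (some true), 231, 25507923⟩) (.node 1 (.leaf ⟨74, 19085399, (some false), 243, 17043521⟩) (.leaf ⟨243, 17043521, (some false), 74, 19560517⟩)))
(.node 2 (.node 1 (.leaf ⟨50, 30230607, none, 243, 19664979⟩) (.leaf ⟨243, 17043521, none, 50, 12927053⟩)) (.node 1 (.leaf ⟨74, 19542111, none, 71, 17043521⟩) (.leaf ⟨74, 17043521, none, 71, 19884117⟩))))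
(.node 4 (.node 2 (.node 1 (.leaf ⟨71, 11495495, (some true), 75, 27555913⟩) (.leaf ⟨71, 19085399, (some true), 244, 17043521⟩)) (.node 1 (.leaf ⟨244, 17043521, (some true), 71, 19085399⟩) (.leaf ⟨244, 17059919, (some true), 245, 17043521⟩)))
(.node 2 (.node 1 (.leaf ⟨245, 17043521, (some true), 244, 17059919⟩) (.leaf ⟨50, 10960961, none, 245, 17051735⟩)) (.node 1 (.leaf ⟨245, 17043521, none, 50, 10698847⟩) (.leaf ⟨244, 8927325, none, 62, 8546383⟩)))))
(.node 8 (.node 4 (.node 2 (.node 1 (.leaf ⟨244, 17043521, none, 62, 17524811⟩) (.leaf ⟨71, 27474015, none, 183, 25720919⟩)) (.node 1 (.leaf ⟨183, 17043521, none, 71, 19542105⟩) (.leaf ⟨173, 21973069, none, 74, 17043521⟩)))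
(.node 2 (.node 1 (.leaf ⟨173, 21973069, none, 71, 19884117⟩) (.leaf ⟨173, 17043521, none, 71, 4487261⟩)) (.node 1 (.leaf ⟨71, 29904967, (some true), 161, 19017803⟩) (.leaf ⟨71, 32131155, (some true), 161, 25374809⟩))))
(.node 4 (.node 2 (.node 1 (.leaf ⟨71, 32125001, (some true), 161, 28201035⟩) (.leaf ⟨71, 4808797, (some true), 161, 19542083⟩)) (.node 1 (.leaf ⟨71, 17059919, (some true), 174, 17117249⟩) (.leaf ⟨71, 27529303, (some false), 188, 17111113⟩)))
(.node 2 (.node 1 (.leaf ⟨71, 29904967, (some false), 188, 16939079⟩) (.leaf ⟨71, 4808797, (some false), 188, 17657945⟩)) (.node 1 (.leaf ⟨71, 13510735, (some false), 188, 17240129⟩) (.leaf ⟨50, 13310023, (some true), 246, 17043521⟩)))))))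
(.node 30 (.node 15 (.node 7 (.node 3 (.node 1 (.leaf ⟨50, 17059919, (some true), 246, 27531345⟩) (.node 1 (.leaf ⟨62, 10971209, (some false), 248, 17043521⟩) (.leaf ⟨248, 17043521, (some false), 62, 9396299⟩)))
(.node 2 (.node 1 (.leaf ⟨62, 9056345, (some false), 248, 17649755⟩) (.leaf ⟨62, 31801425, (some false), 248, 17242177⟩)) (.node 1 (.leaf ⟨62, 13310023, (some false), 248, 17764427⟩) (.leaf ⟨62, 32125001, (some false), 248, 17700933⟩))))
(.node 4 (.node 2 (.node 1 (.leaf ⟨62, 6776923, (some false), 248, 17643605⟩) (.leaf ⟨62, 7292999, (some false), 248, 17262677⟩)) (.node 1 (.leaf ⟨62, 23928925, (some false), 248, 17197139⟩) (.leaf ⟨246, 4808797, (some false), 249, 17043521⟩)))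
(.node 2 (.node 1 (.leaf ⟨249, 17043521, (some false), 246, 23685197⟩) (.leaf ⟨249, 11495495, (some true), 250, 17043521⟩)) (.node 1 (.leaf ⟨250, 17043521, (some true), 249, 11495495⟩) (.leaf ⟨250, 13510735, (some false), 251, 17043521⟩)))))
(.node 7 (.node 3 (.node 1 (.leaf ⟨251, 17043521, (some false), 250, 29761631⟩) (.node 1 (.leaf ⟨50, 29825095, none, 251, 17119297⟩) (.leaf ⟨251, 17043521, none, 50, 23214159⟩)))
(.node 2 (.node 1 (.leaf ⟨250, 11343963, none, 70, 17119325⟩) (.leaf ⟨250, 11343963, none, 50, 21127243⟩)) (.node 1 (.leaf ⟨250, 17043521, none, 50, 31664217⟩) (.leaf ⟨249, 25575495, none, 68, 17043521⟩))))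
(.node 4 (.node 2 (.node 1 (.leaf ⟨249, 25575495, none, 50, 23480395⟩) (.leaf ⟨249, 17043521, none, 50, 27531337⟩)) (.node 1 (.leaf ⟨246, 21571655, none, 70, 17119325⟩) (.leaf ⟨246, 21571655, none, 50, 21127243⟩)))
(.node 2 (.node 1 (.leaf ⟨246, 17043521, none, 50, 17641565⟩) (.leaf ⟨71, 23928925, (some false), 252, 17043521⟩)) (.node 1 (.leaf ⟨252, 17043521, (some false), 71, 4991053⟩) (.leaf ⟨71, 13310023, (some false), 252, 16982089⟩))))))
(.node 15 (.node 7 (.node 3 (.node 1 (.leaf ⟨71, 6776923, (some false), 252, 17569873⟩) (.node 1 (.leaf ⟨71, 9056345, (some false), 252, 17068117⟩) (.leaf ⟨248, 19085399, (some false), 253, 17043521⟩)))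
(.node 2 (.node 1 (.leaf ⟨253, 25385043, (some true), 254, 17043521⟩) (.leaf ⟨254, 17043521, (some true), 253, 25385043⟩)) (.node 1 (.leaf ⟨254, 29904967, (some false), 255, 17043521⟩) (.leaf ⟨255, 17043521, (some false), 254, 13113429⟩))))
(.node 4 (.node 2 (.node 1 (.leaf ⟨50, 23672901, none, 255, 19689549⟩) (.leaf ⟨255, 17043521, none, 50, 29904987⟩)) (.node 1 (.leaf ⟨254, 32002127, none, 229, 17043521⟩) (.leaf ⟨254, 17043521, none, 229, 9121881⟩)))
(.node 2 (.node 1 (.leaf ⟨229, 25385043, (some true), 253, 8869955⟩) (.leaf ⟨229, 11495495, (some true), 253, 27752539⟩)) (.node 1 (.leaf ⟨53, 4808797, (some false), 256, 17043521⟩) (.leaf ⟨256, 17043521, (some false), 53, 23685197⟩)))))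
(.node 8 (.node 4 (.node 2 (.node 1 (.leaf ⟨53, 6776923, (some false), 256, 17715269⟩) (.leaf ⟨53, 13510735, (some false), 256, 16934995⟩)) (.node 1 (.leaf ⟨53, 13310023, (some false), 256, 16982093⟩) (.leaf ⟨53, 23928925, (some false), 256, 17717329⟩)))
(.node 2 (.node 1 (.leaf ⟨53, 29904967, (some false), 256, 17770581⟩) (.leaf ⟨53, 9056345, (some false), 256, 17657939⟩)) (.node 1 (.leaf ⟨53, 27529303, (some false), 256, 17578049⟩) (.leaf ⟨256, 17180751, none, 256, 17770581⟩))))
(.node 4 (.node 2 (.node 1 (.leaf ⟨256, 17059921, none, 256, 17715269⟩) (.leaf ⟨256, 17043521, none, 256, 17174597⟩)) (.node 1 (.leaf ⟨256, 17043521, none, 256, 17633365⟩) (.leaf ⟨256, 19085399, (some false), 257, 17043521⟩)))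
(.node 2 (.node 1 (.leaf ⟨257, 19085399, (some false), 258, 17043521⟩) (.leaf ⟨258, 17043521, (some false), 257, 19560517⟩)) (.node 1 (.leaf ⟨53, 13197403, none, 258, 19560535⟩) (.leaf ⟨258, 17043521, none, 53, 21524565⟩))))))))
(.node 61 (.node 30 (.node 15 (.node 7 (.node 3 (.node 1 (.leaf ⟨257, 19691589, none, 256, 17770581⟩) (.node 1 (.leaf ⟨257, 17043521, none, 256, 19030099⟩) (.leaf ⟨53, 17059919, (some true), 259, 17043521⟩)))
(.node 2 (.node 1 (.leaf ⟨259, 17043521, (some true), 53, 17059919⟩) (.leaf ⟨53, 19085399, (some true), 259, 19664963⟩)) (.node 1 (.leaf ⟨53, 17043521, (some true), 259, 17641537⟩) (.leaf ⟨53, 25385043, (some true), 259, 11358275⟩))))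
(.node 4 (.node 2 (.node 1 (.leaf ⟨259, 17135683, none, 259, 17641537⟩) (.leaf ⟨259, 19689555, none, 259, 19664963⟩)) (.node 1 (.leaf ⟨259, 17043521, none, 259, 17051731⟩) (.leaf ⟨259, 17043521, none, 259, 17586243⟩)))
(.node 2 (.node 1 (.leaf ⟨53, 13310023, (some true), 262, 17043521⟩) (.leaf ⟨53, 4808797, (some true), 262, 17594441⟩)) (.node 1 (.leaf ⟨53, 4544593, (some true), 262, 9244763⟩) (.leaf ⟨53, 13510735, (some true), 262, 17133649⟩)))))
(.node 7 (.node 3 (.node 1 (.leaf ⟨53, 31801425, (some true), 262, 9269331⟩) (.node 1 (.leaf ⟨53, 29904967, (some true), 262, 19140697⟩) (.leaf ⟨53, 32131155, (some true), 262, 9181275⟩)))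
(.node 2 (.node 1 (.leaf ⟨53, 32125001, (some true), 262, 25524289⟩) (.leaf ⟨262, 19755075, none, 262, 17594441⟩)) (.node 1 (.leaf ⟨262, 9254995, none, 262, 25524289⟩) (.leaf ⟨262, 17043521, none, 262, 11106393⟩))))
(.node 4 (.node 2 (.node 1 (.leaf ⟨262, 17043521, none, 262, 19208283⟩) (.leaf ⟨57, 6776923, (some false), 265, 17043521⟩)) (.node 1 (.leaf ⟨265, 17043521, (some false), 57, 21979225⟩) (.leaf ⟨265, 17764435, none, 265, 17043521⟩)))
(.node 2 (.node 1 (.leaf ⟨265, 17567829, none, 265, 17043521⟩) (.leaf ⟨265, 17043521, none, 265, 17567829⟩)) (.node 1 (.leaf ⟨265, 17043521, none, 265, 17764435⟩) (.leaf ⟨262, 17043521, (some false), 266, 17043521⟩))))))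
(.node 15 (.node 7 (.node 3 (.node 1 (.leaf ⟨266, 17043521, (some false), 262, 17127489⟩) (.node 1 (.leaf ⟨259, 27529303, (some false), 267, 17043521⟩) (.leaf ⟨267, 17043521, (some false), 259, 25516101⟩)))
(.node 2 (.node 1 (.leaf ⟨267, 17524817, none, 267, 17043521⟩) (.leaf ⟨259, 4808797, (some false), 267, 17244243⟩)) (.node 1 (.leaf ⟨267, 17244229, none, 267, 17244243⟩) (.leaf ⟨267, 17043521, none, 267, 17043549⟩))))
(.node 4 (.node 2 (.node 1 (.leaf ⟨267, 17043521, none, 267, 17524817⟩) (.leaf ⟨267, 19085399, (some true), 268, 17043521⟩)) (.node 1 (.leaf ⟨268, 17043521, (some true), 267, 19085399⟩) (.leaf ⟨268, 19085399, (some false), 269, 17043521⟩)))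
(.node 2 (.node 1 (.leaf ⟨269, 17043521, (some false), 268, 19560517⟩) (.leaf ⟨53, 8605771, none, 269, 16998483⟩)) (.node 1 (.leaf ⟨269, 17043521, none, 53, 21260357⟩) (.leaf ⟨268, 19607641, none, 256, 17717329⟩)))))
(.node 8 (.node 4 (.node 2 (.node 1 (.leaf ⟨268, 17043521, none, 256, 19603549⟩) (.leaf ⟨256, 11495495, (some true), 267, 26163271⟩)) (.node 1 (.leaf ⟨266, 25385043, (some true), 270, 17043521⟩) (.leaf ⟨270, 17043521, (some true), 266, 25385043⟩)))
(.node 2 (.node 1 (.leaf ⟨270, 4808797, (some false), 271, 17043521⟩) (.leaf ⟨271, 17043521, (some false), 270, 23685197⟩)) (.node 1 (.leaf ⟨53, 7024723, none, 271, 16918615⟩) (.leaf ⟨271, 17043521, none, 53, 11352137⟩))))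
(.node 4 (.node 2 (.node 1 (.leaf ⟨270, 6910025, none, 256, 16934995⟩) (.leaf ⟨270, 17043521, none, 256, 11096149⟩)) (.node 1 (.leaf ⟨256, 17059919, (some true), 266, 16937041⟩) (.leaf ⟨256, 25385043, (some true), 266, 10973257⟩)))
(.node 2 (.node 1 (.leaf ⟨256, 19085399, (some true), 266, 19271761⟩) (.leaf ⟨256, 17043521, (some true), 266, 17780817⟩)) (.node 1 (.leaf ⟨262, 13510735, (some false), 272, 17043521⟩) (.leaf ⟨272, 17633361, none, 272, 17043521⟩)))))))
(.node 30 (.node 15 (.node 7 (.node 3 (.node 1 (.leaf ⟨272, 17567811, none, 272, 17043521⟩) (.node 1 (.leaf ⟨272, 17043521, none, 272, 17567811⟩) (.leaf ⟨272, 17043521, none, 272, 17633361⟩)))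
(.node 2 (.node 1 (.leaf ⟨262, 27529303, (some false), 273, 17043521⟩) (.leaf ⟨273, 17045585, none, 273, 17043521⟩)) (.node 1 (.leaf ⟨273, 17059923, none, 273, 17043521⟩) (.leaf ⟨273, 17043521, none, 273, 17059923⟩))))
(.node 4 (.node 2 (.node 1 (.leaf ⟨273, 17043521, none, 273, 17045585⟩) (.leaf ⟨273, 19085399, (some false), 274, 17043521⟩)) (.node 1 (.leaf ⟨274, 17043521, (some false), 273, 19560517⟩) (.leaf ⟨274, 17633347, none, 274, 17043521⟩)))
(.node 2 (.node 1 (.leaf ⟨274, 17567827, none, 274, 17043521⟩) (.leaf ⟨274, 17043521, none, 274, 17567827⟩)) (.node 1 (.leaf ⟨274, 17043521, none, 274, 17633347⟩) (.leaf ⟨274, 25385043, (some true), 275, 17043521⟩)))))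
(.node 7 (.node 3 (.node 1 (.leaf ⟨275, 17043521, (some true), 274, 25385043⟩) (.node 1 (.leaf ⟨275, 27529283, none, 275, 17043521⟩) (.leaf ⟨275, 25432139, none, 275, 17043521⟩)))
(.node 2 (.node 1 (.leaf ⟨275, 17043521, none, 275, 25432139⟩) (.leaf ⟨275, 17043521, none, 275, 27529283⟩)) (.node 1 (.leaf ⟨275, 29904967, (some false), 276, 17043521⟩) (.leaf ⟨276, 17043521, (some false), 275, 13113429⟩))))
(.node 4 (.node 2 (.node 1 (.leaf ⟨53, 30031957, none, 276, 19148877⟩) (.leaf ⟨276, 17043521, none, 53, 24070235⟩)) (.node 1 (.leaf ⟨53, 7292999, (some false), 275, 29907023⟩) (.leaf ⟨53, 10971209, (some false), 275, 4747347⟩)))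
(.node 2 (.node 1 (.leaf ⟨275, 21524575, none, 275, 4747347⟩) (.leaf ⟨275, 11032671, none, 275, 29907023⟩)) (.node 1 (.leaf ⟨275, 17043521, none, 275, 21237833⟩) (.leaf ⟨275, 17043521, none, 275, 25432141⟩))))))
(.node 15 (.node 7 (.node 3 (.node 1 (.leaf ⟨275, 17059919, (some true), 274, 25915457⟩) (.node 1 (.leaf ⟨266, 11495495, (some true), 277, 17043521⟩) (.leaf ⟨277, 13310023, (some true), 278, 17043521⟩)))
(.node 2 (.node 1 (.leaf ⟨278, 17043521, (some true), 277, 13310023⟩) (.leaf ⟨278, 31801425, (some true), 279, 17043521⟩)) (.node 1 (.leaf ⟨279, 17043521, (some true), 278, 31801425⟩) (.leaf ⟨53, 21573709, none, 279, 21192785⟩))))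
(.node 4 (.node 2 (.node 1 (.leaf ⟨279, 17043521, none, 53, 17584207⟩) (.leaf ⟨278, 30228563, none, 259, 17043521⟩)) (.node 1 (.leaf ⟨278, 17043521, none, 259, 4679751⟩) (.leaf ⟨259, 13510735, (some true), 277, 4945989⟩)))
(.node 2 (.node 1 (.leaf ⟨259, 32125001, (some true), 277, 13307991⟩) (.leaf ⟨259, 31801425, (some true), 277, 5189727⟩)) (.node 1 (.leaf ⟨259, 4808797, (some true), 277, 4864071⟩) (.leaf ⟨259, 13310023, (some true), 277, 4683847⟩)))))
(.node 8 (.node 4 (.node 2 (.node 1 (.leaf ⟨259, 32131155, (some true), 277, 5189727⟩) (.leaf ⟨259, 4544593, (some true), 277, 31608917⟩)) (.node 1 (.leaf ⟨259, 29904967, (some true), 277, 13588573⟩) (.leaf ⟨266, 10971209, (some true), 280, 17043521⟩)))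
(.node 2 (.node 1 (.leaf ⟨280, 17043521, (some true), 266, 10971209⟩) (.leaf ⟨280, 32125001, (some true), 281, 17043521⟩)) (.node 1 (.leaf ⟨281, 17043521, (some true), 280, 32125001⟩) (.leaf ⟨281, 32125001, (some true), 282, 17043521⟩))))
(.node 4 (.node 2 (.node 1 (.leaf ⟨282, 17043521, (some true), 281, 32125001⟩) (.leaf ⟨53, 29972551, none, 282, 21198913⟩)) (.node 1 (.leaf ⟨282, 17043521, none, 53, 7096393⟩) (.leaf ⟨281, 31668313, none, 262, 9269331⟩)))
(.node 2 (.node 1 (.leaf ⟨281, 17043521, none, 262, 13453391⟩) (.leaf ⟨262, 4808797, (some true), 280, 4864067⟩)) (.node 1 (.leaf ⟨262, 25385043, (some true), 280, 14833745⟩) (.leaf ⟨262, 19085399, (some true), 280, 13504595⟩)))))))))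

/-- The facts. -/
def caseCFullFactsLLRRR : Tab Fct :=
(.node 122 (.node 61 (.node 30 (.node 15 (.node 7 (.node 3 (.node 1 (.leaf ⟨262, 31801425, (some true), 280, 23531593⟩) (.node 1 (.leaf ⟨57, 4808797, (some false), 283, 17043521⟩) (.leaf ⟨283, 17043521, (some false), 57, 23685197⟩)))
(.node 2 (.node 1 (.leaf ⟨57, 27529303, (some false), 283, 16988237⟩) (.leaf ⟨57, 13510735, (some false), 283, 17786969⟩)) (.node 1 (.leaf ⟨57, 29904967, (some false), 283, 17705053⟩) (.leaf ⟨57, 32125001, (some false), 283, 17506387⟩))))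
(.node 4 (.node 2 (.node 1 (.leaf ⟨57, 7292999, (some false), 283, 17700955⟩) (.leaf ⟨57, 31801425, (some false), 283, 17440859⟩)) (.node 1 (.leaf ⟨57, 10971209, (some false), 283, 17576013⟩) (.leaf ⟨283, 17117265, none, 283, 17576013⟩)))
(.node 2 (.node 1 (.leaf ⟨283, 17043521, none, 283, 17633365⟩) (.leaf ⟨57, 13510735, (some true), 286, 17043521⟩)) (.node 1 (.leaf ⟨57, 4544593, (some true), 286, 25499721⟩) (.leaf ⟨57, 29904967, (some true), 286, 19232843⟩)))))
(.node 7 (.node 3 (.node 1 (.leaf ⟨57, 32131155, (some true), 286, 27596875⟩) (.node 1 (.leaf ⟨286, 27539523, none, 286, 17043521⟩) (.leaf ⟨286, 17117251, none, 286, 27596875⟩)))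
(.node 2 (.node 1 (.leaf ⟨286, 17043521, none, 286, 25440331⟩) (.leaf ⟨286, 17043521, none, 286, 27539523⟩)) (.node 1 (.leaf ⟨286, 17059919, (some true), 287, 17043521⟩) (.leaf ⟨287, 17059919, (some true), 288, 17043521⟩))))
(.node 4 (.node 2 (.node 1 (.leaf ⟨288, 17043521, (some true), 287, 17059919⟩) (.leaf ⟨57, 4925517, none, 288, 19675215⟩)) (.node 1 (.leaf ⟨288, 17043521, none, 57, 29777987⟩) (.leaf ⟨287, 25694293, none, 286, 27596875⟩)))
(.node 2 (.node 1 (.leaf ⟨287, 17043521, none, 286, 19732567⟩) (.leaf ⟨57, 25385043, (some true), 289, 17043521⟩)) (.node 1 (.leaf ⟨289, 17059919, (some true), 290, 17043521⟩) (.leaf ⟨290, 17043521, (some true), 289, 17059919⟩))))))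
(.node 15 (.node 7 (.node 3 (.node 1 (.leaf ⟨290, 17059919, (some true), 291, 17043521⟩) (.node 1 (.leaf ⟨291, 17043521, (some true), 290, 17059919⟩) (.leaf ⟨57, 19017801, none, 291, 8917087⟩)))
(.node 2 (.node 1 (.leaf ⟨291, 17043521, none, 57, 10637391⟩) (.leaf ⟨290, 27555909, none, 58, 17043521⟩)) (.node 1 (.leaf ⟨290, 27555909, none, 53, 19343431⟩) (.leaf ⟨290, 17043521, none, 53, 26159171⟩))))
(.node 4 (.node 2 (.node 1 (.leaf ⟨289, 19730501, none, 57, 25849949⟩) (.leaf ⟨289, 17043521, none, 57, 11221067⟩)) (.node 1 (.leaf ⟨286, 17043521, (some false), 292, 17043521⟩) (.leaf ⟨292, 17043521, (some false), 286, 17127489⟩)))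
(.node 2 (.node 1 (.leaf ⟨286, 13510735, (some false), 292, 17782865⟩) (.leaf ⟨286, 19085399, (some false), 292, 17786947⟩)) (.node 1 (.leaf ⟨286, 27529303, (some false), 292, 16998469⟩) (.leaf ⟨71, 10971209, (some false), 293, 17043521⟩)))))
(.node 8 (.node 4 (.node 2 (.node 1 (.leaf ⟨293, 17043521, (some false), 71, 9396299⟩) (.leaf ⟨71, 31801425, (some false), 293, 17461331⟩)) (.node 1 (.leaf ⟨293, 17174617, none, 293, 17461331⟩) (.leaf ⟨293, 17043521, none, 293, 17457231⟩)))
(.node 2 (.node 1 (.leaf ⟨293, 19085399, (some true), 294, 17043521⟩) (.leaf ⟨294, 17043521, (some true), 293, 19085399⟩)) (.node 1 (.leaf ⟨294, 19085399, (some false), 295, 17043521⟩) (.leaf ⟨295, 17043521, (some false), 294, 19560517⟩))))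
(.node 4 (.node 2 (.node 1 (.leaf ⟨57, 27875399, none, 295, 17197123⟩) (.leaf ⟨295, 17043521, none, 57, 4796511⟩)) (.node 1 (.leaf ⟨294, 19538001, none, 283, 17043521⟩) (.leaf ⟨294, 17043521, none, 283, 19032147⟩)))
(.node 2 (.node 1 (.leaf ⟨283, 10971209, (some true), 293, 25376845⟩) (.leaf ⟨53, 32125001, (some false), 296, 17043521⟩)) (.node 1 (.leaf ⟨53, 31801425, (some false), 296, 17045571⟩) (.leaf ⟨296, 17043521, (some true), 297, 17043521⟩)))))))
(.node 30 (.node 15 (.node 7 (.node 3 (.node 1 (.leaf ⟨297, 17043521, (some false), 298, 17043521⟩) (.node 1 (.leaf ⟨298, 17043521, (some false), 297, 17127489⟩) (.leaf ⟨57, 11415621, none, 298, 16920643⟩)))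
(.node 2 (.node 1 (.leaf ⟨298, 17043521, none, 57, 15339595⟩) (.leaf ⟨57, 13310023, (some false), 297, 17649739⟩)) (.node 1 (.leaf ⟨71, 7292999, (some false), 299, 17043521⟩) (.leaf ⟨71, 32125001, (some false), 299, 17705037⟩))))
(.node 4 (.node 2 (.node 1 (.leaf ⟨299, 17508437, none, 299, 17705037⟩) (.leaf ⟨299, 17043521, none, 299, 17174615⟩)) (.node 1 (.leaf ⟨292, 19085399, (some false), 300, 17043521⟩) (.leaf ⟨300, 19085399, (some true), 301, 17043521⟩)))
(.node 2 (.node 1 (.leaf ⟨301, 17043521, (some true), 300, 19085399⟩) (.leaf ⟨301, 17043521, (some false), 302, 17043521⟩)) (.node 1 (.leaf ⟨302, 17043521, (some false), 301, 17127489⟩) (.leaf ⟨57, 15560777, none, 302, 19560531⟩)))))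
(.node 7 (.node 3 (.node 1 (.leaf ⟨302, 17043521, none, 57, 24057951⟩) (.node 1 (.leaf ⟨301, 17659991, none, 283, 17576013⟩) (.leaf ⟨301, 17043521, none, 283, 17127497⟩)))
(.node 2 (.node 1 (.leaf ⟨283, 17043521, (some true), 300, 19273821⟩) (.leaf ⟨283, 17059919, (some true), 300, 19609671⟩)) (.node 1 (.leaf ⟨57, 23928925, (some false), 303, 17043521⟩) (.leaf ⟨303, 17764419, none, 303, 17043521⟩))))
(.node 4 (.node 2 (.node 1 (.leaf ⟨303, 17174597, none, 303, 17043521⟩) (.leaf ⟨303, 17043521, none, 303, 17174597⟩)) (.node 1 (.leaf ⟨303, 17043521, none, 303, 17764419⟩) (.leaf ⟨303, 19085399, (some true), 304, 17043521⟩)))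
(.node 2 (.node 1 (.leaf ⟨303, 17043521, (some true), 304, 19222595⟩) (.leaf ⟨303, 25385043, (some true), 304, 8998977⟩)) (.node 1 (.leaf ⟨303, 17059919, (some true), 304, 19675203⟩) (.leaf ⟨304, 19085399, (some true), 305, 17043521⟩))))))
(.node 15 (.node 7 (.node 3 (.node 1 (.leaf ⟨305, 17043521, (some true), 304, 19085399⟩) (.node 1 (.leaf ⟨305, 11495495, (some true), 306, 17043521⟩) (.leaf ⟨306, 17043521, (some true), 305, 11495495⟩)))
(.node 2 (.node 1 (.leaf ⟨57, 11155547, none, 306, 21178435⟩) (.leaf ⟨306, 17043521, none, 57, 4733021⟩)) (.node 1 (.leaf ⟨305, 8872013, none, 286, 19232843⟩) (.leaf ⟨305, 17043521, none, 286, 23687257⟩))))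
(.node 4 (.node 2 (.node 1 (.leaf ⟨286, 4544593, (some true), 304, 26171477⟩) (.leaf ⟨57, 31801425, (some true), 307, 17043521⟩)) (.node 1 (.leaf ⟨57, 13310023, (some true), 307, 25702475⟩) (.leaf ⟨57, 4808797, (some true), 307, 17567835⟩)))
(.node 2 (.node 1 (.leaf ⟨57, 32125001, (some true), 307, 27611219⟩) (.leaf ⟨307, 19140683, none, 307, 17043521⟩)) (.node 1 (.leaf ⟨307, 11022427, none, 307, 25702475⟩) (.leaf ⟨307, 17043521, none, 307, 27529289⟩)))))
(.node 8 (.node 4 (.node 2 (.node 1 (.leaf ⟨307, 17043521, none, 307, 19140683⟩) (.leaf ⟨307, 17043521, (some false), 308, 17043521⟩)) (.node 1 (.leaf ⟨308, 17043521, (some false), 307, 17127489⟩) (.leaf ⟨307, 27529303, (some false), 308, 17061977⟩)))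
(.node 2 (.node 1 (.leaf ⟨307, 13510735, (some false), 308, 17528907⟩) (.leaf ⟨307, 19085399, (some false), 308, 17246291⟩)) (.node 1 (.leaf ⟨308, 17059919, (some true), 309, 17043521⟩) (.leaf ⟨309, 17043521, (some true), 308, 17059919⟩))))
(.node 4 (.node 2 (.node 1 (.leaf ⟨309, 10971209, (some true), 310, 17043521⟩) (.leaf ⟨310, 17043521, (some true), 309, 10971209⟩)) (.node 1 (.leaf ⟨310, 13310023, (some true), 311, 17043521⟩) (.leaf ⟨311, 17043521, (some true), 310, 13310023⟩)))
(.node 2 (.node 1 (.leaf ⟨57, 23347281, none, 311, 6891585⟩) (.leaf ⟨311, 17043521, none, 57, 27469899⟩)) (.node 1 (.leaf ⟨310, 12802127, none, 74, 27807811⟩) (.leaf ⟨310, 12802127, none, 71, 26091597⟩))))))))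
(.node 61 (.node 30 (.node 15 (.node 7 (.node 3 (.node 1 (.leaf ⟨310, 17043521, none, 71, 24012867⟩) (.node 1 (.leaf ⟨309, 17000523, none, 161, 25374809⟩) (.leaf ⟨309, 17043521, none, 161, 6582355⟩)))
(.node 2 (.node 1 (.leaf ⟨161, 4544593, (some true), 308, 8984661⟩) (.leaf ⟨60, 19085399, (some false), 314, 17043521⟩)) (.node 1 (.leaf ⟨314, 19085399, (some false), 315, 17043521⟩) (.leaf ⟨315, 19085399, (some false), 316, 17043521⟩))))
(.node 4 (.node 2 (.node 1 (.leaf ⟨60, 19802201, none, 316, 19673171⟩) (.leaf ⟨316, 17043521, none, 60, 17522777⟩)) (.node 1 (.leaf ⟨60, 17059919, (some true), 317, 17043521⟩) (.leaf ⟨317, 17059919, (some true), 318, 17043521⟩)))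
(.node 2 (.node 1 (.leaf ⟨318, 17043521, (some true), 317, 17059919⟩) (.leaf ⟨318, 17059919, (some true), 319, 17043521⟩)) (.node 1 (.leaf ⟨319, 17043521, (some true), 318, 17059919⟩) (.leaf ⟨60, 17127519, none, 319, 17567837⟩)))))
(.node 7 (.node 3 (.node 1 (.leaf ⟨319, 17043521, none, 60, 17651779⟩) (.node 1 (.leaf ⟨318, 17635405, none, 16, 11495495⟩) (.leaf ⟨318, 17043521, none, 16, 25632857⟩)))
(.node 2 (.node 1 (.leaf ⟨317, 17635405, none, 60, 11081811⟩) (.leaf ⟨317, 17043521, none, 60, 25759823⟩)) (.node 1 (.leaf ⟨60, 11495495, (some true), 320, 17043521⟩) (.leaf ⟨60, 10971209, (some true), 320, 8927307⟩))))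
(.node 4 (.node 2 (.node 1 (.leaf ⟨60, 25385043, (some true), 320, 19689539⟩) (.leaf ⟨60, 19085399, (some true), 320, 11286593⟩)) (.node 1 (.leaf ⟨320, 11300929, none, 320, 11286593⟩) (.leaf ⟨320, 17045569, none, 320, 17043521⟩)))
(.node 2 (.node 1 (.leaf ⟨320, 25778251, none, 320, 19689539⟩) (.leaf ⟨320, 11096147, none, 320, 8927307⟩)) (.node 1 (.leaf ⟨320, 17043521, none, 320, 19232857⟩) (.leaf ⟨320, 17043521, none, 320, 8941659⟩))))))
(.node 15 (.node 7 (.node 3 (.node 1 (.leaf ⟨320, 17043521, none, 320, 17045569⟩) (.node 1 (.leaf ⟨320, 17043521, none, 320, 17068097⟩) (.leaf ⟨28, 13310023, (some false), 323, 17043521⟩)))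
(.node 2 (.node 1 (.leaf ⟨28, 7292999, (some false), 323, 17703005⟩) (.leaf ⟨28, 23928925, (some false), 323, 17119317⟩)) (.node 1 (.leaf ⟨28, 31801425, (some false), 323, 17070175⟩) (.leaf ⟨60, 29904967, (some false), 324, 17043521⟩))))
(.node 4 (.node 2 (.node 1 (.leaf ⟨324, 17043521, (some true), 325, 17043521⟩) (.leaf ⟨325, 17043521, (some false), 326, 17043521⟩)) (.node 1 (.leaf ⟨326, 17043521, (some false), 325, 17127489⟩) (.leaf ⟨60, 19667029, none, 326, 17446985⟩)))
(.node 2 (.node 1 (.leaf ⟨326, 17043521, none, 60, 19359831⟩) (.leaf ⟨325, 17004617, none, 314, 17043521⟩)) (.node 1 (.leaf ⟨325, 17043521, none, 314, 17705053⟩) (.leaf ⟨60, 4544593, (some true), 327, 17043521⟩)))))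
(.node 8 (.node 4 (.node 2 (.node 1 (.leaf ⟨60, 29904967, (some true), 327, 25458761⟩) (.leaf ⟨60, 31801425, (some true), 327, 19208275⟩)) (.node 1 (.leaf ⟨60, 4808797, (some true), 327, 9246795⟩) (.leaf ⟨327, 11104345, none, 327, 17043521⟩)))
(.node 2 (.node 1 (.leaf ⟨327, 11081817, none, 327, 17043521⟩) (.leaf ⟨327, 11294811, none, 327, 9246795⟩)) (.node 1 (.leaf ⟨327, 17043521, none, 327, 19232859⟩) (.leaf ⟨327, 17043521, none, 327, 11081817⟩))))
(.node 4 (.node 2 (.node 1 (.leaf ⟨327, 17043521, none, 327, 11104345⟩) (.leaf ⟨327, 17043521, (some false), 328, 17043521⟩)) (.node 1 (.leaf ⟨327, 19085399, (some false), 328, 17135699⟩) (.leaf ⟨327, 29904967, (some false), 328, 17510485⟩)))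
(.node 2 (.node 1 (.leaf ⟨327, 4808797, (some false), 328, 17578063⟩) (.leaf ⟨328, 17260637, none, 328, 17578063⟩)) (.node 1 (.leaf ⟨328, 17043521, none, 328, 16916563⟩) (.leaf ⟨320, 29904967, (some false), 329, 17043521⟩)))))))
(.node 31 (.node 15 (.node 7 (.node 3 (.node 1 (.leaf ⟨320, 4808797, (some false), 329, 16918597⟩) (.node 1 (.leaf ⟨320, 19085399, (some false), 329, 16984143⟩) (.leaf ⟨320, 17043521, (some false), 329, 17768535⟩)))
(.node 2 (.node 1 (.leaf ⟨329, 17059921, none, 329, 17043521⟩) (.leaf ⟨329, 17053785, none, 329, 17043521⟩)) (.node 1 (.leaf ⟨329, 17043521, none, 329, 17053785⟩) (.leaf ⟨329, 17043521, none, 329, 17059921⟩))))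
(.node 4 (.node 2 (.node 1 (.leaf ⟨329, 19085399, (some false), 330, 17043521⟩) (.leaf ⟨330, 17698885, none, 330, 17043521⟩)) (.node 1 (.leaf ⟨330, 17633363, none, 330, 17043521⟩) (.leaf ⟨330, 17043521, none, 330, 17633363⟩)))
(.node 2 (.node 1 (.leaf ⟨330, 17043521, none, 330, 17698885⟩) (.leaf ⟨330, 11495495, (some true), 331, 17043521⟩)) (.node 1 (.leaf ⟨331, 17043521, (some true), 330, 11495495⟩) (.leaf ⟨331, 27529303, (some false), 332, 17043521⟩)))))
(.node 8 (.node 4 (.node 2 (.node 1 (.leaf ⟨332, 17043521, (some false), 331, 25516101⟩) (.leaf ⟨60, 11233363, none, 332, 19337301⟩)) (.node 1 (.leaf ⟨332, 17043521, none, 60, 13269063⟩) (.leaf ⟨331, 11276365, none, 153, 17780807⟩)))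
(.node 2 (.node 1 (.leaf ⟨331, 17043521, none, 153, 27752529⟩) (.leaf ⟨153, 25385043, (some true), 330, 8806493⟩)) (.node 1 (.leaf ⟨153, 19085399, (some true), 330, 17000541⟩) (.leaf ⟨327, 27529303, (some false), 333, 17043521⟩))))
(.node 4 (.node 2 (.node 1 (.leaf ⟨333, 19085399, (some false), 334, 17043521⟩) (.leaf ⟨334, 25385043, (some true), 335, 17043521⟩)) (.node 1 (.leaf ⟨335, 29904967, (some false), 336, 17043521⟩) (.leaf ⟨336, 17043521, (some false), 335, 13113429⟩)))
(.node 2 (.node 1 (.leaf ⟨60, 23666761, none, 336, 19224663⟩) (.leaf ⟨336, 17043521, none, 60, 4728911⟩)) (.node 1 (.leaf ⟨335, 21522515, none, 324, 17043521⟩) (.leaf ⟨335, 17043521, none, 324, 8872011⟩))))))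
(.node 15 (.node 7 (.node 3 (.node 1 (.leaf ⟨328, 10971209, (some true), 337, 17043521⟩) (.node 1 (.leaf ⟨328, 17043521, (some true), 337, 11350083⟩) (.leaf ⟨337, 32125001, (some true), 338, 17043521⟩)))
(.node 2 (.node 1 (.leaf ⟨338, 32125001, (some true), 339, 17043521⟩) (.leaf ⟨339, 17043521, (some true), 338, 32125001⟩)) (.node 1 (.leaf ⟨60, 6576201, none, 339, 6961217⟩) (.leaf ⟨339, 17043521, none, 60, 17442901⟩))))
(.node 4 (.node 2 (.node 1 (.leaf ⟨338, 13588545, none, 320, 17043521⟩) (.leaf ⟨338, 17043521, none, 320, 27684929⟩)) (.node 1 (.leaf ⟨328, 17059919, (some true), 340, 17043521⟩) (.leaf ⟨340, 17043521, (some true), 328, 17059919⟩)))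
(.node 2 (.node 1 (.leaf ⟨340, 10971209, (some true), 341, 17043521⟩) (.leaf ⟨341, 17043521, (some true), 340, 10971209⟩)) (.node 1 (.leaf ⟨341, 13310023, (some true), 342, 17043521⟩) (.leaf ⟨342, 17043521, (some true), 341, 13310023⟩)))))
(.node 8 (.node 4 (.node 2 (.node 1 (.leaf ⟨60, 15028315, none, 342, 4792387⟩) (.leaf ⟨342, 17043521, none, 60, 23291983⟩)) (.node 1 (.leaf ⟨341, 6713431, none, 28, 15214677⟩) (.leaf ⟨341, 17043521, none, 28, 10903619⟩)))
(.node 2 (.node 1 (.leaf ⟨340, 8808531, none, 120, 19884111⟩) (.leaf ⟨340, 17043521, none, 120, 21893215⟩)) (.node 1 (.leaf ⟨120, 13310023, (some true), 328, 25784397⟩) (.leaf ⟨253, 19085399, (some false), 343, 17043521⟩))))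
(.node 4 (.node 2 (.node 1 (.leaf ⟨343, 17043521, (some false), 253, 19560517⟩) (.leaf ⟨62, 25628767, none, 343, 19796057⟩)) (.node 1 (.leaf ⟨343, 17043521, none, 62, 13373511⟩) (.leaf ⟨253, 19667023, none, 248, 17649755⟩)))
(.node 2 (.node 1 (.leaf ⟨253, 17043521, none, 248, 19222613⟩) (.leaf ⟨248, 19085399, (some true), 254, 8998987⟩)) (.node 1 (.leaf ⟨62, 13510735, (some false), 344, 17043521⟩) (.leaf ⟨344, 17043521, (some false), 62, 29761631⟩)))))))))

/-- The facts. -/
def caseCFullFactsLLRR : Tab Fct := .node 244 caseCFullFactsLLRRL caseCFullFactsLLRRR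

/-- The facts. -/
def caseCFullFactsLLR : Tab Fct := .node 488 caseCFullFactsLLRL caseCFullFactsLLRR

/-- The facts. -/
def caseCFullFactsLL : Tab Fct := .node 976 caseCFullFactsLLL caseCFullFactsLLR

/-- The facts. -/
def caseCFullFactsLRLLL : Tab Fct :=
(.node 122 (.node 61 (.node 30 (.node 15 (.node 7 (.node 3 (.node 1 (.leaf ⟨62, 29904967, (some false), 344, 17592389⟩) (.node 1 (.leaf ⟨344, 17569877, none, 344, 17592389⟩) (.leaf ⟨344, 17043529, none, 344, 17043521⟩)))
(.node 2 (.node 1 (.leaf ⟨344, 17043521, none, 344, 17043529⟩) (.leaf ⟨344, 17043521, none, 344, 17053777⟩)) (.node 1 (.leaf ⟨344, 19085399, (some false), 345, 17043521⟩) (.leaf ⟨345, 17043521, (some false), 344, 19560517⟩))))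
(.node 4 (.node 2 (.node 1 (.leaf ⟨345, 17633349, none, 345, 17043521⟩) (.leaf ⟨345, 17240129, none, 345, 17043521⟩)) (.node 1 (.leaf ⟨345, 17043521, none, 345, 17240129⟩) (.leaf ⟨345, 17043521, none, 345, 17633349⟩)))
(.node 2 (.node 1 (.leaf ⟨345, 19085399, (some false), 346, 17043521⟩) (.leaf ⟨346, 17043521, (some false), 345, 19560517⟩)) (.node 1 (.leaf ⟨62, 4874325, none, 346, 19542105⟩) (.leaf ⟨346, 17043521, none, 62, 27537477⟩)))))
(.node 7 (.node 3 (.node 1 (.leaf ⟨62, 27529303, (some false), 345, 19691589⟩) (.node 1 (.leaf ⟨62, 4808797, (some false), 345, 19746893⟩) (.leaf ⟨62, 17059919, (some true), 347, 17043521⟩)))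
(.node 2 (.node 1 (.leaf ⟨223, 25385043, (some true), 350, 17043521⟩) (.leaf ⟨350, 17059919, (some true), 351, 17043521⟩)) (.node 1 (.leaf ⟨351, 17043521, (some true), 350, 17059919⟩) (.leaf ⟨62, 23687261, none, 351, 11040855⟩))))
(.node 4 (.node 2 (.node 1 (.leaf ⟨351, 17043521, none, 62, 23402577⟩) (.leaf ⟨350, 19214429, none, 223, 19017815⟩)) (.node 1 (.leaf ⟨350, 17043521, none, 223, 17240137⟩) (.leaf ⟨223, 9056345, (some false), 352, 17043521⟩)))
(.node 2 (.node 1 (.leaf ⟨352, 19085399, (some true), 353, 17043521⟩) (.leaf ⟨353, 19085399, (some false), 354, 17043521⟩)) (.node 1 (.leaf ⟨354, 17043521, (some false), 353, 19560517⟩) (.leaf ⟨62, 29958239, none, 354, 17180747⟩))))))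
(.node 15 (.node 7 (.node 3 (.node 1 (.leaf ⟨354, 17043521, none, 62, 25761887⟩) (.node 1 (.leaf ⟨353, 19861597, none, 345, 19746893⟩) (.leaf ⟨353, 17043521, none, 345, 17193043⟩)))
(.node 2 (.node 1 (.leaf ⟨223, 13310023, (some false), 355, 17043521⟩) (.leaf ⟨223, 6776923, (some false), 356, 17043521⟩)) (.node 1 (.leaf ⟨356, 17043521, (some false), 223, 21979225⟩) (.leaf ⟨220, 19085399, (some true), 357, 17043521⟩))))
(.node 4 (.node 2 (.node 1 (.leaf ⟨357, 17043521, (some true), 220, 19085399⟩) (.leaf ⟨357, 19085399, (some false), 358, 17043521⟩)) (.node 1 (.leaf ⟨358, 17043521, (some false), 357, 19560517⟩) (.leaf ⟨62, 21459023, none, 358, 19097673⟩)))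
(.node 2 (.node 1 (.leaf ⟨358, 17043521, none, 62, 26095689⟩) (.leaf ⟨357, 19865681, none, 248, 17764427⟩)) (.node 1 (.leaf ⟨357, 17043521, none, 248, 19165269⟩) (.leaf ⟨248, 17059919, (some true), 220, 17176669⟩)))))
(.node 8 (.node 4 (.node 2 (.node 1 (.leaf ⟨356, 19085399, (some true), 363, 17043521⟩) (.leaf ⟨363, 11495495, (some true), 364, 17043521⟩)) (.node 1 (.leaf ⟨364, 17043521, (some true), 363, 11495495⟩) (.leaf ⟨364, 13310023, (some true), 365, 17043521⟩)))
(.node 2 (.node 1 (.leaf ⟨365, 17043521, (some true), 364, 13310023⟩) (.leaf ⟨62, 29778013, none, 365, 23621701⟩)) (.node 1 (.leaf ⟨365, 17043521, none, 62, 4618335⟩) (.leaf ⟨364, 6778975, none, 223, 17193039⟩))))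
(.node 4 (.node 2 (.node 1 (.leaf ⟨364, 17043521, none, 223, 15038543⟩) (.leaf ⟨223, 29904967, (some true), 363, 8538207⟩)) (.node 1 (.leaf ⟨248, 10971209, (some true), 366, 17043521⟩) (.leaf ⟨366, 17043521, (some true), 248, 10971209⟩)))
(.node 2 (.node 1 (.leaf ⟨62, 15540289, none, 366, 23294033⟩) (.leaf ⟨366, 17043521, none, 62, 31873113⟩)) (.node 1 (.leaf ⟨248, 8538201, none, 223, 17463383⟩) (.leaf ⟨248, 17043521, none, 223, 6778971⟩)))))))
(.node 30 (.node 15 (.node 7 (.node 3 (.node 1 (.leaf ⟨223, 23928925, (some false), 62, 13398093⟩) (.node 1 (.leaf ⟨253, 17641559, none, 355, 17043521⟩) (.leaf ⟨223, 31801425, (some true), 254, 17111107⟩)))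
(.node 2 (.node 1 (.leaf ⟨223, 13310023, (some true), 220, 19798109⟩) (.leaf ⟨223, 31676483, none, 355, 17043521⟩)) (.node 1 (.leaf ⟨355, 17043521, none, 223, 31676483⟩) (.leaf ⟨252, 19085399, (some false), 367, 17043521⟩))))
(.node 4 (.node 2 (.node 1 (.leaf ⟨367, 19085399, (some false), 368, 17043521⟩) (.leaf ⟨368, 17043521, (some false), 367, 19560517⟩)) (.node 1 (.leaf ⟨71, 30105685, none, 368, 19099719⟩) (.leaf ⟨368, 17043521, none, 71, 5060689⟩)))
(.node 2 (.node 1 (.leaf ⟨367, 19271747, none, 252, 17068117⟩) (.leaf ⟨367, 17043521, none, 252, 19294293⟩)) (.node 1 (.leaf ⟨299, 19085399, (some false), 369, 17043521⟩) (.leaf ⟨369, 17043521, (some false), 299, 19560517⟩)))))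
(.node 7 (.node 3 (.node 1 (.leaf ⟨369, 19085399, (some false), 370, 17043521⟩) (.node 1 (.leaf ⟨370, 17043521, (some false), 369, 19560517⟩) (.leaf ⟨71, 32262209, none, 370, 19740761⟩)))
(.node 2 (.node 1 (.leaf ⟨370, 17043521, none, 71, 23412811⟩) (.leaf ⟨369, 19691589, none, 293, 17461331⟩)) (.node 1 (.leaf ⟨369, 17043521, none, 293, 19798111⟩) (.leaf ⟨293, 19085399, (some false), 299, 19214427⟩))))
(.node 4 (.node 2 (.node 1 (.leaf ⟨71, 10971209, (some true), 371, 17043521⟩) (.leaf ⟨371, 17059919, (some true), 372, 17043521⟩)) (.node 1 (.leaf ⟨372, 17043521, (some true), 371, 17059919⟩) (.leaf ⟨372, 17059919, (some true), 373, 17043521⟩)))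
(.node 2 (.node 1 (.leaf ⟨373, 17043521, (some true), 372, 17059919⟩) (.leaf ⟨71, 8806483, none, 373, 17569879⟩)) (.node 1 (.leaf ⟨373, 17043521, none, 71, 26157127⟩) (.leaf ⟨372, 17651805, none, 75, 27555913⟩))))))
(.node 15 (.node 7 (.node 3 (.node 1 (.leaf ⟨372, 17651805, none, 57, 25895003⟩) (.node 1 (.leaf ⟨372, 17043521, none, 57, 10643541⟩) (.leaf ⟨371, 17053789, none, 74, 27873355⟩)))
(.node 2 (.node 1 (.leaf ⟨371, 17053789, none, 71, 26159173⟩) (.leaf ⟨371, 17043521, none, 71, 25831513⟩)) (.node 1 (.leaf ⟨161, 6776923, (some false), 374, 17043521⟩) (.leaf ⟨374, 17043521, (some false), 161, 21979225⟩))))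
(.node 4 (.node 2 (.node 1 (.leaf ⟨223, 29904967, (some false), 375, 17043521⟩) (.leaf ⟨375, 17043521, (some true), 376, 17043521⟩)) (.node 1 (.leaf ⟨376, 17043521, (some true), 375, 17043521⟩) (.leaf ⟨376, 17043521, (some false), 377, 17043521⟩)))
(.node 2 (.node 1 (.leaf ⟨377, 17043521, (some false), 376, 17127489⟩) (.leaf ⟨71, 21895237, none, 377, 17700929⟩)) (.node 1 (.leaf ⟨377, 17043521, none, 71, 23334983⟩) (.leaf ⟨376, 17721413, none, 299, 17705037⟩)))))
(.node 8 (.node 4 (.node 2 (.node 1 (.leaf ⟨376, 17043521, none, 299, 17059927⟩) (.leaf ⟨299, 17059919, (some true), 375, 17053761⟩)) (.node 1 (.leaf ⟨299, 25385043, (some true), 375, 11300931⟩) (.leaf ⟨299, 10971209, (some true), 378, 17043521⟩)))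
(.node 2 (.node 1 (.leaf ⟨378, 13510735, (some false), 379, 17043521⟩) (.leaf ⟨379, 17043521, (some false), 378, 29761631⟩)) (.node 1 (.leaf ⟨71, 25894985, none, 379, 17133657⟩) (.leaf ⟨379, 17043521, none, 71, 27666513⟩))))
(.node 4 (.node 2 (.node 1 (.leaf ⟨378, 31926355, none, 293, 17043521⟩) (.leaf ⟨378, 17043521, none, 293, 25374811⟩)) (.node 1 (.leaf ⟨223, 4808797, (some false), 380, 17043521⟩) (.leaf ⟨380, 17043521, (some false), 223, 23685197⟩)))
(.node 2 (.node 1 (.leaf ⟨380, 19085399, (some false), 381, 17043521⟩) (.leaf ⟨381, 17043521, (some false), 380, 19560517⟩)) (.node 1 (.leaf ⟨381, 17059919, (some true), 382, 17043521⟩) (.leaf ⟨382, 17043521, (some true), 381, 17059919⟩))))))))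
(.node 61 (.node 30 (.node 15 (.node 7 (.node 3 (.node 1 (.leaf ⟨382, 19085399, (some false), 383, 17043521⟩) (.node 1 (.leaf ⟨383, 17043521, (some false), 382, 19560517⟩) (.leaf ⟨71, 7290949, none, 383, 19818569⟩)))
(.node 2 (.node 1 (.leaf ⟨383, 17043521, none, 71, 12929115⟩) (.leaf ⟨382, 19865667, none, 299, 17043521⟩)) (.node 1 (.leaf ⟨382, 17043521, none, 299, 19034179⟩) (.leaf ⟨381, 8990815, none, 375, 11300931⟩))))
(.node 4 (.node 2 (.node 1 (.leaf ⟨381, 17043521, none, 375, 19740751⟩) (.leaf ⟨375, 19085399, (some false), 380, 19355715⟩)) (.node 1 (.leaf ⟨83, 25385043, (some true), 390, 17043521⟩) (.leaf ⟨83, 10971209, (some true), 390, 11368521⟩)))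
(.node 2 (.node 1 (.leaf ⟨83, 11495495, (some true), 390, 17651803⟩) (.leaf ⟨390, 27537481, none, 390, 17043521⟩)) (.node 1 (.leaf ⟨390, 19746883, none, 390, 17651803⟩) (.leaf ⟨390, 17043521, none, 390, 19142731⟩)))))
(.node 7 (.node 3 (.node 1 (.leaf ⟨390, 17043521, none, 390, 27537481⟩) (.node 1 (.leaf ⟨83, 17043521, (some true), 393, 17043521⟩) (.leaf ⟨393, 17059919, (some true), 394, 17043521⟩)))
(.node 2 (.node 1 (.leaf ⟨394, 17059919, (some true), 395, 17043521⟩) (.leaf ⟨395, 17043521, (some true), 394, 17059919⟩)) (.node 1 (.leaf ⟨83, 25434203, none, 395, 25759829⟩) (.leaf ⟨395, 17043521, none, 83, 17635421⟩))))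
(.node 4 (.node 2 (.node 1 (.leaf ⟨83, 17059919, (some true), 394, 17651805⟩) (.leaf ⟨390, 27529303, (some false), 397, 17043521⟩)) (.node 1 (.leaf ⟨390, 13510735, (some false), 397, 17002589⟩) (.leaf ⟨390, 19085399, (some false), 397, 17070169⟩)))
(.node 2 (.node 1 (.leaf ⟨83, 4544593, (some true), 398, 17043521⟩) (.leaf ⟨83, 31801425, (some true), 398, 17043529⟩)) (.node 1 (.leaf ⟨83, 29904967, (some true), 398, 25440329⟩) (.leaf ⟨83, 4808797, (some true), 398, 11292763⟩))))))
(.node 15 (.node 7 (.node 3 (.node 1 (.leaf ⟨398, 11352153, none, 398, 25440329⟩) (.node 1 (.leaf ⟨398, 17043521, none, 398, 11081817⟩) (.leaf ⟨398, 13510735, (some false), 402, 17043521⟩)))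
(.node 2 (.node 1 (.leaf ⟨83, 13510735, (some true), 403, 17043521⟩) (.leaf ⟨83, 13310023, (some true), 403, 8992843⟩)) (.node 1 (.leaf ⟨83, 32125001, (some true), 403, 25778267⟩) (.leaf ⟨83, 32131155, (some true), 403, 25694275⟩))))
(.node 4 (.node 2 (.node 1 (.leaf ⟨403, 9252929, none, 403, 8992843⟩) (.leaf ⟨403, 8982603, none, 403, 8992843⟩)) (.node 1 (.leaf ⟨403, 25710659, none, 403, 25778267⟩) (.leaf ⟨403, 17043521, none, 403, 17111121⟩)))
(.node 2 (.node 1 (.leaf ⟨403, 17043521, none, 403, 17061953⟩) (.leaf ⟨403, 17043521, none, 403, 17569875⟩)) (.node 1 (.leaf ⟨403, 29904967, (some false), 404, 17043521⟩) (.leaf ⟨403, 4808797, (some false), 404, 17444931⟩)))))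
(.node 8 (.node 4 (.node 2 (.node 1 (.leaf ⟨403, 27529303, (some false), 404, 17766467⟩) (.leaf ⟨403, 13510735, (some false), 404, 17594445⟩)) (.node 1 (.leaf ⟨404, 17068107, none, 404, 17043521⟩) (.leaf ⟨404, 17043521, none, 404, 17068107⟩)))
(.node 2 (.node 1 (.leaf ⟨393, 13510735, (some false), 405, 17043521⟩) (.leaf ⟨405, 19085399, (some false), 406, 17043521⟩)) (.node 1 (.leaf ⟨406, 10971209, (some true), 407, 17043521⟩) (.leaf ⟨407, 17043521, (some true), 406, 10971209⟩))))
(.node 4 (.node 2 (.node 1 (.leaf ⟨407, 27529303, (some false), 408, 17043521⟩) (.leaf ⟨408, 17043521, (some false), 407, 25516101⟩)) (.node 1 (.leaf ⟨83, 27873355, none, 408, 19273799⟩) (.leaf ⟨408, 17043521, none, 83, 32002121⟩)))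
(.node 2 (.node 1 (.leaf ⟨83, 29904967, (some false), 407, 9244765⟩) (.leaf ⟨397, 11495495, (some true), 412, 17043521⟩)) (.node 1 (.leaf ⟨412, 13510735, (some true), 413, 17043521⟩) (.leaf ⟨413, 17043521, (some true), 412, 13510735⟩)))))))
(.node 30 (.node 15 (.node 7 (.node 3 (.node 1 (.leaf ⟨413, 10971209, (some true), 414, 17043521⟩) (.node 1 (.leaf ⟨414, 17043521, (some true), 413, 10971209⟩) (.leaf ⟨83, 25378905, none, 414, 21196887⟩)))
(.node 2 (.node 1 (.leaf ⟨414, 17043521, none, 83, 14968925⟩) (.leaf ⟨413, 8538187, none, 398, 11292763⟩)) (.node 1 (.leaf ⟨413, 17043521, none, 398, 19609671⟩) (.leaf ⟨398, 19085399, (some true), 412, 31942735⟩))))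
(.node 4 (.node 2 (.node 1 (.leaf ⟨398, 4544593, (some true), 412, 15419477⟩) (.leaf ⟨404, 10971209, (some true), 415, 17043521⟩)) (.node 1 (.leaf ⟨404, 19085399, (some true), 415, 27529305⟩) (.leaf ⟨415, 13510735, (some true), 416, 17043521⟩)))
(.node 2 (.node 1 (.leaf ⟨416, 17043521, (some true), 415, 13510735⟩) (.leaf ⟨416, 10971209, (some true), 417, 17043521⟩)) (.node 1 (.leaf ⟨417, 17043521, (some true), 416, 10971209⟩) (.leaf ⟨83, 30105671, none, 417, 23212119⟩)))))
(.node 7 (.node 3 (.node 1 (.leaf ⟨417, 17043521, none, 83, 32004187⟩) (.node 1 (.leaf ⟨416, 11421763, none, 398, 17043521⟩) (.leaf ⟨416, 17043521, none, 398, 6910019⟩)))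
(.node 2 (.node 1 (.leaf ⟨415, 5193807, none, 412, 15419477⟩) (.leaf ⟨415, 17043521, none, 412, 13310041⟩)) (.node 1 (.leaf ⟨84, 10971209, (some true), 421, 17043521⟩) (.leaf ⟨421, 17053785, none, 421, 17043521⟩))))
(.node 4 (.node 2 (.node 1 (.leaf ⟨421, 17070155, none, 421, 17043521⟩) (.leaf ⟨421, 17043521, none, 421, 17070155⟩)) (.node 1 (.leaf ⟨421, 17043521, none, 421, 17053785⟩) (.leaf ⟨421, 17059919, (some true), 422, 17043521⟩)))
(.node 2 (.node 1 (.leaf ⟨422, 17059913, none, 422, 17043521⟩) (.leaf ⟨422, 17061977, none, 422, 17043521⟩)) (.node 1 (.leaf ⟨422, 17043521, none, 422, 17061977⟩) (.leaf ⟨422, 17043521, none, 422, 17059913⟩))))))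
(.node 15 (.node 7 (.node 3 (.node 1 (.leaf ⟨422, 17059919, (some true), 423, 17043521⟩) (.node 1 (.leaf ⟨423, 17043521, (some true), 422, 17059919⟩) (.leaf ⟨84, 25305169, none, 423, 17070157⟩)))
(.node 2 (.node 1 (.leaf ⟨423, 17043521, none, 84, 26157127⟩) (.leaf ⟨84, 11495495, (some true), 422, 17651805⟩)) (.node 1 (.leaf ⟨84, 32131155, (some true), 430, 17043521⟩) (.leaf ⟨430, 17043521, (some true), 84, 32131155⟩))))
(.node 4 (.node 2 (.node 1 (.leaf ⟨84, 13510735, (some true), 430, 27816025⟩) (.leaf ⟨84, 4808797, (some true), 430, 8935507⟩)) (.node 1 (.leaf ⟨84, 31801425, (some true), 430, 19148875⟩) (.leaf ⟨430, 19085399, (some false), 431, 17043521⟩)))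
(.node 2 (.node 1 (.leaf ⟨431, 17043521, (some false), 430, 19560517⟩) (.leaf ⟨431, 10971209, (some true), 432, 17043521⟩)) (.node 1 (.leaf ⟨432, 17043521, (some true), 431, 10971209⟩) (.leaf ⟨432, 13510735, (some false), 433, 17043521⟩)))))
(.node 8 (.node 4 (.node 2 (.node 1 (.leaf ⟨433, 17043521, (some false), 432, 29761631⟩) (.leaf ⟨84, 31604811, none, 433, 17657921⟩)) (.node 1 (.leaf ⟨433, 17043521, none, 84, 6766681⟩) (.leaf ⟨84, 31801425, (some false), 432, 7041107⟩)))
(.node 2 (.node 1 (.leaf ⟨432, 13523027, none, 432, 7041107⟩) (.leaf ⟨432, 7041115, none, 432, 7041107⟩)) (.node 1 (.leaf ⟨432, 17043521, none, 432, 17043535⟩) (.leaf ⟨432, 17043521, none, 432, 29499457⟩))))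
(.node 4 (.node 2 (.node 1 (.leaf ⟨432, 32131155, (some true), 431, 25380953⟩) (.leaf ⟨432, 13510735, (some true), 431, 17195089⟩)) (.node 1 (.leaf ⟨422, 4808797, (some false), 434, 17043521⟩) (.leaf ⟨434, 17043521, (some false), 422, 23685197⟩)))
(.node 2 (.node 1 (.leaf ⟨434, 10971209, (some true), 435, 17043521⟩) (.leaf ⟨435, 17043521, (some true), 434, 10971209⟩)) (.node 1 (.leaf ⟨435, 13510735, (some false), 436, 17043521⟩) (.leaf ⟨436, 17043521, (some false), 435, 29761631⟩)))))))))

/-- The facts. -/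
def caseCFullFactsLRLLR : Tab Fct :=
(.node 122 (.node 61 (.node 30 (.node 15 (.node 7 (.node 3 (.node 1 (.leaf ⟨84, 17440839, none, 436, 17061953⟩) (.node 1 (.leaf ⟨436, 17043521, none, 84, 16982101⟩) (.leaf ⟨435, 23275609, none, 83, 19560517⟩)))
(.node 2 (.node 1 (.leaf ⟨435, 17043521, none, 83, 27875413⟩) (.leaf ⟨434, 19540059, none, 394, 17651805⟩)) (.node 1 (.leaf ⟨434, 17043521, none, 394, 19605593⟩) (.leaf ⟨394, 19085399, (some false), 422, 6912087⟩))))
(.node 4 (.node 2 (.node 1 (.leaf ⟨422, 27529303, (some false), 447, 17043521⟩) (.leaf ⟨447, 16984143, none, 447, 17043521⟩)) (.node 1 (.leaf ⟨447, 16916545, none, 447, 17043521⟩) (.leaf ⟨447, 17043521, none, 447, 16916545⟩)))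
(.node 2 (.node 1 (.leaf ⟨447, 17043521, none, 447, 16984143⟩) (.leaf ⟨447, 17043521, (some true), 448, 17043521⟩)) (.node 1 (.leaf ⟨447, 10971209, (some true), 448, 25768003⟩) (.leaf ⟨447, 17059919, (some true), 448, 17111105⟩)))))
(.node 7 (.node 3 (.node 1 (.leaf ⟨447, 11495495, (some true), 448, 25702475⟩) (.node 1 (.leaf ⟨448, 10971209, (some true), 449, 17043521⟩) (.leaf ⟨449, 13310023, (some true), 450, 17043521⟩)))
(.node 2 (.node 1 (.leaf ⟨450, 17043521, (some true), 449, 13310023⟩) (.leaf ⟨84, 25837639, none, 450, 6891587⟩)) (.node 1 (.leaf ⟨450, 17043521, none, 84, 13379667⟩) (.leaf ⟨449, 15620191, none, 430, 19148875⟩))))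
(.node 4 (.node 2 (.node 1 (.leaf ⟨449, 17043521, none, 430, 25643079⟩) (.leaf ⟨86, 23928925, (some false), 451, 17043521⟩)) (.node 1 (.leaf ⟨451, 17043521, (some false), 86, 4991053⟩) (.leaf ⟨86, 32125001, (some false), 451, 16916565⟩)))
(.node 2 (.node 1 (.leaf ⟨86, 9056345, (some false), 451, 17578079⟩) (.leaf ⟨86, 31801425, (some false), 451, 17244255⟩)) (.node 1 (.leaf ⟨451, 16982095, none, 451, 17244255⟩) (.leaf ⟨451, 17119315, none, 451, 17578079⟩))))))
(.node 15 (.node 7 (.node 3 (.node 1 (.leaf ⟨451, 17043521, none, 451, 17633351⟩) (.node 1 (.leaf ⟨451, 17043521, none, 451, 17174609⟩) (.leaf ⟨451, 19085399, (some false), 452, 17043521⟩)))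
(.node 2 (.node 1 (.leaf ⟨452, 17059913, none, 452, 17043521⟩) (.leaf ⟨452, 17070171, none, 452, 17043521⟩)) (.node 1 (.leaf ⟨452, 17043521, none, 452, 17070171⟩) (.leaf ⟨452, 17043521, none, 452, 17059913⟩))))
(.node 4 (.node 2 (.node 1 (.leaf ⟨452, 19085399, (some false), 453, 17043521⟩) (.leaf ⟨453, 17043521, (some false), 452, 19560517⟩)) (.node 1 (.leaf ⟨86, 23865431, none, 453, 19880019⟩) (.leaf ⟨453, 17043521, none, 86, 5191765⟩)))
(.node 2 (.node 1 (.leaf ⟨86, 13310023, (some false), 452, 19691589⟩) (.leaf ⟨86, 10971209, (some false), 452, 19357787⟩)) (.node 1 (.leaf ⟨86, 6776923, (some false), 452, 19036225⟩) (.leaf ⟨86, 7292999, (some false), 452, 19013703⟩)))))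
(.node 8 (.node 4 (.node 2 (.node 1 (.leaf ⟨93, 10971209, (some true), 454, 17043521⟩) (.leaf ⟨454, 17059919, (some true), 455, 17043521⟩)) (.node 1 (.leaf ⟨455, 17043521, (some true), 454, 17059919⟩) (.leaf ⟨86, 8941657, none, 455, 17127511⟩)))
(.node 2 (.node 1 (.leaf ⟨455, 17043521, none, 86, 11022431⟩) (.leaf ⟨454, 27611221, none, 93, 17719391⟩)) (.node 1 (.leaf ⟨454, 17043521, none, 93, 25643081⟩) (.leaf ⟨86, 25385043, (some true), 456, 17043521⟩))))
(.node 4 (.node 2 (.node 1 (.leaf ⟨456, 17043521, (some true), 86, 25385043⟩) (.leaf ⟨86, 11495495, (some true), 456, 17633345⟩)) (.node 1 (.leaf ⟨86, 19085399, (some true), 456, 11014225⟩) (.leaf ⟨86, 10971209, (some true), 456, 11358291⟩)))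
(.node 2 (.node 1 (.leaf ⟨456, 17059919, (some true), 457, 17043521⟩) (.leaf ⟨457, 17059919, (some true), 458, 17043521⟩)) (.node 1 (.leaf ⟨458, 17043521, (some true), 457, 17059919⟩) (.leaf ⟨86, 25563203, none, 458, 9252951⟩)))))))
(.node 30 (.node 15 (.node 7 (.node 3 (.node 1 (.leaf ⟨458, 17043521, none, 86, 10637391⟩) (.node 1 (.leaf ⟨457, 27555909, none, 456, 11014225⟩) (.leaf ⟨457, 17043521, none, 456, 11358287⟩)))
(.node 2 (.node 1 (.leaf ⟨93, 32125001, (some false), 459, 17043521⟩) (.leaf ⟨459, 17053777, none, 459, 17043521⟩)) (.node 1 (.leaf ⟨459, 17043521, none, 459, 17053777⟩) (.leaf ⟨93, 10971209, (some false), 460, 17043521⟩))))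
(.node 4 (.node 2 (.node 1 (.leaf ⟨460, 19085399, (some true), 461, 17043521⟩) (.leaf ⟨461, 19085399, (some false), 462, 17043521⟩)) (.node 1 (.leaf ⟨462, 17043521, (some false), 461, 19560517⟩) (.leaf ⟨86, 8943699, none, 462, 17506387⟩)))
(.node 2 (.node 1 (.leaf ⟨462, 17043521, none, 86, 4730945⟩) (.leaf ⟨86, 29904967, (some false), 461, 19738717⟩)) (.node 1 (.leaf ⟨86, 27529303, (some false), 461, 19880003⟩) (.leaf ⟨456, 4808797, (some false), 463, 17043521⟩)))))
(.node 7 (.node 3 (.node 1 (.leaf ⟨463, 17043521, (some false), 456, 23685197⟩) (.node 1 (.leaf ⟨463, 11495495, (some true), 464, 17043521⟩) (.leaf ⟨464, 17043521, (some true), 463, 11495495⟩)))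
(.node 2 (.node 1 (.leaf ⟨464, 13510735, (some false), 465, 17043521⟩) (.leaf ⟨465, 17043521, (some false), 464, 29761631⟩)) (.node 1 (.leaf ⟨86, 16916551, none, 465, 17643601⟩) (.leaf ⟨465, 17043521, none, 86, 17721423⟩))))
(.node 4 (.node 2 (.node 1 (.leaf ⟨464, 4862041, none, 16, 13113429⟩) (.leaf ⟨464, 17043521, none, 16, 4999237⟩)) (.node 1 (.leaf ⟨463, 19359829, none, 89, 17043521⟩) (.leaf ⟨463, 17043521, none, 89, 19560525⟩)))
(.node 2 (.node 1 (.leaf ⟨456, 23668801, none, 92, 17051713⟩) (.leaf ⟨456, 17043521, none, 92, 10713153⟩)) (.node 1 (.leaf ⟨92, 25385043, (some true), 86, 10713153⟩) (.leaf ⟨92, 19085399, (some true), 457, 11286609⟩))))))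
(.node 15 (.node 7 (.node 3 (.node 1 (.leaf ⟨86, 29904967, (some true), 466, 17043521⟩) (.node 1 (.leaf ⟨86, 32131155, (some true), 466, 27807817⟩) (.leaf ⟨86, 31801425, (some true), 466, 25442369⟩)))
(.node 2 (.node 1 (.leaf ⟨86, 32125001, (some true), 466, 27881555⟩) (.leaf ⟨86, 13510735, (some true), 466, 19230793⟩)) (.node 1 (.leaf ⟨86, 4808797, (some true), 466, 19165249⟩) (.leaf ⟨86, 13310023, (some true), 466, 11038809⟩))))
(.node 4 (.node 2 (.node 1 (.leaf ⟨86, 4544593, (some true), 466, 25776203⟩) (.leaf ⟨466, 19691587, none, 466, 19165249⟩)) (.node 1 (.leaf ⟨466, 17043521, none, 466, 17635395⟩) (.leaf ⟨466, 4808797, (some false), 467, 17043521⟩)))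
(.node 2 (.node 1 (.leaf ⟨466, 13510735, (some false), 467, 16982111⟩) (.leaf ⟨466, 27529303, (some false), 468, 17043521⟩)) (.node 1 (.leaf ⟨466, 29904967, (some false), 468, 17193043⟩) (.leaf ⟨93, 31801425, (some false), 469, 17043521⟩)))))
(.node 8 (.node 4 (.node 2 (.node 1 (.leaf ⟨467, 19085399, (some false), 470, 17043521⟩) (.leaf ⟨470, 17043521, (some false), 467, 19560517⟩)) (.node 1 (.leaf ⟨470, 17043521, (some true), 471, 17043521⟩) (.leaf ⟨471, 17043521, (some true), 470, 17043521⟩)))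
(.node 2 (.node 1 (.leaf ⟨471, 19085399, (some false), 472, 17043521⟩) (.leaf ⟨472, 17043521, (some false), 471, 19560517⟩)) (.node 1 (.leaf ⟨86, 15032397, none, 472, 19802179⟩) (.leaf ⟨472, 17043521, none, 86, 25317465⟩))))
(.node 4 (.node 2 (.node 1 (.leaf ⟨471, 19537995, none, 452, 19691589⟩) (.leaf ⟨471, 17043521, none, 452, 17512541⟩)) (.node 1 (.leaf ⟨452, 19085399, (some true), 470, 19664971⟩) (.leaf ⟨452, 10971209, (some true), 470, 25694275⟩)))
(.node 2 (.node 1 (.leaf ⟨452, 11495495, (some true), 470, 25442385⟩) (.leaf ⟨452, 25385043, (some true), 470, 11276369⟩)) (.node 1 (.leaf ⟨92, 23928925, (some false), 473, 17043521⟩) (.leaf ⟨473, 17043521, (some false), 92, 4991053⟩))))))))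
(.node 61 (.node 30 (.node 15 (.node 7 (.node 3 (.node 1 (.leaf ⟨473, 19085399, (some false), 474, 17043521⟩) (.node 1 (.leaf ⟨474, 17043521, (some false), 473, 19560517⟩) (.leaf ⟨474, 17043521, (some true), 475, 17043521⟩)))
(.node 2 (.node 1 (.leaf ⟨475, 17043521, (some true), 474, 17043521⟩) (.leaf ⟨475, 19085399, (some false), 476, 17043521⟩)) (.node 1 (.leaf ⟨476, 17043521, (some false), 475, 19560517⟩) (.leaf ⟨86, 27476053, none, 476, 19275841⟩))))
(.node 4 (.node 2 (.node 1 (.leaf ⟨476, 17043521, none, 86, 21448799⟩) (.leaf ⟨475, 19544137, none, 452, 19013703⟩)) (.node 1 (.leaf ⟨475, 17043521, none, 452, 17657925⟩) (.leaf ⟨452, 17059919, (some true), 474, 17633369⟩)))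
(.node 2 (.node 1 (.leaf ⟨468, 17059919, (some true), 477, 17043521⟩) (.leaf ⟨477, 25385043, (some true), 478, 17043521⟩)) (.node 1 (.leaf ⟨478, 17043521, (some true), 477, 25385043⟩) (.leaf ⟨478, 4544593, (some true), 479, 17043521⟩)))))
(.node 7 (.node 3 (.node 1 (.leaf ⟨479, 17043521, (some true), 478, 4544593⟩) (.node 1 (.leaf ⟨86, 6707279, none, 479, 7026755⟩) (.leaf ⟨479, 17043521, none, 86, 16982087⟩)))
(.node 2 (.node 1 (.leaf ⟨478, 29890633, none, 456, 17633345⟩) (.leaf ⟨478, 29890633, none, 92, 25374785⟩)) (.node 1 (.leaf ⟨478, 17043521, none, 92, 23224415⟩) (.leaf ⟨92, 13510735, (some true), 477, 8542291⟩))))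
(.node 4 (.node 2 (.node 1 (.leaf ⟨92, 32131155, (some true), 477, 10639441⟩) (.leaf ⟨92, 4544593, (some true), 477, 10702937⟩)) (.node 1 (.leaf ⟨92, 29904967, (some true), 477, 11417683⟩) (.leaf ⟨467, 17043521, (some true), 480, 17043521⟩)))
(.node 2 (.node 1 (.leaf ⟨480, 19085399, (some true), 481, 17043521⟩) (.leaf ⟨481, 25385043, (some true), 482, 17043521⟩)) (.node 1 (.leaf ⟨482, 17043521, (some true), 481, 25385043⟩) (.leaf ⟨86, 30234719, none, 482, 21571653⟩))))))
(.node 15 (.node 7 (.node 3 (.node 1 (.leaf ⟨482, 17043521, none, 86, 23545935⟩) (.node 1 (.leaf ⟨481, 9058385, none, 466, 19230793⟩) (.leaf ⟨481, 17043521, none, 466, 29974607⟩)))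
(.node 2 (.node 1 (.leaf ⟨89, 7292999, (some false), 483, 17043521⟩) (.leaf ⟨483, 17043521, (some false), 89, 21448789⟩)) (.node 1 (.leaf ⟨89, 31801425, (some false), 483, 17780825⟩) (.leaf ⟨89, 13310023, (some false), 483, 16922701⟩))))
(.node 4 (.node 2 (.node 1 (.leaf ⟨99, 10971209, (some true), 489, 17043521⟩) (.leaf ⟨489, 17059919, (some true), 490, 17043521⟩)) (.node 1 (.leaf ⟨490, 17043521, (some true), 489, 17059919⟩) (.leaf ⟨89, 21913691, none, 490, 27603013⟩)))
(.node 2 (.node 1 (.leaf ⟨490, 17043521, none, 89, 24004703⟩) (.leaf ⟨489, 27611221, none, 99, 19540037⟩)) (.node 1 (.leaf ⟨489, 17043521, none, 99, 27402329⟩) (.leaf ⟨89, 4808797, (some true), 491, 17043521⟩)))))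
(.node 8 (.node 4 (.node 2 (.node 1 (.leaf ⟨491, 17127491, none, 491, 17043521⟩) (.leaf ⟨491, 17635409, none, 491, 17043521⟩)) (.node 1 (.leaf ⟨491, 17043521, none, 491, 17635409⟩) (.leaf ⟨491, 17043521, none, 491, 17127491⟩)))
(.node 2 (.node 1 (.leaf ⟨491, 17059919, (some true), 492, 17043521⟩) (.leaf ⟨492, 17649747, none, 492, 17043521⟩)) (.node 1 (.leaf ⟨492, 17109057, none, 492, 17043521⟩) (.leaf ⟨492, 17043521, none, 492, 17109057⟩))))
(.node 4 (.node 2 (.node 1 (.leaf ⟨492, 17043521, none, 492, 17649747⟩) (.leaf ⟨492, 17059919, (some true), 493, 17043521⟩)) (.node 1 (.leaf ⟨493, 17043521, (some true), 492, 17059919⟩) (.leaf ⟨89, 32251989, none, 493, 27619407⟩)))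
(.node 2 (.node 1 (.leaf ⟨493, 17043521, none, 89, 6891601⟩) (.leaf ⟨89, 31801425, (some true), 492, 27605063⟩)) (.node 1 (.leaf ⟨99, 31801425, (some false), 494, 17043521⟩) (.leaf ⟨99, 7292999, (some false), 494, 17457221⟩)))))))
(.node 30 (.node 15 (.node 7 (.node 3 (.node 1 (.leaf ⟨492, 4808797, (some false), 495, 17043521⟩) (.node 1 (.leaf ⟨492, 29904967, (some false), 495, 17784923⟩) (.leaf ⟨492, 27529303, (some false), 495, 16988253⟩)))
(.node 2 (.node 1 (.leaf ⟨492, 13510735, (some false), 495, 17703005⟩) (.leaf ⟨495, 10971209, (some true), 496, 17043521⟩)) (.node 1 (.leaf ⟨496, 13510735, (some false), 497, 17043521⟩) (.leaf ⟨497, 17043521, (some false), 496, 29761631⟩))))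
(.node 4 (.node 2 (.node 1 (.leaf ⟨89, 32251995, none, 497, 17117251⟩) (.leaf ⟨497, 17043521, none, 89, 23930971⟩)) (.node 1 (.leaf ⟨496, 4878405, none, 483, 16922701⟩) (.leaf ⟨496, 17043521, none, 483, 25720909⟩)))
(.node 2 (.node 1 (.leaf ⟨137, 19085399, (some true), 498, 17043521⟩) (.leaf ⟨498, 17043521, (some true), 137, 19085399⟩)) (.node 1 (.leaf ⟨498, 17043521, (some false), 499, 17043521⟩) (.leaf ⟨499, 17043521, (some false), 498, 17127489⟩)))))
(.node 7 (.node 3 (.node 1 (.leaf ⟨89, 19880001, none, 499, 17004633⟩) (.node 1 (.leaf ⟨499, 17043521, none, 89, 19030093⟩) (.leaf ⟨498, 17715273, none, 92, 17051713⟩)))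
(.node 2 (.node 1 (.leaf ⟨498, 17043521, none, 92, 17195085⟩) (.leaf ⟨137, 28203077, none, 102, 17043521⟩)) (.node 1 (.leaf ⟨137, 28203077, none, 99, 28194907⟩) (.leaf ⟨137, 17043521, none, 99, 17061963⟩))))
(.node 4 (.node 2 (.node 1 (.leaf ⟨99, 17043521, (some false), 126, 29761603⟩) (.leaf ⟨89, 29904967, (some false), 505, 17043521⟩)) (.node 1 (.leaf ⟨92, 4808797, (some false), 509, 17043521⟩) (.leaf ⟨92, 10971209, (some false), 509, 17135705⟩)))
(.node 2 (.node 1 (.leaf ⟨92, 31801425, (some false), 509, 17459277⟩) (.leaf ⟨92, 27529303, (some false), 509, 17446995⟩)) (.node 1 (.leaf ⟨509, 19085399, (some false), 510, 17043521⟩) (.leaf ⟨510, 19085399, (some false), 511, 17043521⟩))))))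
(.node 15 (.node 7 (.node 3 (.node 1 (.leaf ⟨511, 17043521, (some false), 510, 19560517⟩) (.node 1 (.leaf ⟨92, 15294559, none, 511, 19624017⟩) (.leaf ⟨511, 17043521, none, 92, 21524565⟩)))
(.node 2 (.node 1 (.leaf ⟨92, 29904967, (some false), 510, 19691589⟩) (.leaf ⟨92, 32125001, (some false), 510, 19142725⟩)) (.node 1 (.leaf ⟨92, 7292999, (some false), 510, 19101763⟩) (.leaf ⟨92, 13510735, (some false), 510, 19150939⟩))))
(.node 4 (.node 2 (.node 1 (.leaf ⟨92, 19085399, (some false), 512, 17043521⟩) (.leaf ⟨92, 17068101, none, 512, 19689551⟩)) (.node 1 (.leaf ⟨512, 17043521, none, 92, 19730521⟩) (.leaf ⟨99, 19085399, (some true), 513, 17043521⟩)))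
(.node 2 (.node 1 (.leaf ⟨513, 17586257, none, 513, 17043521⟩) (.leaf ⟨513, 17043521, none, 513, 17586257⟩)) (.node 1 (.leaf ⟨513, 17059919, (some true), 514, 17043521⟩) (.leaf ⟨514, 17043521, (some true), 513, 17059919⟩)))))
(.node 8 (.node 4 (.node 2 (.node 1 (.leaf ⟨92, 11419743, none, 514, 11300933⟩) (.leaf ⟨514, 17043521, none, 92, 16934987⟩)) (.node 1 (.leaf ⟨92, 10971209, (some true), 513, 25456725⟩) (.leaf ⟨92, 17043521, (some true), 513, 17070167⟩)))
(.node 2 (.node 1 (.leaf ⟨92, 13310023, (some true), 515, 17043521⟩) (.leaf ⟨92, 31801425, (some true), 515, 9007193⟩)) (.node 1 (.leaf ⟨92, 32125001, (some true), 515, 11022401⟩) (.leaf ⟨92, 4808797, (some true), 515, 25778259⟩))))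
(.node 4 (.node 2 (.node 1 (.leaf ⟨513, 27529303, (some false), 519, 17043521⟩) (.leaf ⟨513, 4808797, (some false), 519, 17721431⟩)) (.node 1 (.leaf ⟨519, 25385043, (some true), 520, 17043521⟩) (.leaf ⟨520, 17043521, (some true), 519, 25385043⟩)))
(.node 2 (.node 1 (.leaf ⟨520, 4808797, (some false), 521, 17043521⟩) (.leaf ⟨521, 17043521, (some false), 520, 23685197⟩)) (.node 1 (.leaf ⟨92, 25718875, none, 521, 17459269⟩) (.leaf ⟨521, 17043521, none, 92, 6846557⟩)))))))))

/-- The facts. -/
def caseCFullFactsLRLL : Tab Fct := .node 244 caseCFullFactsLRLLL caseCFullFactsLRLLR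

/-- The facts. -/
def caseCFullFactsLRLRL : Tab Fct :=
(.node 122 (.node 61 (.node 30 (.node 15 (.node 7 (.node 3 (.node 1 (.leaf ⟨520, 27873375, none, 510, 19691589⟩) (.node 1 (.leaf ⟨520, 17043521, none, 510, 9009233⟩) (.leaf ⟨510, 17043521, (some true), 519, 19355721⟩)))
(.node 2 (.node 1 (.leaf ⟨99, 13310023, (some false), 522, 17043521⟩) (.leaf ⟨99, 6776923, (some false), 522, 16988225⟩)) (.node 1 (.leaf ⟨522, 17059919, (some true), 523, 17043521⟩) (.leaf ⟨523, 17043521, (some true), 522, 17059919⟩))))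
(.node 4 (.node 2 (.node 1 (.leaf ⟨523, 17043521, (some false), 524, 17043521⟩) (.leaf ⟨524, 17043521, (some false), 523, 17127489⟩)) (.node 1 (.leaf ⟨92, 27807831, none, 524, 17193043⟩) (.leaf ⟨524, 17043521, none, 92, 13113431⟩)))
(.node 2 (.node 1 (.leaf ⟨523, 17043537, none, 510, 19691589⟩) (.leaf ⟨523, 17043521, none, 510, 19691605⟩)) (.node 1 (.leaf ⟨510, 17059919, (some true), 522, 19675223⟩) (.leaf ⟨99, 9056345, (some false), 527, 17043521⟩)))))
(.node 7 (.node 3 (.node 1 (.leaf ⟨99, 23928925, (some false), 527, 17770575⟩) (.node 1 (.leaf ⟨527, 19085399, (some false), 528, 17043521⟩) (.leaf ⟨528, 17043521, (some false), 527, 19560517⟩)))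
(.node 2 (.node 1 (.leaf ⟨528, 19085399, (some true), 529, 17043521⟩) (.leaf ⟨529, 17043521, (some true), 528, 19085399⟩)) (.node 1 (.leaf ⟨529, 17043521, (some false), 530, 17043521⟩) (.leaf ⟨530, 17043521, (some false), 529, 17127489⟩))))
(.node 4 (.node 2 (.node 1 (.leaf ⟨92, 27672655, none, 530, 19861571⟩) (.leaf ⟨530, 17043521, none, 92, 13387865⟩)) (.node 1 (.leaf ⟨529, 17512527, none, 510, 19101763⟩) (.leaf ⟨529, 17043521, none, 510, 19681351⟩)))
(.node 2 (.node 1 (.leaf ⟨528, 16937037, none, 522, 19675223⟩) (.leaf ⟨528, 17043521, none, 522, 19290191⟩)) (.node 1 (.leaf ⟨522, 19085399, (some false), 527, 19148889⟩) (.leaf ⟨515, 27529303, (some false), 531, 17043521⟩))))))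
(.node 15 (.node 7 (.node 3 (.node 1 (.leaf ⟨531, 19085399, (some false), 532, 17043521⟩) (.node 1 (.leaf ⟨532, 25385043, (some true), 533, 17043521⟩) (.leaf ⟨533, 29904967, (some false), 534, 17043521⟩)))
(.node 2 (.node 1 (.leaf ⟨534, 17043521, (some false), 533, 13113429⟩) (.leaf ⟨92, 23939151, none, 534, 19142749⟩)) (.node 1 (.leaf ⟨534, 17043521, none, 92, 23871569⟩) (.leaf ⟨533, 32006233, none, 509, 17459277⟩))))
(.node 4 (.node 2 (.node 1 (.leaf ⟨533, 17043521, none, 509, 9377887⟩) (.leaf ⟨519, 11495495, (some true), 535, 17043521⟩)) (.node 1 (.leaf ⟨535, 13310023, (some true), 536, 17043521⟩) (.leaf ⟨536, 31801425, (some true), 537, 17043521⟩)))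
(.node 2 (.node 1 (.leaf ⟨537, 17043521, (some true), 536, 31801425⟩) (.leaf ⟨92, 25448539, none, 537, 6973507⟩)) (.node 1 (.leaf ⟨537, 17043521, none, 92, 7217223⟩) (.leaf ⟨536, 21571651, none, 477, 8542291⟩)))))
(.node 8 (.node 4 (.node 2 (.node 1 (.leaf ⟨536, 17043521, none, 477, 7161931⟩) (.leaf ⟨513, 13510735, (some false), 538, 17043521⟩)) (.node 1 (.leaf ⟨538, 17043521, (some false), 513, 29761631⟩) (.leaf ⟨538, 19085399, (some true), 539, 17043521⟩)))
(.node 2 (.node 1 (.leaf ⟨539, 17043521, (some true), 538, 19085399⟩) (.leaf ⟨539, 10971209, (some true), 540, 17043521⟩)) (.node 1 (.leaf ⟨540, 17043521, (some true), 539, 10971209⟩) (.leaf ⟨540, 32131155, (some true), 541, 17043521⟩))))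
(.node 4 (.node 2 (.node 1 (.leaf ⟨541, 17043521, (some true), 540, 32131155⟩) (.leaf ⟨92, 27469899, none, 541, 7043157⟩)) (.node 1 (.leaf ⟨541, 17043521, none, 92, 23607365⟩) (.leaf ⟨540, 23480393, none, 477, 11417683⟩)))
(.node 2 (.node 1 (.leaf ⟨540, 17043521, none, 477, 31926361⟩) (.leaf ⟨477, 32131155, (some true), 539, 8601681⟩)) (.node 1 (.leaf ⟨93, 7292999, (some false), 542, 17043521⟩) (.leaf ⟨542, 17043521, (some false), 93, 21448789⟩)))))))
(.node 30 (.node 15 (.node 7 (.node 3 (.node 1 (.leaf ⟨542, 19085399, (some false), 543, 17043521⟩) (.node 1 (.leaf ⟨543, 17043521, (some false), 542, 19560517⟩) (.leaf ⟨543, 19085399, (some false), 544, 17043521⟩)))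
(.node 2 (.node 1 (.leaf ⟨544, 17043521, (some false), 543, 19560517⟩) (.leaf ⟨93, 23873613, none, 544, 19732565⟩)) (.node 1 (.leaf ⟨544, 17043521, none, 93, 23412811⟩) (.leaf ⟨543, 19691589, none, 469, 17043521⟩))))
(.node 4 (.node 2 (.node 1 (.leaf ⟨543, 17043521, none, 469, 19740751⟩) (.leaf ⟨469, 19085399, (some false), 542, 19355715⟩)) (.node 1 (.leaf ⟨99, 17059919, (some true), 545, 17043521⟩) (.leaf ⟨545, 17059919, (some true), 546, 17043521⟩)))
(.node 2 (.node 1 (.leaf ⟨546, 17043521, (some true), 545, 17059919⟩) (.leaf ⟨93, 19157087, none, 546, 19664989⟩)) (.node 1 (.leaf ⟨546, 17043521, none, 93, 17651779⟩) (.leaf ⟨545, 17635405, none, 99, 17070161⟩)))))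
(.node 7 (.node 3 (.node 1 (.leaf ⟨545, 17043521, none, 99, 17643597⟩) (.node 1 (.leaf ⟨99, 13510735, (some false), 547, 17043521⟩) (.leaf ⟨99, 29904967, (some false), 547, 17592397⟩)))
(.node 2 (.node 1 (.leaf ⟨93, 29904967, (some true), 548, 17043521⟩) (.leaf ⟨93, 13310023, (some true), 548, 17109057⟩)) (.node 1 (.leaf ⟨93, 4544593, (some true), 548, 11360331⟩) (.leaf ⟨93, 32125001, (some true), 548, 25440321⟩))))
(.node 4 (.node 2 (.node 1 (.leaf ⟨460, 25385043, (some true), 550, 17043521⟩) (.leaf ⟨550, 4808797, (some false), 551, 17043521⟩)) (.node 1 (.leaf ⟨551, 17043521, (some false), 550, 23685197⟩) (.leaf ⟨93, 11421769, none, 551, 17260637⟩)))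
(.node 2 (.node 1 (.leaf ⟨551, 17043521, none, 93, 23939151⟩) (.leaf ⟨550, 6893649, none, 542, 17043521⟩)) (.node 1 (.leaf ⟨550, 17043521, none, 542, 11225163⟩) (.leaf ⟨93, 31801425, (some true), 552, 17043521⟩))))))
(.node 15 (.node 7 (.node 3 (.node 1 (.leaf ⟨552, 17043521, (some true), 93, 31801425⟩) (.node 1 (.leaf ⟨93, 4808797, (some true), 552, 11089995⟩) (.leaf ⟨93, 13510735, (some true), 552, 25712715⟩)))
(.node 2 (.node 1 (.leaf ⟨93, 32131155, (some true), 552, 19214425⟩) (.leaf ⟨552, 19675209, none, 552, 19214425⟩)) (.node 1 (.leaf ⟨552, 17043521, none, 552, 17569875⟩) (.leaf ⟨552, 13510735, (some false), 553, 17043521⟩))))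
(.node 4 (.node 2 (.node 1 (.leaf ⟨552, 29904967, (some false), 553, 17578071⟩) (.leaf ⟨99, 4808797, (some false), 555, 17043521⟩)) (.node 1 (.leaf ⟨99, 27529303, (some false), 555, 17643615⟩) (.leaf ⟨555, 19085399, (some false), 556, 17043521⟩)))
(.node 2 (.node 1 (.leaf ⟨556, 17043521, (some false), 555, 19560517⟩) (.leaf ⟨556, 17043521, (some true), 557, 17043521⟩)) (.node 1 (.leaf ⟨557, 17043521, (some true), 556, 17043521⟩) (.leaf ⟨557, 19085399, (some false), 558, 17043521⟩)))))
(.node 8 (.node 4 (.node 2 (.node 1 (.leaf ⟨558, 17043521, (some false), 557, 19560517⟩) (.leaf ⟨93, 27619395, none, 558, 19032129⟩)) (.node 1 (.leaf ⟨558, 17043521, none, 93, 4929603⟩) (.leaf ⟨93, 27529303, (some false), 557, 19275851⟩)))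
(.node 2 (.node 1 (.leaf ⟨93, 6776923, (some false), 557, 19619931⟩) (.leaf ⟨93, 23928925, (some false), 557, 19079251⟩)) (.node 1 (.leaf ⟨93, 4808797, (some false), 557, 19554371⟩) (.leaf ⟨557, 19030083, none, 557, 19619931⟩))))
(.node 4 (.node 2 (.node 1 (.leaf ⟨557, 17043521, none, 557, 17567813⟩) (.leaf ⟨548, 13510735, (some false), 559, 17043521⟩)) (.node 1 (.leaf ⟨559, 19085399, (some false), 560, 17043521⟩) (.leaf ⟨560, 10971209, (some true), 561, 17043521⟩)))
(.node 2 (.node 1 (.leaf ⟨561, 27529303, (some false), 562, 17043521⟩) (.leaf ⟨562, 17043521, (some false), 561, 25516101⟩)) (.node 1 (.leaf ⟨93, 5068865, none, 562, 19542109⟩) (.leaf ⟨562, 17043521, none, 93, 27732055⟩))))))))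
(.node 61 (.node 30 (.node 15 (.node 7 (.node 3 (.node 1 (.leaf ⟨561, 25499727, none, 460, 17043521⟩) (.node 1 (.leaf ⟨561, 17043521, none, 460, 27596879⟩) (.leaf ⟨555, 19085399, (some true), 563, 17043521⟩)))
(.node 2 (.node 1 (.leaf ⟨563, 19085399, (some true), 564, 17043521⟩) (.leaf ⟨564, 11495495, (some true), 565, 17043521⟩)) (.node 1 (.leaf ⟨565, 17043521, (some true), 564, 11495495⟩) (.leaf ⟨93, 10704981, none, 565, 21192771⟩))))
(.node 4 (.node 2 (.node 1 (.leaf ⟨565, 17043521, none, 93, 29640787⟩) (.leaf ⟨564, 11165767, none, 552, 17043521⟩)) (.node 1 (.leaf ⟨564, 17043521, none, 552, 23689309⟩) (.leaf ⟨553, 10971209, (some true), 566, 17043521⟩)))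
(.node 2 (.node 1 (.leaf ⟨566, 13310023, (some true), 567, 17043521⟩) (.leaf ⟨567, 17043521, (some true), 566, 13310023⟩)) (.node 1 (.leaf ⟨567, 31801425, (some true), 568, 17043521⟩) (.leaf ⟨568, 17043521, (some true), 567, 31801425⟩)))))
(.node 7 (.node 3 (.node 1 (.leaf ⟨93, 4612187, none, 568, 4941891⟩) (.node 1 (.leaf ⟨568, 17043521, none, 93, 17176647⟩) (.leaf ⟨567, 31803459, none, 99, 19230801⟩)))
(.node 2 (.node 1 (.leaf ⟨567, 17043521, none, 99, 4474949⟩) (.leaf ⟨99, 4808797, (some true), 566, 15618133⟩)) (.node 1 (.leaf ⟨99, 13510735, (some true), 566, 31938645⟩) (.leaf ⟨556, 19085399, (some false), 569, 17043521⟩))))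
(.node 4 (.node 2 (.node 1 (.leaf ⟨569, 17043521, (some false), 556, 19560517⟩) (.leaf ⟨99, 13197387, none, 569, 19560519⟩)) (.node 1 (.leaf ⟨569, 17043521, none, 99, 21524565⟩) (.leaf ⟨556, 19691589, none, 547, 17592397⟩)))
(.node 2 (.node 1 (.leaf ⟨556, 17043521, none, 547, 19142747⟩) (.leaf ⟨547, 19085399, (some false), 555, 19224651⟩)) (.node 1 (.leaf ⟨99, 29904967, (some true), 570, 17043521⟩) (.leaf ⟨99, 13310023, (some true), 570, 8933451⟩))))))
(.node 15 (.node 7 (.node 3 (.node 1 (.leaf ⟨570, 17043521, (some false), 571, 17043521⟩) (.node 1 (.leaf ⟨571, 17043521, (some false), 570, 17127489⟩) (.leaf ⟨99, 4544593, (some true), 575, 17043521⟩)))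
(.node 2 (.node 1 (.leaf ⟨99, 32125001, (some true), 575, 19224659⟩) (.leaf ⟨575, 4808797, (some false), 576, 17043521⟩)) (.node 1 (.leaf ⟨576, 17043521, (some false), 575, 23685197⟩) (.leaf ⟨576, 11495495, (some true), 577, 17043521⟩))))
(.node 4 (.node 2 (.node 1 (.leaf ⟨577, 17043521, (some true), 576, 11495495⟩) (.leaf ⟨577, 13510735, (some false), 578, 17043521⟩)) (.node 1 (.leaf ⟨578, 17043521, (some false), 577, 29761631⟩) (.leaf ⟨99, 32329819, none, 578, 17125459⟩)))
(.node 2 (.node 1 (.leaf ⟨578, 17043521, none, 99, 13373515⟩) (.leaf ⟨577, 23294029, none, 527, 17043521⟩)) (.node 1 (.leaf ⟨577, 17043521, none, 527, 25897053⟩) (.leaf ⟨527, 11495495, (some true), 576, 25372767⟩)))))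
(.node 8 (.node 4 (.node 2 (.node 1 (.leaf ⟨570, 4808797, (some false), 579, 17043521⟩) (.leaf ⟨579, 17043521, (some false), 570, 23685197⟩)) (.node 1 (.leaf ⟨575, 13510735, (some false), 580, 17043521⟩) (.leaf ⟨580, 19085399, (some false), 581, 17043521⟩)))
(.node 2 (.node 1 (.leaf ⟨581, 10971209, (some true), 582, 17043521⟩) (.leaf ⟨582, 27529303, (some false), 583, 17043521⟩)) (.node 1 (.leaf ⟨583, 17043521, (some false), 582, 25516101⟩) (.leaf ⟨99, 31920201, none, 583, 19083351⟩))))
(.node 4 (.node 2 (.node 1 (.leaf ⟨583, 17043521, none, 99, 21178453⟩) (.leaf ⟨582, 25505863, none, 555, 17643615⟩)) (.node 1 (.leaf ⟨582, 17043521, none, 555, 27859025⟩) (.leaf ⟨571, 11495495, (some true), 587, 17043521⟩)))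
(.node 2 (.node 1 (.leaf ⟨587, 17043521, (some true), 571, 11495495⟩) (.leaf ⟨587, 13310023, (some true), 588, 17043521⟩)) (.node 1 (.leaf ⟨588, 17043521, (some true), 587, 13310023⟩) (.leaf ⟨588, 31801425, (some true), 589, 17043521⟩)))))))
(.node 30 (.node 15 (.node 7 (.node 3 (.node 1 (.leaf ⟨589, 17043521, (some true), 588, 31801425⟩) (.node 1 (.leaf ⟨99, 21526613, none, 589, 4923457⟩) (.leaf ⟨589, 17043521, none, 99, 11350091⟩)))
(.node 2 (.node 1 (.leaf ⟨588, 15476811, none, 93, 17059919⟩) (.leaf ⟨588, 17043521, none, 93, 14903381⟩)) (.node 1 (.leaf ⟨587, 7041103, none, 552, 25712715⟩) (.leaf ⟨587, 17043521, none, 552, 23863379⟩))))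
(.node 4 (.node 2 (.node 1 (.leaf ⟨552, 31801425, (some true), 571, 26099783⟩) (.leaf ⟨552, 13510735, (some true), 571, 17459271⟩)) (.node 1 (.leaf ⟨99, 32131155, (some true), 590, 17043521⟩) (.leaf ⟨99, 31801425, (some true), 590, 17043521⟩)))
(.node 2 (.node 1 (.leaf ⟨590, 4808797, (some false), 591, 17043521⟩) (.leaf ⟨591, 17043521, (some false), 590, 23685197⟩)) (.node 1 (.leaf ⟨591, 19085399, (some true), 592, 17043521⟩) (.leaf ⟨592, 17043521, (some true), 591, 19085399⟩)))))
(.node 7 (.node 3 (.node 1 (.leaf ⟨592, 19085399, (some true), 593, 17043521⟩) (.node 1 (.leaf ⟨593, 17043521, (some true), 592, 19085399⟩) (.leaf ⟨593, 11495495, (some true), 594, 17043521⟩)))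
(.node 2 (.node 1 (.leaf ⟨594, 17043521, (some true), 593, 11495495⟩) (.leaf ⟨99, 12806227, none, 594, 4925507⟩)) (.node 1 (.leaf ⟨594, 17043521, none, 99, 23689307⟩) (.leaf ⟨593, 9128015, none, 575, 17043521⟩))))
(.node 4 (.node 2 (.node 1 (.leaf ⟨593, 17043521, none, 575, 6828127⟩) (.leaf ⟨575, 29904967, (some true), 592, 19560543⟩)) (.node 1 (.leaf ⟨105, 9056345, (some false), 595, 17043521⟩) (.leaf ⟨595, 17043521, (some false), 105, 10711131⟩)))
(.node 2 (.node 1 (.leaf ⟨105, 4808797, (some false), 595, 17180765⟩) (.leaf ⟨105, 29904967, (some false), 595, 17461313⟩)) (.node 1 (.leaf ⟨105, 6776923, (some false), 595, 17719363⟩) (.leaf ⟨105, 7292999, (some false), 595, 17592391⟩))))))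
(.node 15 (.node 7 (.node 3 (.node 1 (.leaf ⟨105, 31801425, (some false), 595, 17717335⟩) (.node 1 (.leaf ⟨595, 19085399, (some false), 596, 17043521⟩) (.leaf ⟨596, 19085399, (some false), 597, 17043521⟩)))
(.node 2 (.node 1 (.leaf ⟨597, 17043521, (some false), 596, 19560517⟩) (.leaf ⟨105, 23535691, none, 597, 19673163⟩)) (.node 1 (.leaf ⟨597, 17043521, none, 105, 14903361⟩) (.leaf ⟨596, 19691589, none, 595, 17719363⟩))))
(.node 4 (.node 2 (.node 1 (.leaf ⟨596, 17043521, none, 595, 19079245⟩) (.leaf ⟨105, 23928925, (some false), 598, 17043521⟩)) (.node 1 (.leaf ⟨105, 13510735, (some false), 598, 17000543⟩) (.leaf ⟨105, 27529303, (some false), 598, 17643605⟩)))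
(.node 2 (.node 1 (.leaf ⟨105, 13310023, (some false), 598, 17786965⟩) (.leaf ⟨105, 10971209, (some false), 598, 16986185⟩)) (.node 1 (.leaf ⟨105, 32125001, (some false), 598, 17702991⟩) (.leaf ⟨105, 4808797, (some true), 601, 17043521⟩)))))
(.node 8 (.node 4 (.node 2 (.node 1 (.leaf ⟨105, 13510735, (some true), 601, 9254993⟩) (.leaf ⟨105, 32131155, (some true), 601, 8927307⟩)) (.node 1 (.leaf ⟨105, 31801425, (some true), 601, 25761875⟩) (.leaf ⟨105, 29904967, (some true), 601, 8943689⟩)))
(.node 2 (.node 1 (.leaf ⟨105, 4544593, (some true), 601, 11278427⟩) (.leaf ⟨601, 25507907, none, 601, 9254993⟩)) (.node 1 (.leaf ⟨601, 9246795, none, 601, 11278427⟩) (.leaf ⟨601, 17043521, none, 601, 19206235⟩))))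
(.node 4 (.node 2 (.node 1 (.leaf ⟨601, 17043521, none, 601, 11079769⟩) (.leaf ⟨117, 17059919, (some true), 604, 17043521⟩)) (.node 1 (.leaf ⟨604, 17059919, (some true), 605, 17043521⟩) (.leaf ⟨605, 17043521, (some true), 604, 17059919⟩)))
(.node 2 (.node 1 (.leaf ⟨105, 11221081, none, 605, 9009239⟩) (.leaf ⟨605, 17043521, none, 105, 19544143⟩)) (.node 1 (.leaf ⟨604, 17643589, none, 117, 17133633⟩) (.leaf ⟨604, 17043521, none, 117, 17586269⟩)))))))))

/-- The facts. -/
def caseCFullFactsLRLRR : Tab Fct :=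
(.node 122 (.node 61 (.node 30 (.node 15 (.node 7 (.node 3 (.node 1 (.leaf ⟨117, 27529303, (some false), 606, 17043521⟩) (.node 1 (.leaf ⟨601, 19085399, (some false), 607, 17043521⟩) (.leaf ⟨601, 17043521, (some false), 607, 17002561⟩)))
(.node 2 (.node 1 (.leaf ⟨601, 4808797, (some false), 607, 17700943⟩) (.leaf ⟨601, 29904967, (some false), 607, 16918599⟩)) (.node 1 (.leaf ⟨601, 13510735, (some false), 608, 17043521⟩) (.leaf ⟨608, 17043521, (some false), 601, 29761631⟩))))
(.node 4 (.node 2 (.node 1 (.leaf ⟨608, 17043521, (some true), 609, 17043521⟩) (.leaf ⟨609, 17043521, (some true), 608, 17043521⟩)) (.node 1 (.leaf ⟨609, 17043521, (some false), 610, 17043521⟩) (.leaf ⟨610, 17043521, (some false), 609, 17127489⟩)))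
(.node 2 (.node 1 (.leaf ⟨105, 30156875, none, 610, 16988243⟩) (.leaf ⟨610, 17043521, none, 105, 24000605⟩)) (.node 1 (.leaf ⟨609, 17258583, none, 598, 17043521⟩) (.leaf ⟨609, 17043521, none, 598, 17717317⟩)))))
(.node 7 (.node 3 (.node 1 (.leaf ⟨598, 19085399, (some true), 608, 19159107⟩) (.node 1 (.leaf ⟨607, 10971209, (some true), 611, 17043521⟩) (.leaf ⟨611, 13510735, (some false), 612, 17043521⟩)))
(.node 2 (.node 1 (.leaf ⟨612, 17043521, (some false), 611, 29761631⟩) (.leaf ⟨105, 29573187, none, 612, 17651779⟩)) (.node 1 (.leaf ⟨612, 17043521, none, 105, 30031937⟩) (.leaf ⟨611, 7037013, none, 595, 17717335⟩))))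
(.node 4 (.node 2 (.node 1 (.leaf ⟨611, 17043521, none, 595, 25894979⟩) (.leaf ⟨117, 29904967, (some false), 614, 17043521⟩)) (.node 1 (.leaf ⟨606, 19085399, (some false), 618, 17043521⟩) (.leaf ⟨618, 25385043, (some true), 619, 17043521⟩)))
(.node 2 (.node 1 (.leaf ⟨619, 29904967, (some false), 620, 17043521⟩) (.leaf ⟨620, 17043521, (some false), 619, 13113429⟩)) (.node 1 (.leaf ⟨105, 25589845, none, 620, 19748941⟩) (.leaf ⟨620, 17043521, none, 105, 10907723⟩))))))
(.node 15 (.node 7 (.node 3 (.node 1 (.leaf ⟨619, 8941651, none, 598, 17786965⟩) (.node 1 (.leaf ⟨619, 17043521, none, 598, 8611935⟩) (.leaf ⟨113, 11495495, (some true), 621, 17043521⟩)))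
(.node 2 (.node 1 (.leaf ⟨621, 17043521, (some true), 113, 11495495⟩) (.leaf ⟨105, 19275851, none, 621, 21182547⟩)) (.node 1 (.leaf ⟨621, 17043521, none, 105, 25374807⟩) (.leaf ⟨113, 19292231, none, 117, 17133633⟩))))
(.node 4 (.node 2 (.node 1 (.leaf ⟨117, 17043521, none, 113, 19556445⟩) (.leaf ⟨113, 10971209, (some true), 604, 27555921⟩)) (.node 1 (.leaf ⟨113, 31801425, (some false), 606, 17193041⟩) (.leaf ⟨113, 10971209, (some false), 614, 17193027⟩)))
(.node 2 (.node 1 (.leaf ⟨113, 29904967, (some false), 622, 17043521⟩) (.leaf ⟨622, 17043521, (some false), 113, 13113429⟩)) (.node 1 (.leaf ⟨113, 4808797, (some false), 622, 16988235⟩) (.leaf ⟨113, 13310023, (some false), 622, 17127491⟩)))))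
(.node 8 (.node 4 (.node 2 (.node 1 (.leaf ⟨113, 23928925, (some false), 622, 17444955⟩) (.leaf ⟨622, 19085399, (some false), 623, 17043521⟩)) (.node 1 (.leaf ⟨623, 19085399, (some false), 624, 17043521⟩) (.leaf ⟨624, 17043521, (some false), 623, 19560517⟩)))
(.node 2 (.node 1 (.leaf ⟨113, 4730961, none, 624, 19019863⟩) (.leaf ⟨624, 17043521, none, 113, 8984651⟩)) (.node 1 (.leaf ⟨623, 19877955, none, 622, 16988235⟩) (.leaf ⟨623, 17043521, none, 622, 19556431⟩))))
(.node 4 (.node 2 (.node 1 (.leaf ⟨113, 6776923, (some false), 625, 17043521⟩) (.leaf ⟨625, 17043521, (some false), 113, 21979225⟩)) (.node 1 (.leaf ⟨113, 9056345, (some false), 625, 16986207⟩) (.leaf ⟨113, 27529303, (some false), 625, 17594449⟩)))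
(.node 2 (.node 1 (.leaf ⟨113, 13510735, (some false), 625, 17508425⟩) (.leaf ⟨625, 19085399, (some false), 626, 17043521⟩)) (.node 1 (.leaf ⟨626, 19085399, (some false), 627, 17043521⟩) (.leaf ⟨627, 17043521, (some false), 626, 19560517⟩)))))))
(.node 30 (.node 15 (.node 7 (.node 3 (.node 1 (.leaf ⟨113, 27406417, none, 627, 19605587⟩) (.node 1 (.leaf ⟨627, 17043521, none, 113, 23885891⟩) (.leaf ⟨626, 19877955, none, 625, 16986207⟩)))
(.node 2 (.node 1 (.leaf ⟨626, 17043521, none, 625, 19554379⟩) (.leaf ⟨113, 13310023, (some true), 628, 17043521⟩)) (.node 1 (.leaf ⟨628, 17043521, (some true), 113, 13310023⟩) (.leaf ⟨113, 32125001, (some true), 628, 9254995⟩))))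
(.node 4 (.node 2 (.node 1 (.leaf ⟨113, 29904967, (some true), 628, 17111105⟩) (.leaf ⟨113, 4544593, (some true), 628, 27547737⟩)) (.node 1 (.leaf ⟨628, 17059919, (some true), 629, 17043521⟩) (.leaf ⟨629, 17059919, (some true), 630, 17043521⟩)))
(.node 2 (.node 1 (.leaf ⟨630, 17043521, (some true), 629, 17059919⟩) (.leaf ⟨113, 21903429, none, 630, 19150943⟩)) (.node 1 (.leaf ⟨630, 17043521, none, 113, 30019673⟩) (.leaf ⟨629, 11022431, none, 628, 9254995⟩)))))
(.node 7 (.node 3 (.node 1 (.leaf ⟨629, 17043521, none, 628, 19667013⟩) (.node 1 (.leaf ⟨113, 13510735, (some true), 631, 17043521⟩) (.leaf ⟨113, 32131155, (some true), 633, 17043521⟩)))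
(.node 2 (.node 1 (.leaf ⟨628, 4808797, (some false), 635, 17043521⟩) (.leaf ⟨635, 11495495, (some true), 636, 17043521⟩)) (.node 1 (.leaf ⟨636, 13510735, (some false), 637, 17043521⟩) (.leaf ⟨637, 17043521, (some false), 636, 29761631⟩))))
(.node 4 (.node 2 (.node 1 (.leaf ⟨113, 4945997, none, 637, 17127507⟩) (.leaf ⟨637, 17043521, none, 113, 23214159⟩)) (.node 1 (.leaf ⟨636, 11343963, none, 625, 17594449⟩) (.leaf ⟨636, 17043521, none, 625, 25507921⟩)))
(.node 2 (.node 1 (.leaf ⟨120, 13510735, (some false), 638, 17043521⟩) (.leaf ⟨638, 17043521, (some false), 120, 29761631⟩)) (.node 1 (.leaf ⟨638, 17043521, (some true), 639, 17043521⟩) (.leaf ⟨639, 17043521, (some true), 638, 17043521⟩))))))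
(.node 15 (.node 7 (.node 3 (.node 1 (.leaf ⟨639, 17043521, (some false), 640, 17043521⟩) (.node 1 (.leaf ⟨640, 17043521, (some false), 639, 17127489⟩) (.leaf ⟨113, 27883613, none, 640, 17717331⟩)))
(.node 2 (.node 1 (.leaf ⟨640, 17043521, none, 113, 29960283⟩) (.leaf ⟨639, 17508421, none, 622, 16988235⟩)) (.node 1 (.leaf ⟨639, 17043521, none, 622, 17594463⟩) (.leaf ⟨622, 17059919, (some true), 638, 17578059⟩))))
(.node 4 (.node 2 (.node 1 (.leaf ⟨628, 17043521, (some false), 641, 17043521⟩) (.leaf ⟨113, 31801425, (some true), 642, 17043521⟩)) (.node 1 (.leaf ⟨642, 27529303, (some false), 643, 17043521⟩) (.leaf ⟨643, 17043521, (some false), 642, 25516101⟩)))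
(.node 2 (.node 1 (.leaf ⟨643, 19085399, (some false), 644, 17043521⟩) (.leaf ⟨644, 17043521, (some false), 643, 19560517⟩)) (.node 1 (.leaf ⟨644, 25385043, (some true), 645, 17043521⟩) (.leaf ⟨645, 17043521, (some true), 644, 25385043⟩)))))
(.node 8 (.node 4 (.node 2 (.node 1 (.leaf ⟨645, 29904967, (some false), 646, 17043521⟩) (.leaf ⟨646, 17043521, (some false), 645, 13113429⟩)) (.node 1 (.leaf ⟨113, 15294545, none, 646, 19664989⟩) (.leaf ⟨646, 17043521, none, 113, 29892703⟩)))
(.node 2 (.node 1 (.leaf ⟨645, 4747347, none, 622, 17043521⟩) (.leaf ⟨645, 17043521, none, 622, 9322571⟩)) (.node 1 (.leaf ⟨622, 10971209, (some true), 644, 28014667⟩) (.leaf ⟨641, 19085399, (some false), 647, 17043521⟩))))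
(.node 4 (.node 2 (.node 1 (.leaf ⟨647, 19085399, (some true), 648, 17043521⟩) (.leaf ⟨648, 17043521, (some false), 649, 17043521⟩)) (.node 1 (.leaf ⟨649, 17043521, (some false), 648, 17127489⟩) (.leaf ⟨113, 32182337, none, 649, 19085395⟩)))
(.node 2 (.node 1 (.leaf ⟨649, 17043521, none, 113, 23930961⟩) (.leaf ⟨648, 17178695, none, 622, 17127491⟩)) (.node 1 (.leaf ⟨648, 17043521, none, 622, 17004621⟩) (.leaf ⟨631, 4808797, (some false), 650, 17043521⟩))))))))
(.node 61 (.node 30 (.node 15 (.node 7 (.node 3 (.node 1 (.leaf ⟨650, 17043521, (some false), 631, 23685197⟩) (.node 1 (.leaf ⟨650, 17043521, (some true), 651, 17043521⟩) (.leaf ⟨651, 17043521, (some true), 650, 17043521⟩)))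
(.node 2 (.node 1 (.leaf ⟨651, 19085399, (some true), 652, 17043521⟩) (.leaf ⟨652, 17043521, (some true), 651, 19085399⟩)) (.node 1 (.leaf ⟨652, 25385043, (some true), 653, 17043521⟩) (.leaf ⟨653, 17043521, (some true), 652, 25385043⟩))))
(.node 4 (.node 2 (.node 1 (.leaf ⟨113, 4677703, none, 653, 23685207⟩) (.leaf ⟨653, 17043521, none, 113, 25892939⟩)) (.node 1 (.leaf ⟨652, 25587779, none, 120, 11341899⟩) (.leaf ⟨652, 17043521, none, 120, 32067677⟩)))
(.node 2 (.node 1 (.leaf ⟨120, 29904967, (some true), 651, 16920671⟩) (.leaf ⟨651, 8540231, none, 651, 16920671⟩)) (.node 1 (.leaf ⟨651, 17043521, none, 651, 12869725⟩) (.leaf ⟨651, 4808797, (some true), 650, 25456721⟩)))))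
(.node 7 (.node 3 (.node 1 (.leaf ⟨628, 29904967, (some false), 654, 17043521⟩) (.node 1 (.leaf ⟨654, 17043521, (some false), 628, 13113429⟩) (.leaf ⟨654, 25385043, (some true), 655, 17043521⟩)))
(.node 2 (.node 1 (.leaf ⟨655, 17043521, (some true), 654, 25385043⟩) (.leaf ⟨655, 31801425, (some true), 656, 17043521⟩)) (.node 1 (.leaf ⟨656, 17043521, (some true), 655, 31801425⟩) (.leaf ⟨656, 13310023, (some true), 657, 17043521⟩))))
(.node 4 (.node 2 (.node 1 (.leaf ⟨657, 17043521, (some true), 656, 13310023⟩) (.leaf ⟨113, 4487257, none, 657, 6846551⟩)) (.node 1 (.leaf ⟨657, 17043521, none, 113, 19796045⟩) (.leaf ⟨656, 32116831, none, 120, 19232849⟩)))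
(.node 2 (.node 1 (.leaf ⟨656, 17043521, none, 120, 15482973⟩) (.leaf ⟨120, 4808797, (some true), 655, 21571649⟩)) (.node 1 (.leaf ⟨145, 13510735, (some false), 658, 17043521⟩) (.leaf ⟨658, 17043521, (some false), 145, 29761631⟩))))))
(.node 15 (.node 7 (.node 3 (.node 1 (.leaf ⟨120, 6635599, none, 658, 19544131⟩) (.node 1 (.leaf ⟨658, 17043521, none, 120, 26167367⟩) (.leaf ⟨145, 4857933, none, 161, 16918613⟩)))
(.node 2 (.node 1 (.leaf ⟨161, 17043521, none, 145, 9181271⟩) (.leaf ⟨145, 13310023, (some true), 173, 27605065⟩)) (.node 1 (.leaf ⟨145, 32131155, (some true), 188, 28196943⟩) (.leaf ⟨145, 25385043, (some true), 308, 17576015⟩))))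
(.node 4 (.node 2 (.node 1 (.leaf ⟨145, 13310023, (some false), 374, 17576011⟩) (.leaf ⟨120, 29904967, (some false), 659, 17043521⟩)) (.node 1 (.leaf ⟨120, 6776923, (some false), 659, 17461315⟩) (.leaf ⟨659, 19085399, (some false), 660, 17043521⟩)))
(.node 2 (.node 1 (.leaf ⟨660, 19085399, (some false), 661, 17043521⟩) (.leaf ⟨661, 17043521, (some false), 660, 19560517⟩)) (.node 1 (.leaf ⟨120, 4728921, none, 661, 19013727⟩) (.leaf ⟨661, 17043521, none, 120, 8984651⟩)))))
(.node 8 (.node 4 (.node 2 (.node 1 (.leaf ⟨120, 4808797, (some false), 660, 19877955⟩) (.leaf ⟨188, 17043521, (some true), 662, 17043521⟩)) (.node 1 (.leaf ⟨662, 17043521, (some true), 188, 17043521⟩) (.leaf ⟨662, 17059919, (some true), 663, 17043521⟩)))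
(.node 2 (.node 1 (.leaf ⟨663, 17043521, (some true), 662, 17059919⟩) (.leaf ⟨120, 15540307, none, 663, 8933447⟩)) (.node 1 (.leaf ⟨663, 17043521, none, 120, 32325701⟩) (.leaf ⟨662, 11096133, none, 655, 21571649⟩))))
(.node 4 (.node 2 (.node 1 (.leaf ⟨662, 17043521, none, 655, 4472911⟩) (.leaf ⟨655, 4808797, (some true), 188, 11360339⟩)) (.node 1 (.leaf ⟨120, 32125001, (some true), 664, 17043521⟩) (.leaf ⟨664, 17635393, none, 664, 17043521⟩)))
(.node 2 (.node 1 (.leaf ⟨664, 17043521, none, 664, 17635393⟩) (.leaf ⟨664, 17043521, (some false), 665, 17043521⟩)) (.node 1 (.leaf ⟨665, 17125441, none, 665, 17043521⟩) (.leaf ⟨665, 17043521, none, 665, 17125441⟩)))))))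
(.node 31 (.node 15 (.node 7 (.node 3 (.node 1 (.leaf ⟨188, 19085399, (some false), 666, 17043521⟩) (.node 1 (.leaf ⟨666, 11495495, (some true), 667, 17043521⟩) (.leaf ⟨667, 17043521, (some true), 666, 11495495⟩)))
(.node 2 (.node 1 (.leaf ⟨667, 13510735, (some false), 668, 17043521⟩) (.leaf ⟨668, 17043521, (some false), 667, 29761631⟩)) (.node 1 (.leaf ⟨120, 14893123, none, 668, 17117275⟩) (.leaf ⟨668, 17043521, none, 120, 6701147⟩))))
(.node 4 (.node 2 (.node 1 (.leaf ⟨667, 23277635, none, 161, 17043521⟩) (.leaf ⟨667, 23277635, none, 145, 9181271⟩)) (.node 1 (.leaf ⟨667, 17043521, none, 145, 15409235⟩) (.leaf ⟨666, 25315423, none, 188, 28196943⟩)))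
(.node 2 (.node 1 (.leaf ⟨666, 17043521, none, 188, 19667015⟩) (.leaf ⟨660, 10971209, (some true), 669, 17043521⟩)) (.node 1 (.leaf ⟨669, 17043521, (some true), 660, 10971209⟩) (.leaf ⟨669, 27529303, (some false), 670, 17043521⟩)))))
(.node 8 (.node 4 (.node 2 (.node 1 (.leaf ⟨670, 17043521, (some false), 669, 25516101⟩) (.leaf ⟨120, 8613965, none, 670, 17176645⟩)) (.node 1 (.leaf ⟨670, 17043521, none, 120, 14835791⟩) (.leaf ⟨669, 21192785, none, 659, 17461315⟩)))
(.node 2 (.node 1 (.leaf ⟨669, 17043521, none, 659, 27801689⟩) (.leaf ⟨659, 17043521, (some true), 660, 19800137⟩)) (.node 1 (.leaf ⟨120, 27529303, (some false), 673, 17043521⟩) (.leaf ⟨673, 17043521, (some false), 120, 25516101⟩))))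
(.node 4 (.node 2 (.node 1 (.leaf ⟨120, 23928925, (some false), 673, 17659975⟩) (.leaf ⟨188, 13510735, (some false), 674, 17043521⟩)) (.node 1 (.leaf ⟨123, 13310023, (some false), 680, 17043521⟩) (.leaf ⟨123, 29904967, (some false), 680, 17586261⟩)))
(.node 2 (.node 1 (.leaf ⟨123, 4808797, (some false), 680, 17526853⟩) (.leaf ⟨123, 23928925, (some false), 680, 17528905⟩)) (.node 1 (.leaf ⟨123, 4544593, (some true), 683, 17043521⟩) (.leaf ⟨123, 13310023, (some true), 683, 27596875⟩))))))
(.node 15 (.node 7 (.node 3 (.node 1 (.leaf ⟨123, 32125001, (some true), 683, 17578059⟩) (.node 1 (.leaf ⟨123, 29904967, (some true), 683, 25524307⟩) (.leaf ⟨683, 17059919, (some true), 684, 17043521⟩)))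
(.node 2 (.node 1 (.leaf ⟨684, 17059919, (some true), 685, 17043521⟩) (.leaf ⟨685, 17043521, (some true), 684, 17059919⟩)) (.node 1 (.leaf ⟨123, 15292489, none, 685, 27537485⟩) (.leaf ⟨685, 17043521, none, 123, 7098445⟩))))
(.node 4 (.node 2 (.node 1 (.leaf ⟨684, 25768023, none, 683, 25524307⟩) (.leaf ⟨684, 17043521, none, 683, 17576031⟩)) (.node 1 (.leaf ⟨123, 4808797, (some true), 686, 17043521⟩) (.leaf ⟨134, 13310023, (some false), 688, 17043521⟩)))
(.node 2 (.node 1 (.leaf ⟨688, 17043521, (some false), 134, 29511765⟩) (.leaf ⟨688, 17043521, (some true), 689, 17043521⟩)) (.node 1 (.leaf ⟨689, 17043521, (some true), 688, 17043521⟩) (.leaf ⟨689, 17043521, (some false), 690, 17043521⟩)))))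
(.node 8 (.node 4 (.node 2 (.node 1 (.leaf ⟨690, 17043521, (some false), 689, 17127489⟩) (.leaf ⟨123, 10897481, none, 690, 17256515⟩)) (.node 1 (.leaf ⟨690, 17043521, none, 123, 29706333⟩) (.leaf ⟨123, 7292999, (some false), 689, 17004609⟩)))
(.node 2 (.node 1 (.leaf ⟨129, 32125001, (some false), 691, 17043521⟩) (.leaf ⟨691, 17059919, (some true), 692, 17043521⟩)) (.node 1 (.leaf ⟨692, 17043521, (some true), 691, 17059919⟩) (.leaf ⟨692, 17043521, (some false), 693, 17043521⟩))))
(.node 4 (.node 2 (.node 1 (.leaf ⟨693, 17043521, (some false), 692, 17127489⟩) (.leaf ⟨123, 8919113, none, 693, 17766481⟩)) (.node 1 (.leaf ⟨693, 17043521, none, 123, 29888589⟩) (.leaf ⟨692, 17569885, none, 680, 17586261⟩)))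
(.node 2 (.node 1 (.leaf ⟨692, 17043521, none, 680, 17059929⟩) (.leaf ⟨680, 17043521, (some true), 691, 17070165⟩)) (.node 1 (.leaf ⟨134, 23928925, (some false), 694, 17043521⟩) (.leaf ⟨123, 32131155, (some true), 695, 17043521⟩)))))))))

/-- The facts. -/
def caseCFullFactsLRLR : Tab Fct := .node 244 caseCFullFactsLRLRL caseCFullFactsLRLRR

/-- The facts. -/
def caseCFullFactsLRL : Tab Fct := .node 488 caseCFullFactsLRLL caseCFullFactsLRLR

/-- The facts. -/
def caseCFullFactsLRRLL : Tab Fct :=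
(.node 122 (.node 61 (.node 30 (.node 15 (.node 7 (.node 3 (.node 1 (.leaf ⟨129, 7292999, (some false), 697, 17043521⟩) (.node 1 (.leaf ⟨697, 17043521, (some false), 129, 21448789⟩) (.leaf ⟨683, 17043521, (some false), 698, 17043521⟩)))
(.node 2 (.node 1 (.leaf ⟨698, 19085399, (some false), 699, 17043521⟩) (.leaf ⟨699, 17043521, (some false), 698, 19560517⟩)) (.node 1 (.leaf ⟨699, 19085399, (some true), 700, 17043521⟩) (.leaf ⟨700, 17043521, (some true), 699, 19085399⟩))))
(.node 4 (.node 2 (.node 1 (.leaf ⟨700, 17043521, (some false), 701, 17043521⟩) (.leaf ⟨701, 17043521, (some false), 700, 17127489⟩)) (.node 1 (.leaf ⟨123, 30029915, none, 701, 19814489⟩) (.leaf ⟨701, 17043521, none, 123, 8609859⟩)))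
(.node 2 (.node 1 (.leaf ⟨123, 10971209, (some false), 700, 17524815⟩) (.leaf ⟨700, 17457233, none, 700, 17524815⟩)) (.node 1 (.leaf ⟨700, 17043521, none, 700, 17111135⟩) (.leaf ⟨700, 17059919, (some true), 699, 19560517⟩)))))
(.node 7 (.node 3 (.node 1 (.leaf ⟨697, 19085399, (some false), 702, 17043521⟩) (.node 1 (.leaf ⟨702, 17043521, (some false), 697, 19560517⟩) (.leaf ⟨702, 17059919, (some true), 703, 17043521⟩)))
(.node 2 (.node 1 (.leaf ⟨703, 17043521, (some true), 702, 17059919⟩) (.leaf ⟨703, 19085399, (some false), 704, 17043521⟩)) (.node 1 (.leaf ⟨704, 17043521, (some false), 703, 19560517⟩) (.leaf ⟨123, 27547733, none, 704, 19537993⟩))))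
(.node 4 (.node 2 (.node 1 (.leaf ⟨704, 17043521, none, 123, 21112909⟩) (.leaf ⟨123, 13510735, (some false), 703, 19757127⟩)) (.node 1 (.leaf ⟨123, 9056345, (some false), 703, 19341407⟩) (.leaf ⟨123, 6776923, (some false), 703, 19085393⟩)))
(.node 2 (.node 1 (.leaf ⟨123, 27529303, (some false), 703, 19337301⟩) (.leaf ⟨683, 29904967, (some false), 705, 17043521⟩)) (.node 1 (.leaf ⟨705, 19085399, (some true), 706, 17043521⟩) (.leaf ⟨706, 10971209, (some true), 707, 17043521⟩))))))
(.node 15 (.node 7 (.node 3 (.node 1 (.leaf ⟨707, 17043521, (some true), 706, 10971209⟩) (.node 1 (.leaf ⟨707, 32131155, (some true), 708, 17043521⟩) (.leaf ⟨708, 17043521, (some true), 707, 32131155⟩)))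
(.node 2 (.node 1 (.leaf ⟨123, 7024723, none, 708, 23277639⟩) (.leaf ⟨708, 17043521, none, 123, 8917075⟩)) (.node 1 (.leaf ⟨707, 14835793, none, 129, 17768513⟩) (.leaf ⟨707, 17043521, none, 129, 31942751⟩))))
(.node 4 (.node 2 (.node 1 (.leaf ⟨129, 13510735, (some true), 706, 28256345⟩) (.leaf ⟨129, 31801425, (some false), 709, 17043521⟩)) (.node 1 (.leaf ⟨709, 19085399, (some true), 710, 17043521⟩) (.leaf ⟨710, 17043521, (some true), 709, 19085399⟩)))
(.node 2 (.node 1 (.leaf ⟨710, 25385043, (some true), 711, 17043521⟩) (.leaf ⟨711, 17043521, (some true), 710, 25385043⟩)) (.node 1 (.leaf ⟨711, 4808797, (some true), 712, 17043521⟩) (.leaf ⟨712, 17043521, (some true), 711, 4808797⟩)))))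
(.node 8 (.node 4 (.node 2 (.node 1 (.leaf ⟨123, 27621461, none, 712, 16916545⟩) (.leaf ⟨712, 17043521, none, 123, 23296089⟩)) (.node 1 (.leaf ⟨711, 32325727, none, 683, 17578059⟩) (.leaf ⟨711, 17043521, none, 683, 4542557⟩)))
(.node 2 (.node 1 (.leaf ⟨683, 29904967, (some true), 710, 17700931⟩) (.leaf ⟨129, 19085399, (some false), 713, 17043521⟩)) (.node 1 (.leaf ⟨713, 19085399, (some false), 714, 17043521⟩) (.leaf ⟨714, 17043521, (some false), 713, 19560517⟩))))
(.node 4 (.node 2 (.node 1 (.leaf ⟨126, 15274049, none, 714, 19034203⟩) (.leaf ⟨714, 17043521, none, 126, 21504079⟩)) (.node 1 (.leaf ⟨713, 19224659, none, 129, 17786975⟩) (.leaf ⟨713, 17043521, none, 129, 19359839⟩)))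
(.node 2 (.node 1 (.leaf ⟨126, 13510735, (some true), 715, 17043521⟩) (.leaf ⟨126, 32125001, (some true), 715, 27553867⟩)) (.node 1 (.leaf ⟨715, 17635393, none, 715, 17043521⟩) (.leaf ⟨715, 17043521, none, 715, 17635393⟩)))))))
(.node 30 (.node 15 (.node 7 (.node 3 (.node 1 (.leaf ⟨715, 17059919, (some true), 716, 17043521⟩) (.node 1 (.leaf ⟨716, 17043521, (some true), 715, 17059919⟩) (.leaf ⟨716, 17633363, none, 716, 17043521⟩)))
(.node 2 (.node 1 (.leaf ⟨716, 17043521, none, 716, 17633363⟩) (.leaf ⟨716, 17059919, (some true), 717, 17043521⟩)) (.node 1 (.leaf ⟨717, 17043521, (some true), 716, 17059919⟩) (.leaf ⟨126, 21383263, none, 717, 25499741⟩))))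
(.node 4 (.node 2 (.node 1 (.leaf ⟨717, 17043521, none, 126, 29777987⟩) (.leaf ⟨126, 32131155, (some true), 716, 25694293⟩)) (.node 1 (.leaf ⟨126, 13310023, (some true), 716, 11358301⟩) (.leaf ⟨126, 29904967, (some true), 718, 17043521⟩)))
(.node 2 (.node 1 (.leaf ⟨718, 17043521, (some true), 126, 29904967⟩) (.leaf ⟨126, 25385043, (some true), 718, 11024451⟩)) (.node 1 (.leaf ⟨126, 31801425, (some true), 718, 27793483⟩) (.leaf ⟨126, 11495495, (some true), 718, 27816009⟩)))))
(.node 7 (.node 3 (.node 1 (.leaf ⟨718, 17059919, (some true), 719, 17043521⟩) (.node 1 (.leaf ⟨719, 17043521, (some true), 718, 17059919⟩) (.leaf ⟨719, 17059919, (some true), 720, 17043521⟩)))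
(.node 2 (.node 1 (.leaf ⟨720, 17043521, (some true), 719, 17059919⟩) (.leaf ⟨126, 23410767, none, 720, 11016277⟩)) (.node 1 (.leaf ⟨720, 17043521, none, 126, 13129817⟩) (.leaf ⟨719, 25770069, none, 145, 15417423⟩))))
(.node 4 (.node 2 (.node 1 (.leaf ⟨719, 17043521, none, 145, 4859987⟩) (.leaf ⟨718, 25497669, none, 188, 28196943⟩)) (.node 1 (.leaf ⟨718, 17043521, none, 188, 19556425⟩) (.leaf ⟨188, 10971209, (some true), 126, 32331845⟩)))
(.node 2 (.node 1 (.leaf ⟨716, 19085399, (some false), 721, 17043521⟩) (.leaf ⟨721, 17043521, (some false), 716, 19560517⟩)) (.node 1 (.leaf ⟨145, 31801425, (some false), 722, 17043521⟩) (.leaf ⟨722, 17043521, (some false), 145, 14958673⟩))))))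
(.node 15 (.node 7 (.node 3 (.node 1 (.leaf ⟨716, 27529303, (some false), 723, 17043521⟩) (.node 1 (.leaf ⟨723, 17043521, (some false), 716, 25516101⟩) (.leaf ⟨716, 29904967, (some false), 723, 17256523⟩)))
(.node 2 (.node 1 (.leaf ⟨723, 25385043, (some true), 724, 17043521⟩) (.leaf ⟨724, 17043521, (some true), 723, 25385043⟩)) (.node 1 (.leaf ⟨724, 4808797, (some false), 725, 17043521⟩) (.leaf ⟨725, 17043521, (some false), 724, 23685197⟩))))
(.node 4 (.node 2 (.node 1 (.leaf ⟨126, 21903455, none, 725, 17506389⟩) (.leaf ⟨725, 17043521, none, 126, 10973255⟩)) (.node 1 (.leaf ⟨126, 23928925, (some false), 724, 9009221⟩) (.leaf ⟨126, 7292999, (some false), 724, 29954137⟩)))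
(.node 2 (.node 1 (.leaf ⟨126, 32125001, (some false), 724, 32067671⟩) (.leaf ⟨126, 9056345, (some false), 724, 27867215⟩)) (.node 1 (.leaf ⟨188, 31801425, (some false), 726, 17043521⟩) (.leaf ⟨726, 17043521, (some true), 727, 17043521⟩)))))
(.node 8 (.node 4 (.node 2 (.node 1 (.leaf ⟨727, 17043521, (some false), 728, 17043521⟩) (.leaf ⟨728, 17043521, (some false), 727, 17127489⟩)) (.node 1 (.leaf ⟨126, 25565265, none, 728, 16937025⟩) (.leaf ⟨728, 17043521, none, 126, 13248593⟩)))
(.node 2 (.node 1 (.leaf ⟨126, 6776923, (some false), 727, 17506383⟩) (.leaf ⟨126, 13310023, (some false), 727, 17508435⟩)) (.node 1 (.leaf ⟨126, 31801425, (some false), 727, 17659973⟩) (.leaf ⟨126, 10971209, (some false), 727, 17641553⟩))))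
(.node 4 (.node 2 (.node 1 (.leaf ⟨715, 13510735, (some false), 730, 17043521⟩) (.leaf ⟨730, 17043521, (some false), 715, 29761631⟩)) (.node 1 (.leaf ⟨715, 4808797, (some false), 730, 16918605⟩) (.leaf ⟨655, 7292999, (some false), 731, 17043521⟩)))
(.node 2 (.node 1 (.leaf ⟨731, 17043521, (some false), 655, 21448789⟩) (.leaf ⟨126, 19339345, none, 731, 19740753⟩)) (.node 1 (.leaf ⟨731, 17043521, none, 126, 16937025⟩) (.leaf ⟨655, 12929101, none, 129, 17133635⟩))))))))
(.node 61 (.node 30 (.node 15 (.node 7 (.node 3 (.node 1 (.leaf ⟨655, 17043521, none, 129, 6576211⟩) (.node 1 (.leaf ⟨129, 4544593, (some true), 654, 27750489⟩) (.leaf ⟨129, 17059919, (some true), 656, 19140675⟩)))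
(.node 2 (.node 1 (.leaf ⟨129, 17043521, (some true), 188, 19208267⟩) (.leaf ⟨145, 32125001, (some true), 732, 17043521⟩)) (.node 1 (.leaf ⟨732, 17043521, (some true), 145, 32125001⟩) (.leaf ⟨732, 27529303, (some false), 733, 17043521⟩))))
(.node 4 (.node 2 (.node 1 (.leaf ⟨733, 17043521, (some false), 732, 25516101⟩) (.leaf ⟨126, 13197381, none, 733, 19607631⟩)) (.node 1 (.leaf ⟨733, 17043521, none, 126, 4733023⟩) (.leaf ⟨732, 21178459, none, 129, 17786975⟩)))
(.node 2 (.node 1 (.leaf ⟨732, 17043521, none, 129, 27949131⟩) (.leaf ⟨129, 25385043, (some true), 145, 14899267⟩)) (.node 1 (.leaf ⟨726, 11495495, (some true), 734, 17043521⟩) (.leaf ⟨734, 17043521, (some true), 726, 11495495⟩)))))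
(.node 7 (.node 3 (.node 1 (.leaf ⟨734, 32131155, (some true), 735, 17043521⟩) (.node 1 (.leaf ⟨735, 17043521, (some true), 734, 32131155⟩) (.leaf ⟨735, 32131155, (some true), 736, 17043521⟩)))
(.node 2 (.node 1 (.leaf ⟨736, 17043521, (some true), 735, 32131155⟩) (.leaf ⟨126, 8550483, none, 736, 4925521⟩)) (.node 1 (.leaf ⟨736, 17043521, none, 126, 6830147⟩) (.leaf ⟨735, 14837851, none, 145, 15417423⟩))))
(.node 4 (.node 2 (.node 1 (.leaf ⟨735, 17043521, none, 145, 17526869⟩) (.leaf ⟨145, 19085399, (some true), 734, 6701129⟩)) (.node 1 (.leaf ⟨145, 6776923, (some false), 737, 17043521⟩) (.leaf ⟨737, 17043521, (some false), 145, 21979225⟩)))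
(.node 2 (.node 1 (.leaf ⟨737, 10971209, (some true), 738, 17043521⟩) (.leaf ⟨738, 17043521, (some true), 737, 10971209⟩)) (.node 1 (.leaf ⟨738, 32131155, (some true), 739, 17043521⟩) (.leaf ⟨739, 17043521, (some true), 738, 32131155⟩))))))
(.node 15 (.node 7 (.node 3 (.node 1 (.leaf ⟨739, 32131155, (some true), 740, 17043521⟩) (.node 1 (.leaf ⟨740, 17043521, (some true), 739, 32131155⟩) (.leaf ⟨126, 4540493, none, 740, 23226449⟩)))
(.node 2 (.node 1 (.leaf ⟨740, 17043521, none, 126, 9396303⟩) (.leaf ⟨739, 21907523, none, 718, 27816009⟩)) (.node 1 (.leaf ⟨739, 21907523, none, 188, 25370713⟩) (.leaf ⟨739, 17043521, none, 188, 32137309⟩))))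
(.node 4 (.node 2 (.node 1 (.leaf ⟨188, 13510735, (some true), 738, 31662171⟩) (.leaf ⟨129, 27529303, (some false), 741, 17043521⟩)) (.node 1 (.leaf ⟨741, 19085399, (some false), 742, 17043521⟩) (.leaf ⟨742, 17043521, (some false), 741, 19560517⟩)))
(.node 2 (.node 1 (.leaf ⟨742, 19085399, (some false), 743, 17043521⟩) (.leaf ⟨743, 17043521, (some false), 742, 19560517⟩)) (.node 1 (.leaf ⟨129, 29843533, none, 743, 19081305⟩) (.leaf ⟨743, 17043521, none, 129, 31936601⟩)))))
(.node 8 (.node 4 (.node 2 (.node 1 (.leaf ⟨129, 13510735, (some false), 742, 19877955⟩) (.leaf ⟨129, 29904967, (some false), 744, 17043521⟩)) (.node 1 (.leaf ⟨744, 19085399, (some false), 745, 17043521⟩) (.leaf ⟨745, 17043521, (some false), 744, 19560517⟩)))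
(.node 2 (.node 1 (.leaf ⟨745, 19085399, (some false), 746, 17043521⟩) (.leaf ⟨746, 17043521, (some false), 745, 19560517⟩)) (.node 1 (.leaf ⟨129, 4749379, none, 746, 19034181⟩) (.leaf ⟨746, 17043521, none, 129, 8984651⟩))))
(.node 4 (.node 2 (.node 1 (.leaf ⟨129, 4808797, (some false), 745, 19877955⟩) (.leaf ⟨129, 11495495, (some true), 747, 17043521⟩)) (.node 1 (.leaf ⟨747, 17059919, (some true), 748, 17043521⟩) (.leaf ⟨748, 17043521, (some true), 747, 17059919⟩)))
(.node 2 (.node 1 (.leaf ⟨748, 17059919, (some true), 749, 17043521⟩) (.leaf ⟨749, 17043521, (some true), 748, 17059919⟩)) (.node 1 (.leaf ⟨129, 27732053, none, 749, 17111119⟩) (.leaf ⟨749, 17043521, none, 129, 25632857⟩)))))))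
(.node 30 (.node 15 (.node 7 (.node 3 (.node 1 (.leaf ⟨748, 17635405, none, 132, 17043521⟩) (.node 1 (.leaf ⟨748, 17635405, none, 123, 26161247⟩) (.leaf ⟨748, 17043521, none, 123, 10973267⟩)))
(.node 2 (.node 1 (.leaf ⟨747, 19675223, none, 129, 10971201⟩) (.leaf ⟨747, 17043521, none, 129, 25307213⟩)) (.node 1 (.leaf ⟨129, 4808797, (some true), 750, 17043521⟩) (.leaf ⟨750, 17059919, (some true), 751, 17043521⟩))))
(.node 4 (.node 2 (.node 1 (.leaf ⟨751, 17043521, (some true), 750, 17059919⟩) (.leaf ⟨751, 17059919, (some true), 752, 17043521⟩)) (.node 1 (.leaf ⟨752, 17043521, (some true), 751, 17059919⟩) (.leaf ⟨129, 32317533, none, 752, 25522245⟩)))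
(.node 2 (.node 1 (.leaf ⟨752, 17043521, none, 129, 6891601⟩) (.leaf ⟨129, 31801425, (some true), 751, 27605063⟩)) (.node 1 (.leaf ⟨129, 29904967, (some true), 753, 17043521⟩) (.leaf ⟨660, 17043521, (some true), 756, 17043521⟩)))))
(.node 7 (.node 3 (.node 1 (.leaf ⟨756, 17043521, (some true), 660, 17043521⟩) (.node 1 (.leaf ⟨756, 19085399, (some false), 757, 17043521⟩) (.leaf ⟨757, 17043521, (some false), 756, 19560517⟩)))
(.node 2 (.node 1 (.leaf ⟨129, 27881551, none, 757, 17442897⟩) (.leaf ⟨757, 17043521, none, 129, 21575757⟩)) (.node 1 (.leaf ⟨756, 19621969, none, 745, 19877955⟩) (.leaf ⟨756, 17043521, none, 745, 17705041⟩))))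
(.node 4 (.node 2 (.node 1 (.leaf ⟨745, 10971209, (some true), 660, 25704523⟩) (.leaf ⟨750, 29904967, (some false), 758, 17043521⟩)) (.node 1 (.leaf ⟨758, 17043521, (some false), 750, 13113429⟩) (.leaf ⟨129, 10971209, (some false), 759, 17043521⟩)))
(.node 2 (.node 1 (.leaf ⟨758, 19085399, (some false), 760, 17043521⟩) (.leaf ⟨760, 17043521, (some false), 758, 19560517⟩)) (.node 1 (.leaf ⟨760, 11495495, (some true), 761, 17043521⟩) (.leaf ⟨761, 17043521, (some true), 760, 11495495⟩))))))
(.node 15 (.node 7 (.node 3 (.node 1 (.leaf ⟨761, 27529303, (some false), 762, 17043521⟩) (.node 1 (.leaf ⟨762, 17043521, (some false), 761, 25516101⟩) (.leaf ⟨129, 5064773, none, 762, 19339341⟩)))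
(.node 2 (.node 1 (.leaf ⟨762, 17043521, none, 129, 7225421⟩) (.leaf ⟨761, 13590615, none, 709, 17043521⟩)) (.node 1 (.leaf ⟨761, 17043521, none, 709, 28260439⟩) (.leaf ⟨760, 17442887, none, 710, 17043521⟩))))
(.node 4 (.node 2 (.node 1 (.leaf ⟨760, 17043521, none, 710, 16998491⟩) (.leaf ⟨710, 17043521, (some false), 758, 19337289⟩)) (.node 1 (.leaf ⟨751, 4808797, (some false), 763, 17043521⟩) (.leaf ⟨763, 17043521, (some true), 764, 17043521⟩)))
(.node 2 (.node 1 (.leaf ⟨764, 11495495, (some true), 765, 17043521⟩) (.leaf ⟨765, 32131155, (some true), 766, 17043521⟩)) (.node 1 (.leaf ⟨766, 17043521, (some true), 765, 32131155⟩) (.leaf ⟨129, 13445203, none, 766, 23224385⟩)))))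
(.node 8 (.node 4 (.node 2 (.node 1 (.leaf ⟨766, 17043521, none, 129, 23294041⟩) (.leaf ⟨129, 32125001, (some true), 765, 24078417⟩)) (.node 1 (.leaf ⟨750, 13510735, (some false), 767, 17043521⟩) (.leaf ⟨767, 25385043, (some true), 768, 17043521⟩)))
(.node 2 (.node 1 (.leaf ⟨768, 4544593, (some true), 769, 17043521⟩) (.leaf ⟨769, 32125001, (some true), 770, 17043521⟩)) (.node 1 (.leaf ⟨770, 17043521, (some true), 769, 32125001⟩) (.leaf ⟨129, 29646933, none, 770, 4857943⟩))))
(.node 4 (.node 2 (.node 1 (.leaf ⟨770, 17043521, none, 129, 12742723⟩) (.leaf ⟨769, 12808275, none, 765, 24078417⟩)) (.node 1 (.leaf ⟨769, 17043521, none, 765, 29569091⟩) (.leaf ⟨130, 25385043, (some true), 773, 17043521⟩)))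
(.node 2 (.node 1 (.leaf ⟨130, 11495495, (some true), 773, 19746883⟩) (.leaf ⟨773, 19142723, none, 773, 17043521⟩)) (.node 1 (.leaf ⟨773, 27529283, none, 773, 17043521⟩) (.leaf ⟨773, 11352131, none, 773, 19746883⟩)))))))))

/-- The facts. -/
def caseCFullFactsLRRLR : Tab Fct :=
(.node 122 (.node 61 (.node 30 (.node 15 (.node 7 (.node 3 (.node 1 (.leaf ⟨773, 19748955, none, 773, 19746883⟩) (.node 1 (.leaf ⟨773, 17043521, none, 773, 17045579⟩) (.leaf ⟨773, 17043521, none, 773, 27537473⟩)))
(.node 2 (.node 1 (.leaf ⟨773, 17043521, none, 773, 27529283⟩) (.leaf ⟨773, 17043521, none, 773, 19142723⟩)) (.node 1 (.leaf ⟨773, 17059919, (some true), 774, 17043521⟩) (.leaf ⟨774, 17070147, none, 774, 17043521⟩))))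
(.node 4 (.node 2 (.node 1 (.leaf ⟨774, 8941633, none, 774, 17043521⟩) (.leaf ⟨774, 8917083, none, 774, 17043521⟩)) (.node 1 (.leaf ⟨774, 19232859, none, 774, 17043521⟩) (.leaf ⟨774, 17043521, none, 774, 19232859⟩)))
(.node 2 (.node 1 (.leaf ⟨774, 17043521, none, 774, 8917083⟩) (.leaf ⟨774, 17043521, none, 774, 8941633⟩)) (.node 1 (.leaf ⟨774, 17043521, none, 774, 17070147⟩) (.leaf ⟨774, 17059919, (some true), 775, 17043521⟩)))))
(.node 7 (.node 3 (.node 1 (.leaf ⟨775, 17043521, (some true), 774, 17059919⟩) (.node 1 (.leaf ⟨130, 27406427, none, 775, 9179205⟩) (.leaf ⟨775, 17043521, none, 130, 10637391⟩)))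
(.node 2 (.node 1 (.leaf ⟨130, 19085399, (some true), 774, 27555909⟩) (.leaf ⟨130, 32125001, (some true), 776, 17043521⟩)) (.node 1 (.leaf ⟨130, 13310023, (some true), 776, 17592385⟩) (.leaf ⟨130, 4808797, (some true), 776, 9181273⟩))))
(.node 4 (.node 2 (.node 1 (.leaf ⟨130, 29904967, (some true), 776, 11286601⟩) (.leaf ⟨130, 32131155, (some true), 776, 17133649⟩)) (.node 1 (.leaf ⟨130, 13510735, (some true), 776, 9261131⟩) (.leaf ⟨130, 4544593, (some true), 776, 8925267⟩)))
(.node 2 (.node 1 (.leaf ⟨130, 31801425, (some true), 776, 17053761⟩) (.leaf ⟨776, 11040841, none, 776, 17053761⟩)) (.node 1 (.leaf ⟨776, 17043521, none, 776, 8990803⟩) (.leaf ⟨774, 4808797, (some false), 779, 17043521⟩))))))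
(.node 15 (.node 7 (.node 3 (.node 1 (.leaf ⟨774, 29904967, (some false), 779, 16982105⟩) (.node 1 (.leaf ⟨774, 17043521, (some false), 779, 17528919⟩) (.leaf ⟨774, 19085399, (some false), 779, 17176671⟩)))
(.node 2 (.node 1 (.leaf ⟨779, 17635421, none, 779, 17176671⟩) (.leaf ⟨779, 17764437, none, 779, 17043521⟩)) (.node 1 (.leaf ⟨779, 17043521, none, 779, 17764437⟩) (.leaf ⟨779, 17043521, none, 779, 17698883⟩))))
(.node 4 (.node 2 (.node 1 (.leaf ⟨776, 13510735, (some false), 781, 17043521⟩) (.leaf ⟨776, 27529303, (some false), 781, 17193045⟩)) (.node 1 (.leaf ⟨781, 17569875, none, 781, 17043521⟩) (.leaf ⟨781, 17043521, none, 781, 17569875⟩)))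
(.node 2 (.node 1 (.leaf ⟨781, 17043521, (some true), 782, 17043521⟩) (.leaf ⟨782, 17043521, (some true), 781, 17043521⟩)) (.node 1 (.leaf ⟨782, 17043521, (some false), 783, 17043521⟩) (.leaf ⟨783, 17043521, (some false), 782, 17127489⟩)))))
(.node 8 (.node 4 (.node 2 (.node 1 (.leaf ⟨130, 6971477, none, 783, 17447001⟩) (.leaf ⟨783, 17043521, none, 130, 27539527⟩)) (.node 1 (.leaf ⟨782, 17508429, none, 131, 17262663⟩) (.leaf ⟨782, 17043521, none, 131, 17780805⟩)))
(.node 2 (.node 1 (.leaf ⟨131, 19085399, (some true), 781, 19157057⟩) (.leaf ⟨131, 10971209, (some true), 781, 25761873⟩)) (.node 1 (.leaf ⟨162, 13510735, (some true), 789, 17043521⟩) (.leaf ⟨789, 17043521, (some true), 162, 13510735⟩))))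
(.node 4 (.node 2 (.node 1 (.leaf ⟨130, 17657923, none, 789, 19032145⟩) (.leaf ⟨789, 17043521, none, 130, 19019857⟩)) (.node 1 (.leaf ⟨162, 32204895, none, 773, 17043521⟩) (.leaf ⟨773, 17043521, none, 162, 32204895⟩)))
(.node 2 (.node 1 (.leaf ⟨162, 32131155, (some true), 774, 8984667⟩) (.leaf ⟨779, 17059919, (some true), 790, 17043521⟩)) (.node 1 (.leaf ⟨779, 25385043, (some true), 790, 11016265⟩) (.leaf ⟨779, 17043521, (some true), 790, 17119299⟩)))))))
(.node 30 (.node 15 (.node 7 (.node 3 (.node 1 (.leaf ⟨779, 19085399, (some true), 790, 19675219⟩) (.node 1 (.leaf ⟨790, 19085399, (some true), 791, 17043521⟩) (.leaf ⟨791, 25385043, (some true), 792, 17043521⟩)))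
(.node 2 (.node 1 (.leaf ⟨792, 17043521, (some true), 791, 25385043⟩) (.leaf ⟨130, 10901599, none, 792, 4808773⟩)) (.node 1 (.leaf ⟨792, 17043521, none, 130, 13590599⟩) (.leaf ⟨791, 8605769, none, 776, 9261131⟩))))
(.node 4 (.node 2 (.node 1 (.leaf ⟨791, 17043521, none, 776, 17698883⟩) (.leaf ⟨131, 10971209, (some false), 793, 17043521⟩)) (.node 1 (.leaf ⟨793, 19085399, (some false), 794, 17043521⟩) (.leaf ⟨794, 19085399, (some false), 795, 17043521⟩)))
(.node 2 (.node 1 (.leaf ⟨795, 17043521, (some false), 794, 19560517⟩) (.leaf ⟨131, 14907475, none, 795, 19556419⟩)) (.node 1 (.leaf ⟨795, 17043521, none, 131, 13400147⟩) (.leaf ⟨131, 32125001, (some false), 794, 19877955⟩)))))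
(.node 7 (.node 3 (.node 1 (.leaf ⟨131, 9056345, (some false), 794, 19667023⟩) (.node 1 (.leaf ⟨131, 7292999, (some false), 794, 19275855⟩) (.leaf ⟨131, 13310023, (some false), 794, 19814479⟩)))
(.node 2 (.node 1 (.leaf ⟨131, 4544593, (some true), 796, 17043521⟩) (.leaf ⟨131, 29904967, (some true), 796, 11368537⟩)) (.node 1 (.leaf ⟨131, 4808797, (some true), 796, 9261131⟩) (.leaf ⟨796, 11352153, none, 796, 11368537⟩))))
(.node 4 (.node 2 (.node 1 (.leaf ⟨796, 17043521, none, 796, 17068097⟩) (.leaf ⟨131, 32131155, (some true), 799, 17043521⟩)) (.node 1 (.leaf ⟨131, 32125001, (some true), 799, 11087939⟩) (.leaf ⟨131, 13310023, (some true), 799, 27856963⟩)))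
(.node 2 (.node 1 (.leaf ⟨131, 13510735, (some true), 799, 9179203⟩) (.leaf ⟨799, 17576001, none, 799, 27856963⟩)) (.node 1 (.leaf ⟨799, 17043521, none, 799, 11104323⟩) (.leaf ⟨799, 19085399, (some false), 801, 17043521⟩))))))
(.node 15 (.node 7 (.node 3 (.node 1 (.leaf ⟨799, 29904967, (some false), 801, 17705053⟩) (.node 1 (.leaf ⟨781, 29904967, (some false), 808, 17043521⟩) (.leaf ⟨781, 13510735, (some false), 808, 17594445⟩)))
(.node 2 (.node 1 (.leaf ⟨796, 13510735, (some false), 811, 17043521⟩) (.leaf ⟨811, 19085399, (some false), 812, 17043521⟩)) (.node 1 (.leaf ⟨812, 10971209, (some true), 813, 17043521⟩) (.leaf ⟨813, 27529303, (some false), 814, 17043521⟩))))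
(.node 4 (.node 2 (.node 1 (.leaf ⟨131, 29888607, none, 814, 19609677⟩) (.leaf ⟨814, 17043521, none, 131, 21586001⟩)) (.node 1 (.leaf ⟨808, 25385043, (some true), 815, 17043521⟩) (.leaf ⟨815, 31801425, (some true), 816, 17043521⟩)))
(.node 2 (.node 1 (.leaf ⟨816, 13310023, (some true), 817, 17043521⟩) (.leaf ⟨817, 17043521, (some true), 816, 13310023⟩)) (.node 1 (.leaf ⟨131, 8865865, none, 817, 6844501⟩) (.leaf ⟨817, 17043521, none, 131, 31926341⟩)))))
(.node 8 (.node 4 (.node 2 (.node 1 (.leaf ⟨816, 7221343, none, 799, 9179203⟩) (.leaf ⟨816, 17043521, none, 799, 23939145⟩)) (.node 1 (.leaf ⟨801, 17043521, (some true), 818, 17043521⟩) (.leaf ⟨818, 11495495, (some true), 819, 17043521⟩)))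
(.node 2 (.node 1 (.leaf ⟨819, 17043521, (some true), 818, 11495495⟩) (.leaf ⟨819, 32131155, (some true), 820, 17043521⟩)) (.node 1 (.leaf ⟨820, 17043521, (some true), 819, 32131155⟩) (.leaf ⟨131, 29577291, none, 820, 4925505⟩))))
(.node 4 (.node 2 (.node 1 (.leaf ⟨820, 17043521, none, 131, 13183045⟩) (.leaf ⟨819, 31672395, none, 796, 9261131⟩)) (.node 1 (.leaf ⟨819, 17043521, none, 796, 32321601⟩) (.leaf ⟨796, 4544593, (some true), 818, 28190799⟩)))
(.node 2 (.node 1 (.leaf ⟨796, 31801425, (some true), 818, 27410525⟩) (.leaf ⟨134, 6776923, (some false), 821, 17043521⟩)) (.node 1 (.leaf ⟨821, 17764437, none, 821, 17043521⟩) (.leaf ⟨821, 17698883, none, 821, 17043521⟩))))))))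
(.node 61 (.node 30 (.node 15 (.node 7 (.node 3 (.node 1 (.leaf ⟨821, 17043521, none, 821, 17698883⟩) (.node 1 (.leaf ⟨821, 17043521, none, 821, 17764437⟩) (.leaf ⟨821, 19085399, (some false), 822, 17043521⟩)))
(.node 2 (.node 1 (.leaf ⟨822, 17043521, (some false), 821, 19560517⟩) (.leaf ⟨822, 17051723, none, 822, 17043521⟩)) (.node 1 (.leaf ⟨822, 17053763, none, 822, 17043521⟩) (.leaf ⟨822, 17043521, none, 822, 17053763⟩))))
(.node 4 (.node 2 (.node 1 (.leaf ⟨822, 17043521, none, 822, 17051723⟩) (.leaf ⟨822, 19085399, (some false), 823, 17043521⟩)) (.node 1 (.leaf ⟨823, 17043521, (some false), 822, 19560517⟩) (.leaf ⟨134, 29691985, none, 823, 19673171⟩)))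
(.node 2 (.node 1 (.leaf ⟨823, 17043521, none, 134, 23885891⟩) (.leaf ⟨134, 9056345, (some false), 822, 19877955⟩)) (.node 1 (.leaf ⟨144, 19085399, (some true), 824, 17043521⟩) (.leaf ⟨824, 17043521, (some true), 144, 19085399⟩)))))
(.node 7 (.node 3 (.node 1 (.leaf ⟨824, 17059919, (some true), 825, 17043521⟩) (.node 1 (.leaf ⟨825, 17043521, (some true), 824, 17059919⟩) (.leaf ⟨134, 8812619, none, 825, 11106375⟩)))
(.node 2 (.node 1 (.leaf ⟨825, 17043521, none, 134, 19271757⟩) (.leaf ⟨824, 17043527, none, 135, 17043521⟩)) (.node 1 (.leaf ⟨824, 17043527, none, 123, 19619923⟩) (.leaf ⟨824, 17043521, none, 123, 19619925⟩))))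
(.node 4 (.node 2 (.node 1 (.leaf ⟨123, 11495495, (some true), 144, 25851983⟩) (.leaf ⟨134, 4808797, (some true), 826, 17043521⟩)) (.node 1 (.leaf ⟨826, 17059919, (some true), 827, 17043521⟩) (.leaf ⟨827, 17059919, (some true), 828, 17043521⟩)))
(.node 2 (.node 1 (.leaf ⟨828, 17043521, (some true), 827, 17059919⟩) (.leaf ⟨134, 29712469, none, 828, 9271389⟩)) (.node 1 (.leaf ⟨828, 17043521, none, 134, 6891601⟩) (.leaf ⟨134, 31801425, (some true), 827, 27605063⟩))))))
(.node 15 (.node 7 (.node 3 (.node 1 (.leaf ⟨134, 10971209, (some true), 829, 17043521⟩) (.node 1 (.leaf ⟨829, 17043521, (some true), 134, 10971209⟩) (.leaf ⟨134, 17043521, (some true), 829, 11366467⟩)))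
(.node 2 (.node 1 (.leaf ⟨134, 11495495, (some true), 829, 19208265⟩) (.leaf ⟨134, 17059919, (some true), 829, 9203779⟩)) (.node 1 (.leaf ⟨134, 32125001, (some true), 831, 17043521⟩) (.leaf ⟨831, 27539529, none, 831, 17043521⟩))))
(.node 4 (.node 2 (.node 1 (.leaf ⟨831, 25440323, none, 831, 17043521⟩) (.leaf ⟨831, 17043521, none, 831, 25440323⟩)) (.node 1 (.leaf ⟨831, 17043521, none, 831, 27539529⟩) (.leaf ⟨829, 13510735, (some false), 833, 17043521⟩)))
(.node 2 (.node 1 (.leaf ⟨833, 17043521, (some false), 829, 29761631⟩) (.leaf ⟨833, 17043521, (some true), 834, 17043521⟩)) (.node 1 (.leaf ⟨834, 17043521, (some true), 833, 17043521⟩) (.leaf ⟨834, 17043521, (some false), 835, 17043521⟩)))))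
(.node 8 (.node 4 (.node 2 (.node 1 (.leaf ⟨835, 17043521, (some false), 834, 17127489⟩) (.leaf ⟨134, 17508421, none, 835, 17782865⟩)) (.node 1 (.leaf ⟨835, 17043521, none, 134, 16922695⟩) (.leaf ⟨834, 17512541, none, 31, 25516101⟩)))
(.node 2 (.node 1 (.leaf ⟨834, 17043521, none, 31, 13574221⟩) (.leaf ⟨833, 19150921, none, 173, 13379665⟩)) (.node 1 (.leaf ⟨833, 19150921, none, 71, 11300943⟩) (.leaf ⟨833, 17043521, none, 71, 11358285⟩))))
(.node 4 (.node 2 (.node 1 (.leaf ⟨829, 25434181, none, 188, 17240129⟩) (.leaf ⟨829, 17043521, none, 188, 25565255⟩)) (.node 1 (.leaf ⟨188, 19085399, (some true), 134, 19619931⟩) (.leaf ⟨188, 6776923, (some false), 836, 17043521⟩)))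
(.node 2 (.node 1 (.leaf ⟨836, 17043521, (some false), 188, 21979225⟩) (.leaf ⟨836, 10971209, (some true), 837, 17043521⟩)) (.node 1 (.leaf ⟨837, 17043521, (some true), 836, 10971209⟩) (.leaf ⟨837, 13510735, (some false), 838, 17043521⟩)))))))
(.node 30 (.node 15 (.node 7 (.node 3 (.node 1 (.leaf ⟨838, 17043521, (some false), 837, 29761631⟩) (.node 1 (.leaf ⟨134, 9252957, none, 838, 17657929⟩) (.leaf ⟨838, 17043521, none, 134, 27545695⟩)))
(.node 2 (.node 1 (.leaf ⟨134, 27529303, (some false), 837, 29778001⟩) (.leaf ⟨134, 32125001, (some false), 837, 27605065⟩)) (.node 1 (.leaf ⟨134, 13510735, (some false), 837, 9195601⟩) (.leaf ⟨134, 10971209, (some false), 837, 31920211⟩))))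
(.node 4 (.node 2 (.node 1 (.leaf ⟨188, 13310023, (some false), 839, 17043521⟩) (.leaf ⟨134, 4544593, (some true), 840, 17043521⟩)) (.node 1 (.leaf ⟨840, 17043521, (some true), 134, 4544593⟩) (.leaf ⟨134, 32131155, (some true), 840, 27537473⟩)))
(.node 2 (.node 1 (.leaf ⟨134, 29904967, (some true), 840, 27553859⟩) (.leaf ⟨134, 13510735, (some true), 840, 17117257⟩)) (.node 1 (.leaf ⟨840, 17043521, (some false), 841, 17043521⟩) (.leaf ⟨841, 17043521, (some false), 840, 17127489⟩)))))
(.node 7 (.node 3 (.node 1 (.leaf ⟨144, 13310023, (some false), 843, 17043521⟩) (.node 1 (.leaf ⟨831, 17043521, (some false), 844, 17043521⟩) (.leaf ⟨831, 13510735, (some false), 844, 17174617⟩)))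
(.node 2 (.node 1 (.leaf ⟨831, 19085399, (some false), 844, 17786963⟩) (.leaf ⟨831, 27529303, (some false), 844, 17442891⟩)) (.node 1 (.leaf ⟨844, 17059919, (some true), 845, 17043521⟩) (.leaf ⟨845, 10971209, (some true), 846, 17043521⟩))))
(.node 4 (.node 2 (.node 1 (.leaf ⟨846, 17043521, (some true), 845, 10971209⟩) (.leaf ⟨846, 13310023, (some true), 847, 17043521⟩)) (.node 1 (.leaf ⟨847, 17043521, (some true), 846, 13310023⟩) (.leaf ⟨134, 4610137, none, 847, 21571667⟩)))
(.node 2 (.node 1 (.leaf ⟨847, 17043521, none, 134, 28198981⟩) (.leaf ⟨846, 13523039, none, 829, 19208265⟩)) (.node 1 (.leaf ⟨846, 13523039, none, 188, 25563213⟩) (.leaf ⟨846, 17043521, none, 188, 23623771⟩))))))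
(.node 15 (.node 7 (.node 3 (.node 1 (.leaf ⟨188, 4544593, (some true), 845, 11421777⟩) (.node 1 (.leaf ⟨836, 19085399, (some true), 848, 17043521⟩) (.leaf ⟨848, 11495495, (some true), 849, 17043521⟩)))
(.node 2 (.node 1 (.leaf ⟨849, 17043521, (some true), 848, 11495495⟩) (.leaf ⟨849, 13310023, (some true), 850, 17043521⟩)) (.node 1 (.leaf ⟨850, 17043521, (some true), 849, 13310023⟩) (.leaf ⟨134, 9070685, none, 850, 4747349⟩))))
(.node 4 (.node 2 (.node 1 (.leaf ⟨850, 17043521, none, 134, 30169181⟩) (.leaf ⟨849, 15431757, none, 840, 27553859⟩)) (.node 1 (.leaf ⟨849, 17043521, none, 840, 27662417⟩) (.leaf ⟨840, 25385043, (some true), 848, 8538197⟩)))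
(.node 2 (.node 1 (.leaf ⟨144, 7292999, (some false), 851, 17043521⟩) (.leaf ⟨144, 31801425, (some false), 851, 17246295⟩)) (.node 1 (.leaf ⟨144, 29904967, (some false), 851, 16935005⟩) (.leaf ⟨144, 4808797, (some false), 851, 17780817⟩)))))
(.node 8 (.node 4 (.node 2 (.node 1 (.leaf ⟨144, 32125001, (some true), 854, 17043521⟩) (.leaf ⟨854, 17059919, (some true), 855, 17043521⟩)) (.node 1 (.leaf ⟨855, 17059919, (some true), 856, 17043521⟩) (.leaf ⟨856, 17043521, (some true), 855, 17059919⟩)))
(.node 2 (.node 1 (.leaf ⟨144, 21893209, none, 856, 19738711⟩) (.leaf ⟨856, 17043521, none, 144, 15429703⟩)) (.node 1 (.leaf ⟨144, 13310023, (some true), 855, 27605063⟩) (.leaf ⟨144, 29904967, (some true), 857, 17043521⟩))))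
(.node 4 (.node 2 (.node 1 (.leaf ⟨144, 4544593, (some true), 857, 27545667⟩) (.leaf ⟨144, 13510735, (some true), 857, 27611203⟩)) (.node 1 (.leaf ⟨144, 32131155, (some true), 857, 19167305⟩) (.leaf ⟨145, 29904967, (some false), 860, 17043521⟩)))
(.node 2 (.node 1 (.leaf ⟨145, 17043521, (some false), 861, 17043521⟩) (.leaf ⟨861, 25385043, (some true), 862, 17043521⟩)) (.node 1 (.leaf ⟨862, 17043521, (some true), 861, 25385043⟩) (.leaf ⟨862, 4808797, (some false), 863, 17043521⟩)))))))))

/-- The facts. -/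
def caseCFullFactsLRRL : Tab Fct := .node 244 caseCFullFactsLRRLL caseCFullFactsLRRLR

/-- The facts. -/
def caseCFullFactsLRRRL : Tab Fct :=
(.node 122 (.node 61 (.node 30 (.node 15 (.node 7 (.node 3 (.node 1 (.leaf ⟨863, 17043521, (some false), 862, 23685197⟩) (.node 1 (.leaf ⟨144, 28188753, none, 863, 17262661⟩) (.leaf ⟨863, 17043521, none, 144, 5068877⟩)))
(.node 2 (.node 1 (.leaf ⟨144, 32125001, (some false), 862, 27883591⟩) (.leaf ⟨144, 10971209, (some false), 862, 32067655⟩)) (.node 1 (.leaf ⟨144, 13510735, (some false), 862, 27856979⟩) (.leaf ⟨144, 27529303, (some false), 862, 15278147⟩))))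
(.node 4 (.node 2 (.node 1 (.leaf ⟨145, 4808797, (some false), 864, 17043521⟩) (.leaf ⟨864, 11495495, (some true), 865, 17043521⟩)) (.node 1 (.leaf ⟨865, 17043521, (some true), 864, 11495495⟩) (.leaf ⟨865, 13510735, (some false), 866, 17043521⟩)))
(.node 2 (.node 1 (.leaf ⟨866, 17043521, (some false), 865, 29761631⟩) (.leaf ⟨144, 8536145, none, 866, 17576019⟩)) (.node 1 (.leaf ⟨866, 17043521, none, 144, 26099779⟩) (.leaf ⟨865, 11366473, none, 851, 17246295⟩)))))
(.node 7 (.node 3 (.node 1 (.leaf ⟨865, 17043521, none, 851, 26165319⟩) (.node 1 (.leaf ⟨851, 11495495, (some true), 864, 25837663⟩) (.leaf ⟨857, 27529303, (some false), 867, 17043521⟩)))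
(.node 2 (.node 1 (.leaf ⟨145, 19085399, (some false), 868, 17043521⟩) (.leaf ⟨868, 19085399, (some false), 869, 17043521⟩)) (.node 1 (.leaf ⟨869, 17059919, (some true), 870, 17043521⟩) (.leaf ⟨870, 17043521, (some true), 869, 17059919⟩))))
(.node 4 (.node 2 (.node 1 (.leaf ⟨870, 19085399, (some false), 871, 17043521⟩) (.leaf ⟨871, 17043521, (some false), 870, 19560517⟩)) (.node 1 (.leaf ⟨144, 10641503, none, 871, 19277913⟩) (.leaf ⟨871, 17043521, none, 144, 4673613⟩)))
(.node 2 (.node 1 (.leaf ⟨870, 19355737, none, 862, 32067655⟩) (.leaf ⟨870, 17043521, none, 862, 27793499⟩)) (.node 1 (.leaf ⟨869, 27809871, none, 861, 25385043⟩) (.leaf ⟨869, 17043521, none, 861, 19271773⟩))))))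
(.node 15 (.node 7 (.node 3 (.node 1 (.leaf ⟨867, 19085399, (some false), 872, 17043521⟩) (.node 1 (.leaf ⟨872, 17043521, (some false), 867, 19560517⟩) (.leaf ⟨872, 25385043, (some true), 873, 17043521⟩)))
(.node 2 (.node 1 (.leaf ⟨873, 17043521, (some true), 872, 25385043⟩) (.leaf ⟨873, 29904967, (some false), 874, 17043521⟩)) (.node 1 (.leaf ⟨874, 17043521, (some false), 873, 13113429⟩) (.leaf ⟨144, 15607895, none, 874, 19159111⟩))))
(.node 4 (.node 2 (.node 1 (.leaf ⟨874, 17043521, none, 144, 31926355⟩) (.leaf ⟨873, 31987805, none, 862, 27856979⟩)) (.node 1 (.leaf ⟨873, 17043521, none, 862, 23402585⟩) (.leaf ⟨862, 4544593, (some true), 872, 25383003⟩)))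
(.node 2 (.node 1 (.leaf ⟨854, 4808797, (some false), 875, 17043521⟩) (.leaf ⟨875, 17043521, (some false), 854, 23685197⟩)) (.node 1 (.leaf ⟨875, 17043521, (some true), 876, 17043521⟩) (.leaf ⟨876, 17043521, (some true), 875, 17043521⟩)))))
(.node 8 (.node 4 (.node 2 (.node 1 (.leaf ⟨876, 19085399, (some true), 877, 17043521⟩) (.leaf ⟨877, 17043521, (some true), 876, 19085399⟩)) (.node 1 (.leaf ⟨877, 25385043, (some true), 878, 17043521⟩) (.leaf ⟨878, 17043521, (some true), 877, 25385043⟩)))
(.node 2 (.node 1 (.leaf ⟨144, 13242443, none, 878, 23685191⟩) (.leaf ⟨878, 17043521, none, 144, 21586005⟩)) (.node 1 (.leaf ⟨144, 4808797, (some true), 877, 25587779⟩) (.leaf ⟨861, 11495495, (some true), 879, 17043521⟩))))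
(.node 4 (.node 2 (.node 1 (.leaf ⟨879, 13310023, (some true), 880, 17043521⟩) (.leaf ⟨880, 17043521, (some true), 879, 13310023⟩)) (.node 1 (.leaf ⟨880, 31801425, (some true), 881, 17043521⟩) (.leaf ⟨881, 17043521, (some true), 880, 31801425⟩)))
(.node 2 (.node 1 (.leaf ⟨144, 25497671, none, 881, 21192769⟩) (.leaf ⟨881, 17043521, none, 144, 5122121⟩)) (.node 1 (.leaf ⟨880, 4989003, none, 857, 19167305⟩) (.leaf ⟨880, 17043521, none, 857, 14837827⟩)))))))
(.node 30 (.node 15 (.node 7 (.node 3 (.node 1 (.leaf ⟨857, 32131155, (some true), 879, 5197917⟩) (.node 1 (.leaf ⟨145, 10971209, (some false), 882, 17043521⟩) (.leaf ⟨882, 19085399, (some false), 883, 17043521⟩)))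
(.node 2 (.node 1 (.leaf ⟨883, 19085399, (some false), 884, 17043521⟩) (.leaf ⟨884, 17043521, (some false), 883, 19560517⟩)) (.node 1 (.leaf ⟨145, 15038543, none, 884, 19683423⟩) (.leaf ⟨884, 17043521, none, 145, 13400147⟩))))
(.node 4 (.node 2 (.node 1 (.leaf ⟨145, 32125001, (some false), 883, 19877955⟩) (.leaf ⟨145, 7292999, (some false), 885, 17043521⟩)) (.node 1 (.leaf ⟨885, 19085399, (some false), 886, 17043521⟩) (.leaf ⟨886, 19085399, (some false), 887, 17043521⟩)))
(.node 2 (.node 1 (.leaf ⟨887, 17043521, (some false), 886, 19560517⟩) (.leaf ⟨145, 27740229, none, 887, 19277899⟩)) (.node 1 (.leaf ⟨887, 17043521, none, 145, 23412811⟩) (.leaf ⟨886, 19691589, none, 722, 17043521⟩)))))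
(.node 7 (.node 3 (.node 1 (.leaf ⟨886, 17043521, none, 722, 19740751⟩) (.node 1 (.leaf ⟨223, 17043521, (some true), 888, 17043521⟩) (.leaf ⟨888, 17043521, (some true), 223, 17043521⟩)))
(.node 2 (.node 1 (.leaf ⟨145, 23992407, none, 888, 17051727⟩) (.leaf ⟨888, 17043521, none, 145, 32127065⟩)) (.node 1 (.leaf ⟨223, 19216473, none, 732, 17043521⟩) (.leaf ⟨223, 19216473, none, 129, 27949131⟩))))
(.node 4 (.node 2 (.node 1 (.leaf ⟨223, 17043521, none, 129, 28268625⟩) (.leaf ⟨129, 6776923, (some false), 220, 19290195⟩)) (.node 1 (.leaf ⟨129, 32131155, (some true), 224, 17586249⟩) (.leaf ⟨129, 9056345, (some false), 233, 17643587⟩)))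
(.node 2 (.node 1 (.leaf ⟨129, 19085399, (some true), 239, 11104323⟩) (.leaf ⟨350, 19222611, none, 654, 27750489⟩)) (.node 1 (.leaf ⟨352, 17526859, none, 745, 19877955⟩) (.leaf ⟨355, 17125443, none, 759, 17043521⟩))))))
(.node 15 (.node 7 (.node 3 (.node 1 (.leaf ⟨356, 17004611, none, 744, 17043521⟩) (.node 1 (.leaf ⟨363, 25831519, none, 751, 27605063⟩) (.leaf ⟨62, 30224477, none, 691, 17043521⟩)))
(.node 2 (.node 1 (.leaf ⟨129, 13310023, (some true), 254, 9269331⟩) (.leaf ⟨220, 19339357, none, 132, 17043521⟩)) (.node 1 (.leaf ⟨129, 13310023, (some false), 375, 17576017⟩) (.leaf ⟨129, 23928925, (some false), 380, 17715281⟩))))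
(.node 4 (.node 2 (.node 1 (.leaf ⟨220, 19339357, none, 123, 26161247⟩) (.leaf ⟨220, 17043521, none, 123, 32319555⟩)) (.node 1 (.leaf ⟨123, 31801425, (some true), 39, 31725661⟩) (.leaf ⟨221, 25786449, none, 686, 17043521⟩)))
(.node 2 (.node 1 (.leaf ⟨223, 17051721, none, 680, 17526853⟩) (.leaf ⟨123, 31801425, (some false), 226, 17657947⟩)) (.node 1 (.leaf ⟨129, 28014681, none, 680, 17526853⟩) (.leaf ⟨680, 17043521, none, 129, 29628485⟩)))))
(.node 8 (.node 4 (.node 2 (.node 1 (.leaf ⟨691, 9263191, none, 753, 17043521⟩) (.leaf ⟨753, 17043521, none, 691, 9263191⟩)) (.node 1 (.leaf ⟨123, 21571679, none, 686, 17043521⟩) (.leaf ⟨686, 17043521, none, 123, 21571679⟩)))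
(.node 2 (.node 1 (.leaf ⟨691, 17043521, none, 62, 30224477⟩) (.leaf ⟨751, 17043521, none, 363, 19538003⟩)) (.node 1 (.leaf ⟨363, 10971209, (some true), 750, 27791453⟩) (.leaf ⟨363, 7292999, (some false), 763, 17586265⟩))))
(.node 4 (.node 2 (.node 1 (.leaf ⟨744, 17043521, none, 356, 17004611⟩) (.leaf ⟨129, 26157133, none, 759, 17043521⟩)) (.node 1 (.leaf ⟨759, 17043521, none, 129, 26157133⟩) (.leaf ⟨745, 17043521, none, 352, 19081295⟩)))
(.node 2 (.node 1 (.leaf ⟨352, 19085399, (some false), 744, 19095629⟩) (.leaf ⟨352, 17059919, (some true), 660, 19232833⟩)) (.node 1 (.leaf ⟨129, 13373515, none, 654, 27750489⟩) (.leaf ⟨654, 17043521, none, 129, 11098189⟩))))))))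
(.node 61 (.node 30 (.node 15 (.node 7 (.node 3 (.node 1 (.leaf ⟨628, 4733005, none, 745, 19877955⟩) (.node 1 (.leaf ⟨628, 4733005, none, 352, 17526859⟩) (.leaf ⟨628, 17043521, none, 352, 9254995⟩)))
(.node 2 (.node 1 (.leaf ⟨352, 17043521, (some true), 113, 7043143⟩) (.leaf ⟨629, 9269313, none, 660, 19232833⟩)) (.node 1 (.leaf ⟨635, 17174607, none, 744, 19095629⟩) (.leaf ⟨352, 27529303, (some false), 641, 16984135⟩))))
(.node 4 (.node 2 (.node 1 (.leaf ⟨635, 17174607, none, 356, 19740751⟩) (.leaf ⟨635, 17043521, none, 356, 19867713⟩)) (.node 1 (.leaf ⟨636, 27621441, none, 363, 17043521⟩) (.leaf ⟨625, 17061979, none, 363, 17043521⟩)))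
(.node 2 (.node 1 (.leaf ⟨625, 17043521, none, 363, 17061979⟩) (.leaf ⟨363, 17043521, (some false), 113, 21979207⟩)) (.node 1 (.leaf ⟨363, 19085399, (some false), 626, 17567815⟩) (.leaf ⟨352, 19740757, none, 660, 19232833⟩)))))
(.node 7 (.node 3 (.node 1 (.leaf ⟨660, 17043521, none, 352, 17651789⟩) (.node 1 (.leaf ⟨661, 17584207, none, 744, 19095629⟩) (.leaf ⟨120, 25778261, none, 356, 19740751⟩)))
(.node 2 (.node 1 (.leaf ⟨356, 17043521, none, 120, 11024457⟩) (.leaf ⟨223, 13375561, none, 659, 17043521⟩)) (.node 1 (.leaf ⟨363, 27611225, none, 188, 17117253⟩) (.leaf ⟨363, 17043521, none, 188, 25450575⟩))))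
(.node 4 (.node 2 (.node 1 (.leaf ⟨188, 32131155, (some true), 364, 17061977⟩) (.leaf ⟨750, 19748941, none, 738, 31662171⟩)) (.node 1 (.leaf ⟨188, 9056345, (some false), 763, 17524805⟩) (.leaf ⟨113, 14962769, none, 674, 17043521⟩)))
(.node 2 (.node 1 (.leaf ⟨188, 27529303, (some false), 626, 17444941⟩) (.leaf ⟨674, 17043521, none, 113, 14962769⟩)) (.node 1 (.leaf ⟨750, 17043521, none, 738, 30105669⟩) (.leaf ⟨738, 31801425, (some false), 767, 17444959⟩))))))
(.node 15 (.node 7 (.node 3 (.node 1 (.leaf ⟨129, 23601221, none, 659, 17043521⟩) (.node 1 (.leaf ⟨659, 17043521, none, 129, 23601221⟩) (.leaf ⟨660, 17721411, none, 750, 17043521⟩)))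
(.node 2 (.node 1 (.leaf ⟨352, 17244229, none, 738, 30105669⟩) (.leaf ⟨738, 17043521, none, 352, 31877185⟩)) (.node 1 (.leaf ⟨352, 32131155, (some true), 737, 16984131⟩) (.leaf ⟨352, 10971209, (some false), 767, 17197127⟩))))
(.node 4 (.node 2 (.node 1 (.leaf ⟨145, 4808797, (some true), 889, 17043521⟩) (.leaf ⟨889, 17043521, (some true), 145, 4808797⟩)) (.node 1 (.leaf ⟨889, 17059919, (some true), 890, 17043521⟩) (.leaf ⟨890, 17043521, (some true), 889, 17059919⟩)))
(.node 2 (.node 1 (.leaf ⟨890, 17059919, (some true), 891, 17043521⟩) (.leaf ⟨891, 17043521, (some true), 890, 17059919⟩)) (.node 1 (.leaf ⟨145, 6578271, none, 891, 11341909⟩) (.leaf ⟨891, 17043521, none, 145, 6891601⟩)))))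
(.node 8 (.node 4 (.node 2 (.node 1 (.leaf ⟨145, 31801425, (some true), 890, 27605063⟩) (.leaf ⟨145, 11495495, (some true), 892, 17043521⟩)) (.node 1 (.leaf ⟨892, 17043521, (some true), 145, 11495495⟩) (.leaf ⟨892, 29904967, (some false), 893, 17043521⟩)))
(.node 2 (.node 1 (.leaf ⟨893, 17043521, (some false), 892, 13113429⟩) (.leaf ⟨188, 10971209, (some false), 894, 17043521⟩)) (.node 1 (.leaf ⟨894, 19085399, (some true), 895, 17043521⟩) (.leaf ⟨895, 19085399, (some false), 896, 17043521⟩))))
(.node 4 (.node 2 (.node 1 (.leaf ⟨896, 17043521, (some false), 895, 19560517⟩) (.leaf ⟨145, 30107723, none, 896, 17506369⟩)) (.node 1 (.leaf ⟨896, 17043521, none, 145, 14964807⟩) (.leaf ⟨145, 9056345, (some false), 895, 19206223⟩)))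
(.node 2 (.node 1 (.leaf ⟨145, 12744785, none, 252, 17594461⟩) (.leaf ⟨252, 17043521, none, 145, 23531607⟩)) (.node 1 (.leaf ⟨71, 9050201, none, 883, 19877955⟩) (.leaf ⟨367, 17766471, none, 882, 17043521⟩)))))))
(.node 30 (.node 15 (.node 7 (.node 3 (.node 1 (.leaf ⟨145, 30093389, none, 882, 17043521⟩) (.node 1 (.leaf ⟨882, 17043521, none, 145, 30093389⟩) (.leaf ⟨883, 17043521, none, 71, 14831711⟩)))
(.node 2 (.node 1 (.leaf ⟨145, 29904967, (some true), 897, 17043521⟩) (.leaf ⟨889, 17043521, (some false), 899, 17043521⟩)) (.node 1 (.leaf ⟨897, 17043521, (some false), 900, 17043521⟩) (.leaf ⟨900, 19085399, (some false), 901, 17043521⟩))))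
(.node 4 (.node 2 (.node 1 (.leaf ⟨901, 17043521, (some false), 900, 19560517⟩) (.leaf ⟨145, 17059919, (some true), 904, 17043521⟩)) (.node 1 (.leaf ⟨904, 13510735, (some false), 905, 17043521⟩) (.leaf ⟨905, 11495495, (some true), 906, 17043521⟩)))
(.node 2 (.node 1 (.leaf ⟨906, 17043521, (some true), 905, 11495495⟩) (.leaf ⟨906, 32131155, (some true), 907, 17043521⟩)) (.node 1 (.leaf ⟨907, 17043521, (some true), 906, 32131155⟩) (.leaf ⟨907, 32131155, (some true), 908, 17043521⟩)))))
(.node 7 (.node 3 (.node 1 (.leaf ⟨908, 17043521, (some true), 907, 32131155⟩) (.node 1 (.leaf ⟨145, 25786445, none, 908, 4925521⟩) (.leaf ⟨908, 17043521, none, 145, 30160973⟩)))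
(.node 2 (.node 1 (.leaf ⟨907, 15689819, none, 897, 17043521⟩) (.leaf ⟨907, 17043521, none, 897, 26161221⟩)) (.node 1 (.leaf ⟨897, 19085399, (some true), 906, 6973513⟩) (.leaf ⟨734, 7292999, (some false), 909, 17043521⟩))))
(.node 4 (.node 2 (.node 1 (.leaf ⟨909, 10971209, (some true), 910, 17043521⟩) (.leaf ⟨910, 17043521, (some true), 909, 10971209⟩)) (.node 1 (.leaf ⟨910, 32131155, (some true), 911, 17043521⟩) (.leaf ⟨911, 17043521, (some true), 910, 32131155⟩)))
(.node 2 (.node 1 (.leaf ⟨911, 32131155, (some true), 912, 17043521⟩) (.leaf ⟨912, 17043521, (some true), 911, 32131155⟩)) (.node 1 (.leaf ⟨145, 17463381, none, 912, 4941891⟩) (.leaf ⟨912, 17043521, none, 145, 27611209⟩))))))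
(.node 15 (.node 7 (.node 3 (.node 1 (.leaf ⟨911, 15605843, none, 144, 11495495⟩) (.node 1 (.leaf ⟨911, 17043521, none, 144, 6647885⟩) (.leaf ⟨910, 7282771, none, 857, 17043521⟩)))
(.node 2 (.node 1 (.leaf ⟨910, 17043521, none, 857, 29509727⟩) (.leaf ⟨857, 13510735, (some true), 909, 17442899⟩)) (.node 1 (.leaf ⟨153, 13310023, (some true), 916, 17043521⟩) (.leaf ⟨153, 32125001, (some true), 916, 11284547⟩))))
(.node 4 (.node 2 (.node 1 (.leaf ⟨153, 13510735, (some true), 916, 11016275⟩) (.leaf ⟨153, 32131155, (some true), 916, 9181275⟩)) (.node 1 (.leaf ⟨153, 4808797, (some true), 916, 25712715⟩) (.leaf ⟨153, 31801425, (some true), 916, 9269331⟩)))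
(.node 2 (.node 1 (.leaf ⟨153, 4544593, (some true), 916, 9244763⟩) (.leaf ⟨153, 29904967, (some true), 916, 9009243⟩)) (.node 1 (.leaf ⟨916, 17043521, (some false), 932, 17043521⟩) (.leaf ⟨932, 19085399, (some false), 933, 17043521⟩)))))
(.node 8 (.node 4 (.node 2 (.node 1 (.leaf ⟨933, 19085399, (some true), 934, 17043521⟩) (.leaf ⟨934, 17043521, (some false), 935, 17043521⟩)) (.node 1 (.leaf ⟨153, 12740673, none, 935, 19624001⟩) (.leaf ⟨935, 17043521, none, 153, 23885889⟩)))
(.node 2 (.node 1 (.leaf ⟨330, 32125001, (some false), 940, 17043521⟩) (.leaf ⟨940, 17070163, none, 940, 17043521⟩)) (.node 1 (.leaf ⟨940, 17043545, none, 940, 17043521⟩) (.leaf ⟨940, 17043521, none, 940, 17043545⟩))))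
(.node 4 (.node 2 (.node 1 (.leaf ⟨940, 17043521, none, 940, 17070163⟩) (.leaf ⟨940, 10971209, (some true), 941, 17043521⟩)) (.node 1 (.leaf ⟨940, 11495495, (some true), 941, 17051729⟩) (.leaf ⟨940, 19085399, (some true), 941, 25516105⟩)))
(.node 2 (.node 1 (.leaf ⟨940, 25385043, (some true), 941, 19673169⟩) (.leaf ⟨941, 13310023, (some true), 942, 17043521⟩)) (.node 1 (.leaf ⟨942, 31801425, (some true), 943, 17043521⟩) (.leaf ⟨943, 17043521, (some true), 942, 31801425⟩)))))))))

/-- The facts. -/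
def caseCFullFactsLRRRR : Tab Fct :=
(.node 122 (.node 61 (.node 30 (.node 15 (.node 7 (.node 3 (.node 1 (.leaf ⟨153, 27471949, none, 943, 21176385⟩) (.node 1 (.leaf ⟨943, 17043521, none, 153, 29636687⟩) (.leaf ⟨942, 23355459, none, 916, 9009243⟩)))
(.node 2 (.node 1 (.leaf ⟨942, 17043521, none, 916, 8872005⟩) (.leaf ⟨162, 31801425, (some true), 950, 17043521⟩)) (.node 1 (.leaf ⟨950, 17043521, (some true), 162, 31801425⟩) (.leaf ⟨162, 25385043, (some true), 950, 25784395⟩))))
(.node 4 (.node 2 (.node 1 (.leaf ⟨162, 29904967, (some true), 950, 9189459⟩) (.leaf ⟨162, 11495495, (some true), 950, 8919131⟩)) (.node 1 (.leaf ⟨162, 4544593, (some true), 950, 11030595⟩) (.leaf ⟨162, 10971209, (some true), 950, 11040859⟩)))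
(.node 2 (.node 1 (.leaf ⟨162, 4808797, (some true), 950, 9189467⟩) (.leaf ⟨162, 19085399, (some true), 950, 9195609⟩)) (.node 1 (.leaf ⟨950, 4808797, (some false), 953, 17043521⟩) (.leaf ⟨953, 11495495, (some true), 954, 17043521⟩)))))
(.node 7 (.node 3 (.node 1 (.leaf ⟨954, 17043521, (some true), 953, 11495495⟩) (.node 1 (.leaf ⟨954, 13510735, (some false), 955, 17043521⟩) (.leaf ⟨955, 17043521, (some false), 954, 29761631⟩)))
(.node 2 (.node 1 (.leaf ⟨162, 10704967, none, 955, 17578067⟩) (.leaf ⟨955, 17043521, none, 162, 28192847⟩)) (.node 1 (.leaf ⟨162, 13310023, (some false), 954, 9181275⟩) (.leaf ⟨162, 23928925, (some false), 954, 29773891⟩))))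
(.node 4 (.node 2 (.node 1 (.leaf ⟨162, 32125001, (some false), 954, 9197647⟩) (.leaf ⟨162, 10971209, (some false), 954, 11352157⟩)) (.node 1 (.leaf ⟨954, 31938649, none, 954, 29773891⟩) (.leaf ⟨954, 21129285, none, 954, 9181275⟩)))
(.node 2 (.node 1 (.leaf ⟨954, 17043521, none, 954, 31664205⟩) (.leaf ⟨954, 17043521, none, 954, 19208271⟩)) (.node 1 (.leaf ⟨954, 17059919, (some true), 953, 10641479⟩) (.leaf ⟨954, 32131155, (some true), 953, 25643101⟩))))))
(.node 15 (.node 7 (.node 3 (.node 1 (.leaf ⟨950, 13510735, (some false), 956, 17043521⟩) (.node 1 (.leaf ⟨956, 17043521, (some false), 950, 29761631⟩) (.leaf ⟨956, 17043521, (some true), 957, 17043521⟩)))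
(.node 2 (.node 1 (.leaf ⟨957, 17043521, (some true), 956, 17043521⟩) (.leaf ⟨957, 17043521, (some false), 958, 17043521⟩)) (.node 1 (.leaf ⟨958, 17043521, (some false), 957, 17127489⟩) (.leaf ⟨162, 21510215, none, 958, 17004609⟩))))
(.node 4 (.node 2 (.node 1 (.leaf ⟨958, 17043521, none, 162, 27807817⟩) (.leaf ⟨162, 29904967, (some false), 957, 17698911⟩)) (.node 1 (.leaf ⟨162, 17043521, (some false), 957, 16918605⟩) (.leaf ⟨162, 4808797, (some false), 957, 17576027⟩)))
(.node 2 (.node 1 (.leaf ⟨162, 19085399, (some false), 957, 17641557⟩) (.leaf ⟨957, 17649729, none, 957, 16918605⟩)) (.node 1 (.leaf ⟨957, 17043521, none, 957, 17457231⟩) (.leaf ⟨957, 11495495, (some true), 956, 25514057⟩)))))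
(.node 8 (.node 4 (.node 2 (.node 1 (.leaf ⟨950, 27529303, (some false), 959, 17043521⟩) (.leaf ⟨959, 17043521, (some false), 950, 25516101⟩)) (.node 1 (.leaf ⟨323, 19085399, (some false), 964, 17043521⟩) (.leaf ⟨964, 17059919, (some true), 965, 17043521⟩)))
(.node 2 (.node 1 (.leaf ⟨965, 19085399, (some false), 966, 17043521⟩) (.leaf ⟨966, 17043521, (some false), 965, 19560517⟩)) (.node 1 (.leaf ⟨162, 17061955, none, 966, 19884121⟩) (.leaf ⟨966, 17043521, none, 162, 19558469⟩))))
(.node 4 (.node 2 (.node 1 (.leaf ⟨965, 19101783, none, 957, 17641557⟩) (.leaf ⟨965, 17043521, none, 957, 19353667⟩)) (.node 1 (.leaf ⟨959, 10971209, (some true), 970, 17043521⟩) (.leaf ⟨970, 17043521, (some true), 959, 10971209⟩)))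
(.node 2 (.node 1 (.leaf ⟨970, 32131155, (some true), 971, 17043521⟩) (.leaf ⟨971, 17043521, (some true), 970, 32131155⟩)) (.node 1 (.leaf ⟨971, 32131155, (some true), 972, 17043521⟩) (.leaf ⟨972, 17043521, (some true), 971, 32131155⟩)))))))
(.node 30 (.node 15 (.node 7 (.node 3 (.node 1 (.leaf ⟨162, 23687239, none, 972, 6973507⟩) (.node 1 (.leaf ⟨972, 17043521, none, 162, 11292755⟩) (.leaf ⟨971, 5187651, none, 28, 31801425⟩)))
(.node 2 (.node 1 (.leaf ⟨971, 17043521, none, 28, 8548447⟩) (.leaf ⟨970, 7219273, none, 120, 9060437⟩)) (.node 1 (.leaf ⟨970, 17043521, none, 120, 6778953⟩) (.leaf ⟨959, 16998481, none, 664, 17043521⟩))))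
(.node 4 (.node 2 (.node 1 (.leaf ⟨959, 17043521, none, 664, 17442897⟩) (.leaf ⟨950, 11284559, none, 665, 17043521⟩)) (.node 1 (.leaf ⟨950, 17043521, none, 665, 27875399⟩) (.leaf ⟨665, 17059919, (some true), 162, 23683155⟩)))
(.node 2 (.node 1 (.leaf ⟨665, 27529303, (some false), 953, 17528921⟩) (.leaf ⟨665, 13510735, (some false), 953, 17457233⟩)) (.node 1 (.leaf ⟨188, 4808797, (some false), 1014, 17043521⟩) (.leaf ⟨1014, 17043521, (some false), 188, 23685197⟩)))))
(.node 7 (.node 3 (.node 1 (.leaf ⟨1014, 19085399, (some false), 1015, 17043521⟩) (.node 1 (.leaf ⟨1015, 17043521, (some false), 1014, 19560517⟩) (.leaf ⟨1015, 19085399, (some false), 1016, 17043521⟩)))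
(.node 2 (.node 1 (.leaf ⟨1016, 17043521, (some false), 1015, 19560517⟩) (.leaf ⟨188, 6889543, none, 1016, 19353665⟩)) (.node 1 (.leaf ⟨1016, 17043521, none, 188, 21524565⟩) (.leaf ⟨188, 29904967, (some false), 1015, 19691589⟩))))
(.node 4 (.node 2 (.node 1 (.leaf ⟨726, 19085399, (some false), 1017, 17043521⟩) (.leaf ⟨1017, 17043521, (some false), 726, 19560517⟩)) (.node 1 (.leaf ⟨1017, 19085399, (some false), 1018, 17043521⟩) (.leaf ⟨1018, 17043521, (some false), 1017, 19560517⟩)))
(.node 2 (.node 1 (.leaf ⟨188, 27476055, none, 1018, 19691603⟩) (.leaf ⟨1018, 17043521, none, 188, 10897487⟩)) (.node 1 (.leaf ⟨188, 7292999, (some false), 1017, 19877955⟩) (.leaf ⟨188, 4808797, (some true), 1019, 17043521⟩))))))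
(.node 15 (.node 7 (.node 3 (.node 1 (.leaf ⟨1019, 17059919, (some true), 1020, 17043521⟩) (.node 1 (.leaf ⟨1020, 17043521, (some true), 1019, 17059919⟩) (.leaf ⟨1020, 17059919, (some true), 1021, 17043521⟩)))
(.node 2 (.node 1 (.leaf ⟨1021, 17043521, (some true), 1020, 17059919⟩) (.leaf ⟨188, 14958671, none, 1021, 11087941⟩)) (.node 1 (.leaf ⟨1021, 17043521, none, 188, 6891601⟩) (.leaf ⟨188, 31801425, (some true), 1020, 27605063⟩))))
(.node 4 (.node 2 (.node 1 (.leaf ⟨1020, 19085399, (some false), 1022, 17043521⟩) (.leaf ⟨1022, 17043521, (some false), 1020, 19560517⟩)) (.node 1 (.leaf ⟨1020, 27529303, (some false), 1023, 17043521⟩) (.leaf ⟨1023, 25385043, (some true), 1024, 17043521⟩)))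
(.node 2 (.node 1 (.leaf ⟨1024, 17043521, (some true), 1023, 25385043⟩) (.leaf ⟨1024, 4808797, (some false), 1025, 17043521⟩)) (.node 1 (.leaf ⟨1025, 17043521, (some false), 1024, 23685197⟩) (.leaf ⟨188, 30230609, none, 1025, 17197127⟩)))))
(.node 8 (.node 4 (.node 2 (.node 1 (.leaf ⟨1025, 17043521, none, 188, 25315405⟩) (.leaf ⟨1024, 27867215, none, 1017, 19877955⟩)) (.node 1 (.leaf ⟨1024, 17043521, none, 1017, 8867911⟩) (.leaf ⟨1017, 19085399, (some true), 1023, 17176649⟩)))
(.node 2 (.node 1 (.leaf ⟨845, 17043521, (some false), 1026, 17043521⟩) (.leaf ⟨1026, 17043521, (some false), 845, 17127489⟩)) (.node 1 (.leaf ⟨1026, 10971209, (some true), 1027, 17043521⟩) (.leaf ⟨1027, 17043521, (some true), 1026, 10971209⟩))))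
(.node 4 (.node 2 (.node 1 (.leaf ⟨1027, 13510735, (some false), 1028, 17043521⟩) (.leaf ⟨1028, 17043521, (some false), 1027, 29761631⟩)) (.node 1 (.leaf ⟨188, 5060681, none, 1028, 17657937⟩) (.leaf ⟨1028, 17043521, none, 188, 14964811⟩)))
(.node 2 (.node 1 (.leaf ⟨1027, 21114957, none, 763, 17524805⟩) (.leaf ⟨1027, 17043521, none, 763, 25778253⟩)) (.node 1 (.leaf ⟨763, 17059919, (some true), 1026, 17702979⟩) (.leaf ⟨188, 25385043, (some true), 1029, 17043521⟩))))))))
(.node 61 (.node 30 (.node 15 (.node 7 (.node 3 (.node 1 (.leaf ⟨1029, 17043521, (some false), 1030, 17043521⟩) (.node 1 (.leaf ⟨1030, 17043521, (some false), 1029, 17127489⟩) (.leaf ⟨188, 29904967, (some true), 1033, 17043521⟩)))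
(.node 2 (.node 1 (.leaf ⟨1033, 17043521, (some true), 188, 29904967⟩) (.leaf ⟨1033, 4808797, (some false), 1034, 17043521⟩)) (.node 1 (.leaf ⟨1034, 17043521, (some false), 1033, 23685197⟩) (.leaf ⟨1034, 19085399, (some false), 1035, 17043521⟩))))
(.node 4 (.node 2 (.node 1 (.leaf ⟨1035, 17043521, (some false), 1034, 19560517⟩) (.leaf ⟨1035, 17043521, (some true), 1036, 17043521⟩)) (.node 1 (.leaf ⟨1036, 17043521, (some true), 1035, 17043521⟩) (.leaf ⟨1036, 19085399, (some false), 1037, 17043521⟩)))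
(.node 2 (.node 1 (.leaf ⟨1037, 17043521, (some false), 1036, 19560517⟩) (.leaf ⟨188, 23885895, none, 1037, 19030089⟩)) (.node 1 (.leaf ⟨1037, 17043521, none, 188, 25311325⟩) (.leaf ⟨1036, 19746905, none, 836, 17043521⟩)))))
(.node 7 (.node 3 (.node 1 (.leaf ⟨1036, 17043521, none, 836, 19683403⟩) (.node 1 (.leaf ⟨836, 17043521, (some true), 1035, 19681353⟩) (.leaf ⟨1029, 29904967, (some false), 1038, 17043521⟩)))
(.node 2 (.node 1 (.leaf ⟨1038, 17043521, (some false), 1029, 13113429⟩) (.leaf ⟨1038, 19085399, (some false), 1039, 17043521⟩)) (.node 1 (.leaf ⟨1039, 17043521, (some false), 1038, 19560517⟩) (.leaf ⟨1039, 11495495, (some true), 1040, 17043521⟩))))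
(.node 4 (.node 2 (.node 1 (.leaf ⟨1040, 17043521, (some true), 1039, 11495495⟩) (.leaf ⟨1040, 27529303, (some false), 1041, 17043521⟩)) (.node 1 (.leaf ⟨1041, 17043521, (some false), 1040, 25516101⟩) (.leaf ⟨188, 19353673, none, 1041, 19019845⟩)))
(.node 2 (.node 1 (.leaf ⟨1041, 17043521, none, 188, 16934983⟩) (.leaf ⟨1040, 25507923, none, 173, 4991053⟩)) (.node 1 (.leaf ⟨1040, 25507923, none, 71, 11292763⟩) (.leaf ⟨1040, 17043521, none, 71, 8935499⟩))))))
(.node 15 (.node 7 (.node 3 (.node 1 (.leaf ⟨1039, 10633287, none, 77, 17043521⟩) (.node 1 (.leaf ⟨1039, 10633287, none, 71, 19157065⟩) (.leaf ⟨1039, 17043521, none, 71, 6893657⟩)))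
(.node 2 (.node 1 (.leaf ⟨1038, 19015765, none, 188, 17657945⟩) (.leaf ⟨1038, 17043521, none, 188, 19624015⟩)) (.node 1 (.leaf ⟨1029, 29907033, none, 666, 17043521⟩) (.leaf ⟨1029, 29907033, none, 188, 19667015⟩))))
(.node 4 (.node 2 (.node 1 (.leaf ⟨1029, 17043521, none, 188, 11481171⟩) (.leaf ⟨188, 23928925, (some false), 1030, 17719387⟩)) (.node 1 (.leaf ⟨845, 32125001, (some false), 1042, 17043521⟩) (.leaf ⟨1042, 19085399, (some true), 1043, 17043521⟩)))
(.node 2 (.node 1 (.leaf ⟨1043, 17043521, (some true), 1042, 19085399⟩) (.leaf ⟨1043, 10971209, (some true), 1044, 17043521⟩)) (.node 1 (.leaf ⟨1044, 17043521, (some true), 1043, 10971209⟩) (.leaf ⟨1044, 32131155, (some true), 1045, 17043521⟩)))))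
(.node 8 (.node 4 (.node 2 (.node 1 (.leaf ⟨1045, 17043521, (some true), 1044, 32131155⟩) (.leaf ⟨188, 13178953, none, 1045, 4862023⟩)) (.node 1 (.leaf ⟨1045, 17043521, none, 188, 5064775⟩) (.leaf ⟨1044, 4859971, none, 1019, 17043521⟩)))
(.node 2 (.node 1 (.leaf ⟨1044, 17043521, none, 1019, 25378883⟩) (.leaf ⟨1019, 10971209, (some true), 1043, 25903179⟩)) (.node 1 (.leaf ⟨741, 17043521, (some true), 1046, 17043521⟩) (.leaf ⟨1046, 25385043, (some true), 1047, 17043521⟩))))
(.node 4 (.node 2 (.node 1 (.leaf ⟨1047, 17043521, (some true), 1046, 25385043⟩) (.leaf ⟨1047, 4544593, (some true), 1048, 17043521⟩)) (.node 1 (.leaf ⟨1048, 17043521, (some true), 1047, 4544593⟩) (.leaf ⟨188, 25761857, none, 1048, 21114963⟩)))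
(.node 2 (.node 1 (.leaf ⟨1048, 17043521, none, 188, 21833819⟩) (.leaf ⟨1047, 21854281, none, 1020, 27605063⟩)) (.node 1 (.leaf ⟨1047, 17043521, none, 1020, 9068633⟩) (.leaf ⟨1020, 10971209, (some true), 1046, 27482185⟩)))))))
(.node 31 (.node 15 (.node 7 (.node 3 (.node 1 (.leaf ⟨195, 31801425, (some false), 1049, 17043521⟩) (.node 1 (.leaf ⟨1049, 17043521, (some false), 195, 14958673⟩) (.leaf ⟨195, 23928925, (some false), 1049, 17508437⟩)))
(.node 2 (.node 1 (.leaf ⟨195, 6776923, (some false), 1049, 17444933⟩) (.leaf ⟨195, 10971209, (some false), 1049, 17190989⟩)) (.node 1 (.leaf ⟨195, 9056345, (some false), 1049, 17702989⟩) (.leaf ⟨195, 32125001, (some false), 1049, 17068121⟩))))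
(.node 4 (.node 2 (.node 1 (.leaf ⟨1049, 17633367, none, 1049, 17043521⟩) (.leaf ⟨1049, 17043521, none, 1049, 17633367⟩)) (.node 1 (.leaf ⟨195, 17059919, (some true), 1052, 17043521⟩) (.leaf ⟨1052, 17059919, (some true), 1053, 17043521⟩)))
(.node 2 (.node 1 (.leaf ⟨1053, 17043521, (some true), 1052, 17059919⟩) (.leaf ⟨1053, 17059919, (some true), 1054, 17043521⟩)) (.node 1 (.leaf ⟨1054, 17043521, (some true), 1053, 17059919⟩) (.leaf ⟨195, 11038813, none, 1054, 11292767⟩)))))
(.node 8 (.node 4 (.node 2 (.node 1 (.leaf ⟨1054, 17043521, none, 195, 17651779⟩) (.leaf ⟨1053, 17635405, none, 207, 19730527⟩)) (.node 1 (.leaf ⟨1053, 17043521, none, 207, 19142739⟩) (.leaf ⟨207, 17043521, (some true), 1052, 19232861⟩)))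
(.node 2 (.node 1 (.leaf ⟨195, 13510735, (some true), 1055, 17043521⟩) (.leaf ⟨195, 32125001, (some true), 1055, 25702467⟩)) (.node 1 (.leaf ⟨195, 32131155, (some true), 1055, 25696323⟩) (.leaf ⟨195, 13310023, (some true), 1055, 8919107⟩))))
(.node 4 (.node 2 (.node 1 (.leaf ⟨1055, 9179209, none, 1055, 8919107⟩) (.leaf ⟨1055, 17043521, none, 1055, 17569875⟩)) (.node 1 (.leaf ⟨203, 4808797, (some false), 1059, 17043521⟩) (.leaf ⟨203, 13510735, (some false), 1059, 17506383⟩)))
(.node 2 (.node 1 (.leaf ⟨203, 29904967, (some false), 1059, 17195091⟩) (.leaf ⟨203, 27529303, (some false), 1059, 17578065⟩)) (.node 1 (.leaf ⟨195, 29904967, (some true), 1060, 17043521⟩) (.leaf ⟨195, 4544593, (some true), 1060, 25442377⟩))))))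
(.node 15 (.node 7 (.node 3 (.node 1 (.leaf ⟨195, 31801425, (some true), 1060, 25514073⟩) (.node 1 (.leaf ⟨195, 4808797, (some true), 1060, 19755089⟩) (.leaf ⟨1060, 19214419, none, 1060, 19755089⟩)))
(.node 2 (.node 1 (.leaf ⟨1060, 17584211, none, 1060, 17043521⟩) (.leaf ⟨1060, 17043521, none, 1060, 17584211⟩)) (.node 1 (.leaf ⟨1060, 17043521, none, 1060, 17651779⟩) (.leaf ⟨1060, 17043521, (some false), 1061, 17043521⟩))))
(.node 4 (.node 2 (.node 1 (.leaf ⟨1061, 25385043, (some true), 1062, 17043521⟩) (.leaf ⟨1062, 4808797, (some false), 1063, 17043521⟩)) (.node 1 (.leaf ⟨1063, 17043521, (some false), 1062, 23685197⟩) (.leaf ⟨195, 29888591, none, 1063, 17262671⟩)))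
(.node 2 (.node 1 (.leaf ⟨1063, 17043521, none, 195, 27816001⟩) (.leaf ⟨195, 29904967, (some false), 1062, 13176909⟩)) (.node 1 (.leaf ⟨1060, 29904967, (some false), 1064, 17043521⟩) (.leaf ⟨1064, 17043521, (some false), 1060, 13113429⟩)))))
(.node 8 (.node 4 (.node 2 (.node 1 (.leaf ⟨1064, 17059919, (some true), 1065, 17043521⟩) (.leaf ⟨1065, 17043521, (some true), 1064, 17059919⟩)) (.node 1 (.leaf ⟨1065, 17043521, (some false), 1066, 17043521⟩) (.leaf ⟨1066, 17043521, (some false), 1065, 17127489⟩)))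
(.node 2 (.node 1 (.leaf ⟨195, 7090265, none, 1066, 17717313⟩) (.leaf ⟨1066, 17043521, none, 195, 21979231⟩)) (.node 1 (.leaf ⟨1065, 17633367, none, 1049, 17444933⟩) (.leaf ⟨1065, 17043521, none, 1049, 17463379⟩))))
(.node 4 (.node 2 (.node 1 (.leaf ⟨1049, 25385043, (some true), 1064, 11366485⟩) (.leaf ⟨1049, 19085399, (some true), 1064, 19667031⟩)) (.node 1 (.leaf ⟨1055, 29904967, (some false), 1068, 17043521⟩) (.leaf ⟨1055, 13510735, (some false), 1068, 17594445⟩)))
(.node 2 (.node 1 (.leaf ⟨1059, 19085399, (some false), 1069, 17043521⟩) (.leaf ⟨1069, 17059919, (some true), 1070, 17043521⟩)) (.node 1 (.leaf ⟨1070, 17043521, (some true), 1069, 17059919⟩) (.leaf ⟨1070, 19085399, (some false), 1071, 17043521⟩)))))))))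

/-- The facts. -/
def caseCFullFactsLRRR : Tab Fct := .node 244 caseCFullFactsLRRRL caseCFullFactsLRRRR

/-- The facts. -/
def caseCFullFactsLRR : Tab Fct := .node 488 caseCFullFactsLRRL caseCFullFactsLRRR

/-- The facts. -/
def caseCFullFactsLR : Tab Fct := .node 977 caseCFullFactsLRL caseCFullFactsLRR

/-- The facts. -/
def caseCFullFactsL : Tab Fct := .node 1953 caseCFullFactsLL caseCFullFactsLR

/-- The facts. -/
def caseCFullFactsRLLLL : Tab Fct :=
(.node 122 (.node 61 (.node 30 (.node 15 (.node 7 (.node 3 (.node 1 (.leaf ⟨1071, 17043521, (some false), 1070, 19560517⟩) (.node 1 (.leaf ⟨195, 10704989, none, 1071, 19032129⟩) (.leaf ⟨1071, 17043521, none, 195, 23421007⟩)))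
(.node 2 (.node 1 (.leaf ⟨1070, 19558485, none, 1049, 17508437⟩) (.leaf ⟨1070, 17043521, none, 1049, 19216449⟩)) (.node 1 (.leaf ⟨1049, 17043521, (some true), 1069, 19167319⟩) (.leaf ⟨1049, 17059919, (some true), 1069, 19732573⟩))))
(.node 4 (.node 2 (.node 1 (.leaf ⟨1061, 19085399, (some false), 1072, 17043521⟩) (.leaf ⟨1072, 19085399, (some true), 1073, 17043521⟩)) (.node 1 (.leaf ⟨1073, 17043521, (some true), 1072, 19085399⟩) (.leaf ⟨1073, 17043521, (some false), 1074, 17043521⟩)))
(.node 2 (.node 1 (.leaf ⟨1074, 17043521, (some false), 1073, 17127489⟩) (.leaf ⟨195, 4728913, none, 1074, 19861579⟩)) (.node 1 (.leaf ⟨1074, 17043521, none, 195, 4814925⟩) (.leaf ⟨195, 4808797, (some false), 1073, 17258581⟩)))))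
(.node 7 (.node 3 (.node 1 (.leaf ⟨1073, 17717331, none, 1073, 17258581⟩) (.node 1 (.leaf ⟨1073, 17651779, none, 1073, 17258581⟩) (.leaf ⟨1073, 17043521, none, 1073, 17240133⟩)))
(.node 2 (.node 1 (.leaf ⟨1073, 17043521, none, 1073, 17633365⟩) (.leaf ⟨1073, 17059919, (some true), 1072, 19353695⟩)) (.node 1 (.leaf ⟨1073, 25385043, (some true), 1072, 9320541⟩) (.leaf ⟨1068, 11495495, (some true), 1075, 17043521⟩))))
(.node 4 (.node 2 (.node 1 (.leaf ⟨1075, 17043521, (some true), 1068, 11495495⟩) (.leaf ⟨1075, 32125001, (some true), 1076, 17043521⟩)) (.node 1 (.leaf ⟨1076, 17043521, (some true), 1075, 32125001⟩) (.leaf ⟨1076, 32125001, (some true), 1077, 17043521⟩)))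
(.node 2 (.node 1 (.leaf ⟨1077, 17043521, (some true), 1076, 32125001⟩) (.leaf ⟨195, 21375049, none, 1077, 4943955⟩)) (.node 1 (.leaf ⟨1077, 17043521, none, 195, 11481175⟩) (.leaf ⟨1076, 4618331, none, 203, 19740767⟩))))))
(.node 15 (.node 7 (.node 3 (.node 1 (.leaf ⟨1076, 17043521, none, 203, 13248593⟩) (.node 1 (.leaf ⟨203, 32131155, (some true), 1075, 29513801⟩) (.leaf ⟨203, 31801425, (some true), 1075, 21461059⟩)))
(.node 2 (.node 1 (.leaf ⟨203, 13510735, (some true), 1075, 15601747⟩) (.leaf ⟨203, 4808797, (some true), 1075, 6977611⟩)) (.node 1 (.leaf ⟨1055, 4808797, (some false), 1078, 17043521⟩) (.leaf ⟨1055, 27529303, (some false), 1078, 17053761⟩))))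
(.node 4 (.node 2 (.node 1 (.leaf ⟨1078, 17059919, (some true), 1079, 17043521⟩) (.leaf ⟨1079, 11495495, (some true), 1080, 17043521⟩)) (.node 1 (.leaf ⟨1080, 17043521, (some true), 1079, 11495495⟩) (.leaf ⟨1080, 32131155, (some true), 1081, 17043521⟩)))
(.node 2 (.node 1 (.leaf ⟨1081, 17043521, (some true), 1080, 32131155⟩) (.leaf ⟨195, 31670347, none, 1081, 6955073⟩)) (.node 1 (.leaf ⟨1081, 17043521, none, 195, 15231047⟩) (.leaf ⟨1080, 24068179, none, 1060, 19755089⟩)))))
(.node 8 (.node 4 (.node 2 (.node 1 (.leaf ⟨1080, 17043521, none, 1060, 7284803⟩) (.leaf ⟨1060, 32131155, (some true), 1079, 25903173⟩)) (.node 1 (.leaf ⟨1060, 29904967, (some true), 1079, 16932959⟩) (.leaf ⟨1060, 13510735, (some true), 1079, 19619909⟩)))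
(.node 2 (.node 1 (.leaf ⟨1060, 4544593, (some true), 1079, 28264525⟩) (.leaf ⟨203, 19085399, (some false), 1085, 17043521⟩)) (.node 1 (.leaf ⟨1085, 19085399, (some false), 1086, 17043521⟩) (.leaf ⟨1086, 17043521, (some false), 1085, 19560517⟩))))
(.node 4 (.node 2 (.node 1 (.leaf ⟨200, 4792413, none, 1086, 19015773⟩) (.leaf ⟨1086, 17043521, none, 200, 8919105⟩)) (.node 1 (.leaf ⟨1085, 19079233, none, 203, 17043521⟩) (.leaf ⟨1085, 17043521, none, 203, 19015745⟩)))
(.node 2 (.node 1 (.leaf ⟨211, 19085399, (some true), 1087, 17043521⟩) (.leaf ⟨1087, 17059919, (some true), 1088, 17043521⟩)) (.node 1 (.leaf ⟨1088, 17043521, (some true), 1087, 17059919⟩) (.leaf ⟨200, 29970497, none, 1088, 19664965⟩)))))))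
(.node 30 (.node 15 (.node 7 (.node 3 (.node 1 (.leaf ⟨1088, 17043521, none, 200, 13129797⟩) (.node 1 (.leaf ⟨1087, 17633375, none, 211, 17780801⟩) (.leaf ⟨1087, 17043521, none, 211, 17190989⟩)))
(.node 2 (.node 1 (.leaf ⟨214, 4544593, (some true), 1089, 17043521⟩) (.leaf ⟨1089, 17059919, (some true), 1090, 17043521⟩)) (.node 1 (.leaf ⟨1090, 17043521, (some true), 1089, 17059919⟩) (.leaf ⟨200, 32194631, none, 1090, 27605085⟩))))
(.node 4 (.node 2 (.node 1 (.leaf ⟨1090, 17043521, none, 200, 30105681⟩) (.leaf ⟨1089, 8925263, none, 214, 21852231⟩)) (.node 1 (.leaf ⟨1089, 17043521, none, 214, 30224465⟩) (.leaf ⟨214, 29904967, (some false), 1091, 17043521⟩)))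
(.node 2 (.node 1 (.leaf ⟨203, 17043521, (some true), 1092, 17043521⟩) (.leaf ⟨1092, 17043521, (some false), 1093, 17043521⟩)) (.node 1 (.leaf ⟨1093, 17043521, (some false), 1092, 17127489⟩) (.leaf ⟨200, 9189463, none, 1093, 17715281⟩)))))
(.node 7 (.node 3 (.node 1 (.leaf ⟨1093, 17043521, none, 200, 13527127⟩) (.node 1 (.leaf ⟨1092, 17569869, none, 203, 17592389⟩) (.leaf ⟨1092, 17043521, none, 203, 17053785⟩)))
(.node 2 (.node 1 (.leaf ⟨1091, 25385043, (some true), 1094, 17043521⟩) (.leaf ⟨1094, 17043521, (some true), 1091, 25385043⟩)) (.node 1 (.leaf ⟨1094, 4808797, (some false), 1095, 17043521⟩) (.leaf ⟨1095, 17043521, (some false), 1094, 23685197⟩))))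
(.node 4 (.node 2 (.node 1 (.leaf ⟨200, 6907985, none, 1095, 17786959⟩) (.leaf ⟨1095, 17043521, none, 200, 15274057⟩)) (.node 1 (.leaf ⟨1094, 13193289, none, 203, 17461315⟩) (.leaf ⟨1094, 17043521, none, 203, 10643549⟩)))
(.node 2 (.node 1 (.leaf ⟨203, 11495495, (some true), 1091, 25385051⟩) (.leaf ⟨214, 32125001, (some false), 1096, 17043521⟩)) (.node 1 (.leaf ⟨1096, 17109063, none, 1096, 17043521⟩) (.leaf ⟨1096, 17240133, none, 1096, 17043521⟩))))))
(.node 15 (.node 7 (.node 3 (.node 1 (.leaf ⟨1096, 17043521, none, 1096, 17240133⟩) (.node 1 (.leaf ⟨1096, 17043521, none, 1096, 17109063⟩) (.leaf ⟨214, 4808797, (some false), 1098, 17043521⟩)))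
(.node 2 (.node 1 (.leaf ⟨1096, 19085399, (some false), 1099, 17043521⟩) (.leaf ⟨1099, 17043521, (some false), 1096, 19560517⟩)) (.node 1 (.leaf ⟨1099, 17068099, none, 1099, 17043521⟩) (.leaf ⟨1099, 17045595, none, 1099, 17043521⟩))))
(.node 4 (.node 2 (.node 1 (.leaf ⟨1099, 17043521, none, 1099, 17045595⟩) (.leaf ⟨1099, 17043521, none, 1099, 17068099⟩)) (.node 1 (.leaf ⟨1099, 17059919, (some true), 1100, 17043521⟩) (.leaf ⟨1100, 17043521, (some true), 1099, 17059919⟩)))
(.node 2 (.node 1 (.leaf ⟨1100, 17051723, none, 1100, 17043521⟩) (.leaf ⟨1100, 17043521, none, 1100, 17051723⟩)) (.node 1 (.leaf ⟨1100, 19085399, (some false), 1101, 17043521⟩) (.leaf ⟨1101, 17043521, (some false), 1100, 19560517⟩)))))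
(.node 8 (.node 4 (.node 2 (.node 1 (.leaf ⟨200, 10969183, none, 1101, 19015753⟩) (.leaf ⟨1101, 17043521, none, 200, 4608089⟩)) (.node 1 (.leaf ⟨200, 10971209, (some false), 1100, 19353669⟩) (.leaf ⟨200, 23928925, (some false), 1100, 19816519⟩)))
(.node 2 (.node 1 (.leaf ⟨200, 13310023, (some false), 1100, 19558475⟩) (.leaf ⟨200, 9056345, (some false), 1100, 19157081⟩)) (.node 1 (.leaf ⟨200, 6776923, (some false), 1100, 19818561⟩) (.leaf ⟨689, 10971209, (some true), 1102, 17043521⟩))))
(.node 4 (.node 2 (.node 1 (.leaf ⟨1102, 17043521, (some true), 689, 10971209⟩) (.leaf ⟨1102, 27529303, (some false), 1103, 17043521⟩)) (.node 1 (.leaf ⟨1103, 17043521, (some false), 1102, 25516101⟩) (.leaf ⟨200, 7024713, none, 1103, 19544143⟩)))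
(.node 2 (.node 1 (.leaf ⟨1103, 17043521, none, 200, 25499737⟩) (.leaf ⟨1102, 25514061, none, 203, 17780813⟩)) (.node 1 (.leaf ⟨1102, 17043521, none, 203, 27660353⟩) (.leaf ⟨203, 25385043, (some true), 689, 8863809⟩))))))))
(.node 61 (.node 30 (.node 15 (.node 7 (.node 3 (.node 1 (.leaf ⟨1098, 25385043, (some true), 1104, 17043521⟩) (.node 1 (.leaf ⟨1104, 17043521, (some true), 1098, 25385043⟩) (.leaf ⟨1104, 31801425, (some true), 1105, 17043521⟩)))
(.node 2 (.node 1 (.leaf ⟨1105, 17043521, (some true), 1104, 31801425⟩) (.leaf ⟨1105, 13310023, (some true), 1106, 17043521⟩)) (.node 1 (.leaf ⟨1106, 17043521, (some true), 1105, 13310023⟩) (.leaf ⟨200, 17506393, none, 1106, 21524549⟩))))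
(.node 4 (.node 2 (.node 1 (.leaf ⟨1106, 17043521, none, 200, 8998981⟩) (.leaf ⟨1105, 15669335, none, 201, 17043521⟩)) (.node 1 (.leaf ⟨1105, 15669335, none, 200, 17641549⟩) (.leaf ⟨1105, 17043521, none, 200, 25643087⟩)))
(.node 2 (.node 1 (.leaf ⟨1104, 21768257, none, 214, 30158943⟩) (.leaf ⟨1104, 17043521, none, 214, 23355477⟩)) (.node 1 (.leaf ⟨214, 4808797, (some true), 1098, 16937027⟩) (.leaf ⟨1069, 19085399, (some false), 1107, 17043521⟩)))))
(.node 7 (.node 3 (.node 1 (.leaf ⟨1107, 17043521, (some false), 1069, 19560517⟩) (.node 1 (.leaf ⟨203, 29823065, none, 1107, 19675227⟩) (.leaf ⟨1107, 17043521, none, 203, 21131331⟩)))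
(.node 2 (.node 1 (.leaf ⟨1069, 19140691, none, 1059, 17506383⟩) (.leaf ⟨1069, 17043521, none, 1059, 19538015⟩)) (.node 1 (.leaf ⟨1059, 10971209, (some true), 1070, 27793483⟩) (.leaf ⟨1075, 13310023, (some false), 1110, 17043521⟩))))
(.node 4 (.node 2 (.node 1 (.leaf ⟨1110, 17043521, (some false), 1075, 29511765⟩) (.leaf ⟨1075, 13510735, (some false), 1111, 17043521⟩)) (.node 1 (.leaf ⟨1111, 11495495, (some true), 1112, 17043521⟩) (.leaf ⟨1112, 17043521, (some true), 1111, 11495495⟩)))
(.node 2 (.node 1 (.leaf ⟨1112, 13510735, (some false), 1113, 17043521⟩) (.leaf ⟨1113, 17043521, (some false), 1112, 29761631⟩)) (.node 1 (.leaf ⟨203, 15607877, none, 1113, 17657939⟩) (.leaf ⟨1113, 17043521, none, 203, 23224413⟩))))))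
(.node 15 (.node 7 (.node 3 (.node 1 (.leaf ⟨1112, 21127259, none, 1059, 17578065⟩) (.node 1 (.leaf ⟨1112, 17043521, none, 1059, 25319519⟩) (.leaf ⟨1059, 19085399, (some true), 1111, 19081293⟩)))
(.node 2 (.node 1 (.leaf ⟨203, 13310023, (some true), 1114, 17043521⟩) (.leaf ⟨203, 29904967, (some true), 1114, 8982619⟩)) (.node 1 (.leaf ⟨203, 32125001, (some true), 1114, 9271379⟩) (.leaf ⟨203, 4544593, (some true), 1114, 11276363⟩))))
(.node 4 (.node 2 (.node 1 (.leaf ⟨1114, 4808797, (some false), 1115, 17043521⟩) (.leaf ⟨1115, 11495495, (some true), 1116, 17043521⟩)) (.node 1 (.leaf ⟨1116, 17043521, (some true), 1115, 11495495⟩) (.leaf ⟨1116, 13510735, (some false), 1117, 17043521⟩)))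
(.node 2 (.node 1 (.leaf ⟨1117, 17043521, (some false), 1116, 29761631⟩) (.leaf ⟨203, 6959175, none, 1117, 17649739⟩)) (.node 1 (.leaf ⟨1117, 17043521, none, 203, 23214159⟩) (.leaf ⟨1116, 11343963, none, 1059, 17578065⟩)))))
(.node 8 (.node 4 (.node 2 (.node 1 (.leaf ⟨1116, 17043521, none, 1059, 25516113⟩) (.leaf ⟨1059, 17043521, (some true), 1115, 16932957⟩)) (.node 1 (.leaf ⟨689, 10971209, (some false), 1118, 17043521⟩) (.leaf ⟨1075, 27529303, (some false), 1120, 17043521⟩)))
(.node 2 (.node 1 (.leaf ⟨1075, 23928925, (some false), 1121, 17043521⟩) (.leaf ⟨1121, 19085399, (some false), 1122, 17043521⟩)) (.node 1 (.leaf ⟨1122, 17043521, (some false), 1121, 19560517⟩) (.leaf ⟨1122, 10971209, (some true), 1123, 17043521⟩))))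
(.node 4 (.node 2 (.node 1 (.leaf ⟨1123, 17043521, (some true), 1122, 10971209⟩) (.leaf ⟨1123, 27529303, (some false), 1124, 17043521⟩)) (.node 1 (.leaf ⟨1124, 17043521, (some false), 1123, 25516101⟩) (.leaf ⟨203, 12929111, none, 1124, 19544151⟩)))
(.node 2 (.node 1 (.leaf ⟨1124, 17043521, none, 203, 7290945⟩) (.leaf ⟨203, 31801425, (some false), 1123, 29829211⟩)) (.node 1 (.leaf ⟨1064, 10971209, (some true), 1125, 17043521⟩) (.leaf ⟨1125, 17043521, (some true), 1064, 10971209⟩)))))))
(.node 30 (.node 15 (.node 7 (.node 3 (.node 1 (.leaf ⟨1125, 13510735, (some true), 1126, 17043521⟩) (.node 1 (.leaf ⟨1126, 17043521, (some true), 1125, 13510735⟩) (.leaf ⟨203, 11350093, none, 1126, 19554387⟩)))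
(.node 2 (.node 1 (.leaf ⟨1126, 17043521, none, 203, 21180509⟩) (.leaf ⟨1125, 30105693, none, 1114, 17043521⟩)) (.node 1 (.leaf ⟨1125, 17043521, none, 1114, 32329809⟩) (.leaf ⟨1114, 4544593, (some true), 1064, 27410523⟩))))
(.node 4 (.node 2 (.node 1 (.leaf ⟨1114, 17043521, (some false), 1127, 17043521⟩) (.leaf ⟨1127, 17043521, (some true), 1128, 17043521⟩)) (.node 1 (.leaf ⟨1128, 17043521, (some true), 1127, 17043521⟩) (.leaf ⟨1128, 10971209, (some true), 1129, 17043521⟩)))
(.node 2 (.node 1 (.leaf ⟨1129, 17043521, (some true), 1128, 10971209⟩) (.leaf ⟨1129, 13310023, (some true), 1130, 17043521⟩)) (.node 1 (.leaf ⟨1130, 17043521, (some true), 1129, 13310023⟩) (.leaf ⟨203, 14897225, none, 1130, 6907985⟩)))))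
(.node 7 (.node 3 (.node 1 (.leaf ⟨1130, 17043521, none, 203, 29909063⟩) (.node 1 (.leaf ⟨1129, 7286861, none, 1075, 6977611⟩) (.leaf ⟨1129, 17043521, none, 1075, 17702993⟩)))
(.node 2 (.node 1 (.leaf ⟨1075, 10971209, (some true), 1128, 16916545⟩) (.leaf ⟨210, 19085399, (some false), 1131, 17043521⟩)) (.node 1 (.leaf ⟨1131, 17043521, (some false), 210, 19560517⟩) (.leaf ⟨206, 17258563, none, 1131, 19208257⟩))))
(.node 4 (.node 2 (.node 1 (.leaf ⟨1131, 17043521, none, 206, 19355715⟩) (.leaf ⟨210, 19740751, none, 207, 17043521⟩)) (.node 1 (.leaf ⟨210, 17043521, none, 207, 19691589⟩) (.leaf ⟨207, 19085399, (some false), 39, 5191765⟩)))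
(.node 2 (.node 1 (.leaf ⟨207, 10971209, (some true), 211, 25499737⟩) (.leaf ⟨207, 11495495, (some true), 211, 25440339⟩)) (.node 1 (.leaf ⟨207, 25385043, (some true), 211, 11016281⟩) (.leaf ⟨207, 19085399, (some true), 211, 19667017⟩))))))
(.node 15 (.node 7 (.node 3 (.node 1 (.leaf ⟨206, 32131155, (some true), 1135, 17043521⟩) (.node 1 (.leaf ⟨206, 31801425, (some true), 1135, 19232857⟩) (.leaf ⟨206, 4808797, (some true), 1135, 9269329⟩)))
(.node 2 (.node 1 (.leaf ⟨206, 13510735, (some true), 1135, 27621441⟩) (.leaf ⟨1135, 8941651, none, 1135, 9269329⟩)) (.node 1 (.leaf ⟨1135, 17109073, none, 1135, 17043521⟩) (.leaf ⟨1135, 17043521, none, 1135, 17109073⟩))))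
(.node 4 (.node 2 (.node 1 (.leaf ⟨1135, 17043521, none, 1135, 17633347⟩) (.leaf ⟨206, 29904967, (some true), 1138, 17043521⟩)) (.node 1 (.leaf ⟨206, 13310023, (some true), 1138, 9007171⟩) (.leaf ⟨206, 32125001, (some true), 1138, 11350083⟩)))
(.node 2 (.node 1 (.leaf ⟨206, 4544593, (some true), 1138, 11341899⟩) (.leaf ⟨1138, 27613273, none, 1138, 11341899⟩)) (.node 1 (.leaf ⟨1138, 17043521, none, 1138, 8943707⟩) (.leaf ⟨1138, 19085399, (some false), 1141, 17043521⟩)))))
(.node 8 (.node 4 (.node 2 (.node 1 (.leaf ⟨1138, 4808797, (some false), 1141, 17569865⟩) (.leaf ⟨1135, 4808797, (some false), 1142, 17043521⟩)) (.node 1 (.leaf ⟨1135, 29904967, (some false), 1142, 17195091⟩) (.leaf ⟨1135, 27529303, (some false), 1142, 17578065⟩)))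
(.node 2 (.node 1 (.leaf ⟨214, 17043521, (some false), 1143, 17043521⟩) (.leaf ⟨214, 19085399, (some false), 1143, 17786947⟩)) (.node 1 (.leaf ⟨214, 13510735, (some false), 1143, 17782865⟩) (.leaf ⟨1143, 25385043, (some true), 1144, 17043521⟩))))
(.node 4 (.node 2 (.node 1 (.leaf ⟨1144, 17043521, (some true), 1143, 25385043⟩) (.leaf ⟨1144, 4808797, (some false), 1145, 17043521⟩)) (.node 1 (.leaf ⟨1145, 17043521, (some false), 1144, 23685197⟩) (.leaf ⟨206, 25432153, none, 1145, 17705029⟩)))
(.node 2 (.node 1 (.leaf ⟨1145, 17043521, none, 206, 23296073⟩) (.leaf ⟨206, 13510735, (some false), 1144, 9009243⟩)) (.node 1 (.leaf ⟨206, 29904967, (some false), 1144, 25761863⟩) (.leaf ⟨206, 9056345, (some false), 1144, 15296593⟩)))))))))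

/-- The facts. -/
def caseCFullFactsRLLLR : Tab Fct :=
(.node 122 (.node 61 (.node 30 (.node 15 (.node 7 (.node 3 (.node 1 (.leaf ⟨206, 13310023, (some false), 1144, 27859039⟩) (.node 1 (.leaf ⟨206, 23928925, (some false), 1144, 4812883⟩) (.leaf ⟨206, 6776923, (some false), 1144, 6910039⟩)))
(.node 2 (.node 1 (.leaf ⟨1144, 27865181, none, 1144, 9009243⟩) (.leaf ⟨1144, 17043521, none, 1144, 25440351⟩)) (.node 1 (.leaf ⟨1144, 17059919, (some true), 1143, 25311323⟩) (.leaf ⟨1141, 10971209, (some true), 1146, 17043521⟩))))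
(.node 4 (.node 2 (.node 1 (.leaf ⟨1146, 13510735, (some false), 1147, 17043521⟩) (.leaf ⟨1147, 17043521, (some false), 1146, 29761631⟩)) (.node 1 (.leaf ⟨206, 12867665, none, 1147, 17576001⟩) (.leaf ⟨1147, 17043521, none, 206, 4995153⟩)))
(.node 2 (.node 1 (.leaf ⟨1146, 27603031, none, 1144, 6910039⟩) (.leaf ⟨1146, 17043521, none, 1144, 13463617⟩)) (.node 1 (.leaf ⟨206, 11495495, (some true), 1149, 17043521⟩) (.leaf ⟨1149, 17043521, (some true), 206, 11495495⟩)))))
(.node 7 (.node 3 (.node 1 (.leaf ⟨1149, 27529303, (some false), 1150, 17043521⟩) (.node 1 (.leaf ⟨1150, 17043521, (some false), 1149, 25516101⟩) (.leaf ⟨1150, 19085399, (some false), 1155, 17043521⟩)))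
(.node 2 (.node 1 (.leaf ⟨1155, 17043521, (some false), 1150, 19560517⟩) (.leaf ⟨1155, 25385043, (some true), 1156, 17043521⟩)) (.node 1 (.leaf ⟨1156, 17043521, (some true), 1155, 25385043⟩) (.leaf ⟨1156, 29904967, (some false), 1157, 17043521⟩))))
(.node 4 (.node 2 (.node 1 (.leaf ⟨1157, 17043521, (some false), 1156, 13113429⟩) (.leaf ⟨206, 19294279, none, 1157, 19159125⟩)) (.node 1 (.leaf ⟨1157, 17043521, none, 206, 17719377⟩) (.leaf ⟨1156, 23617609, none, 39, 4991053⟩)))
(.node 2 (.node 1 (.leaf ⟨1156, 17043521, none, 39, 27408475⟩) (.leaf ⟨1155, 16939083, none, 198, 17043521⟩)) (.node 1 (.leaf ⟨1155, 16939083, none, 39, 10645587⟩) (.leaf ⟨1155, 17043521, none, 39, 29628495⟩))))))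
(.node 15 (.node 7 (.node 3 (.node 1 (.leaf ⟨1150, 19800151, none, 206, 17242181⟩) (.node 1 (.leaf ⟨1150, 17043521, none, 206, 19689553⟩) (.leaf ⟨1149, 25522265, none, 207, 17043521⟩)))
(.node 2 (.node 1 (.leaf ⟨1149, 17043521, none, 207, 27611217⟩) (.leaf ⟨206, 19816541, none, 1052, 19232861⟩)) (.node 1 (.leaf ⟨1052, 17043521, none, 206, 16998465⟩) (.leaf ⟨1142, 19085399, (some true), 1158, 17043521⟩))))
(.node 4 (.node 2 (.node 1 (.leaf ⟨1158, 19085399, (some true), 1159, 17043521⟩) (.leaf ⟨1159, 11495495, (some true), 1160, 17043521⟩)) (.node 1 (.leaf ⟨1160, 17043521, (some true), 1159, 11495495⟩) (.leaf ⟨206, 29827157, none, 1160, 6971473⟩)))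
(.node 2 (.node 1 (.leaf ⟨1160, 17043521, none, 206, 23558227⟩) (.leaf ⟨1159, 25577551, none, 1138, 11350083⟩)) (.node 1 (.leaf ⟨1159, 17043521, none, 1138, 21569609⟩) (.leaf ⟨1142, 25385043, (some true), 1161, 17043521⟩)))))
(.node 8 (.node 4 (.node 2 (.node 1 (.leaf ⟨1161, 17043521, (some true), 1142, 25385043⟩) (.leaf ⟨1161, 4808797, (some true), 1162, 17043521⟩)) (.node 1 (.leaf ⟨1162, 17043521, (some true), 1161, 4808797⟩) (.leaf ⟨1162, 19085399, (some true), 1163, 17043521⟩)))
(.node 2 (.node 1 (.leaf ⟨1163, 17043521, (some true), 1162, 19085399⟩) (.leaf ⟨206, 4939841, none, 1163, 17004625⟩)) (.node 1 (.leaf ⟨1163, 17043521, none, 206, 11284561⟩) (.leaf ⟨1162, 11221069, none, 214, 11104337⟩))))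
(.node 4 (.node 2 (.node 1 (.leaf ⟨1162, 17043521, none, 214, 17719385⟩) (.leaf ⟨214, 10971209, (some true), 1161, 7161949⟩)) (.node 1 (.leaf ⟨214, 11495495, (some true), 1161, 7096415⟩) (.leaf ⟨214, 13310023, (some true), 1161, 23423047⟩)))
(.node 2 (.node 1 (.leaf ⟨214, 32125001, (some true), 1161, 15482967⟩) (.leaf ⟨207, 32125001, (some false), 1164, 17043521⟩)) (.node 1 (.leaf ⟨207, 10971209, (some false), 1164, 17178705⟩) (.leaf ⟨207, 9056345, (some false), 1164, 17258585⟩)))))))
(.node 30 (.node 15 (.node 7 (.node 3 (.node 1 (.leaf ⟨207, 6776923, (some false), 1164, 17000541⟩) (.node 1 (.leaf ⟨207, 13310023, (some false), 1164, 17635417⟩) (.leaf ⟨207, 23928925, (some false), 1164, 16920669⟩)))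
(.node 2 (.node 1 (.leaf ⟨207, 7292999, (some false), 1164, 16998493⟩) (.leaf ⟨207, 31801425, (some false), 1164, 17053761⟩)) (.node 1 (.leaf ⟨1164, 17657927, none, 1164, 17053761⟩) (.leaf ⟨1164, 17043521, none, 1164, 17651789⟩))))
(.node 4 (.node 2 (.node 1 (.leaf ⟨207, 32125001, (some true), 1167, 17043521⟩) (.leaf ⟨207, 13310023, (some true), 1167, 25710667⟩)) (.node 1 (.leaf ⟨207, 13510735, (some true), 1167, 9189443⟩) (.leaf ⟨207, 32131155, (some true), 1167, 8927323⟩)))
(.node 2 (.node 1 (.leaf ⟨1167, 19224665, none, 1167, 8927323⟩) (.leaf ⟨1167, 17043521, none, 1167, 11104323⟩)) (.node 1 (.leaf ⟨211, 17059919, (some true), 1170, 17043521⟩) (.leaf ⟨1170, 17059919, (some true), 1171, 17043521⟩)))))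
(.node 7 (.node 3 (.node 1 (.leaf ⟨1171, 17043521, (some true), 1170, 17059919⟩) (.node 1 (.leaf ⟨207, 28262473, none, 1171, 27859031⟩) (.leaf ⟨1171, 17043521, none, 207, 17508439⟩)))
(.node 2 (.node 1 (.leaf ⟨1170, 25720903, none, 211, 25440339⟩) (.leaf ⟨1170, 17043521, none, 211, 17578079⟩)) (.node 1 (.leaf ⟨1167, 29904967, (some false), 1176, 17043521⟩) (.leaf ⟨1167, 19085399, (some false), 1176, 17004617⟩))))
(.node 4 (.node 2 (.node 1 (.leaf ⟨1176, 17059919, (some true), 1177, 17043521⟩) (.leaf ⟨1177, 17043521, (some false), 1178, 17043521⟩)) (.node 1 (.leaf ⟨1178, 17043521, (some false), 1177, 17127489⟩) (.leaf ⟨207, 7290951, none, 1178, 17256521⟩)))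
(.node 2 (.node 1 (.leaf ⟨1178, 17043521, none, 207, 23871561⟩) (.leaf ⟨1177, 17459279, none, 1164, 17053761⟩)) (.node 1 (.leaf ⟨1177, 17043521, none, 1164, 17510477⟩) (.leaf ⟨211, 4808797, (some false), 1179, 17043521⟩))))))
(.node 15 (.node 7 (.node 3 (.node 1 (.leaf ⟨211, 27529303, (some false), 1179, 17119311⟩) (.node 1 (.leaf ⟨211, 29904967, (some false), 1179, 17195075⟩) (.leaf ⟨211, 13510735, (some false), 1179, 16916551⟩)))
(.node 2 (.node 1 (.leaf ⟨211, 17043521, (some false), 1180, 17043521⟩) (.leaf ⟨1180, 17043521, (some false), 211, 17127489⟩)) (.node 1 (.leaf ⟨1180, 19085399, (some false), 1181, 17043521⟩) (.leaf ⟨1181, 17043521, (some false), 1180, 19560517⟩))))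
(.node 4 (.node 2 (.node 1 (.leaf ⟨1181, 19085399, (some true), 1182, 17043521⟩) (.leaf ⟨1182, 17043521, (some true), 1181, 19085399⟩)) (.node 1 (.leaf ⟨1182, 17043521, (some false), 1183, 17043521⟩) (.leaf ⟨1183, 17043521, (some false), 1182, 17127489⟩)))
(.node 2 (.node 1 (.leaf ⟨207, 17197145, none, 1183, 19798099⟩) (.leaf ⟨1183, 17043521, none, 207, 19738719⟩)) (.node 1 (.leaf ⟨1182, 17068111, none, 39, 5191765⟩) (.leaf ⟨1182, 17043521, none, 39, 29579355⟩)))))
(.node 8 (.node 4 (.node 2 (.node 1 (.leaf ⟨1181, 8548423, none, 220, 19165257⟩) (.leaf ⟨1181, 8548423, none, 123, 4991051⟩)) (.node 1 (.leaf ⟨1181, 17043521, none, 123, 8800345⟩) (.leaf ⟨1180, 19355727, none, 689, 17004609⟩)))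
(.node 2 (.node 1 (.leaf ⟨1180, 17043521, none, 689, 19621961⟩) (.leaf ⟨689, 19085399, (some false), 211, 17176655⟩)) (.node 1 (.leaf ⟨1179, 19085399, (some false), 1184, 17043521⟩) (.leaf ⟨1184, 17043521, (some false), 1179, 19560517⟩))))
(.node 4 (.node 2 (.node 1 (.leaf ⟨1184, 17043521, (some true), 1185, 17043521⟩) (.leaf ⟨1185, 17043521, (some true), 1184, 17043521⟩)) (.node 1 (.leaf ⟨1185, 19085399, (some false), 1186, 17043521⟩) (.leaf ⟨1186, 17043521, (some false), 1185, 19560517⟩)))
(.node 2 (.node 1 (.leaf ⟨207, 28264531, none, 1186, 19097681⟩) (.leaf ⟨1186, 17043521, none, 207, 4669507⟩)) (.node 1 (.leaf ⟨1185, 19681371, none, 1164, 17053761⟩) (.leaf ⟨1185, 17043521, none, 1164, 19740747⟩))))))))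
(.node 61 (.node 30 (.node 15 (.node 7 (.node 3 (.node 1 (.leaf ⟨1164, 17043521, (some true), 1184, 19732545⟩) (.node 1 (.leaf ⟨1164, 17059919, (some true), 1184, 19140691⟩) (.leaf ⟨688, 11495495, (some true), 1187, 17043521⟩)))
(.node 2 (.node 1 (.leaf ⟨1187, 17043521, (some true), 688, 11495495⟩) (.leaf ⟨1187, 13310023, (some true), 1188, 17043521⟩)) (.node 1 (.leaf ⟨1188, 17043521, (some true), 1187, 13310023⟩) (.leaf ⟨207, 17195087, none, 1188, 4747349⟩))))
(.node 4 (.node 2 (.node 1 (.leaf ⟨1188, 17043521, none, 207, 8802391⟩) (.leaf ⟨1187, 13588551, none, 211, 19667017⟩)) (.node 1 (.leaf ⟨1187, 17043521, none, 211, 25917523⟩) (.leaf ⟨688, 11419741, none, 212, 17043521⟩)))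
(.node 2 (.node 1 (.leaf ⟨688, 11419741, none, 200, 14897241⟩) (.leaf ⟨688, 17043521, none, 200, 15624287⟩)) (.node 1 (.leaf ⟨134, 4548691, none, 203, 17780813⟩) (.leaf ⟨689, 19675209, none, 214, 4730951⟩)))))
(.node 7 (.node 3 (.node 1 (.leaf ⟨689, 17043521, none, 214, 29956165⟩) (.node 1 (.leaf ⟨690, 17461317, none, 1098, 17043521⟩) (.leaf ⟨214, 31801425, (some true), 1102, 8992851⟩)))
(.node 2 (.node 1 (.leaf ⟨214, 13310023, (some false), 1118, 17053765⟩) (.leaf ⟨214, 23928925, (some false), 1118, 16984133⟩)) (.node 1 (.leaf ⟨214, 31801425, (some false), 1118, 17440847⟩) (.leaf ⟨214, 7292999, (some false), 1118, 17717333⟩))))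
(.node 4 (.node 2 (.node 1 (.leaf ⟨211, 17051717, none, 1091, 17043521⟩) (.leaf ⟨1091, 17043521, none, 211, 17051717⟩)) (.node 1 (.leaf ⟨123, 25905245, none, 1098, 17043521⟩) (.leaf ⟨1098, 17043521, none, 123, 25905245⟩)))
(.node 2 (.node 1 (.leaf ⟨1104, 27856977, none, 695, 17043521⟩) (.leaf ⟨214, 29958223, none, 695, 17043521⟩)) (.node 1 (.leaf ⟨695, 17043521, none, 214, 29958223⟩) (.leaf ⟨203, 17043521, none, 134, 21393481⟩))))))
(.node 15 (.node 7 (.node 3 (.node 1 (.leaf ⟨134, 13310023, (some true), 204, 17117257⟩) (.node 1 (.leaf ⟨1059, 17197129, none, 837, 29778001⟩) (.leaf ⟨1075, 31602761, none, 840, 27553859⟩)))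
(.node 2 (.node 1 (.leaf ⟨1085, 17457241, none, 694, 17043521⟩) (.leaf ⟨1092, 11341905, none, 831, 17043521⟩)) (.node 1 (.leaf ⟨1091, 16922691, none, 159, 19673169⟩) (.leaf ⟨689, 27478081, none, 826, 17043521⟩))))
(.node 4 (.node 2 (.node 1 (.leaf ⟨1114, 8927305, none, 829, 17043521⟩) (.leaf ⟨1123, 6961237, none, 822, 19877955⟩)) (.node 1 (.leaf ⟨1123, 17043521, none, 822, 26157131⟩) (.leaf ⟨822, 10971209, (some true), 1122, 26091593⟩)))
(.node 2 (.node 1 (.leaf ⟨822, 25385043, (some true), 1122, 10635329⟩) (.leaf ⟨822, 11495495, (some true), 1122, 25831489⟩)) (.node 1 (.leaf ⟨822, 19085399, (some true), 1122, 19097665⟩) (.leaf ⟨1114, 8927305, none, 188, 25565255⟩)))))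
(.node 8 (.node 4 (.node 2 (.node 1 (.leaf ⟨1114, 17043521, none, 188, 25382981⟩) (.leaf ⟨1115, 17119299, none, 763, 17524805⟩)) (.node 1 (.leaf ⟨1064, 9136203, none, 738, 31662171⟩) (.leaf ⟨1127, 17051719, none, 1030, 17719387⟩)))
(.node 2 (.node 1 (.leaf ⟨1127, 17043521, none, 1030, 17457237⟩) (.leaf ⟨1064, 9136203, none, 352, 19359835⟩)) (.node 1 (.leaf ⟨1064, 17043521, none, 352, 21434455⟩) (.leaf ⟨1060, 6828109, none, 767, 17197127⟩))))
(.node 4 (.node 2 (.node 1 (.leaf ⟨352, 32125001, (some true), 1065, 19673169⟩) (.leaf ⟨1060, 17043521, none, 767, 8548437⟩)) (.node 1 (.leaf ⟨767, 9056345, (some false), 1061, 17125449⟩) (.leaf ⟨767, 31801425, (some true), 1079, 11493453⟩)))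
(.node 2 (.node 1 (.leaf ⟨767, 29640779, none, 1080, 17043521⟩) (.leaf ⟨767, 10971209, (some true), 1079, 28262493⟩)) (.node 1 (.leaf ⟨767, 27740233, none, 1080, 17043521⟩) (.leaf ⟨767, 27740233, none, 767, 31803471⟩)))))))
(.node 30 (.node 15 (.node 7 (.node 3 (.node 1 (.leaf ⟨767, 17043521, none, 767, 15405149⟩) (.node 1 (.leaf ⟨768, 8941659, none, 768, 17043521⟩) (.leaf ⟨768, 17043521, none, 768, 8941659⟩)))
(.node 2 (.node 1 (.leaf ⟨767, 29640779, none, 767, 31803471⟩) (.leaf ⟨767, 17043521, none, 767, 19206239⟩)) (.node 1 (.leaf ⟨768, 19208281, none, 768, 17043521⟩) (.leaf ⟨768, 17043521, none, 768, 19208281⟩))))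
(.node 4 (.node 2 (.node 1 (.leaf ⟨768, 29904967, (some true), 769, 25514065⟩) (.leaf ⟨768, 10971209, (some true), 769, 19142737⟩)) (.node 1 (.leaf ⟨1115, 17043521, none, 763, 17784911⟩) (.leaf ⟨763, 25385043, (some true), 1116, 25759825⟩)))
(.node 2 (.node 1 (.leaf ⟨214, 15482963, none, 826, 17043521⟩) (.leaf ⟨826, 17043521, none, 214, 15482963⟩)) (.node 1 (.leaf ⟨827, 11016257, none, 1098, 16937027⟩) (.leaf ⟨827, 11016257, none, 123, 21448779⟩)))))
(.node 7 (.node 3 (.node 1 (.leaf ⟨827, 17043521, none, 123, 15411281⟩) (.node 1 (.leaf ⟨123, 13510735, (some true), 828, 11079761⟩) (.leaf ⟨211, 16918605, none, 144, 10975307⟩)))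
(.node 2 (.node 1 (.leaf ⟨211, 17043521, none, 144, 4616267⟩) (.leaf ⟨212, 19730521, none, 877, 25587779⟩)) (.node 1 (.leaf ⟨144, 23928925, (some false), 220, 11087947⟩) (.leaf ⟨144, 31801425, (some true), 1087, 11032643⟩))))
(.node 4 (.node 2 (.node 1 (.leaf ⟨1170, 17657947, none, 855, 27605063⟩) (.leaf ⟨1179, 17111125, none, 862, 32067655⟩)) (.node 1 (.leaf ⟨1180, 17524811, none, 843, 17043521⟩) (.leaf ⟨214, 31987801, none, 843, 17043521⟩)))
(.node 2 (.node 1 (.leaf ⟨843, 17043521, none, 214, 31987801⟩) (.leaf ⟨1179, 17043521, none, 862, 32069715⟩)) (.node 1 (.leaf ⟨144, 4683847, none, 855, 27605063⟩) (.leaf ⟨855, 17043521, none, 144, 12742721⟩))))))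
(.node 15 (.node 7 (.node 3 (.node 1 (.leaf ⟨200, 29579345, none, 877, 25587779⟩) (.node 1 (.leaf ⟨877, 17043521, none, 200, 4941903⟩) (.leaf ⟨876, 17444933, none, 214, 4730951⟩)))
(.node 2 (.node 1 (.leaf ⟨876, 17043521, none, 214, 25694275⟩) (.leaf ⟨875, 27859019, none, 206, 25385043⟩)) (.node 1 (.leaf ⟨875, 17043521, none, 206, 19019859⟩) (.leaf ⟨854, 6889563, none, 207, 17043521⟩))))
(.node 4 (.node 2 (.node 1 (.leaf ⟨854, 17043521, none, 207, 10635341⟩) (.leaf ⟨134, 23277659, none, 831, 17043521⟩)) (.node 1 (.leaf ⟨831, 17043521, none, 134, 23277659⟩) (.leaf ⟨844, 17576009, none, 837, 31920211⟩)))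
(.node 2 (.node 1 (.leaf ⟨844, 17043521, none, 837, 23294027⟩) (.leaf ⟨837, 13310023, (some true), 845, 8917083⟩)) (.node 1 (.leaf ⟨134, 4681793, none, 694, 17043521⟩) (.leaf ⟨694, 17043521, none, 134, 4681793⟩)))))
(.node 8 (.node 4 (.node 2 (.node 1 (.leaf ⟨1075, 17043521, none, 840, 25643085⟩) (.leaf ⟨840, 11495495, (some true), 1068, 25905229⟩)) (.node 1 (.leaf ⟨840, 4808797, (some false), 1110, 17721425⟩) (.leaf ⟨1111, 17444955, none, 841, 17043521⟩)))
(.node 2 (.node 1 (.leaf ⟨840, 19085399, (some false), 1120, 16922719⟩) (.leaf ⟨840, 29904967, (some false), 1121, 17586255⟩)) (.node 1 (.leaf ⟨840, 13510735, (some true), 1128, 19013713⟩) (.leaf ⟨1111, 17043521, none, 841, 17719375⟩))))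
(.node 4 (.node 2 (.node 1 (.leaf ⟨1059, 17043521, none, 837, 25434183⟩) (.leaf ⟨837, 27529303, (some false), 1069, 16920669⟩)) (.node 1 (.leaf ⟨837, 32131155, (some true), 1070, 27531353⟩) (.leaf ⟨837, 32125001, (some true), 1111, 25839687⟩)))
(.node 2 (.node 1 (.leaf ⟨837, 17059919, (some true), 1115, 10969181⟩) (.leaf ⟨207, 4544593, (some true), 1189, 17043521⟩)) (.node 1 (.leaf ⟨207, 29904967, (some true), 1189, 9187403⟩) (.leaf ⟨207, 31801425, (some true), 1189, 8919115⟩)))))))))

/-- The facts. -/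
def caseCFullFactsRLLL : Tab Fct := .node 244 caseCFullFactsRLLLL caseCFullFactsRLLLR

/-- The facts. -/
def caseCFullFactsRLLRL : Tab Fct :=
(.node 122 (.node 61 (.node 30 (.node 15 (.node 7 (.node 3 (.node 1 (.leaf ⟨207, 4808797, (some true), 1189, 11294811⟩) (.node 1 (.leaf ⟨1189, 9263179, none, 1189, 11294811⟩) (.leaf ⟨1189, 17045577, none, 1189, 8919115⟩)))
(.node 2 (.node 1 (.leaf ⟨1189, 17043521, none, 1189, 8917059⟩) (.leaf ⟨1189, 17043521, none, 1189, 19206235⟩)) (.node 1 (.leaf ⟨1189, 4808797, (some false), 1190, 17043521⟩) (.leaf ⟨1189, 19085399, (some false), 1190, 17766491⟩))))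
(.node 4 (.node 2 (.node 1 (.leaf ⟨1189, 17043521, (some false), 1190, 17070165⟩) (.leaf ⟨1189, 29904967, (some false), 1190, 17702993⟩)) (.node 1 (.leaf ⟨1190, 19085399, (some true), 1191, 17043521⟩) (.leaf ⟨1191, 19085399, (some true), 1192, 17043521⟩)))
(.node 2 (.node 1 (.leaf ⟨1192, 11495495, (some true), 1193, 17043521⟩) (.leaf ⟨1193, 17043521, (some true), 1192, 11495495⟩)) (.node 1 (.leaf ⟨207, 29626433, none, 1193, 4923475⟩) (.leaf ⟨1193, 17043521, none, 207, 14827609⟩)))))
(.node 7 (.node 3 (.node 1 (.leaf ⟨1192, 9332815, none, 1167, 8927323⟩) (.node 1 (.leaf ⟨1192, 17043521, none, 1167, 17526873⟩) (.leaf ⟨214, 25385043, (some true), 1196, 17043521⟩)))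
(.node 2 (.node 1 (.leaf ⟨214, 19085399, (some true), 1196, 25784411⟩) (.leaf ⟨214, 13510735, (some true), 1196, 25784403⟩)) (.node 1 (.leaf ⟨214, 32131155, (some true), 1196, 17567825⟩) (.leaf ⟨1161, 23928925, (some false), 1199, 17043521⟩))))
(.node 4 (.node 2 (.node 1 (.leaf ⟨1161, 29904967, (some false), 1200, 17043521⟩) (.leaf ⟨214, 17059919, (some true), 1201, 17043521⟩)) (.node 1 (.leaf ⟨1201, 4808797, (some false), 1202, 17043521⟩) (.leaf ⟨1202, 17043521, (some false), 1201, 23685197⟩)))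
(.node 2 (.node 1 (.leaf ⟨1202, 11495495, (some true), 1203, 17043521⟩) (.leaf ⟨1203, 17043521, (some true), 1202, 11495495⟩)) (.node 1 (.leaf ⟨1203, 13510735, (some false), 1204, 17043521⟩) (.leaf ⟨1204, 17043521, (some false), 1203, 29761631⟩))))))
(.node 15 (.node 7 (.node 3 (.node 1 (.leaf ⟨214, 11366479, none, 1204, 17070145⟩) (.node 1 (.leaf ⟨1204, 17043521, none, 214, 11343957⟩) (.leaf ⟨1203, 25434205, none, 1143, 17782865⟩)))
(.node 2 (.node 1 (.leaf ⟨1203, 17043521, none, 1143, 25849935⟩) (.leaf ⟨1143, 19085399, (some true), 1202, 19032149⟩)) (.node 1 (.leaf ⟨134, 7292999, (some false), 1205, 17043521⟩) (.leaf ⟨134, 4808797, (some false), 1205, 17766477⟩))))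
(.node 4 (.node 2 (.node 1 (.leaf ⟨134, 31801425, (some false), 1205, 17246279⟩) (.leaf ⟨134, 29904967, (some false), 1205, 16916555⟩)) (.node 1 (.leaf ⟨1205, 17043521, (some true), 1206, 17043521⟩) (.leaf ⟨1206, 17043521, (some true), 1205, 17043521⟩)))
(.node 2 (.node 1 (.leaf ⟨1206, 17043521, (some false), 1207, 17043521⟩) (.leaf ⟨1207, 17043521, (some false), 1206, 17127489⟩)) (.node 1 (.leaf ⟨214, 4989017, none, 1207, 17174603⟩) (.leaf ⟨1207, 17043521, none, 214, 5124179⟩)))))
(.node 8 (.node 4 (.node 2 (.node 1 (.leaf ⟨1206, 16934981, none, 1118, 17053765⟩) (.leaf ⟨1206, 17043521, none, 1118, 17526849⟩)) (.node 1 (.leaf ⟨1118, 25385043, (some true), 1205, 11368537⟩) (.leaf ⟨1161, 31801425, (some false), 1208, 17043521⟩)))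
(.node 2 (.node 1 (.leaf ⟨1196, 17043521, (some false), 1209, 17043521⟩) (.leaf ⟨1209, 17043521, (some false), 1196, 17127489⟩)) (.node 1 (.leaf ⟨1208, 19085399, (some false), 1210, 17043521⟩) (.leaf ⟨1210, 17043521, (some false), 1208, 19560517⟩))))
(.node 4 (.node 2 (.node 1 (.leaf ⟨1210, 25385043, (some true), 1211, 17043521⟩) (.leaf ⟨1211, 17043521, (some true), 1210, 25385043⟩)) (.node 1 (.leaf ⟨1211, 29904967, (some false), 1212, 17043521⟩) (.leaf ⟨1212, 17043521, (some false), 1211, 13113429⟩)))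
(.node 2 (.node 1 (.leaf ⟨214, 9332807, none, 1212, 19664983⟩) (.leaf ⟨1212, 17043521, none, 214, 27666515⟩)) (.node 1 (.leaf ⟨214, 10971209, (some false), 1211, 15210571⟩) (.leaf ⟨1161, 13310023, (some false), 1213, 17043521⟩)))))))
(.node 30 (.node 15 (.node 7 (.node 3 (.node 1 (.leaf ⟨1213, 17043521, (some false), 1161, 29511765⟩) (.node 1 (.leaf ⟨1213, 19085399, (some false), 1214, 17043521⟩) (.leaf ⟨1214, 17043521, (some false), 1213, 19560517⟩)))
(.node 2 (.node 1 (.leaf ⟨1214, 17043521, (some true), 1215, 17043521⟩) (.leaf ⟨1215, 17043521, (some true), 1214, 17043521⟩)) (.node 1 (.leaf ⟨1215, 19085399, (some false), 1216, 17043521⟩) (.leaf ⟨1216, 17043521, (some false), 1215, 19560517⟩))))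
(.node 4 (.node 2 (.node 1 (.leaf ⟨214, 21901391, none, 1216, 19292225⟩) (.leaf ⟨1216, 17043521, none, 214, 13443147⟩)) (.node 1 (.leaf ⟨1215, 19214415, none, 1118, 16984133⟩) (.leaf ⟨1215, 17043521, none, 1118, 19275849⟩)))
(.node 2 (.node 1 (.leaf ⟨1118, 10971209, (some true), 1214, 27801667⟩) (.leaf ⟨1100, 25385043, (some true), 1217, 17043521⟩)) (.node 1 (.leaf ⟨1217, 17043521, (some true), 1100, 25385043⟩) (.leaf ⟨1100, 11495495, (some true), 1217, 9261121⟩)))))
(.node 7 (.node 3 (.node 1 (.leaf ⟨1217, 4808797, (some true), 1218, 17043521⟩) (.node 1 (.leaf ⟨1218, 17043521, (some true), 1217, 4808797⟩) (.leaf ⟨1218, 10971209, (some true), 1219, 17043521⟩)))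
(.node 2 (.node 1 (.leaf ⟨1219, 17043521, (some true), 1218, 10971209⟩) (.leaf ⟨214, 6641749, none, 1219, 21110865⟩)) (.node 1 (.leaf ⟨1219, 17043521, none, 214, 10700873⟩) (.leaf ⟨1218, 17524817, none, 1161, 7161949⟩))))
(.node 4 (.node 2 (.node 1 (.leaf ⟨1218, 17043521, none, 1161, 25315405⟩) (.leaf ⟨1161, 11495495, (some true), 1217, 21250143⟩)) (.node 1 (.leaf ⟨1209, 10971209, (some true), 1220, 17043521⟩) (.leaf ⟨1220, 17043521, (some true), 1209, 10971209⟩)))
(.node 2 (.node 1 (.leaf ⟨1220, 32125001, (some true), 1221, 17043521⟩) (.leaf ⟨1221, 17043521, (some true), 1220, 32125001⟩)) (.node 1 (.leaf ⟨1221, 32125001, (some true), 1222, 17043521⟩) (.leaf ⟨1222, 17043521, (some true), 1221, 32125001⟩))))))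
(.node 15 (.node 7 (.node 3 (.node 1 (.leaf ⟨214, 12730445, none, 1222, 6975571⟩) (.node 1 (.leaf ⟨1222, 17043521, none, 214, 32073799⟩) (.leaf ⟨1221, 12744787, none, 1098, 16937027⟩)))
(.node 2 (.node 1 (.leaf ⟨1221, 12744787, none, 123, 21448779⟩) (.leaf ⟨1221, 17043521, none, 123, 32067663⟩)) (.node 1 (.leaf ⟨1220, 14841921, none, 683, 25524307⟩) (.leaf ⟨1220, 17043521, none, 683, 15470679⟩))))
(.node 4 (.node 2 (.node 1 (.leaf ⟨1209, 17719371, none, 710, 17700931⟩) (.leaf ⟨1209, 17043521, none, 710, 17053781⟩)) (.node 1 (.leaf ⟨1196, 17522763, none, 758, 19337289⟩) (.leaf ⟨1196, 17043521, none, 758, 19294275⟩)))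
(.node 2 (.node 1 (.leaf ⟨217, 10971209, (some false), 1223, 17043521⟩) (.leaf ⟨217, 7292999, (some false), 1223, 17594445⟩)) (.node 1 (.leaf ⟨217, 13310023, (some false), 1223, 17700947⟩) (.leaf ⟨217, 6776923, (some false), 1223, 17721419⟩)))))
(.node 8 (.node 4 (.node 2 (.node 1 (.leaf ⟨1223, 19085399, (some false), 1224, 17043521⟩) (.leaf ⟨1224, 17043521, (some false), 1223, 19560517⟩)) (.node 1 (.leaf ⟨1224, 19085399, (some false), 1225, 17043521⟩) (.leaf ⟨1225, 17043521, (some false), 1224, 19560517⟩)))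
(.node 2 (.node 1 (.leaf ⟨217, 21368911, none, 1225, 19867743⟩) (.leaf ⟨1225, 17043521, none, 217, 13400147⟩)) (.node 1 (.leaf ⟨217, 32125001, (some false), 1224, 19877955⟩) (.leaf ⟨217, 31801425, (some false), 1224, 19560515⟩))))
(.node 4 (.node 2 (.node 1 (.leaf ⟨217, 23928925, (some false), 1224, 19277903⟩) (.leaf ⟨217, 9056345, (some false), 1224, 19621963⟩)) (.node 1 (.leaf ⟨229, 17043521, (some true), 1226, 17043521⟩) (.leaf ⟨1226, 17059919, (some true), 1227, 17043521⟩)))
(.node 2 (.node 1 (.leaf ⟨1227, 17043521, (some true), 1226, 17059919⟩) (.leaf ⟨217, 17109059, none, 1227, 17586263⟩)) (.node 1 (.leaf ⟨1227, 17043521, none, 217, 17651783⟩) (.leaf ⟨1226, 17657927, none, 230, 19081311⟩))))))))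
(.node 61 (.node 30 (.node 15 (.node 7 (.node 3 (.node 1 (.leaf ⟨1226, 17657927, none, 229, 17651797⟩) (.node 1 (.leaf ⟨1226, 17043521, none, 229, 17068115⟩) (.leaf ⟨217, 4808797, (some true), 1228, 17043521⟩)))
(.node 2 (.node 1 (.leaf ⟨217, 4544593, (some true), 1228, 27881547⟩) (.leaf ⟨217, 32131155, (some true), 1228, 25434187⟩)) (.node 1 (.leaf ⟨217, 32125001, (some true), 1228, 25505873⟩) (.leaf ⟨1228, 17059919, (some true), 1229, 17043521⟩))))
(.node 4 (.node 2 (.node 1 (.leaf ⟨1229, 17059919, (some true), 1230, 17043521⟩) (.leaf ⟨1230, 17043521, (some true), 1229, 17059919⟩)) (.node 1 (.leaf ⟨217, 13131871, none, 1230, 19740749⟩) (.leaf ⟨1230, 17043521, none, 217, 6891601⟩)))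
(.node 2 (.node 1 (.leaf ⟨217, 31801425, (some true), 1229, 27605063⟩) (.leaf ⟨217, 29904967, (some true), 1229, 19206221⟩)) (.node 1 (.leaf ⟨217, 13510735, (some true), 1229, 17594447⟩) (.leaf ⟨217, 13310023, (some true), 1229, 9271389⟩)))))
(.node 7 (.node 3 (.node 1 (.leaf ⟨1228, 13510735, (some false), 1231, 17043521⟩) (.node 1 (.leaf ⟨697, 19085399, (some true), 1233, 17043521⟩) (.leaf ⟨1233, 17043521, (some true), 697, 19085399⟩)))
(.node 2 (.node 1 (.leaf ⟨1233, 19085399, (some false), 1234, 17043521⟩) (.leaf ⟨1234, 17043521, (some false), 1233, 19560517⟩)) (.node 1 (.leaf ⟨217, 25890887, none, 1234, 17197131⟩) (.leaf ⟨1234, 17043521, none, 217, 6715465⟩))))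
(.node 4 (.node 2 (.node 1 (.leaf ⟨1233, 19603527, none, 1224, 19277903⟩) (.leaf ⟨1233, 17043521, none, 1224, 17700933⟩)) (.node 1 (.leaf ⟨1224, 19085399, (some true), 697, 16939077⟩) (.leaf ⟨1229, 4808797, (some false), 1235, 17043521⟩)))
(.node 2 (.node 1 (.leaf ⟨1235, 10971209, (some true), 1236, 17043521⟩) (.leaf ⟨1236, 17043521, (some true), 1235, 10971209⟩)) (.node 1 (.leaf ⟨1236, 13510735, (some false), 1237, 17043521⟩) (.leaf ⟨1237, 17043521, (some false), 1236, 29761631⟩))))))
(.node 15 (.node 7 (.node 3 (.node 1 (.leaf ⟨217, 31606855, none, 1237, 17117265⟩) (.node 1 (.leaf ⟨1237, 17043521, none, 217, 23545949⟩) (.leaf ⟨1236, 29777987, none, 1223, 17594445⟩)))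
(.node 2 (.node 1 (.leaf ⟨1236, 17043521, none, 1223, 25315403⟩) (.leaf ⟨1223, 10971209, (some true), 1235, 26167377⟩)) (.node 1 (.leaf ⟨1229, 29904967, (some false), 1238, 17043521⟩) (.leaf ⟨1229, 13510735, (some false), 1239, 17043521⟩))))
(.node 4 (.node 2 (.node 1 (.leaf ⟨229, 13510735, (some false), 1240, 17043521⟩) (.leaf ⟨1240, 17053777, none, 1240, 17043521⟩)) (.node 1 (.leaf ⟨1240, 17043521, none, 1240, 17053777⟩) (.leaf ⟨1228, 29904967, (some false), 1241, 17043521⟩)))
(.node 2 (.node 1 (.leaf ⟨1241, 19085399, (some false), 1242, 17043521⟩) (.leaf ⟨1242, 11495495, (some true), 1243, 17043521⟩)) (.node 1 (.leaf ⟨1243, 27529303, (some false), 1244, 17043521⟩) (.leaf ⟨1244, 17043521, (some false), 1243, 25516101⟩)))))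
(.node 8 (.node 4 (.node 2 (.node 1 (.leaf ⟨217, 13242443, none, 1244, 19085407⟩) (.leaf ⟨1244, 17043521, none, 217, 7088217⟩)) (.node 1 (.leaf ⟨1243, 25514051, none, 1224, 19277903⟩) (.leaf ⟨1243, 17043521, none, 1224, 25829461⟩)))
(.node 2 (.node 1 (.leaf ⟨1228, 4808797, (some false), 1245, 17043521⟩) (.leaf ⟨1245, 19085399, (some false), 1246, 17043521⟩)) (.node 1 (.leaf ⟨1246, 17043521, (some true), 1247, 17043521⟩) (.leaf ⟨1247, 17043521, (some true), 1246, 17043521⟩))))
(.node 4 (.node 2 (.node 1 (.leaf ⟨1247, 19085399, (some false), 1248, 17043521⟩) (.leaf ⟨1248, 17043521, (some false), 1247, 19560517⟩)) (.node 1 (.leaf ⟨217, 5189713, none, 1248, 19097691⟩) (.leaf ⟨1248, 17043521, none, 217, 10975319⟩)))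
(.node 2 (.node 1 (.leaf ⟨1247, 19275847, none, 1223, 17700947⟩) (.leaf ⟨1247, 17043521, none, 1223, 19740767⟩)) (.node 1 (.leaf ⟨1223, 17059919, (some true), 1246, 19746897⟩) (.leaf ⟨1228, 19085399, (some false), 1253, 17043521⟩)))))))
(.node 30 (.node 15 (.node 7 (.node 3 (.node 1 (.leaf ⟨1253, 19085399, (some true), 1254, 17043521⟩) (.node 1 (.leaf ⟨1254, 11495495, (some true), 1255, 17043521⟩) (.leaf ⟨1255, 13310023, (some true), 1256, 17043521⟩)))
(.node 2 (.node 1 (.leaf ⟨1256, 17043521, (some true), 1255, 13310023⟩) (.leaf ⟨217, 31989839, none, 1256, 23605333⟩)) (.node 1 (.leaf ⟨1256, 17043521, none, 217, 14973013⟩) (.leaf ⟨1255, 15667285, none, 1229, 19206221⟩))))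
(.node 4 (.node 2 (.node 1 (.leaf ⟨1255, 17043521, none, 1229, 27922511⟩) (.leaf ⟨1240, 19085399, (some false), 1257, 17043521⟩)) (.node 1 (.leaf ⟨1257, 17240129, none, 1257, 17043521⟩) (.leaf ⟨1257, 17043521, none, 1257, 17240129⟩)))
(.node 2 (.node 1 (.leaf ⟨1257, 19085399, (some false), 1258, 17043521⟩) (.leaf ⟨1258, 17043521, (some false), 1257, 19560517⟩)) (.node 1 (.leaf ⟨229, 11358277, none, 1258, 19740747⟩) (.leaf ⟨1258, 17043521, none, 229, 27537477⟩)))))
(.node 7 (.node 3 (.node 1 (.leaf ⟨229, 27529303, (some false), 1257, 19691589⟩) (.node 1 (.leaf ⟨229, 29904967, (some false), 1259, 17043521⟩) (.leaf ⟨1259, 19085399, (some false), 1260, 17043521⟩)))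
(.node 2 (.node 1 (.leaf ⟨1260, 19085399, (some false), 1261, 17043521⟩) (.leaf ⟨1261, 17043521, (some false), 1260, 19560517⟩)) (.node 1 (.leaf ⟨229, 31991879, none, 1261, 19865691⟩) (.leaf ⟨1261, 17043521, none, 229, 8984651⟩))))
(.node 4 (.node 2 (.node 1 (.leaf ⟨229, 4808797, (some false), 1260, 19877955⟩) (.leaf ⟨229, 29904967, (some true), 1262, 17043521⟩)) (.node 1 (.leaf ⟨229, 4544593, (some true), 1262, 25768011⟩) (.leaf ⟨229, 13510735, (some true), 1265, 17043521⟩)))
(.node 2 (.node 1 (.leaf ⟨229, 13310023, (some true), 1265, 9244737⟩) (.leaf ⟨1265, 27529303, (some false), 1266, 17043521⟩)) (.node 1 (.leaf ⟨1266, 19085399, (some true), 1267, 17043521⟩) (.leaf ⟨1267, 19085399, (some false), 1268, 17043521⟩))))))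
(.node 15 (.node 7 (.node 3 (.node 1 (.leaf ⟨1268, 17043521, (some false), 1267, 19560517⟩) (.node 1 (.leaf ⟨229, 15419471, none, 1268, 17244243⟩) (.leaf ⟨1268, 17043521, none, 229, 9324635⟩)))
(.node 2 (.node 1 (.leaf ⟨229, 7292999, (some false), 1267, 19290205⟩) (.leaf ⟨229, 13310023, (some false), 1267, 19816541⟩)) (.node 1 (.leaf ⟨229, 32125001, (some true), 1269, 17043521⟩) (.leaf ⟨229, 32131155, (some true), 1269, 11098179⟩))))
(.node 4 (.node 2 (.node 1 (.leaf ⟨1269, 27529303, (some false), 1270, 17043521⟩) (.leaf ⟨1270, 17043521, (some false), 1269, 25516101⟩)) (.node 1 (.leaf ⟨1270, 19085399, (some true), 1271, 17043521⟩) (.leaf ⟨1271, 17043521, (some true), 1270, 19085399⟩)))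
(.node 2 (.node 1 (.leaf ⟨1271, 19085399, (some false), 1272, 17043521⟩) (.leaf ⟨1272, 17043521, (some false), 1271, 19560517⟩)) (.node 1 (.leaf ⟨229, 15603787, none, 1272, 17000523⟩) (.leaf ⟨1272, 17043521, none, 229, 31858753⟩)))))
(.node 8 (.node 4 (.node 2 (.node 1 (.leaf ⟨1271, 19667023, none, 1257, 19691589⟩) (.leaf ⟨1271, 17043521, none, 1257, 17051737⟩)) (.node 1 (.leaf ⟨1257, 17043521, (some true), 1270, 19271751⟩) (.leaf ⟨1257, 25385043, (some true), 1270, 8550493⟩)))
(.node 2 (.node 1 (.leaf ⟨229, 19085399, (some true), 1273, 17043521⟩) (.leaf ⟨229, 10971209, (some true), 1273, 27881553⟩)) (.node 1 (.leaf ⟨229, 4808797, (some true), 1275, 17043521⟩) (.leaf ⟨229, 31801425, (some true), 1275, 27529281⟩))))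
(.node 4 (.node 2 (.node 1 (.leaf ⟨1265, 19085399, (some false), 1278, 17043521⟩) (.leaf ⟨1278, 19085399, (some false), 1279, 17043521⟩)) (.node 1 (.leaf ⟨1279, 17043521, (some false), 1278, 19560517⟩) (.leaf ⟨1279, 17059919, (some true), 1280, 17043521⟩)))
(.node 2 (.node 1 (.leaf ⟨1280, 17043521, (some true), 1279, 17059919⟩) (.leaf ⟨1280, 19085399, (some false), 1281, 17043521⟩)) (.node 1 (.leaf ⟨1281, 17043521, (some false), 1280, 19560517⟩) (.leaf ⟨229, 6971463, none, 1281, 19292233⟩)))))))))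

/-- The facts. -/
def caseCFullFactsRLLRR : Tab Fct :=
(.node 122 (.node 61 (.node 30 (.node 15 (.node 7 (.node 3 (.node 1 (.leaf ⟨1281, 17043521, none, 229, 29757515⟩) (.node 1 (.leaf ⟨1280, 19798081, none, 1240, 17043521⟩) (.leaf ⟨1280, 17043521, none, 1240, 19798081⟩)))
(.node 2 (.node 1 (.leaf ⟨1240, 25385043, (some true), 1279, 8917069⟩) (.leaf ⟨1240, 10971209, (some true), 1279, 27596885⟩)) (.node 1 (.leaf ⟨1262, 17043521, (some false), 1282, 17043521⟩) (.leaf ⟨1282, 19085399, (some false), 1283, 17043521⟩))))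
(.node 4 (.node 2 (.node 1 (.leaf ⟨1283, 19085399, (some true), 1284, 17043521⟩) (.leaf ⟨1284, 17043521, (some false), 1285, 17043521⟩)) (.node 1 (.leaf ⟨1285, 17043521, (some false), 1284, 17127489⟩) (.leaf ⟨229, 31987789, none, 1285, 19626057⟩)))
(.node 2 (.node 1 (.leaf ⟨1285, 17043521, none, 229, 4810841⟩) (.leaf ⟨1284, 17061957, none, 1260, 19877955⟩)) (.node 1 (.leaf ⟨1284, 17043521, none, 1260, 19273813⟩) (.leaf ⟨1273, 4808797, (some false), 1286, 17043521⟩)))))
(.node 7 (.node 3 (.node 1 (.leaf ⟨1286, 17059919, (some true), 1287, 17043521⟩) (.node 1 (.leaf ⟨1287, 11495495, (some true), 1288, 17043521⟩) (.leaf ⟨1288, 17043521, (some true), 1287, 11495495⟩)))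
(.node 2 (.node 1 (.leaf ⟨1288, 32131155, (some true), 1289, 17043521⟩) (.leaf ⟨1289, 17043521, (some true), 1288, 32131155⟩)) (.node 1 (.leaf ⟨229, 25374813, none, 1289, 21178451⟩) (.leaf ⟨1289, 17043521, none, 229, 29634639⟩))))
(.node 4 (.node 2 (.node 1 (.leaf ⟨1288, 6709329, none, 1262, 17043521⟩) (.leaf ⟨1288, 17043521, none, 1262, 32327775⟩)) (.node 1 (.leaf ⟨1262, 4808797, (some true), 1287, 16998471⟩) (.leaf ⟨217, 29904967, (some false), 1290, 17043521⟩)))
(.node 2 (.node 1 (.leaf ⟨1290, 17043521, (some false), 217, 13113429⟩) (.leaf ⟨217, 27529303, (some false), 1290, 17178697⟩)) (.node 1 (.leaf ⟨1290, 10971209, (some true), 1291, 17043521⟩) (.leaf ⟨1291, 17043521, (some true), 1290, 10971209⟩))))))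
(.node 15 (.node 7 (.node 3 (.node 1 (.leaf ⟨1291, 13310023, (some true), 1292, 17043521⟩) (.node 1 (.leaf ⟨1292, 17043521, (some true), 1291, 13310023⟩) (.leaf ⟨1292, 31801425, (some true), 1293, 17043521⟩)))
(.node 2 (.node 1 (.leaf ⟨1293, 17043521, (some true), 1292, 31801425⟩) (.leaf ⟨229, 11016287, none, 1293, 23224401⟩)) (.node 1 (.leaf ⟨1293, 17043521, none, 229, 30222421⟩) (.leaf ⟨1292, 29909075, none, 1275, 17043521⟩))))
(.node 4 (.node 2 (.node 1 (.leaf ⟨1292, 17043521, none, 1275, 8802379⟩) (.leaf ⟨1275, 25385043, (some true), 1291, 12808287⟩)) (.node 1 (.leaf ⟨256, 10971209, (some false), 1294, 17043521⟩) (.leaf ⟨1294, 19085399, (some false), 1295, 17043521⟩)))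
(.node 2 (.node 1 (.leaf ⟨1295, 19085399, (some false), 1296, 17043521⟩) (.leaf ⟨1296, 17043521, (some false), 1295, 19560517⟩)) (.node 1 (.leaf ⟨256, 29503553, none, 1296, 19605585⟩) (.leaf ⟨1296, 17043521, none, 256, 13400147⟩)))))
(.node 8 (.node 4 (.node 2 (.node 1 (.leaf ⟨256, 32125001, (some false), 1295, 19877955⟩) (.leaf ⟨266, 19085399, (some true), 1300, 17043521⟩)) (.node 1 (.leaf ⟨1300, 17059919, (some true), 1301, 17043521⟩) (.leaf ⟨1301, 17043521, (some true), 1300, 17059919⟩)))
(.node 2 (.node 1 (.leaf ⟨256, 27799627, none, 1301, 25516119⟩) (.leaf ⟨1301, 17043521, none, 256, 19748941⟩)) (.node 1 (.leaf ⟨1300, 19740749, none, 266, 16937041⟩) (.leaf ⟨1300, 17043521, none, 266, 19877973⟩))))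
(.node 4 (.node 2 (.node 1 (.leaf ⟨256, 13510735, (some true), 1304, 17043521⟩) (.leaf ⟨256, 31801425, (some true), 1304, 27619403⟩)) (.node 1 (.leaf ⟨256, 4808797, (some true), 1308, 17043521⟩) (.leaf ⟨256, 32131155, (some true), 1308, 25720905⟩)))
(.node 2 (.node 1 (.leaf ⟨1308, 11024473, none, 1308, 25720905⟩) (.leaf ⟨1308, 17043521, none, 1308, 27537481⟩)) (.node 1 (.leaf ⟨1308, 17043521, (some false), 1309, 17043521⟩) (.leaf ⟨1308, 27529303, (some false), 1309, 16934987⟩)))))))
(.node 30 (.node 15 (.node 7 (.node 3 (.node 1 (.leaf ⟨1309, 25385043, (some true), 1310, 17043521⟩) (.node 1 (.leaf ⟨1310, 17043521, (some true), 1309, 25385043⟩) (.leaf ⟨1310, 4808797, (some false), 1311, 17043521⟩)))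
(.node 2 (.node 1 (.leaf ⟨1311, 17043521, (some false), 1310, 23685197⟩) (.leaf ⟨256, 15280221, none, 1311, 17522773⟩)) (.node 1 (.leaf ⟨1311, 17043521, none, 256, 13195349⟩) (.leaf ⟨256, 4808797, (some false), 1310, 13176909⟩))))
(.node 4 (.node 2 (.node 1 (.leaf ⟨256, 23928925, (some false), 1310, 15274067⟩) (.leaf ⟨267, 19085399, (some false), 1321, 17043521⟩)) (.node 1 (.leaf ⟨1321, 17043521, (some false), 267, 19560517⟩) (.leaf ⟨1321, 17651807, none, 1321, 17043521⟩)))
(.node 2 (.node 1 (.leaf ⟨1321, 16984143, none, 1321, 17043521⟩) (.leaf ⟨1321, 17043521, none, 1321, 16984143⟩)) (.node 1 (.leaf ⟨1321, 17043521, none, 1321, 17651807⟩) (.leaf ⟨1321, 10971209, (some true), 1322, 17043521⟩)))))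
(.node 7 (.node 3 (.node 1 (.leaf ⟨1322, 17043521, (some true), 1321, 10971209⟩) (.node 1 (.leaf ⟨1322, 32125001, (some true), 1323, 17043521⟩) (.leaf ⟨1323, 17043521, (some true), 1322, 32125001⟩)))
(.node 2 (.node 1 (.leaf ⟨1323, 32125001, (some true), 1324, 17043521⟩) (.leaf ⟨1324, 17043521, (some true), 1323, 32125001⟩)) (.node 1 (.leaf ⟨256, 19015751, none, 1324, 23230547⟩) (.leaf ⟨1324, 17043521, none, 256, 25450579⟩))))
(.node 4 (.node 2 (.node 1 (.leaf ⟨1323, 21131331, none, 266, 17780817⟩) (.leaf ⟨1323, 17043521, none, 266, 25378907⟩)) (.node 1 (.leaf ⟨1322, 7286859, none, 280, 17043521⟩) (.leaf ⟨1322, 17043521, none, 280, 15419477⟩)))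
(.node 2 (.node 1 (.leaf ⟨280, 13510735, (some true), 1321, 16918603⟩) (.leaf ⟨277, 27529303, (some false), 1333, 17043521⟩)) (.node 1 (.leaf ⟨1333, 19085399, (some false), 1349, 17043521⟩) (.leaf ⟨1349, 10971209, (some true), 1350, 17043521⟩))))))
(.node 15 (.node 7 (.node 3 (.node 1 (.leaf ⟨1350, 17043521, (some true), 1349, 10971209⟩) (.node 1 (.leaf ⟨1350, 27529303, (some false), 1351, 17043521⟩) (.leaf ⟨1351, 17043521, (some false), 1350, 25516101⟩)))
(.node 2 (.node 1 (.leaf ⟨259, 29907013, none, 1351, 19339343⟩) (.leaf ⟨1351, 17043521, none, 259, 25778255⟩)) (.node 1 (.leaf ⟨1350, 11303007, none, 267, 17244243⟩) (.leaf ⟨1350, 17043521, none, 267, 28264541⟩))))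
(.node 4 (.node 2 (.node 1 (.leaf ⟨267, 11495495, (some true), 1349, 28000339⟩) (.leaf ⟨267, 10971209, (some true), 1349, 28000323⟩)) (.node 1 (.leaf ⟨274, 19085399, (some false), 1358, 17043521⟩) (.leaf ⟨1358, 17043521, (some false), 274, 19560517⟩)))
(.node 2 (.node 1 (.leaf ⟨262, 6973533, none, 1358, 19865681⟩) (.leaf ⟨1358, 17043521, none, 262, 31936601⟩)) (.node 1 (.leaf ⟨274, 19877955, none, 272, 17043521⟩) (.leaf ⟨274, 17043521, none, 272, 19355715⟩)))))
(.node 8 (.node 4 (.node 2 (.node 1 (.leaf ⟨272, 19085399, (some false), 273, 19740751⟩) (.leaf ⟨272, 17043521, (some true), 275, 25710667⟩)) (.node 1 (.leaf ⟨262, 23928925, (some false), 1359, 17043521⟩) (.leaf ⟨1359, 17043521, (some false), 262, 4991053⟩)))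
(.node 2 (.node 1 (.leaf ⟨1359, 19085399, (some false), 1360, 17043521⟩) (.leaf ⟨1360, 17043521, (some false), 1359, 19560517⟩)) (.node 1 (.leaf ⟨1360, 19085399, (some false), 1361, 17043521⟩) (.leaf ⟨1361, 17043521, (some false), 1360, 19560517⟩))))
(.node 4 (.node 2 (.node 1 (.leaf ⟨262, 6715479, none, 1361, 19732547⟩) (.leaf ⟨1361, 17043521, none, 262, 5191765⟩)) (.node 1 (.leaf ⟨262, 13310023, (some false), 1360, 19691589⟩) (.leaf ⟨280, 13310023, (some true), 1362, 17043521⟩)))
(.node 2 (.node 1 (.leaf ⟨1362, 17059919, (some true), 1363, 17043521⟩) (.leaf ⟨1363, 17043521, (some true), 1362, 17059919⟩)) (.node 1 (.leaf ⟨262, 21586005, none, 1363, 9261135⟩) (.leaf ⟨1363, 17043521, none, 262, 4991049⟩))))))))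
(.node 61 (.node 30 (.node 15 (.node 7 (.node 3 (.node 1 (.leaf ⟨1362, 11341901, none, 280, 23531593⟩) (.node 1 (.leaf ⟨1362, 17043521, none, 280, 32116805⟩) (.leaf ⟨280, 27529303, (some false), 1364, 17043521⟩)))
(.node 2 (.node 1 (.leaf ⟨262, 13510735, (some true), 1365, 17043521⟩) (.leaf ⟨1365, 17651793, none, 1365, 17043521⟩)) (.node 1 (.leaf ⟨1365, 17111123, none, 1365, 17043521⟩) (.leaf ⟨1365, 17043521, none, 1365, 17111123⟩))))
(.node 4 (.node 2 (.node 1 (.leaf ⟨1365, 17043521, none, 1365, 17651793⟩) (.leaf ⟨1365, 13510735, (some false), 1366, 17043521⟩)) (.node 1 (.leaf ⟨1365, 27529303, (some false), 1366, 17262663⟩) (.leaf ⟨1365, 29904967, (some false), 1366, 17567839⟩)))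
(.node 2 (.node 1 (.leaf ⟨1365, 4808797, (some false), 1366, 16920665⟩) (.leaf ⟨262, 32125001, (some true), 1367, 17043521⟩)) (.node 1 (.leaf ⟨1367, 17043521, (some true), 262, 32125001⟩) (.leaf ⟨1367, 27529303, (some false), 1368, 17043521⟩)))))
(.node 7 (.node 3 (.node 1 (.leaf ⟨1368, 17043521, (some false), 1367, 25516101⟩) (.node 1 (.leaf ⟨1368, 19085399, (some true), 1369, 17043521⟩) (.leaf ⟨1369, 17043521, (some true), 1368, 19085399⟩)))
(.node 2 (.node 1 (.leaf ⟨1369, 19085399, (some false), 1370, 17043521⟩) (.leaf ⟨1370, 17043521, (some false), 1369, 19560517⟩)) (.node 1 (.leaf ⟨262, 15603785, none, 1370, 17000521⟩) (.leaf ⟨1370, 17043521, none, 262, 31858753⟩))))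
(.node 4 (.node 2 (.node 1 (.leaf ⟨1369, 19667023, none, 273, 17043521⟩) (.leaf ⟨1369, 17043521, none, 273, 19732575⟩)) (.node 1 (.leaf ⟨273, 17059919, (some true), 1368, 17700949⟩) (.leaf ⟨262, 32131155, (some true), 1371, 17043521⟩)))
(.node 2 (.node 1 (.leaf ⟨1371, 11079769, none, 1371, 17043521⟩) (.leaf ⟨1371, 19206235, none, 1371, 17043521⟩)) (.node 1 (.leaf ⟨1371, 17043521, none, 1371, 19206235⟩) (.leaf ⟨1371, 17043521, none, 1371, 11079769⟩))))))
(.node 15 (.node 7 (.node 3 (.node 1 (.leaf ⟨1371, 4808797, (some false), 1372, 17043521⟩) (.node 1 (.leaf ⟨1371, 29904967, (some false), 1372, 17702993⟩) (.leaf ⟨1371, 19085399, (some false), 1372, 17766491⟩)))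
(.node 2 (.node 1 (.leaf ⟨1371, 17043521, (some false), 1372, 17070165⟩) (.leaf ⟨1372, 11495495, (some true), 1373, 17043521⟩)) (.node 1 (.leaf ⟨1373, 13510735, (some false), 1374, 17043521⟩) (.leaf ⟨1374, 17043521, (some false), 1373, 29761631⟩))))
(.node 4 (.node 2 (.node 1 (.leaf ⟨262, 21981275, none, 1374, 17657921⟩) (.leaf ⟨1374, 17043521, none, 262, 31662153⟩)) (.node 1 (.leaf ⟨262, 9056345, (some false), 1373, 9189455⟩) (.leaf ⟨262, 7292999, (some false), 1373, 15673419⟩)))
(.node 2 (.node 1 (.leaf ⟨262, 31801425, (some false), 1373, 4880449⟩) (.leaf ⟨262, 6776923, (some false), 1373, 31938627⟩)) (.node 1 (.leaf ⟨262, 13310023, (some true), 1375, 17043521⟩) (.leaf ⟨262, 11495495, (some true), 1377, 17043521⟩)))))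
(.node 8 (.node 4 (.node 2 (.node 1 (.leaf ⟨262, 4544593, (some true), 1377, 19148865⟩) (.leaf ⟨262, 29904967, (some true), 1377, 27619409⟩)) (.node 1 (.leaf ⟨262, 10971209, (some true), 1377, 17133635⟩) (.leaf ⟨1377, 4808797, (some false), 1378, 17043521⟩)))
(.node 2 (.node 1 (.leaf ⟨1378, 17043521, (some false), 1377, 23685197⟩) (.leaf ⟨1366, 19085399, (some false), 1379, 17043521⟩)) (.node 1 (.leaf ⟨1379, 17043521, (some false), 1366, 19560517⟩) (.leaf ⟨1379, 10971209, (some true), 1380, 17043521⟩))))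
(.node 4 (.node 2 (.node 1 (.leaf ⟨1380, 17043521, (some true), 1379, 10971209⟩) (.leaf ⟨1380, 27529303, (some false), 1381, 17043521⟩)) (.node 1 (.leaf ⟨1381, 17043521, (some false), 1380, 25516101⟩) (.leaf ⟨262, 32129119, none, 1381, 19036231⟩)))
(.node 2 (.node 1 (.leaf ⟨1381, 17043521, none, 262, 5064783⟩) (.leaf ⟨1380, 29839439, none, 1373, 15673419⟩)) (.node 1 (.leaf ⟨1380, 17043521, none, 1373, 9001055⟩) (.leaf ⟨1373, 17059919, (some true), 1379, 8536153⟩)))))))
(.node 31 (.node 15 (.node 7 (.node 3 (.node 1 (.leaf ⟨1375, 17043521, (some false), 1382, 17043521⟩) (.node 1 (.leaf ⟨1382, 19085399, (some false), 1383, 17043521⟩) (.leaf ⟨1383, 19085399, (some true), 1384, 17043521⟩)))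
(.node 2 (.node 1 (.leaf ⟨1384, 17043521, (some true), 1383, 19085399⟩) (.leaf ⟨1384, 17043521, (some false), 1385, 17043521⟩)) (.node 1 (.leaf ⟨1385, 17043521, (some false), 1384, 17127489⟩) (.leaf ⟨262, 5124165, none, 1385, 19353689⟩))))
(.node 4 (.node 2 (.node 1 (.leaf ⟨1385, 17043521, none, 262, 23865433⟩) (.leaf ⟨1384, 17061957, none, 1359, 17043521⟩)) (.node 1 (.leaf ⟨1384, 17043521, none, 1359, 17061975⟩) (.leaf ⟨1359, 17059919, (some true), 1383, 19339357⟩)))
(.node 2 (.node 1 (.leaf ⟨1378, 17059919, (some true), 1386, 17043521⟩) (.leaf ⟨1386, 11495495, (some true), 1387, 17043521⟩)) (.node 1 (.leaf ⟨1387, 17043521, (some true), 1386, 11495495⟩) (.leaf ⟨1387, 32131155, (some true), 1388, 17043521⟩)))))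
(.node 8 (.node 4 (.node 2 (.node 1 (.leaf ⟨1388, 17043521, (some true), 1387, 32131155⟩) (.leaf ⟨262, 23343175, none, 1388, 21178449⟩)) (.node 1 (.leaf ⟨1388, 17043521, none, 262, 19083347⟩) (.leaf ⟨1387, 23472203, none, 280, 14833745⟩)))
(.node 2 (.node 1 (.leaf ⟨1387, 17043521, none, 280, 10960985⟩) (.leaf ⟨280, 10971209, (some true), 1386, 19294295⟩)) (.node 1 (.leaf ⟨265, 25385043, (some true), 1395, 17043521⟩) (.leaf ⟨265, 19085399, (some true), 1395, 8925265⟩))))
(.node 4 (.node 2 (.node 1 (.leaf ⟨265, 17059919, (some true), 1395, 25761873⟩) (.leaf ⟨265, 17043521, (some true), 1395, 8990787⟩)) (.node 1 (.leaf ⟨1395, 4808797, (some false), 1404, 17043521⟩) (.leaf ⟨1404, 17043521, (some false), 1395, 23685197⟩)))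
(.node 2 (.node 1 (.leaf ⟨1404, 11495495, (some true), 1405, 17043521⟩) (.leaf ⟨1405, 17043521, (some true), 1404, 11495495⟩)) (.node 1 (.leaf ⟨1405, 13510735, (some false), 1406, 17043521⟩) (.leaf ⟨1406, 17043521, (some false), 1405, 29761631⟩))))))
(.node 15 (.node 7 (.node 3 (.node 1 (.leaf ⟨265, 17657921, none, 1406, 17133657⟩) (.node 1 (.leaf ⟨1406, 17043521, none, 265, 17567835⟩) (.leaf ⟨1405, 31940673, none, 57, 21979225⟩)))
(.node 2 (.node 1 (.leaf ⟨1405, 17043521, none, 57, 15208517⟩) (.leaf ⟨1404, 9330757, none, 286, 19232843⟩)) (.node 1 (.leaf ⟨1404, 17043521, none, 286, 23668831⟩) (.leaf ⟨286, 4808797, (some false), 1395, 4810831⟩))))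
(.node 4 (.node 2 (.node 1 (.leaf ⟨286, 29904967, (some false), 1411, 17043521⟩) (.leaf ⟨1411, 17059919, (some true), 1412, 17043521⟩)) (.node 1 (.leaf ⟨1412, 19085399, (some false), 1413, 17043521⟩) (.leaf ⟨1413, 17043521, (some false), 1412, 19560517⟩)))
(.node 2 (.node 1 (.leaf ⟨265, 17578075, none, 1413, 19554377⟩) (.leaf ⟨1413, 17043521, none, 265, 19019857⟩)) (.node 1 (.leaf ⟨265, 19085399, (some false), 1412, 19034193⟩) (.leaf ⟨266, 32125001, (some false), 1424, 17043521⟩)))))
(.node 8 (.node 4 (.node 2 (.node 1 (.leaf ⟨1424, 19085399, (some false), 1425, 17043521⟩) (.leaf ⟨1425, 19085399, (some false), 1426, 17043521⟩)) (.node 1 (.leaf ⟨1426, 17043521, (some false), 1425, 19560517⟩) (.leaf ⟨266, 30226501, none, 1426, 19882069⟩)))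
(.node 2 (.node 1 (.leaf ⟨1426, 17043521, none, 266, 10709075⟩) (.leaf ⟨266, 10971209, (some false), 1425, 19691589⟩)) (.node 1 (.leaf ⟨266, 17059919, (some true), 1432, 17043521⟩) (.leaf ⟨1432, 17043521, (some false), 1433, 17043521⟩))))
(.node 4 (.node 2 (.node 1 (.leaf ⟨1433, 17043521, (some false), 1432, 17127489⟩) (.leaf ⟨277, 19085399, (some false), 1444, 17043521⟩)) (.node 1 (.leaf ⟨1444, 17043521, (some false), 277, 19560517⟩) (.leaf ⟨1444, 19085399, (some false), 1445, 17043521⟩)))
(.node 2 (.node 1 (.leaf ⟨1445, 17043521, (some false), 1444, 19560517⟩) (.leaf ⟨1445, 17059919, (some true), 1446, 17043521⟩)) (.node 1 (.leaf ⟨1446, 17043521, (some true), 1445, 17059919⟩) (.leaf ⟨1446, 19085399, (some false), 1447, 17043521⟩)))))))))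

/-- The facts. -/
def caseCFullFactsRLLR : Tab Fct := .node 244 caseCFullFactsRLLRL caseCFullFactsRLLRR

/-- The facts. -/
def caseCFullFactsRLL : Tab Fct := .node 488 caseCFullFactsRLLL caseCFullFactsRLLR

/-- The facts. -/
def caseCFullFactsRLRLL : Tab Fct :=
(.node 122 (.node 61 (.node 30 (.node 15 (.node 7 (.node 3 (.node 1 (.leaf ⟨1447, 17043521, (some false), 1446, 19560517⟩) (.node 1 (.leaf ⟨266, 26093645, none, 1447, 19095635⟩) (.leaf ⟨1447, 17043521, none, 266, 4673613⟩)))
(.node 2 (.node 1 (.leaf ⟨1446, 19355737, none, 1425, 19691589⟩) (.leaf ⟨1446, 17043521, none, 1425, 17197145⟩)) (.node 1 (.leaf ⟨1425, 10971209, (some true), 1445, 25434205⟩) (.leaf ⟨266, 4544593, (some true), 1452, 17043521⟩))))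
(.node 4 (.node 2 (.node 1 (.leaf ⟨1452, 13510735, (some false), 1453, 17043521⟩) (.leaf ⟨1453, 25385043, (some true), 1454, 17043521⟩)) (.node 1 (.leaf ⟨1454, 4544593, (some true), 1455, 17043521⟩) (.leaf ⟨1455, 32125001, (some true), 1456, 17043521⟩)))
(.node 2 (.node 1 (.leaf ⟨266, 15226953, none, 1456, 7037015⟩) (.leaf ⟨1456, 17043521, none, 266, 13377621⟩)) (.node 1 (.leaf ⟨280, 19085399, (some false), 1457, 17043521⟩) (.leaf ⟨1457, 19085399, (some true), 1458, 17043521⟩)))))
(.node 7 (.node 3 (.node 1 (.leaf ⟨1458, 11495495, (some true), 1459, 17043521⟩) (.node 1 (.leaf ⟨1459, 13310023, (some true), 1460, 17043521⟩) (.leaf ⟨1460, 17043521, (some true), 1459, 13310023⟩)))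
(.node 2 (.node 1 (.leaf ⟨266, 8546369, none, 1460, 21526613⟩) (.leaf ⟨1460, 17043521, none, 266, 23883857⟩)) (.node 1 (.leaf ⟨1459, 21114957, none, 1452, 17043521⟩) (.leaf ⟨1459, 17043521, none, 1452, 25567301⟩))))
(.node 4 (.node 2 (.node 1 (.leaf ⟨267, 4808797, (some false), 1461, 17043521⟩) (.leaf ⟨267, 10971209, (some false), 1461, 17135689⟩)) (.node 1 (.leaf ⟨1461, 17117265, none, 1461, 17135689⟩) (.leaf ⟨1461, 17043521, none, 1461, 17061979⟩)))
(.node 2 (.node 1 (.leaf ⟨1461, 19085399, (some false), 1462, 17043521⟩) (.leaf ⟨1462, 17567815, none, 1462, 17043521⟩)) (.node 1 (.leaf ⟨1462, 17043521, none, 1462, 17567815⟩) (.leaf ⟨1462, 19085399, (some false), 1463, 17043521⟩))))))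
(.node 15 (.node 7 (.node 3 (.node 1 (.leaf ⟨1463, 17043521, (some false), 1462, 19560517⟩) (.node 1 (.leaf ⟨267, 23685209, none, 1463, 19271759⟩) (.leaf ⟨1463, 17043521, none, 267, 21524565⟩)))
(.node 2 (.node 1 (.leaf ⟨267, 29904967, (some false), 1462, 19691589⟩) (.leaf ⟨267, 13510735, (some false), 1464, 17043521⟩)) (.node 1 (.leaf ⟨267, 7292999, (some false), 1464, 17000519⟩) (.leaf ⟨1464, 19085399, (some false), 1465, 17043521⟩))))
(.node 4 (.node 2 (.node 1 (.leaf ⟨1465, 17043521, (some false), 1464, 19560517⟩) (.leaf ⟨1465, 19085399, (some false), 1466, 17043521⟩)) (.node 1 (.leaf ⟨1466, 17043521, (some false), 1465, 19560517⟩) (.leaf ⟨267, 27613259, none, 1466, 19230807⟩)))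
(.node 2 (.node 1 (.leaf ⟨1466, 17043521, none, 267, 27537477⟩) (.leaf ⟨267, 27529303, (some false), 1465, 19691589⟩)) (.node 1 (.leaf ⟨267, 31801425, (some false), 1465, 19277899⟩) (.leaf ⟨267, 4808797, (some true), 1469, 17043521⟩)))))
(.node 8 (.node 4 (.node 2 (.node 1 (.leaf ⟨267, 31801425, (some true), 1469, 27865155⟩) (.leaf ⟨267, 13310023, (some true), 1469, 25440345⟩)) (.node 1 (.leaf ⟨1469, 19085399, (some false), 1475, 17043521⟩) (.leaf ⟨1475, 10971209, (some true), 1476, 17043521⟩)))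
(.node 2 (.node 1 (.leaf ⟨1476, 17043521, (some true), 1475, 10971209⟩) (.leaf ⟨1476, 13510735, (some false), 1477, 17043521⟩)) (.node 1 (.leaf ⟨1477, 17043521, (some false), 1476, 29761631⟩) (.leaf ⟨267, 13115473, none, 1477, 17567833⟩))))
(.node 4 (.node 2 (.node 1 (.leaf ⟨1477, 17043521, none, 267, 29909081⟩) (.leaf ⟨1476, 4857927, none, 1462, 19691589⟩)) (.node 1 (.leaf ⟨1476, 17043521, none, 1462, 28194883⟩) (.leaf ⟨1462, 25385043, (some true), 1475, 8546395⟩)))
(.node 2 (.node 1 (.leaf ⟨1462, 19085399, (some true), 1475, 17721419⟩) (.leaf ⟨1349, 19085399, (some false), 1478, 17043521⟩)) (.node 1 (.leaf ⟨1478, 17043521, (some false), 1349, 19560517⟩) (.leaf ⟨1478, 17059919, (some true), 1479, 17043521⟩)))))))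
(.node 30 (.node 15 (.node 7 (.node 3 (.node 1 (.leaf ⟨1479, 17043521, (some true), 1478, 17059919⟩) (.node 1 (.leaf ⟨1479, 17043521, (some false), 1480, 17043521⟩) (.leaf ⟨1480, 17043521, (some false), 1479, 17127489⟩)))
(.node 2 (.node 1 (.leaf ⟨267, 17506393, none, 1480, 17698899⟩) (.leaf ⟨1480, 17043521, none, 267, 17526879⟩)) (.node 1 (.leaf ⟨1479, 17512517, none, 259, 25516101⟩) (.leaf ⟨1479, 17043521, none, 259, 13574209⟩))))
(.node 4 (.node 2 (.node 1 (.leaf ⟨1478, 27613263, none, 277, 5189727⟩) (.leaf ⟨1478, 17043521, none, 277, 31936601⟩)) (.node 1 (.leaf ⟨277, 13510735, (some false), 1349, 19877955⟩) (.leaf ⟨1469, 13510735, (some false), 1482, 17043521⟩)))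
(.node 2 (.node 1 (.leaf ⟨1482, 17043521, (some false), 1469, 29761631⟩) (.leaf ⟨267, 4544593, (some true), 1486, 17043521⟩)) (.node 1 (.leaf ⟨1486, 17043521, (some true), 267, 4544593⟩) (.leaf ⟨267, 29904967, (some true), 1486, 17068107⟩)))))
(.node 7 (.node 3 (.node 1 (.leaf ⟨1486, 27529303, (some false), 1487, 17043521⟩) (.node 1 (.leaf ⟨1487, 19085399, (some false), 1488, 17043521⟩) (.leaf ⟨1488, 25385043, (some true), 1489, 17043521⟩)))
(.node 2 (.node 1 (.leaf ⟨1489, 29904967, (some false), 1490, 17043521⟩) (.leaf ⟨1490, 17043521, (some false), 1489, 13113429⟩)) (.node 1 (.leaf ⟨267, 29954113, none, 1490, 19755095⟩) (.leaf ⟨1490, 17043521, none, 267, 4733023⟩))))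
(.node 4 (.node 2 (.node 1 (.leaf ⟨1489, 29911115, none, 1462, 19691589⟩) (.leaf ⟨1489, 17043521, none, 1462, 10700891⟩)) (.node 1 (.leaf ⟨1482, 19085399, (some false), 1491, 17043521⟩) (.leaf ⟨1491, 17043521, (some false), 1482, 19560517⟩)))
(.node 2 (.node 1 (.leaf ⟨1491, 10971209, (some true), 1492, 17043521⟩) (.leaf ⟨1492, 17043521, (some true), 1491, 10971209⟩)) (.node 1 (.leaf ⟨1492, 27529303, (some false), 1493, 17043521⟩) (.leaf ⟨1493, 17043521, (some false), 1492, 25516101⟩))))))
(.node 15 (.node 7 (.node 3 (.node 1 (.leaf ⟨267, 6780999, none, 1493, 19812423⟩) (.node 1 (.leaf ⟨1493, 17043521, none, 267, 21768257⟩) (.leaf ⟨267, 23928925, (some false), 1492, 25514063⟩)))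
(.node 2 (.node 1 (.leaf ⟨1492, 11292745, none, 1492, 25514063⟩) (.leaf ⟨1492, 15618121, none, 1492, 25514063⟩)) (.node 1 (.leaf ⟨1492, 17043521, none, 1492, 23531613⟩) (.leaf ⟨1492, 13310023, (some true), 1491, 9390169⟩))))
(.node 4 (.node 2 (.node 1 (.leaf ⟨1492, 17043521, none, 1492, 8917085⟩) (.leaf ⟨1492, 17059919, (some true), 1491, 10960977⟩)) (.node 1 (.leaf ⟨1295, 11495495, (some true), 1494, 17043521⟩) (.leaf ⟨1494, 17043521, (some true), 1295, 11495495⟩)))
(.node 2 (.node 1 (.leaf ⟨1494, 32131155, (some true), 1495, 17043521⟩) (.leaf ⟨1495, 17043521, (some true), 1494, 32131155⟩)) (.node 1 (.leaf ⟨1495, 13310023, (some true), 1496, 17043521⟩) (.leaf ⟨1496, 17043521, (some true), 1495, 13310023⟩)))))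
(.node 8 (.node 4 (.node 2 (.node 1 (.leaf ⟨267, 28258381, none, 1496, 21508183⟩) (.leaf ⟨1496, 17043521, none, 267, 23531607⟩)) (.node 1 (.leaf ⟨1495, 13570135, none, 1469, 25440345⟩) (.leaf ⟨1495, 17043521, none, 1469, 15351891⟩)))
(.node 2 (.node 1 (.leaf ⟨1469, 32131155, (some true), 1494, 21446731⟩) (.leaf ⟨272, 23928925, (some false), 1500, 17043521⟩)) (.node 1 (.leaf ⟨1500, 17043521, (some false), 272, 4991053⟩) (.leaf ⟨272, 6776923, (some false), 1500, 17111109⟩))))
(.node 4 (.node 2 (.node 1 (.leaf ⟨272, 13310023, (some false), 1500, 17178689⟩) (.leaf ⟨272, 25385043, (some true), 1503, 17043521⟩)) (.node 1 (.leaf ⟨1503, 27539523, none, 1503, 17043521⟩) (.leaf ⟨1503, 25440331, none, 1503, 17043521⟩)))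
(.node 2 (.node 1 (.leaf ⟨1503, 17043521, none, 1503, 25440331⟩) (.leaf ⟨1503, 17043521, none, 1503, 27539523⟩)) (.node 1 (.leaf ⟨1503, 17059919, (some true), 1504, 17043521⟩) (.leaf ⟨1504, 17043521, (some true), 1503, 17059919⟩))))))))
(.node 61 (.node 30 (.node 15 (.node 7 (.node 3 (.node 1 (.leaf ⟨1504, 17059919, (some true), 1505, 17043521⟩) (.node 1 (.leaf ⟨1505, 17043521, (some true), 1504, 17059919⟩) (.leaf ⟨272, 19542081, none, 1505, 25710663⟩)))
(.node 2 (.node 1 (.leaf ⟨1505, 17043521, none, 272, 10637391⟩) (.leaf ⟨272, 19085399, (some true), 1504, 27555909⟩)) (.node 1 (.leaf ⟨272, 29904967, (some true), 1506, 17043521⟩) (.leaf ⟨1506, 17043521, (some true), 272, 29904967⟩))))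
(.node 4 (.node 2 (.node 1 (.leaf ⟨272, 13310023, (some true), 1506, 9007171⟩) (.leaf ⟨272, 4544593, (some true), 1506, 27596889⟩)) (.node 1 (.leaf ⟨272, 32125001, (some true), 1506, 27605073⟩) (.leaf ⟨1506, 17059919, (some true), 1507, 17043521⟩)))
(.node 2 (.node 1 (.leaf ⟨1507, 17059919, (some true), 1508, 17043521⟩) (.leaf ⟨1508, 17043521, (some true), 1507, 17059919⟩)) (.node 1 (.leaf ⟨272, 7092311, none, 1508, 25776221⟩) (.leaf ⟨1508, 17043521, none, 272, 13129817⟩)))))
(.node 7 (.node 3 (.node 1 (.leaf ⟨1507, 25770069, none, 1506, 27596889⟩) (.node 1 (.leaf ⟨1507, 17043521, none, 1506, 19691591⟩) (.leaf ⟨272, 4808797, (some true), 1509, 17043521⟩)))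
(.node 2 (.node 1 (.leaf ⟨272, 13510735, (some true), 1509, 19748947⟩) (.leaf ⟨272, 31801425, (some true), 1509, 25776211⟩)) (.node 1 (.leaf ⟨272, 32131155, (some true), 1509, 25702473⟩) (.leaf ⟨1509, 13510735, (some false), 1510, 17043521⟩))))
(.node 4 (.node 2 (.node 1 (.leaf ⟨1503, 17043521, (some false), 1511, 17043521⟩) (.leaf ⟨1503, 13510735, (some false), 1511, 17782865⟩)) (.node 1 (.leaf ⟨1503, 19085399, (some false), 1511, 17786947⟩) (.leaf ⟨1503, 27529303, (some false), 1511, 16998469⟩)))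
(.node 2 (.node 1 (.leaf ⟨1511, 25385043, (some true), 1512, 17043521⟩) (.leaf ⟨1512, 4808797, (some false), 1513, 17043521⟩)) (.node 1 (.leaf ⟨1513, 17043521, (some false), 1512, 23685197⟩) (.leaf ⟨272, 27922523, none, 1513, 17768541⟩))))))
(.node 15 (.node 7 (.node 3 (.node 1 (.leaf ⟨1513, 17043521, none, 272, 23558237⟩) (.node 1 (.leaf ⟨1512, 27859039, none, 1500, 17178689⟩) (.leaf ⟨1512, 17043521, none, 1500, 11493463⟩)))
(.node 2 (.node 1 (.leaf ⟨1509, 19085399, (some false), 1514, 17043521⟩) (.leaf ⟨1514, 17043521, (some false), 1509, 19560517⟩)) (.node 1 (.leaf ⟨1506, 17043521, (some false), 1518, 17043521⟩) (.leaf ⟨272, 17059919, (some true), 1519, 17043521⟩))))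
(.node 4 (.node 2 (.node 1 (.leaf ⟨1519, 17584195, none, 1519, 17043521⟩) (.leaf ⟨1519, 17651793, none, 1519, 17043521⟩)) (.node 1 (.leaf ⟨1519, 17043521, none, 1519, 17651793⟩) (.leaf ⟨1519, 17043521, none, 1519, 17584195⟩)))
(.node 2 (.node 1 (.leaf ⟨272, 10971209, (some true), 1521, 17043521⟩) (.leaf ⟨1521, 13510735, (some false), 1522, 17043521⟩)) (.node 1 (.leaf ⟨1522, 19085399, (some false), 1523, 17043521⟩) (.leaf ⟨1523, 10971209, (some true), 1524, 17043521⟩)))))
(.node 8 (.node 4 (.node 2 (.node 1 (.leaf ⟨1524, 27529303, (some false), 1525, 17043521⟩) (.leaf ⟨1525, 17043521, (some false), 1524, 25516101⟩)) (.node 1 (.leaf ⟨272, 17524827, none, 1525, 19353671⟩) (.leaf ⟨1525, 17043521, none, 272, 19083353⟩)))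
(.node 2 (.node 1 (.leaf ⟨1524, 9244765, none, 273, 19740751⟩) (.leaf ⟨1524, 17043521, none, 273, 25450585⟩)) (.node 1 (.leaf ⟨1510, 19085399, (some false), 1526, 17043521⟩) (.leaf ⟨1526, 10971209, (some true), 1527, 17043521⟩))))
(.node 4 (.node 2 (.node 1 (.leaf ⟨1527, 17043521, (some true), 1526, 10971209⟩) (.leaf ⟨1527, 27529303, (some false), 1528, 17043521⟩)) (.node 1 (.leaf ⟨1528, 17043521, (some false), 1527, 25516101⟩) (.leaf ⟨272, 12935233, none, 1528, 19036255⟩)))
(.node 2 (.node 1 (.leaf ⟨1528, 17043521, none, 272, 21968965⟩) (.leaf ⟨1527, 21192775, none, 1500, 17178689⟩)) (.node 1 (.leaf ⟨1527, 17043521, none, 1500, 27949129⟩) (.leaf ⟨1500, 25385043, (some true), 1526, 9128003⟩)))))))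
(.node 30 (.node 15 (.node 7 (.node 3 (.node 1 (.leaf ⟨275, 13510735, (some false), 1529, 17043521⟩) (.node 1 (.leaf ⟨275, 17043521, (some false), 1529, 17178691⟩) (.leaf ⟨275, 27529303, (some false), 1529, 17786965⟩)))
(.node 2 (.node 1 (.leaf ⟨275, 19085399, (some false), 1529, 16922689⟩) (.leaf ⟨275, 32125001, (some false), 1529, 16920655⟩)) (.node 1 (.leaf ⟨275, 6776923, (some false), 1529, 17059909⟩) (.leaf ⟨275, 10971209, (some false), 1529, 17059911⟩))))
(.node 4 (.node 2 (.node 1 (.leaf ⟨1529, 17786951, none, 1529, 17178691⟩) (.leaf ⟨1529, 17043521, none, 1529, 17651789⟩)) (.node 1 (.leaf ⟨1529, 25385043, (some true), 1530, 17043521⟩) (.leaf ⟨1530, 17059913, none, 1530, 17043521⟩)))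
(.node 2 (.node 1 (.leaf ⟨1530, 17043521, none, 1530, 17059913⟩) (.leaf ⟨1530, 4544593, (some true), 1531, 17043521⟩)) (.node 1 (.leaf ⟨1531, 17043521, (some true), 1530, 4544593⟩) (.leaf ⟨1530, 31801425, (some true), 1531, 19208275⟩)))))
(.node 7 (.node 3 (.node 1 (.leaf ⟨1531, 32125001, (some true), 1532, 17043521⟩) (.node 1 (.leaf ⟨1532, 17043521, (some true), 1531, 32125001⟩) (.leaf ⟨272, 27555929, none, 1532, 21110853⟩)))
(.node 2 (.node 1 (.leaf ⟨1532, 17043521, none, 272, 31610965⟩) (.leaf ⟨1531, 23992401, none, 1506, 9007171⟩)) (.node 1 (.leaf ⟨1531, 17043521, none, 1506, 27992151⟩) (.leaf ⟨1506, 11495495, (some true), 1530, 21827667⟩))))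
(.node 4 (.node 2 (.node 1 (.leaf ⟨1514, 17043521, (some true), 1533, 17043521⟩) (.leaf ⟨1533, 17043521, (some true), 1514, 17043521⟩)) (.node 1 (.leaf ⟨1533, 11495495, (some true), 1534, 17043521⟩) (.leaf ⟨1534, 17043521, (some true), 1533, 11495495⟩)))
(.node 2 (.node 1 (.leaf ⟨1534, 32131155, (some true), 1535, 17043521⟩) (.leaf ⟨1535, 17043521, (some true), 1534, 32131155⟩)) (.node 1 (.leaf ⟨272, 21112925, none, 1535, 4925505⟩) (.leaf ⟨1535, 17043521, none, 272, 11014221⟩))))))
(.node 15 (.node 7 (.node 3 (.node 1 (.leaf ⟨1534, 24076377, none, 1519, 17043521⟩) (.node 1 (.leaf ⟨1534, 17043521, none, 1519, 30160965⟩) (.leaf ⟨1519, 29904967, (some true), 1533, 16982093⟩)))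
(.node 2 (.node 1 (.leaf ⟨1519, 32131155, (some true), 1533, 28254303⟩) (.leaf ⟨1519, 4544593, (some true), 1533, 28254295⟩)) (.node 1 (.leaf ⟨1519, 13510735, (some true), 1533, 17770583⟩) (.leaf ⟨273, 29904967, (some false), 1536, 17043521⟩))))
(.node 4 (.node 2 (.node 1 (.leaf ⟨1536, 19085399, (some false), 1537, 17043521⟩) (.leaf ⟨1537, 19085399, (some false), 1538, 17043521⟩)) (.node 1 (.leaf ⟨1538, 17043521, (some false), 1537, 19560517⟩) (.leaf ⟨273, 23617623, none, 1538, 19621955⟩)))
(.node 2 (.node 1 (.leaf ⟨1538, 17043521, none, 273, 8984651⟩) (.leaf ⟨273, 4808797, (some false), 1537, 19877955⟩)) (.node 1 (.leaf ⟨273, 10971209, (some true), 1542, 17043521⟩) (.leaf ⟨1542, 8917059, none, 1542, 17043521⟩)))))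
(.node 8 (.node 4 (.node 2 (.node 1 (.leaf ⟨1542, 19206235, none, 1542, 17043521⟩) (.leaf ⟨1542, 17043521, none, 1542, 19206235⟩)) (.node 1 (.leaf ⟨1542, 17043521, none, 1542, 8917059⟩) (.leaf ⟨1542, 17059919, (some true), 1543, 17043521⟩)))
(.node 2 (.node 1 (.leaf ⟨1543, 19140681, none, 1543, 17043521⟩) (.leaf ⟨1543, 27529283, none, 1543, 17043521⟩)) (.node 1 (.leaf ⟨1543, 17043521, none, 1543, 27529283⟩) (.leaf ⟨1543, 17043521, none, 1543, 19140681⟩))))
(.node 4 (.node 2 (.node 1 (.leaf ⟨1543, 17059919, (some true), 1544, 17043521⟩) (.leaf ⟨1544, 17043521, (some true), 1543, 17059919⟩)) (.node 1 (.leaf ⟨273, 19554369, none, 1544, 11276359⟩) (.leaf ⟨1544, 17043521, none, 273, 26157127⟩)))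
(.node 2 (.node 1 (.leaf ⟨273, 11495495, (some true), 1543, 17651805⟩) (.leaf ⟨273, 13510735, (some true), 1546, 17043521⟩)) (.node 1 (.leaf ⟨1546, 17043521, (some true), 273, 13510735⟩) (.leaf ⟨1543, 17043521, (some false), 1548, 17043521⟩)))))))))

/-- The facts. -/
def caseCFullFactsRLRLR : Tab Fct :=
(.node 122 (.node 61 (.node 30 (.node 15 (.node 7 (.node 3 (.node 1 (.leaf ⟨1543, 27529303, (some false), 1548, 17633367⟩) (.node 1 (.leaf ⟨1543, 13510735, (some false), 1548, 16920643⟩) (.leaf ⟨1543, 19085399, (some false), 1548, 17246275⟩)))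
(.node 2 (.node 1 (.leaf ⟨1548, 19085399, (some true), 1549, 17043521⟩) (.leaf ⟨1549, 19085399, (some false), 1550, 17043521⟩)) (.node 1 (.leaf ⟨1550, 17043521, (some false), 1549, 19560517⟩) (.leaf ⟨273, 9134157, none, 1550, 17178705⟩))))
(.node 4 (.node 2 (.node 1 (.leaf ⟨1550, 17043521, none, 273, 5197913⟩) (.leaf ⟨273, 10971209, (some false), 1549, 19339351⟩)) (.node 1 (.leaf ⟨273, 31801425, (some false), 1549, 19206213⟩) (.leaf ⟨273, 7292999, (some false), 1549, 19624031⟩)))
(.node 2 (.node 1 (.leaf ⟨273, 32125001, (some false), 1549, 19675203⟩) (.leaf ⟨273, 31801425, (some true), 1554, 17043521⟩)) (.node 1 (.leaf ⟨273, 29904967, (some true), 1554, 27605073⟩) (.leaf ⟨273, 4544593, (some true), 1554, 17045577⟩)))))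
(.node 7 (.node 3 (.node 1 (.leaf ⟨273, 4808797, (some true), 1554, 9261137⟩) (.node 1 (.leaf ⟨1554, 19085399, (some false), 1557, 17043521⟩) (.leaf ⟨1368, 13310023, (some false), 1559, 17043521⟩)))
(.node 2 (.node 1 (.leaf ⟨1559, 17043521, (some false), 1368, 29511765⟩) (.leaf ⟨1559, 19085399, (some false), 1560, 17043521⟩)) (.node 1 (.leaf ⟨1560, 17043521, (some false), 1559, 19560517⟩) (.leaf ⟨1560, 10971209, (some true), 1561, 17043521⟩))))
(.node 4 (.node 2 (.node 1 (.leaf ⟨1561, 17043521, (some true), 1560, 10971209⟩) (.leaf ⟨1561, 27529303, (some false), 1562, 17043521⟩)) (.node 1 (.leaf ⟨1562, 17043521, (some false), 1561, 25516101⟩) (.leaf ⟨273, 27801685, none, 1562, 19560519⟩)))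
(.node 2 (.node 1 (.leaf ⟨1562, 17043521, none, 273, 32069713⟩) (.leaf ⟨1561, 6959189, none, 1537, 19877955⟩)) (.node 1 (.leaf ⟨1561, 17043521, none, 1537, 26091595⟩) (.leaf ⟨1537, 10971209, (some true), 1560, 26091595⟩))))))
(.node 15 (.node 7 (.node 3 (.node 1 (.leaf ⟨1554, 13510735, (some false), 1563, 17043521⟩) (.node 1 (.leaf ⟨1563, 19085399, (some false), 1564, 17043521⟩) (.leaf ⟨1564, 10971209, (some true), 1565, 17043521⟩)))
(.node 2 (.node 1 (.leaf ⟨1565, 27529303, (some false), 1566, 17043521⟩) (.leaf ⟨1566, 17043521, (some false), 1565, 25516101⟩)) (.node 1 (.leaf ⟨273, 32004189, none, 1566, 19288133⟩) (.leaf ⟨1566, 17043521, none, 273, 25761869⟩))))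
(.node 4 (.node 2 (.node 1 (.leaf ⟨1565, 9269327, none, 1537, 19877955⟩) (.leaf ⟨1565, 17043521, none, 1537, 25383007⟩)) (.node 1 (.leaf ⟨1557, 19085399, (some true), 1567, 17043521⟩) (.leaf ⟨1567, 17043521, (some true), 1557, 19085399⟩)))
(.node 2 (.node 1 (.leaf ⟨1567, 11495495, (some true), 1568, 17043521⟩) (.leaf ⟨1568, 17043521, (some true), 1567, 11495495⟩)) (.node 1 (.leaf ⟨1568, 13310023, (some true), 1569, 17043521⟩) (.leaf ⟨1569, 17043521, (some true), 1568, 13310023⟩)))))
(.node 8 (.node 4 (.node 2 (.node 1 (.leaf ⟨273, 21303387, none, 1569, 23623765⟩) (.leaf ⟨1569, 17043521, none, 273, 19621965⟩)) (.node 1 (.leaf ⟨1568, 13506655, none, 1543, 17651805⟩) (.leaf ⟨1568, 17043521, none, 1543, 25587779⟩)))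
(.node 2 (.node 1 (.leaf ⟨1543, 25385043, (some true), 1567, 10971215⟩) (.leaf ⟨1543, 32125001, (some true), 1567, 27738183⟩)) (.node 1 (.leaf ⟨1543, 13310023, (some true), 1567, 9396317⟩) (.leaf ⟨1543, 19085399, (some true), 1567, 17705047⟩))))
(.node 4 (.node 2 (.node 1 (.leaf ⟨1546, 29904967, (some false), 1570, 17043521⟩) (.leaf ⟨1570, 17043521, (some false), 1546, 13113429⟩)) (.node 1 (.leaf ⟨1570, 19085399, (some true), 1571, 17043521⟩) (.leaf ⟨1571, 17043521, (some true), 1570, 19085399⟩)))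
(.node 2 (.node 1 (.leaf ⟨1571, 10971209, (some true), 1572, 17043521⟩) (.leaf ⟨1572, 17043521, (some true), 1571, 10971209⟩)) (.node 1 (.leaf ⟨1572, 32131155, (some true), 1573, 17043521⟩) (.leaf ⟨1573, 17043521, (some true), 1572, 32131155⟩)))))))
(.node 30 (.node 15 (.node 7 (.node 3 (.node 1 (.leaf ⟨273, 31598661, none, 1573, 7026757⟩) (.node 1 (.leaf ⟨1573, 17043521, none, 273, 29972545⟩) (.leaf ⟨1572, 6709339, none, 1554, 17045577⟩)))
(.node 2 (.node 1 (.leaf ⟨1572, 17043521, none, 1554, 32325725⟩) (.leaf ⟨1554, 4808797, (some true), 1571, 17786969⟩)) (.node 1 (.leaf ⟨275, 4808797, (some true), 1576, 17043521⟩) (.leaf ⟨1576, 17059919, (some true), 1577, 17043521⟩))))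
(.node 4 (.node 2 (.node 1 (.leaf ⟨1577, 17059919, (some true), 1578, 17043521⟩) (.leaf ⟨1578, 17043521, (some true), 1577, 17059919⟩)) (.node 1 (.leaf ⟨275, 29714525, none, 1578, 9205845⟩) (.leaf ⟨1578, 17043521, none, 275, 6891601⟩)))
(.node 2 (.node 1 (.leaf ⟨275, 31801425, (some true), 1577, 27605063⟩) (.leaf ⟨1519, 17059919, (some true), 1579, 17043521⟩)) (.node 1 (.leaf ⟨1579, 17043521, (some true), 1519, 17059919⟩) (.leaf ⟨275, 9269325, none, 1579, 27791439⟩)))))
(.node 7 (.node 3 (.node 1 (.leaf ⟨1579, 17043521, none, 275, 27809859⟩) (.node 1 (.leaf ⟨1519, 27791431, none, 274, 25385043⟩) (.leaf ⟨1519, 27791431, none, 272, 27865169⟩)))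
(.node 2 (.node 1 (.leaf ⟨1519, 17043521, none, 272, 17135695⟩) (.leaf ⟨1533, 28002389, none, 1509, 25702473⟩)) (.node 1 (.leaf ⟨1533, 17043521, none, 1509, 19095647⟩) (.leaf ⟨1509, 11495495, (some true), 1514, 27619419⟩))))
(.node 4 (.node 2 (.node 1 (.leaf ⟨275, 19085399, (some true), 1580, 17043521⟩) (.leaf ⟨275, 32125001, (some true), 1580, 27859033⟩)) (.node 1 (.leaf ⟨275, 25385043, (some true), 1580, 11300955⟩) (.leaf ⟨275, 13310023, (some true), 1580, 9252955⟩)))
(.node 2 (.node 1 (.leaf ⟨1580, 17576017, none, 1580, 27859033⟩) (.leaf ⟨1580, 11286603, none, 1580, 9252955⟩)) (.node 1 (.leaf ⟨1580, 17043521, none, 1580, 19208283⟩) (.leaf ⟨1580, 17043521, none, 1580, 11106393⟩))))))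
(.node 15 (.node 7 (.node 3 (.node 1 (.leaf ⟨1580, 17043521, (some false), 1581, 17043521⟩) (.node 1 (.leaf ⟨1580, 19085399, (some false), 1581, 17262657⟩) (.leaf ⟨1580, 29904967, (some false), 1581, 17510485⟩)))
(.node 2 (.node 1 (.leaf ⟨1580, 4808797, (some false), 1581, 17768541⟩) (.leaf ⟨1577, 19085399, (some false), 1584, 17043521⟩)) (.node 1 (.leaf ⟨1584, 17043521, (some false), 1577, 19560517⟩) (.leaf ⟨1584, 11495495, (some true), 1585, 17043521⟩))))
(.node 4 (.node 2 (.node 1 (.leaf ⟨1585, 17043521, (some true), 1584, 11495495⟩) (.leaf ⟨1585, 13510735, (some false), 1586, 17043521⟩)) (.node 1 (.leaf ⟨1586, 17043521, (some false), 1585, 29761631⟩) (.leaf ⟨275, 6840387, none, 1586, 17119313⟩)))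
(.node 2 (.node 1 (.leaf ⟨1586, 17043521, none, 275, 15231059⟩) (.leaf ⟨1585, 21110867, none, 276, 17043521⟩)) (.node 1 (.leaf ⟨1585, 21110867, none, 53, 24070235⟩) (.leaf ⟨1585, 17043521, none, 53, 19621957⟩)))))
(.node 8 (.node 4 (.node 2 (.node 1 (.leaf ⟨1584, 10633295, none, 57, 25382999⟩) (.leaf ⟨1584, 17043521, none, 57, 23408727⟩)) (.node 1 (.leaf ⟨57, 9056345, (some false), 1577, 19877983⟩) (.leaf ⟨1581, 25385043, (some true), 1587, 17043521⟩)))
(.node 2 (.node 1 (.leaf ⟨1587, 4808797, (some false), 1588, 17043521⟩) (.leaf ⟨1588, 17043521, (some false), 1587, 23685197⟩)) (.node 1 (.leaf ⟨275, 6707291, none, 1588, 17522783⟩) (.leaf ⟨1588, 17043521, none, 275, 25632859⟩))))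
(.node 4 (.node 2 (.node 1 (.leaf ⟨1587, 4810847, none, 1529, 17059911⟩) (.leaf ⟨1587, 17043521, none, 1529, 10905671⟩)) (.node 1 (.leaf ⟨1580, 13510735, (some false), 1592, 17043521⟩) (.leaf ⟨1592, 17043521, (some false), 1580, 29761631⟩)))
(.node 2 (.node 1 (.leaf ⟨1592, 19085399, (some false), 1593, 17043521⟩) (.leaf ⟨1593, 17043521, (some false), 1592, 19560517⟩)) (.node 1 (.leaf ⟨1593, 10971209, (some true), 1594, 17043521⟩) (.leaf ⟨1594, 17043521, (some true), 1593, 10971209⟩))))))))
(.node 61 (.node 30 (.node 15 (.node 7 (.node 3 (.node 1 (.leaf ⟨1594, 27529303, (some false), 1595, 17043521⟩) (.node 1 (.leaf ⟨1595, 17043521, (some false), 1594, 25516101⟩) (.leaf ⟨275, 27416647, none, 1595, 19812423⟩)))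
(.node 2 (.node 1 (.leaf ⟨1595, 17043521, none, 275, 30087233⟩) (.leaf ⟨275, 13310023, (some false), 1594, 9263169⟩)) (.node 1 (.leaf ⟨1594, 13588565, none, 1594, 9263169⟩) (.leaf ⟨1594, 29841489, none, 1594, 9263169⟩))))
(.node 4 (.node 2 (.node 1 (.leaf ⟨1594, 17043521, none, 1594, 23531611⟩) (.leaf ⟨1594, 17043521, none, 1594, 13242439⟩)) (.node 1 (.leaf ⟨1594, 13310023, (some true), 1593, 9330779⟩) (.leaf ⟨1594, 17059919, (some true), 1593, 10700891⟩)))
(.node 2 (.node 1 (.leaf ⟨1581, 17043521, (some true), 1599, 17043521⟩) (.leaf ⟨1599, 10971209, (some true), 1600, 17043521⟩)) (.node 1 (.leaf ⟨1600, 17043521, (some true), 1599, 10971209⟩) (.leaf ⟨1600, 13310023, (some true), 1601, 17043521⟩)))))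
(.node 7 (.node 3 (.node 1 (.leaf ⟨1601, 17043521, (some true), 1600, 13310023⟩) (.node 1 (.leaf ⟨275, 17447005, none, 1601, 6905923⟩) (.leaf ⟨1601, 17043521, none, 275, 11302997⟩)))
(.node 2 (.node 1 (.leaf ⟨1600, 29825103, none, 274, 25915457⟩) (.leaf ⟨1600, 29825103, none, 272, 27531331⟩)) (.node 1 (.leaf ⟨1600, 17043521, none, 272, 21368907⟩) (.leaf ⟨1599, 25307209, none, 1506, 27605073⟩))))
(.node 4 (.node 2 (.node 1 (.leaf ⟨1599, 17043521, none, 1506, 19017809⟩) (.leaf ⟨277, 19085399, (some true), 1611, 17043521⟩)) (.node 1 (.leaf ⟨1611, 17059919, (some true), 1612, 17043521⟩) (.leaf ⟨1612, 17043521, (some true), 1611, 17059919⟩)))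
(.node 2 (.node 1 (.leaf ⟨1612, 17059919, (some true), 1613, 17043521⟩) (.leaf ⟨1613, 17043521, (some true), 1612, 17059919⟩)) (.node 1 (.leaf ⟨277, 17174623, none, 1613, 19673159⟩) (.leaf ⟨1613, 17043521, none, 277, 19036233⟩))))))
(.node 15 (.node 7 (.node 3 (.node 1 (.leaf ⟨277, 25385043, (some true), 1612, 8943685⟩) (.node 1 (.leaf ⟨1611, 17043521, (some false), 1616, 17043521⟩) (.leaf ⟨1616, 25385043, (some true), 1617, 17043521⟩)))
(.node 2 (.node 1 (.leaf ⟨1617, 17043521, (some true), 1616, 25385043⟩) (.leaf ⟨1617, 4808797, (some false), 1618, 17043521⟩)) (.node 1 (.leaf ⟨1618, 17043521, (some false), 1617, 23685197⟩) (.leaf ⟨277, 19798087, none, 1618, 16998487⟩))))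
(.node 4 (.node 2 (.node 1 (.leaf ⟨1618, 17043521, none, 277, 19341393⟩) (.leaf ⟨1617, 13176909, none, 1444, 17043521⟩)) (.node 1 (.leaf ⟨1617, 17043521, none, 1444, 11145297⟩) (.leaf ⟨1444, 25385043, (some true), 1616, 11145297⟩)))
(.node 2 (.node 1 (.leaf ⟨277, 32131155, (some true), 1619, 17043521⟩) (.leaf ⟨1619, 19085399, (some false), 1622, 17043521⟩)) (.node 1 (.leaf ⟨1622, 19085399, (some false), 1623, 17043521⟩) (.leaf ⟨1623, 17059919, (some true), 1624, 17043521⟩)))))
(.node 8 (.node 4 (.node 2 (.node 1 (.leaf ⟨1624, 19085399, (some false), 1625, 17043521⟩) (.leaf ⟨277, 12730459, none, 1625, 19079249⟩)) (.node 1 (.leaf ⟨1625, 17043521, none, 277, 15026247⟩) (.leaf ⟨1622, 19085399, (some true), 1626, 17043521⟩)))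
(.node 2 (.node 1 (.leaf ⟨1626, 17043521, (some true), 1622, 19085399⟩) (.leaf ⟨1626, 11495495, (some true), 1627, 17043521⟩)) (.node 1 (.leaf ⟨1627, 17043521, (some true), 1626, 11495495⟩) (.leaf ⟨1627, 13310023, (some true), 1628, 17043521⟩))))
(.node 4 (.node 2 (.node 1 (.leaf ⟨1628, 17043521, (some true), 1627, 13310023⟩) (.leaf ⟨277, 23478363, none, 1628, 21508167⟩)) (.node 1 (.leaf ⟨1628, 17043521, none, 277, 19013709⟩) (.leaf ⟨277, 11495495, (some true), 1627, 14905415⟩)))
(.node 2 (.node 1 (.leaf ⟨280, 32125001, (some false), 1634, 17043521⟩) (.leaf ⟨1634, 19085399, (some false), 1635, 17043521⟩)) (.node 1 (.leaf ⟨1635, 17043521, (some false), 1634, 19560517⟩) (.leaf ⟨1635, 19085399, (some false), 1636, 17043521⟩)))))))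
(.node 30 (.node 15 (.node 7 (.node 3 (.node 1 (.leaf ⟨1636, 17043521, (some false), 1635, 19560517⟩) (.node 1 (.leaf ⟨280, 11165765, none, 1636, 19159125⟩) (.leaf ⟨1636, 17043521, none, 280, 10709075⟩)))
(.node 2 (.node 1 (.leaf ⟨280, 10971209, (some false), 1635, 19691589⟩) (.leaf ⟨280, 4544593, (some true), 1637, 17043521⟩)) (.node 1 (.leaf ⟨1637, 17059919, (some true), 1638, 17043521⟩) (.leaf ⟨1638, 17059919, (some true), 1639, 17043521⟩))))
(.node 4 (.node 2 (.node 1 (.leaf ⟨1639, 17043521, (some true), 1638, 17059919⟩) (.leaf ⟨280, 4544603, none, 1639, 17635399⟩)) (.node 1 (.leaf ⟨1639, 17043521, none, 280, 7098445⟩) (.leaf ⟨280, 29904967, (some true), 1638, 25768023⟩)))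
(.node 2 (.node 1 (.leaf ⟨280, 13310023, (some false), 1640, 17043521⟩) (.leaf ⟨1321, 10971209, (some false), 1641, 17043521⟩)) (.node 1 (.leaf ⟨1641, 17043521, (some false), 1321, 9396299⟩) (.leaf ⟨1321, 27529303, (some false), 1641, 17522771⟩)))))
(.node 7 (.node 3 (.node 1 (.leaf ⟨1321, 29904967, (some false), 1641, 17176647⟩) (.node 1 (.leaf ⟨1641, 25385043, (some true), 1642, 17043521⟩) (.leaf ⟨1642, 4808797, (some false), 1643, 17043521⟩)))
(.node 2 (.node 1 (.leaf ⟨1643, 17043521, (some false), 1642, 23685197⟩) (.leaf ⟨280, 32196679, none, 1643, 17786965⟩)) (.node 1 (.leaf ⟨1643, 17043521, none, 280, 9390163⟩) (.leaf ⟨280, 7292999, (some false), 1642, 13180993⟩))))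
(.node 4 (.node 2 (.node 1 (.leaf ⟨280, 17059919, (some true), 1644, 17043521⟩) (.leaf ⟨1644, 29904967, (some false), 1645, 17043521⟩)) (.node 1 (.leaf ⟨1645, 17059919, (some true), 1646, 17043521⟩) (.leaf ⟨1646, 17043521, (some true), 1645, 17059919⟩)))
(.node 2 (.node 1 (.leaf ⟨1646, 17043521, (some false), 1647, 17043521⟩) (.leaf ⟨1647, 17043521, (some false), 1646, 17127489⟩)) (.node 1 (.leaf ⟨280, 25514063, none, 1647, 16922715⟩) (.leaf ⟨1647, 17043521, none, 280, 31875161⟩))))))
(.node 15 (.node 7 (.node 3 (.node 1 (.leaf ⟨1646, 17180755, none, 1364, 17043521⟩) (.node 1 (.leaf ⟨1646, 17043521, none, 1364, 16988243⟩) (.leaf ⟨1364, 25385043, (some true), 1645, 11292767⟩)))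
(.node 2 (.node 1 (.leaf ⟨280, 32131155, (some true), 1649, 17043521⟩) (.leaf ⟨280, 31801425, (some true), 1651, 17043521⟩)) (.node 1 (.leaf ⟨1651, 4808797, (some false), 1652, 17043521⟩) (.leaf ⟨1652, 19085399, (some false), 1653, 17043521⟩))))
(.node 4 (.node 2 (.node 1 (.leaf ⟨1653, 17043521, (some false), 1652, 19560517⟩) (.leaf ⟨1653, 17043521, (some true), 1654, 17043521⟩)) (.node 1 (.leaf ⟨1654, 17043521, (some true), 1653, 17043521⟩) (.leaf ⟨1654, 19085399, (some false), 1655, 17043521⟩)))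
(.node 2 (.node 1 (.leaf ⟨1655, 17043521, (some false), 1654, 19560517⟩) (.leaf ⟨280, 12871747, none, 1655, 19818577⟩)) (.node 1 (.leaf ⟨1655, 17043521, none, 280, 27922513⟩) (.leaf ⟨1654, 19030081, none, 1640, 17043521⟩)))))
(.node 8 (.node 4 (.node 2 (.node 1 (.leaf ⟨1654, 17043521, none, 1640, 19603521⟩) (.leaf ⟨1640, 10971209, (some true), 1653, 27793491⟩)) (.node 1 (.leaf ⟨280, 11495495, (some true), 1656, 17043521⟩) (.leaf ⟨1656, 17043521, (some false), 1657, 17043521⟩)))
(.node 2 (.node 1 (.leaf ⟨1657, 17043521, (some false), 1656, 17127489⟩) (.leaf ⟨1657, 19085399, (some false), 1658, 17043521⟩)) (.node 1 (.leaf ⟨1658, 17043521, (some false), 1657, 19560517⟩) (.leaf ⟨1658, 19085399, (some true), 1659, 17043521⟩))))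
(.node 4 (.node 2 (.node 1 (.leaf ⟨1659, 17043521, (some true), 1658, 19085399⟩) (.leaf ⟨1659, 17043521, (some false), 1660, 17043521⟩)) (.node 1 (.leaf ⟨1660, 17043521, (some false), 1659, 17127489⟩) (.leaf ⟨280, 11495509, none, 1660, 19034179⟩)))
(.node 2 (.node 1 (.leaf ⟨1660, 17043521, none, 280, 29571161⟩) (.leaf ⟨1659, 17633345, none, 1634, 17043521⟩)) (.node 1 (.leaf ⟨1659, 17043521, none, 1634, 17633345⟩) (.leaf ⟨1634, 17043521, (some true), 1658, 19607639⟩)))))))))

/-- The facts. -/
def caseCFullFactsRLRL : Tab Fct := .node 244 caseCFullFactsRLRLL caseCFullFactsRLRLR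

/-- The facts. -/
def caseCFullFactsRLRRL : Tab Fct :=
(.node 122 (.node 61 (.node 30 (.node 15 (.node 7 (.node 3 (.node 1 (.leaf ⟨1657, 10971209, (some true), 1661, 17043521⟩) (.node 1 (.leaf ⟨1661, 17043521, (some true), 1657, 10971209⟩) (.leaf ⟨1661, 32125001, (some true), 1662, 17043521⟩)))
(.node 2 (.node 1 (.leaf ⟨1662, 17043521, (some true), 1661, 32125001⟩) (.leaf ⟨1662, 32125001, (some true), 1663, 17043521⟩)) (.node 1 (.leaf ⟨1663, 17043521, (some true), 1662, 32125001⟩) (.leaf ⟨280, 25567325, none, 1663, 4943955⟩))))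
(.node 4 (.node 2 (.node 1 (.leaf ⟨1663, 17043521, none, 280, 21968989⟩) (.leaf ⟨1662, 31600721, none, 1362, 17043521⟩)) (.node 1 (.leaf ⟨1662, 31600721, none, 280, 32116805⟩) (.leaf ⟨1662, 17043521, none, 280, 17768543⟩)))
(.node 2 (.node 1 (.leaf ⟨1661, 21117011, none, 1656, 17043521⟩) (.leaf ⟨1661, 17043521, none, 1656, 25632859⟩)) (.node 1 (.leaf ⟨1656, 10971209, (some true), 1657, 25567321⟩) (.leaf ⟨1649, 17043521, (some false), 1664, 17043521⟩)))))
(.node 7 (.node 3 (.node 1 (.leaf ⟨1664, 17043521, (some false), 1649, 17127489⟩) (.node 1 (.leaf ⟨1664, 11495495, (some true), 1665, 17043521⟩) (.leaf ⟨1665, 17043521, (some true), 1664, 11495495⟩)))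
(.node 2 (.node 1 (.leaf ⟨1665, 13310023, (some true), 1666, 17043521⟩) (.leaf ⟨1666, 17043521, (some true), 1665, 13310023⟩)) (.node 1 (.leaf ⟨1666, 31801425, (some true), 1667, 17043521⟩) (.leaf ⟨1667, 17043521, (some true), 1666, 31801425⟩))))
(.node 4 (.node 2 (.node 1 (.leaf ⟨280, 4606041, none, 1667, 23208019⟩) (.leaf ⟨1667, 17043521, none, 280, 8806471⟩)) (.node 1 (.leaf ⟨1666, 31735891, none, 1656, 17043521⟩) (.leaf ⟨1666, 17043521, none, 1656, 4487239⟩)))
(.node 2 (.node 1 (.leaf ⟨1656, 29904967, (some true), 1665, 7043167⟩) (.leaf ⟨283, 6776923, (some false), 1668, 17043521⟩)) (.node 1 (.leaf ⟨1668, 19085399, (some false), 1669, 17043521⟩) (.leaf ⟨1669, 19085399, (some false), 1670, 17043521⟩))))))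
(.node 15 (.node 7 (.node 3 (.node 1 (.leaf ⟨1670, 17043521, (some false), 1669, 19560517⟩) (.node 1 (.leaf ⟨283, 21852235, none, 1670, 19140681⟩) (.leaf ⟨1670, 17043521, none, 283, 23885891⟩)))
(.node 2 (.node 1 (.leaf ⟨283, 9056345, (some false), 1669, 19877955⟩) (.leaf ⟨300, 25385043, (some true), 1671, 17043521⟩)) (.node 1 (.leaf ⟨1671, 17059919, (some true), 1672, 17043521⟩) (.leaf ⟨1672, 17043521, (some true), 1671, 17059919⟩))))
(.node 4 (.node 2 (.node 1 (.leaf ⟨283, 17117263, none, 1672, 9263191⟩) (.leaf ⟨1672, 17043521, none, 283, 27865163⟩)) (.node 1 (.leaf ⟨1671, 25718877, none, 300, 19273821⟩) (.leaf ⟨1671, 17043521, none, 300, 10901569⟩)))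
(.node 2 (.node 1 (.leaf ⟨283, 19085399, (some true), 1673, 17043521⟩) (.leaf ⟨283, 25385043, (some true), 1673, 9007169⟩)) (.node 1 (.leaf ⟨283, 29904967, (some true), 1676, 17043521⟩) (.leaf ⟨283, 13310023, (some true), 1676, 11040857⟩)))))
(.node 8 (.node 4 (.node 2 (.node 1 (.leaf ⟨283, 4808797, (some true), 1678, 17043521⟩) (.leaf ⟨283, 32131155, (some true), 1678, 25720905⟩)) (.node 1 (.leaf ⟨1678, 27529303, (some false), 1679, 17043521⟩) (.leaf ⟨1673, 29904967, (some false), 1684, 17043521⟩)))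
(.node 2 (.node 1 (.leaf ⟨300, 23928925, (some false), 1689, 17043521⟩) (.leaf ⟨283, 4544593, (some true), 1690, 17043521⟩)) (.node 1 (.leaf ⟨283, 32125001, (some true), 1690, 17119323⟩) (.leaf ⟨1684, 19085399, (some false), 1692, 17043521⟩))))
(.node 4 (.node 2 (.node 1 (.leaf ⟨1692, 11495495, (some true), 1693, 17043521⟩) (.leaf ⟨1693, 27529303, (some false), 1694, 17043521⟩)) (.node 1 (.leaf ⟨1694, 17043521, (some false), 1693, 25516101⟩) (.leaf ⟨283, 27949127, none, 1694, 19812423⟩)))
(.node 2 (.node 1 (.leaf ⟨1694, 17043521, none, 283, 29501505⟩) (.leaf ⟨1693, 6957141, none, 1668, 17043521⟩)) (.node 1 (.leaf ⟨1693, 17043521, none, 1668, 27478089⟩) (.leaf ⟨1673, 27529303, (some false), 1695, 17043521⟩)))))))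
(.node 30 (.node 15 (.node 7 (.node 3 (.node 1 (.leaf ⟨1695, 17043521, (some false), 1673, 25516101⟩) (.node 1 (.leaf ⟨1695, 19085399, (some false), 1696, 17043521⟩) (.leaf ⟨1696, 17043521, (some false), 1695, 19560517⟩)))
(.node 2 (.node 1 (.leaf ⟨1696, 25385043, (some true), 1697, 17043521⟩) (.leaf ⟨1697, 17043521, (some true), 1696, 25385043⟩)) (.node 1 (.leaf ⟨1697, 29904967, (some false), 1698, 17043521⟩) (.leaf ⟨1698, 17043521, (some false), 1697, 13113429⟩))))
(.node 4 (.node 2 (.node 1 (.leaf ⟨283, 9121881, none, 1698, 19232837⟩) (.leaf ⟨1698, 17043521, none, 283, 10965063⟩)) (.node 1 (.leaf ⟨1697, 15212621, none, 1669, 19877955⟩) (.leaf ⟨1697, 17043521, none, 1669, 11302993⟩)))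
(.node 2 (.node 1 (.leaf ⟨1669, 17043521, (some true), 1696, 17528915⟩) (.leaf ⟨293, 23928925, (some false), 1699, 17043521⟩)) (.node 1 (.leaf ⟨1699, 17698885, none, 1699, 17043521⟩) (.leaf ⟨1699, 17043521, none, 1699, 17698885⟩)))))
(.node 7 (.node 3 (.node 1 (.leaf ⟨1699, 17059919, (some true), 1700, 17043521⟩) (.node 1 (.leaf ⟨1699, 25385043, (some true), 1700, 11081793⟩) (.leaf ⟨1700, 19085399, (some true), 1701, 17043521⟩)))
(.node 2 (.node 1 (.leaf ⟨1701, 17043521, (some true), 1700, 19085399⟩) (.leaf ⟨1701, 25385043, (some true), 1702, 17043521⟩)) (.node 1 (.leaf ⟨1702, 17043521, (some true), 1701, 25385043⟩) (.leaf ⟨283, 11225163, none, 1702, 6905925⟩))))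
(.node 4 (.node 2 (.node 1 (.leaf ⟨1702, 17043521, none, 283, 13443167⟩) (.leaf ⟨1701, 9058393, none, 1678, 17043521⟩)) (.node 1 (.leaf ⟨1701, 17043521, none, 1678, 32004175⟩) (.leaf ⟨1678, 29904967, (some true), 1700, 19880013⟩)))
(.node 2 (.node 1 (.leaf ⟨1676, 19085399, (some false), 1703, 17043521⟩) (.leaf ⟨1703, 17059919, (some true), 1704, 17043521⟩)) (.node 1 (.leaf ⟨1704, 17043521, (some true), 1703, 17059919⟩) (.leaf ⟨1704, 19085399, (some true), 1705, 17043521⟩))))))
(.node 15 (.node 7 (.node 3 (.node 1 (.leaf ⟨1705, 17043521, (some true), 1704, 19085399⟩) (.node 1 (.leaf ⟨1705, 25385043, (some true), 1706, 17043521⟩) (.leaf ⟨1706, 17043521, (some true), 1705, 25385043⟩)))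
(.node 2 (.node 1 (.leaf ⟨283, 4862023, none, 1706, 21588053⟩) (.leaf ⟨1706, 17043521, none, 283, 27809865⟩)) (.node 1 (.leaf ⟨1705, 11219027, none, 300, 19273821⟩) (.leaf ⟨1705, 17043521, none, 300, 31608903⟩))))
(.node 4 (.node 2 (.node 1 (.leaf ⟨300, 13310023, (some true), 1704, 19558487⟩) (.leaf ⟨300, 19085399, (some false), 1707, 17043521⟩)) (.node 1 (.leaf ⟨1707, 17043521, (some false), 300, 19560517⟩) (.leaf ⟨286, 17043547, none, 1707, 19814467⟩)))
(.node 2 (.node 1 (.leaf ⟨1707, 17043521, none, 286, 19353693⟩) (.leaf ⟨300, 19673163, none, 292, 17786947⟩)) (.node 1 (.leaf ⟨300, 17043521, none, 292, 19540059⟩) (.leaf ⟨292, 25385043, (some true), 301, 11096139⟩)))))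
(.node 8 (.node 4 (.node 2 (.node 1 (.leaf ⟨292, 19085399, (some true), 1671, 8982609⟩) (.leaf ⟨292, 6776923, (some false), 1689, 17567821⟩)) (.node 1 (.leaf ⟨292, 29904967, (some true), 1704, 8550479⟩) (.leaf ⟨304, 25385043, (some true), 1711, 17043521⟩)))
(.node 2 (.node 1 (.leaf ⟨1711, 17059919, (some true), 1712, 17043521⟩) (.leaf ⟨1712, 17043521, (some true), 1711, 17059919⟩)) (.node 1 (.leaf ⟨286, 6641729, none, 1712, 25776215⟩) (.leaf ⟨1712, 17043521, none, 286, 13375559⟩))))
(.node 4 (.node 2 (.node 1 (.leaf ⟨286, 29904967, (some true), 1711, 8992845⟩) (.leaf ⟨286, 32125001, (some true), 1715, 17043521⟩)) (.node 1 (.leaf ⟨286, 11495495, (some true), 1715, 19216449⟩) (.leaf ⟨1715, 13510735, (some false), 1717, 17043521⟩)))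
(.node 2 (.node 1 (.leaf ⟨1717, 17043521, (some true), 1718, 17043521⟩) (.leaf ⟨1718, 17043521, (some true), 1717, 17043521⟩)) (.node 1 (.leaf ⟨1718, 17043521, (some false), 1719, 17043521⟩) (.leaf ⟨1719, 17043521, (some false), 1718, 17127489⟩))))))))
(.node 61 (.node 30 (.node 15 (.node 7 (.node 3 (.node 1 (.leaf ⟨286, 17508421, none, 1719, 17461339⟩) (.node 1 (.leaf ⟨1719, 17043521, none, 286, 17119303⟩) (.leaf ⟨1718, 17506377, none, 292, 17043521⟩)))
(.node 2 (.node 1 (.leaf ⟨1718, 17043521, none, 292, 16934981⟩) (.leaf ⟨292, 11495495, (some true), 1717, 25432139⟩)) (.node 1 (.leaf ⟨1711, 27529303, (some false), 1720, 17043521⟩) (.leaf ⟨1720, 17043521, (some false), 1711, 25516101⟩))))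
(.node 4 (.node 2 (.node 1 (.leaf ⟨286, 25385043, (some true), 1721, 17043521⟩) (.leaf ⟨286, 13510735, (some true), 1721, 25784403⟩)) (.node 1 (.leaf ⟨286, 19085399, (some true), 1721, 25784411⟩) (.leaf ⟨286, 32131155, (some true), 1721, 17567825⟩)))
(.node 2 (.node 1 (.leaf ⟨1721, 27529303, (some false), 1722, 17043521⟩) (.leaf ⟨1711, 4808797, (some false), 1724, 17043521⟩)) (.node 1 (.leaf ⟨1724, 19085399, (some false), 1725, 17043521⟩) (.leaf ⟨1725, 17059919, (some true), 1726, 17043521⟩)))))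
(.node 7 (.node 3 (.node 1 (.leaf ⟨1726, 19085399, (some false), 1727, 17043521⟩) (.node 1 (.leaf ⟨1727, 17043521, (some false), 1726, 19560517⟩) (.leaf ⟨286, 21526605, none, 1727, 19013699⟩)))
(.node 2 (.node 1 (.leaf ⟨1727, 17043521, none, 286, 27881551⟩) (.leaf ⟨1726, 19222621, none, 1395, 4810831⟩)) (.node 1 (.leaf ⟨1726, 17043521, none, 1395, 23619665⟩) (.leaf ⟨1722, 11495495, (some true), 1732, 17043521⟩))))
(.node 4 (.node 2 (.node 1 (.leaf ⟨1732, 13510735, (some true), 1733, 17043521⟩) (.leaf ⟨1733, 10971209, (some true), 1734, 17043521⟩)) (.node 1 (.leaf ⟨1734, 17043521, (some true), 1733, 10971209⟩) (.leaf ⟨286, 32139351, none, 1734, 6975559⟩)))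
(.node 2 (.node 1 (.leaf ⟨1734, 17043521, none, 286, 6574171⟩) (.leaf ⟨1733, 8544347, none, 304, 26171477⟩)) (.node 1 (.leaf ⟨1733, 17043521, none, 304, 4683867⟩) (.leaf ⟨292, 29904967, (some false), 1735, 17043521⟩))))))
(.node 15 (.node 7 (.node 3 (.node 1 (.leaf ⟨1735, 19085399, (some false), 1736, 17043521⟩) (.node 1 (.leaf ⟨1736, 19085399, (some false), 1737, 17043521⟩) (.leaf ⟨1737, 17043521, (some false), 1736, 19560517⟩)))
(.node 2 (.node 1 (.leaf ⟨292, 6840409, none, 1737, 19097693⟩) (.leaf ⟨1737, 17043521, none, 292, 8984651⟩)) (.node 1 (.leaf ⟨292, 4808797, (some false), 1736, 19877955⟩) (.leaf ⟨292, 31801425, (some false), 1738, 17043521⟩))))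
(.node 4 (.node 2 (.node 1 (.leaf ⟨1738, 19085399, (some false), 1739, 17043521⟩) (.leaf ⟨1739, 17043521, (some false), 1738, 19560517⟩)) (.node 1 (.leaf ⟨1739, 19085399, (some false), 1740, 17043521⟩) (.leaf ⟨1740, 17043521, (some false), 1739, 19560517⟩)))
(.node 2 (.node 1 (.leaf ⟨292, 14827591, none, 1740, 19275841⟩) (.leaf ⟨1740, 17043521, none, 292, 10897487⟩)) (.node 1 (.leaf ⟨292, 7292999, (some false), 1739, 19877955⟩) (.leaf ⟨1704, 25385043, (some true), 1741, 17043521⟩)))))
(.node 8 (.node 4 (.node 2 (.node 1 (.leaf ⟨1741, 17059919, (some true), 1742, 17043521⟩) (.leaf ⟨1742, 17043521, (some true), 1741, 17059919⟩)) (.node 1 (.leaf ⟨292, 15562821, none, 1742, 17576021⟩) (.leaf ⟨1742, 17043521, none, 292, 6641745⟩)))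
(.node 2 (.node 1 (.leaf ⟨292, 4544593, (some true), 1741, 19214415⟩) (.leaf ⟨292, 32125001, (some true), 1743, 17043521⟩)) (.node 1 (.leaf ⟨1743, 17043521, (some true), 292, 32125001⟩) (.leaf ⟨1743, 17059919, (some true), 1744, 17043521⟩))))
(.node 4 (.node 2 (.node 1 (.leaf ⟨1744, 17043521, (some true), 1743, 17059919⟩) (.leaf ⟨1744, 17059919, (some true), 1745, 17043521⟩)) (.node 1 (.leaf ⟨1745, 17043521, (some true), 1744, 17059919⟩) (.leaf ⟨292, 6961241, none, 1745, 11300935⟩)))
(.node 2 (.node 1 (.leaf ⟨1745, 17043521, none, 292, 15429703⟩) (.leaf ⟨292, 13310023, (some true), 1744, 27605063⟩)) (.node 1 (.leaf ⟨292, 31801425, (some true), 1749, 17043521⟩) (.leaf ⟨1749, 29904967, (some false), 1750, 17043521⟩)))))))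
(.node 30 (.node 15 (.node 7 (.node 3 (.node 1 (.leaf ⟨1750, 17059919, (some true), 1751, 17043521⟩) (.node 1 (.leaf ⟨1751, 17043521, (some true), 1750, 17059919⟩) (.leaf ⟨1751, 17043521, (some false), 1752, 17043521⟩)))
(.node 2 (.node 1 (.leaf ⟨1752, 17043521, (some false), 1751, 17127489⟩) (.leaf ⟨292, 31811665, none, 1752, 16920667⟩)) (.node 1 (.leaf ⟨1752, 17043521, none, 292, 23558223⟩) (.leaf ⟨292, 13310023, (some false), 1751, 17524817⟩))))
(.node 4 (.node 2 (.node 1 (.leaf ⟨292, 13510735, (some true), 1753, 17043521⟩) (.leaf ⟨1753, 29904967, (some false), 1754, 17043521⟩)) (.node 1 (.leaf ⟨1754, 17043521, (some false), 1753, 13113429⟩) (.leaf ⟨1754, 17059919, (some true), 1755, 17043521⟩)))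
(.node 2 (.node 1 (.leaf ⟨1755, 17043521, (some true), 1754, 17059919⟩) (.leaf ⟨1755, 17043521, (some false), 1756, 17043521⟩)) (.node 1 (.leaf ⟨1756, 17043521, (some false), 1755, 17127489⟩) (.leaf ⟨292, 7219293, none, 1756, 16920649⟩)))))
(.node 7 (.node 3 (.node 1 (.leaf ⟨1756, 17043521, none, 292, 11155545⟩) (.node 1 (.leaf ⟨292, 9056345, (some false), 1755, 17651793⟩) (.leaf ⟨292, 10971209, (some true), 1761, 17043521⟩)))
(.node 2 (.node 1 (.leaf ⟨1761, 17043521, (some false), 1763, 17043521⟩) (.leaf ⟨283, 4808797, (some false), 1767, 17043521⟩)) (.node 1 (.leaf ⟨1767, 19085399, (some false), 1768, 17043521⟩) (.leaf ⟨1768, 17043521, (some true), 1769, 17043521⟩))))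
(.node 4 (.node 2 (.node 1 (.leaf ⟨1769, 19085399, (some false), 1770, 17043521⟩) (.leaf ⟨1770, 17043521, (some false), 1769, 19560517⟩)) (.node 1 (.leaf ⟨292, 11147339, none, 1770, 19802195⟩) (.leaf ⟨1770, 17043521, none, 292, 4683861⟩)))
(.node 2 (.node 1 (.leaf ⟨1769, 19689541, none, 1751, 17524817⟩) (.leaf ⟨1769, 17043521, none, 1751, 19802207⟩)) (.node 1 (.leaf ⟨292, 17528907, none, 352, 6772809⟩) (.leaf ⟨352, 17043521, none, 292, 21131331⟩))))))
(.node 15 (.node 7 (.node 3 (.node 1 (.leaf ⟨353, 19681369, none, 1753, 17043521⟩) (.node 1 (.leaf ⟨292, 27529303, (some false), 744, 19150923⟩) (.leaf ⟨113, 21368903, none, 1743, 17043521⟩)))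
(.node 2 (.node 1 (.leaf ⟨292, 23928925, (some false), 641, 17780825⟩) (.leaf ⟨737, 27672651, none, 1749, 17043521⟩)) (.node 1 (.leaf ⟨1065, 11016281, none, 301, 11096139⟩) (.leaf ⟨1049, 10909777, none, 283, 11038809⟩))))
(.node 4 (.node 2 (.node 1 (.leaf ⟨1049, 17043521, none, 283, 17242195⟩) (.leaf ⟨195, 9388113, none, 57, 23685197⟩)) (.node 1 (.leaf ⟨1069, 17641541, none, 1673, 17043521⟩) (.leaf ⟨837, 15622233, none, 1673, 17043521⟩)))
(.node 2 (.node 1 (.leaf ⟨1673, 17043521, none, 837, 15622233⟩) (.leaf ⟨837, 6776923, (some false), 1684, 17240151⟩)) (.node 1 (.leaf ⟨195, 17043521, none, 57, 25385035⟩) (.leaf ⟨1052, 27807817, none, 58, 17043521⟩)))))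
(.node 8 (.node 4 (.node 2 (.node 1 (.leaf ⟨1055, 25778243, none, 74, 27807811⟩) (.leaf ⟨1060, 11368523, none, 286, 19232843⟩)) (.node 1 (.leaf ⟨1062, 27859027, none, 1577, 19877983⟩) (.leaf ⟨1073, 17125463, none, 265, 17043521⟩)))
(.node 2 (.node 1 (.leaf ⟨1073, 17043521, none, 265, 17125447⟩) (.leaf ⟨1072, 16988245, none, 1395, 8925265⟩)) (.node 1 (.leaf ⟨1395, 17043521, none, 1072, 9115733⟩) (.leaf ⟨1577, 17043521, none, 1062, 32002137⟩))))
(.node 4 (.node 2 (.node 1 (.leaf ⟨1062, 29904967, (some true), 1578, 17127491⟩) (.leaf ⟨767, 28260447, none, 286, 19232843⟩)) (.node 1 (.leaf ⟨767, 17043521, none, 286, 15605845⟩) (.leaf ⟨768, 19232841, none, 287, 17043521⟩)))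
(.node 2 (.node 1 (.leaf ⟨1061, 17242199, none, 1411, 17043521⟩) (.leaf ⟨1079, 26159181, none, 1715, 17043521⟩)) (.node 1 (.leaf ⟨1715, 17043521, none, 1079, 26159181⟩) (.leaf ⟨1079, 17043521, (some false), 1717, 17522783⟩)))))))))

/-- The facts. -/
def caseCFullFactsRLRRR : Tab Fct :=
(.node 122 (.node 61 (.node 30 (.node 15 (.node 7 (.node 3 (.node 1 (.leaf ⟨1411, 17043521, none, 1061, 17242199⟩) (.node 1 (.leaf ⟨1412, 11278401, none, 1062, 17043521⟩) (.leaf ⟨1412, 17043521, none, 1062, 27859009⟩)))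
(.node 2 (.node 1 (.leaf ⟨1062, 29904967, (some false), 1413, 16998477⟩) (.leaf ⟨768, 19232841, none, 286, 19732567⟩)) (.node 1 (.leaf ⟨768, 17043521, none, 286, 17657925⟩) (.leaf ⟨769, 27881539, none, 1721, 17043521⟩))))
(.node 4 (.node 2 (.node 1 (.leaf ⟨765, 21968961, none, 1721, 17043521⟩) (.leaf ⟨1721, 17043521, none, 765, 21968961⟩)) (.node 1 (.leaf ⟨765, 10971209, (some false), 1722, 17786965⟩) (.leaf ⟨1055, 25778243, none, 71, 26091597⟩)))
(.node 2 (.node 1 (.leaf ⟨1055, 17043521, none, 71, 17721429⟩) (.leaf ⟨1068, 16918597, none, 299, 17043521⟩)) (.node 1 (.leaf ⟨1078, 16982089, none, 293, 17461331⟩) (.leaf ⟨1078, 17043521, none, 293, 17659991⟩)))))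
(.node 7 (.node 3 (.node 1 (.leaf ⟨293, 17043521, (some true), 1079, 17657947⟩) (.node 1 (.leaf ⟨293, 11495495, (some true), 1079, 25696345⟩) (.leaf ⟨1068, 17043521, none, 299, 16982089⟩)))
(.node 2 (.node 1 (.leaf ⟨299, 17043521, (some true), 1075, 9181273⟩) (.leaf ⟨206, 27994185, none, 53, 19343431⟩)) (.node 1 (.leaf ⟨206, 17043521, none, 53, 23924827⟩) (.leaf ⟨1149, 27531337, none, 57, 25849949⟩))))
(.node 4 (.node 2 (.node 1 (.leaf ⟨207, 17133651, none, 57, 25849949⟩) (.leaf ⟨207, 17043521, none, 57, 27725911⟩)) (.node 1 (.leaf ⟨1189, 17641553, none, 307, 17043521⟩) (.leaf ⟨1189, 17043521, none, 307, 17659985⟩)))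
(.node 2 (.node 1 (.leaf ⟨1190, 17528899, none, 308, 17061977⟩) (.leaf ⟨1190, 17043521, none, 308, 17178719⟩)) (.node 1 (.leaf ⟨1191, 19216457, none, 309, 17043521⟩) (.leaf ⟨1191, 19216457, none, 145, 8878155⟩))))))
(.node 15 (.node 7 (.node 3 (.node 1 (.leaf ⟨1191, 17043521, none, 145, 10639427⟩) (.node 1 (.leaf ⟨1192, 17578073, none, 173, 27605065⟩) (.leaf ⟨1167, 17700945, none, 71, 15036503⟩)))
(.node 2 (.node 1 (.leaf ⟨1167, 17043521, none, 71, 28188741⟩) (.leaf ⟨1176, 17244227, none, 293, 17043521⟩)) (.node 1 (.leaf ⟨1176, 17043521, none, 293, 16922691⟩) (.leaf ⟨1177, 19159131, none, 294, 17043521⟩))))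
(.node 4 (.node 2 (.node 1 (.leaf ⟨1164, 19101765, none, 283, 19032147⟩) (.leaf ⟨1164, 17043521, none, 283, 17119323⟩)) (.node 1 (.leaf ⟨1184, 19206235, none, 300, 19609671⟩) (.leaf ⟨1184, 19206235, none, 292, 17715265⟩)))
(.node 2 (.node 1 (.leaf ⟨1184, 17043521, none, 292, 19814491⟩) (.leaf ⟨1179, 19165265, none, 300, 17043521⟩)) (.node 1 (.leaf ⟨862, 4730945, none, 292, 19540059⟩) (.leaf ⟨862, 17043521, none, 292, 11294815⟩)))))
(.node 8 (.node 4 (.node 2 (.node 1 (.leaf ⟨863, 16922691, none, 286, 17127489⟩) (.leaf ⟨872, 28012627, none, 1761, 17043521⟩)) (.node 1 (.leaf ⟨1761, 17043521, none, 872, 28012627⟩) (.leaf ⟨872, 9056345, (some false), 1763, 17569885⟩)))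
(.node 2 (.node 1 (.leaf ⟨144, 15429705, none, 286, 17127489⟩) (.leaf ⟨286, 17043521, none, 144, 31600715⟩)) (.node 1 (.leaf ⟨1721, 25434187, none, 145, 9189451⟩) (.leaf ⟨765, 32125003, none, 145, 9189451⟩))))
(.node 4 (.node 2 (.node 1 (.leaf ⟨765, 17043521, none, 145, 27662401⟩) (.leaf ⟨145, 10971209, (some true), 766, 8982611⟩)) (.node 1 (.leaf ⟨1722, 16934989, none, 161, 19294273⟩) (.leaf ⟨1722, 16934989, none, 145, 13590603⟩)))
(.node 2 (.node 1 (.leaf ⟨1722, 17043521, none, 145, 31856715⟩) (.leaf ⟨1732, 11022401, none, 188, 28196943⟩)) (.node 1 (.leaf ⟨1732, 17043521, none, 188, 25567303⟩) (.leaf ⟨1733, 19150937, none, 134, 19619931⟩)))))))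
(.node 30 (.node 15 (.node 7 (.node 3 (.node 1 (.leaf ⟨304, 14833729, none, 134, 19619931⟩) (.node 1 (.leaf ⟨304, 17043521, none, 134, 12734551⟩) (.leaf ⟨1711, 19667019, none, 135, 17043521⟩)))
(.node 2 (.node 1 (.leaf ⟨1711, 19667019, none, 123, 19619923⟩) (.leaf ⟨1711, 17043521, none, 123, 17506377⟩)) (.node 1 (.leaf ⟨123, 32125001, (some false), 1720, 16922713⟩) (.leaf ⟨1724, 17635405, none, 689, 17004609⟩))))
(.node 4 (.node 2 (.node 1 (.leaf ⟨1724, 17635405, none, 214, 9007199⟩) (.leaf ⟨1724, 17043521, none, 214, 27865171⟩)) (.node 1 (.leaf ⟨1725, 17719389, none, 1091, 17043521⟩) (.leaf ⟨1725, 17719389, none, 144, 12734543⟩)))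
(.node 2 (.node 1 (.leaf ⟨1725, 17043521, none, 144, 25587795⟩) (.leaf ⟨1726, 27799619, none, 824, 17043521⟩)) (.node 1 (.leaf ⟨1072, 28256325, none, 123, 19619925⟩) (.leaf ⟨1072, 17043521, none, 123, 23545941⟩)))))
(.node 7 (.node 3 (.node 1 (.leaf ⟨1073, 17051713, none, 39, 31725661⟩) (.node 1 (.leaf ⟨265, 17133647, none, 39, 31725661⟩) (.leaf ⟨265, 17043521, none, 39, 6647891⟩)))
(.node 2 (.node 1 (.leaf ⟨1412, 19675205, none, 206, 17242181⟩) (.leaf ⟨1062, 8925253, none, 53, 21895257⟩)) (.node 1 (.leaf ⟨1062, 17043521, none, 53, 29775949⟩) (.leaf ⟨1578, 19667027, none, 57, 25849949⟩))))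
(.node 4 (.node 2 (.node 1 (.leaf ⟨1413, 17510471, none, 296, 17043521⟩) (.leaf ⟨39, 27727943, none, 296, 17043521⟩)) (.node 1 (.leaf ⟨296, 17043521, none, 39, 27727943⟩) (.leaf ⟨297, 11087939, none, 43, 17043521⟩)))
(.node 2 (.node 1 (.leaf ⟨297, 11087939, none, 34, 19814479⟩) (.leaf ⟨297, 17043521, none, 34, 8878149⟩)) (.node 1 (.leaf ⟨275, 4745281, none, 57, 25849949⟩) (.leaf ⟨275, 17043521, none, 57, 7100503⟩))))))
(.node 15 (.node 7 (.node 3 (.node 1 (.leaf ⟨1594, 27529281, none, 303, 17043521⟩) (.node 1 (.leaf ⟨1594, 17043521, none, 303, 27529281⟩) (.leaf ⟨1593, 19015745, none, 304, 19675203⟩)))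
(.node 2 (.node 1 (.leaf ⟨1593, 19015745, none, 134, 23556189⟩) (.leaf ⟨1593, 17043521, none, 134, 25587805⟩)) (.node 1 (.leaf ⟨1592, 19818573, none, 688, 17043521⟩) (.leaf ⟨1594, 9189467, none, 204, 17117257⟩))))
(.node 4 (.node 2 (.node 1 (.leaf ⟨303, 19675227, none, 57, 15474775⟩) (.leaf ⟨303, 17043521, none, 57, 4483143⟩)) (.node 1 (.leaf ⟨304, 9271377, none, 307, 17043521⟩) (.leaf ⟨134, 5199941, none, 307, 17043521⟩)))
(.node 2 (.node 1 (.leaf ⟨307, 17043521, none, 134, 5199941⟩) (.leaf ⟨308, 17070149, none, 837, 31920211⟩)) (.node 1 (.leaf ⟨837, 17043521, none, 308, 25641055⟩) (.leaf ⟨308, 11495495, (some true), 836, 25575499⟩)))))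
(.node 8 (.node 4 (.node 2 (.node 1 (.leaf ⟨308, 17043521, (some true), 845, 17594433⟩) (.leaf ⟨308, 19085399, (some false), 1069, 17197149⟩)) (.node 1 (.leaf ⟨308, 25385043, (some true), 1070, 8917083⟩) (.leaf ⟨1111, 16982103, none, 309, 17043521⟩)))
(.node 2 (.node 1 (.leaf ⟨308, 10971209, (some true), 1115, 25839703⟩) (.leaf ⟨308, 13310023, (some false), 1684, 17651803⟩)) (.node 1 (.leaf ⟨841, 17782875, none, 145, 8878155⟩) (.leaf ⟨841, 17043521, none, 145, 13377617⟩))))
(.node 4 (.node 2 (.node 1 (.leaf ⟨840, 17576021, none, 374, 17576011⟩) (.leaf ⟨840, 17043521, none, 374, 17043543⟩)) (.node 1 (.leaf ⟨374, 17059919, (some true), 134, 31797313⟩) (.leaf ⟨374, 19085399, (some true), 848, 17784919⟩)))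
(.node 2 (.node 1 (.leaf ⟨374, 11495495, (some true), 1068, 25315423⟩) (.leaf ⟨374, 4808797, (some false), 1110, 17262665⟩)) (.node 1 (.leaf ⟨374, 19085399, (some false), 1120, 17526869⟩) (.leaf ⟨374, 29904967, (some false), 1121, 17109075⟩))))))))
(.node 61 (.node 30 (.node 15 (.node 7 (.node 3 (.node 1 (.leaf ⟨374, 32131155, (some true), 1128, 27928665⟩) (.node 1 (.leaf ⟨1592, 19818573, none, 200, 15624287⟩) (.leaf ⟨1592, 17043521, none, 200, 25432145⟩)))
(.node 2 (.node 1 (.leaf ⟨1580, 25450563, none, 203, 17592389⟩) (.leaf ⟨1580, 25450563, none, 134, 12734557⟩)) (.node 1 (.leaf ⟨1580, 17043521, none, 134, 24057933⟩) (.leaf ⟨1581, 16988251, none, 837, 29778001⟩))))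
(.node 4 (.node 2 (.node 1 (.leaf ⟨1581, 16988251, none, 308, 17526875⟩) (.leaf ⟨1581, 17043521, none, 308, 17586241⟩)) (.node 1 (.leaf ⟨1587, 19150913, none, 1070, 8917083⟩) (.leaf ⟨1599, 17569873, none, 845, 17594433⟩)))
(.node 2 (.node 1 (.leaf ⟨1506, 19101761, none, 845, 17594433⟩) (.leaf ⟨1506, 17043521, none, 845, 19271745⟩)) (.node 1 (.leaf ⟨845, 25385043, (some true), 272, 23343199⟩) (.leaf ⟨845, 19085399, (some true), 1507, 17045577⟩)))))
(.node 7 (.node 3 (.node 1 (.leaf ⟨845, 19085399, (some false), 1518, 16998485⟩) (.node 1 (.leaf ⟨845, 11495495, (some true), 1530, 23859283⟩) (.leaf ⟨1529, 10707021, none, 283, 10702931⟩)))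
(.node 2 (.node 1 (.leaf ⟨1529, 17043521, none, 283, 17068109⟩) (.leaf ⟨1530, 17641547, none, 293, 25376845⟩)) (.node 1 (.leaf ⟨1530, 17043521, none, 293, 11409501⟩) (.leaf ⟨1531, 8990801, none, 1079, 25696345⟩))))
(.node 4 (.node 2 (.node 1 (.leaf ⟨845, 27936855, none, 1079, 25696345⟩) (.leaf ⟨1079, 17043521, none, 845, 19343453⟩)) (.node 1 (.leaf ⟨1080, 25710657, none, 272, 23343199⟩) (.leaf ⟨1717, 17242185, none, 1518, 16998485⟩)))
(.node 2 (.node 1 (.leaf ⟨1717, 17043521, none, 1518, 16937051⟩) (.leaf ⟨1518, 25385043, (some true), 1718, 11081819⟩)) (.node 1 (.leaf ⟨144, 13176919, none, 272, 23343199⟩) (.leaf ⟨272, 17043521, none, 144, 5124169⟩))))))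
(.node 15 (.node 7 (.node 3 (.node 1 (.leaf ⟨1504, 17578079, none, 1087, 11032643⟩) (.node 1 (.leaf ⟨1509, 11090003, none, 145, 9189451⟩) (.leaf ⟨1521, 8999001, none, 824, 17043521⟩)))
(.node 2 (.node 1 (.leaf ⟨1521, 8999001, none, 123, 19619925⟩) (.leaf ⟨1521, 17043521, none, 123, 8611935⟩)) (.node 1 (.leaf ⟨1522, 17512521, none, 689, 17004609⟩) (.leaf ⟨1522, 17512521, none, 214, 9007199⟩))))
(.node 4 (.node 2 (.node 1 (.leaf ⟨1522, 17043521, none, 214, 29972553⟩) (.leaf ⟨1523, 16988231, none, 1091, 17043521⟩)) (.node 1 (.leaf ⟨1523, 16988231, none, 144, 12734543⟩) (.leaf ⟨1523, 17043521, none, 144, 6645837⟩)))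
(.node 2 (.node 1 (.leaf ⟨1524, 11030603, none, 824, 17043521⟩) (.leaf ⟨273, 27816017, none, 123, 19619925⟩)) (.node 1 (.leaf ⟨273, 17043521, none, 123, 11421783⟩) (.leaf ⟨1543, 19667031, none, 828, 11079761⟩)))))
(.node 8 (.node 4 (.node 2 (.node 1 (.leaf ⟨1549, 19271773, none, 703, 19757127⟩) (.leaf ⟨1554, 25720897, none, 129, 10971201⟩)) (.node 1 (.leaf ⟨1554, 17043521, none, 129, 27674689⟩) (.leaf ⟨1557, 17459273, none, 709, 17043521⟩)))
(.node 2 (.node 1 (.leaf ⟨1563, 17649743, none, 713, 17043521⟩) (.leaf ⟨1571, 25380929, none, 753, 17043521⟩)) (.node 1 (.leaf ⟨1571, 25380929, none, 62, 4730963⟩) (.leaf ⟨1571, 17043521, none, 62, 10711109⟩))))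
(.node 4 (.node 2 (.node 1 (.leaf ⟨1570, 10711109, none, 183, 19157063⟩) (.leaf ⟨1570, 10711109, none, 71, 17002589⟩)) (.node 1 (.leaf ⟨1570, 17043521, none, 71, 29626447⟩) (.leaf ⟨1546, 23617627, none, 252, 17068117⟩)))
(.node 2 (.node 1 (.leaf ⟨1546, 23617627, none, 145, 15429723⟩) (.leaf ⟨1546, 17043521, none, 145, 21526593⟩)) (.node 1 (.leaf ⟨145, 4544593, (some true), 273, 15409229⟩) (.leaf ⟨145, 23670849, none, 683, 17043521⟩)))))))
(.node 31 (.node 15 (.node 7 (.node 3 (.node 1 (.leaf ⟨683, 17043521, none, 145, 23670849⟩) (.node 1 (.leaf ⟨684, 19738689, none, 897, 17043521⟩) (.leaf ⟨698, 17764443, none, 864, 17043521⟩)))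
(.node 2 (.node 1 (.leaf ⟨705, 16982101, none, 895, 19206223⟩) (.leaf ⟨710, 8810577, none, 734, 6701129⟩)) (.node 1 (.leaf ⟨734, 17043521, none, 710, 27537503⟩) (.leaf ⟨710, 17059919, (some true), 726, 19097687⟩))))
(.node 4 (.node 2 (.node 1 (.leaf ⟨710, 23928925, (some false), 909, 17702983⟩) (.leaf ⟨895, 17043521, none, 705, 19081307⟩)) (.node 1 (.leaf ⟨864, 17043521, none, 698, 17764443⟩) (.leaf ⟨145, 6846535, none, 897, 17043521⟩)))
(.node 2 (.node 1 (.leaf ⟨897, 17043521, none, 145, 6846535⟩) (.leaf ⟨900, 17459277, none, 860, 17043521⟩)) (.node 1 (.leaf ⟨906, 5122139, none, 890, 27605063⟩) (.leaf ⟨906, 17043521, none, 890, 27414601⟩)))))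
(.node 8 (.node 4 (.node 2 (.node 1 (.leaf ⟨890, 25385043, (some true), 905, 8544335⟩) (.leaf ⟨900, 17043521, none, 860, 17522767⟩)) (.node 1 (.leaf ⟨860, 19085399, (some false), 901, 17440833⟩) (.leaf ⟨1563, 17649743, none, 129, 19359839⟩)))
(.node 2 (.node 1 (.leaf ⟨1563, 17043521, none, 129, 19275857⟩) (.leaf ⟨1564, 17125445, none, 126, 19560517⟩)) (.node 1 (.leaf ⟨1564, 17043521, none, 126, 19017793⟩) (.leaf ⟨1565, 9246787, none, 22, 32131155⟩))))
(.node 4 (.node 2 (.node 1 (.leaf ⟨1537, 19019861, none, 22, 32131155⟩) (.leaf ⟨1537, 17043521, none, 22, 23937099⟩)) (.node 1 (.leaf ⟨1560, 8538193, none, 31, 27873369⟩) (.leaf ⟨1560, 17043521, none, 31, 21117009⟩)))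
(.node 2 (.node 1 (.leaf ⟨1559, 19159105, none, 134, 17176669⟩) (.leaf ⟨1559, 17043521, none, 134, 19814479⟩)) (.node 1 (.leaf ⟨1368, 13377611, none, 176, 17043521⟩) (.leaf ⟨1368, 13377611, none, 134, 19748935⟩))))))
(.node 15 (.node 7 (.node 3 (.node 1 (.leaf ⟨1368, 17043521, none, 134, 15034449⟩) (.node 1 (.leaf ⟨1367, 27539529, none, 688, 17043521⟩) (.leaf ⟨1367, 27539529, none, 200, 15624287⟩)))
(.node 2 (.node 1 (.leaf ⟨1367, 17043521, none, 200, 5128279⟩) (.leaf ⟨262, 7041107, none, 214, 4730951⟩)) (.node 1 (.leaf ⟨262, 17043521, none, 214, 19689547⟩) (.leaf ⟨280, 15341659, none, 1161, 15482967⟩))))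
(.node 4 (.node 2 (.node 1 (.leaf ⟨1360, 19140675, none, 1096, 17043521⟩) (.leaf ⟨1365, 25694273, none, 1102, 8992851⟩)) (.node 1 (.leaf ⟨1371, 27531331, none, 1098, 16937027⟩) (.leaf ⟨1373, 11343939, none, 1118, 17717333⟩)))
(.node 2 (.node 1 (.leaf ⟨1375, 17567819, none, 1089, 17043521⟩) (.leaf ⟨1377, 11284563, none, 1196, 25784411⟩)) (.node 1 (.leaf ⟨1377, 11284563, none, 758, 27730009⟩) (.leaf ⟨1377, 17043521, none, 758, 10700881⟩)))))
(.node 8 (.node 4 (.node 2 (.node 1 (.leaf ⟨1378, 17569885, none, 750, 13113429⟩) (.leaf ⟨1378, 17569885, none, 292, 29892689⟩)) (.node 1 (.leaf ⟨1378, 17043521, none, 292, 15229023⟩) (.leaf ⟨1377, 29976649, none, 1735, 17043521⟩)))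
(.node 2 (.node 1 (.leaf ⟨1386, 25761857, none, 1749, 17043521⟩) (.leaf ⟨1749, 17043521, none, 1386, 25761857⟩)) (.node 1 (.leaf ⟨1386, 27529303, (some false), 1750, 17717315⟩) (.leaf ⟨758, 17594453, none, 1735, 17043521⟩))))
(.node 4 (.node 2 (.node 1 (.leaf ⟨1735, 17043521, none, 758, 17594453⟩) (.leaf ⟨1736, 17240143, none, 760, 17043521⟩)) (.node 1 (.leaf ⟨1736, 17240143, none, 710, 16998491⟩) (.leaf ⟨1736, 17043521, none, 710, 17004629⟩)))
(.node 2 (.node 1 (.leaf ⟨710, 19085399, (some false), 1737, 17463389⟩) (.leaf ⟨1375, 17567819, none, 214, 30224465⟩)) (.node 1 (.leaf ⟨1375, 17043521, none, 214, 12939339⟩) (.leaf ⟨1382, 17190999, none, 1211, 15210571⟩)))))))))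

/-- The facts. -/
def caseCFullFactsRLRR : Tab Fct := .node 244 caseCFullFactsRLRRL caseCFullFactsRLRRR

/-- The facts. -/
def caseCFullFactsRLR : Tab Fct := .node 488 caseCFullFactsRLRL caseCFullFactsRLRR

/-- The facts. -/
def caseCFullFactsRL : Tab Fct := .node 977 caseCFullFactsRLL caseCFullFactsRLR

/-- The facts. -/
def caseCFullFactsRRLLL : Tab Fct :=
(.node 122 (.node 61 (.node 30 (.node 15 (.node 7 (.node 3 (.node 1 (.leaf ⟨1382, 17043521, none, 1211, 11032665⟩) (.node 1 (.leaf ⟨1211, 4808797, (some false), 1383, 17193035⟩) (.leaf ⟨1373, 17043521, none, 1118, 25587805⟩)))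
(.node 2 (.node 1 (.leaf ⟨1379, 9060433, none, 1205, 11368537⟩) (.leaf ⟨1379, 17043521, none, 1205, 19621969⟩)) (.node 1 (.leaf ⟨1205, 19085399, (some false), 1366, 19603537⟩) (.leaf ⟨1371, 27531331, none, 123, 21448779⟩))))
(.node 4 (.node 2 (.node 1 (.leaf ⟨1371, 17043521, none, 123, 29777993⟩) (.leaf ⟨1372, 17594451, none, 703, 19757127⟩)) (.node 1 (.leaf ⟨1372, 17043521, none, 703, 19206239⟩) (.leaf ⟨703, 10971209, (some true), 1373, 19148889⟩)))
(.node 2 (.node 1 (.leaf ⟨1365, 25694273, none, 134, 23668815⟩) (.leaf ⟨1365, 17043521, none, 134, 15034463⟩)) (.node 1 (.leaf ⟨1366, 16935003, none, 1205, 16916555⟩) (.leaf ⟨1366, 17043521, none, 1205, 17061969⟩)))))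
(.node 7 (.node 3 (.node 1 (.leaf ⟨1360, 17043521, none, 1096, 19140675⟩) (.node 1 (.leaf ⟨1359, 19159119, none, 1099, 17043521⟩) (.leaf ⟨1359, 17043521, none, 1099, 19157087⟩)))
(.node 2 (.node 1 (.leaf ⟨1099, 19085399, (some false), 262, 8876127⟩) (.leaf ⟨1099, 19691589, none, 1211, 15210571⟩)) (.node 1 (.leaf ⟨1099, 17043521, (some true), 1383, 17463391⟩) (.leaf ⟨1211, 17043521, none, 1099, 11427921⟩))))
(.node 4 (.node 2 (.node 1 (.leaf ⟨1099, 10971209, (some true), 1210, 25890907⟩) (.leaf ⟨1099, 11495495, (some true), 1210, 25385041⟩)) (.node 1 (.leaf ⟨1099, 19085399, (some true), 1210, 19798105⟩) (.leaf ⟨1099, 25385043, (some true), 1210, 11481169⟩)))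
(.node 2 (.node 1 (.leaf ⟨1383, 17061975, none, 1096, 19560517⟩) (.leaf ⟨1383, 17043521, none, 1096, 19083347⟩)) (.node 1 (.leaf ⟨1161, 17043521, none, 280, 17657939⟩) (.leaf ⟨1142, 10637403, none, 266, 10971209⟩))))))
(.node 15 (.node 7 (.node 3 (.node 1 (.leaf ⟨1199, 16934977, none, 1634, 17043521⟩) (.node 1 (.leaf ⟨1200, 17768531, none, 1364, 17043521⟩) (.leaf ⟨280, 23928925, (some false), 1208, 16937039⟩)))
(.node 2 (.node 1 (.leaf ⟨1213, 17176661, none, 1635, 19691589⟩) (.leaf ⟨280, 19085399, (some true), 1217, 4991055⟩)) (.node 1 (.leaf ⟨1635, 17043521, none, 1213, 19542099⟩) (.leaf ⟨1634, 19085379, none, 1214, 17043521⟩))))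
(.node 4 (.node 2 (.node 1 (.leaf ⟨1634, 17043521, none, 1214, 19277891⟩) (.leaf ⟨1214, 10971209, (some true), 1658, 25311325⟩)) (.node 1 (.leaf ⟨1364, 17043521, none, 1200, 17768531⟩) (.leaf ⟨1200, 17043521, (some true), 1645, 17633375⟩)))
(.node 2 (.node 1 (.leaf ⟨1199, 16934977, none, 1214, 19277891⟩) (.leaf ⟨1214, 17043521, none, 1199, 19355715⟩)) (.node 1 (.leaf ⟨1199, 19085399, (some false), 1213, 19740751⟩) (.leaf ⟨1199, 10971209, (some true), 1658, 27750485⟩)))))
(.node 8 (.node 4 (.node 2 (.node 1 (.leaf ⟨1142, 17043521, none, 266, 17592399⟩) (.leaf ⟨1158, 27553883, none, 277, 17043521⟩)) (.node 1 (.leaf ⟨1158, 17043521, none, 277, 27547729⟩) (.leaf ⟨1159, 8984665, none, 278, 17043521⟩)))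
(.node 2 (.node 1 (.leaf ⟨1138, 15026251, none, 259, 4679751⟩) (.leaf ⟨1138, 17043521, none, 259, 25704531⟩)) (.node 1 (.leaf ⟨1141, 17594459, none, 267, 17043521⟩) (.leaf ⟨1141, 17043521, none, 267, 17578059⟩))))
(.node 4 (.node 2 (.node 1 (.leaf ⟨1146, 25497691, none, 268, 17043521⟩) (.leaf ⟨1144, 15226971, none, 256, 19603549⟩)) (.node 1 (.leaf ⟨1144, 17043521, none, 256, 10645581⟩) (.leaf ⟨1143, 11483209, none, 266, 10973257⟩)))
(.node 2 (.node 1 (.leaf ⟨1143, 17043521, none, 266, 16918593⟩) (.leaf ⟨1202, 19357781, none, 1300, 17043521⟩)) (.node 1 (.leaf ⟨1202, 19357781, none, 266, 19877973⟩) (.leaf ⟨1202, 17043521, none, 266, 17643585⟩)))))))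
(.node 30 (.node 15 (.node 7 (.node 3 (.node 1 (.leaf ⟨1201, 11096141, none, 262, 17127489⟩) (.node 1 (.leaf ⟨1201, 11096141, none, 214, 19738697⟩) (.leaf ⟨1201, 17043521, none, 214, 9269327⟩)))
(.node 2 (.node 1 (.leaf ⟨1557, 17043521, none, 709, 17522775⟩) (.leaf ⟨709, 25385043, (some true), 1567, 9203803⟩)) (.node 1 (.leaf ⟨1549, 17043521, none, 703, 17719389⟩) (.leaf ⟨1543, 19667031, none, 134, 6570075⟩))))
(.node 4 (.node 2 (.node 1 (.leaf ⟨1543, 17043521, none, 134, 5064797⟩) (.leaf ⟨1548, 16916571, none, 1205, 17246279⟩)) (.node 1 (.leaf ⟨1567, 26099783, none, 840, 17117257⟩) (.leaf ⟨1567, 26099783, none, 374, 17117271⟩)))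
(.node 2 (.node 1 (.leaf ⟨1567, 17043521, none, 374, 4927557⟩) (.leaf ⟨374, 13310023, (some true), 1557, 9048149⟩)) (.node 1 (.leaf ⟨1548, 17043521, none, 1205, 17242205⟩) (.leaf ⟨1205, 17059919, (some true), 1549, 19140675⟩)))))
(.node 7 (.node 3 (.node 1 (.leaf ⟨1509, 17043521, none, 145, 19664985⟩) (.node 1 (.leaf ⟨1510, 17068111, none, 860, 17043521⟩) (.leaf ⟨1514, 25522265, none, 766, 8982611⟩)))
(.node 2 (.node 1 (.leaf ⟨1514, 25522265, none, 129, 14907465⟩) (.leaf ⟨1514, 17043521, none, 129, 30087259⟩)) (.node 1 (.leaf ⟨1509, 19085405, none, 375, 17576017⟩) (.leaf ⟨145, 17446985, none, 375, 17576017⟩))))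
(.node 4 (.node 2 (.node 1 (.leaf ⟨375, 17043521, none, 145, 17176649⟩) (.leaf ⟨376, 11350083, none, 308, 17576015⟩)) (.node 1 (.leaf ⟨380, 19099733, none, 868, 17043521⟩) (.leaf ⟨868, 17043521, none, 380, 19099733⟩)))
(.node 2 (.node 1 (.leaf ⟨869, 17721431, none, 223, 23685197⟩) (.leaf ⟨861, 19097665, none, 129, 7223387⟩)) (.node 1 (.leaf ⟨861, 17043521, none, 129, 8810565⟩) (.leaf ⟨879, 25448529, none, 254, 9269331⟩))))))
(.node 15 (.node 7 (.node 3 (.node 1 (.leaf ⟨879, 25448529, none, 229, 27990081⟩) (.node 1 (.leaf ⟨879, 17043521, none, 229, 19101785⟩) (.leaf ⟨880, 25704531, none, 1265, 9244737⟩)))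
(.node 2 (.node 1 (.leaf ⟨857, 29829201, none, 1265, 9244737⟩) (.leaf ⟨1265, 17043521, none, 857, 15419483⟩)) (.node 1 (.leaf ⟨1266, 17178703, none, 867, 17043521⟩) (.leaf ⟨857, 31801425, (some false), 1278, 17174609⟩))))
(.node 4 (.node 2 (.node 1 (.leaf ⟨1266, 17043521, none, 867, 16920651⟩) (.leaf ⟨867, 10971209, (some true), 1267, 27818049⟩)) (.node 1 (.leaf ⟨299, 11343943, none, 308, 17576015⟩) (.leaf ⟨308, 17043521, none, 299, 27621465⟩)))
(.node 2 (.node 1 (.leaf ⟨299, 13510735, (some false), 307, 17242195⟩) (.leaf ⟨299, 32125001, (some true), 836, 25372745⟩)) (.node 1 (.leaf ⟨299, 4544593, (some true), 836, 11493457⟩) (.leaf ⟨845, 11341889, none, 1075, 9181273⟩)))))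
(.node 8 (.node 4 (.node 2 (.node 1 (.leaf ⟨299, 27529303, (some false), 1069, 17508419⟩) (.leaf ⟨299, 6776923, (some false), 1069, 17262683⟩)) (.node 1 (.leaf ⟨299, 13510735, (some true), 1070, 19216457⟩) (.leaf ⟨299, 13310023, (some true), 1115, 8603743⟩)))
(.node 2 (.node 1 (.leaf ⟨299, 29904967, (some true), 1115, 11487301⟩) (.leaf ⟨1684, 17721421, none, 1069, 17262683⟩)) (.node 1 (.leaf ⟨1684, 17721421, none, 299, 21180507⟩) (.leaf ⟨1684, 17043521, none, 299, 31875165⟩))))
(.node 4 (.node 2 (.node 1 (.leaf ⟨1692, 17446989, none, 307, 17242195⟩) (.leaf ⟨1692, 17446989, none, 134, 7163989⟩)) (.node 1 (.leaf ⟨1692, 17043521, none, 134, 27664463⟩) (.leaf ⟨1693, 27594817, none, 831, 17043521⟩)))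
(.node 2 (.node 1 (.leaf ⟨1668, 19095627, none, 134, 23277659⟩) (.leaf ⟨1668, 17043521, none, 134, 27553875⟩)) (.node 1 (.leaf ⟨1669, 16982081, none, 837, 9195601⟩) (.leaf ⟨1669, 16982081, none, 299, 29773897⟩))))))))
(.node 61 (.node 30 (.node 15 (.node 7 (.node 3 (.node 1 (.leaf ⟨1669, 17043521, none, 299, 31942725⟩) (.node 1 (.leaf ⟨1696, 17258579, none, 1070, 19216457⟩) (.leaf ⟨1696, 17258579, none, 283, 17174619⟩)))
(.node 2 (.node 1 (.leaf ⟨1696, 17043521, none, 283, 17127517⟩) (.leaf ⟨1695, 19558479, none, 57, 23685197⟩)) (.node 1 (.leaf ⟨1695, 17043521, none, 57, 11038787⟩) (.leaf ⟨1673, 6961225, none, 283, 17705053⟩))))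
(.node 4 (.node 2 (.node 1 (.leaf ⟨299, 10963015, none, 283, 17705053⟩) (.leaf ⟨299, 17043521, none, 283, 6701143⟩)) (.node 1 (.leaf ⟨283, 7292999, (some false), 369, 17463375⟩) (.leaf ⟨375, 11343963, none, 1678, 17043521⟩)))
(.node 2 (.node 1 (.leaf ⟨378, 19740739, none, 293, 25376845⟩) (.leaf ⟨836, 10971203, none, 1690, 17119323⟩)) (.node 1 (.leaf ⟨1115, 17506375, none, 1676, 11040857⟩) (.leaf ⟨763, 17176667, none, 1676, 11040857⟩)))))
(.node 7 (.node 3 (.node 1 (.leaf ⟨1676, 17043521, none, 763, 8878147⟩) (.node 1 (.leaf ⟨763, 23928925, (some false), 1703, 17649743⟩) (.leaf ⟨1690, 17043521, none, 836, 8544347⟩)))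
(.node 2 (.node 1 (.leaf ⟨293, 8802377, none, 293, 25376845⟩) (.leaf ⟨293, 17043521, none, 293, 13445209⟩)) (.node 1 (.leaf ⟨1699, 17526853, none, 299, 19214427⟩) (.leaf ⟨1699, 17526853, none, 283, 14895175⟩))))
(.node 4 (.node 2 (.node 1 (.leaf ⟨1699, 17043521, none, 283, 23873603⟩) (.leaf ⟨1700, 17578057, none, 1678, 25720905⟩)) (.node 1 (.leaf ⟨1700, 17043521, none, 1678, 8933441⟩) (.leaf ⟨145, 11407425, none, 1678, 17043521⟩)))
(.node 2 (.node 1 (.leaf ⟨1678, 17043521, none, 145, 11407425⟩) (.leaf ⟨145, 23928925, (some false), 1679, 17578071⟩)) (.node 1 (.leaf ⟨1700, 17258565, none, 904, 17043521⟩) (.leaf ⟨145, 19667013, none, 904, 17043521⟩))))))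
(.node 15 (.node 7 (.node 3 (.node 1 (.leaf ⟨904, 17043521, none, 145, 19667013⟩) (.node 1 (.leaf ⟨905, 17659993, none, 860, 17043521⟩) (.leaf ⟨905, 17043521, none, 860, 17641547⟩)))
(.node 2 (.node 1 (.leaf ⟨845, 11341889, none, 374, 17705055⟩) (.leaf ⟨845, 17043521, none, 374, 25641037⟩)) (.node 1 (.leaf ⟨374, 13510735, (some true), 846, 19224641⟩) (.leaf ⟨374, 31801425, (some false), 1026, 17242205⟩))))
(.node 4 (.node 2 (.node 1 (.leaf ⟨374, 13510735, (some false), 1042, 17764427⟩) (.leaf ⟨374, 31801425, (some true), 272, 15274061⟩)) (.node 1 (.leaf ⟨374, 4743241, none, 857, 17043521⟩) (.leaf ⟨374, 4808797, (some true), 1507, 9252953⟩)))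
(.node 2 (.node 1 (.leaf ⟨374, 7292999, (some false), 1518, 17002591⟩) (.leaf ⟨1530, 15292483, none, 1128, 27928665⟩)) (.node 1 (.leaf ⟨293, 17125449, none, 1128, 27928665⟩) (.leaf ⟨1128, 17043521, none, 293, 21110869⟩)))))
(.node 8 (.node 4 (.node 2 (.node 1 (.leaf ⟨293, 13510735, (some true), 1127, 17125465⟩) (.leaf ⟨293, 32131155, (some true), 1127, 19159121⟩)) (.node 1 (.leaf ⟨293, 4544593, (some true), 1127, 17045595⟩) (.leaf ⟨293, 29904967, (some true), 1127, 19165273⟩)))
(.node 2 (.node 1 (.leaf ⟨857, 17043521, none, 374, 4743241⟩) (.leaf ⟨879, 32116807, none, 1068, 25315423⟩)) (.node 1 (.leaf ⟨374, 10971209, (some true), 909, 8603723⟩) (.leaf ⟨1278, 17649739, none, 161, 21979225⟩))))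
(.node 4 (.node 2 (.node 1 (.leaf ⟨1278, 17649739, none, 145, 31811671⟩) (.leaf ⟨1278, 17043521, none, 145, 30154847⟩)) (.node 1 (.leaf ⟨1279, 17576017, none, 1679, 17578071⟩) (.leaf ⟨1679, 17043521, none, 1279, 17045597⟩)))
(.node 2 (.node 1 (.leaf ⟨229, 29569101, none, 283, 6971461⟩) (.leaf ⟨283, 17043521, none, 229, 23605343⟩)) (.node 1 (.leaf ⟨57, 25761869, none, 1259, 17043521⟩) (.leaf ⟨300, 28203101, none, 1262, 25768011⟩)))))))
(.node 30 (.node 15 (.node 7 (.node 3 (.node 1 (.leaf ⟨229, 23928925, (some false), 1668, 17528913⟩) (.node 1 (.leaf ⟨229, 31801425, (some false), 1668, 17068099⟩) (.leaf ⟨1673, 27875409, none, 1275, 27529281⟩)))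
(.node 2 (.node 1 (.leaf ⟨1690, 25440331, none, 253, 27752539⟩) (.leaf ⟨229, 9056345, (some false), 1767, 17715295⟩)) (.node 1 (.leaf ⟨229, 32125001, (some false), 1767, 17045587⟩) (.leaf ⟨369, 17109073, none, 1240, 17043521⟩))))
(.node 4 (.node 2 (.node 1 (.leaf ⟨293, 19863629, none, 1240, 17043521⟩) (.leaf ⟨1240, 17043521, none, 293, 19863629⟩)) (.node 1 (.leaf ⟨1257, 17508437, none, 71, 9396299⟩) (.leaf ⟨1279, 25458783, none, 1079, 25696345⟩)))
(.node 2 (.node 1 (.leaf ⟨1279, 25458783, none, 374, 14837841⟩) (.leaf ⟨1279, 17043521, none, 374, 30099549⟩)) (.node 1 (.leaf ⟨1278, 19214409, none, 1518, 17002591⟩) (.leaf ⟨145, 21768287, none, 1518, 17002591⟩)))))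
(.node 7 (.node 3 (.node 1 (.leaf ⟨1518, 17043521, none, 145, 27750465⟩) (.node 1 (.leaf ⟨1718, 11284571, none, 890, 27605063⟩) (.leaf ⟨292, 10895447, none, 890, 27605063⟩)))
(.node 2 (.node 1 (.leaf ⟨890, 17043521, none, 292, 8609881⟩) (.leaf ⟨889, 17125445, none, 1761, 17043521⟩)) (.node 1 (.leaf ⟨905, 27410519, none, 1744, 27605063⟩) (.leaf ⟨860, 28201041, none, 1744, 27605063⟩))))
(.node 4 (.node 2 (.node 1 (.leaf ⟨1744, 17043521, none, 860, 17780823⟩) (.leaf ⟨860, 19085399, (some true), 1743, 19159119⟩)) (.node 1 (.leaf ⟨889, 17125445, none, 872, 28012627⟩) (.leaf ⟨889, 17043521, none, 872, 25376839⟩)))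
(.node 2 (.node 1 (.leaf ⟨872, 19085399, (some true), 145, 15032405⟩) (.leaf ⟨899, 17567819, none, 1763, 17569885⟩)) (.node 1 (.leaf ⟨1763, 17043521, none, 899, 17045589⟩) (.leaf ⟨1257, 17043521, none, 71, 6772815⟩))))))
(.node 15 (.node 7 (.node 3 (.node 1 (.leaf ⟨1270, 17174607, none, 223, 11022423⟩) (.node 1 (.leaf ⟨1270, 17174607, none, 129, 25825373⟩) (.leaf ⟨1270, 17043521, none, 129, 30019667⟩)))
(.node 2 (.node 1 (.leaf ⟨1269, 9246787, none, 375, 17576017⟩) (.leaf ⟨1269, 9246787, none, 145, 17446985⟩)) (.node 1 (.leaf ⟨1269, 17043521, none, 145, 28201043⟩) (.leaf ⟨836, 8798297, none, 129, 15683663⟩))))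
(.node 4 (.node 2 (.node 1 (.leaf ⟨836, 17043521, none, 129, 10973279⟩) (.leaf ⟨188, 25311305, none, 380, 17715281⟩)) (.node 1 (.leaf ⟨848, 25505881, none, 750, 17043521⟩) (.leaf ⟨1035, 27856963, none, 239, 11104323⟩)))
(.node 2 (.node 1 (.leaf ⟨1035, 27856963, none, 71, 4743249⟩) (.leaf ⟨1035, 17043521, none, 71, 4540489⟩)) (.node 1 (.leaf ⟨1034, 19603531, none, 299, 17043521⟩) (.leaf ⟨1034, 19603531, none, 229, 21196879⟩)))))
(.node 8 (.node 4 (.node 2 (.node 1 (.leaf ⟨1034, 17043521, none, 229, 11352153⟩) (.leaf ⟨1033, 6910027, none, 1240, 17043521⟩)) (.node 1 (.leaf ⟨1033, 6910027, none, 293, 19863629⟩) (.leaf ⟨1033, 17043521, none, 293, 8601681⟩)))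
(.node 2 (.node 1 (.leaf ⟨293, 10971209, (some true), 188, 29636695⟩) (.leaf ⟨293, 17059919, (some true), 188, 12931141⟩)) (.node 1 (.leaf ⟨293, 4808797, (some true), 188, 4733021⟩) (.leaf ⟨293, 13310023, (some true), 188, 30232647⟩))))
(.node 4 (.node 2 (.node 1 (.leaf ⟨848, 25505881, none, 292, 25450567⟩) (.leaf ⟨848, 17043521, none, 292, 17127517⟩)) (.node 1 (.leaf ⟨849, 11081809, none, 1761, 17043521⟩) (.leaf ⟨374, 27922503, none, 872, 28012627⟩)))
(.node 2 (.node 1 (.leaf ⟨872, 17043521, none, 374, 17127499⟩) (.leaf ⟨867, 19544137, none, 161, 21979225⟩)) (.node 1 (.leaf ⟨374, 13310023, (some false), 1763, 17190979⟩) (.leaf ⟨374, 25385043, (some true), 145, 21585999⟩)))))))))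

/-- The facts. -/
def caseCFullFactsRRLLR : Tab Fct :=
(.node 122 (.node 61 (.node 30 (.node 15 (.node 7 (.node 3 (.node 1 (.leaf ⟨867, 19544137, none, 145, 31811671⟩) (.node 1 (.leaf ⟨867, 17043521, none, 145, 24064087⟩) (.leaf ⟨1267, 17053777, none, 308, 17576015⟩)))
(.node 2 (.node 1 (.leaf ⟨1267, 17053777, none, 229, 12736601⟩) (.leaf ⟨1267, 17043521, none, 229, 6778953⟩)) (.node 1 (.leaf ⟨380, 17043521, none, 188, 30042205⟩) (.leaf ⟨381, 16916571, none, 763, 17524805⟩))))
(.node 4 (.node 2 (.node 1 (.leaf ⟨145, 19673155, none, 763, 17524805⟩) (.leaf ⟨763, 17043521, none, 145, 19083353⟩)) (.node 1 (.leaf ⟨1026, 17705025, none, 734, 6701129⟩) (.leaf ⟨1116, 17117257, none, 892, 17043521⟩)))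
(.node 2 (.node 1 (.leaf ⟨1703, 17766477, none, 885, 17043521⟩) (.leaf ⟨1703, 17043521, none, 885, 17700955⟩)) (.node 1 (.leaf ⟨229, 19863623, none, 892, 17043521⟩) (.leaf ⟨892, 17043521, none, 229, 19863623⟩)))))
(.node 7 (.node 3 (.node 1 (.leaf ⟨145, 27469911, none, 1273, 17043521⟩) (.node 1 (.leaf ⟨229, 6776923, (some false), 893, 17002589⟩) (.leaf ⟨229, 10971209, (some false), 893, 17782875⟩)))
(.node 2 (.node 1 (.leaf ⟨1273, 17043521, none, 145, 27469911⟩) (.leaf ⟨1286, 16918593, none, 722, 17043521⟩)) (.node 1 (.leaf ⟨1286, 17043521, none, 722, 16982081⟩) (.leaf ⟨722, 11495495, (some true), 1287, 25768009⟩))))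
(.node 4 (.node 2 (.node 1 (.leaf ⟨1026, 17705025, none, 710, 8810577⟩) (.leaf ⟨1026, 17043521, none, 710, 7086161⟩)) (.node 1 (.leaf ⟨710, 13310023, (some false), 845, 17770567⟩) (.leaf ⟨229, 6635611, none, 1275, 27529281⟩)))
(.node 2 (.node 1 (.leaf ⟨1275, 17043521, none, 229, 6645841⟩) (.leaf ⟨1291, 12800069, none, 1269, 17043521⟩)) (.node 1 (.leaf ⟨1291, 12800069, none, 145, 28201043⟩) (.leaf ⟨1291, 17043521, none, 145, 24055879⟩))))))
(.node 15 (.node 7 (.node 3 (.node 1 (.leaf ⟨1290, 19275841, none, 173, 27605065⟩) (.node 1 (.leaf ⟨1290, 19275841, none, 71, 15036503⟩) (.leaf ⟨1290, 17043521, none, 71, 10709085⟩)))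
(.node 2 (.node 1 (.leaf ⟨217, 32006225, none, 293, 17043521⟩) (.leaf ⟨293, 17043521, none, 217, 32006225⟩)) (.node 1 (.leaf ⟨217, 4808797, (some false), 299, 19748943⟩) (.leaf ⟨217, 13510735, (some false), 299, 19341391⟩))))
(.node 4 (.node 2 (.node 1 (.leaf ⟨1127, 19222595, none, 223, 11419739⟩) (.leaf ⟨188, 23400525, none, 1228, 25434187⟩)) (.node 1 (.leaf ⟨1228, 17043521, none, 188, 29694021⟩) (.leaf ⟨188, 32125001, (some false), 1231, 16986193⟩)))
(.node 2 (.node 1 (.leaf ⟨1241, 17659977, none, 1014, 17043521⟩) (.leaf ⟨1245, 17641547, none, 1015, 19691589⟩)) (.node 1 (.leaf ⟨1253, 17246297, none, 836, 17043521⟩) (.leaf ⟨1253, 17246297, none, 129, 10973279⟩)))))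
(.node 8 (.node 4 (.node 2 (.node 1 (.leaf ⟨1253, 17043521, none, 129, 4483151⟩) (.leaf ⟨1254, 17659969, none, 254, 9269331⟩)) (.node 1 (.leaf ⟨1254, 17659969, none, 229, 27990081⟩) (.leaf ⟨1254, 17043521, none, 229, 9386049⟩)))
(.node 2 (.node 1 (.leaf ⟨1255, 11350099, none, 1265, 9244737⟩) (.leaf ⟨1229, 19083335, none, 374, 11421791⟩)) (.node 1 (.leaf ⟨1229, 17043521, none, 374, 13320285⟩) (.leaf ⟨374, 9056345, (some false), 1235, 17440847⟩))))
(.node 4 (.node 2 (.node 1 (.leaf ⟨374, 6776923, (some false), 1238, 17780803⟩) (.leaf ⟨374, 27529303, (some false), 1239, 16922715⟩)) (.node 1 (.leaf ⟨1245, 17043521, none, 1015, 19224647⟩) (.leaf ⟨1246, 17512523, none, 1014, 19560517⟩)))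
(.node 2 (.node 1 (.leaf ⟨1246, 17043521, none, 1014, 19222597⟩) (.leaf ⟨1241, 17043521, none, 1014, 17641563⟩)) (.node 1 (.leaf ⟨1242, 17242197, none, 1015, 17043521⟩) (.leaf ⟨1242, 17043521, none, 1015, 17176663⟩)))))))
(.node 30 (.node 15 (.node 7 (.node 3 (.node 1 (.leaf ⟨1015, 11495495, (some true), 1243, 19206227⟩) (.node 1 (.leaf ⟨1030, 19095621, none, 129, 21127249⟩) (.leaf ⟨1030, 17043521, none, 129, 25497689⟩)))
(.node 2 (.node 1 (.leaf ⟨1029, 17633355, none, 741, 17043521⟩) (.leaf ⟨188, 25589849, none, 741, 17043521⟩)) (.node 1 (.leaf ⟨741, 17043521, none, 188, 25589849⟩) (.leaf ⟨742, 17180757, none, 839, 17043521⟩))))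
(.node 4 (.node 2 (.node 1 (.leaf ⟨1046, 19157073, none, 1029, 17043521⟩) (.leaf ⟨1046, 19157073, none, 188, 11481171⟩)) (.node 1 (.leaf ⟨1046, 17043521, none, 188, 10975299⟩) (.leaf ⟨1047, 27611225, none, 1020, 27605063⟩)))
(.node 2 (.node 1 (.leaf ⟨1020, 10960969, none, 1020, 27605063⟩) (.leaf ⟨1020, 17043521, none, 1020, 21504073⟩)) (.node 1 (.leaf ⟨1020, 31801425, (some true), 1019, 25505877⟩) (.leaf ⟨1020, 32131155, (some true), 1019, 19142743⟩)))))
(.node 7 (.node 3 (.node 1 (.leaf ⟨1020, 13310023, (some true), 1019, 9246807⟩) (.node 1 (.leaf ⟨1020, 25385043, (some true), 1019, 17061973⟩) (.leaf ⟨1020, 29904967, (some true), 1019, 11096157⟩)))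
(.node 2 (.node 1 (.leaf ⟨1020, 11495495, (some true), 1019, 17117263⟩) (.leaf ⟨1020, 4808797, (some true), 1021, 19732553⟩)) (.node 1 (.leaf ⟨1020, 13510735, (some true), 1021, 25522259⟩) (.leaf ⟨1020, 32125001, (some true), 1021, 25702491⟩))))
(.node 4 (.node 2 (.node 1 (.leaf ⟨1020, 19085399, (some true), 1021, 27801667⟩) (.leaf ⟨1020, 4544593, (some true), 1021, 11368537⟩)) (.node 1 (.leaf ⟨1020, 4808797, (some false), 1022, 17002571⟩) (.leaf ⟨1020, 7292999, (some false), 1022, 17133639⟩)))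
(.node 2 (.node 1 (.leaf ⟨1020, 23928925, (some false), 1023, 16916559⟩) (.leaf ⟨1020, 6776923, (some false), 1023, 17125467⟩)) (.node 1 (.leaf ⟨1020, 32125001, (some false), 1023, 17649745⟩) (.leaf ⟨1023, 16998481, none, 1022, 17043521⟩))))))
(.node 15 (.node 7 (.node 3 (.node 1 (.leaf ⟨1023, 17043521, none, 1022, 17442897⟩) (.node 1 (.leaf ⟨839, 17043521, none, 742, 17180757⟩) (.leaf ⟨292, 25589849, none, 1262, 25768011⟩)))
(.node 2 (.node 1 (.leaf ⟨1262, 17043521, none, 292, 16920649⟩) (.leaf ⟨1282, 16922699, none, 286, 17127489⟩)) (.node 1 (.leaf ⟨292, 4808797, (some true), 1287, 28256333⟩) (.leaf ⟨1282, 16922699, none, 144, 15429705⟩))))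
(.node 4 (.node 2 (.node 1 (.leaf ⟨1282, 17043521, none, 144, 5068867⟩) (.leaf ⟨1283, 17705045, none, 862, 32067655⟩)) (.node 1 (.leaf ⟨1283, 17705045, none, 292, 17178717⟩) (.leaf ⟨1283, 17043521, none, 292, 17569863⟩)))
(.node 2 (.node 1 (.leaf ⟨1284, 8998979, none, 301, 11096139⟩) (.leaf ⟨1260, 10704991, none, 229, 21311581⟩)) (.node 1 (.leaf ⟨1260, 17043521, none, 229, 6840387⟩) (.leaf ⟨1259, 17043521, none, 57, 25761869⟩)))))
(.node 8 (.node 4 (.node 2 (.node 1 (.leaf ⟨1510, 17043521, none, 860, 17068119⟩) (.leaf ⟨1526, 17193039, none, 901, 17440833⟩)) (.node 1 (.leaf ⟨1526, 17043521, none, 901, 17004619⟩) (.leaf ⟨1504, 17578079, none, 144, 30228545⟩)))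
(.node 2 (.node 1 (.leaf ⟨1504, 17043521, none, 144, 23412821⟩) (.leaf ⟨1503, 11278405, none, 877, 25587779⟩)) (.node 1 (.leaf ⟨1503, 11278405, none, 200, 29579345⟩) (.leaf ⟨1503, 17043521, none, 200, 14841949⟩))))
(.node 4 (.node 2 (.node 1 (.leaf ⟨1511, 17459283, none, 1100, 19558475⟩) (.leaf ⟨1511, 17043521, none, 1100, 19167303⟩)) (.node 1 (.leaf ⟨1512, 17576009, none, 1217, 9261121⟩) (.leaf ⟨1500, 27467863, none, 1217, 9261121⟩)))
(.node 2 (.node 1 (.leaf ⟨1500, 17043521, none, 1217, 4747359⟩) (.leaf ⟨1217, 29904967, (some false), 272, 25383007⟩)) (.node 1 (.leaf ⟨1217, 27793499, none, 851, 17043521⟩) (.leaf ⟨1217, 31801425, (some true), 1526, 27928651⟩))))))))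
(.node 61 (.node 30 (.node 15 (.node 7 (.node 3 (.node 1 (.leaf ⟨1217, 17043521, none, 851, 9246801⟩) (.node 1 (.leaf ⟨851, 17043521, (some true), 1100, 19812419⟩) (.leaf ⟨1526, 28000329, none, 864, 25837663⟩)))
(.node 2 (.node 1 (.leaf ⟨901, 27883613, none, 698, 26165329⟩) (.leaf ⟨901, 17043521, none, 698, 19015757⟩)) (.node 1 (.leaf ⟨900, 19619933, none, 699, 17043521⟩) (.leaf ⟨860, 19140689, none, 699, 17043521⟩))))
(.node 4 (.node 2 (.node 1 (.leaf ⟨860, 17043521, none, 699, 19140691⟩) (.leaf ⟨1743, 17133663, none, 700, 17043521⟩)) (.node 1 (.leaf ⟨1743, 17043521, none, 700, 17135687⟩) (.leaf ⟨292, 14905411, none, 699, 19560517⟩)))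
(.node 2 (.node 1 (.leaf ⟨699, 17043521, none, 292, 23861337⟩) (.leaf ⟨292, 10971209, (some false), 698, 19816521⟩)) (.node 1 (.leaf ⟨737, 27672651, none, 1386, 25761857⟩) (.leaf ⟨1386, 17043521, none, 737, 19802201⟩)))))
(.node 7 (.node 3 (.node 1 (.leaf ⟨737, 25385043, (some true), 1387, 19738691⟩) (.node 1 (.leaf ⟨737, 32125001, (some false), 1750, 17125451⟩) (.leaf ⟨113, 21368903, none, 700, 17135687⟩)))
(.node 2 (.node 1 (.leaf ⟨700, 17043521, none, 113, 13332545⟩) (.leaf ⟨701, 17770573, none, 614, 17193027⟩)) (.node 1 (.leaf ⟨123, 31733839, none, 614, 17193027⟩) (.leaf ⟨614, 17043521, none, 123, 28256329⟩))))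
(.node 4 (.node 2 (.node 1 (.leaf ⟨345, 19271753, none, 1753, 17043521⟩) (.leaf ⟨1753, 17043521, none, 345, 19271753⟩)) (.node 1 (.leaf ⟨345, 13310023, (some false), 1754, 17651793⟩) (.leaf ⟨345, 4808797, (some false), 1754, 16922693⟩)))
(.node 2 (.node 1 (.leaf ⟨345, 13510735, (some false), 1754, 17657945⟩) (.leaf ⟨345, 6776923, (some false), 1754, 16986191⟩)) (.node 1 (.leaf ⟨1704, 17043521, (some false), 1771, 17043521⟩) (.leaf ⟨1771, 17043521, (some false), 1704, 17127489⟩))))))
(.node 15 (.node 7 (.node 3 (.node 1 (.leaf ⟨1771, 25385043, (some true), 1772, 17043521⟩) (.node 1 (.leaf ⟨1772, 17043521, (some true), 1771, 25385043⟩) (.leaf ⟨1772, 31801425, (some true), 1773, 17043521⟩)))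
(.node 2 (.node 1 (.leaf ⟨1773, 17043521, (some true), 1772, 31801425⟩) (.leaf ⟨1773, 13310023, (some true), 1774, 17043521⟩)) (.node 1 (.leaf ⟨1774, 17043521, (some true), 1773, 13310023⟩) (.leaf ⟨292, 7157831, none, 1774, 23621717⟩))))
(.node 4 (.node 2 (.node 1 (.leaf ⟨1774, 17043521, none, 292, 26097739⟩) (.leaf ⟨1773, 13244485, none, 301, 11096139⟩)) (.node 1 (.leaf ⟨1773, 13244485, none, 229, 21311581⟩) (.leaf ⟨1773, 17043521, none, 229, 9060441⟩)))
(.node 2 (.node 1 (.leaf ⟨1772, 6824017, none, 1273, 27881553⟩) (.leaf ⟨1772, 6824017, none, 145, 11485269⟩)) (.node 1 (.leaf ⟨1772, 17043521, none, 145, 7217235⟩) (.leaf ⟨1771, 16988225, none, 188, 28196943⟩)))))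
(.node 8 (.node 4 (.node 2 (.node 1 (.leaf ⟨1771, 17043521, none, 188, 32194629⟩) (.leaf ⟨1704, 17576031, none, 726, 17043521⟩)) (.node 1 (.leaf ⟨1704, 17043521, none, 726, 17592407⟩) (.leaf ⟨726, 17059919, (some true), 1703, 17586261⟩)))
(.node 2 (.node 1 (.leaf ⟨1741, 17659971, none, 734, 17043521⟩) (.leaf ⟨1741, 17659971, none, 710, 27537503⟩)) (.node 1 (.leaf ⟨1741, 17043521, none, 710, 9263175⟩) (.leaf ⟨1742, 9254985, none, 709, 19085399⟩))))
(.node 4 (.node 2 (.node 1 (.leaf ⟨292, 13373505, none, 709, 19085399⟩) (.leaf ⟨709, 17043521, none, 292, 7284827⟩)) (.node 1 (.leaf ⟨1567, 11022419, none, 1704, 8550479⟩) (.leaf ⟨374, 12742751, none, 726, 8800347⟩)))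
(.node 2 (.node 1 (.leaf ⟨726, 17043521, none, 374, 9189465⟩) (.leaf ⟨374, 17043521, (some true), 727, 11302985⟩)) (.node 1 (.leaf ⟨374, 32125001, (some true), 734, 8927323⟩) (.leaf ⟨1703, 11096133, none, 134, 31797313⟩)))))))
(.node 30 (.node 15 (.node 7 (.node 3 (.node 1 (.leaf ⟨885, 10901599, none, 134, 31797313⟩) (.node 1 (.leaf ⟨885, 17043521, none, 134, 23601239⟩) (.leaf ⟨886, 16922691, none, 1205, 17766477⟩)))
(.node 2 (.node 1 (.leaf ⟨722, 19603531, none, 1205, 17766477⟩) (.leaf ⟨1205, 17043521, none, 722, 19558469⟩)) (.node 1 (.leaf ⟨1366, 19232853, none, 145, 14958673⟩) (.leaf ⟨722, 25385043, (some true), 1549, 11368523⟩))))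
(.node 4 (.node 2 (.node 1 (.leaf ⟨722, 17717321, none, 145, 14958673⟩) (.leaf ⟨722, 17043521, none, 145, 27738207⟩)) (.node 1 (.leaf ⟨1287, 19757121, none, 188, 28196943⟩) (.leaf ⟨1549, 17119299, none, 890, 27605063⟩)))
(.node 2 (.node 1 (.leaf ⟨703, 17459287, none, 292, 10895447⟩) (.leaf ⟨703, 17043521, none, 292, 21446721⟩)) (.node 1 (.leaf ⟨292, 32131155, (some true), 702, 19691605⟩) (.leaf ⟨704, 17528921, none, 1739, 19877955⟩)))))
(.node 7 (.node 3 (.node 1 (.leaf ⟨1373, 27799627, none, 1761, 17043521⟩) (.node 1 (.leaf ⟨1118, 11409485, none, 374, 27922503⟩) (.leaf ⟨1118, 17043521, none, 374, 13441105⟩)))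
(.node 2 (.node 1 (.leaf ⟨1214, 9271363, none, 1128, 27928665⟩) (.leaf ⟨1199, 10702913, none, 217, 13133913⟩)) (.node 1 (.leaf ⟨1199, 17043521, none, 217, 25655389⟩) (.leaf ⟨1213, 19148893, none, 1224, 19277903⟩))))
(.node 4 (.node 2 (.node 1 (.leaf ⟨1658, 19017823, none, 1229, 9271389⟩) (.leaf ⟨1658, 19017823, none, 374, 4857937⟩)) (.node 1 (.leaf ⟨1658, 17043521, none, 374, 9252935⟩) (.leaf ⟨1657, 19214421, none, 1239, 16922715⟩)))
(.node 2 (.node 1 (.leaf ⟨1657, 17043521, none, 1239, 19339335⟩) (.leaf ⟨1239, 19085399, (some false), 1656, 17000541⟩)) (.node 1 (.leaf ⟨1224, 17043521, none, 1213, 16982097⟩) (.leaf ⟨1223, 19798109, none, 1161, 29511765⟩))))))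
(.node 15 (.node 7 (.node 3 (.node 1 (.leaf ⟨1213, 19085399, (some true), 697, 17766487⟩) (.node 1 (.leaf ⟨1223, 19798109, none, 280, 30224459⟩) (.leaf ⟨1223, 17043521, none, 280, 8808535⟩)))
(.node 2 (.node 1 (.leaf ⟨1235, 17180753, none, 281, 17043521⟩) (.leaf ⟨1246, 17592395, none, 1386, 19294295⟩)) (.node 1 (.leaf ⟨1014, 19738711, none, 737, 16922697⟩) (.leaf ⟨1014, 17043521, none, 737, 19798101⟩))))
(.node 4 (.node 2 (.node 1 (.leaf ⟨737, 19085399, (some false), 188, 27856977⟩) (.leaf ⟨1015, 16935005, none, 145, 21979225⟩)) (.node 1 (.leaf ⟨1015, 17043521, none, 145, 25565257⟩) (.leaf ⟨1243, 27865163, none, 188, 28196943⟩)))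
(.node 2 (.node 1 (.leaf ⟨1213, 8935509, none, 188, 28196943⟩) (.leaf ⟨1213, 17043521, none, 188, 27992155⟩)) (.node 1 (.leaf ⟨1161, 9048145, none, 1231, 16986193⟩) (.leaf ⟨1214, 17594463, none, 894, 17043521⟩)))))
(.node 8 (.node 4 (.node 2 (.node 1 (.leaf ⟨188, 32125001, (some true), 697, 19353685⟩) (.leaf ⟨217, 23420999, none, 894, 17043521⟩)) (.node 1 (.leaf ⟨894, 17043521, none, 217, 23420999⟩) (.leaf ⟨895, 11278411, none, 1228, 25505873⟩)))
(.node 2 (.node 1 (.leaf ⟨705, 8546395, none, 188, 31733853⟩) (.leaf ⟨705, 17043521, none, 188, 13133899⟩)) (.node 1 (.leaf ⟨706, 25507907, none, 662, 17043521⟩) (.leaf ⟨706, 25507907, none, 129, 19159113⟩))))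
(.node 4 (.node 2 (.node 1 (.leaf ⟨706, 17043521, none, 129, 25514057⟩) (.leaf ⟨280, 9396315, none, 1231, 16986193⟩)) (.node 1 (.leaf ⟨1231, 17043521, none, 280, 15431757⟩) (.leaf ⟨1235, 17180753, none, 214, 15405143⟩)))
(.node 2 (.node 1 (.leaf ⟨1235, 17043521, none, 214, 11417677⟩) (.leaf ⟨123, 15683665, none, 1739, 19877955⟩)) (.node 1 (.leaf ⟨1739, 17043521, none, 123, 27529297⟩) (.leaf ⟨1738, 19542081, none, 703, 19337301⟩)))))))))

/-- The facts. -/
def caseCFullFactsRRLL : Tab Fct := .node 244 caseCFullFactsRRLLL caseCFullFactsRRLLR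

/-- The facts. -/
def caseCFullFactsRRLRL : Tab Fct :=
(.node 122 (.node 61 (.node 30 (.node 15 (.node 7 (.node 3 (.node 1 (.leaf ⟨1738, 19542081, none, 292, 23349333⟩) (.node 1 (.leaf ⟨1738, 17043521, none, 292, 11485257⟩) (.leaf ⟨1287, 17043521, none, 188, 8603735⟩)))
(.node 2 (.node 1 (.leaf ⟨1288, 25704529, none, 1019, 17043521⟩) (.leaf ⟨292, 5062751, none, 1019, 17043521⟩)) (.node 1 (.leaf ⟨1019, 17043521, none, 292, 5062751⟩) (.leaf ⟨1020, 17586267, none, 1749, 17043521⟩))))
(.node 4 (.node 2 (.node 1 (.leaf ⟨1043, 8798291, none, 1717, 25432139⟩) (.leaf ⟨1043, 8798291, none, 145, 32055385⟩)) (.node 1 (.leaf ⟨1043, 17043521, none, 145, 14893139⟩) (.leaf ⟨1042, 17174599, none, 188, 28196943⟩)))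
(.node 2 (.node 1 (.leaf ⟨1042, 17043521, none, 188, 32260173⟩) (.leaf ⟨1020, 17586267, none, 737, 27672651⟩)) (.node 1 (.leaf ⟨1020, 17043521, none, 737, 10960977⟩) (.leaf ⟨737, 11495495, (some true), 1021, 8933467⟩)))))
(.node 7 (.node 3 (.node 1 (.leaf ⟨737, 7292999, (some false), 1022, 17715283⟩) (.node 1 (.leaf ⟨737, 10971209, (some false), 1023, 17633365⟩) (.leaf ⟨737, 32131155, (some true), 1046, 17526875⟩)))
(.node 2 (.node 1 (.leaf ⟨737, 17059919, (some true), 1019, 19757151⟩) (.leaf ⟨737, 13310023, (some true), 1019, 8917069⟩)) (.node 1 (.leaf ⟨737, 4544593, (some true), 1019, 17043543⟩) (.leaf ⟨737, 31801425, (some true), 1019, 27856965⟩))))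
(.node 4 (.node 2 (.node 1 (.leaf ⟨737, 13510735, (some true), 1019, 8982605⟩) (.leaf ⟨737, 17043521, (some true), 1021, 19738697⟩)) (.node 1 (.leaf ⟨737, 32125001, (some true), 1021, 25497683⟩) (.leaf ⟨737, 29904967, (some true), 1021, 25434201⟩)))
(.node 2 (.node 1 (.leaf ⟨737, 4808797, (some true), 1021, 17043529⟩) (.leaf ⟨737, 19085399, (some true), 1021, 25786459⟩)) (.node 1 (.leaf ⟨737, 27529303, (some false), 1022, 17244227⟩) (.leaf ⟨737, 29904967, (some false), 1023, 17004613⟩))))))
(.node 15 (.node 7 (.node 3 (.node 1 (.leaf ⟨737, 13310023, (some false), 1023, 17569879⟩) (.node 1 (.leaf ⟨737, 6776923, (some false), 1023, 17240139⟩) (.leaf ⟨737, 30232655, none, 1020, 19560517⟩)))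
(.node 2 (.node 1 (.leaf ⟨737, 30232655, none, 737, 23349335⟩) (.leaf ⟨737, 17043521, none, 737, 6975563⟩)) (.node 1 (.leaf ⟨737, 4808797, (some false), 1750, 17528923⟩) (.leaf ⟨737, 23928925, (some false), 1750, 17111129⟩))))
(.node 4 (.node 2 (.node 1 (.leaf ⟨737, 9056345, (some false), 1750, 16918611⟩) (.leaf ⟨737, 31801425, (some false), 1750, 17768539⟩)) (.node 1 (.leaf ⟨737, 13510735, (some false), 188, 27873369⟩) (.leaf ⟨1019, 19222599, none, 1387, 19738691⟩)))
(.node 2 (.node 1 (.leaf ⟨292, 21841993, none, 280, 25839691⟩) (.leaf ⟨292, 17043521, none, 280, 11014211⟩)) (.node 1 (.leaf ⟨280, 29904967, (some false), 286, 17256519⟩) (.leaf ⟨280, 4808797, (some false), 300, 17717343⟩)))))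
(.node 8 (.node 4 (.node 2 (.node 1 (.leaf ⟨301, 25759817, none, 1637, 17043521⟩) (.leaf ⟨1671, 8935507, none, 1638, 25768023⟩)) (.node 1 (.leaf ⟨280, 9056345, (some false), 1689, 17193055⟩) (.leaf ⟨280, 4808797, (some true), 1717, 19224665⟩)))
(.node 2 (.node 1 (.leaf ⟨280, 17043521, (some false), 1736, 19626059⟩) (.leaf ⟨280, 31801425, (some false), 1738, 17190979⟩)) (.node 1 (.leaf ⟨280, 25385043, (some true), 1741, 17586271⟩) (.leaf ⟨280, 6776923, (some false), 1755, 17715271⟩))))
(.node 4 (.node 2 (.node 1 (.leaf ⟨280, 13510735, (some false), 744, 19605571⟩) (.leaf ⟨641, 17768543, none, 1635, 19691589⟩)) (.node 1 (.leaf ⟨1287, 16916559, none, 1656, 17043521⟩) (.leaf ⟨698, 19095641, none, 1640, 17043521⟩)))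
(.node 2 (.node 1 (.leaf ⟨702, 19738701, none, 1649, 17043521⟩) (.leaf ⟨1649, 17043521, none, 702, 19738701⟩)) (.node 1 (.leaf ⟨702, 19085399, (some false), 1664, 17119325⟩) (.leaf ⟨1640, 17043521, none, 698, 19095641⟩)))))))
(.node 30 (.node 15 (.node 7 (.node 3 (.node 1 (.leaf ⟨698, 17059919, (some true), 1653, 17135683⟩) (.node 1 (.leaf ⟨188, 4540501, none, 1656, 17043521⟩) (.leaf ⟨1656, 17043521, none, 188, 4540501⟩)))
(.node 2 (.node 1 (.leaf ⟨1657, 10707011, none, 126, 32331845⟩) (.leaf ⟨1665, 15618119, none, 1033, 17043521⟩)) (.node 1 (.leaf ⟨1665, 15618119, none, 217, 29636697⟩) (.leaf ⟨1665, 17043521, none, 217, 8798283⟩))))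
(.node 4 (.node 2 (.node 1 (.leaf ⟨1664, 17195103, none, 223, 26093633⟩) (.leaf ⟨1664, 17195103, none, 129, 6701145⟩)) (.node 1 (.leaf ⟨1664, 17043521, none, 129, 31735903⟩) (.leaf ⟨1649, 17125467, none, 709, 17043521⟩)))
(.node 2 (.node 1 (.leaf ⟨702, 19691589, none, 280, 29567065⟩) (.leaf ⟨702, 17043521, none, 280, 6709319⟩)) (.node 1 (.leaf ⟨697, 19099743, none, 1755, 17715271⟩) (.leaf ⟨1664, 17766477, none, 1689, 17193055⟩)))))
(.node 7 (.node 3 (.node 1 (.leaf ⟨129, 11485255, none, 1689, 17193055⟩) (.node 1 (.leaf ⟨1689, 17043521, none, 129, 30228559⟩) (.leaf ⟨1755, 17043521, none, 697, 19603549⟩)))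
(.node 2 (.node 1 (.leaf ⟨697, 11495495, (some true), 1754, 27793485⟩) (.leaf ⟨1239, 9332825, none, 126, 32331845⟩)) (.node 1 (.leaf ⟨1239, 17043521, none, 126, 10643529⟩) (.leaf ⟨1656, 17567809, none, 724, 32067671⟩))))
(.node 4 (.node 2 (.node 1 (.leaf ⟨188, 5064789, none, 724, 32067671⟩) (.leaf ⟨724, 17043521, none, 188, 15671363⟩)) (.node 1 (.leaf ⟨723, 17698881, none, 364, 17061977⟩) (.leaf ⟨725, 17070159, none, 1017, 19877955⟩)))
(.node 2 (.node 1 (.leaf ⟨126, 11147347, none, 1017, 19877955⟩) (.leaf ⟨1017, 17043521, none, 126, 12734547⟩)) (.node 1 (.leaf ⟨726, 19101761, none, 727, 17508435⟩) (.leaf ⟨1023, 25311321, none, 145, 23208029⟩))))))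
(.node 15 (.node 7 (.node 3 (.node 1 (.leaf ⟨1022, 25892929, none, 145, 23208029⟩) (.node 1 (.leaf ⟨1022, 17043521, none, 145, 8613975⟩) (.leaf ⟨374, 6973525, none, 727, 17508435⟩)))
(.node 2 (.node 1 (.leaf ⟨727, 17043521, none, 374, 25514073⟩) (.leaf ⟨723, 17698881, none, 129, 21776473⟩)) (.node 1 (.leaf ⟨723, 17043521, none, 129, 21383245⟩) (.leaf ⟨716, 25516107, none, 697, 17043521⟩))))
(.node 4 (.node 2 (.node 1 (.leaf ⟨716, 17043521, none, 697, 27619401⟩) (.leaf ⟨697, 17043521, (some true), 715, 11038791⟩)) (.node 1 (.leaf ⟨697, 17059919, (some true), 717, 11038809⟩) (.leaf ⟨697, 27529303, (some false), 721, 17053783⟩)))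
(.node 2 (.node 1 (.leaf ⟨697, 4808797, (some false), 723, 17262679⟩) (.leaf ⟨697, 11106369, none, 697, 17043521⟩)) (.node 1 (.leaf ⟨697, 17043521, none, 697, 11106369⟩) (.leaf ⟨697, 29904967, (some true), 1754, 17633351⟩)))))
(.node 8 (.node 4 (.node 2 (.node 1 (.leaf ⟨641, 17768543, none, 188, 32125003⟩) (.leaf ⟨641, 17043521, none, 188, 8874063⟩)) (.node 1 (.leaf ⟨647, 16922697, none, 894, 17043521⟩) (.leaf ⟨647, 16922697, none, 217, 23420999⟩)))
(.node 2 (.node 1 (.leaf ⟨647, 17043521, none, 217, 27686981⟩) (.leaf ⟨648, 8998987, none, 1229, 27605063⟩)) (.node 1 (.leaf ⟨622, 9121869, none, 374, 4941913⟩) (.leaf ⟨622, 17043521, none, 374, 21246027⟩))))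
(.node 4 (.node 2 (.node 1 (.leaf ⟨113, 4733013, none, 1235, 17440847⟩) (.leaf ⟨623, 17506399, none, 1238, 17780803⟩)) (.node 1 (.leaf ⟨374, 29904967, (some true), 638, 11098187⟩) (.leaf ⟨644, 10711131, none, 848, 17784919⟩)))
(.node 2 (.node 1 (.leaf ⟨644, 10711131, none, 280, 31991875⟩) (.leaf ⟨644, 17043521, none, 280, 7225423⟩)) (.node 1 (.leaf ⟨643, 19730503, none, 1738, 17190979⟩) (.leaf ⟨645, 8982601, none, 1651, 17043521⟩))))))))
(.node 61 (.node 30 (.node 15 (.node 7 (.node 3 (.node 1 (.leaf ⟨374, 28268613, none, 1651, 17043521⟩) (.node 1 (.leaf ⟨1651, 17043521, none, 374, 28268613⟩) (.leaf ⟨374, 23928925, (some false), 1652, 17700941⟩)))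
(.node 2 (.node 1 (.leaf ⟨643, 19730503, none, 280, 8863821⟩) (.leaf ⟨643, 17043521, none, 280, 26167387⟩)) (.node 1 (.leaf ⟨642, 25522253, none, 1642, 13180993⟩) (.leaf ⟨1642, 17043521, none, 642, 14903377⟩))))
(.node 4 (.node 2 (.node 1 (.leaf ⟨374, 23883865, none, 1238, 17780803⟩) (.leaf ⟨1238, 17043521, none, 374, 7284829⟩)) (.node 1 (.leaf ⟨113, 4733013, none, 214, 23492691⟩) (.leaf ⟨214, 17043521, none, 113, 29829215⟩)))
(.node 2 (.node 1 (.leaf ⟨113, 7292999, (some false), 1091, 17195081⟩) (.leaf ⟨1098, 17127489, none, 606, 17193041⟩)) (.node 1 (.leaf ⟨113, 4808797, (some true), 1102, 17643611⟩) (.leaf ⟨1196, 19732571, none, 120, 11341899⟩)))))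
(.node 7 (.node 3 (.node 1 (.leaf ⟨1201, 27545681, none, 633, 17043521⟩) (.node 1 (.leaf ⟨113, 32125001, (some false), 1211, 13111379⟩) (.leaf ⟨113, 32131155, none, 633, 17043521⟩)))
(.node 2 (.node 1 (.leaf ⟨633, 17043521, none, 113, 32131155⟩) (.leaf ⟨758, 17705049, none, 120, 11341899⟩)) (.node 1 (.leaf ⟨758, 17043521, none, 120, 4880467⟩) (.leaf ⟨750, 4743235, none, 638, 17043521⟩))))
(.node 4 (.node 2 (.node 1 (.leaf ⟨760, 17178703, none, 673, 17043521⟩) (.leaf ⟨710, 17133649, none, 673, 17043521⟩)) (.node 1 (.leaf ⟨710, 17043521, none, 673, 17135697⟩) (.leaf ⟨673, 17059919, (some true), 726, 19292229⟩)))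
(.node 2 (.node 1 (.leaf ⟨673, 10971209, (some false), 909, 17635417⟩) (.leaf ⟨673, 19085399, (some false), 1737, 16918617⟩)) (.node 1 (.leaf ⟨673, 32125001, (some false), 845, 17195077⟩) (.leaf ⟨280, 19560539, none, 638, 17043521⟩))))))
(.node 15 (.node 7 (.node 3 (.node 1 (.leaf ⟨638, 17043521, none, 280, 19560539⟩) (.node 1 (.leaf ⟨120, 31926343, none, 1457, 17043521⟩) (.leaf ⟨639, 9197643, none, 1741, 17586271⟩)))
(.node 2 (.node 1 (.leaf ⟨374, 13127773, none, 673, 25448531⟩) (.leaf ⟨673, 17043521, none, 374, 21762135⟩)) (.node 1 (.leaf ⟨374, 10971209, (some false), 120, 6975567⟩) (.leaf ⟨374, 4544593, (some true), 726, 17244253⟩))))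
(.node 4 (.node 2 (.node 1 (.leaf ⟨909, 17641567, none, 161, 21979225⟩) (.leaf ⟨374, 32125001, (some false), 1737, 16935001⟩)) (.node 1 (.leaf ⟨845, 17440847, none, 1120, 17526869⟩) (.leaf ⟨374, 5193811, none, 1120, 17526869⟩)))
(.node 2 (.node 1 (.leaf ⟨1120, 17043521, none, 374, 27476057⟩) (.leaf ⟨909, 17641567, none, 145, 31811671⟩)) (.node 1 (.leaf ⟨909, 17043521, none, 145, 23863387⟩) (.leaf ⟨1457, 17043521, none, 120, 31926343⟩)))))
(.node 8 (.node 4 (.node 2 (.node 1 (.leaf ⟨1458, 8984649, none, 113, 17059919⟩) (.leaf ⟨1458, 17043521, none, 113, 11022405⟩)) (.node 1 (.leaf ⟨1459, 9195601, none, 628, 17111105⟩) (.leaf ⟨1452, 17195077, none, 280, 12742739⟩)))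
(.node 2 (.node 1 (.leaf ⟨1452, 17043521, none, 280, 9330767⟩) (.leaf ⟨1453, 17109087, none, 1738, 17190979⟩)) (.node 1 (.leaf ⟨1453, 17109087, none, 280, 8863821⟩) (.leaf ⟨1453, 17043521, none, 280, 10895443⟩))))
(.node 4 (.node 2 (.node 1 (.leaf ⟨1454, 25770067, none, 1651, 17043521⟩) (.leaf ⟨1454, 25770067, none, 374, 28268613⟩)) (.node 1 (.leaf ⟨1454, 17043521, none, 374, 19353685⟩) (.leaf ⟨1455, 17633371, none, 1128, 27928665⟩)))
(.node 2 (.node 1 (.leaf ⟨1455, 17633371, none, 217, 13133913⟩) (.leaf ⟨1455, 17043521, none, 217, 31989827⟩)) (.node 1 (.leaf ⟨1456, 19675217, none, 1228, 25505873⟩) (.leaf ⟨266, 23421005, none, 188, 31733853⟩)))))))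
(.node 30 (.node 15 (.node 7 (.node 3 (.node 1 (.leaf ⟨266, 17043521, none, 188, 27611215⟩) (.node 1 (.leaf ⟨188, 13310023, (some true), 1300, 11081803⟩) (.leaf ⟨1425, 19339335, none, 726, 17043521⟩)))
(.node 2 (.node 1 (.leaf ⟨1432, 11014225, none, 662, 17043521⟩) (.leaf ⟨1432, 11014225, none, 129, 19159113⟩)) (.node 1 (.leaf ⟨1432, 17043521, none, 129, 11090011⟩) (.leaf ⟨1433, 17705037, none, 745, 19877955⟩))))
(.node 4 (.node 2 (.node 1 (.leaf ⟨1433, 17705037, none, 280, 31877195⟩) (.leaf ⟨1433, 17043521, none, 280, 11292765⟩)) (.node 1 (.leaf ⟨1432, 17569885, none, 1364, 17043521⟩) (.leaf ⟨129, 27881559, none, 1200, 17768531⟩)))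
(.node 2 (.node 1 (.leaf ⟨1200, 17043521, none, 129, 23668831⟩) (.leaf ⟨1645, 17061981, none, 750, 17043521⟩)) (.node 1 (.leaf ⟨1645, 17061981, none, 280, 11294789⟩) (.leaf ⟨1645, 17043521, none, 280, 11276377⟩)))))
(.node 7 (.node 3 (.node 1 (.leaf ⟨1646, 9197657, none, 1644, 17043521⟩) (.node 1 (.leaf ⟨129, 31801429, none, 1644, 17043521⟩) (.leaf ⟨1644, 17043521, none, 129, 31801429⟩)))
(.node 2 (.node 1 (.leaf ⟨1425, 19339335, none, 374, 9189465⟩) (.leaf ⟨1425, 17043521, none, 374, 13574235⟩)) (.node 1 (.leaf ⟨1445, 11300933, none, 1557, 9048149⟩) (.leaf ⟨1445, 11300933, none, 280, 28258397⟩))))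
(.node 4 (.node 2 (.node 1 (.leaf ⟨1445, 17043521, none, 280, 10713161⟩) (.leaf ⟨1444, 19222595, none, 1755, 17715271⟩)) (.node 1 (.leaf ⟨1446, 11302993, none, 1217, 4991055⟩) (.leaf ⟨374, 24057933, none, 851, 26157131⟩)))
(.node 2 (.node 1 (.leaf ⟨851, 17043521, none, 374, 12869721⟩) (.leaf ⟨1100, 10973275, none, 272, 15274061⟩)) (.node 1 (.leaf ⟨1100, 10973275, none, 144, 5003359⟩) (.leaf ⟨1100, 17043521, none, 144, 26103897⟩))))))
(.node 15 (.node 7 (.node 3 (.node 1 (.leaf ⟨1099, 27529301, none, 158, 11427917⟩) (.node 1 (.leaf ⟨144, 6776923, (some false), 1101, 17764445⟩) (.leaf ⟨1099, 27529301, none, 134, 10975307⟩)))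
(.node 2 (.node 1 (.leaf ⟨1099, 17043521, none, 134, 10965077⟩) (.leaf ⟨1383, 9056343, none, 135, 17043521⟩)) (.node 1 (.leaf ⟨1210, 11212883, none, 840, 27553859⟩) (.leaf ⟨1210, 11212883, none, 374, 27553863⟩))))
(.node 4 (.node 2 (.node 1 (.leaf ⟨1210, 17043521, none, 374, 29974603⟩) (.leaf ⟨1208, 19738719, none, 1110, 17262665⟩)) (.node 1 (.leaf ⟨1208, 17043521, none, 1110, 19079245⟩) (.leaf ⟨1096, 10969181, none, 123, 19619923⟩)))
(.node 2 (.node 1 (.leaf ⟨1096, 17043521, none, 123, 21368905⟩) (.leaf ⟨1099, 17119325, none, 1720, 16922713⟩)) (.node 1 (.leaf ⟨134, 8616003, none, 1720, 16922713⟩) (.leaf ⟨1720, 17043521, none, 134, 15028317⟩)))))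
(.node 8 (.node 4 (.node 2 (.node 1 (.leaf ⟨1711, 15607881, none, 822, 19877955⟩) (.leaf ⟨123, 14905429, none, 822, 19877955⟩)) (.node 1 (.leaf ⟨822, 17043521, none, 123, 27928647⟩) (.leaf ⟨821, 19216479, none, 700, 17524815⟩)))
(.node 2 (.node 1 (.leaf ⟨1122, 19556443, none, 683, 17578059⟩) (.leaf ⟨1122, 19556443, none, 145, 29972555⟩)) (.node 1 (.leaf ⟨1122, 17043521, none, 145, 29894739⟩) (.leaf ⟨1121, 19288153, none, 860, 17043521⟩))))
(.node 4 (.node 2 (.node 1 (.leaf ⟨1121, 19288153, none, 280, 25827403⟩) (.leaf ⟨1121, 17043521, none, 280, 12734545⟩)) (.node 1 (.leaf ⟨1122, 17180755, none, 1208, 16937039⟩) (.leaf ⟨145, 23607361, none, 1110, 19861591⟩)))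
(.node 2 (.node 1 (.leaf ⟨1110, 17043521, none, 145, 21588053⟩) (.leaf ⟨1075, 13242443, none, 864, 17043521⟩)) (.node 1 (.leaf ⟨374, 25770063, none, 698, 17764443⟩) (.leaf ⟨698, 17043521, none, 374, 15294549⟩)))))))))

/-- The facts. -/
def caseCFullFactsRRLRR : Tab Fct :=
(.node 122 (.node 61 (.node 30 (.node 15 (.node 7 (.node 3 (.node 1 (.leaf ⟨1653, 27809875, none, 272, 15274061⟩) (.node 1 (.leaf ⟨1653, 27809875, none, 144, 5003359⟩) (.leaf ⟨1653, 17043521, none, 144, 15274069⟩)))
(.node 2 (.node 1 (.leaf ⟨1652, 19816539, none, 851, 17780817⟩) (.leaf ⟨1652, 19816539, none, 374, 11483231⟩)) (.node 1 (.leaf ⟨1652, 17043521, none, 374, 21323853⟩) (.leaf ⟨1653, 17567821, none, 1763, 17190979⟩))))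
(.node 4 (.node 2 (.node 1 (.leaf ⟨144, 32051289, none, 899, 17193031⟩) (.leaf ⟨899, 17043521, none, 144, 27875419⟩)) (.node 1 (.leaf ⟨821, 19216479, none, 113, 12873807⟩) (.leaf ⟨821, 17043521, none, 113, 6639699⟩)))
(.node 2 (.node 1 (.leaf ⟨1444, 19222595, none, 697, 19099743⟩) (.leaf ⟨1444, 17043521, none, 697, 17446991⟩)) (.node 1 (.leaf ⟨277, 19816537, none, 129, 21448789⟩) (.leaf ⟨697, 10971209, (some true), 1616, 26105937⟩)))))
(.node 7 (.node 3 (.node 1 (.leaf ⟨697, 4544593, (some true), 1616, 28266561⟩) (.node 1 (.leaf ⟨277, 17043521, none, 129, 32260187⟩) (.leaf ⟨1349, 19675219, none, 744, 17043521⟩)))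
(.node 2 (.node 1 (.leaf ⟨1612, 11106397, none, 747, 17043521⟩) (.leaf ⟨1627, 21461085, none, 224, 17586249⟩)) (.node 1 (.leaf ⟨1627, 21461085, none, 217, 8548427⟩) (.leaf ⟨1627, 17043521, none, 217, 23992403⟩))))
(.node 4 (.node 2 (.node 1 (.leaf ⟨1626, 8808535, none, 1228, 25505873⟩) (.leaf ⟨1626, 8808535, none, 188, 31733853⟩)) (.node 1 (.leaf ⟨1626, 17043521, none, 188, 29894739⟩) (.leaf ⟨1622, 27474015, none, 1020, 27605063⟩)))
(.node 2 (.node 1 (.leaf ⟨1622, 27474015, none, 737, 8611933⟩) (.leaf ⟨1622, 17043521, none, 737, 12861507⟩)) (.node 1 (.leaf ⟨1623, 17705053, none, 1022, 17715283⟩) (.leaf ⟨1623, 17705053, none, 145, 30105685⟩))))))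
(.node 15 (.node 7 (.node 3 (.node 1 (.leaf ⟨1623, 17043521, none, 145, 8804423⟩) (.node 1 (.leaf ⟨1624, 25702481, none, 308, 17576015⟩) (.leaf ⟨1624, 25702481, none, 229, 12736601⟩)))
(.node 2 (.node 1 (.leaf ⟨1624, 17043521, none, 229, 5134425⟩) (.leaf ⟨1625, 17256527, none, 893, 17782875⟩)) (.node 1 (.leaf ⟨129, 4874319, none, 893, 17782875⟩) (.leaf ⟨893, 17043521, none, 129, 23294023⟩))))
(.node 4 (.node 2 (.node 1 (.leaf ⟨892, 21506123, none, 742, 19877955⟩) (.leaf ⟨229, 23470147, none, 742, 19877955⟩)) (.node 1 (.leaf ⟨742, 17043521, none, 229, 7092289⟩) (.leaf ⟨741, 19812433, none, 1767, 17715295⟩)))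
(.node 2 (.node 1 (.leaf ⟨188, 14966879, none, 1767, 17715295⟩) (.leaf ⟨1767, 17043521, none, 188, 27684929⟩)) (.node 1 (.leaf ⟨1768, 17061981, none, 1030, 17719387⟩) (.leaf ⟨1768, 17061981, none, 129, 13590615⟩)))))
(.node 8 (.node 4 (.node 2 (.node 1 (.leaf ⟨1768, 17043521, none, 129, 31875147⟩) (.leaf ⟨1769, 27791435, none, 224, 17586249⟩)) (.node 1 (.leaf ⟨1751, 25643079, none, 217, 8548427⟩) (.leaf ⟨1751, 17043521, none, 217, 23998539⟩)))
(.node 2 (.node 1 (.leaf ⟨1750, 11089997, none, 1228, 25505873⟩) (.leaf ⟨1750, 11089997, none, 188, 31733853⟩)) (.node 1 (.leaf ⟨1750, 17043521, none, 188, 15274059⟩) (.leaf ⟨1612, 11106397, none, 129, 25307213⟩))))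
(.node 4 (.node 2 (.node 1 (.leaf ⟨1612, 17043521, none, 129, 26165323⟩) (.leaf ⟨1611, 9263183, none, 132, 17043521⟩)) (.node 1 (.leaf ⟨1611, 9263183, none, 123, 26161247⟩) (.leaf ⟨1611, 17043521, none, 123, 11153499⟩)))
(.node 2 (.node 1 (.leaf ⟨1616, 17244235, none, 703, 19085393⟩) (.leaf ⟨1616, 17244235, none, 280, 9324627⟩)) (.node 1 (.leaf ⟨1616, 17043521, none, 280, 5064789⟩) (.leaf ⟨1617, 9189457, none, 1321, 16918603⟩)))))))
(.node 30 (.node 15 (.node 7 (.node 3 (.node 1 (.leaf ⟨697, 27928659, none, 1321, 16918603⟩) (.node 1 (.leaf ⟨1321, 17043521, none, 697, 21762135⟩) (.leaf ⟨697, 10971209, (some false), 267, 19867727⟩)))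
(.node 2 (.node 1 (.leaf ⟨697, 9056345, (some false), 1641, 17786947⟩) (.leaf ⟨697, 7292999, (some false), 1641, 17068109⟩)) (.node 1 (.leaf ⟨697, 28199007, none, 1321, 9396299⟩) (.leaf ⟨697, 28199007, none, 697, 17522777⟩))))
(.node 4 (.node 2 (.node 1 (.leaf ⟨697, 17043521, none, 697, 7293017⟩) (.leaf ⟨1616, 10702931, none, 1754, 17633351⟩)) (.node 1 (.leaf ⟨1641, 17053767, none, 129, 21448789⟩) (.leaf ⟨1641, 17043521, none, 129, 31606867⟩)))
(.node 2 (.node 1 (.leaf ⟨1642, 17043531, none, 132, 17043521⟩) (.leaf ⟨642, 14903387, none, 123, 26161247⟩)) (.node 1 (.leaf ⟨642, 17043521, none, 123, 6768715⟩) (.leaf ⟨280, 21438541, none, 1754, 17633351⟩)))))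
(.node 7 (.node 3 (.node 1 (.leaf ⟨1754, 17043521, none, 280, 21915737⟩) (.node 1 (.leaf ⟨1753, 13127767, none, 1755, 17715271⟩) (.leaf ⟨345, 14831687, none, 697, 19099743⟩)))
(.node 2 (.node 1 (.leaf ⟨697, 17043521, none, 345, 21323855⟩) (.leaf ⟨345, 4808797, (some true), 715, 11360341⟩)) (.node 1 (.leaf ⟨345, 13510735, (some true), 715, 25432141⟩) (.leaf ⟨345, 31801425, (some true), 717, 17109065⟩))))
(.node 4 (.node 2 (.node 1 (.leaf ⟨345, 32131155, (some true), 717, 19232835⟩) (.leaf ⟨345, 7292999, (some false), 721, 16998483⟩)) (.node 1 (.leaf ⟨267, 19214423, none, 344, 19560517⟩) (.leaf ⟨344, 17043521, none, 267, 17190993⟩)))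
(.node 2 (.node 1 (.leaf ⟨62, 25442379, none, 259, 25516101⟩) (.leaf ⟨259, 17043521, none, 62, 17125461⟩)) (.node 1 (.leaf ⟨53, 17119301, none, 347, 17043521⟩) (.leaf ⟨347, 17043521, none, 53, 17119301⟩))))))
(.node 15 (.node 7 (.node 3 (.node 1 (.leaf ⟨1349, 19675219, none, 120, 4745285⟩) (.node 1 (.leaf ⟨1349, 17043521, none, 120, 29960269⟩) (.leaf ⟨1350, 25524313, none, 651, 16920671⟩)))
(.node 2 (.node 1 (.leaf ⟨267, 17262677, none, 651, 16920671⟩) (.leaf ⟨651, 17043521, none, 267, 17004623⟩)) (.node 1 (.leaf ⟨650, 25696321, none, 1486, 17068107⟩) (.leaf ⟨1486, 17043521, none, 650, 25720907⟩))))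
(.node 4 (.node 2 (.node 1 (.leaf ⟨267, 13127747, none, 651, 17043521⟩) (.leaf ⟨650, 19085399, (some false), 1487, 17178699⟩)) (.node 1 (.leaf ⟨267, 13127747, none, 267, 17004623⟩) (.leaf ⟨267, 17043521, none, 267, 8874065⟩)))
(.node 2 (.node 1 (.leaf ⟨1486, 25516113, none, 268, 17043521⟩) (.leaf ⟨1492, 6961239, none, 1462, 19691589⟩)) (.node 1 (.leaf ⟨1492, 17043521, none, 1462, 25655385⟩) (.leaf ⟨1462, 17059919, (some true), 1491, 17197129⟩)))))
(.node 8 (.node 4 (.node 2 (.node 1 (.leaf ⟨1462, 17043521, (some true), 1491, 16918603⟩) (.leaf ⟨1491, 19621979, none, 1475, 17721419⟩)) (.node 1 (.leaf ⟨1491, 17043521, none, 1475, 19861587⟩) (.leaf ⟨1475, 19085399, (some false), 1482, 19167327⟩)))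
(.node 2 (.node 1 (.leaf ⟨650, 19667033, none, 256, 19603549⟩) (.leaf ⟨650, 17043521, none, 256, 17524807⟩)) (.node 1 (.leaf ⟨631, 29958217, none, 53, 23685197⟩) (.leaf ⟨1487, 17766493, none, 257, 17043521⟩))))
(.node 4 (.node 2 (.node 1 (.leaf ⟨1487, 17766493, none, 256, 19030099⟩) (.leaf ⟨1487, 17043521, none, 256, 19083353⟩)) (.node 1 (.leaf ⟨1488, 17262673, none, 53, 23685197⟩) (.leaf ⟨1488, 17043521, none, 53, 15274075⟩)))
(.node 2 (.node 1 (.leaf ⟨1489, 19757129, none, 259, 17043521⟩) (.leaf ⟨1462, 26099779, none, 62, 17125461⟩)) (.node 1 (.leaf ⟨1462, 17043521, none, 62, 4943967⟩) (.leaf ⟨1491, 10969169, none, 223, 17193039⟩))))))))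
(.node 61 (.node 30 (.node 15 (.node 7 (.node 3 (.node 1 (.leaf ⟨1475, 9396313, none, 129, 31723615⟩) (.node 1 (.leaf ⟨1475, 17043521, none, 129, 8927309⟩) (.leaf ⟨1482, 19214431, none, 745, 19877955⟩)))
(.node 2 (.node 1 (.leaf ⟨1482, 19214431, none, 280, 31877195⟩) (.leaf ⟨1482, 17043521, none, 280, 21129309⟩)) (.node 1 (.leaf ⟨1469, 31920209, none, 744, 19605571⟩) (.leaf ⟨1469, 31920209, none, 120, 11081801⟩))))
(.node 4 (.node 2 (.node 1 (.leaf ⟨1469, 17043521, none, 120, 13441111⟩) (.leaf ⟨1494, 23210057, none, 655, 21571649⟩)) (.node 1 (.leaf ⟨1494, 23210057, none, 129, 9007191⟩) (.leaf ⟨1494, 17043521, none, 129, 7098455⟩)))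
(.node 2 (.node 1 (.leaf ⟨1295, 17244247, none, 753, 17043521⟩) (.leaf ⟨1295, 17244247, none, 62, 4730963⟩)) (.node 1 (.leaf ⟨1295, 17043521, none, 62, 15214671⟩) (.leaf ⟨1296, 17659969, none, 345, 19746893⟩)))))
(.node 7 (.node 3 (.node 1 (.leaf ⟨256, 4544595, none, 345, 19746893⟩) (.node 1 (.leaf ⟨345, 17043521, none, 256, 23926879⟩) (.leaf ⟨1754, 17068105, none, 1310, 15274067⟩)))
(.node 2 (.node 1 (.leaf ⟨715, 9205829, none, 1308, 17043521⟩) (.leaf ⟨717, 19142723, none, 1304, 27619403⟩)) (.node 1 (.leaf ⟨256, 31801425, (some false), 721, 17109061⟩) (.leaf ⟨126, 29845569, none, 1304, 27619403⟩))))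
(.node 4 (.node 2 (.node 1 (.leaf ⟨1304, 17043521, none, 126, 5193801⟩) (.leaf ⟨1308, 17043521, none, 715, 9205829⟩)) (.node 1 (.leaf ⟨1309, 17262659, none, 730, 16918605⟩) (.leaf ⟨1309, 17043521, none, 730, 17715273⟩)))
(.node 2 (.node 1 (.leaf ⟨280, 12740689, none, 1310, 15274067⟩) (.leaf ⟨1310, 17043521, none, 280, 19036227⟩)) (.node 1 (.leaf ⟨1309, 25563211, none, 1741, 17586271⟩) (.leaf ⟨730, 25718855, none, 374, 13127773⟩))))))
(.node 15 (.node 7 (.node 3 (.node 1 (.leaf ⟨730, 17043521, none, 374, 12873811⟩) (.node 1 (.leaf ⟨715, 25458775, none, 120, 6975567⟩) (.leaf ⟨715, 17043521, none, 120, 21436497⟩)))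
(.node 2 (.node 1 (.leaf ⟨716, 27547731, none, 328, 25784397⟩) (.leaf ⟨256, 13590611, none, 328, 25784397⟩)) (.node 1 (.leaf ⟨328, 17043521, none, 256, 14893127⟩) (.leaf ⟨337, 8925267, none, 1304, 17043521⟩))))
(.node 4 (.node 2 (.node 1 (.leaf ⟨337, 8925267, none, 126, 5193801⟩) (.leaf ⟨337, 17043521, none, 126, 21438555⟩)) (.node 1 (.leaf ⟨338, 19740763, none, 22, 32131155⟩) (.leaf ⟨320, 11147355, none, 22, 32131155⟩)))
(.node 2 (.node 1 (.leaf ⟨320, 17043521, none, 22, 25440339⟩) (.leaf ⟨329, 17641549, none, 93, 17440845⟩)) (.node 1 (.leaf ⟨329, 17043521, none, 93, 17262657⟩) (.leaf ⟨330, 17180751, none, 96, 17043521⟩)))))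
(.node 8 (.node 4 (.node 2 (.node 1 (.leaf ⟨330, 17180751, none, 93, 19341383⟩) (.leaf ⟨330, 17043521, none, 93, 19208263⟩)) (.node 1 (.leaf ⟨940, 17569867, none, 459, 17043521⟩) (.leaf ⟨940, 17043521, none, 459, 17569883⟩)))
(.node 2 (.node 1 (.leaf ⟨459, 11495495, (some true), 941, 19216467⟩) (.leaf ⟨459, 19085399, (some true), 941, 9246793⟩)) (.node 1 (.leaf ⟨941, 9244745, none, 941, 9246793⟩) (.leaf ⟨941, 17043521, none, 941, 17045569⟩))))
(.node 4 (.node 2 (.node 1 (.leaf ⟨942, 19150921, none, 942, 17043521⟩) (.leaf ⟨916, 8546375, none, 916, 8872005⟩)) (.node 1 (.leaf ⟨916, 17043521, none, 916, 17635395⟩) (.leaf ⟨932, 17125457, none, 932, 17043521⟩)))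
(.node 2 (.node 1 (.leaf ⟨932, 17043521, none, 932, 17125457⟩) (.leaf ⟨933, 17649731, none, 933, 17043521⟩)) (.node 1 (.leaf ⟨933, 17043521, none, 933, 17649731⟩) (.leaf ⟨934, 17109059, none, 934, 17043521⟩)))))))
(.node 31 (.node 15 (.node 7 (.node 3 (.node 1 (.leaf ⟨934, 17043521, none, 934, 17109059⟩) (.node 1 (.leaf ⟨935, 17567825, none, 935, 17043521⟩) (.leaf ⟨153, 23345233, none, 153, 23885889⟩)))
(.node 2 (.node 1 (.leaf ⟨153, 17043521, none, 153, 17457245⟩) (.leaf ⟨152, 4732999, none, 152, 13113429⟩)) (.node 1 (.leaf ⟨60, 10901571, none, 60, 10647641⟩) (.leaf ⟨60, 17043521, none, 60, 17651789⟩))))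
(.node 4 (.node 2 (.node 1 (.leaf ⟨60, 4808797, (some false), 61, 17528899⟩) (.leaf ⟨60, 27529303, (some false), 324, 17178711⟩)) (.node 1 (.leaf ⟨327, 25768001, none, 28, 31737927⟩) (.leaf ⟨327, 17043521, none, 28, 13443165⟩)))
(.node 2 (.node 1 (.leaf ⟨333, 17578071, none, 31, 17592413⟩) (.leaf ⟨333, 17043521, none, 31, 17061979⟩)) (.node 1 (.leaf ⟨334, 17567815, none, 56, 17782873⟩) (.leaf ⟨334, 17567815, none, 28, 25718851⟩)))))
(.node 8 (.node 4 (.node 2 (.node 1 (.leaf ⟨334, 17043521, none, 28, 8925253⟩) (.leaf ⟨335, 11016275, none, 152, 17043521⟩)) (.node 1 (.leaf ⟨324, 17459265, none, 60, 21194833⟩) (.leaf ⟨324, 17043521, none, 60, 9244753⟩)))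
(.node 2 (.node 1 (.leaf ⟨325, 9271371, none, 16, 11495495⟩) (.leaf ⟨314, 8806471, none, 16, 11495495⟩)) (.node 1 (.leaf ⟨314, 17043521, none, 16, 19863617⟩) (.leaf ⟨315, 16932937, none, 1, 21979225⟩))))
(.node 4 (.node 2 (.node 1 (.leaf ⟨315, 17043521, none, 1, 25628753⟩) (.leaf ⟨316, 17594451, none, 16, 17659979⟩)) (.node 1 (.leaf ⟨60, 17178715, none, 16, 17659979⟩) (.leaf ⟨60, 17043521, none, 16, 17524817⟩)))
(.node 2 (.node 1 (.leaf ⟨61, 17176651, none, 84, 19691589⟩) (.leaf ⟨324, 17592409, none, 83, 17068107⟩)) (.node 1 (.leaf ⟨16, 25378897, none, 83, 17068107⟩) (.leaf ⟨83, 17043521, none, 16, 26165339⟩))))))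
(.node 15 (.node 7 (.node 3 (.node 1 (.leaf ⟨84, 17782871, none, 84, 19746901⟩) (.node 1 (.leaf ⟨394, 8925253, none, 60, 17043521⟩) (.leaf ⟨403, 17127499, none, 22, 17059921⟩)))
(.node 2 (.node 1 (.leaf ⟨407, 13588559, none, 84, 19691589⟩) (.leaf ⟨407, 17043521, none, 84, 25894991⟩)) (.node 1 (.leaf ⟨406, 26157137, none, 422, 17651805⟩) (.leaf ⟨422, 17043521, none, 406, 11495501⟩))))
(.node 4 (.node 2 (.node 1 (.leaf ⟨406, 31801425, (some false), 447, 17461337⟩) (.leaf ⟨403, 17043521, none, 22, 17111129⟩)) (.node 1 (.leaf ⟨404, 17780831, none, 93, 17643587⟩) (.leaf ⟨404, 17043521, none, 93, 17719371⟩)))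
(.node 2 (.node 1 (.leaf ⟨415, 11368531, none, 99, 17070161⟩) (.leaf ⟨412, 4943939, none, 99, 17070161⟩)) (.node 1 (.leaf ⟨412, 17043521, none, 99, 27727961⟩) (.leaf ⟨413, 27816001, none, 100, 17043521⟩)))))
(.node 8 (.node 4 (.node 2 (.node 1 (.leaf ⟨398, 25311327, none, 89, 28192863⟩) (.leaf ⟨398, 17043521, none, 89, 19667009⟩)) (.node 1 (.leaf ⟨402, 17051725, none, 505, 17043521⟩) (.leaf ⟨505, 17043521, none, 402, 17051725⟩)))
(.node 2 (.node 1 (.leaf ⟨394, 8925253, none, 16, 17524817⟩) (.leaf ⟨394, 17043521, none, 16, 9398365⟩)) (.node 1 (.leaf ⟨422, 13183045, none, 84, 19691589⟩) (.leaf ⟨406, 17526877, none, 84, 19691589⟩))))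
(.node 4 (.node 2 (.node 1 (.leaf ⟨406, 17043521, none, 84, 19863647⟩) (.leaf ⟨84, 7292999, (some false), 447, 17641561⟩)) (.node 1 (.leaf ⟨84, 17043521, none, 84, 19863619⟩) (.leaf ⟨430, 19691595, none, 430, 17043521⟩)))
(.node 2 (.node 1 (.leaf ⟨447, 17447007, none, 432, 7041107⟩) (.leaf ⟨447, 17043521, none, 432, 27613255⟩)) (.node 1 (.leaf ⟨448, 17633371, none, 431, 17195089⟩) (.leaf ⟨448, 17043521, none, 431, 17770585⟩)))))))))

/-- The facts. -/
def caseCFullFactsRRLR : Tab Fct := .node 244 caseCFullFactsRRLRL caseCFullFactsRRLRR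

/-- The facts. -/
def caseCFullFactsRRL : Tab Fct := .node 488 caseCFullFactsRRLL caseCFullFactsRRLR

/-- The facts. -/
def caseCFullFactsRRRLL : Tab Fct :=
(.node 122 (.node 61 (.node 30 (.node 15 (.node 7 (.node 3 (.node 1 (.leaf ⟨431, 19085399, (some true), 449, 27537473⟩) (.node 1 (.leaf ⟨430, 17043521, none, 430, 19740761⟩) (.leaf ⟨7, 13387871, none, 84, 19691589⟩)))
(.node 2 (.node 1 (.leaf ⟨84, 17043521, none, 7, 21250123⟩) (.leaf ⟨447, 17444951, none, 60, 9197633⟩)) (.node 1 (.leaf ⟨432, 7043161, none, 16, 9324617⟩) (.leaf ⟨432, 17043521, none, 16, 12806233⟩))))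
(.node 4 (.node 2 (.node 1 (.leaf ⟨431, 9322563, none, 89, 17043521⟩) (.leaf ⟨431, 17043521, none, 89, 4747331⟩)) (.node 1 (.leaf ⟨430, 19740749, none, 505, 17043521⟩) (.leaf ⟨449, 25522249, none, 491, 17043521⟩)))
(.node 2 (.node 1 (.leaf ⟨430, 19556439, none, 491, 17043521⟩) (.leaf ⟨491, 17043521, none, 430, 19556439⟩)) (.node 1 (.leaf ⟨430, 10971209, (some true), 492, 27537489⟩) (.leaf ⟨430, 19085399, (some true), 492, 19222603⟩)))))
(.node 7 (.node 3 (.node 1 (.leaf ⟨430, 19740749, none, 402, 17051725⟩) (.node 1 (.leaf ⟨430, 17043521, none, 402, 19667009⟩) (.leaf ⟨402, 17043521, (some true), 84, 23478347⟩)))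
(.node 2 (.node 1 (.leaf ⟨402, 25712729, none, 31, 26105939⟩) (.leaf ⟨402, 19085399, (some true), 492, 17659987⟩)) (.node 1 (.leaf ⟨402, 17043521, none, 31, 17764443⟩) (.leaf ⟨492, 19159107, none, 22, 19085399⟩))))
(.node 4 (.node 2 (.node 1 (.leaf ⟨492, 17043521, none, 22, 17528903⟩) (.leaf ⟨495, 17592401, none, 123, 17004633⟩)) (.node 1 (.leaf ⟨495, 17043521, none, 123, 17242201⟩) (.leaf ⟨496, 19230787, none, 144, 25851983⟩)))
(.node 2 (.node 1 (.leaf ⟨483, 25761877, none, 144, 25851983⟩) (.leaf ⟨483, 17043521, none, 144, 17190995⟩)) (.node 1 (.leaf ⟨89, 23414871, none, 28, 25516101⟩) (.leaf ⟨89, 17043521, none, 28, 12861509⟩))))))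
(.node 15 (.node 7 (.node 3 (.node 1 (.leaf ⟨99, 19865669, none, 120, 9330765⟩) (.node 1 (.leaf ⟨120, 17043521, none, 99, 23412817⟩) (.leaf ⟨99, 32125001, (some false), 161, 17070149⟩)))
(.node 2 (.node 1 (.leaf ⟨99, 10971209, (some false), 161, 17770577⟩) (.leaf ⟨673, 17522761, none, 522, 16988225⟩)) (.node 1 (.leaf ⟨374, 8609859, none, 522, 16988225⟩) (.leaf ⟨522, 17043521, none, 374, 12873795⟩))))
(.node 4 (.node 2 (.node 1 (.leaf ⟨527, 19816517, none, 1737, 16935001⟩) (.leaf ⟨527, 19816517, none, 280, 16932957⟩)) (.node 1 (.leaf ⟨527, 17043521, none, 280, 19271749⟩) (.leaf ⟨576, 27732055, none, 1656, 17043521⟩)))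
(.node 2 (.node 1 (.leaf ⟨576, 27732055, none, 188, 4540501⟩) (.leaf ⟨576, 17043521, none, 188, 12736579⟩)) (.node 1 (.leaf ⟨575, 15274067, none, 1030, 17719387⟩) (.leaf ⟨575, 15274067, none, 129, 13590615⟩)))))
(.node 8 (.node 4 (.node 2 (.node 1 (.leaf ⟨575, 17043521, none, 129, 19755077⟩) (.leaf ⟨580, 17000529, none, 745, 19877955⟩)) (.node 1 (.leaf ⟨592, 28194903, none, 224, 17586249⟩) (.leaf ⟨592, 28194903, none, 217, 8548427⟩)))
(.node 2 (.node 1 (.leaf ⟨592, 17043521, none, 217, 30220361⟩) (.leaf ⟨591, 8616005, none, 1229, 27605063⟩)) (.node 1 (.leaf ⟨591, 8616005, none, 374, 4941913⟩) (.leaf ⟨591, 17043521, none, 374, 11155527⟩))))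
(.node 4 (.node 2 (.node 1 (.leaf ⟨590, 4794455, none, 1235, 17440847⟩) (.leaf ⟨590, 4794455, none, 113, 4733013⟩)) (.node 1 (.leaf ⟨590, 17043521, none, 113, 17125443⟩) (.leaf ⟨580, 17000529, none, 280, 31877195⟩)))
(.node 2 (.node 1 (.leaf ⟨580, 17043521, none, 280, 15601733⟩) (.leaf ⟨581, 17256529, none, 744, 19605571⟩)) (.node 1 (.leaf ⟨581, 17256529, none, 99, 15214659⟩) (.leaf ⟨581, 17043521, none, 99, 8941651⟩)))))))
(.node 30 (.node 15 (.node 7 (.node 3 (.node 1 (.leaf ⟨582, 19214403, none, 575, 17043521⟩) (.node 1 (.leaf ⟨555, 27801681, none, 129, 19755077⟩) (.leaf ⟨555, 17043521, none, 129, 11024469⟩)))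
(.node 2 (.node 1 (.leaf ⟨563, 27621465, none, 751, 27605063⟩) (.leaf ⟨563, 27621465, none, 188, 13254723⟩)) (.node 1 (.leaf ⟨563, 17043521, none, 188, 31875153⟩) (.leaf ⟨564, 11079747, none, 192, 17043521⟩))))
(.node 4 (.node 2 (.node 1 (.leaf ⟨552, 12875871, none, 99, 12808279⟩) (.leaf ⟨552, 17043521, none, 99, 17635401⟩)) (.node 1 (.leaf ⟨93, 21774403, none, 93, 17059919⟩) (.leaf ⟨553, 17246277, none, 555, 17643615⟩)))
(.node 2 (.node 1 (.leaf ⟨571, 27934813, none, 590, 17043521⟩) (.leaf ⟨571, 27934813, none, 113, 17125443⟩)) (.node 1 (.leaf ⟨571, 17043521, none, 113, 4857949⟩) (.leaf ⟨570, 17524829, none, 625, 17508425⟩)))))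
(.node 7 (.node 3 (.node 1 (.leaf ⟨570, 17524829, none, 188, 7022657⟩) (.node 1 (.leaf ⟨570, 17043521, none, 188, 25448541⟩) (.leaf ⟨579, 17698889, none, 1014, 17043521⟩)))
(.node 2 (.node 1 (.leaf ⟨579, 17698889, none, 737, 19798101⟩) (.leaf ⟨737, 17043521, none, 579, 19142729⟩)) (.node 1 (.leaf ⟨579, 19085399, (some false), 145, 11221069⟩) (.leaf ⟨579, 11495495, (some true), 738, 17109057⟩))))
(.node 4 (.node 2 (.node 1 (.leaf ⟨579, 19085399, (some true), 1387, 27539545⟩) (.leaf ⟨579, 32125001, (some false), 1750, 17059919⟩)) (.node 1 (.leaf ⟨579, 10971209, (some true), 1021, 11030617⟩) (.leaf ⟨579, 31801425, (some false), 1022, 17442903⟩)))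
(.node 2 (.node 1 (.leaf ⟨579, 10971209, (some false), 1023, 17635421⟩) (.leaf ⟨579, 13510735, (some true), 1046, 25376859⟩)) (.node 1 (.leaf ⟨579, 17059919, (some true), 1019, 17657927⟩) (.leaf ⟨579, 32125001, (some true), 1019, 27529295⟩))))))
(.node 15 (.node 7 (.node 3 (.node 1 (.leaf ⟨579, 4544593, (some true), 1019, 17068109⟩) (.node 1 (.leaf ⟨579, 31801425, (some true), 1019, 27793501⟩) (.leaf ⟨579, 32131155, (some true), 1019, 11292759⟩)))
(.node 2 (.node 1 (.leaf ⟨579, 17043521, (some true), 1021, 17641555⟩) (.leaf ⟨579, 13310023, (some true), 1021, 11079747⟩)) (.node 1 (.leaf ⟨579, 29904967, (some true), 1021, 25448539⟩) (.leaf ⟨579, 4808797, (some true), 1021, 17109083⟩))))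
(.node 4 (.node 2 (.node 1 (.leaf ⟨579, 25385043, (some true), 1021, 17045569⟩) (.leaf ⟨579, 13510735, (some false), 1022, 17569871⟩)) (.node 1 (.leaf ⟨579, 29904967, (some false), 1023, 17528903⟩) (.leaf ⟨579, 23928925, (some false), 1023, 17510487⟩)))
(.node 2 (.node 1 (.leaf ⟨579, 6776923, (some false), 1023, 17176641⟩) (.leaf ⟨579, 4808797, (some false), 1750, 16988233⟩)) (.node 1 (.leaf ⟨579, 13310023, (some false), 1750, 17244243⟩) (.leaf ⟨579, 9056345, (some false), 1750, 16916565⟩)))))
(.node 8 (.node 4 (.node 2 (.node 1 (.leaf ⟨579, 7292999, (some false), 1750, 17061961⟩) (.leaf ⟨579, 27529303, (some false), 188, 13199451⟩)) (.node 1 (.leaf ⟨579, 6957151, none, 1014, 17043521⟩) (.leaf ⟨579, 6957151, none, 579, 17698889⟩)))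
(.node 2 (.node 1 (.leaf ⟨579, 17043521, none, 579, 27740235⟩) (.leaf ⟨553, 17246277, none, 129, 25712705⟩)) (.node 1 (.leaf ⟨553, 17043521, none, 129, 23623757⟩) (.leaf ⟨566, 19140689, none, 656, 19140675⟩))))
(.node 4 (.node 2 (.node 1 (.leaf ⟨566, 19140689, none, 99, 32258131⟩) (.leaf ⟨566, 17043521, none, 99, 30226499⟩)) (.node 1 (.leaf ⟨93, 17043521, none, 93, 4603993⟩) (.leaf ⟨548, 11366489, none, 548, 11360331⟩)))
(.node 2 (.node 1 (.leaf ⟨557, 19079259, none, 557, 19275851⟩) (.leaf ⟨557, 17043521, none, 557, 17240147⟩)) (.node 1 (.leaf ⟨557, 25385043, (some true), 556, 11360321⟩) (.leaf ⟨557, 19085399, (some true), 556, 19746897⟩))))))))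
(.node 61 (.node 30 (.node 15 (.node 7 (.node 3 (.node 1 (.leaf ⟨548, 17043521, none, 548, 17059931⟩) (.node 1 (.leaf ⟨559, 17068097, none, 559, 17043521⟩) (.leaf ⟨559, 17043521, none, 559, 17068097⟩)))
(.node 2 (.node 1 (.leaf ⟨560, 17174611, none, 560, 17043521⟩) (.leaf ⟨560, 17043521, none, 560, 17174611⟩)) (.node 1 (.leaf ⟨561, 17070153, none, 561, 17043521⟩) (.leaf ⟨460, 27619421, none, 460, 27596879⟩))))
(.node 4 (.node 2 (.node 1 (.leaf ⟨460, 17043521, none, 460, 17059931⟩) (.leaf ⟨550, 8933443, none, 461, 17043521⟩)) (.node 1 (.leaf ⟨542, 19867729, none, 461, 17043521⟩) (.leaf ⟨542, 17043521, none, 461, 19101779⟩)))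
(.node 2 (.node 1 (.leaf ⟨93, 21973057, none, 462, 17043521⟩) (.leaf ⟨461, 17043521, (some false), 543, 17719385⟩)) (.node 1 (.leaf ⟨93, 21973057, none, 86, 4730945⟩) (.leaf ⟨93, 17043521, none, 86, 23277633⟩)))))
(.node 7 (.node 3 (.node 1 (.leaf ⟨86, 13510735, (some false), 22, 27883615⟩) (.node 1 (.leaf ⟨86, 4808797, (some false), 22, 4798559⟩) (.leaf ⟨557, 19882077, none, 452, 19691589⟩)))
(.node 2 (.node 1 (.leaf ⟨557, 17043521, none, 452, 16916549⟩) (.leaf ⟨556, 11030611, none, 470, 11276369⟩)) (.node 1 (.leaf ⟨547, 8935499, none, 470, 11276369⟩) (.leaf ⟨547, 17043521, none, 470, 19675227⟩))))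
(.node 4 (.node 2 (.node 1 (.leaf ⟨555, 19673163, none, 467, 19560517⟩) (.leaf ⟨129, 27875413, none, 467, 19560517⟩)) (.node 1 (.leaf ⟨467, 17043521, none, 129, 31991891⟩) (.leaf ⟨480, 25432131, none, 751, 27605063⟩)))
(.node 2 (.node 1 (.leaf ⟨480, 25432131, none, 188, 13254723⟩) (.leaf ⟨480, 17043521, none, 188, 13525057⟩)) (.node 1 (.leaf ⟨481, 9269331, none, 192, 17043521⟩) (.leaf ⟨466, 15026263, none, 99, 12808279⟩))))))
(.node 15 (.node 7 (.node 3 (.node 1 (.leaf ⟨466, 17043521, none, 99, 19746881⟩) (.node 1 (.leaf ⟨468, 17700957, none, 547, 17043521⟩) (.leaf ⟨468, 17700957, none, 470, 19675227⟩)))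
(.node 2 (.node 1 (.leaf ⟨470, 17043521, none, 468, 19560543⟩) (.leaf ⟨468, 19085399, (some false), 467, 19544139⟩)) (.node 1 (.leaf ⟨468, 19796051, none, 745, 19877955⟩) (.leaf ⟨468, 19085399, (some true), 471, 17133633⟩))))
(.node 4 (.node 2 (.node 1 (.leaf ⟨468, 19796051, none, 280, 31877195⟩) (.leaf ⟨468, 17043521, none, 280, 11352141⟩)) (.node 1 (.leaf ⟨471, 19148865, none, 1321, 16918603⟩) (.leaf ⟨452, 19798103, none, 256, 29503557⟩)))
(.node 2 (.node 1 (.leaf ⟨452, 17043521, none, 256, 8611921⟩) (.leaf ⟨474, 19691593, none, 267, 26163271⟩)) (.node 1 (.leaf ⟨474, 17043521, none, 267, 8542295⟩) (.leaf ⟨473, 19288153, none, 1492, 25514063⟩)))))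
(.node 8 (.node 4 (.node 2 (.node 1 (.leaf ⟨473, 19288153, none, 62, 4859989⟩) (.leaf ⟨473, 17043521, none, 62, 23228489⟩)) (.node 1 (.leaf ⟨92, 30085191, none, 345, 19691589⟩) (.leaf ⟨92, 30085191, none, 256, 14970963⟩)))
(.node 2 (.node 1 (.leaf ⟨256, 17043521, none, 92, 4679757⟩) (.leaf ⟨92, 9056345, (some false), 53, 29954115⟩)) (.node 1 (.leaf ⟨92, 6776923, (some false), 257, 16922699⟩) (.leaf ⟨92, 13310023, (some false), 1294, 17258585⟩))))
(.node 4 (.node 2 (.node 1 (.leaf ⟨721, 17043547, none, 89, 17127489⟩) (.leaf ⟨721, 17043547, none, 28, 29704279⟩)) (.node 1 (.leaf ⟨721, 17043521, none, 28, 29704269⟩) (.leaf ⟨716, 19607647, none, 323, 17070175⟩)))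
(.node 2 (.node 1 (.leaf ⟨92, 17045589, none, 323, 17070175⟩) (.leaf ⟨323, 17043521, none, 92, 17068107⟩)) (.node 1 (.leaf ⟨964, 17764423, none, 512, 17043521⟩) (.leaf ⟨964, 17764423, none, 92, 19730521⟩)))))))
(.node 30 (.node 15 (.node 7 (.node 3 (.node 1 (.leaf ⟨964, 17043521, none, 92, 19271753⟩) (.node 1 (.leaf ⟨965, 17068105, none, 457, 11286609⟩) (.leaf ⟨957, 19607627, none, 92, 19083333⟩)))
(.node 2 (.node 1 (.leaf ⟨957, 17043521, none, 92, 17633351⟩) (.leaf ⟨956, 25497683, none, 102, 17043521⟩)) (.node 1 (.leaf ⟨956, 25497683, none, 99, 28194907⟩) (.leaf ⟨956, 17043521, none, 99, 19542091⟩))))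
(.node 4 (.node 2 (.node 1 (.leaf ⟨950, 13525061, none, 137, 19544135⟩) (.leaf ⟨665, 19355743, none, 99, 19560529⟩)) (.node 1 (.leaf ⟨665, 17043521, none, 99, 17000521⟩) (.leaf ⟨162, 7159883, none, 100, 17043521⟩)))
(.node 2 (.node 1 (.leaf ⟨953, 17717319, none, 494, 17457221⟩) (.leaf ⟨953, 17043521, none, 494, 17004611⟩)) (.node 1 (.leaf ⟨162, 7159883, none, 28, 17721427⟩) (.leaf ⟨162, 17043521, none, 28, 4989003⟩)))))
(.node 7 (.node 3 (.node 1 (.leaf ⟨774, 8933457, none, 157, 17043521⟩) (.node 1 (.leaf ⟨954, 27605079, none, 113, 17567811⟩) (.leaf ⟨954, 17043521, none, 113, 25768021⟩)))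
(.node 2 (.node 1 (.leaf ⟨953, 19802183, none, 120, 19232849⟩) (.leaf ⟨494, 19142725, none, 99, 14960707⟩)) (.node 1 (.leaf ⟨494, 17043521, none, 99, 12861509⟩) (.leaf ⟨774, 8933457, none, 31, 25903179⟩))))
(.node 4 (.node 2 (.node 1 (.leaf ⟨774, 17043521, none, 31, 25370715⟩) (.leaf ⟨779, 17786963, none, 134, 17528903⟩)) (.node 1 (.leaf ⟨779, 17043521, none, 134, 17768541⟩) (.leaf ⟨790, 17111131, none, 829, 9203779⟩)))
(.node 2 (.node 1 (.leaf ⟨790, 17111131, none, 188, 16939101⟩) (.leaf ⟨790, 17043521, none, 188, 17004613⟩)) (.node 1 (.leaf ⟨791, 27603035, none, 126, 32331845⟩) (.leaf ⟨776, 28192857, none, 126, 32331845⟩))))))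
(.node 15 (.node 7 (.node 3 (.node 1 (.leaf ⟨776, 17043521, none, 126, 11030601⟩) (.node 1 (.leaf ⟨781, 17043521, none, 137, 17043521⟩) (.leaf ⟨781, 17043521, none, 99, 17061963⟩)))
(.node 2 (.node 1 (.leaf ⟨808, 17567837, none, 547, 17043521⟩) (.leaf ⟨808, 17567837, none, 280, 31940679⟩)) (.node 1 (.leaf ⟨808, 17043521, none, 280, 15671371⟩) (.leaf ⟨815, 19159129, none, 1644, 17043521⟩))))
(.node 4 (.node 2 (.node 1 (.leaf ⟨815, 19159129, none, 129, 31801429⟩) (.leaf ⟨815, 17043521, none, 129, 12929117⟩)) (.node 1 (.leaf ⟨816, 8925249, none, 656, 19140675⟩) (.leaf ⟨799, 7153745, none, 99, 32258131⟩)))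
(.node 2 (.node 1 (.leaf ⟨799, 17043521, none, 99, 27613251⟩) (.leaf ⟨801, 17240157, none, 555, 17043521⟩)) (.node 1 (.leaf ⟨801, 17240157, none, 129, 11024469⟩) (.leaf ⟨801, 17043521, none, 129, 13115471⟩)))))
(.node 8 (.node 4 (.node 2 (.node 1 (.leaf ⟨818, 19732547, none, 750, 17043521⟩) (.leaf ⟨818, 19732547, none, 280, 11294789⟩)) (.node 1 (.leaf ⟨818, 17043521, none, 280, 27613253⟩) (.leaf ⟨819, 27603027, none, 1321, 16918603⟩)))
(.node 2 (.node 1 (.leaf ⟨796, 32053331, none, 92, 12937293⟩) (.leaf ⟨796, 17043521, none, 92, 26105937⟩)) (.node 1 (.leaf ⟨811, 17633361, none, 89, 17127489⟩) (.leaf ⟨818, 17440863, none, 515, 17043521⟩))))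
(.node 4 (.node 2 (.node 1 (.leaf ⟨280, 7039063, none, 515, 17043521⟩) (.leaf ⟨515, 17043521, none, 280, 7039063⟩)) (.node 1 (.leaf ⟨531, 17246295, none, 1738, 17190979⟩) (.leaf ⟨531, 17246295, none, 280, 8863821⟩)))
(.node 2 (.node 1 (.leaf ⟨531, 17043521, none, 280, 6570069⟩) (.leaf ⟨532, 17457227, none, 1642, 13180993⟩)) (.node 1 (.leaf ⟨532, 17457227, none, 123, 32139333⟩) (.leaf ⟨532, 17043521, none, 123, 31725647⟩)))))))))

/-- The facts. -/
def caseCFullFactsRRRLR : Tab Fct :=
(.node 122 (.node 61 (.node 30 (.node 15 (.node 7 (.node 3 (.node 1 (.leaf ⟨533, 19673177, none, 129, 10971201⟩) (.node 1 (.leaf ⟨509, 25311325, none, 129, 10971201⟩) (.leaf ⟨509, 17043521, none, 129, 12732505⟩)))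
(.node 2 (.node 1 (.leaf ⟨510, 17258561, none, 709, 17043521⟩) (.leaf ⟨510, 17258561, none, 280, 29567065⟩)) (.node 1 (.leaf ⟨510, 17043521, none, 280, 27949133⟩) (.leaf ⟨519, 10647633, none, 1217, 4991055⟩))))
(.node 4 (.node 2 (.node 1 (.leaf ⟨519, 10647633, none, 374, 24057933⟩) (.leaf ⟨519, 17043521, none, 374, 23210055⟩)) (.node 1 (.leaf ⟨535, 19730497, none, 134, 31797313⟩) (.leaf ⟨535, 17043521, none, 134, 13463617⟩)))
(.node 2 (.node 1 (.leaf ⟨536, 17586249, none, 829, 9203779⟩) (.leaf ⟨477, 21317715, none, 188, 16939101⟩)) (.node 1 (.leaf ⟨477, 17043521, none, 188, 7037023⟩) (.leaf ⟨539, 17784905, none, 126, 32331845⟩)))))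
(.node 7 (.node 3 (.node 1 (.leaf ⟨539, 17043521, none, 126, 8613979⟩) (.node 1 (.leaf ⟨538, 27684949, none, 718, 11024451⟩) (.leaf ⟨538, 27684949, none, 188, 8544339⟩)))
(.node 2 (.node 1 (.leaf ⟨538, 17043521, none, 188, 32196693⟩) (.leaf ⟨513, 31922257, none, 1017, 19877955⟩)) (.node 1 (.leaf ⟨513, 31922257, none, 126, 11147347⟩) (.leaf ⟨513, 17043521, none, 126, 15667267⟩))))
(.node 4 (.node 2 (.node 1 (.leaf ⟨811, 17633361, none, 28, 29704279⟩) (.leaf ⟨811, 17043521, none, 28, 15482951⟩)) (.node 1 (.leaf ⟨812, 17770563, none, 323, 17703005⟩) (.leaf ⟨812, 17770563, none, 92, 17698883⟩)))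
(.node 2 (.node 1 (.leaf ⟨812, 17043521, none, 92, 17133633⟩) (.leaf ⟨813, 19664979, none, 86, 10713153⟩)) (.node 1 (.leaf ⟨813, 17043521, none, 86, 25376849⟩) (.leaf ⟨814, 17651807, none, 87, 17043521⟩))))))
(.node 15 (.node 7 (.node 3 (.node 1 (.leaf ⟨131, 6891599, none, 86, 19032133⟩) (.node 1 (.leaf ⟨131, 17043521, none, 86, 8992837⟩) (.leaf ⟨130, 4878423, none, 22, 4798559⟩)))
(.node 2 (.node 1 (.leaf ⟨794, 19353689, none, 452, 19013703⟩) (.leaf ⟨794, 19353689, none, 92, 21901387⟩)) (.node 1 (.leaf ⟨794, 17043521, none, 92, 4991057⟩) (.leaf ⟨795, 17584193, none, 1294, 17258585⟩))))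
(.node 4 (.node 2 (.node 1 (.leaf ⟨86, 8867917, none, 1294, 17258585⟩) (.leaf ⟨1294, 17043521, none, 86, 29628487⟩)) (.node 1 (.leaf ⟨1295, 17061955, none, 451, 17578079⟩) (.leaf ⟨62, 29894751, none, 451, 17578079⟩)))
(.node 2 (.node 1 (.leaf ⟨451, 17043521, none, 62, 23619649⟩) (.leaf ⟨86, 25589825, none, 344, 17592389⟩)) (.node 1 (.leaf ⟨86, 25589825, none, 267, 16920661⟩) (.leaf ⟨267, 17043521, none, 86, 29513817⟩)))))
(.node 8 (.node 4 (.node 2 (.node 1 (.leaf ⟨1464, 17262669, none, 22, 4798559⟩) (.leaf ⟨1465, 19271753, none, 461, 19738717⟩)) (.node 1 (.leaf ⟨1465, 17043521, none, 461, 17702999⟩) (.leaf ⟨1464, 19157059, none, 543, 17719385⟩)))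
(.node 2 (.node 1 (.leaf ⟨1464, 19157059, none, 469, 19339359⟩) (.leaf ⟨1464, 17043521, none, 469, 17715277⟩)) (.node 1 (.leaf ⟨469, 16918617, none, 22, 4798559⟩) (.leaf ⟨469, 17043521, none, 22, 8990795⟩))))
(.node 4 (.node 2 (.node 1 (.leaf ⟨542, 19538005, none, 93, 17719379⟩) (.leaf ⟨461, 17117253, none, 86, 11341907⟩)) (.node 1 (.leaf ⟨461, 17043521, none, 86, 9189469⟩) (.leaf ⟨130, 17043521, none, 22, 17659981⟩)))
(.node 2 (.node 1 (.leaf ⟨631, 17043521, none, 53, 23343199⟩) (.leaf ⟨123, 27412557, none, 606, 17193041⟩)) (.node 1 (.leaf ⟨606, 17043521, none, 123, 13322329⟩) (.leaf ⟨618, 17190977, none, 226, 17657947⟩)))))))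
(.node 30 (.node 15 (.node 7 (.node 3 (.node 1 (.leaf ⟨618, 17190977, none, 144, 9113681⟩) (.node 1 (.leaf ⟨618, 17043521, none, 144, 29577297⟩) (.leaf ⟨619, 25712731, none, 158, 11427917⟩)))
(.node 2 (.node 1 (.leaf ⟨598, 17442887, none, 134, 10975307⟩) (.leaf ⟨598, 17043521, none, 134, 5124191⟩)) (.node 1 (.leaf ⟨608, 25778241, none, 826, 17043521⟩) (.leaf ⟨608, 25778241, none, 113, 6645847⟩))))
(.node 4 (.node 2 (.node 1 (.leaf ⟨608, 17043521, none, 113, 15484997⟩) (.leaf ⟨601, 11341891, none, 1091, 17195081⟩)) (.node 1 (.leaf ⟨601, 11341891, none, 144, 21766239⟩) (.leaf ⟨601, 17043521, none, 144, 29706319⟩)))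
(.node 2 (.node 1 (.leaf ⟨607, 17053763, none, 851, 17780817⟩) (.leaf ⟨607, 17053763, none, 374, 11483231⟩)) (.node 1 (.leaf ⟨607, 17043521, none, 374, 11145303⟩) (.leaf ⟨611, 25702467, none, 272, 15274061⟩)))))
(.node 7 (.node 3 (.node 1 (.leaf ⟨595, 9125953, none, 144, 5003359⟩) (.node 1 (.leaf ⟨595, 17043521, none, 144, 15343705⟩) (.leaf ⟨105, 21313621, none, 1101, 17764445⟩)))
(.node 2 (.node 1 (.leaf ⟨144, 9056345, (some false), 596, 16932941⟩) (.leaf ⟨105, 21313621, none, 200, 5066835⟩)) (.node 1 (.leaf ⟨200, 17043521, none, 105, 5124179⟩) (.leaf ⟨105, 32125001, (some true), 34, 32266321⟩))))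
(.node 4 (.node 2 (.node 1 (.leaf ⟨105, 13310023, (some true), 201, 17127513⟩) (.leaf ⟨280, 13111367, none, 1638, 25768023⟩)) (.node 1 (.leaf ⟨1638, 17043521, none, 280, 4552779⟩) (.leaf ⟨229, 4995151, none, 1637, 17043521⟩)))
(.node 2 (.node 1 (.leaf ⟨1637, 17043521, none, 229, 4995151⟩) (.leaf ⟨1, 19085399, (some false), 1, 19167307⟩)) (.node 1 (.leaf ⟨4, 17059919, (some true), 4, 11081799⟩) (.leaf ⟨7, 32125001, (some false), 16, 9324617⟩))))))
(.node 15 (.node 7 (.node 3 (.node 1 (.leaf ⟨7, 10971209, (some false), 16, 31737941⟩) (.node 1 (.leaf ⟨7, 7292999, (some false), 16, 6703177⟩) (.leaf ⟨7, 19085399, (some false), 7, 19294279⟩)))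
(.node 2 (.node 1 (.leaf ⟨7, 31801425, (some false), 16, 27674709⟩) (.leaf ⟨7, 10971209, (some true), 7, 25315409⟩)) (.node 1 (.leaf ⟨7, 11495495, (some true), 1, 25305157⟩) (.leaf ⟨13, 17043521, (some false), 13, 19691615⟩))))
(.node 4 (.node 2 (.node 1 (.leaf ⟨13, 19085399, (some false), 13, 19341391⟩) (.leaf ⟨13, 17059919, (some true), 13, 17127517⟩)) (.node 1 (.leaf ⟨13, 19085399, (some true), 4, 4927577⟩) (.leaf ⟨13, 25385043, (some true), 13, 9318465⟩)))
(.node 2 (.node 1 (.leaf ⟨13, 11495495, (some true), 13, 27791447⟩) (.leaf ⟨16, 32125001, (some false), 16, 26165339⟩)) (.node 1 (.leaf ⟨16, 10971209, (some false), 7, 13387871⟩) (.leaf ⟨16, 7292999, (some false), 7, 7161933⟩)))))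
(.node 8 (.node 4 (.node 2 (.node 1 (.leaf ⟨16, 19085399, (some false), 16, 19865679⟩) (.leaf ⟨16, 31801425, (some false), 16, 25378897⟩)) (.node 1 (.leaf ⟨16, 32125001, (some true), 28, 4810837⟩) (.leaf ⟨16, 10971209, (some true), 16, 10971225⟩)))
(.node 2 (.node 1 (.leaf ⟨16, 4808797, (some true), 28, 12861509⟩) (.leaf ⟨16, 29904967, (some true), 28, 15550551⟩)) (.node 1 (.leaf ⟨16, 13310023, (some true), 28, 21768269⟩) (.leaf ⟨16, 13510735, (some true), 28, 21842013⟩))))
(.node 4 (.node 2 (.node 1 (.leaf ⟨16, 31801425, (some true), 28, 21588037⟩) (.leaf ⟨16, 32131155, (some true), 28, 32008277⟩)) (.node 1 (.leaf ⟨16, 11495495, (some true), 16, 17524817⟩) (.leaf ⟨16, 4544593, (some true), 28, 32073799⟩)))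
(.node 2 (.node 1 (.leaf ⟨21, 17059919, (some true), 21, 19230791⟩) (.leaf ⟨22, 4808797, (some false), 86, 23277633⟩)) (.node 1 (.leaf ⟨22, 29904967, (some false), 86, 11341907⟩) (.leaf ⟨22, 13510735, (some false), 86, 27619405⟩))))))))
(.node 61 (.node 30 (.node 15 (.node 7 (.node 3 (.node 1 (.leaf ⟨22, 27529303, (some false), 86, 29773891⟩) (.node 1 (.leaf ⟨22, 19085399, (some false), 22, 19621955⟩) (.leaf ⟨22, 17043521, (some true), 16, 17045583⟩)))
(.node 2 (.node 1 (.leaf ⟨22, 17059919, (some true), 22, 17659981⟩) (.leaf ⟨28, 4808797, (some false), 28, 27881547⟩)) (.node 1 (.leaf ⟨28, 23928925, (some false), 92, 17125469⟩) (.leaf ⟨28, 13310023, (some false), 92, 17068107⟩))))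
(.node 4 (.node 2 (.node 1 (.leaf ⟨28, 7292999, (some false), 92, 17698883⟩) (.leaf ⟨28, 31801425, (some false), 92, 17045589⟩)) (.node 1 (.leaf ⟨28, 32125001, (some true), 99, 11223127⟩) (.leaf ⟨28, 10971209, (some true), 99, 11421789⟩)))
(.node 2 (.node 1 (.leaf ⟨28, 4808797, (some true), 16, 21381189⟩) (.leaf ⟨28, 29904967, (some true), 28, 32051295⟩)) (.node 1 (.leaf ⟨28, 13310023, (some true), 99, 19357765⟩) (.leaf ⟨28, 13510735, (some true), 99, 27992149⟩)))))
(.node 7 (.node 3 (.node 1 (.leaf ⟨28, 17059919, (some true), 31, 25903179⟩) (.node 1 (.leaf ⟨28, 19085399, (some true), 99, 27992157⟩) (.leaf ⟨28, 31801425, (some true), 28, 4989003⟩)))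
(.node 2 (.node 1 (.leaf ⟨28, 25385043, (some true), 99, 19357781⟩) (.leaf ⟨28, 32131155, (some true), 99, 19865669⟩)) (.node 1 (.leaf ⟨28, 11495495, (some true), 99, 9125981⟩) (.leaf ⟨28, 4544593, (some true), 21, 23490647⟩))))
(.node 4 (.node 2 (.node 1 (.leaf ⟨31, 17043521, (some false), 28, 29894751⟩) (.leaf ⟨31, 19085399, (some false), 28, 25718851⟩)) (.node 1 (.leaf ⟨31, 32125001, (some true), 71, 9007175⟩) (.leaf ⟨31, 4808797, (some true), 71, 25514079⟩)))
(.node 2 (.node 1 (.leaf ⟨31, 29904967, (some true), 71, 9246805⟩) (.leaf ⟨31, 13310023, (some true), 71, 17569879⟩)) (.node 1 (.leaf ⟨31, 13510735, (some true), 71, 11300943⟩) (.leaf ⟨31, 19085399, (some true), 31, 17715295⟩))))))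
(.node 15 (.node 7 (.node 3 (.node 1 (.leaf ⟨31, 31801425, (some true), 71, 11024461⟩) (.node 1 (.leaf ⟨31, 25385043, (some true), 7, 15210567⟩) (.leaf ⟨31, 32131155, (some true), 71, 11079757⟩)))
(.node 2 (.node 1 (.leaf ⟨31, 4544593, (some true), 71, 11081799⟩) (.leaf ⟨34, 32125001, (some false), 57, 8607835⟩)) (.node 1 (.leaf ⟨34, 10971209, (some false), 57, 13377631⟩) (.leaf ⟨34, 4808797, (some false), 57, 23558221⟩))))
(.node 4 (.node 2 (.node 1 (.leaf ⟨34, 23928925, (some false), 57, 23930965⟩) (.leaf ⟨34, 29904967, (some false), 57, 25385035⟩)) (.node 1 (.leaf ⟨34, 13310023, (some false), 57, 9386063⟩) (.leaf ⟨34, 13510735, (some false), 57, 9048149⟩)))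
(.node 2 (.node 1 (.leaf ⟨34, 7292999, (some false), 57, 7221337⟩) (.leaf ⟨34, 27529303, (some false), 57, 30087237⟩)) (.node 1 (.leaf ⟨34, 19085399, (some false), 34, 19013701⟩) (.leaf ⟨34, 31801425, (some false), 57, 9386067⟩)))))
(.node 8 (.node 4 (.node 2 (.node 1 (.leaf ⟨34, 9056345, (some false), 57, 29714513⟩) (.leaf ⟨34, 6776923, (some false), 57, 21766231⟩)) (.node 1 (.leaf ⟨34, 32125001, (some true), 105, 15620187⟩) (.leaf ⟨34, 4808797, (some true), 105, 21461057⟩)))
(.node 2 (.node 1 (.leaf ⟨34, 29904967, (some true), 105, 31938643⟩) (.leaf ⟨34, 13310023, (some true), 105, 7288905⟩)) (.node 1 (.leaf ⟨34, 13510735, (some true), 105, 7043153⟩) (.leaf ⟨34, 31801425, (some true), 105, 32127043⟩))))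
(.node 4 (.node 2 (.node 1 (.leaf ⟨34, 32131155, (some true), 105, 6781017⟩) (.leaf ⟨34, 4544593, (some true), 105, 5124179⟩)) (.node 1 (.leaf ⟨39, 23928925, (some false), 53, 23924827⟩) (.leaf ⟨39, 13310023, (some false), 57, 8550475⟩)))
(.node 2 (.node 1 (.leaf ⟨39, 19085399, (some false), 39, 19032133⟩) (.leaf ⟨39, 9056345, (some false), 57, 30105673⟩)) (.node 1 (.leaf ⟨39, 6776923, (some false), 53, 21895257⟩) (.leaf ⟨39, 32125001, (some true), 123, 4991051⟩)))))))
(.node 30 (.node 15 (.node 7 (.node 3 (.node 1 (.leaf ⟨39, 4808797, (some true), 123, 13197385⟩) (.node 1 (.leaf ⟨39, 29904967, (some true), 123, 32319555⟩) (.leaf ⟨39, 13310023, (some true), 123, 23347283⟩)))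
(.node 2 (.node 1 (.leaf ⟨39, 13510735, (some true), 123, 7086147⟩) (.leaf ⟨39, 19085399, (some true), 34, 19814479⟩)) (.node 1 (.leaf ⟨39, 31801425, (some true), 123, 23863377⟩) (.leaf ⟨39, 25385043, (some true), 39, 10645587⟩))))
(.node 4 (.node 2 (.node 1 (.leaf ⟨39, 32131155, (some true), 123, 6891587⟩) (.leaf ⟨39, 4544593, (some true), 123, 4794443⟩)) (.node 1 (.leaf ⟨50, 13510735, (some false), 50, 29780063⟩) (.leaf ⟨50, 27529303, (some false), 50, 21127243⟩)))
(.node 2 (.node 1 (.leaf ⟨50, 10971209, (some true), 71, 10647617⟩) (.leaf ⟨50, 13310023, (some true), 50, 17641565⟩)) (.node 1 (.leaf ⟨50, 13510735, (some true), 13, 6645839⟩) (.leaf ⟨50, 17059919, (some true), 50, 27801669⟩)))))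
(.node 7 (.node 3 (.node 1 (.leaf ⟨50, 31801425, (some true), 71, 17256521⟩) (.node 1 (.leaf ⟨50, 25385043, (some true), 71, 25630809⟩) (.leaf ⟨50, 32131155, (some true), 50, 23480395⟩)))
(.node 2 (.node 1 (.leaf ⟨50, 4544593, (some true), 71, 10901593⟩) (.leaf ⟨53, 32125001, (some false), 39, 27727943⟩)) (.node 1 (.leaf ⟨53, 10971209, (some false), 57, 32139337⟩) (.leaf ⟨53, 4808797, (some false), 92, 4679757⟩))))
(.node 4 (.node 2 (.node 1 (.leaf ⟨53, 23928925, (some false), 92, 23345243⟩) (.leaf ⟨53, 29904967, (some false), 92, 11219009⟩)) (.node 1 (.leaf ⟨53, 13310023, (some false), 92, 8802371⟩) (.leaf ⟨53, 13510735, (some false), 92, 28203085⟩)))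
(.node 2 (.node 1 (.leaf ⟨53, 7292999, (some false), 57, 21372999⟩) (.leaf ⟨53, 27529303, (some false), 92, 15345751⟩)) (.node 1 (.leaf ⟨53, 19085399, (some false), 53, 19359821⟩) (.leaf ⟨53, 31801425, (some false), 39, 27660359⟩))))))
(.node 15 (.node 7 (.node 3 (.node 1 (.leaf ⟨53, 9056345, (some false), 92, 29499477⟩) (.node 1 (.leaf ⟨53, 6776923, (some false), 92, 21313613⟩) (.leaf ⟨53, 17043521, (some true), 62, 17592413⟩)))
(.node 2 (.node 1 (.leaf ⟨53, 32125001, (some true), 113, 5128271⟩) (.leaf ⟨53, 4808797, (some true), 113, 13510749⟩)) (.node 1 (.leaf ⟨53, 29904967, (some true), 113, 21192773⟩) (.leaf ⟨53, 13310023, (some true), 113, 23291999⟩))))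
(.node 4 (.node 2 (.node 1 (.leaf ⟨53, 13510735, (some true), 113, 15687765⟩) (.leaf ⟨53, 17059919, (some true), 62, 17125461⟩)) (.node 1 (.leaf ⟨53, 19085399, (some true), 62, 19748949⟩) (.leaf ⟨53, 31801425, (some true), 113, 24068191⟩)))
(.node 2 (.node 1 (.leaf ⟨53, 25385043, (some true), 62, 11303005⟩) (.leaf ⟨53, 32131155, (some true), 113, 12732495⟩)) (.node 1 (.leaf ⟨53, 4544593, (some true), 113, 14893135⟩) (.leaf ⟨57, 32125001, (some false), 229, 27818079⟩)))))
(.node 8 (.node 4 (.node 2 (.node 1 (.leaf ⟨57, 10971209, (some false), 229, 32002123⟩) (.leaf ⟨57, 4808797, (some false), 229, 23605343⟩)) (.node 1 (.leaf ⟨57, 23928925, (some false), 57, 4483143⟩) (.leaf ⟨57, 29904967, (some false), 229, 25712729⟩)))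
(.node 2 (.node 1 (.leaf ⟨57, 13310023, (some false), 34, 27684959⟩) (.leaf ⟨57, 13510735, (some false), 229, 8917071⟩)) (.node 1 (.leaf ⟨57, 7292999, (some false), 229, 21522515⟩) (.leaf ⟨57, 27529303, (some false), 229, 29892695⟩))))
(.node 4 (.node 2 (.node 1 (.leaf ⟨57, 19085399, (some false), 57, 19013701⟩) (.leaf ⟨57, 31801425, (some false), 229, 27816021⟩)) (.node 1 (.leaf ⟨57, 9056345, (some false), 53, 15366215⟩) (.leaf ⟨57, 6776923, (some false), 39, 6647891⟩)))
(.node 2 (.node 1 (.leaf ⟨57, 17043521, (some true), 71, 17246277⟩) (.leaf ⟨57, 32125001, (some true), 134, 21180487⟩)) (.node 1 (.leaf ⟨57, 10971209, (some true), 71, 26091597⟩) (.leaf ⟨57, 4808797, (some true), 134, 4675679⟩)))))))))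

/-- The facts. -/
def caseCFullFactsRRRL : Tab Fct := .node 244 caseCFullFactsRRRLL caseCFullFactsRRRLR

/-- The facts. -/
def caseCFullFactsRRRRL : Tab Fct :=
(.node 122 (.node 61 (.node 30 (.node 15 (.node 7 (.node 3 (.node 1 (.leaf ⟨57, 29904967, (some true), 144, 5197891⟩) (.node 1 (.leaf ⟨57, 13310023, (some true), 134, 12802119⟩) (.leaf ⟨57, 13510735, (some true), 144, 31600715⟩)))
(.node 2 (.node 1 (.leaf ⟨57, 17059919, (some true), 71, 17244231⟩) (.leaf ⟨57, 19085399, (some true), 53, 19343431⟩)) (.node 1 (.leaf ⟨57, 31801425, (some true), 134, 5199941⟩) (.leaf ⟨57, 25385043, (some true), 57, 11221067⟩))))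
(.node 4 (.node 2 (.node 1 (.leaf ⟨57, 32131155, (some true), 144, 21180483⟩) (.leaf ⟨57, 11495495, (some true), 71, 26159173⟩)) (.node 1 (.leaf ⟨57, 4544593, (some true), 144, 23277633⟩) (.leaf ⟨62, 32125001, (some false), 129, 32125007⟩)))
(.node 2 (.node 1 (.leaf ⟨62, 10971209, (some false), 129, 11231325⟩) (.leaf ⟨62, 4808797, (some false), 92, 24064079⟩)) (.node 1 (.leaf ⟨62, 23928925, (some false), 129, 14970965⟩) (.leaf ⟨62, 29904967, (some false), 86, 25589825⟩)))))
(.node 7 (.node 3 (.node 1 (.leaf ⟨62, 13310023, (some false), 129, 30095425⟩) (.node 1 (.leaf ⟨62, 13510735, (some false), 86, 9050189⟩) (.leaf ⟨62, 7292999, (some false), 129, 12875857⟩)))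
(.node 2 (.node 1 (.leaf ⟨62, 27529303, (some false), 92, 30085191⟩) (.leaf ⟨62, 19085399, (some false), 62, 19607637⟩)) (.node 1 (.leaf ⟨62, 31801425, (some false), 129, 13269081⟩) (.leaf ⟨62, 9056345, (some false), 129, 25372741⟩))))
(.node 4 (.node 2 (.node 1 (.leaf ⟨62, 6776923, (some false), 129, 26093649⟩) (.leaf ⟨62, 17043521, (some true), 62, 17594443⟩)) (.node 1 (.leaf ⟨62, 32125001, (some true), 129, 7090247⟩) (.leaf ⟨62, 10971209, (some true), 71, 27474015⟩)))
(.node 2 (.node 1 (.leaf ⟨62, 4808797, (some true), 129, 29956191⟩) (.leaf ⟨62, 29904967, (some true), 129, 21510215⟩)) (.node 1 (.leaf ⟨62, 13310023, (some true), 129, 31723615⟩) (.leaf ⟨62, 13510735, (some true), 129, 13111373⟩))))))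
(.node 15 (.node 7 (.node 3 (.node 1 (.leaf ⟨62, 17059919, (some true), 53, 17119301⟩) (.node 1 (.leaf ⟨62, 19085399, (some true), 71, 17002589⟩) (.leaf ⟨62, 31801425, (some true), 129, 23861333⟩)))
(.node 2 (.node 1 (.leaf ⟨62, 25385043, (some true), 50, 29956191⟩) (.leaf ⟨62, 32131155, (some true), 129, 21762135⟩)) (.node 1 (.leaf ⟨62, 11495495, (some true), 50, 4542559⟩) (.leaf ⟨62, 4544593, (some true), 129, 21786693⟩))))
(.node 4 (.node 2 (.node 1 (.leaf ⟨71, 32125001, (some false), 229, 27531353⟩) (.leaf ⟨71, 10971209, (some false), 217, 32006225⟩)) (.node 1 (.leaf ⟨71, 23928925, (some false), 145, 23531607⟩) (.leaf ⟨71, 13310023, (some false), 145, 27664467⟩)))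
(.node 2 (.node 1 (.leaf ⟨71, 7292999, (some false), 229, 21196879⟩) (.leaf ⟨71, 19085399, (some false), 71, 19884117⟩)) (.node 1 (.leaf ⟨71, 31801425, (some false), 217, 27791427⟩) (.leaf ⟨71, 9056345, (some false), 145, 15429723⟩)))))
(.node 8 (.node 4 (.node 2 (.node 1 (.leaf ⟨71, 6776923, (some false), 145, 21895237⟩) (.leaf ⟨71, 17043521, (some true), 71, 19157065⟩)) (.node 1 (.leaf ⟨71, 32125001, (some true), 145, 29579335⟩) (.leaf ⟨71, 10971209, (some true), 71, 25831513⟩)))
(.node 2 (.node 1 (.leaf ⟨71, 4808797, (some true), 145, 21182559⟩) (.leaf ⟨71, 29904967, (some true), 145, 4929623⟩)) (.node 1 (.leaf ⟨71, 13310023, (some true), 129, 9312351⟩) (.leaf ⟨71, 13510735, (some true), 129, 19036255⟩))))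
(.node 4 (.node 2 (.node 1 (.leaf ⟨71, 17059919, (some true), 31, 6645837⟩) (.leaf ⟨71, 19085399, (some true), 62, 17524811⟩)) (.node 1 (.leaf ⟨71, 31801425, (some true), 129, 28194903⟩) (.leaf ⟨71, 25385043, (some true), 50, 29954115⟩)))
(.node 2 (.node 1 (.leaf ⟨71, 32131155, (some true), 145, 7288911⟩) (.leaf ⟨71, 11495495, (some true), 57, 25895003⟩)) (.node 1 (.leaf ⟨71, 4544593, (some true), 129, 25825373⟩) (.leaf ⟨86, 32125001, (some false), 62, 27809877⟩)))))))
(.node 30 (.node 15 (.node 7 (.node 3 (.node 1 (.leaf ⟨86, 10971209, (some false), 92, 31676493⟩) (.node 1 (.leaf ⟨86, 23928925, (some false), 62, 23619649⟩) (.leaf ⟨86, 29904967, (some false), 86, 27545689⟩)))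
(.node 2 (.node 1 (.leaf ⟨86, 13310023, (some false), 92, 9115715⟩) (.leaf ⟨86, 7292999, (some false), 92, 21901387⟩)) (.node 1 (.leaf ⟨86, 27529303, (some false), 86, 31860825⟩) (.leaf ⟨86, 19085399, (some false), 86, 19032133⟩))))
(.node 4 (.node 2 (.node 1 (.leaf ⟨86, 31801425, (some false), 62, 27816031⟩) (.leaf ⟨86, 9056345, (some false), 62, 29894751⟩)) (.node 1 (.leaf ⟨86, 6776923, (some false), 92, 21325915⟩) (.leaf ⟨86, 17043521, (some true), 86, 25434181⟩)))
(.node 2 (.node 1 (.leaf ⟨86, 32125001, (some true), 99, 25499731⟩) (.leaf ⟨86, 10971209, (some true), 92, 25892947⟩)) (.node 1 (.leaf ⟨86, 4808797, (some true), 99, 17578049⟩) (.leaf ⟨86, 29904967, (some true), 99, 19746881⟩)))))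
(.node 7 (.node 3 (.node 1 (.leaf ⟨86, 13310023, (some true), 99, 9197657⟩) (.node 1 (.leaf ⟨86, 13510735, (some true), 99, 17643593⟩) (.leaf ⟨86, 17059919, (some true), 86, 11341919⟩)))
(.node 2 (.node 1 (.leaf ⟨86, 19085399, (some true), 92, 19099729⟩) (.leaf ⟨86, 31801425, (some true), 99, 27875393⟩)) (.node 1 (.leaf ⟨86, 25385043, (some true), 92, 10713153⟩) (.leaf ⟨86, 32131155, (some true), 99, 25442377⟩))))
(.node 4 (.node 2 (.node 1 (.leaf ⟨86, 11495495, (some true), 92, 25374785⟩) (.leaf ⟨86, 4544593, (some true), 99, 27537483⟩)) (.node 1 (.leaf ⟨92, 17043521, (some false), 28, 29704279⟩) (.leaf ⟨92, 32125001, (some false), 280, 25851979⟩)))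
(.node 2 (.node 1 (.leaf ⟨92, 10971209, (some false), 129, 21973059⟩) (.leaf ⟨92, 4808797, (some false), 129, 12732505⟩)) (.node 1 (.leaf ⟨92, 23928925, (some false), 62, 23228489⟩) (.leaf ⟨92, 29904967, (some false), 280, 8804419⟩))))))
(.node 15 (.node 7 (.node 3 (.node 1 (.leaf ⟨92, 13310023, (some false), 86, 8867917⟩) (.node 1 (.leaf ⟨92, 13510735, (some false), 280, 26105949⟩) (.leaf ⟨92, 7292999, (some false), 280, 23470171⟩)))
(.node 2 (.node 1 (.leaf ⟨92, 27529303, (some false), 129, 27740247⟩) (.leaf ⟨92, 19085399, (some false), 92, 19730521⟩)) (.node 1 (.leaf ⟨92, 31801425, (some false), 129, 15550537⟩) (.leaf ⟨92, 6776923, (some false), 92, 21788739⟩))))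
(.node 4 (.node 2 (.node 1 (.leaf ⟨92, 17043521, (some true), 126, 21133397⟩) (.leaf ⟨92, 32125001, (some true), 280, 14835781⟩)) (.node 1 (.leaf ⟨92, 10971209, (some true), 126, 23556183⟩) (.leaf ⟨92, 4808797, (some true), 280, 21373023⟩)))
(.node 2 (.node 1 (.leaf ⟨92, 29904967, (some true), 188, 12802121⟩) (.leaf ⟨92, 13310023, (some true), 280, 7039063⟩)) (.node 1 (.leaf ⟨92, 13510735, (some true), 188, 21901387⟩) (.leaf ⟨92, 17059919, (some true), 99, 19798107⟩)))))
(.node 8 (.node 4 (.node 2 (.node 1 (.leaf ⟨92, 19085399, (some true), 92, 19083333⟩) (.leaf ⟨92, 31801425, (some true), 280, 32202831⟩)) (.node 1 (.leaf ⟨92, 32131155, (some true), 188, 21968971⟩) (.leaf ⟨92, 11495495, (some true), 99, 28194907⟩)))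
(.node 2 (.node 1 (.leaf ⟨92, 4544593, (some true), 188, 23998531⟩) (.leaf ⟨99, 32125001, (some false), 145, 9203785⟩)) (.node 1 (.leaf ⟨99, 10971209, (some false), 145, 31924297⟩) (.leaf ⟨99, 4808797, (some false), 129, 11024469⟩))))
(.node 4 (.node 2 (.node 1 (.leaf ⟨99, 23928925, (some false), 280, 19540037⟩) (.leaf ⟨99, 29904967, (some false), 280, 23273555⟩)) (.node 1 (.leaf ⟨99, 13310023, (some false), 374, 12873795⟩) (.leaf ⟨99, 13510735, (some false), 280, 31940679⟩)))
(.node 2 (.node 1 (.leaf ⟨99, 7292999, (some false), 99, 13254749⟩) (.leaf ⟨99, 27529303, (some false), 129, 25712705⟩)) (.node 1 (.leaf ⟨99, 19085399, (some false), 99, 19560529⟩) (.leaf ⟨99, 31801425, (some false), 99, 12861509⟩))))))))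
(.node 61 (.node 30 (.node 15 (.node 7 (.node 3 (.node 1 (.leaf ⟨99, 9056345, (some false), 280, 19271749⟩) (.node 1 (.leaf ⟨99, 6776923, (some false), 374, 8609859⟩) (.leaf ⟨99, 17043521, (some true), 86, 7041103⟩)))
(.node 2 (.node 1 (.leaf ⟨99, 32125001, (some true), 129, 17643589⟩) (.leaf ⟨99, 10971209, (some true), 99, 27402329⟩)) (.node 1 (.leaf ⟨99, 4808797, (some true), 99, 6826071⟩) (.leaf ⟨99, 29904967, (some true), 188, 25448541⟩))))
(.node 4 (.node 2 (.node 1 (.leaf ⟨99, 13310023, (some true), 188, 25718855⟩) (.leaf ⟨99, 13510735, (some true), 99, 6907991⟩)) (.node 1 (.leaf ⟨99, 17059919, (some true), 99, 17643597⟩) (.leaf ⟨99, 19085399, (some true), 126, 15667267⟩)))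
(.node 2 (.node 1 (.leaf ⟨99, 31801425, (some true), 113, 17125443⟩) (.leaf ⟨99, 32131155, (some true), 113, 17125443⟩)) (.node 1 (.leaf ⟨99, 11495495, (some true), 28, 17721427⟩) (.leaf ⟨99, 4544593, (some true), 129, 19755077⟩)))))
(.node 7 (.node 3 (.node 1 (.leaf ⟨105, 32125001, (some false), 134, 8540233⟩) (.node 1 (.leaf ⟨105, 10971209, (some false), 134, 13445201⟩) (.leaf ⟨105, 4808797, (some false), 144, 5058625⟩)))
(.node 2 (.node 1 (.leaf ⟨105, 23928925, (some false), 134, 5124191⟩) (.leaf ⟨105, 29904967, (some false), 144, 10899525⟩)) (.node 1 (.leaf ⟨105, 13310023, (some false), 134, 27922499⟩) (.leaf ⟨105, 13510735, (some false), 134, 27684945⟩))))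
(.node 4 (.node 2 (.node 1 (.leaf ⟨105, 7292999, (some false), 144, 6709327⟩) (.leaf ⟨105, 27529303, (some false), 134, 14831699⟩)) (.node 1 (.leaf ⟨105, 19085399, (some false), 105, 19802185⟩) (.leaf ⟨105, 31801425, (some false), 144, 8613979⟩)))
(.node 2 (.node 1 (.leaf ⟨105, 9056345, (some false), 144, 15343705⟩) (.leaf ⟨105, 6776923, (some false), 144, 6582351⟩)) (.node 1 (.leaf ⟨105, 17043521, (some true), 113, 17768519⟩) (.leaf ⟨105, 10971209, (some true), 113, 25905245⟩))))))
(.node 15 (.node 7 (.node 3 (.node 1 (.leaf ⟨105, 4808797, (some true), 144, 29706319⟩) (.node 1 (.leaf ⟨105, 29904967, (some true), 144, 6891589⟩) (.leaf ⟨105, 13310023, (some true), 105, 30019671⟩)))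
(.node 2 (.node 1 (.leaf ⟨105, 13510735, (some true), 144, 30156871⟩) (.leaf ⟨105, 17059919, (some true), 113, 17508431⟩)) (.node 1 (.leaf ⟨105, 19085399, (some true), 113, 19292231⟩) (.leaf ⟨105, 31801425, (some true), 144, 13133893⟩))))
(.node 4 (.node 2 (.node 1 (.leaf ⟨105, 25385043, (some true), 113, 10698847⟩) (.leaf ⟨105, 32131155, (some true), 144, 23668823⟩)) (.node 1 (.leaf ⟨105, 11495495, (some true), 113, 25313351⟩) (.leaf ⟨105, 4544593, (some true), 144, 21831751⟩)))
(.node 2 (.node 1 (.leaf ⟨113, 32125001, (some false), 134, 27474001⟩) (.leaf ⟨113, 10971209, (some false), 123, 31733839⟩)) (.node 1 (.leaf ⟨113, 4808797, (some false), 374, 31662159⟩) (.leaf ⟨113, 23928925, (some false), 374, 30040141⟩)))))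
(.node 8 (.node 4 (.node 2 (.node 1 (.leaf ⟨113, 29904967, (some false), 374, 21246027⟩) (.leaf ⟨113, 13310023, (some false), 374, 6647883⟩)) (.node 1 (.leaf ⟨113, 13510735, (some false), 188, 7022657⟩) (.leaf ⟨113, 7292999, (some false), 144, 21766239⟩)))
(.node 2 (.node 1 (.leaf ⟨113, 27529303, (some false), 188, 9205837⟩) (.leaf ⟨113, 19085399, (some false), 113, 19556445⟩)) (.node 1 (.leaf ⟨113, 31801425, (some false), 123, 27412557⟩) (.leaf ⟨113, 9056345, (some false), 188, 23277649⟩))))
(.node 4 (.node 2 (.node 1 (.leaf ⟨113, 6776923, (some false), 188, 25432135⟩) (.leaf ⟨113, 17043521, (some true), 99, 12861523⟩)) (.node 1 (.leaf ⟨113, 32125001, (some true), 280, 21393497⟩) (.leaf ⟨113, 10971209, (some true), 113, 26093651⟩)))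
(.node 2 (.node 1 (.leaf ⟨113, 4808797, (some true), 134, 7161935⟩) (.leaf ⟨113, 29904967, (some true), 280, 12742739⟩)) (.node 1 (.leaf ⟨113, 13310023, (some true), 280, 12808275⟩) (.leaf ⟨113, 13510735, (some true), 53, 23343199⟩)))))))
(.node 30 (.node 15 (.node 7 (.node 3 (.node 1 (.leaf ⟨113, 17059919, (some true), 99, 23412817⟩) (.node 1 (.leaf ⟨113, 19085399, (some true), 99, 14960707⟩) (.leaf ⟨113, 31801425, (some true), 123, 6768715⟩)))
(.node 2 (.node 1 (.leaf ⟨113, 25385043, (some true), 99, 13379649⟩) (.leaf ⟨113, 32131155, (some true), 113, 32131155⟩)) (.node 1 (.leaf ⟨113, 11495495, (some true), 105, 25374807⟩) (.leaf ⟨113, 4544593, (some true), 280, 32116801⟩))))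
(.node 4 (.node 2 (.node 1 (.leaf ⟨123, 32125001, (some false), 134, 8616003⟩) (.leaf ⟨123, 10971209, (some false), 113, 12873807⟩)) (.node 1 (.leaf ⟨123, 4808797, (some false), 129, 28014681⟩) (.leaf ⟨123, 23928925, (some false), 129, 25915479⟩)))
(.node 2 (.node 1 (.leaf ⟨123, 29904967, (some false), 129, 32264259⟩) (.leaf ⟨123, 13310023, (some false), 129, 29628485⟩)) (.node 1 (.leaf ⟨123, 13510735, (some false), 280, 4606021⟩) (.leaf ⟨123, 7292999, (some false), 113, 6701147⟩)))))
(.node 7 (.node 3 (.node 1 (.leaf ⟨123, 27529303, (some false), 280, 11225175⟩) (.node 1 (.leaf ⟨123, 19085399, (some false), 123, 19538015⟩) (.leaf ⟨123, 31801425, (some false), 144, 9113681⟩)))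
(.node 2 (.node 1 (.leaf ⟨123, 9056345, (some false), 280, 7161949⟩) (.leaf ⟨123, 6776923, (some false), 280, 9324627⟩)) (.node 1 (.leaf ⟨123, 32125001, (some true), 145, 29972555⟩) (.leaf ⟨123, 4808797, (some true), 123, 21571679⟩))))
(.node 4 (.node 2 (.node 1 (.leaf ⟨123, 29904967, (some true), 145, 5066835⟩) (.leaf ⟨123, 13310023, (some true), 145, 32256075⟩)) (.node 1 (.leaf ⟨123, 13510735, (some true), 134, 6570075⟩) (.leaf ⟨123, 32131155, (some true), 113, 7094347⟩)))
(.node 2 (.node 1 (.leaf ⟨123, 4544593, (some true), 145, 23670849⟩) (.leaf ⟨126, 32125001, (some false), 188, 5064789⟩)) (.node 1 (.leaf ⟨126, 10971209, (some false), 374, 11300955⟩) (.leaf ⟨126, 23928925, (some false), 188, 14895175⟩))))))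
(.node 15 (.node 7 (.node 3 (.node 1 (.leaf ⟨126, 13310023, (some false), 374, 6973525⟩) (.node 1 (.leaf ⟨126, 13510735, (some false), 99, 17061963⟩) (.leaf ⟨126, 7292999, (some false), 188, 21252187⟩)))
(.node 2 (.node 1 (.leaf ⟨126, 27529303, (some false), 99, 17174619⟩) (.leaf ⟨126, 31801425, (some false), 374, 11286607⟩)) (.node 1 (.leaf ⟨126, 9056345, (some false), 188, 31606861⟩) (.leaf ⟨126, 6776923, (some false), 374, 6971465⟩))))
(.node 4 (.node 2 (.node 1 (.leaf ⟨126, 32125001, (some true), 99, 27924567⟩) (.leaf ⟨126, 29904967, (some true), 188, 19556425⟩)) (.node 1 (.leaf ⟨126, 13310023, (some true), 92, 8538203⟩) (.leaf ⟨126, 13510735, (some true), 99, 17190981⟩)))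
(.node 2 (.node 1 (.leaf ⟨126, 17059919, (some true), 126, 19738709⟩) (.leaf ⟨126, 31801425, (some true), 188, 26091611⟩)) (.node 1 (.leaf ⟨126, 25385043, (some true), 188, 8544339⟩) (.leaf ⟨126, 32131155, (some true), 92, 27666523⟩)))))
(.node 8 (.node 4 (.node 2 (.node 1 (.leaf ⟨126, 11495495, (some true), 188, 25370713⟩) (.leaf ⟨129, 32125001, (some false), 62, 30224477⟩)) (.node 1 (.leaf ⟨129, 10971209, (some false), 129, 26157133⟩) (.leaf ⟨129, 4808797, (some false), 280, 31877195⟩)))
(.node 2 (.node 1 (.leaf ⟨129, 23928925, (some false), 188, 25311305⟩) (.leaf ⟨129, 29904967, (some false), 99, 29954113⟩)) (.node 1 (.leaf ⟨129, 13310023, (some false), 145, 17446985⟩) (.leaf ⟨129, 13510735, (some false), 229, 23470147⟩))))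
(.node 4 (.node 2 (.node 1 (.leaf ⟨129, 7292999, (some false), 92, 27410509⟩) (.leaf ⟨129, 27529303, (some false), 188, 25589849⟩)) (.node 1 (.leaf ⟨129, 19085399, (some false), 129, 19359839⟩) (.leaf ⟨129, 31801425, (some false), 280, 29567065⟩)))
(.node 2 (.node 1 (.leaf ⟨129, 9056345, (some false), 129, 15345733⟩) (.leaf ⟨129, 6776923, (some false), 123, 11417681⟩)) (.node 1 (.leaf ⟨129, 32125001, (some true), 145, 10641489⟩) (.leaf ⟨129, 10971209, (some true), 123, 26161247⟩)))))))))

/-- The facts. -/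
def caseCFullFactsRRRRR : Tab Fct :=
(.node 122 (.node 61 (.node 30 (.node 15 (.node 7 (.node 3 (.node 1 (.leaf ⟨129, 4808797, (some true), 280, 11294789⟩) (.node 1 (.leaf ⟨129, 29904967, (some true), 62, 4730963⟩) (.leaf ⟨129, 13310023, (some true), 229, 27990081⟩)))
(.node 2 (.node 1 (.leaf ⟨129, 13510735, (some true), 129, 5128263⟩) (.leaf ⟨129, 17059919, (some true), 99, 32258131⟩)) (.node 1 (.leaf ⟨129, 19085399, (some true), 71, 4743249⟩) (.leaf ⟨129, 31801425, (some true), 188, 13254723⟩))))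
(.node 4 (.node 2 (.node 1 (.leaf ⟨129, 32131155, (some true), 217, 8548427⟩) (.leaf ⟨129, 11495495, (some true), 129, 25307213⟩)) (.node 1 (.leaf ⟨129, 4544593, (some true), 129, 13373515⟩) (.leaf ⟨134, 32125001, (some false), 229, 27686987⟩)))
(.node 2 (.node 1 (.leaf ⟨134, 10971209, (some false), 229, 31674449⟩) (.leaf ⟨134, 4808797, (some false), 145, 7227461⟩)) (.node 1 (.leaf ⟨134, 23928925, (some false), 134, 4681793⟩) (.leaf ⟨134, 29904967, (some false), 145, 8603735⟩)))))
(.node 7 (.node 3 (.node 1 (.leaf ⟨134, 13310023, (some false), 105, 27531347⟩) (.node 1 (.leaf ⟨134, 13510735, (some false), 229, 9113683⟩) (.leaf ⟨134, 7292999, (some false), 145, 4540509⟩)))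
(.node 2 (.node 1 (.leaf ⟨134, 27529303, (some false), 229, 30220371⟩) (.leaf ⟨134, 19085399, (some false), 134, 19748935⟩)) (.node 1 (.leaf ⟨134, 31801425, (some false), 145, 10897491⟩) (.leaf ⟨134, 9056345, (some false), 123, 14905429⟩))))
(.node 4 (.node 2 (.node 1 (.leaf ⟨134, 6776923, (some false), 113, 6639699⟩) (.leaf ⟨134, 17043521, (some true), 188, 17004637⟩)) (.node 1 (.leaf ⟨134, 32125001, (some true), 134, 23277659⟩) (.leaf ⟨134, 10971209, (some true), 188, 25565255⟩)))
(.node 2 (.node 1 (.leaf ⟨134, 4808797, (some true), 113, 6645847⟩) (.leaf ⟨134, 29904967, (some true), 374, 27553863⟩)) (.node 1 (.leaf ⟨134, 13310023, (some true), 57, 15474775⟩) (.leaf ⟨134, 13510735, (some true), 374, 17117271⟩))))))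
(.node 15 (.node 7 (.node 3 (.node 1 (.leaf ⟨134, 17059919, (some true), 188, 16939101⟩) (.node 1 (.leaf ⟨134, 19085399, (some true), 123, 19619923⟩) (.leaf ⟨134, 31801425, (some true), 123, 7020637⟩)))
(.node 2 (.node 1 (.leaf ⟨134, 25385043, (some true), 144, 10975307⟩) (.leaf ⟨134, 32131155, (some true), 374, 27537493⟩)) (.node 1 (.leaf ⟨134, 11495495, (some true), 188, 25563213⟩) (.leaf ⟨134, 4544593, (some true), 374, 17043543⟩))))
(.node 4 (.node 2 (.node 1 (.leaf ⟨144, 32125001, (some false), 280, 11016273⟩) (.leaf ⟨144, 10971209, (some false), 280, 15212639⟩)) (.node 1 (.leaf ⟨144, 4808797, (some false), 374, 11483231⟩) (.leaf ⟨144, 23928925, (some false), 123, 23937097⟩)))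
(.node 2 (.node 1 (.leaf ⟨144, 29904967, (some false), 374, 31608905⟩) (.leaf ⟨144, 13310023, (some false), 113, 9062483⟩)) (.node 1 (.leaf ⟨144, 13510735, (some false), 280, 11038815⟩) (.leaf ⟨144, 7292999, (some false), 374, 12869721⟩)))))
(.node 8 (.node 4 (.node 2 (.node 1 (.leaf ⟨144, 27529303, (some false), 280, 31985751⟩) (.leaf ⟨144, 19085399, (some false), 144, 19603525⟩)) (.node 1 (.leaf ⟨144, 31801425, (some false), 374, 4683849⟩) (.leaf ⟨144, 9056345, (some false), 144, 30107737⟩)))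
(.node 2 (.node 1 (.leaf ⟨144, 6776923, (some false), 105, 21313621⟩) (.leaf ⟨144, 32125001, (some true), 57, 13256791⟩)) (.node 1 (.leaf ⟨144, 4808797, (some true), 105, 23478351⟩) (.leaf ⟨144, 29904967, (some true), 374, 4743241⟩))))
(.node 4 (.node 2 (.node 1 (.leaf ⟨144, 13310023, (some true), 144, 4683847⟩) (.leaf ⟨144, 13510735, (some true), 374, 21839945⟩)) (.node 1 (.leaf ⟨144, 19085399, (some true), 123, 19619925⟩) (.leaf ⟨144, 31801425, (some true), 144, 30228545⟩)))
(.node 2 (.node 1 (.leaf ⟨144, 25385043, (some true), 134, 10975307⟩) (.leaf ⟨144, 32131155, (some true), 374, 32073793⟩)) (.node 1 (.leaf ⟨144, 4544593, (some true), 374, 21841995⟩) (.leaf ⟨145, 17043521, (some false), 129, 8810565⟩)))))))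
(.node 30 (.node 15 (.node 7 (.node 3 (.node 1 (.leaf ⟨145, 32125001, (some false), 71, 9050201⟩) (.node 1 (.leaf ⟨145, 10971209, (some false), 145, 30093389⟩) (.leaf ⟨145, 4808797, (some false), 374, 25770063⟩)))
(.node 2 (.node 1 (.leaf ⟨145, 23928925, (some false), 374, 5195861⟩) (.leaf ⟨145, 29904967, (some false), 280, 25827403⟩)) (.node 1 (.leaf ⟨145, 13510735, (some false), 99, 9330783⟩) (.leaf ⟨145, 7292999, (some false), 134, 23601239⟩))))
(.node 4 (.node 2 (.node 1 (.leaf ⟨145, 27529303, (some false), 145, 13590603⟩) (.leaf ⟨145, 19085399, (some false), 188, 8869981⟩)) (.node 1 (.leaf ⟨145, 31801425, (some false), 145, 27738207⟩) (.leaf ⟨145, 9056345, (some false), 188, 15224913⟩)))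
(.node 2 (.node 1 (.leaf ⟨145, 6776923, (some false), 579, 19142729⟩) (.leaf ⟨145, 32125001, (some true), 129, 27949131⟩)) (.node 1 (.leaf ⟨145, 10971209, (some true), 129, 14907465⟩) (.leaf ⟨145, 4808797, (some true), 374, 25317443⟩)))))
(.node 7 (.node 3 (.node 1 (.leaf ⟨145, 29904967, (some true), 145, 6846535⟩) (.node 1 (.leaf ⟨145, 13310023, (some true), 71, 15036503⟩) (.leaf ⟨145, 13510735, (some true), 126, 17528901⟩)))
(.node 2 (.node 1 (.leaf ⟨145, 17059919, (some true), 145, 19667013⟩) (.leaf ⟨145, 19085399, (some true), 374, 19097673⟩)) (.node 1 (.leaf ⟨145, 31801425, (some true), 280, 15024213⟩) (.leaf ⟨145, 25385043, (some true), 229, 12736601⟩))))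
(.node 4 (.node 2 (.node 1 (.leaf ⟨145, 11495495, (some true), 229, 19863623⟩) (.leaf ⟨145, 4544593, (some true), 123, 21508169⟩)) (.node 1 (.leaf ⟨188, 17043521, (some false), 71, 11292763⟩) (.leaf ⟨188, 32125001, (some false), 280, 9396315⟩)))
(.node 2 (.node 1 (.leaf ⟨188, 10971209, (some false), 217, 23420999⟩) (.leaf ⟨188, 4808797, (some false), 579, 17698889⟩)) (.node 1 (.leaf ⟨188, 23928925, (some false), 129, 13590615⟩) (.leaf ⟨188, 29904967, (some false), 145, 10711133⟩))))))
(.node 15 (.node 7 (.node 3 (.node 1 (.leaf ⟨188, 13310023, (some false), 229, 9310293⟩) (.node 1 (.leaf ⟨188, 13510735, (some false), 113, 14962769⟩) (.leaf ⟨188, 7292999, (some false), 126, 11147347⟩)))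
(.node 2 (.node 1 (.leaf ⟨188, 27529303, (some false), 188, 15601757⟩) (.leaf ⟨188, 19085399, (some false), 188, 19667015⟩)) (.node 1 (.leaf ⟨188, 31801425, (some false), 374, 9189465⟩) (.leaf ⟨188, 9056345, (some false), 145, 19673155⟩))))
(.node 4 (.node 2 (.node 1 (.leaf ⟨188, 6776923, (some false), 129, 10973279⟩) (.leaf ⟨188, 17043521, (some true), 129, 19159113⟩)) (.node 1 (.leaf ⟨188, 32125001, (some true), 92, 32131151⟩) (.leaf ⟨188, 4808797, (some true), 280, 25313373⟩)))
(.node 2 (.node 1 (.leaf ⟨188, 29904967, (some true), 217, 29636697⟩) (.leaf ⟨188, 13310023, (some true), 188, 24055893⟩)) (.node 1 (.leaf ⟨188, 13510735, (some true), 280, 25434203⟩) (.leaf ⟨188, 17059919, (some true), 99, 12808279⟩)))))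
(.node 8 (.node 4 (.node 2 (.node 1 (.leaf ⟨188, 31801425, (some true), 579, 10707035⟩) (.leaf ⟨188, 25385043, (some true), 188, 11481171⟩)) (.node 1 (.leaf ⟨188, 32131155, (some true), 129, 21776473⟩) (.leaf ⟨188, 11495495, (some true), 145, 15345753⟩)))
(.node 2 (.node 1 (.leaf ⟨188, 4544593, (some true), 374, 23472223⟩) (.leaf ⟨217, 32125001, (some false), 188, 6772823⟩)) (.node 1 (.leaf ⟨217, 10971209, (some false), 280, 8808535⟩) (.leaf ⟨217, 4808797, (some false), 229, 4880449⟩))))
(.node 4 (.node 2 (.node 1 (.leaf ⟨217, 23928925, (some false), 188, 26091589⟩) (.leaf ⟨217, 29904967, (some false), 71, 10709085⟩)) (.node 1 (.leaf ⟨217, 13310023, (some false), 280, 30226503⟩) (.leaf ⟨217, 13510735, (some false), 229, 27611211⟩)))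
(.node 2 (.node 1 (.leaf ⟨217, 7292999, (some false), 280, 25372737⟩) (.leaf ⟨217, 27529303, (some false), 71, 15038557⟩)) (.node 1 (.leaf ⟨217, 19085399, (some false), 217, 19538015⟩) (.leaf ⟨217, 31801425, (some false), 188, 12742749⟩))))))))
(.node 61 (.node 30 (.node 15 (.node 7 (.node 3 (.node 1 (.leaf ⟨217, 9056345, (some false), 188, 8609873⟩) (.node 1 (.leaf ⟨217, 6776923, (some false), 280, 29571139⟩) (.leaf ⟨217, 17043521, (some true), 229, 17053781⟩)))
(.node 2 (.node 1 (.leaf ⟨217, 32125001, (some true), 188, 31733853⟩) (.leaf ⟨217, 10971209, (some true), 129, 6701145⟩)) (.node 1 (.leaf ⟨217, 4808797, (some true), 188, 29694021⟩) (.leaf ⟨217, 29904967, (some true), 374, 15353937⟩))))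
(.node 4 (.node 2 (.node 1 (.leaf ⟨217, 13310023, (some true), 374, 4857937⟩) (.leaf ⟨217, 13510735, (some true), 374, 6701145⟩)) (.node 1 (.leaf ⟨217, 17059919, (some true), 229, 17651797⟩) (.leaf ⟨217, 19085399, (some true), 129, 14837851⟩)))
(.node 2 (.node 1 (.leaf ⟨217, 31801425, (some true), 374, 4941913⟩) (.leaf ⟨217, 25385043, (some true), 129, 21127249⟩)) (.node 1 (.leaf ⟨217, 32131155, (some true), 188, 23400525⟩) (.leaf ⟨217, 11495495, (some true), 129, 13510737⟩)))))
(.node 7 (.node 3 (.node 1 (.leaf ⟨217, 4544593, (some true), 188, 21526615⟩) (.node 1 (.leaf ⟨229, 32125001, (some false), 188, 27752531⟩) (.leaf ⟨229, 10971209, (some false), 129, 4874319⟩)))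
(.node 2 (.node 1 (.leaf ⟨229, 4808797, (some false), 229, 23670849⟩) (.leaf ⟨229, 23928925, (some false), 134, 4939843⟩)) (.node 1 (.leaf ⟨229, 29904967, (some false), 57, 25761869⟩) (.leaf ⟨229, 13310023, (some false), 229, 27482177⟩))))
(.node 4 (.node 2 (.node 1 (.leaf ⟨229, 13510735, (some false), 217, 8990815⟩) (.leaf ⟨229, 7292999, (some false), 229, 21766225⟩)) (.node 1 (.leaf ⟨229, 27529303, (some false), 71, 29505601⟩) (.leaf ⟨229, 19085399, (some false), 229, 19621957⟩)))
(.node 2 (.node 1 (.leaf ⟨229, 31801425, (some false), 134, 27529297⟩) (.leaf ⟨229, 9056345, (some false), 188, 14966879⟩)) (.node 1 (.leaf ⟨229, 6776923, (some false), 129, 15673411⟩) (.leaf ⟨229, 17043521, (some true), 229, 17068115⟩))))))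
(.node 15 (.node 7 (.node 3 (.node 1 (.leaf ⟨229, 32125001, (some true), 145, 28201043⟩) (.node 1 (.leaf ⟨229, 10971209, (some true), 145, 11485269⟩) (.leaf ⟨229, 4808797, (some true), 229, 6645841⟩)))
(.node 2 (.node 1 (.leaf ⟨229, 29904967, (some true), 280, 6828107⟩) (.leaf ⟨229, 13310023, (some true), 374, 11421791⟩)) (.node 1 (.leaf ⟨229, 13510735, (some true), 374, 19357773⟩) (.leaf ⟨229, 17059919, (some true), 217, 17643605⟩))))
(.node 4 (.node 2 (.node 1 (.leaf ⟨229, 19085399, (some true), 145, 27469911⟩) (.leaf ⟨229, 31801425, (some true), 229, 6635611⟩)) (.node 1 (.leaf ⟨229, 25385043, (some true), 129, 15407173⟩) (.leaf ⟨229, 32131155, (some true), 145, 27750475⟩)))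
(.node 2 (.node 1 (.leaf ⟨229, 11495495, (some true), 129, 15683663⟩) (.leaf ⟨229, 4544593, (some true), 280, 15497307⟩)) (.node 1 (.leaf ⟨280, 17043521, (some false), 374, 6705233⟩) (.leaf ⟨280, 32125001, (some false), 217, 21901391⟩)))))
(.node 8 (.node 4 (.node 2 (.node 1 (.leaf ⟨280, 10971209, (some false), 188, 32125003⟩) (.leaf ⟨280, 4808797, (some false), 280, 4814931⟩)) (.node 1 (.leaf ⟨280, 23928925, (some false), 145, 23607361⟩) (.leaf ⟨280, 29904967, (some false), 144, 9070667⟩)))
(.node 2 (.node 1 (.leaf ⟨280, 13310023, (some false), 374, 29904979⟩) (.leaf ⟨280, 13510735, (some false), 99, 15214659⟩)) (.node 1 (.leaf ⟨280, 7292999, (some false), 123, 32139333⟩) (.leaf ⟨280, 27529303, (some false), 129, 27881559⟩))))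
(.node 4 (.node 2 (.node 1 (.leaf ⟨280, 19085399, (some false), 99, 23492697⟩) (.leaf ⟨280, 31801425, (some false), 280, 8863821⟩)) (.node 1 (.leaf ⟨280, 9056345, (some false), 129, 11485255⟩) (.leaf ⟨280, 6776923, (some false), 92, 24004677⟩)))
(.node 2 (.node 1 (.leaf ⟨280, 17043521, (some true), 188, 6701151⟩) (.leaf ⟨280, 32125001, (some true), 113, 29904969⟩)) (.node 1 (.leaf ⟨280, 10971209, (some true), 579, 19017805⟩) (.leaf ⟨280, 4808797, (some true), 145, 7153731⟩)))))))
(.node 31 (.node 15 (.node 7 (.node 3 (.node 1 (.leaf ⟨280, 29904967, (some true), 280, 13111367⟩) (.node 1 (.leaf ⟨280, 13310023, (some true), 280, 32116805⟩) (.leaf ⟨280, 13510735, (some true), 92, 12937293⟩)))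
(.node 2 (.node 1 (.leaf ⟨280, 17059919, (some true), 129, 31801429⟩) (.leaf ⟨280, 19085399, (some true), 374, 24057933⟩)) (.node 1 (.leaf ⟨280, 31801425, (some true), 374, 28268613⟩) (.leaf ⟨280, 25385043, (some true), 374, 13127773⟩))))
(.node 4 (.node 2 (.node 1 (.leaf ⟨280, 32131155, (some true), 280, 15409219⟩) (.leaf ⟨280, 11495495, (some true), 188, 4540501⟩)) (.node 1 (.leaf ⟨280, 4544593, (some true), 229, 4995151⟩) (.leaf ⟨374, 17043521, (some false), 145, 31811671⟩)))
(.node 2 (.node 1 (.leaf ⟨374, 32125001, (some false), 280, 16932957⟩) (.leaf ⟨374, 10971209, (some false), 99, 25892937⟩)) (.node 1 (.leaf ⟨374, 4808797, (some false), 145, 11104323⟩) (.leaf ⟨374, 23928925, (some false), 374, 24064087⟩)))))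
(.node 8 (.node 4 (.node 2 (.node 1 (.leaf ⟨374, 29904967, (some false), 280, 14831683⟩) (.leaf ⟨374, 13310023, (some false), 144, 32051289⟩)) (.node 1 (.leaf ⟨374, 13510735, (some false), 188, 8863825⟩) (.leaf ⟨374, 7292999, (some false), 145, 21768287⟩)))
(.node 2 (.node 1 (.leaf ⟨374, 27529303, (some false), 126, 6772831⟩) (.leaf ⟨374, 19085399, (some false), 374, 5193811⟩)) (.node 1 (.leaf ⟨374, 31801425, (some false), 374, 19683417⟩) (.leaf ⟨374, 9056345, (some false), 113, 4733013⟩))))
(.node 4 (.node 2 (.node 1 (.leaf ⟨374, 6776923, (some false), 374, 23883865⟩) (.leaf ⟨374, 17043521, (some true), 374, 19746907⟩)) (.node 1 (.leaf ⟨374, 32125001, (some true), 374, 12867675⟩) (.leaf ⟨374, 10971209, (some true), 145, 25630791⟩)))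
(.node 2 (.node 1 (.leaf ⟨374, 4808797, (some true), 374, 6824005⟩) (.leaf ⟨374, 29904967, (some true), 280, 9318481⟩)) (.node 1 (.leaf ⟨374, 13310023, (some true), 280, 28258397⟩) (.leaf ⟨374, 13510735, (some true), 188, 6893659⟩))))))
(.node 15 (.node 7 (.node 3 (.node 1 (.leaf ⟨374, 19085399, (some true), 280, 31991875⟩) (.node 1 (.leaf ⟨374, 31801425, (some true), 144, 5003359⟩) (.leaf ⟨374, 32131155, (some true), 217, 13133913⟩)))
(.node 2 (.node 1 (.leaf ⟨374, 11495495, (some true), 229, 29569101⟩) (.leaf ⟨374, 4544593, (some true), 374, 15667267⟩)) (.node 1 (.leaf ⟨579, 17043521, (some false), 188, 4796499⟩) (.leaf ⟨579, 32125001, (some false), 188, 32067653⟩))))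
(.node 4 (.node 2 (.node 1 (.leaf ⟨579, 10971209, (some false), 145, 23951431⟩) (.leaf ⟨579, 4808797, (some false), 188, 11089997⟩)) (.node 1 (.leaf ⟨579, 23928925, (some false), 145, 30105665⟩) (.leaf ⟨579, 29904967, (some false), 145, 15411281⟩)))
(.node 2 (.node 1 (.leaf ⟨579, 13310023, (some false), 188, 4792415⟩) (.leaf ⟨579, 13510735, (some false), 145, 25311323⟩)) (.node 1 (.leaf ⟨579, 7292999, (some false), 188, 29972547⟩) (.leaf ⟨579, 31801425, (some false), 145, 21248079⟩)))))
(.node 8 (.node 4 (.node 2 (.node 1 (.leaf ⟨579, 9056345, (some false), 188, 15278163⟩) (.leaf ⟨579, 6776923, (some false), 145, 23470157⟩)) (.node 1 (.leaf ⟨579, 17043521, (some true), 188, 15294531⟩) (.leaf ⟨579, 32125001, (some true), 280, 19032153⟩)))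
(.node 2 (.node 1 (.leaf ⟨579, 10971209, (some true), 188, 23349331⟩) (.leaf ⟨579, 4808797, (some true), 188, 6889547⟩)) (.node 1 (.leaf ⟨579, 29904967, (some true), 188, 23930947⟩) (.leaf ⟨579, 13310023, (some true), 188, 6570057⟩))))
(.node 4 (.node 2 (.node 1 (.leaf ⟨579, 13510735, (some true), 188, 4540505⟩) (.leaf ⟨579, 17059919, (some true), 280, 11419729⟩)) (.node 1 (.leaf ⟨579, 19085399, (some true), 280, 10643531⟩) (.leaf ⟨579, 31801425, (some true), 280, 10709073⟩)))
(.node 2 (.node 1 (.leaf ⟨579, 25385043, (some true), 188, 4794449⟩) (.leaf ⟨579, 32131155, (some true), 280, 19540049⟩)) (.node 1 (.leaf ⟨579, 11495495, (some true), 280, 27404353⟩) (.leaf ⟨579, 4544593, (some true), 280, 26099785⟩)))))))))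

/-- The facts. -/
def caseCFullFactsRRRR : Tab Fct := .node 244 caseCFullFactsRRRRL caseCFullFactsRRRRR

/-- The facts. -/
def caseCFullFactsRRR : Tab Fct := .node 488 caseCFullFactsRRRL caseCFullFactsRRRR

/-- The facts. -/
def caseCFullFactsRR : Tab Fct := .node 977 caseCFullFactsRRL caseCFullFactsRRR

/-- The facts. -/
def caseCFullFactsR : Tab Fct := .node 1954 caseCFullFactsRL caseCFullFactsRR

/-- The facts. -/
def caseCFullFacts : Tab Fct := .node 3907 caseCFullFactsL caseCFullFactsR

/-- The reasons. -/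
def caseCFullSrcLLLLL : Tab Src :=
(.node 122 (.node 61 (.node 30 (.node 15 (.node 7 (.node 3 (.node 1 (.leaf .root) (.node 1 (.leaf .root) (.leaf .dfn)))
(.node 2 (.node 1 (.leaf (.mov 1 17043521 false [.edge 2 0 true])) (.leaf (.mov 0 6776923 false [.plain 0 31801425 true, .edge 2 0 false]))) (.node 1 (.leaf (.mov 0 17043521 false [.plain 0 23951451 true, .edge 4 524 false])) (.leaf (.mov 0 32125001 false [.plain 0 17043521 true, .edge 5 0 false])))))
(.node 4 (.node 2 (.node 1 (.leaf (.mov 0 4808797 false [.plain 0 32125001 true, .edge 6 0 false])) (.leaf (.mov 0 13510735 false [.plain 0 4808797 true, .edge 7 0 false]))) (.node 1 (.leaf (.mov 0 13310023 false [.plain 0 9205855 true, .edge 8 195 false])) (.leaf (.mov 0 7292999 false [.plain 1 21127235 true, .edge 8 760 false]))))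
(.node 2 (.node 1 (.leaf (.mov 0 9056345 false [.plain 0 7292999 true, .edge 10 0 false])) (.leaf (.mov 0 19085399 false [.plain 0 32202817 true, .edge 11 553 false]))) (.node 1 (.leaf (.mov 0 10971209 false [.plain 0 19099727 true, .edge 12 1406 false])) (.leaf (.mov 0 29904967 false [.plain 0 10971209 true, .edge 13 0 false]))))))
(.node 7 (.node 3 (.node 1 (.leaf (.mov 0 27529303 false [.plain 0 29904967 true, .edge 14 0 false])) (.node 1 (.leaf (.mov 0 23928925 false [.plain 0 29825107 true, .edge 15 1322 false])) (.leaf (.eqT 0 10971209 false [.plain 1 17043521 true, .edge 5 0 false] [.edge 13 0 false]))))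
(.node 2 (.node 1 (.leaf (.eqT 0 9056345 false [.plain 1 4550739 true, .edge 4 1114 false] [.edge 11 0 false])) (.leaf (.eqT 0 13510735 false [.plain 1 6766657 true, .edge 2 77 false] [.edge 8 0 false]))) (.node 1 (.leaf (.eq 1 17043521 [] [.plain 19 17260611 false])) (.leaf (.eq 1 17043521 [] [.plain 18 17766495 false])))))
(.node 4 (.node 2 (.node 1 (.leaf (.eq 1 17043521 [] [.plain 17 17700933 false])) (.leaf .dfn)) (.node 1 (.leaf .dfn) (.leaf (.mov 3 17043521 false [.edge 24 0 true]))))
(.node 2 (.node 1 (.leaf (.rel 0 21446743 0 [.edge 2 1336 false, .mul, .edge 23 996 false, .mul, .edge 24 300 false, .mul, .mul])) (.leaf (.eq 3 17043521 [] [.plain 26 19619911 true]))) (.node 1 (.leaf (.eqT 0 7292999 false [.plain 27 16935003 true, .edge 25 810 false] [.edge 10 0 false])) (.leaf (.eq 2 17043521 [] [.plain 28 19355715 false])))))))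
(.node 15 (.node 7 (.node 3 (.node 1 (.leaf .dfn) (.node 1 (.leaf (.mov 4 17043521 true [.edge 30 0 true])) (.leaf (.mov 0 4544593 true [.plain 0 17197149 true, .edge 30 982 false]))))
(.node 2 (.node 1 (.leaf (.mov 0 17043521 true [.plain 0 23951451 true, .edge 32 1354 false])) (.leaf (.mov 0 32125001 true [.plain 0 17043521 true, .edge 33 0 false]))) (.node 1 (.leaf (.mov 0 4808797 true [.plain 0 32125001 true, .edge 34 0 false])) (.leaf (.mov 0 13510735 true [.plain 0 4808797 true, .edge 35 0 false])))))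
(.node 4 (.node 2 (.node 1 (.leaf (.mov 0 25385043 true [.plain 0 13510735 true, .edge 36 0 false])) (.leaf (.mov 0 29904967 true [.plain 1 9384025 true, .edge 37 1478 false]))) (.node 1 (.leaf (.mov 0 17059919 true [.plain 0 7157845 true, .edge 38 264 false])) (.leaf (.mov 0 13310023 true [.plain 0 9205855 true, .edge 39 770 false]))))
(.node 2 (.node 1 (.leaf (.mov 0 31801425 true [.plain 0 13310023 true, .edge 40 0 false])) (.leaf (.mov 0 32131155 true [.plain 0 14968923 true, .edge 41 403 false]))) (.node 1 (.leaf (.mov 0 19085399 true [.plain 0 32202817 true, .edge 42 669 false])) (.leaf (.mov 0 10971209 true [.plain 0 19099727 true, .edge 43 14 false]))))))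
(.node 8 (.node 4 (.node 2 (.node 1 (.leaf (.eqT 0 10971209 true [.plain 1 17043521 true, .edge 33 0 false] [.edge 44 0 false])) (.leaf (.eqT 0 25385043 true [.plain 1 15562825 true, .edge 32 703 false] [.edge 37 0 false]))) (.node 1 (.leaf (.eqT 0 32125001 true [.plain 1 19802197 true, .edge 30 964 false] [.edge 34 0 false])) (.leaf (.eq 4 17043521 [] [.plain 47 27856979 false]))))
(.node 2 (.node 1 (.leaf (.eq 4 17043521 [] [.plain 46 27818051 false])) (.leaf (.eq 4 17043521 [] [.plain 45 8917075 false]))) (.node 1 (.leaf .dfn) (.leaf .dfn))))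
(.node 4 (.node 2 (.node 1 (.leaf (.mov 6 17043521 true [.edge 52 0 true])) (.leaf (.rel 0 10960991 1 [.edge 30 329 false, .mul, .edge 51 19 false, .mul, .edge 52 1171 false, .mul, .mul]))) (.node 1 (.leaf (.eq 6 17043521 [] [.plain 54 9263199 true])) (.leaf (.eqT 0 10971209 true [.plain 55 17651779 true, .edge 53 914 false] [.edge 44 0 false]))))
(.node 2 (.node 1 (.leaf (.eq 5 17043521 [] [.plain 56 17635421 false])) (.leaf .dfn)) (.node 1 (.leaf (.mov 7 17043521 false [.edge 58 0 true])) (.leaf (.mov 4 27529303 false [.plain 48 25759829 true, .edge 58 1528 false]))))))))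
(.node 30 (.node 15 (.node 7 (.node 3 (.node 1 (.leaf (.mov 4 29904967 false [.plain 48 31871045 true, .edge 60 943 false])) (.node 1 (.leaf (.mov 4 13510735 false [.plain 48 15214669 true, .edge 61 1139 false])) (.leaf (.mov 4 17043521 false [.plain 50 27594819 true, .edge 62 1509 false]))))
(.node 2 (.node 1 (.leaf (.mov 4 19085399 false [.plain 48 17446997 true, .edge 63 649 false])) (.leaf (.eqT 4 29904967 false [.plain 49 29823067 true, .edge 60 1319 false] [.edge 61 0 false]))) (.node 1 (.leaf (.eqT 4 19085399 false [.plain 50 23214165 true, .edge 60 212 false] [.edge 64 0 false])) (.leaf (.eqT 4 13510735 false [.plain 49 13195331 true, .edge 58 773 false] [.edge 62 0 false])))))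
(.node 4 (.node 2 (.node 1 (.leaf (.eqT 4 29904967 false [.plain 50 15290437 true, .edge 58 429 false] [.edge 61 0 false])) (.leaf (.eq 7 17043521 [] [.plain 68 16988247 false]))) (.node 1 (.leaf (.eq 7 17043521 [] [.plain 67 16939097 false])) (.leaf (.eq 7 17043521 [] [.plain 66 17715277 false]))))
(.node 2 (.node 1 (.leaf (.eq 7 17043521 [] [.plain 65 16939089 false])) (.leaf .dfn)) (.node 1 (.leaf (.mov 8 17043521 true [.edge 73 0 true])) (.leaf .dfn)))))
(.node 7 (.node 3 (.node 1 (.leaf (.mov 9 17043521 false [.edge 75 0 true])) (.node 1 (.leaf (.rel 0 31737951 3 [.edge 35 429 false, .edge 63 179 false, .mul, .edge 73 596 false, .mul, .edge 75 330 false, .mul])) (.leaf (.eq 9 17043521 [] [.plain 77 17594441 true]))))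
(.node 2 (.node 1 (.leaf (.eqT 0 7292999 false [.plain 78 17258575 true, .edge 76 381 false] [.edge 10 0 false])) (.leaf (.eq 8 17043521 [] [.plain 79 25768001 false]))) (.node 1 (.leaf (.mov 1 11495495 true [.plain 80 17659993 true, .edge 74 713 false])) (.leaf (.mov 1 17043521 true [.plain 20 17506375 true, .edge 81 662 false])))))
(.node 4 (.node 2 (.node 1 (.leaf (.mov 1 10971209 true [.plain 20 11090001 true, .edge 82 1126 false])) (.leaf (.mov 1 17059919 true [.plain 20 16982105 true, .edge 83 1434 false]))) (.node 1 (.leaf (.mov 1 25385043 true [.plain 21 25315417 true, .edge 83 162 false])) (.leaf (.mov 1 19085399 true [.plain 20 19863643 true, .edge 85 401 false]))))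
(.node 2 (.node 1 (.leaf .dfn) (.leaf .dfn)) (.node 1 (.leaf (.mov 11 17043521 true [.edge 88 0 true])) (.leaf .dfn))))))
(.node 15 (.node 7 (.node 3 (.node 1 (.leaf (.mov 12 17043521 false [.edge 90 0 true])) (.node 1 (.leaf (.rel 0 23619675 6 [.edge 41 798 false, .edge 62 943 false, .mul, .edge 87 125 false, .mul, .edge 88 717 false, .edge 90 1137 false, .mul])) (.leaf (.eq 12 17043521 [] [.plain 92 19030083 true]))))
(.node 2 (.node 1 (.leaf (.eqT 0 4808797 false [.plain 93 16916551 true, .edge 91 333 false] [.edge 7 0 false])) (.leaf (.eq 11 17043521 [] [.plain 94 19863629 false]))) (.node 1 (.leaf (.eqT 1 17043521 true [.plain 95 19140681 true, .edge 89 912 false] [.edge 82 0 false])) (.leaf (.eq 10 17043521 [] [.plain 96 19208283 false])))))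
(.node 4 (.node 2 (.node 1 (.leaf .dfn) (.leaf (.mov 13 17043521 true [.edge 98 0 true]))) (.node 1 (.leaf (.mov 7 17059919 true [.plain 70 17698911 true, .edge 98 1390 false])) (.leaf (.mov 7 17043521 true [.plain 72 17059927 true, .edge 100 1158 false]))))
(.node 2 (.node 1 (.leaf (.mov 7 25385043 true [.plain 70 25704523 true, .edge 101 635 false])) (.leaf (.eqT 7 25385043 true [.plain 69 26095697 true, .edge 102 1047 false] [.edge 102 0 false]))) (.node 1 (.leaf (.eqT 7 17043521 true [.plain 70 17190993 true, .edge 102 1285 false] [.edge 101 0 false])) (.leaf (.eqT 7 25385043 true [.plain 71 25317449 true, .edge 102 230 false] [.edge 102 0 false]))))))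
(.node 8 (.node 4 (.node 2 (.node 1 (.leaf (.eqT 7 17043521 true [.plain 71 17111123 true, .edge 101 1272 false] [.edge 101 0 false])) (.leaf (.eqT 7 19085399 true [.plain 71 19017799 true, .edge 98 301 false] [.edge 98 0 false]))) (.node 1 (.leaf (.eqT 7 25385043 true [.plain 72 25376863 true, .edge 98 1315 false] [.edge 102 0 false])) (.leaf (.eq 13 17043521 [] [.plain 108 8941635 false]))))
(.node 2 (.node 1 (.leaf (.eq 13 17043521 [] [.plain 107 17061955 false])) (.leaf (.eq 13 17043521 [] [.plain 106 19748947 false]))) (.node 1 (.leaf (.eq 13 17043521 [] [.plain 105 8943681 false])) (.leaf (.eq 13 17043521 [] [.plain 104 19222595 false])))))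
(.node 4 (.node 2 (.node 1 (.leaf (.eq 13 17043521 [] [.plain 103 8925267 false])) (.leaf .dfn)) (.node 1 (.leaf (.mov 14 17043521 true [.edge 115 0 true])) (.leaf .dfn)))
(.node 2 (.node 1 (.leaf (.mov 15 17043521 true [.edge 117 0 true])) (.leaf (.rel 0 6889539 7 [.edge 41 981 false, .edge 60 998 false, .edge 98 427 false, .mul, .edge 115 922 false, .mul, .edge 117 272 false, .mul]))) (.node 1 (.leaf (.eq 15 17043521 [] [.plain 119 27476059 true])) (.leaf (.eqT 0 17043521 true [.plain 120 19732553 true, .edge 118 65 false] [.edge 33 0 false])))))))))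
(.node 61 (.node 30 (.node 15 (.node 7 (.node 3 (.node 1 (.leaf (.eq 14 17043521 [] [.plain 121 23212127 false])) (.node 1 (.leaf (.mov 4 32125001 true [.plain 122 9009235 true, .edge 116 1011 false])) (.leaf (.mov 4 4544593 true [.plain 48 6772819 true, .edge 123 1145 false]))))
(.node 2 (.node 1 (.leaf (.mov 4 13510735 true [.plain 49 13195331 true, .edge 124 649 false])) (.leaf (.mov 4 4808797 true [.plain 48 7037023 true, .edge 125 101 false]))) (.node 1 (.leaf (.mov 4 31801425 true [.plain 49 32204879 true, .edge 125 270 false])) (.leaf (.mov 4 32131155 true [.plain 48 29706321 true, .edge 127 1176 false])))))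
(.node 4 (.node 2 (.node 1 (.leaf (.mov 4 10971209 true [.plain 50 6711371 true, .edge 128 1170 false])) (.leaf (.mov 4 25385043 true [.plain 49 26099787 true, .edge 129 1348 false]))) (.node 1 (.leaf (.mov 4 13310023 true [.plain 49 13385803 true, .edge 127 275 false])) (.leaf (.mov 4 29904967 true [.plain 48 31871045 true, .edge 131 1079 false]))))
(.node 2 (.node 1 (.leaf (.mov 4 19085399 true [.plain 50 23214165 true, .edge 131 527 false])) (.leaf (.mov 4 11495495 true [.plain 49 11210829 true, .edge 133 445 false]))) (.node 1 (.leaf (.eqT 4 25385043 true [.plain 50 29513809 true, .edge 123 439 false] [.edge 130 0 false])) (.leaf (.eq 13 17043521 [] [.plain 135 15274073 false]))))))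
(.node 7 (.node 3 (.node 1 (.leaf (.mov 13 10971209 true [.plain 136 8925251 true, .edge 99 1393 false])) (.node 1 (.leaf .dfn) (.leaf (.mov 16 17043521 false [.edge 138 0 true]))))
(.node 2 (.node 1 (.leaf (.mov 1 13310023 false [.plain 20 12867651 true, .edge 138 271 false])) (.leaf (.mov 1 31801425 false [.plain 21 31744087 true, .edge 140 727 false]))) (.node 1 (.leaf (.mov 1 29904967 false [.plain 20 29704273 true, .edge 141 520 false])) (.leaf (.mov 1 32125001 false [.plain 20 32002119 true, .edge 142 409 false])))))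
(.node 4 (.node 2 (.node 1 (.leaf (.mov 1 27529303 false [.plain 20 28188753 true, .edge 143 207 false])) (.leaf (.mov 1 13510735 false [.plain 21 13586519 true, .edge 144 1030 false]))) (.node 1 (.leaf (.mov 1 7292999 false [.plain 20 7043159 true, .edge 145 1179 false])) (.leaf (.mov 1 4808797 false [.plain 20 5195847 true, .edge 146 1259 false]))))
(.node 2 (.node 1 (.leaf (.mov 1 10971209 false [.plain 20 11090001 true, .edge 147 793 false])) (.leaf (.mov 1 23928925 false [.plain 22 23337031 true, .edge 148 1477 false]))) (.node 1 (.leaf (.mov 1 9056345 false [.plain 20 8605783 true, .edge 149 1125 false])) (.leaf (.eqT 1 4808797 false [.plain 21 4726865 true, .edge 142 934 false] [.edge 147 0 false])))))))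
(.node 15 (.node 7 (.node 3 (.node 1 (.leaf (.eqT 1 31801425 false [.plain 22 31987803 true, .edge 142 912 false] [.edge 141 0 false])) (.node 1 (.leaf (.eqT 1 23928925 false [.plain 21 23871579 true, .edge 141 1365 false] [.edge 149 0 false])) (.leaf (.eqT 1 32125001 false [.plain 21 32204877 true, .edge 138 1435 false] [.edge 143 0 false]))))
(.node 2 (.node 1 (.leaf (.eqT 1 29904967 false [.plain 22 30042199 true, .edge 138 1113 false] [.edge 142 0 false])) (.leaf (.eq 16 17043521 [] [.plain 155 16934997 false]))) (.node 1 (.leaf (.eq 16 17043521 [] [.plain 154 16998473 false])) (.leaf (.eq 16 17043521 [] [.plain 153 17569877 false])))))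
(.node 4 (.node 2 (.node 1 (.leaf (.eq 16 17043521 [] [.plain 152 17000541 false])) (.leaf (.eq 16 17043521 [] [.plain 151 17715281 false]))) (.node 1 (.leaf .dfn) (.leaf .dfn)))
(.node 2 (.node 1 (.leaf (.mov 18 17043521 false [.edge 162 0 true])) (.leaf (.rel 1 5058653 0 [.edge 138 287 false, .mul, .edge 161 998 false, .mul, .edge 162 1115 false, .mul, .mul]))) (.node 1 (.leaf (.eq 18 17043521 [] [.plain 164 19159119 true])) (.leaf (.eqT 1 9056345 false [.plain 165 16935003 true, .edge 163 810 false] [.edge 150 0 false]))))))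
(.node 8 (.node 4 (.node 2 (.node 1 (.leaf (.eq 17 17043521 [] [.plain 166 19355715 false])) (.leaf .dfn)) (.node 1 (.leaf .dfn) (.leaf (.mov 20 17043521 true [.edge 169 0 true]))))
(.node 2 (.node 1 (.leaf (.rel 1 27992139 1 [.edge 83 1130 false, .mul, .edge 168 229 false, .mul, .edge 169 583 false, .mul, .mul])) (.leaf (.eq 20 17043521 [] [.plain 171 27859031 true]))) (.node 1 (.leaf (.eqT 1 11495495 true [.plain 172 25440329 true, .edge 170 1482 false] [.edge 81 0 false])) (.leaf (.eq 19 17043521 [] [.plain 173 11087965 false])))))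
(.node 4 (.node 2 (.node 1 (.leaf .dfn) (.leaf (.mov 21 17043521 true [.edge 175 0 true]))) (.node 1 (.leaf (.mov 1 13310023 true [.plain 20 12867651 true, .edge 175 1260 false])) (.leaf (.mov 1 13510735 true [.plain 20 12742727 true, .edge 177 662 false]))))
(.node 2 (.node 1 (.leaf (.mov 1 4808797 true [.plain 20 5195847 true, .edge 178 1217 false])) (.leaf (.mov 1 31801425 true [.plain 21 31744087 true, .edge 179 27 false]))) (.node 1 (.leaf (.mov 1 29904967 true [.plain 20 29704273 true, .edge 180 8 false])) (.leaf (.mov 1 32125001 true [.plain 20 32002119 true, .edge 181 1004 false]))))))))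
(.node 30 (.node 15 (.node 7 (.node 3 (.node 1 (.leaf (.mov 1 32131155 true [.plain 20 31936579 true, .edge 182 299 false])) (.node 1 (.leaf (.eqT 1 4544593 true [.plain 21 4487243 true, .edge 175 379 false] [.edge 175 0 false])) (.leaf (.eqT 1 31801425 true [.plain 22 31987803 true, .edge 175 522 false] [.edge 180 0 false]))))
(.node 2 (.node 1 (.leaf (.eq 21 17043521 [] [.plain 185 25702481 false])) (.leaf (.eq 21 17043521 [] [.plain 184 9009225 false]))) (.node 1 (.leaf .dfn) (.leaf (.mov 22 17043521 false [.edge 188 0 true])))))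
(.node 4 (.node 2 (.node 1 (.leaf (.mov 21 29904967 false [.plain 186 15671381 true, .edge 188 183 false])) (.leaf (.mov 21 19085399 false [.plain 186 23621715 true, .edge 190 90 false]))) (.node 1 (.leaf (.mov 21 17043521 false [.plain 187 11038801 true, .edge 190 556 false])) (.leaf (.mov 21 27529303 false [.plain 186 17594461 true, .edge 192 56 false]))))
(.node 2 (.node 1 (.leaf (.mov 21 4808797 false [.plain 186 21196877 true, .edge 193 1387 false])) (.leaf (.eqT 21 13510735 false [.plain 187 31877187 true, .edge 193 1323 false] [.edge 188 0 false]))) (.node 1 (.leaf (.eqT 21 4808797 false [.plain 187 16922713 true, .edge 192 1148 false] [.edge 194 0 false])) (.leaf (.eqT 21 27529303 false [.plain 187 11360333 true, .edge 188 1245 false] [.edge 193 0 false]))))))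
(.node 7 (.node 3 (.node 1 (.leaf (.eq 22 17043521 [] [.plain 197 17528911 false])) (.node 1 (.leaf (.eq 22 17043521 [] [.plain 196 17705055 false])) (.leaf (.eq 22 17043521 [] [.plain 195 17070163 false]))))
(.node 2 (.node 1 (.leaf .dfn) (.leaf (.mov 23 17043521 true [.edge 201 0 true]))) (.node 1 (.leaf .dfn) (.leaf (.mov 24 17043521 false [.edge 203 0 true])))))
(.node 4 (.node 2 (.node 1 (.leaf (.rel 1 23672907 3 [.edge 175 992 false, .edge 193 316 false, .mul, .edge 201 1058 false, .mul, .edge 203 1364 false, .mul])) (.leaf (.eq 24 17043521 [] [.plain 205 17698911 true]))) (.node 1 (.leaf (.eqT 1 4808797 false [.plain 206 17127517 true, .edge 204 258 false] [.edge 147 0 false])) (.leaf (.eq 23 17043521 [] [.plain 207 17061961 false]))))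
(.node 2 (.node 1 (.leaf (.mov 16 17059919 true [.plain 208 17061971 true, .edge 202 1186 false])) (.leaf (.mov 16 17043521 true [.plain 156 17061967 true, .edge 209 12 false]))) (.node 1 (.leaf (.mov 16 19085399 true [.plain 160 19740747 true, .edge 210 736 false])) (.leaf (.mov 16 25385043 true [.plain 158 25374799 true, .edge 211 57 false])))))))
(.node 15 (.node 7 (.node 3 (.node 1 (.leaf .dfn) (.node 1 (.leaf .dfn) (.leaf (.mov 26 17043521 true [.edge 214 0 true]))))
(.node 2 (.node 1 (.leaf .dfn) (.leaf (.mov 27 17043521 false [.edge 216 0 true]))) (.node 1 (.leaf (.rel 1 6824031 6 [.edge 179 1414 false, .edge 192 1130 false, .mul, .edge 213 548 false, .mul, .edge 214 986 false, .edge 216 69 false, .mul])) (.leaf (.eq 27 17043521 [] [.plain 218 19880027 true])))))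
(.node 4 (.node 2 (.node 1 (.leaf (.eqT 1 4808797 false [.plain 219 17780831 true, .edge 217 407 false] [.edge 147 0 false])) (.leaf (.eq 26 17043521 [] [.plain 220 27662419 false]))) (.node 1 (.leaf (.eqT 16 19085399 true [.plain 221 9205843 true, .edge 215 1203 false] [.edge 211 0 false])) (.leaf (.eq 25 17043521 [] [.plain 222 16984145 false]))))
(.node 2 (.node 1 (.leaf .dfn) (.leaf (.mov 28 17043521 true [.edge 224 0 true]))) (.node 1 (.leaf (.mov 22 10971209 true [.plain 198 10645571 true, .edge 224 937 false])) (.leaf (.eqT 22 25385043 true [.plain 198 26159179 true, .edge 226 1414 false] [.edge 224 0 false]))))))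
(.node 8 (.node 4 (.node 2 (.node 1 (.leaf (.eqT 22 25385043 true [.plain 199 26101841 true, .edge 226 1439 false] [.edge 224 0 false])) (.leaf (.eqT 22 10971209 true [.plain 199 10704971 true, .edge 224 14 false] [.edge 226 0 false]))) (.node 1 (.leaf (.eqT 22 10971209 true [.plain 200 10973249 true, .edge 224 1430 false] [.edge 226 0 false])) (.leaf (.eq 28 17043521 [] [.plain 230 19673169 false]))))
(.node 2 (.node 1 (.leaf (.eq 28 17043521 [] [.plain 229 17641553 false])) (.leaf (.eq 28 17043521 [] [.plain 228 17051715 false]))) (.node 1 (.leaf (.eq 28 17043521 [] [.plain 227 27537481 false])) (.leaf .dfn))))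
(.node 4 (.node 2 (.node 1 (.leaf (.mov 29 17043521 true [.edge 235 0 true])) (.leaf .dfn)) (.node 1 (.leaf (.mov 30 17043521 true [.edge 237 0 true])) (.leaf (.rel 1 13377607 7 [.edge 179 1308 false, .edge 190 117 false, .edge 224 410 false, .mul, .edge 235 200 false, .mul, .edge 237 94 false, .mul]))))
(.node 2 (.node 1 (.leaf (.eq 30 17043521 [] [.plain 239 25305161 true])) (.leaf (.eqT 1 32125001 true [.plain 240 11087947 true, .edge 238 705 false] [.edge 182 0 false]))) (.node 1 (.leaf (.eq 29 17043521 [] [.plain 241 13451341 false])) (.leaf (.mov 21 13310023 true [.plain 242 17070155 true, .edge 236 1311 false]))))))))))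

/-- The reasons. -/
def caseCFullSrcLLLLR : Tab Src :=
(.node 122 (.node 61 (.node 30 (.node 15 (.node 7 (.node 3 (.node 1 (.leaf (.mov 21 4808797 true [.plain 186 21196877 true, .edge 243 465 false])) (.node 1 (.leaf (.mov 21 10971209 true [.plain 186 6570053 true, .edge 244 1211 false])) (.leaf (.mov 21 29904967 true [.plain 187 19816539 true, .edge 245 247 false]))))
(.node 2 (.node 1 (.leaf (.mov 21 25385043 true [.plain 186 30226519 true, .edge 246 1208 false])) (.leaf (.mov 21 13510735 true [.plain 186 19339345 true, .edge 247 159 false]))) (.node 1 (.leaf (.mov 21 32131155 true [.plain 187 24076365 true, .edge 248 354 false])) (.leaf (.mov 21 4544593 true [.plain 186 12798041 true, .edge 249 1375 false])))))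
(.node 4 (.node 2 (.node 1 (.leaf (.mov 21 19085399 true [.plain 186 23621715 true, .edge 250 451 false])) (.leaf (.mov 21 31801425 true [.plain 187 9375823 true, .edge 251 298 false]))) (.node 1 (.leaf (.mov 21 11495495 true [.plain 186 23347291 true, .edge 252 927 false])) (.leaf (.mov 21 32125001 true [.plain 186 9324639 true, .edge 253 1312 false]))))
(.node 2 (.node 1 (.leaf .dfn) (.leaf (.mov 31 17043521 true [.edge 255 0 true]))) (.node 1 (.leaf (.mov 22 11495495 true [.plain 198 11153485 true, .edge 255 1150 false])) (.leaf (.eqT 22 19085399 true [.plain 198 19554373 true, .edge 257 174 false] [.edge 255 0 false]))))))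
(.node 7 (.node 3 (.node 1 (.leaf (.eqT 22 19085399 true [.plain 199 19605589 true, .edge 257 399 false] [.edge 255 0 false])) (.node 1 (.leaf (.eqT 22 11495495 true [.plain 199 11212869 true, .edge 255 531 false] [.edge 257 0 false])) (.leaf (.eqT 22 11495495 true [.plain 200 11481167 true, .edge 255 1353 false] [.edge 257 0 false]))))
(.node 2 (.node 1 (.leaf (.eq 31 17043521 [] [.plain 261 25522257 false])) (.leaf (.eq 31 17043521 [] [.plain 260 27539539 false]))) (.node 1 (.leaf (.eq 31 17043521 [] [.plain 259 17061955 false])) (.leaf (.eq 31 17043521 [] [.plain 258 17649745 false])))))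
(.node 4 (.node 2 (.node 1 (.leaf .dfn) (.leaf (.mov 32 17043521 true [.edge 266 0 true]))) (.node 1 (.leaf .dfn) (.leaf (.mov 33 17043521 true [.edge 268 0 true]))))
(.node 2 (.node 1 (.leaf (.rel 1 21903443 7 [.edge 182 435 false, .edge 188 973 false, .edge 255 925 false, .mul, .edge 266 114 false, .mul, .edge 268 796 false, .mul])) (.leaf (.eq 33 17043521 [] [.plain 270 16918611 true]))) (.node 1 (.leaf (.eqT 1 25385043 true [.plain 271 19167315 true, .edge 269 160 false] [.edge 85 0 false])) (.leaf (.eq 32 17043521 [] [.plain 272 8812639 false])))))))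
(.node 15 (.node 7 (.node 3 (.node 1 (.leaf (.mov 7 29904967 true [.plain 273 17061971 true, .edge 267 1186 false])) (.node 1 (.leaf (.mov 7 13510735 true [.plain 69 13176909 true, .edge 274 654 false])) (.leaf (.mov 7 4544593 true [.plain 70 5130325 true, .edge 275 949 false]))))
(.node 2 (.node 1 (.leaf (.mov 7 32131155 true [.plain 69 31733841 true, .edge 276 944 false])) (.leaf (.mov 7 32125001 true [.plain 72 32131161 true, .edge 277 1207 false]))) (.node 1 (.leaf (.mov 7 31801425 true [.plain 69 32190547 true, .edge 278 1087 false])) (.leaf (.mov 7 13310023 true [.plain 70 13117515 true, .edge 279 1532 false])))))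
(.node 4 (.node 2 (.node 1 (.leaf (.mov 7 4808797 true [.plain 69 4880479 true, .edge 280 1485 false])) (.leaf (.eqT 7 31801425 true [.plain 72 31799389 true, .edge 274 89 false] [.edge 279 0 false]))) (.node 1 (.leaf (.eq 31 17043521 [] [.plain 282 19865677 false])) (.leaf (.mov 31 11495495 true [.plain 283 8941641 true, .edge 256 1373 false]))))
(.node 2 (.node 1 (.leaf .dfn) (.leaf (.mov 34 17043521 false [.edge 285 0 true]))) (.node 1 (.leaf (.mov 4 13310023 false [.plain 48 15538245 true, .edge 285 623 false])) (.leaf (.mov 4 9056345 false [.plain 48 11415643 true, .edge 287 932 false]))))))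
(.node 8 (.node 4 (.node 2 (.node 1 (.leaf (.mov 4 23928925 false [.plain 48 21373023 true, .edge 288 1168 false])) (.leaf (.mov 4 10971209 false [.plain 49 10702915 true, .edge 289 1490 false]))) (.node 1 (.leaf (.mov 4 32125001 false [.plain 48 29700171 true, .edge 290 63 false])) (.leaf (.mov 4 7292999 false [.plain 49 7155777 true, .edge 288 526 false]))))
(.node 2 (.node 1 (.leaf (.mov 4 31801425 false [.plain 49 32204879 true, .edge 285 1452 false])) (.leaf (.eqT 4 13310023 false [.plain 49 13385803 true, .edge 293 690 false] [.edge 287 0 false]))) (.node 1 (.leaf (.eqT 4 31801425 false [.plain 50 23347283 true, .edge 293 423 false] [.edge 293 0 false])) (.leaf (.eqT 4 32125001 false [.plain 50 9121867 true, .edge 285 779 false] [.edge 291 0 false])))))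
(.node 4 (.node 2 (.node 1 (.leaf (.eq 34 17043521 [] [.plain 296 17260633 false])) (.leaf (.eq 34 17043521 [] [.plain 295 17649755 false]))) (.node 1 (.leaf (.eq 34 17043521 [] [.plain 294 16984135 false])) (.leaf .dfn)))
(.node 2 (.node 1 (.leaf .dfn) (.leaf (.mov 36 17043521 false [.edge 301 0 true]))) (.node 1 (.leaf (.rel 4 10967133 0 [.edge 285 274 false, .mul, .edge 300 1506 false, .mul, .edge 301 886 false, .mul, .mul])) (.leaf (.eq 36 17043521 [] [.plain 303 19544139 true]))))))))
(.node 30 (.node 15 (.node 7 (.node 3 (.node 1 (.leaf (.eqT 4 9056345 false [.plain 304 16935003 true, .edge 302 810 false] [.edge 288 0 false])) (.node 1 (.leaf (.eq 35 17043521 [] [.plain 305 19355715 false])) (.leaf .dfn)))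
(.node 2 (.node 1 (.leaf .dfn) (.leaf (.mov 38 17043521 true [.edge 308 0 true]))) (.node 1 (.leaf (.rel 4 26171483 1 [.edge 130 1053 false, .mul, .edge 307 122 false, .mul, .edge 308 1530 false, .mul, .mul])) (.leaf (.eq 38 17043521 [] [.plain 310 19148871 true])))))
(.node 4 (.node 2 (.node 1 (.leaf (.eqT 4 19085399 true [.plain 311 25458779 true, .edge 309 834 false] [.edge 133 0 false])) (.leaf (.eq 37 17043521 [] [.plain 312 11079765 false]))) (.node 1 (.leaf .dfn) (.leaf (.mov 39 17043521 false [.edge 314 0 true]))))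
(.node 2 (.node 1 (.leaf (.mov 13 23928925 false [.plain 109 23949405 true, .edge 314 455 false])) (.leaf (.mov 13 13310023 false [.plain 111 13244489 true, .edge 316 1120 false]))) (.node 1 (.leaf (.mov 13 6776923 false [.plain 109 6781019 true, .edge 317 725 false])) (.leaf (.eqT 13 13310023 false [.plain 112 13314117 true, .edge 314 644 false] [.edge 317 0 false]))))))
(.node 7 (.node 3 (.node 1 (.leaf (.eqT 13 13310023 false [.plain 113 13373509 true, .edge 314 502 false] [.edge 317 0 false])) (.node 1 (.leaf (.eqT 13 6776923 false [.plain 114 6774877 true, .edge 314 1042 false] [.edge 318 0 false])) (.leaf (.eqT 13 13310023 false [.plain 136 15028299 true, .edge 314 1002 false] [.edge 317 0 false]))))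
(.node 2 (.node 1 (.leaf (.eq 39 17043521 [] [.plain 322 17195083 false])) (.leaf (.eq 39 17043521 [] [.plain 321 17528921 false]))) (.node 1 (.leaf (.eq 39 17043521 [] [.plain 320 17702999 false])) (.leaf (.eq 39 17043521 [] [.plain 319 17700939 false])))))
(.node 4 (.node 2 (.node 1 (.leaf .dfn) (.leaf (.mov 13 19085399 false [.plain 136 17698885 true, .edge 327 478 false]))) (.node 1 (.leaf .dfn) (.leaf (.mov 41 17043521 true [.edge 329 0 true]))))
(.node 2 (.node 1 (.leaf .dfn) (.leaf (.mov 42 17043521 false [.edge 331 0 true]))) (.node 1 (.leaf (.rel 4 6891589 3 [.edge 126 10 false, .edge 327 311 false, .mul, .edge 329 468 false, .mul, .edge 331 665 false, .mul])) (.leaf (.eq 42 17043521 [] [.plain 333 17258561 true])))))))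
(.node 15 (.node 7 (.node 3 (.node 1 (.leaf (.eqT 4 4808797 false [.plain 334 17191003 true, .edge 332 527 false] [.edge 58 0 false])) (.node 1 (.leaf (.eq 41 17043521 [] [.plain 335 17176651 false])) (.leaf (.eqT 7 25385043 true [.plain 336 25776195 true, .edge 330 1380 false] [.edge 102 0 false]))))
(.node 2 (.node 1 (.leaf (.eq 40 17043521 [] [.plain 337 25759837 false])) (.leaf .dfn)) (.node 1 (.leaf (.mov 43 17043521 true [.edge 339 0 true])) (.leaf .dfn))))
(.node 4 (.node 2 (.node 1 (.leaf (.mov 44 17043521 false [.edge 341 0 true])) (.leaf (.rel 4 23347291 3 [.edge 127 927 false, .edge 314 890 false, .mul, .edge 339 708 false, .mul, .edge 341 1369 false, .mul]))) (.node 1 (.leaf (.eq 44 17043521 [] [.plain 343 16918593 true])) (.leaf (.eqT 4 31801425 false [.plain 344 17246281 true, .edge 342 1117 false] [.edge 293 0 false]))))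
(.node 2 (.node 1 (.leaf (.eq 43 17043521 [] [.plain 345 19544129 false])) (.leaf (.mov 34 19085399 true [.plain 346 17133635 true, .edge 340 192 false]))) (.node 1 (.leaf (.mov 34 10971209 true [.plain 297 11210845 true, .edge 347 672 false])) (.leaf (.mov 34 17059919 true [.plain 297 17784915 true, .edge 348 1440 false]))))))
(.node 8 (.node 4 (.node 2 (.node 1 (.leaf (.mov 34 25385043 true [.plain 299 25442375 true, .edge 349 1199 false])) (.leaf (.mov 34 11495495 true [.plain 297 10702915 true, .edge 350 1335 false]))) (.node 1 (.leaf (.mov 34 17043521 true [.plain 297 17260621 true, .edge 351 712 false])) (.leaf .dfn)))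
(.node 2 (.node 1 (.leaf .dfn) (.leaf (.mov 46 17043521 true [.edge 354 0 true]))) (.node 1 (.leaf .dfn) (.leaf (.mov 47 17043521 false [.edge 356 0 true])))))
(.node 4 (.node 2 (.node 1 (.leaf (.rel 4 9324639 6 [.edge 134 1312 false, .edge 316 651 false, .mul, .edge 353 35 false, .mul, .edge 354 1384 false, .edge 356 702 false, .mul])) (.leaf (.eq 47 17043521 [] [.plain 358 19673167 true]))) (.node 1 (.leaf (.eqT 4 31801425 false [.plain 359 17244253 true, .edge 357 517 false] [.edge 293 0 false])) (.leaf (.eq 46 17043521 [] [.plain 360 9271381 false]))))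
(.node 2 (.node 1 (.leaf (.eqT 34 10971209 true [.plain 361 17133633 true, .edge 355 125 false] [.edge 348 0 false])) (.leaf (.eq 45 17043521 [] [.plain 362 13570141 false]))) (.node 1 (.leaf .dfn) (.leaf (.mov 13 17059919 true [.plain 136 19015775 true, .edge 364 242 false])))))))))
(.node 61 (.node 30 (.node 15 (.node 7 (.node 3 (.node 1 (.leaf .dfn) (.node 1 (.leaf (.mov 49 17043521 true [.edge 366 0 true])) (.leaf (.rel 4 17176669 7 [.edge 133 23 false, .edge 327 788 false, .plain 338 17197127 false, .edge 307 764 false, .plain 313 11014233 false, .mul, .edge 364 1393 false, .mul, .edge 366 270 false, .mul]))))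
(.node 2 (.node 1 (.leaf (.eq 49 17043521 [] [.plain 368 10709067 true])) (.leaf (.eqT 4 11495495 true [.plain 369 19140697 true, .edge 367 251 false] [.edge 134 0 false]))) (.node 1 (.leaf (.eq 48 17043521 [] [.plain 370 15345757 false])) (.leaf .dfn))))
(.node 4 (.node 2 (.node 1 (.leaf (.mov 50 17043521 true [.edge 372 0 true])) (.leaf (.mov 39 17059919 true [.plain 323 16916573 true, .edge 372 4 false]))) (.node 1 (.leaf (.mov 39 10971209 true [.plain 325 11352149 true, .edge 374 1147 false])) (.leaf (.mov 39 17043521 true [.plain 323 17440851 true, .edge 375 577 false]))))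
(.node 2 (.node 1 (.leaf (.eqT 39 11495495 true [.plain 324 11157581 true, .edge 372 1486 false] [.edge 372 0 false])) (.leaf (.eqT 39 17043521 true [.plain 325 16916575 true, .edge 372 126 false] [.edge 376 0 false]))) (.node 1 (.leaf (.eqT 39 10971209 true [.plain 326 10903645 true, .edge 372 804 false] [.edge 375 0 false])) (.leaf (.eq 50 17043521 [] [.plain 379 19206217 false]))))))
(.node 7 (.node 3 (.node 1 (.leaf (.eq 50 17043521 [] [.plain 378 25770067 false])) (.node 1 (.leaf (.eq 50 17043521 [] [.plain 377 8919107 false])) (.leaf .dfn)))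
(.node 2 (.node 1 (.leaf (.mov 51 17043521 true [.edge 383 0 true])) (.leaf .dfn)) (.node 1 (.leaf (.mov 52 17043521 true [.edge 385 0 true])) (.leaf (.rel 4 21893201 7 [.edge 123 724 false, .edge 314 177 false, .edge 372 705 false, .mul, .edge 383 1066 false, .mul, .edge 385 161 false, .mul])))))
(.node 4 (.node 2 (.node 1 (.leaf (.eq 52 17043521 [] [.plain 387 27674707 true])) (.leaf (.eqT 4 10971209 true [.plain 388 25507907 true, .edge 386 1254 false] [.edge 129 0 false]))) (.node 1 (.leaf (.eq 51 17043521 [] [.plain 389 19609669 false])) (.leaf (.mov 13 4808797 true [.plain 390 11016265 true, .edge 384 441 false]))))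
(.node 2 (.node 1 (.leaf (.mov 13 29904967 true [.plain 109 29894727 true, .edge 391 611 false])) (.leaf (.mov 13 4544593 true [.plain 111 4479063 true, .edge 392 1000 false]))) (.node 1 (.leaf (.mov 13 31801425 true [.plain 109 31797329 true, .edge 393 528 false])) (.leaf (.mov 13 32131155 true [.plain 113 31735889 true, .edge 394 939 false])))))))
(.node 15 (.node 7 (.node 3 (.node 1 (.leaf (.mov 13 32125001 true [.plain 109 32129097 true, .edge 395 863 false])) (.node 1 (.leaf (.mov 13 13310023 true [.plain 111 13244489 true, .edge 396 1386 false])) (.leaf (.mov 13 13510735 true [.plain 109 13504591 true, .edge 397 906 false]))))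
(.node 2 (.node 1 (.leaf (.eqT 13 4544593 true [.plain 136 6889557 true, .edge 391 1005 false] [.edge 393 0 false])) (.leaf (.eq 50 17043521 [] [.plain 399 30156873 false]))) (.node 1 (.leaf (.mov 50 32125001 true [.plain 400 27859019 true, .edge 373 70 false])) (.leaf .dfn))))
(.node 4 (.node 2 (.node 1 (.leaf (.mov 53 17043521 false [.edge 402 0 true])) (.leaf (.mov 7 27529303 false [.plain 70 27686989 true, .edge 402 847 false]))) (.node 1 (.leaf (.mov 7 29904967 false [.plain 69 29829189 true, .edge 404 900 false])) (.leaf (.mov 7 13310023 false [.plain 70 13117515 true, .edge 405 1434 false]))))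
(.node 2 (.node 1 (.leaf (.mov 7 13510735 false [.plain 70 13310019 true, .edge 406 440 false])) (.leaf (.mov 7 4808797 false [.plain 69 4880479 true, .edge 407 625 false]))) (.node 1 (.leaf (.mov 7 9056345 false [.plain 70 9179217 true, .edge 407 1473 false])) (.leaf (.mov 7 6776923 false [.plain 70 6975581 true, .edge 404 16 false]))))))
(.node 8 (.node 4 (.node 2 (.node 1 (.leaf (.eqT 7 13510735 false [.plain 71 13574209 true, .edge 404 1138 false] [.edge 407 0 false])) (.leaf (.eqT 7 23928925 false [.plain 71 23865417 true, .edge 402 987 false] [.edge 402 0 false]))) (.node 1 (.leaf (.eqT 7 6776923 false [.plain 72 6778949 true, .edge 402 74 false] [.edge 410 0 false])) (.leaf (.eq 53 17043521 [] [.plain 413 17191007 false]))))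
(.node 2 (.node 1 (.leaf (.eq 53 17043521 [] [.plain 412 17109063 false])) (.leaf (.eq 53 17043521 [] [.plain 411 17526877 false]))) (.node 1 (.leaf .dfn) (.leaf .dfn))))
(.node 4 (.node 2 (.node 1 (.leaf (.mov 55 17043521 false [.edge 418 0 true])) (.leaf (.rel 7 25827411 0 [.edge 402 1226 false, .mul, .edge 417 92 false, .mul, .edge 418 883 false, .mul, .mul]))) (.node 1 (.leaf (.eq 55 17043521 [] [.plain 420 19607621 true])) (.leaf (.eqT 7 13310023 false [.plain 421 17051739 true, .edge 419 1145 false] [.edge 406 0 false]))))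
(.node 2 (.node 1 (.leaf (.eq 54 17043521 [] [.plain 422 19740751 false])) (.leaf .dfn)) (.node 1 (.leaf (.mov 56 17043521 false [.edge 424 0 true])) (.leaf (.mov 31 19085399 false [.plain 283 17698893 true, .edge 424 726 false]))))))))
(.node 30 (.node 15 (.node 7 (.node 3 (.node 1 (.leaf .dfn) (.node 1 (.leaf (.mov 57 17043521 false [.edge 427 0 true])) (.leaf (.mov 13 13510735 false [.plain 111 13576257 true, .edge 427 986 false]))))
(.node 2 (.node 1 (.leaf (.mov 13 4808797 false [.plain 113 4876383 true, .edge 429 22 false])) (.leaf (.mov 13 29904967 false [.plain 111 29970521 true, .edge 430 1482 false]))) (.node 1 (.leaf (.mov 13 10971209 false [.plain 136 8925251 true, .edge 431 1427 false])) (.leaf (.mov 13 7292999 false [.plain 109 7297095 true, .edge 432 752 false])))))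
(.node 4 (.node 2 (.node 1 (.leaf (.mov 13 32125001 false [.plain 112 32131147 true, .edge 433 130 false])) (.leaf (.mov 13 31801425 false [.plain 109 31797329 true, .edge 434 1099 false]))) (.node 1 (.leaf (.eqT 13 32125001 false [.plain 113 31733835 true, .edge 432 1341 false] [.edge 434 0 false])) (.leaf (.eqT 13 27529303 false [.plain 112 27555925 true, .edge 427 1092 false] [.edge 427 0 false]))))
(.node 2 (.node 1 (.leaf (.eqT 13 27529303 false [.plain 114 27531341 true, .edge 427 1209 false] [.edge 427 0 false])) (.leaf (.eqT 13 31801425 false [.plain 136 29827151 true, .edge 427 620 false] [.edge 435 0 false]))) (.node 1 (.leaf (.eq 57 17043521 [] [.plain 439 17180761 false])) (.leaf (.eq 57 17043521 [] [.plain 438 17111119 false]))))))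
(.node 7 (.node 3 (.node 1 (.leaf (.eq 57 17043521 [] [.plain 437 17524829 false])) (.node 1 (.leaf (.eq 57 17043521 [] [.plain 436 17784925 false])) (.leaf .dfn)))
(.node 2 (.node 1 (.leaf (.mov 58 17043521 true [.edge 444 0 true])) (.leaf .dfn)) (.node 1 (.leaf (.mov 59 17043521 false [.edge 446 0 true])) (.leaf (.rel 7 8869963 3 [.edge 102 1163 false, .edge 427 1420 false, .mul, .edge 444 80 false, .mul, .edge 446 1050 false, .mul])))))
(.node 4 (.node 2 (.node 1 (.leaf (.eq 59 17043521 [] [.plain 448 17512533 true])) (.leaf (.eqT 7 9056345 false [.plain 449 17000537 true, .edge 447 229 false] [.edge 409 0 false]))) (.node 1 (.leaf (.eq 58 17043521 [] [.plain 450 19796049 false])) (.leaf (.mov 53 11495495 true [.plain 451 9179201 true, .edge 445 1014 false]))))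
(.node 2 (.node 1 (.leaf (.mov 53 10971209 true [.plain 414 11487327 true, .edge 452 18 false])) (.leaf .dfn)) (.node 1 (.leaf (.mov 60 17043521 true [.edge 454 0 true])) (.leaf (.mov 16 10971209 true [.plain 156 10963039 true, .edge 454 632 false])))))))
(.node 15 (.node 7 (.node 3 (.node 1 (.leaf (.eqT 16 10971209 true [.plain 159 10643539 true, .edge 456 1281 false] [.edge 456 0 false])) (.node 1 (.leaf (.eqT 16 10971209 true [.plain 160 11495513 true, .edge 456 363 false] [.edge 456 0 false])) (.leaf (.eqT 16 11495495 true [.plain 157 11429957 true, .edge 454 8 false] [.edge 454 0 false]))))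
(.node 2 (.node 1 (.leaf (.eqT 16 10971209 true [.plain 158 10963023 true, .edge 454 1438 false] [.edge 456 0 false])) (.leaf (.eqT 16 11495495 true [.plain 159 11167837 true, .edge 454 621 false] [.edge 454 0 false]))) (.node 1 (.leaf (.eqT 16 11495495 true [.plain 160 10971223 true, .edge 454 1190 false] [.edge 454 0 false])) (.leaf (.eq 60 17043521 [] [.plain 462 17043537 false])))))
(.node 4 (.node 2 (.node 1 (.leaf (.eq 60 17043521 [] [.plain 461 17059929 false])) (.leaf (.eq 60 17043521 [] [.plain 460 11087945 false]))) (.node 1 (.leaf (.eq 60 17043521 [] [.plain 459 17043523 false])) (.leaf (.eq 60 17043521 [] [.plain 458 11087939 false]))))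
(.node 2 (.node 1 (.leaf (.eq 60 17043521 [] [.plain 457 11096145 false])) (.leaf .dfn)) (.node 1 (.leaf (.mov 61 17043521 false [.edge 469 0 true])) (.leaf (.rel 7 10897485 3 [.edge 73 732 false, .plain 80 11098193 false, .edge 146 160 false, .mul, .edge 454 329 false, .mul, .edge 469 653 false, .mul]))))))
(.node 8 (.node 4 (.node 2 (.node 1 (.leaf (.eq 61 17043521 [] [.plain 471 17125449 true])) (.leaf (.mov 7 7292999 false [.plain 472 16984159 true, .edge 470 1368 false]))) (.node 1 (.leaf (.mov 7 10971209 false [.plain 69 10700875 true, .edge 473 475 false])) (.leaf (.mov 7 31801425 false [.plain 70 32323663 true, .edge 474 1192 false]))))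
(.node 2 (.node 1 (.leaf (.mov 7 32125001 false [.plain 69 31735883 true, .edge 475 679 false])) (.leaf .dfn)) (.node 1 (.leaf (.mov 62 17043521 false [.edge 477 0 true])) (.leaf (.mov 31 6776923 false [.plain 262 6645849 true, .edge 477 734 false])))))
(.node 4 (.node 2 (.node 1 (.leaf (.mov 31 9056345 false [.plain 265 9375825 true, .edge 479 346 false])) (.leaf (.mov 31 23928925 false [.plain 262 23535711 true, .edge 480 582 false]))) (.node 1 (.leaf (.eqT 31 6776923 false [.plain 264 6781017 true, .edge 477 811 false] [.edge 479 0 false])) (.leaf (.eqT 31 6776923 false [.plain 283 5124169 true, .edge 477 1340 false] [.edge 479 0 false]))))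
(.node 2 (.node 1 (.leaf (.eq 62 17043521 [] [.plain 483 17459289 false])) (.leaf (.eq 62 17043521 [] [.plain 482 16984153 false]))) (.node 1 (.leaf .dfn) (.leaf (.mov 63 17043521 true [.edge 486 0 true]))))))))))

/-- The reasons. -/
def caseCFullSrcLLLL : Tab Src := .node 244 caseCFullSrcLLLLL caseCFullSrcLLLLR

/-- The reasons. -/
def caseCFullSrcLLLRL : Tab Src :=
(.node 122 (.node 61 (.node 30 (.node 15 (.node 7 (.node 3 (.node 1 (.leaf (.mov 62 25385043 true [.plain 484 26165325 true, .edge 486 808 false])) (.node 1 (.leaf .dfn) (.leaf (.mov 64 17043521 true [.edge 489 0 true]))))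
(.node 2 (.node 1 (.leaf .dfn) (.leaf (.mov 65 17043521 true [.edge 491 0 true]))) (.node 1 (.leaf (.rel 7 6975583 7 [.edge 280 1054 false, .edge 477 172 false, .edge 486 432 false, .mul, .edge 489 54 false, .mul, .edge 491 72 false, .mul])) (.leaf (.eq 65 17043521 [] [.plain 493 28000323 true])))))
(.node 4 (.node 2 (.node 1 (.leaf (.eqT 7 17059919 true [.plain 494 19214427 true, .edge 492 1304 false] [.edge 100 0 false])) (.leaf (.eq 64 17043521 [] [.plain 495 21854287 false]))) (.node 1 (.leaf (.eqT 13 13510735 true [.plain 496 9246801 true, .edge 490 959 false] [.edge 398 0 false])) (.leaf (.eq 63 17043521 [] [.plain 497 27738177 false]))))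
(.node 2 (.node 1 (.leaf (.mov 50 29904967 true [.plain 498 9007171 true, .edge 487 1139 false])) (.leaf (.mov 50 4808797 true [.plain 381 4798557 true, .edge 499 758 false]))) (.node 1 (.leaf (.mov 50 11495495 true [.plain 382 31809605 true, .edge 500 1456 false])) (.leaf (.mov 50 19085399 true [.plain 381 19097687 true, .edge 501 1373 false]))))))
(.node 7 (.node 3 (.node 1 (.leaf .dfn) (.node 1 (.leaf .dfn) (.leaf (.mov 67 17043521 false [.edge 504 0 true]))))
(.node 2 (.node 1 (.leaf (.rel 13 21827663 0 [.edge 432 158 false, .mul, .edge 503 1104 false, .mul, .edge 504 1302 false, .mul, .mul])) (.leaf (.eq 67 17043521 [] [.plain 506 19019855 true]))) (.node 1 (.leaf (.eqT 13 32125001 false [.plain 507 17109071 true, .edge 505 671 false] [.edge 434 0 false])) (.leaf (.eq 66 17043521 [] [.plain 508 19802199 false])))))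
(.node 4 (.node 2 (.node 1 (.leaf .dfn) (.leaf .dfn)) (.node 1 (.leaf (.mov 69 17043521 true [.edge 511 0 true])) (.leaf (.rel 13 13373533 1 [.edge 392 1007 false, .mul, .edge 510 571 false, .mul, .edge 511 760 false, .mul, .mul]))))
(.node 2 (.node 1 (.leaf (.eq 69 17043521 [] [.plain 513 8984669 true])) (.leaf (.eqT 13 4544593 true [.plain 514 17584209 true, .edge 512 1045 false] [.edge 393 0 false]))) (.node 1 (.leaf (.eq 68 17043521 [] [.plain 515 17569869 false])) (.leaf .dfn))))))
(.node 15 (.node 7 (.node 3 (.node 1 (.leaf (.mov 50 27529303 false [.plain 400 15685717 true, .edge 517 1458 false])) (.node 1 (.leaf .dfn) (.leaf (.mov 71 17043521 false [.edge 519 0 true]))))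
(.node 2 (.node 1 (.leaf (.mov 50 9056345 false [.plain 381 9060441 true, .edge 519 1180 false])) (.leaf (.mov 50 6776923 false [.plain 382 14901337 true, .edge 521 1266 false]))) (.node 1 (.leaf (.mov 50 7292999 false [.plain 381 7284807 true, .edge 522 610 false])) (.leaf (.eqT 50 7292999 false [.plain 400 15345733 true, .edge 521 899 false] [.edge 523 0 false])))))
(.node 4 (.node 2 (.node 1 (.leaf (.eqT 50 9056345 false [.plain 400 27410523 true, .edge 519 419 false] [.edge 521 0 false])) (.leaf (.eq 71 17043521 [] [.plain 525 17463387 false]))) (.node 1 (.leaf (.eq 71 17043521 [] [.plain 524 17578063 false])) (.leaf .dfn)))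
(.node 2 (.node 1 (.leaf (.mov 72 17043521 true [.edge 528 0 true])) (.leaf .dfn)) (.node 1 (.leaf (.mov 73 17043521 false [.edge 530 0 true])) (.leaf (.rel 13 21968983 3 [.edge 397 196 false, .edge 518 307 false, .mul, .edge 528 1160 false, .mul, .edge 530 1158 false, .mul]))))))
(.node 8 (.node 4 (.node 2 (.node 1 (.leaf (.eq 73 17043521 [] [.plain 532 17461321 true])) (.leaf (.eqT 13 13310023 false [.plain 533 16916557 true, .edge 531 731 false] [.edge 317 0 false]))) (.node 1 (.leaf (.eq 72 17043521 [] [.plain 534 10901587 false])) (.leaf (.eqT 39 17059919 true [.plain 535 9009233 true, .edge 529 149 false] [.edge 374 0 false]))))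
(.node 2 (.node 1 (.leaf (.eq 70 17043521 [] [.plain 536 17782849 false])) (.leaf .dfn)) (.node 1 (.leaf .dfn) (.leaf (.mov 75 17043521 true [.edge 539 0 true])))))
(.node 4 (.node 2 (.node 1 (.leaf .dfn) (.leaf (.mov 76 17043521 false [.edge 541 0 true]))) (.node 1 (.leaf (.rel 13 23668819 6 [.edge 394 1228 false, .edge 522 972 false, .mul, .edge 538 804 false, .mul, .edge 539 2 false, .edge 541 309 false, .mul])) (.leaf (.eq 76 17043521 [] [.plain 543 19095639 true]))))
(.node 2 (.node 1 (.leaf (.eqT 13 29904967 false [.plain 544 17715281 true, .edge 542 1249 false] [.edge 431 0 false])) (.leaf (.eq 75 17043521 [] [.plain 545 19554377 false]))) (.node 1 (.leaf (.mov 57 10971209 true [.plain 546 9261147 true, .edge 540 253 false])) (.leaf (.mov 57 11495495 true [.plain 441 11427905 true, .edge 547 481 false]))))))))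
(.node 30 (.node 15 (.node 7 (.node 3 (.node 1 (.leaf (.mov 57 17043521 true [.plain 442 17524829 true, .edge 548 823 false])) (.node 1 (.leaf (.mov 57 17059919 true [.plain 441 17127505 true, .edge 549 314 false])) (.leaf .dfn)))
(.node 2 (.node 1 (.leaf .dfn) (.leaf (.mov 78 17043521 true [.edge 552 0 true]))) (.node 1 (.leaf .dfn) (.leaf (.mov 79 17043521 true [.edge 554 0 true])))))
(.node 4 (.node 2 (.node 1 (.leaf (.rel 13 14905439 7 [.edge 397 544 false, .edge 519 1097 false, .edge 551 1205 false, .mul, .edge 552 1416 false, .mul, .edge 554 1007 false, .mul])) (.leaf (.eq 79 17043521 [] [.plain 556 10960977 true]))) (.node 1 (.leaf (.eqT 13 29904967 true [.plain 557 19142723 true, .edge 555 394 false] [.edge 392 0 false])) (.leaf (.eq 78 17043521 [] [.plain 558 15687775 false]))))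
(.node 2 (.node 1 (.leaf (.mov 50 10971209 true [.plain 559 25450561 true, .edge 553 444 false])) (.leaf (.mov 50 25385043 true [.plain 381 25370707 true, .edge 560 755 false]))) (.node 1 (.leaf (.mov 50 4544593 true [.plain 382 10637395 true, .edge 561 47 false])) (.leaf (.mov 50 31801425 true [.plain 381 31789137 true, .edge 562 1517 false]))))))
(.node 7 (.node 3 (.node 1 (.leaf .dfn) (.node 1 (.leaf (.mov 80 17043521 true [.edge 564 0 true])) (.leaf .dfn)))
(.node 2 (.node 1 (.leaf (.mov 81 17043521 true [.edge 566 0 true])) (.leaf .dfn)) (.node 1 (.leaf (.mov 82 17043521 true [.edge 568 0 true])) (.leaf (.rel 13 21588061 7 [.edge 391 1028 false, .edge 521 212 false, .edge 564 795 false, .mul, .edge 566 777 false, .mul, .edge 568 869 false, .mul])))))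
(.node 4 (.node 2 (.node 1 (.leaf (.eq 82 17043521 [] [.plain 570 17770577 true])) (.leaf (.eqT 13 17059919 true [.plain 571 11284553 true, .edge 569 128 false] [.edge 365 0 false]))) (.node 1 (.leaf (.eq 81 27922519 [] [.plain 572 17043521 false, .plain 371 11294787 false])) (.leaf (.eq 81 17043521 [] [.plain 573 13570123 false]))))
(.node 2 (.node 1 (.leaf (.eqT 13 13510735 true [.plain 574 17043539 true, .edge 567 71 false] [.edge 398 0 false])) (.leaf (.eq 80 17043521 [] [.plain 575 10969173 false]))) (.node 1 (.leaf (.eqT 50 4544593 true [.plain 576 9263187 true, .edge 565 1151 false] [.edge 562 0 false])) (.leaf (.eq 77 17043521 [] [.plain 577 15229015 true])))))))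
(.node 15 (.node 7 (.node 3 (.node 1 (.leaf .dfn) (.node 1 (.leaf (.mov 16 31801425 false [.plain 156 31797321 true, .edge 579 1304 false])) (.leaf (.eqT 16 31801425 false [.plain 159 32129089 true, .edge 580 1505 false] [.edge 580 0 false]))))
(.node 2 (.node 1 (.leaf (.eqT 16 31801425 false [.plain 160 31604831 true, .edge 580 1226 false] [.edge 580 0 false])) (.leaf (.eqT 16 32125001 false [.plain 157 32190539 true, .edge 579 458 false] [.edge 579 0 false]))) (.node 1 (.leaf (.eqT 16 31801425 false [.plain 158 31797319 true, .edge 579 1505 false] [.edge 580 0 false])) (.leaf (.eqT 16 32125001 false [.plain 159 31797317 true, .edge 579 1513 false] [.edge 579 0 false])))))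
(.node 4 (.node 2 (.node 1 (.leaf (.eqT 16 32125001 false [.plain 160 31666267 true, .edge 579 245 false] [.edge 579 0 false])) (.leaf (.eq 83 17043521 [] [.plain 586 17061953 false]))) (.node 1 (.leaf (.eq 83 17043521 [] [.plain 585 17053761 false])) (.leaf (.eq 83 17043521 [] [.plain 584 17053777 false]))))
(.node 2 (.node 1 (.leaf (.eq 83 17043521 [] [.plain 583 17059905 false])) (.leaf (.eq 83 17043521 [] [.plain 582 17045571 false]))) (.node 1 (.leaf (.eq 83 17043521 [] [.plain 581 17061979 false])) (.leaf .dfn)))))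
(.node 8 (.node 4 (.node 2 (.node 1 (.leaf (.mov 84 17043521 false [.edge 593 0 true])) (.leaf (.eqT 83 19085399 false [.plain 588 19081303 true, .edge 593 330 false] [.edge 593 0 false]))) (.node 1 (.leaf (.eqT 83 19085399 false [.plain 589 19101761 true, .edge 593 1515 false] [.edge 593 0 false])) (.leaf (.eqT 83 19085399 false [.plain 590 19099735 true, .edge 593 71 false] [.edge 593 0 false]))))
(.node 2 (.node 1 (.leaf (.eqT 83 19085399 false [.plain 591 19095633 true, .edge 593 570 false] [.edge 593 0 false])) (.leaf (.eq 84 17043521 [] [.plain 598 17240151 false]))) (.node 1 (.leaf (.eq 84 17043521 [] [.plain 597 17633345 false])) (.leaf (.eq 84 17043521 [] [.plain 596 17567815 false])))))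
(.node 4 (.node 2 (.node 1 (.leaf (.eq 84 17043521 [] [.plain 595 17240147 false])) (.leaf .dfn)) (.node 1 (.leaf (.mov 85 17043521 false [.edge 603 0 true])) (.leaf (.rel 16 4675677 0 [.edge 579 1077 false, .mul, .edge 593 233 false, .mul, .edge 603 1428 false, .mul, .mul]))))
(.node 2 (.node 1 (.leaf (.eq 85 17043521 [] [.plain 605 19343429 true])) (.leaf (.mov 16 10971209 false [.plain 606 17051739 true, .edge 604 1145 false]))) (.node 1 (.leaf (.mov 16 7292999 false [.plain 156 7297097 true, .edge 607 118 false])) (.leaf .dfn))))))))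
(.node 61 (.node 30 (.node 15 (.node 7 (.node 3 (.node 1 (.leaf (.mov 86 17043521 false [.edge 609 0 true])) (.node 1 (.leaf (.mov 16 4808797 false [.plain 157 4743263 true, .edge 609 567 false])) (.leaf (.mov 16 27529303 false [.plain 159 27856979 true, .edge 611 1097 false]))))
(.node 2 (.node 1 (.leaf (.mov 16 13510735 false [.plain 157 13576269 true, .edge 612 793 false])) (.leaf (.mov 16 13310023 false [.plain 160 13506637 true, .edge 613 1225 false]))) (.node 1 (.leaf (.mov 16 6776923 false [.plain 156 6781005 true, .edge 614 373 false])) (.leaf (.mov 16 9056345 false [.plain 157 9121883 true, .edge 615 514 false])))))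
(.node 4 (.node 2 (.node 1 (.leaf (.mov 16 23928925 false [.plain 156 23949389 true, .edge 616 832 false])) (.leaf (.eqT 16 23928925 false [.plain 160 23208003 true, .edge 612 87 false] [.edge 617 0 false]))) (.node 1 (.leaf (.eqT 16 29904967 false [.plain 158 29894729 true, .edge 609 1505 false] [.edge 609 0 false])) (.leaf (.eqT 16 9056345 false [.plain 160 8925277 true, .edge 609 1405 false] [.edge 616 0 false]))))
(.node 2 (.node 1 (.leaf (.eq 86 17043521 [] [.plain 620 17461329 false])) (.leaf (.eq 86 17043521 [] [.plain 619 17053777 false]))) (.node 1 (.leaf (.eq 86 17043521 [] [.plain 618 17705043 false])) (.leaf .dfn)))))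
(.node 7 (.node 3 (.node 1 (.leaf .dfn) (.node 1 (.leaf (.mov 88 17043521 false [.edge 625 0 true])) (.leaf (.rel 16 25696347 0 [.edge 609 446 false, .mul, .edge 624 811 false, .mul, .edge 625 1004 false, .mul, .mul]))))
(.node 2 (.node 1 (.leaf (.eq 88 17043521 [] [.plain 627 19730497 true])) (.leaf (.eqT 16 4808797 false [.plain 628 16935003 true, .edge 626 810 false] [.edge 611 0 false]))) (.node 1 (.leaf (.eq 87 17043521 [] [.plain 629 19355715 false])) (.leaf .dfn))))
(.node 4 (.node 2 (.node 1 (.leaf (.mov 16 4544593 true [.plain 156 4538447 true, .edge 631 866 false])) (.leaf (.mov 16 31801425 true [.plain 156 31797321 true, .edge 632 869 false]))) (.node 1 (.leaf (.mov 16 29904967 true [.plain 156 29894721 true, .edge 633 280 false])) (.leaf (.mov 16 32125001 true [.plain 159 31797317 true, .edge 634 1413 false]))))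
(.node 2 (.node 1 (.leaf (.mov 16 13510735 true [.plain 156 13504603 true, .edge 635 982 false])) (.leaf (.mov 16 13310023 true [.plain 156 13312085 true, .edge 636 945 false]))) (.node 1 (.leaf (.mov 16 32131155 true [.plain 156 32127063 true, .edge 637 918 false])) (.leaf (.eqT 16 4808797 true [.plain 157 4743263 true, .edge 631 974 false] [.edge 631 0 false])))))))
(.node 15 (.node 7 (.node 3 (.node 1 (.leaf (.eqT 16 4544593 true [.plain 158 4538461 true, .edge 631 55 false] [.edge 632 0 false])) (.node 1 (.leaf (.eqT 16 13510735 true [.plain 159 13117509 true, .edge 631 490 false] [.edge 636 0 false])) (.leaf (.eqT 16 32131155 true [.plain 160 32262239 true, .edge 631 706 false] [.edge 638 0 false]))))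
(.node 2 (.node 1 (.leaf (.eq 89 17043521 [] [.plain 642 8933459 false])) (.leaf (.eq 89 17043521 [] [.plain 641 19689553 false]))) (.node 1 (.leaf (.eq 89 17043521 [] [.plain 640 11292763 false])) (.leaf (.eq 89 17043521 [] [.plain 639 19150923 false])))))
(.node 4 (.node 2 (.node 1 (.leaf .dfn) (.leaf (.mov 92 17043521 false [.edge 647 0 true]))) (.node 1 (.leaf (.mov 89 27529303 false [.plain 643 17045599 true, .edge 647 40 false])) (.leaf (.mov 89 13510735 false [.plain 646 15618129 true, .edge 649 755 false]))))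
(.node 2 (.node 1 (.leaf (.mov 89 19085399 false [.plain 643 23277649 true, .edge 650 96 false])) (.leaf (.eqT 89 17043521 false [.plain 644 17045569 true, .edge 647 520 false] [.edge 647 0 false]))) (.node 1 (.leaf (.eqT 89 17043521 false [.plain 645 17051713 true, .edge 647 931 false] [.edge 647 0 false])) (.leaf (.eq 92 17043521 [] [.plain 653 17524819 false]))))))
(.node 8 (.node 4 (.node 2 (.node 1 (.leaf (.eq 92 17043521 [] [.plain 652 17584193 false])) (.leaf .dfn)) (.node 1 (.leaf (.mov 93 17043521 false [.edge 656 0 true])) (.leaf (.mov 22 27529303 false [.plain 198 27873357 true, .edge 656 1137 false]))))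
(.node 2 (.node 1 (.leaf (.mov 22 29904967 false [.plain 199 29825093 true, .edge 658 1078 false])) (.leaf (.mov 22 13510735 false [.plain 198 13131843 true, .edge 659 435 false]))) (.node 1 (.leaf (.eqT 22 27529303 false [.plain 200 27545679 true, .edge 658 871 false] [.edge 658 0 false])) (.leaf (.eqT 22 13510735 false [.plain 199 13193293 true, .edge 656 207 false] [.edge 660 0 false])))))
(.node 4 (.node 2 (.node 1 (.leaf (.eqT 22 4808797 false [.plain 200 4796507 true, .edge 656 1192 false] [.edge 656 0 false])) (.leaf (.eq 93 17043521 [] [.plain 663 17174593 false]))) (.node 1 (.leaf (.eq 93 17043521 [] [.plain 662 16937039 false])) (.leaf (.eq 93 17043521 [] [.plain 661 17117253 false]))))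
(.node 2 (.node 1 (.leaf .dfn) (.leaf (.mov 94 17043521 true [.edge 667 0 true]))) (.node 1 (.leaf .dfn) (.leaf (.mov 95 17043521 false [.edge 669 0 true]))))))))
(.node 30 (.node 15 (.node 7 (.node 3 (.node 1 (.leaf (.rel 16 11145293 3 [.edge 211 67 false, .edge 656 298 false, .mul, .edge 667 930 false, .mul, .edge 669 1346 false, .mul])) (.node 1 (.leaf (.eq 95 17043521 [] [.plain 671 17045577 true])) (.leaf (.eqT 16 13310023 false [.plain 672 17240129 true, .edge 670 1312 false] [.edge 614 0 false]))))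
(.node 2 (.node 1 (.leaf (.eq 94 17043521 [] [.plain 673 25768009 false])) (.leaf (.mov 86 17043521 true [.plain 674 9203779 true, .edge 668 667 false]))) (.node 1 (.leaf (.mov 86 17059919 true [.plain 621 17659987 true, .edge 675 1416 false])) (.leaf .dfn))))
(.node 4 (.node 2 (.node 1 (.leaf .dfn) (.leaf (.mov 97 17043521 true [.edge 678 0 true]))) (.node 1 (.leaf .dfn) (.leaf (.mov 98 17043521 false [.edge 680 0 true]))))
(.node 2 (.node 1 (.leaf (.rel 16 27662413 6 [.edge 211 846 false, .edge 658 144 false, .mul, .edge 677 1298 false, .mul, .edge 678 904 false, .edge 680 796 false, .mul])) (.leaf (.eq 98 17043521 [] [.plain 682 19540051 true]))) (.node 1 (.leaf (.eqT 16 6776923 false [.plain 683 17635399 true, .edge 681 595 false] [.edge 615 0 false])) (.leaf (.eq 97 17043521 [] [.plain 684 19800147 false]))))))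
(.node 7 (.node 3 (.node 1 (.leaf (.eqT 86 17043521 true [.plain 685 19150923 true, .edge 679 932 false] [.edge 675 0 false])) (.node 1 (.leaf (.eq 96 17043521 [] [.plain 686 19206211 false])) (.leaf .dfn)))
(.node 2 (.node 1 (.leaf (.mov 99 17043521 true [.edge 688 0 true])) (.leaf (.mov 93 19085399 true [.plain 664 19150935 true, .edge 688 212 false]))) (.node 1 (.leaf (.mov 93 17043521 true [.plain 665 17174615 true, .edge 690 1309 false])) (.leaf (.eqT 93 17043521 true [.plain 666 17567815 true, .edge 688 1174 false] [.edge 691 0 false])))))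
(.node 4 (.node 2 (.node 1 (.leaf (.eq 99 17043521 [] [.plain 692 17576019 false])) (.leaf .dfn)) (.node 1 (.leaf (.mov 100 17043521 true [.edge 694 0 true])) (.leaf .dfn)))
(.node 2 (.node 1 (.leaf (.mov 101 17043521 true [.edge 696 0 true])) (.leaf (.rel 16 27531349 7 [.edge 209 353 false, .edge 659 255 false, .edge 688 233 false, .mul, .edge 694 441 false, .mul, .edge 696 687 false, .mul]))) (.node 1 (.leaf (.eq 101 17043521 [] [.plain 698 27469913 true])) (.leaf (.eqT 16 32131155 true [.plain 699 25778241 true, .edge 697 509 false] [.edge 638 0 false])))))))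
(.node 15 (.node 7 (.node 3 (.node 1 (.leaf (.eq 100 17043521 [] [.plain 700 29501509 false])) (.node 1 (.leaf (.mov 89 19085399 true [.plain 701 9197651 true, .edge 695 770 false])) (.leaf (.mov 89 32125001 true [.plain 643 9058397 true, .edge 702 1436 false]))))
(.node 2 (.node 1 (.leaf (.mov 89 32131155 true [.plain 645 32118867 true, .edge 703 833 false])) (.leaf (.mov 89 11495495 true [.plain 643 24076377 true, .edge 704 9 false]))) (.node 1 (.leaf (.mov 89 25385043 true [.plain 646 27478103 true, .edge 705 795 false])) (.leaf (.mov 89 13310023 true [.plain 643 25890897 true, .edge 706 657 false])))))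
(.node 4 (.node 2 (.node 1 (.leaf (.mov 89 13510735 true [.plain 645 13523023 true, .edge 707 1012 false])) (.leaf (.mov 89 10971209 true [.plain 643 6774855 true, .edge 708 636 false]))) (.node 1 (.leaf .dfn) (.leaf (.mov 102 17043521 true [.edge 710 0 true]))))
(.node 2 (.node 1 (.leaf (.mov 92 17059919 true [.plain 654 17000541 true, .edge 710 1400 false])) (.leaf .dfn)) (.node 1 (.leaf (.mov 103 17043521 true [.edge 713 0 true])) (.leaf .dfn)))))
(.node 8 (.node 4 (.node 2 (.node 1 (.leaf (.mov 104 17043521 true [.edge 715 0 true])) (.leaf (.rel 16 12736585 7 [.edge 635 273 false, .edge 650 1527 false, .edge 710 470 false, .mul, .edge 713 945 false, .mul, .edge 715 13 false, .mul]))) (.node 1 (.leaf (.eq 104 17043521 [] [.plain 717 27476033 true])) (.leaf (.eqT 16 4808797 true [.plain 718 19681355 true, .edge 716 304 false] [.edge 631 0 false]))))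
(.node 2 (.node 1 (.leaf (.eq 103 17043521 [] [.plain 719 6774861 false])) (.leaf (.eqT 89 13510735 true [.plain 720 27801681 true, .edge 714 768 false] [.edge 708 0 false]))) (.node 1 (.leaf (.eq 102 17043521 [] [.plain 721 25563231 false])) (.leaf (.mov 99 25385043 true [.plain 722 19165259 true, .edge 711 1284 false])))))
(.node 4 (.node 2 (.node 1 (.leaf .dfn) (.leaf (.mov 105 17043521 false [.edge 724 0 true]))) (.node 1 (.leaf (.mov 21 32125001 false [.plain 186 9324639 true, .edge 724 59 false])) (.leaf (.mov 21 13310023 false [.plain 186 25634899 true, .edge 726 1268 false]))))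
(.node 2 (.node 1 (.leaf (.mov 21 10971209 false [.plain 187 12941379 true, .edge 726 50 false])) (.leaf (.mov 21 23928925 false [.plain 186 15366213 true, .edge 728 749 false]))) (.node 1 (.leaf (.mov 21 31801425 false [.plain 186 24000601 true, .edge 729 1112 false])) (.leaf (.mov 21 9056345 false [.plain 187 23347281 true, .edge 730 1207 false]))))))))))

/-- The reasons. -/
def caseCFullSrcLLLRR : Tab Src :=
(.node 122 (.node 61 (.node 30 (.node 15 (.node 7 (.node 3 (.node 1 (.leaf (.eqT 21 32125001 false [.plain 187 24057943 true, .edge 728 948 false] [.edge 726 0 false])) (.node 1 (.leaf (.mov 21 6776923 false [.plain 187 12798045 true, .edge 724 27 false])) (.leaf (.eqT 21 6776923 false [.plain 186 10645591 true, .edge 733 505 false] [.edge 733 0 false]))))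
(.node 2 (.node 1 (.leaf (.eqT 21 31801425 false [.plain 187 9375823 true, .edge 733 832 false] [.edge 730 0 false])) (.leaf (.eq 105 17043521 [] [.plain 735 17512523 false]))) (.node 1 (.leaf (.eq 105 17043521 [] [.plain 734 17782857 false])) (.leaf (.eq 105 17043521 [] [.plain 732 17070171 false])))))
(.node 4 (.node 2 (.node 1 (.leaf .dfn) (.leaf .dfn)) (.node 1 (.leaf (.mov 107 17043521 false [.edge 740 0 true])) (.leaf (.rel 21 14895169 0 [.edge 724 952 false, .mul, .edge 739 1135 false, .mul, .edge 740 332 false, .mul, .mul]))))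
(.node 2 (.node 1 (.leaf (.eq 107 17043521 [] [.plain 742 19800139 true])) (.leaf (.eqT 21 31801425 false [.plain 743 17051739 true, .edge 741 1145 false] [.edge 730 0 false]))) (.node 1 (.leaf (.eq 106 17043521 [] [.plain 744 19740751 false])) (.leaf .dfn)))))
(.node 7 (.node 3 (.node 1 (.leaf .dfn) (.node 1 (.leaf (.mov 109 17043521 true [.edge 747 0 true])) (.leaf (.rel 21 14907485 1 [.edge 243 813 false, .mul, .edge 746 34 false, .mul, .edge 747 224 false, .mul, .mul]))))
(.node 2 (.node 1 (.leaf (.eq 109 17043521 [] [.plain 749 25759821 true])) (.leaf (.eqT 21 32125001 true [.plain 750 9263179 true, .edge 748 43 false] [.edge 254 0 false]))) (.node 1 (.leaf (.eq 108 17043521 [] [.plain 751 9261151 false])) (.leaf .dfn))))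
(.node 4 (.node 2 (.node 1 (.leaf .dfn) (.leaf (.mov 111 17043521 true [.edge 754 0 true]))) (.node 1 (.leaf .dfn) (.leaf (.mov 112 17043521 true [.edge 756 0 true]))))
(.node 2 (.node 1 (.leaf (.rel 21 8917063 1 [.edge 753 534 false, .mul, .edge 754 876 false, .mul, .edge 756 727 false, .mul, .mul])) (.leaf (.eq 112 17043521 [] [.plain 758 27809879 true]))) (.node 1 (.leaf (.eqT 21 17043521 true [.plain 759 17651779 true, .edge 757 914 false] [.edge 176 0 false])) (.leaf (.eq 111 17043521 [] [.plain 760 17635421 false])))))))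
(.node 15 (.node 7 (.node 3 (.node 1 (.leaf (.eqT 1 29904967 true [.plain 761 11368515 true, .edge 755 598 false] [.edge 181 0 false])) (.node 1 (.leaf (.eq 110 17043521 [] [.plain 762 11368535 false])) (.leaf .dfn)))
(.node 2 (.node 1 (.leaf (.mov 113 17043521 false [.edge 764 0 true])) (.leaf (.mov 28 10971209 false [.plain 232 4675657 true, .edge 764 1407 false]))) (.node 1 (.leaf (.mov 28 9056345 false [.plain 233 9068635 true, .edge 766 1130 false])) (.leaf (.mov 28 6776923 false [.plain 232 8869979 true, .edge 767 1041 false])))))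
(.node 4 (.node 2 (.node 1 (.leaf (.eqT 28 6776923 false [.plain 231 10967129 true, .edge 768 186 false] [.edge 768 0 false])) (.leaf (.eqT 28 10971209 false [.plain 234 6770759 true, .edge 764 1070 false] [.edge 766 0 false]))) (.node 1 (.leaf (.eq 113 17043521 [] [.plain 770 16918613 false])) (.leaf (.eq 113 17043521 [] [.plain 769 16939077 false]))))
(.node 2 (.node 1 (.leaf .dfn) (.leaf .dfn)) (.node 1 (.leaf (.mov 115 17043521 true [.edge 774 0 true])) (.leaf .dfn)))))
(.node 8 (.node 4 (.node 2 (.node 1 (.leaf (.mov 116 17043521 false [.edge 776 0 true])) (.leaf (.rel 21 6905923 3 [.edge 252 649 false, .edge 773 606 false, .mul, .edge 774 1369 false, .mul, .edge 776 67 false, .mul]))) (.node 1 (.leaf (.eq 116 17043521 [] [.plain 778 17715281 true])) (.leaf (.eqT 21 4808797 false [.plain 779 17258575 true, .edge 777 381 false] [.edge 194 0 false]))))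
(.node 2 (.node 1 (.leaf (.eq 115 17043521 [] [.plain 780 17258575 false])) (.leaf (.eqT 22 25385043 true [.plain 781 25694291 true, .edge 775 87 false] [.edge 224 0 false]))) (.node 1 (.leaf (.eq 114 17043521 [] [.plain 782 27881547 false])) (.leaf .dfn))))
(.node 4 (.node 2 (.node 1 (.leaf (.mov 117 17043521 false [.edge 784 0 true])) (.leaf .dfn)) (.node 1 (.leaf (.mov 118 17043521 true [.edge 786 0 true])) (.leaf .dfn)))
(.node 2 (.node 1 (.leaf (.mov 119 17043521 false [.edge 788 0 true])) (.leaf (.rel 21 13453399 6 [.edge 244 1515 false, .edge 764 379 false, .mul, .edge 784 1429 false, .mul, .edge 786 1218 false, .edge 788 48 false, .mul]))) (.node 1 (.leaf (.eq 119 17043521 [] [.plain 790 19032135 true])) (.leaf (.eqT 21 31801425 false [.plain 791 17524829 true, .edge 789 1526 false] [.edge 730 0 false]))))))))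
(.node 30 (.node 15 (.node 7 (.node 3 (.node 1 (.leaf (.eq 118 17043521 [] [.plain 792 19339333 false])) (.node 1 (.leaf (.mov 105 19085399 true [.plain 793 17127513 true, .edge 787 1050 false])) (.leaf (.mov 105 17059919 true [.plain 736 17256525 true, .edge 794 922 false]))))
(.node 2 (.node 1 (.leaf (.mov 105 17043521 true [.plain 738 17109077 true, .edge 795 1243 false])) (.leaf (.mov 105 25385043 true [.plain 736 25516113 true, .edge 796 1081 false]))) (.node 1 (.leaf (.mov 105 11495495 true [.plain 737 10907713 true, .edge 797 1347 false])) (.leaf (.mov 105 10971209 true [.plain 737 11415647 true, .edge 794 1319 false])))))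
(.node 4 (.node 2 (.node 1 (.leaf .dfn) (.leaf (.mov 120 17043521 true [.edge 800 0 true]))) (.node 1 (.leaf (.mov 113 17043521 true [.plain 771 17109063 true, .edge 800 1452 false])) (.leaf (.mov 113 19085399 true [.plain 772 19216473 true, .edge 802 474 false]))))
(.node 2 (.node 1 (.leaf (.mov 113 25385043 true [.plain 771 25319495 true, .edge 803 339 false])) (.leaf .dfn)) (.node 1 (.leaf (.mov 121 17043521 true [.edge 805 0 true])) (.leaf .dfn)))))
(.node 7 (.node 3 (.node 1 (.leaf (.mov 122 17043521 true [.edge 807 0 true])) (.node 1 (.leaf (.rel 21 5132363 7 [.edge 254 1125 false, .edge 768 598 false, .edge 800 1041 false, .mul, .edge 805 169 false, .mul, .edge 807 740 false, .mul])) (.leaf (.eq 122 17043521 [] [.plain 809 28254299 true]))))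
(.node 2 (.node 1 (.leaf (.eqT 21 11495495 true [.plain 810 25514065 true, .edge 808 1385 false] [.edge 253 0 false])) (.leaf (.eq 121 17043521 [] [.plain 811 27412549 false]))) (.node 1 (.leaf (.mov 28 32125001 true [.plain 812 27594827 true, .edge 806 905 false])) (.leaf (.mov 28 10971209 true [.plain 231 6772811 true, .edge 813 1251 false])))))
(.node 4 (.node 2 (.node 1 (.leaf (.mov 28 25385043 true [.plain 233 25378897 true, .edge 814 589 false])) (.leaf (.mov 28 32131155 true [.plain 231 9048145 true, .edge 815 578 false]))) (.node 1 (.leaf (.mov 28 19085399 true [.plain 234 23273553 true, .edge 816 224 false])) (.leaf (.mov 28 13510735 true [.plain 231 19812429 true, .edge 817 528 false]))))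
(.node 2 (.node 1 (.leaf (.mov 28 13310023 true [.plain 233 13320261 true, .edge 818 1185 false])) (.leaf (.mov 28 11495495 true [.plain 231 24057925 true, .edge 819 1265 false]))) (.node 1 (.leaf (.eqT 28 10971209 true [.plain 232 4675657 true, .edge 813 528 false] [.edge 814 0 false])) (.leaf (.eq 120 17043521 [] [.plain 821 17457231 false])))))))
(.node 15 (.node 7 (.node 3 (.node 1 (.leaf (.mov 120 25385043 true [.plain 822 27611219 true, .edge 801 381 false])) (.node 1 (.leaf .dfn) (.leaf (.mov 123 17043521 false [.edge 824 0 true]))))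
(.node 2 (.node 1 (.leaf (.mov 22 10971209 false [.plain 198 10645571 true, .edge 824 680 false])) (.leaf (.mov 22 23928925 false [.plain 198 23468107 true, .edge 826 858 false]))) (.node 1 (.leaf (.mov 22 31801425 false [.plain 198 32118863 true, .edge 827 424 false])) (.leaf (.mov 22 32125001 false [.plain 199 31746123 true, .edge 827 157 false])))))
(.node 4 (.node 2 (.node 1 (.leaf (.mov 22 13310023 false [.plain 198 13465675 true, .edge 829 1094 false])) (.leaf (.mov 22 7292999 false [.plain 198 7086145 true, .edge 830 1046 false]))) (.node 1 (.leaf (.mov 22 9056345 false [.plain 198 9324625 true, .edge 831 874 false])) (.leaf (.eqT 22 6776923 false [.plain 199 6641753 true, .edge 826 1144 false] [.edge 824 0 false]))))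
(.node 2 (.node 1 (.leaf (.eqT 22 31801425 false [.plain 200 31791181 true, .edge 824 283 false] [.edge 828 0 false])) (.leaf (.eq 123 17043521 [] [.plain 834 16986203 false]))) (.node 1 (.leaf (.eq 123 17043521 [] [.plain 833 17109061 false])) (.leaf .dfn)))))
(.node 8 (.node 4 (.node 2 (.node 1 (.leaf .dfn) (.leaf (.mov 125 17043521 false [.edge 838 0 true]))) (.node 1 (.leaf (.rel 22 31791185 0 [.edge 824 1292 false, .mul, .edge 837 754 false, .mul, .edge 838 1514 false, .mul, .mul])) (.leaf (.eq 125 17043521 [] [.plain 840 19755089 true]))))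
(.node 2 (.node 1 (.leaf (.eqT 22 9056345 false [.plain 841 16935003 true, .edge 839 810 false] [.edge 832 0 false])) (.leaf (.eq 124 17043521 [] [.plain 842 19355715 false]))) (.node 1 (.leaf .dfn) (.leaf (.mov 126 17043521 true [.edge 844 0 true])))))
(.node 4 (.node 2 (.node 1 (.leaf (.mov 22 29904967 true [.plain 198 29780059 true, .edge 844 984 false])) (.leaf (.mov 22 32125001 true [.plain 198 31789143 true, .edge 846 1290 false]))) (.node 1 (.leaf (.mov 22 4808797 true [.plain 198 4927577 true, .edge 847 227 false])) (.leaf (.mov 22 13310023 true [.plain 199 13387845 true, .edge 848 676 false]))))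
(.node 2 (.node 1 (.leaf (.mov 22 31801425 true [.plain 198 32118863 true, .edge 849 295 false])) (.leaf (.mov 22 13510735 true [.plain 198 13131843 true, .edge 850 608 false]))) (.node 1 (.leaf (.mov 22 4544593 true [.plain 198 4679765 true, .edge 851 1206 false])) (.leaf (.eqT 22 13510735 true [.plain 200 13525057 true, .edge 844 339 false] [.edge 851 0 false])))))))))
(.node 61 (.node 30 (.node 15 (.node 7 (.node 3 (.node 1 (.leaf (.eq 126 17043521 [] [.plain 853 25720899 false])) (.node 1 (.leaf .dfn) (.leaf .dfn)))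
(.node 2 (.node 1 (.leaf (.mov 128 17043521 true [.edge 856 0 true])) (.leaf (.rel 22 29499457 1 [.edge 844 561 false, .mul, .edge 855 1380 false, .mul, .edge 856 1183 false, .mul, .mul]))) (.node 1 (.leaf (.eq 128 17043521 [] [.plain 858 11098191 true])) (.leaf (.eqT 22 13510735 true [.plain 859 9197635 true, .edge 857 1445 false] [.edge 851 0 false])))))
(.node 4 (.node 2 (.node 1 (.leaf (.eq 127 17043521 [] [.plain 860 11294797 false])) (.leaf .dfn)) (.node 1 (.leaf (.mov 129 17043521 false [.edge 862 0 true])) (.leaf (.mov 126 29904967 false [.plain 854 19800151 true, .edge 862 5 false]))))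
(.node 2 (.node 1 (.leaf (.mov 126 17043521 false [.plain 854 11030601 true, .edge 864 838 false])) (.leaf (.mov 126 4808797 false [.plain 854 16937039 true, .edge 865 1502 false]))) (.node 1 (.leaf .dfn) (.leaf (.mov 130 17043521 true [.edge 867 0 true]))))))
(.node 7 (.node 3 (.node 1 (.leaf (.eqT 22 17059919 true [.plain 198 17578079 true, .edge 867 794 false] [.edge 867 0 false])) (.node 1 (.leaf (.eqT 22 17059919 true [.plain 199 17659981 true, .edge 867 580 false] [.edge 867 0 false])) (.leaf (.eqT 22 17059919 true [.plain 200 17053789 true, .edge 867 1231 false] [.edge 867 0 false]))))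
(.node 2 (.node 1 (.leaf (.eq 130 17043521 [] [.plain 871 17070153 false])) (.leaf (.eq 130 17043521 [] [.plain 870 17643611 false]))) (.node 1 (.leaf (.eq 130 17043521 [] [.plain 869 17594459 false])) (.leaf .dfn))))
(.node 4 (.node 2 (.node 1 (.leaf (.mov 131 17043521 false [.edge 875 0 true])) (.leaf (.mov 130 4808797 false [.plain 873 4864079 true, .edge 875 648 false]))) (.node 1 (.leaf (.mov 130 27529303 false [.plain 874 27867229 true, .edge 877 75 false])) (.leaf (.mov 130 29904967 false [.plain 873 29843543 true, .edge 878 41 false]))))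
(.node 2 (.node 1 (.leaf (.eqT 130 29904967 false [.plain 872 29911127 true, .edge 879 1368 false] [.edge 879 0 false])) (.leaf (.eqT 130 27529303 false [.plain 873 27809887 true, .edge 879 865 false] [.edge 878 0 false]))) (.node 1 (.leaf (.eqT 130 29904967 false [.plain 874 29759573 true, .edge 875 713 false] [.edge 879 0 false])) (.leaf (.eq 131 17043521 [] [.plain 882 17578069 false])))))))
(.node 15 (.node 7 (.node 3 (.node 1 (.leaf (.eq 131 17043521 [] [.plain 881 17176653 false])) (.node 1 (.leaf (.eq 131 17043521 [] [.plain 880 17578077 false])) (.leaf .dfn)))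
(.node 2 (.node 1 (.leaf (.mov 132 17043521 true [.edge 886 0 true])) (.leaf .dfn)) (.node 1 (.leaf (.mov 133 17043521 false [.edge 888 0 true])) (.leaf (.rel 22 7288913 3 [.edge 847 327 false, .edge 866 1023 false, .mul, .edge 886 1487 false, .mul, .edge 888 1405 false, .mul])))))
(.node 4 (.node 2 (.node 1 (.leaf (.eq 133 17043521 [] [.plain 890 17633353 true])) (.leaf (.eqT 22 13310023 false [.plain 891 17578063 true, .edge 889 902 false] [.edge 830 0 false]))) (.node 1 (.leaf (.eq 132 17043521 [] [.plain 892 25655389 false])) (.leaf (.mov 123 19085399 true [.plain 893 11294801 true, .edge 887 1354 false]))))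
(.node 2 (.node 1 (.leaf (.mov 123 17043521 true [.plain 835 17174599 true, .edge 894 495 false])) (.leaf (.mov 123 17059919 true [.plain 836 17125467 true, .edge 895 1452 false]))) (.node 1 (.leaf (.mov 123 25385043 true [.plain 835 25712711 true, .edge 896 894 false])) (.leaf .dfn)))))
(.node 8 (.node 4 (.node 2 (.node 1 (.leaf (.mov 134 17043521 false [.edge 898 0 true])) (.leaf (.mov 31 29904967 false [.plain 262 29839429 true, .edge 898 449 false]))) (.node 1 (.leaf (.mov 31 13510735 false [.plain 263 13113423 true, .edge 900 717 false])) (.leaf (.mov 31 4808797 false [.plain 262 4874335 true, .edge 901 1483 false]))))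
(.node 2 (.node 1 (.leaf (.mov 31 32125001 false [.plain 283 29972559 true, .edge 902 686 false])) (.leaf (.mov 31 7292999 false [.plain 263 7098439 true, .edge 903 246 false]))) (.node 1 (.leaf (.mov 31 10971209 false [.plain 264 10963019 true, .edge 904 823 false])) (.leaf (.mov 31 31801425 false [.plain 263 32127057 true, .edge 905 285 false])))))
(.node 4 (.node 2 (.node 1 (.leaf (.eqT 31 27529303 false [.plain 264 27553877 true, .edge 898 1124 false] [.edge 898 0 false])) (.leaf (.eqT 31 31801425 false [.plain 283 29827157 true, .edge 898 1003 false] [.edge 906 0 false]))) (.node 1 (.leaf (.eq 134 17043521 [] [.plain 908 17784909 false])) (.leaf (.eq 134 17043521 [] [.plain 907 16984141 false]))))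
(.node 2 (.node 1 (.leaf .dfn) (.leaf (.mov 135 17043521 true [.edge 911 0 true]))) (.node 1 (.leaf .dfn) (.leaf (.mov 136 17043521 false [.edge 913 0 true]))))))))
(.node 30 (.node 15 (.node 7 (.node 3 (.node 1 (.leaf (.rel 22 26163269 3 [.edge 255 287 false, .edge 898 1241 false, .mul, .edge 911 589 false, .mul, .edge 913 1213 false, .mul])) (.node 1 (.leaf (.eq 136 17043521 [] [.plain 915 16988241 true])) (.leaf (.eqT 22 13310023 false [.plain 916 16939087 true, .edge 914 1186 false] [.edge 830 0 false]))))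
(.node 2 (.node 1 (.leaf (.eq 135 17043521 [] [.plain 917 19748945 false])) (.leaf (.mov 123 10971209 true [.plain 918 8982595 true, .edge 912 1092 false]))) (.node 1 (.leaf .dfn) (.leaf (.mov 137 17043521 false [.edge 920 0 true])))))
(.node 4 (.node 2 (.node 1 (.leaf (.mov 126 27529303 false [.plain 854 11368543 true, .edge 920 1341 false])) (.leaf .dfn)) (.node 1 (.leaf (.mov 138 17043521 false [.edge 923 0 true])) (.leaf .dfn)))
(.node 2 (.node 1 (.leaf (.mov 139 17043521 true [.edge 925 0 true])) (.leaf .dfn)) (.node 1 (.leaf (.mov 140 17043521 false [.edge 927 0 true])) (.leaf (.rel 22 15622217 6 [.edge 844 367 false, .edge 922 348 false, .mul, .edge 923 1395 false, .mul, .edge 925 92 false, .edge 927 448 false, .mul]))))))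
(.node 7 (.node 3 (.node 1 (.leaf (.eq 140 17043521 [] [.plain 929 19798089 true])) (.node 1 (.leaf (.eqT 22 13510735 false [.plain 930 17715275 true, .edge 928 65 false] [.edge 660 0 false])) (.leaf (.eq 139 17043521 [] [.plain 931 27727959 false]))))
(.node 2 (.node 1 (.leaf (.eqT 93 19085399 true [.plain 932 11360339 true, .edge 926 1324 false] [.edge 690 0 false])) (.leaf (.eq 138 17043521 [] [.plain 933 16932951 false]))) (.node 1 (.leaf (.mov 99 19085399 false [.plain 934 17109073 true, .edge 924 814 false])) (.leaf .dfn))))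
(.node 4 (.node 2 (.node 1 (.leaf (.mov 141 17043521 false [.edge 936 0 true])) (.leaf .dfn)) (.node 1 (.leaf (.mov 142 17043521 true [.edge 938 0 true])) (.leaf .dfn)))
(.node 2 (.node 1 (.leaf (.mov 143 17043521 false [.edge 940 0 true])) (.leaf (.rel 22 17700935 6 [.edge 255 763 false, .edge 426 300 false, .mul, .edge 936 609 false, .mul, .edge 938 552 false, .edge 940 1323 false, .mul]))) (.node 1 (.leaf (.eq 143 17043521 [] [.plain 942 19036247 true])) (.leaf (.eqT 22 19085399 false [.plain 943 16998483 true, .edge 941 104 false] [.edge 213 0 false])))))))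
(.node 15 (.node 7 (.node 3 (.node 1 (.leaf (.eq 142 19355743 [] [.plain 944 17043521 false, .plain 223 17043521 false])) (.node 1 (.leaf (.eq 142 17043521 [] [.plain 945 19877979 false])) (.leaf (.eqT 22 25385043 true [.plain 946 25761881 true, .edge 939 937 false] [.edge 224 0 false]))))
(.node 2 (.node 1 (.leaf (.eq 141 17043521 [] [.plain 947 25761881 false])) (.leaf (.eqT 28 4808797 false [.plain 948 17459289 true, .edge 937 1458 false] [.edge 773 0 false]))) (.node 1 (.leaf (.eq 56 19880019 [] [.plain 949 17043521 false, .plain 783 17043521 false])) (.leaf (.eq 56 17043521 [] [.plain 950 19288145 false])))))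
(.node 4 (.node 2 (.node 1 (.leaf (.mov 28 29904967 false [.plain 951 17524825 true, .edge 425 1233 false])) (.leaf .dfn)) (.node 1 (.leaf (.mov 144 17043521 false [.edge 953 0 true])) (.leaf (.mov 28 17043521 false [.plain 231 27539523 true, .edge 953 272 false]))))
(.node 2 (.node 1 (.leaf (.mov 28 13510735 false [.plain 232 17715279 true, .edge 955 645 false])) (.leaf (.mov 28 19085399 false [.plain 231 23275605 true, .edge 956 1407 false]))) (.node 1 (.leaf (.eqT 28 27529303 false [.plain 233 27537493 true, .edge 953 203 false] [.edge 953 0 false])) (.leaf (.eqT 28 17043521 false [.plain 234 27537481 true, .edge 953 928 false] [.edge 955 0 false]))))))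
(.node 8 (.node 4 (.node 2 (.node 1 (.leaf (.eq 144 17043521 [] [.plain 959 16934987 false])) (.leaf (.eq 144 17043521 [] [.plain 958 16916559 false]))) (.node 1 (.leaf .dfn) (.leaf (.mov 145 17043521 true [.edge 962 0 true]))))
(.node 2 (.node 1 (.leaf (.mov 144 10971209 true [.plain 960 10903645 true, .edge 962 804 false])) (.leaf (.mov 144 17059919 true [.plain 961 17440849 true, .edge 964 1265 false]))) (.node 1 (.leaf (.mov 144 17043521 true [.plain 960 17111117 true, .edge 965 342 false])) (.leaf .dfn))))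
(.node 4 (.node 2 (.node 1 (.leaf (.mov 146 17043521 true [.edge 967 0 true])) (.leaf .dfn)) (.node 1 (.leaf (.mov 147 17043521 true [.edge 969 0 true])) (.leaf (.rel 22 11427931 7 [.edge 226 459 false, .edge 953 508 false, .edge 962 189 false, .mul, .edge 967 887 false, .mul, .edge 969 894 false, .mul]))))
(.node 2 (.node 1 (.leaf (.eq 147 17043521 [] [.plain 971 27672651 true])) (.leaf (.eqT 22 13310023 true [.plain 972 17649755 true, .edge 970 700 false] [.edge 849 0 false]))) (.node 1 (.leaf (.eq 146 17043521 [] [.plain 973 21110867 false])) (.leaf (.mov 126 19085399 true [.plain 974 19159105 true, .edge 968 85 false]))))))))))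

/-- The reasons. -/
def caseCFullSrcLLLR : Tab Src := .node 244 caseCFullSrcLLLRL caseCFullSrcLLLRR

/-- The reasons. -/
def caseCFullSrcLLL : Tab Src := .node 488 caseCFullSrcLLLL caseCFullSrcLLLR

/-- The reasons. -/
def caseCFullSrcLLRLL : Tab Src :=
(.node 122 (.node 61 (.node 30 (.node 15 (.node 7 (.node 3 (.node 1 (.leaf (.mov 126 4808797 true [.plain 854 16937039 true, .edge 975 277 false])) (.node 1 (.leaf (.mov 126 10971209 true [.plain 854 12927047 true, .edge 976 511 false])) (.leaf (.mov 126 4544593 true [.plain 854 8538203 true, .edge 977 1504 false]))))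
(.node 2 (.node 1 (.leaf .dfn) (.leaf .dfn)) (.node 1 (.leaf (.mov 149 17043521 false [.edge 980 0 true])) (.leaf (.rel 28 19556431 0 [.edge 957 371 false, .mul, .edge 979 1389 false, .mul, .edge 980 1147 false, .mul, .mul])))))
(.node 4 (.node 2 (.node 1 (.leaf (.eq 149 17043521 [] [.plain 982 19165263 true])) (.leaf (.eqT 28 17043521 false [.plain 983 17463365 true, .edge 981 1245 false] [.edge 955 0 false]))) (.node 1 (.leaf (.eq 148 17043521 [] [.plain 984 19206221 false])) (.leaf .dfn)))
(.node 2 (.node 1 (.leaf (.mov 152 17043521 true [.edge 986 0 true])) (.leaf (.eqT 28 4808797 true [.plain 231 21569631 true, .edge 986 1371 false] [.edge 986 0 false]))) (.node 1 (.leaf (.eqT 28 4808797 true [.plain 232 23666781 true, .edge 986 578 false] [.edge 986 0 false])) (.leaf (.eqT 28 4808797 true [.plain 233 4794463 true, .edge 986 514 false] [.edge 986 0 false]))))))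
(.node 7 (.node 3 (.node 1 (.leaf (.eqT 28 4808797 true [.plain 234 21571663 true, .edge 986 1432 false] [.edge 986 0 false])) (.node 1 (.leaf (.eq 152 17043521 [] [.plain 991 17633345 false])) (.leaf (.eq 152 17043521 [] [.plain 990 17633361 false]))))
(.node 2 (.node 1 (.leaf (.eq 152 17043521 [] [.plain 989 17567825 false])) (.leaf (.eq 152 17043521 [] [.plain 988 17567827 false]))) (.node 1 (.leaf .dfn) (.leaf (.mov 153 17043521 false [.edge 996 0 true])))))
(.node 4 (.node 2 (.node 1 (.leaf (.mov 152 27529303 false [.plain 992 27791447 true, .edge 996 580 false])) (.leaf (.mov 152 4808797 false [.plain 994 4939865 true, .edge 998 1453 false]))) (.node 1 (.leaf (.mov 152 13510735 false [.plain 992 13183055 true, .edge 999 1484 false])) (.leaf (.eqT 152 27529303 false [.plain 993 27791437 true, .edge 996 217 false] [.edge 998 0 false]))))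
(.node 2 (.node 1 (.leaf (.eqT 152 13510735 false [.plain 995 13117505 true, .edge 996 229 false] [.edge 1000 0 false])) (.leaf (.eq 153 17043521 [] [.plain 1002 17594455 false]))) (.node 1 (.leaf (.eq 153 17043521 [] [.plain 1001 17256539 false])) (.leaf .dfn))))))
(.node 15 (.node 7 (.node 3 (.node 1 (.leaf (.mov 154 17043521 false [.edge 1005 0 true])) (.node 1 (.leaf .dfn) (.leaf (.mov 155 17043521 true [.edge 1007 0 true]))))
(.node 2 (.node 1 (.leaf .dfn) (.leaf (.mov 156 17043521 false [.edge 1009 0 true]))) (.node 1 (.leaf (.rel 28 4728917 3 [.edge 986 90 false, .edge 1005 596 false, .mul, .edge 1007 91 false, .mul, .edge 1009 199 false, .mul])) (.leaf (.eq 156 17043521 [] [.plain 1011 17657921 true])))))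
(.node 4 (.node 2 (.node 1 (.leaf (.eqT 28 29904967 false [.plain 1012 16916555 true, .edge 1010 274 false] [.edge 952 0 false])) (.leaf (.eq 155 17043521 [] [.plain 1013 26159173 false]))) (.node 1 (.leaf (.eqT 31 25385043 true [.plain 1014 11079745 true, .edge 1008 1059 false] [.edge 266 0 false])) (.leaf (.eq 154 10635339 [] [.plain 1015 17043521 false, .plain 273 17043521 false]))))
(.node 2 (.node 1 (.leaf (.eq 154 17043521 [] [.plain 1016 6889553 false])) (.leaf (.eqT 7 32125001 false [.plain 1017 17258581 true, .edge 1006 491 false] [.edge 476 0 false]))) (.node 1 (.leaf (.eq 152 17043521 [] [.plain 1018 19540049 false])) (.leaf (.mov 60 32131155 true [.plain 1019 9197659 true, .edge 987 154 false]))))))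
(.node 8 (.node 4 (.node 2 (.node 1 (.leaf (.mov 60 13510735 true [.plain 463 13510723 true, .edge 1020 17 false])) (.leaf (.mov 60 13310023 true [.plain 464 13314141 true, .edge 1021 284 false]))) (.node 1 (.leaf (.mov 60 9056345 false [.plain 1019 32004167 true, .edge 996 1281 false])) (.leaf (.mov 60 13310023 false [.plain 464 13314141 true, .edge 1023 1335 false]))))
(.node 2 (.node 1 (.leaf (.mov 60 7292999 false [.plain 465 7288903 true, .edge 1024 413 false])) (.leaf (.mov 60 32125001 false [.plain 464 32131139 true, .edge 1025 561 false]))) (.node 1 (.leaf (.eqT 60 32125001 false [.plain 467 32139359 true, .edge 1023 376 false] [.edge 1026 0 false])) (.leaf (.eq 153 17043521 [] [.plain 1027 17715265 false])))))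
(.node 4 (.node 2 (.node 1 (.leaf .dfn) (.leaf (.mov 157 17043521 true [.edge 1029 0 true]))) (.node 1 (.leaf (.eqT 28 17059919 true [.plain 231 27555917 true, .edge 1029 1315 false] [.edge 1029 0 false])) (.leaf (.eqT 28 17059919 true [.plain 232 25458767 true, .edge 1029 1255 false] [.edge 1029 0 false]))))
(.node 2 (.node 1 (.leaf (.eqT 28 17059919 true [.plain 233 17068109 true, .edge 1029 1509 false] [.edge 1029 0 false])) (.leaf (.eqT 28 17059919 true [.plain 234 27553863 true, .edge 1029 1516 false] [.edge 1029 0 false]))) (.node 1 (.leaf (.eq 157 17043521 [] [.plain 1034 8919105 false])) (.leaf (.eq 157 17043521 [] [.plain 1033 17068123 false]))))))))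
(.node 30 (.node 15 (.node 7 (.node 3 (.node 1 (.leaf (.eq 157 17043521 [] [.plain 1032 11079771 false])) (.node 1 (.leaf (.eq 157 17043521 [] [.plain 1031 8941635 false])) (.leaf .dfn)))
(.node 2 (.node 1 (.leaf (.mov 157 19085399 false [.plain 1035 6893655 true, .edge 1039 248 false])) (.leaf (.mov 157 29904967 false [.plain 1037 19877961 true, .edge 1040 1073 false]))) (.node 1 (.leaf (.mov 157 17043521 false [.plain 1035 8919105 true, .edge 1041 491 false])) (.leaf .dfn))))
(.node 4 (.node 2 (.node 1 (.leaf (.mov 159 17043521 true [.edge 1043 0 true])) (.leaf .dfn)) (.node 1 (.leaf (.mov 160 17043521 false [.edge 1045 0 true])) (.leaf (.rel 28 11343943 3 [.edge 1029 781 false, .edge 1039 1517 false, .mul, .edge 1043 873 false, .mul, .edge 1045 1148 false, .mul]))))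
(.node 2 (.node 1 (.leaf (.eq 160 17043521 [] [.plain 1047 17043539 true])) (.leaf (.eqT 28 13510735 false [.plain 1048 17244247 true, .edge 1046 895 false] [.edge 956 0 false]))) (.node 1 (.leaf (.eq 159 17043521 [] [.plain 1049 25434199 false])) (.leaf (.mov 144 25385043 true [.plain 1050 19206235 true, .edge 1044 1451 false]))))))
(.node 7 (.node 3 (.node 1 (.leaf .dfn) (.node 1 (.leaf (.mov 120 7292999 false [.plain 822 4472903 true, .edge 1052 654 false])) (.leaf .dfn)))
(.node 2 (.node 1 (.leaf (.mov 162 17043521 true [.edge 1054 0 true])) (.leaf (.eqT 28 31801425 true [.plain 231 23421011 true, .edge 1054 1503 false] [.edge 1054 0 false]))) (.node 1 (.leaf (.eqT 28 31801425 true [.plain 232 21323857 true, .edge 1054 1295 false] [.edge 1054 0 false])) (.leaf (.eqT 28 31801425 true [.plain 233 31811667 true, .edge 1054 1497 false] [.edge 1054 0 false])))))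
(.node 4 (.node 2 (.node 1 (.leaf (.eqT 28 31801425 true [.plain 234 23423067 true, .edge 1054 1415 false] [.edge 1054 0 false])) (.leaf (.eq 162 17043521 [] [.plain 1059 8943681 false]))) (.node 1 (.leaf (.eq 162 17043521 [] [.plain 1058 8917083 false])) (.leaf (.eq 162 17043521 [] [.plain 1057 11104347 false]))))
(.node 2 (.node 1 (.leaf (.eq 162 17043521 [] [.plain 1056 11106393 false])) (.leaf .dfn)) (.node 1 (.leaf (.mov 164 17043521 false [.edge 1064 0 true])) (.leaf .dfn))))))
(.node 15 (.node 7 (.node 3 (.node 1 (.leaf (.mov 165 17043521 true [.edge 1066 0 true])) (.node 1 (.leaf .dfn) (.leaf (.mov 166 17043521 false [.edge 1068 0 true]))))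
(.node 2 (.node 1 (.leaf (.rel 28 4939855 6 [.edge 818 763 false, .edge 1053 578 false, .mul, .edge 1064 303 false, .mul, .edge 1066 1488 false, .edge 1068 1384 false, .mul])) (.leaf (.eq 166 17043521 [] [.plain 1070 19816535 true]))) (.node 1 (.leaf (.eqT 28 13510735 false [.plain 1071 17715295 true, .edge 1069 302 false] [.edge 956 0 false])) (.leaf (.eq 165 17043521 [] [.plain 1072 27990089 false])))))
(.node 4 (.node 2 (.node 1 (.leaf (.eqT 144 11495495 true [.plain 1073 19755083 true, .edge 1067 693 false] [.edge 962 0 false])) (.leaf (.eq 164 17043521 [] [.plain 1074 23214171 false]))) (.node 1 (.leaf (.mov 145 27529303 false [.plain 1075 17244235 true, .edge 1065 505 false])) (.leaf .dfn)))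
(.node 2 (.node 1 (.leaf .dfn) (.leaf (.mov 172 17043521 true [.edge 1078 0 true]))) (.node 1 (.leaf (.rel 28 23861325 7 [.edge 746 605 false, .plain 752 11292755 false, .edge 766 1346 false, .edge 802 1096 false, .mul, .edge 1077 233 false, .mul, .edge 1078 422 false, .mul])) (.leaf (.eq 172 17043521 [] [.plain 1080 10709075 true]))))))
(.node 8 (.node 4 (.node 2 (.node 1 (.leaf (.eqT 28 11495495 true [.plain 1081 8990811 true, .edge 1079 941 false] [.edge 820 0 false])) (.leaf (.eq 171 17043521 [] [.plain 1082 17784915 false]))) (.node 1 (.leaf .dfn) (.leaf (.mov 173 17043521 true [.edge 1084 0 true]))))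
(.node 2 (.node 1 (.leaf .dfn) (.leaf (.mov 174 17043521 true [.edge 1086 0 true]))) (.node 1 (.leaf .dfn) (.leaf (.mov 175 17043521 true [.edge 1088 0 true])))))
(.node 4 (.node 2 (.node 1 (.leaf (.rel 28 17512537 7 [.edge 815 753 false, .edge 1053 578 false, .edge 1084 1054 false, .mul, .edge 1086 1006 false, .mul, .edge 1088 1492 false, .mul])) (.leaf (.eq 175 17043521 [] [.plain 1090 9330779 true]))) (.node 1 (.leaf (.eqT 28 17059919 true [.plain 1091 11032651 true, .edge 1089 570 false] [.edge 1029 0 false])) (.leaf (.eq 174 17043521 [] [.plain 1092 25839699 false]))))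
(.node 2 (.node 1 (.leaf (.mov 157 10971209 true [.plain 1093 25778259 true, .edge 1087 642 false])) (.leaf (.mov 157 31801425 true [.plain 1035 11487313 true, .edge 1094 1427 false]))) (.node 1 (.leaf (.mov 157 29904967 true [.plain 1036 29909065 true, .edge 1095 365 false])) (.leaf (.mov 157 19085399 true [.plain 1035 6893655 true, .edge 1096 1325 false])))))))))
(.node 61 (.node 30 (.node 15 (.node 7 (.node 3 (.node 1 (.leaf (.mov 157 4544593 true [.plain 1037 8607837 true, .edge 1097 612 false])) (.node 1 (.leaf (.eqT 157 4544593 true [.plain 1038 10641491 true, .edge 1094 1442 false] [.edge 1098 0 false])) (.leaf (.eq 173 17043521 [] [.plain 1099 12740679 false]))))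
(.node 2 (.node 1 (.leaf .dfn) (.leaf .dfn)) (.node 1 (.leaf (.mov 177 17043521 false [.edge 1102 0 true])) (.leaf (.rel 31 31797317 0 [.edge 903 1513 false, .mul, .edge 1101 1011 false, .mul, .edge 1102 524 false, .mul, .mul])))))
(.node 4 (.node 2 (.node 1 (.leaf (.eq 177 17043521 [] [.plain 1104 19208263 true])) (.leaf (.eqT 31 10971209 false [.plain 1105 17256521 true, .edge 1103 630 false] [.edge 905 0 false]))) (.node 1 (.leaf (.eq 176 17043521 [] [.plain 1106 19538007 false])) (.leaf .dfn)))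
(.node 2 (.node 1 (.leaf .dfn) (.leaf (.mov 179 17043521 false [.edge 1109 0 true]))) (.node 1 (.leaf (.rel 31 8607823 0 [.edge 477 1174 false, .mul, .edge 1108 652 false, .mul, .edge 1109 197 false, .mul, .mul])) (.leaf (.eq 179 17043521 [] [.plain 1111 19732565 true]))))))
(.node 7 (.node 3 (.node 1 (.leaf (.eqT 31 23928925 false [.plain 1112 16935003 true, .edge 1110 810 false] [.edge 481 0 false])) (.node 1 (.leaf (.eq 178 17043521 [] [.plain 1113 19355715 false])) (.leaf .dfn)))
(.node 2 (.node 1 (.leaf .dfn) (.leaf (.mov 181 17043521 true [.edge 1116 0 true]))) (.node 1 (.leaf .dfn) (.leaf (.mov 182 17043521 true [.edge 1118 0 true])))))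
(.node 4 (.node 2 (.node 1 (.leaf (.rel 31 19353671 1 [.edge 1115 899 false, .mul, .edge 1116 1264 false, .mul, .edge 1118 580 false, .mul, .mul])) (.leaf (.eq 182 17043521 [] [.plain 1120 17053765 true]))) (.node 1 (.leaf (.eqT 31 25385043 true [.plain 1121 27531355 true, .edge 1119 416 false] [.edge 266 0 false])) (.leaf (.eq 181 8943685 [] [.plain 1122 17043521 false, .plain 273 17043521 false]))))
(.node 2 (.node 1 (.leaf (.eq 181 17043521 [] [.plain 1123 8943711 false])) (.leaf (.eqT 7 4544593 true [.plain 1124 19216467 true, .edge 1117 599 false] [.edge 276 0 false]))) (.node 1 (.leaf (.eq 180 17043521 [] [.plain 1125 19148879 false])) (.leaf (.rel 31 10895445 1 [.edge 284 1244 false, .mul, .edge 224 1166 false, .mul, .edge 1029 1518 false, .mul, .mul])))))))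
(.node 15 (.node 7 (.node 3 (.node 1 (.leaf (.eq 157 17043521 [] [.plain 1127 17641559 true])) (.node 1 (.leaf (.mov 31 10971209 true [.plain 1128 27809883 true, .edge 1030 525 false])) (.leaf (.mov 31 17059919 true [.plain 283 19015747 true, .edge 1129 272 false]))))
(.node 2 (.node 1 (.leaf (.eqT 31 31801425 false [.plain 1128 17260637 true, .edge 1042 41 false] [.edge 906 0 false])) (.leaf (.mov 31 4808797 true [.plain 1128 26091587 true, .edge 1094 14 false]))) (.node 1 (.leaf (.mov 31 13510735 true [.plain 262 13183053 true, .edge 1132 742 false])) (.leaf (.mov 31 29904967 true [.plain 263 29761607 true, .edge 1133 1050 false])))))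
(.node 4 (.node 2 (.node 1 (.leaf (.mov 31 13310023 true [.plain 262 13375557 true, .edge 1134 764 false])) (.leaf (.mov 31 31801425 true [.plain 265 32192591 true, .edge 1135 207 false]))) (.node 1 (.leaf (.mov 31 32131155 true [.plain 262 31737937 true, .edge 1136 974 false])) (.leaf (.mov 31 4544593 true [.plain 263 4671569 true, .edge 1137 1047 false]))))
(.node 2 (.node 1 (.leaf (.mov 31 32125001 true [.plain 262 31731787 true, .edge 1138 920 false])) (.leaf (.eqT 31 29904967 true [.plain 283 31737951 true, .edge 1132 429 false] [.edge 1134 0 false]))) (.node 1 (.leaf (.eq 173 17043521 [] [.plain 1140 10645583 false])) (.leaf (.mov 173 13310023 true [.plain 1141 11016257 true, .edge 1085 1058 false]))))))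
(.node 8 (.node 4 (.node 2 (.node 1 (.leaf (.mov 173 25385043 true [.plain 1100 12736581 true, .edge 1142 648 false])) (.leaf (.eq 158 17043521 [] [.plain 1131 16935003 false]))) (.node 1 (.leaf (.mov 134 25385043 true [.plain 1144 25831503 true, .edge 1043 1520 false])) (.leaf .dfn)))
(.node 2 (.node 1 (.leaf (.mov 183 17043521 false [.edge 1146 0 true])) (.leaf .dfn)) (.node 1 (.leaf (.mov 184 17043521 true [.edge 1148 0 true])) (.leaf .dfn))))
(.node 4 (.node 2 (.node 1 (.leaf (.mov 185 17043521 false [.edge 1150 0 true])) (.leaf (.rel 31 21313631 3 [.edge 1134 1026 false, .edge 1146 1169 false, .mul, .edge 1148 76 false, .mul, .edge 1150 1443 false, .mul]))) (.node 1 (.leaf (.eq 185 17043521 [] [.plain 1152 17256543 true])) (.leaf (.eqT 31 9056345 false [.plain 1153 17702979 true, .edge 1151 976 false] [.edge 480 0 false]))))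
(.node 2 (.node 1 (.leaf (.eq 184 17043521 [] [.plain 1154 17721425 false])) (.leaf (.mov 62 10971209 true [.plain 1155 11278425 true, .edge 1149 167 false]))) (.node 1 (.leaf (.mov 62 19085399 true [.plain 484 19537987 true, .edge 1156 640 false])) (.leaf .dfn)))))))
(.node 30 (.node 15 (.node 7 (.node 3 (.node 1 (.leaf .dfn) (.node 1 (.leaf (.mov 187 17043521 false [.edge 1159 0 true])) (.leaf (.rel 31 11475039 6 [.edge 1115 1248 false, .plain 1126 27883585 false, .edge 481 216 false, .mul, .edge 1108 1494 false, .plain 1114 17133653 false, .mul, .edge 1158 1213 false, .edge 1159 44 false, .mul]))))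
(.node 2 (.node 1 (.leaf (.eq 187 17043521 [] [.plain 1161 19814467 true])) (.leaf (.eqT 31 9056345 false [.plain 1162 17002575 true, .edge 1160 609 false] [.edge 480 0 false]))) (.node 1 (.leaf (.eq 186 17043521 [] [.plain 1163 16988245 false])) (.leaf .dfn))))
(.node 4 (.node 2 (.node 1 (.leaf (.mov 188 17043521 false [.edge 1165 0 true])) (.leaf (.mov 173 13310023 false [.plain 1100 9050177 true, .edge 1165 45 false]))) (.node 1 (.leaf (.mov 173 29904967 false [.plain 1141 8540243 true, .edge 1167 1173 false])) (.leaf (.mov 173 4808797 false [.plain 1100 32006213 true, .edge 1168 98 false]))))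
(.node 2 (.node 1 (.leaf .dfn) (.leaf (.mov 189 17043521 true [.edge 1170 0 true]))) (.node 1 (.leaf .dfn) (.leaf (.mov 190 17043521 true [.edge 1172 0 true]))))))
(.node 7 (.node 3 (.node 1 (.leaf .dfn) (.node 1 (.leaf (.mov 191 17043521 true [.edge 1174 0 true])) (.leaf (.rel 31 13115459 7 [.edge 1136 714 false, .edge 1165 267 false, .edge 1170 1051 false, .mul, .edge 1172 66 false, .mul, .edge 1174 377 false, .mul]))))
(.node 2 (.node 1 (.leaf (.eq 191 17043521 [] [.plain 1176 27926601 true])) (.leaf (.eqT 31 4544593 true [.plain 1177 27865153 true, .edge 1175 880 false] [.edge 1138 0 false]))) (.node 1 (.leaf (.eq 190 17043521 [] [.plain 1178 6957123 false])) (.leaf (.eqT 173 25385043 true [.plain 1179 19208275 true, .edge 1173 1029 false] [.edge 1143 0 false])))))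
(.node 4 (.node 2 (.node 1 (.leaf (.eq 189 17043521 [] [.plain 1180 27467861 false])) (.leaf (.mov 161 10971209 true [.plain 1181 19748947 true, .edge 1171 923 false]))) (.node 1 (.leaf .dfn) (.leaf (.mov 192 17043521 true [.edge 1183 0 true]))))
(.node 2 (.node 1 (.leaf .dfn) (.leaf (.mov 193 17043521 true [.edge 1185 0 true]))) (.node 1 (.leaf .dfn) (.leaf (.mov 194 17043521 true [.edge 1187 0 true])))))))
(.node 15 (.node 7 (.node 3 (.node 1 (.leaf (.rel 31 23939155 7 [.edge 1136 730 false, .edge 1169 1044 false, .edge 1183 1213 false, .mul, .edge 1185 1289 false, .mul, .edge 1187 1368 false, .mul])) (.node 1 (.leaf (.eq 194 17043521 [] [.plain 1189 25577563 true])) (.leaf (.eqT 31 10971209 true [.plain 1190 19232841 true, .edge 1188 1510 false] [.edge 1129 0 false]))))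
(.node 2 (.node 1 (.leaf (.eq 193 17043521 [] [.plain 1191 21305429 false])) (.leaf (.eqT 28 11495495 true [.plain 1192 27537473 true, .edge 1186 735 false] [.edge 820 0 false]))) (.node 1 (.leaf (.eq 192 17043521 [] [.plain 1193 29778015 false])) (.leaf (.mov 120 32131155 true [.plain 1194 17649739 true, .edge 1184 820 false])))))
(.node 4 (.node 2 (.node 1 (.leaf (.mov 120 31801425 true [.plain 822 29575249 true, .edge 1195 578 false])) (.leaf .dfn)) (.node 1 (.leaf (.mov 34 23928925 false [.plain 297 23605327 true, .edge 1197 79 false])) (.leaf (.mov 34 10971209 false [.plain 297 11210845 true, .edge 1198 1166 false]))))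
(.node 2 (.node 1 (.leaf (.mov 34 13510735 false [.plain 298 12808279 true, .edge 1199 872 false])) (.leaf (.mov 34 6776923 false [.plain 297 7020623 true, .edge 1200 93 false]))) (.node 1 (.leaf (.mov 34 31801425 false [.plain 297 32264267 true, .edge 1201 1396 false])) (.leaf (.mov 34 27529303 false [.plain 299 28014673 true, .edge 1201 1023 false]))))))
(.node 8 (.node 4 (.node 2 (.node 1 (.leaf (.mov 34 9056345 false [.plain 297 9269313 true, .edge 1203 634 false])) (.leaf (.mov 34 7292999 false [.plain 297 6774859 true, .edge 1204 1056 false]))) (.node 1 (.leaf (.mov 34 4808797 false [.plain 298 5130321 true, .edge 1205 191 false])) (.leaf (.mov 34 13310023 false [.plain 297 13199447 true, .edge 1206 533 false]))))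
(.node 2 (.node 1 (.leaf (.mov 34 32125001 false [.plain 297 32319569 true, .edge 1207 545 false])) (.leaf (.eqT 34 13310023 false [.plain 299 13510723 true, .edge 1200 873 false] [.edge 1207 0 false]))) (.node 1 (.leaf (.eqT 34 4808797 false [.plain 299 4681799 true, .edge 1198 25 false] [.edge 1206 0 false])) (.leaf (.eqT 34 10971209 false [.plain 298 11024469 true, .edge 1197 626 false] [.edge 1199 0 false])))))
(.node 4 (.node 2 (.node 1 (.leaf (.eqT 34 9056345 false [.plain 299 8917079 true, .edge 1197 572 false] [.edge 1204 0 false])) (.leaf (.eq 195 17043521 [] [.plain 1212 17242195 false]))) (.node 1 (.leaf (.eq 195 17043521 [] [.plain 1211 17512537 false])) (.leaf (.eq 195 17043521 [] [.plain 1210 17770589 false]))))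
(.node 2 (.node 1 (.leaf (.eq 195 17043521 [] [.plain 1209 17567831 false])) (.leaf .dfn)) (.node 1 (.leaf .dfn) (.leaf (.mov 199 17043521 true [.edge 1218 0 true]))))))))))

/-- The reasons. -/
def caseCFullSrcLLRLR : Tab Src :=
(.node 122 (.node 61 (.node 30 (.node 15 (.node 7 (.node 3 (.node 1 (.leaf (.rel 34 19560527 1 [.edge 347 901 false, .mul, .edge 1217 1376 false, .mul, .edge 1218 812 false, .mul, .mul])) (.node 1 (.leaf (.eq 199 17043521 [] [.plain 1220 27553885 true])) (.leaf (.eqT 34 25385043 true [.plain 1221 11079747 true, .edge 1219 1117 false] [.edge 350 0 false]))))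
(.node 2 (.node 1 (.leaf (.eq 198 17043521 [] [.plain 1222 25456733 false])) (.leaf .dfn)) (.node 1 (.leaf (.mov 200 17043521 true [.edge 1224 0 true])) (.leaf (.mov 34 31801425 true [.plain 297 32264267 true, .edge 1224 1394 false])))))
(.node 4 (.node 2 (.node 1 (.leaf (.mov 34 32125001 true [.plain 297 32319569 true, .edge 1226 565 false])) (.leaf (.mov 34 29904967 true [.plain 297 29569091 true, .edge 1227 806 false]))) (.node 1 (.leaf (.mov 34 4808797 true [.plain 297 4479063 true, .edge 1228 1000 false])) (.leaf (.mov 34 13310023 true [.plain 297 13199447 true, .edge 1229 191 false]))))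
(.node 2 (.node 1 (.leaf (.mov 34 13510735 true [.plain 298 12808279 true, .edge 1230 1185 false])) (.leaf (.mov 34 32131155 true [.plain 297 31598677 true, .edge 1231 1113 false]))) (.node 1 (.leaf (.eqT 34 4544593 true [.plain 298 4794443 true, .edge 1226 1444 false] [.edge 1224 0 false])) (.leaf (.eqT 34 13310023 true [.plain 298 12933209 true, .edge 1224 184 false] [.edge 1230 0 false]))))))
(.node 7 (.node 3 (.node 1 (.leaf (.eqT 34 32131155 true [.plain 299 32256067 true, .edge 1224 1416 false] [.edge 1232 0 false])) (.node 1 (.leaf (.eq 200 17043521 [] [.plain 1235 17635403 false])) (.leaf (.eq 200 17043521 [] [.plain 1234 11081795 false]))))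
(.node 2 (.node 1 (.leaf (.eq 200 17043521 [] [.plain 1233 17567811 false])) (.leaf .dfn)) (.node 1 (.leaf .dfn) (.leaf (.mov 202 17043521 true [.edge 1240 0 true])))))
(.node 4 (.node 2 (.node 1 (.leaf (.rel 34 23343177 1 [.edge 1224 1081 false, .mul, .edge 1239 1107 false, .mul, .edge 1240 1515 false, .mul, .mul])) (.leaf (.eq 202 17043521 [] [.plain 1242 9187413 true]))) (.node 1 (.leaf (.eqT 34 29904967 true [.plain 1243 11368515 true, .edge 1241 598 false] [.edge 1228 0 false])) (.leaf (.eq 201 17043521 [] [.plain 1244 11368535 false]))))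
(.node 2 (.node 1 (.leaf .dfn) (.leaf (.mov 200 4808797 false [.plain 1236 4743259 true, .edge 1246 807 false]))) (.node 1 (.leaf (.mov 200 27529303 false [.plain 1238 27856981 true, .edge 1247 1232 false])) (.leaf (.mov 200 13510735 false [.plain 1236 13576257 true, .edge 1248 986 false])))))))
(.node 15 (.node 7 (.node 3 (.node 1 (.leaf (.mov 200 19085399 false [.plain 1237 4732995 true, .edge 1246 1413 false])) (.node 1 (.leaf (.eqT 200 19085399 false [.plain 1236 19019847 true, .edge 1250 789 false] [.edge 1250 0 false])) (.leaf (.eqT 200 19085399 false [.plain 1238 19544149 true, .edge 1250 430 false] [.edge 1250 0 false]))))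
(.node 2 (.node 1 (.leaf (.eq 203 17043521 [] [.plain 1252 16932933 false])) (.leaf (.eq 203 17043521 [] [.plain 1251 16934997 false]))) (.node 1 (.leaf .dfn) (.leaf (.mov 204 17043521 true [.edge 1255 0 true])))))
(.node 4 (.node 2 (.node 1 (.leaf .dfn) (.leaf (.mov 205 17043521 false [.edge 1257 0 true]))) (.node 1 (.leaf (.rel 34 5195861 3 [.edge 1231 478 false, .edge 1247 1228 false, .mul, .edge 1255 135 false, .mul, .edge 1257 931 false, .mul])) (.leaf (.eq 205 17043521 [] [.plain 1259 17766479 true]))))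
(.node 2 (.node 1 (.leaf (.eqT 34 7292999 false [.plain 1260 17698891 true, .edge 1258 111 false] [.edge 1205 0 false])) (.leaf (.eq 204 17043521 [] [.plain 1261 17240137 false]))) (.node 1 (.leaf (.mov 195 10971209 true [.plain 1262 11016267 true, .edge 1256 56 false])) (.leaf (.mov 195 19085399 true [.plain 1213 19081297 true, .edge 1263 1247 false]))))))
(.node 8 (.node 4 (.node 2 (.node 1 (.leaf .dfn) (.leaf (.mov 206 17043521 false [.edge 1265 0 true]))) (.node 1 (.leaf (.mov 39 6776923 false [.plain 323 7223391 true, .edge 1265 37 false])) (.leaf (.eqT 39 6776923 false [.plain 326 6709327 true, .edge 1267 987 false] [.edge 1267 0 false]))))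
(.node 2 (.node 1 (.leaf (.eqT 39 23928925 false [.plain 324 23492683 true, .edge 1265 47 false] [.edge 1265 0 false])) (.leaf (.eqT 39 23928925 false [.plain 325 23357531 true, .edge 1265 339 false] [.edge 1265 0 false]))) (.node 1 (.leaf (.eqT 39 23928925 false [.plain 326 23865423 true, .edge 1265 814 false] [.edge 1265 0 false])) (.leaf (.eq 206 17043521 [] [.plain 1271 17567811 false])))))
(.node 4 (.node 2 (.node 1 (.leaf (.eq 206 17043521 [] [.plain 1270 17043543 false])) (.leaf (.eq 206 17043521 [] [.plain 1269 17698899 false]))) (.node 1 (.leaf (.eq 206 17043521 [] [.plain 1268 17242179 false])) (.leaf .dfn)))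
(.node 2 (.node 1 (.leaf (.eqT 206 19085399 false [.plain 1272 19544149 true, .edge 1276 430 false] [.edge 1276 0 false])) (.leaf (.eqT 206 19085399 false [.plain 1273 19085385 true, .edge 1276 1282 false] [.edge 1276 0 false]))) (.node 1 (.leaf (.eqT 206 19085399 false [.plain 1274 19740743 true, .edge 1276 1497 false] [.edge 1276 0 false])) (.leaf (.eqT 206 19085399 false [.plain 1275 19019865 true, .edge 1276 294 false] [.edge 1276 0 false]))))))))
(.node 30 (.node 15 (.node 7 (.node 3 (.node 1 (.leaf (.eq 207 17043521 [] [.plain 1280 17045579 false])) (.node 1 (.leaf (.eq 207 17043521 [] [.plain 1279 17051737 false])) (.leaf (.eq 207 17043521 [] [.plain 1278 17061977 false]))))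
(.node 2 (.node 1 (.leaf (.eq 207 17043521 [] [.plain 1277 17061955 false])) (.leaf .dfn)) (.node 1 (.leaf (.mov 208 17043521 true [.edge 1285 0 true])) (.leaf .dfn))))
(.node 4 (.node 2 (.node 1 (.leaf (.mov 209 17043521 false [.edge 1287 0 true])) (.leaf (.rel 34 25499717 6 [.edge 349 130 false, .edge 1265 1491 false, .mul, .edge 1276 864 false, .mul, .edge 1285 1302 false, .edge 1287 109 false, .mul]))) (.node 1 (.leaf (.eq 209 17043521 [] [.plain 1289 19556439 true])) (.leaf (.eqT 34 13510735 false [.plain 1290 17643611 true, .edge 1288 817 false] [.edge 1200 0 false]))))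
(.node 2 (.node 1 (.leaf (.eq 208 17043521 [] [.plain 1291 19148895 false])) (.leaf (.mov 195 17043521 true [.plain 1292 19675211 true, .edge 1286 943 false]))) (.node 1 (.leaf .dfn) (.leaf (.mov 210 17043521 false [.edge 1294 0 true]))))))
(.node 7 (.node 3 (.node 1 (.leaf (.mov 39 9056345 false [.plain 323 8540243 true, .edge 1294 1173 false])) (.node 1 (.leaf (.eqT 39 9056345 false [.plain 326 9123905 true, .edge 1296 1209 false] [.edge 1296 0 false])) (.leaf (.eqT 39 13310023 false [.plain 324 13445195 true, .edge 1294 1353 false] [.edge 1294 0 false]))))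
(.node 2 (.node 1 (.leaf (.eqT 39 13310023 false [.plain 325 12802137 true, .edge 1294 890 false] [.edge 1294 0 false])) (.leaf (.eqT 39 13310023 false [.plain 326 13242455 true, .edge 1294 789 false] [.edge 1294 0 false]))) (.node 1 (.leaf (.eq 210 17043521 [] [.plain 1300 17059923 false])) (.leaf (.eq 210 17043521 [] [.plain 1299 17059931 false])))))
(.node 4 (.node 2 (.node 1 (.leaf (.eq 210 17043521 [] [.plain 1298 17068115 false])) (.leaf (.eq 210 17043521 [] [.plain 1297 17191007 false]))) (.node 1 (.leaf .dfn) (.leaf (.mov 210 25385043 true [.plain 1302 25376847 true, .edge 1305 284 false]))))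
(.node 2 (.node 1 (.leaf (.mov 210 10971209 true [.plain 1303 10975297 true, .edge 1306 1519 false])) (.leaf (.mov 210 11495495 true [.plain 1302 11485265 true, .edge 1307 679 false]))) (.node 1 (.leaf (.eqT 210 11495495 true [.plain 1301 11485263 true, .edge 1308 137 false] [.edge 1308 0 false])) (.leaf (.eqT 210 25385043 true [.plain 1304 25382989 true, .edge 1305 95 false] [.edge 1306 0 false])))))))
(.node 15 (.node 7 (.node 3 (.node 1 (.leaf (.eq 211 17043521 [] [.plain 1310 25710657 false])) (.node 1 (.leaf (.eq 211 17043521 [] [.plain 1309 9271379 false])) (.leaf .dfn)))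
(.node 2 (.node 1 (.leaf (.mov 212 17043521 true [.edge 1313 0 true])) (.leaf .dfn)) (.node 1 (.leaf (.mov 213 17043521 true [.edge 1315 0 true])) (.leaf (.rel 34 10704979 7 [.edge 350 228 false, .edge 1294 199 false, .edge 1305 1292 false, .mul, .edge 1313 1490 false, .mul, .edge 1315 651 false, .mul])))))
(.node 4 (.node 2 (.node 1 (.leaf (.eq 213 17043521 [] [.plain 1317 17000513 true])) (.leaf (.eqT 34 31801425 true [.plain 1318 27818057 true, .edge 1316 294 false] [.edge 1226 0 false]))) (.node 1 (.leaf (.eq 212 17043521 [] [.plain 1319 6645847 false])) (.leaf (.mov 200 32125001 true [.plain 1320 27613273 true, .edge 1314 433 false]))))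
(.node 2 (.node 1 (.leaf (.mov 200 13310023 true [.plain 1236 13244489 true, .edge 1321 1386 false])) (.leaf (.mov 200 29904967 true [.plain 1238 29773893 true, .edge 1322 1081 false]))) (.node 1 (.leaf (.mov 200 4544593 true [.plain 1236 4479063 true, .edge 1323 1000 false])) (.leaf .dfn)))))
(.node 8 (.node 4 (.node 2 (.node 1 (.leaf (.mov 214 17043521 true [.edge 1325 0 true])) (.leaf (.mov 206 19085399 true [.plain 1273 19085385 true, .edge 1325 1465 false]))) (.node 1 (.leaf (.mov 206 17059919 true [.plain 1274 17191005 true, .edge 1327 1160 false])) (.leaf (.mov 206 17043521 true [.plain 1273 17043543 true, .edge 1328 1300 false]))))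
(.node 2 (.node 1 (.leaf (.eqT 206 17043521 true [.plain 1272 17567811 true, .edge 1329 1277 false] [.edge 1329 0 false])) (.leaf (.eqT 206 19085399 true [.plain 1275 19019865 true, .edge 1325 436 false] [.edge 1327 0 false]))) (.node 1 (.leaf (.eq 214 17043521 [] [.plain 1331 9195587 false])) (.leaf (.eq 214 17043521 [] [.plain 1330 11300937 false])))))
(.node 4 (.node 2 (.node 1 (.leaf .dfn) (.leaf (.mov 215 17043521 true [.edge 1334 0 true]))) (.node 1 (.leaf .dfn) (.leaf (.mov 216 17043521 true [.edge 1336 0 true]))))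
(.node 2 (.node 1 (.leaf (.rel 34 11278415 7 [.edge 349 760 false, .edge 1265 465 false, .edge 1325 1487 false, .mul, .edge 1334 1271 false, .mul, .edge 1336 15 false, .mul])) (.leaf (.eq 216 17043521 [] [.plain 1338 25643091 true]))) (.node 1 (.leaf (.eqT 34 13510735 true [.plain 1339 11292739 true, .edge 1337 666 false] [.edge 1231 0 false])) (.leaf (.eq 215 17043521 [] [.plain 1340 19079261 false])))))))))
(.node 61 (.node 30 (.node 15 (.node 7 (.node 3 (.node 1 (.leaf (.mov 200 32131155 true [.plain 1341 8941633 true, .edge 1335 1108 false])) (.node 1 (.leaf (.mov 200 13510735 true [.plain 1236 13576257 true, .edge 1342 180 false])) (.leaf (.mov 200 4808797 true [.plain 1238 4939871 true, .edge 1343 777 false]))))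
(.node 2 (.node 1 (.leaf (.mov 200 31801425 true [.plain 1236 31735885 true, .edge 1344 598 false])) (.leaf (.mov 200 11495495 true [.plain 1237 29648979 true, .edge 1345 1502 false]))) (.node 1 (.leaf (.mov 200 10971209 true [.plain 1237 12871757 true, .edge 1344 774 false])) (.leaf .dfn))))
(.node 4 (.node 2 (.node 1 (.leaf (.mov 217 17043521 false [.edge 1348 0 true])) (.leaf (.mov 39 27529303 false [.plain 323 28254287 true, .edge 1348 1205 false]))) (.node 1 (.leaf (.mov 39 7292999 false [.plain 323 6977603 true, .edge 1350 304 false])) (.leaf (.mov 39 4808797 false [.plain 323 5130331 true, .edge 1351 40 false]))))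
(.node 2 (.node 1 (.leaf (.mov 39 29904967 false [.plain 326 29972547 true, .edge 1352 1492 false])) (.leaf (.mov 39 10971209 false [.plain 323 11024449 true, .edge 1353 1014 false]))) (.node 1 (.leaf (.mov 39 13510735 false [.plain 323 12808257 true, .edge 1354 509 false])) (.leaf (.mov 39 31801425 false [.plain 323 31926349 true, .edge 1355 378 false]))))))
(.node 7 (.node 3 (.node 1 (.leaf (.eqT 39 27529303 false [.plain 325 27402307 true, .edge 1348 302 false] [.edge 1350 0 false])) (.node 1 (.leaf (.eqT 39 10971209 false [.plain 326 10903645 true, .edge 1348 1037 false] [.edge 1354 0 false])) (.leaf (.eq 217 17043521 [] [.plain 1358 16988235 false]))))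
(.node 2 (.node 1 (.leaf (.eq 217 17043521 [] [.plain 1357 17190991 false])) (.leaf .dfn)) (.node 1 (.leaf .dfn) (.leaf (.mov 219 17043521 false [.edge 1362 0 true])))))
(.node 4 (.node 2 (.node 1 (.leaf (.rel 39 8874079 0 [.edge 1348 688 false, .mul, .edge 1361 590 false, .mul, .edge 1362 1119 false, .mul, .mul])) (.leaf (.eq 219 17043521 [] [.plain 1364 19216455 true]))) (.node 1 (.leaf (.eqT 39 10971209 false [.plain 1365 17051739 true, .edge 1363 1145 false] [.edge 1354 0 false])) (.leaf (.eq 218 17043521 [] [.plain 1366 19740751 false]))))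
(.node 2 (.node 1 (.leaf .dfn) (.leaf (.mov 220 17043521 true [.edge 1368 0 true]))) (.node 1 (.leaf (.mov 39 32125001 true [.plain 323 32067669 true, .edge 1368 1184 false])) (.leaf (.mov 39 13510735 true [.plain 323 12808257 true, .edge 1370 1276 false])))))))
(.node 15 (.node 7 (.node 3 (.node 1 (.leaf (.mov 39 31801425 true [.plain 323 31926349 true, .edge 1371 1036 false])) (.node 1 (.leaf (.mov 39 13310023 true [.plain 324 13445195 true, .edge 1372 1485 false])) (.leaf (.mov 39 32131155 true [.plain 323 31871055 true, .edge 1373 1199 false]))))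
(.node 2 (.node 1 (.leaf (.mov 39 4808797 true [.plain 323 5130331 true, .edge 1374 587 false])) (.leaf (.mov 39 4544593 true [.plain 323 4794455 true, .edge 1375 14 false]))) (.node 1 (.leaf (.eqT 39 13510735 true [.plain 325 12939351 true, .edge 1368 1528 false] [.edge 1371 0 false])) (.leaf (.eqT 39 4544593 true [.plain 326 4477005 true, .edge 1368 761 false] [.edge 1376 0 false])))))
(.node 4 (.node 2 (.node 1 (.leaf (.eq 220 17043521 [] [.plain 1378 27555907 false])) (.leaf (.eq 220 17043521 [] [.plain 1377 27619401 false]))) (.node 1 (.leaf .dfn) (.leaf .dfn)))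
(.node 2 (.node 1 (.leaf (.mov 222 17043521 true [.edge 1382 0 true])) (.leaf (.rel 39 23402573 1 [.edge 1368 695 false, .mul, .edge 1381 1337 false, .mul, .edge 1382 89 false, .mul, .mul]))) (.node 1 (.leaf (.eq 222 17043521 [] [.plain 1384 27873375 true])) (.leaf (.eqT 39 4544593 true [.plain 1385 11368513 true, .edge 1383 625 false] [.edge 1376 0 false]))))))
(.node 8 (.node 4 (.node 2 (.node 1 (.leaf (.eq 221 17043521 [] [.plain 1386 11366487 false])) (.leaf .dfn)) (.node 1 (.leaf (.mov 223 17043521 false [.edge 1388 0 true])) (.leaf (.mov 220 17043521 false [.plain 1379 19142731 true, .edge 1388 675 false]))))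
(.node 2 (.node 1 (.leaf (.mov 220 27529303 false [.plain 1380 17053791 true, .edge 1390 272 false])) (.leaf (.mov 220 13510735 false [.plain 1379 15605841 true, .edge 1391 431 false]))) (.node 1 (.leaf .dfn) (.leaf (.mov 224 17043521 true [.edge 1393 0 true])))))
(.node 4 (.node 2 (.node 1 (.leaf .dfn) (.leaf (.mov 225 17043521 false [.edge 1395 0 true]))) (.node 1 (.leaf (.rel 39 21839941 3 [.edge 1375 549 false, .edge 1390 477 false, .mul, .edge 1393 1460 false, .mul, .edge 1395 1120 false, .mul])) (.leaf (.eq 225 17043521 [] [.plain 1397 17649753 true]))))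
(.node 2 (.node 1 (.leaf (.eqT 39 31801425 false [.plain 1398 17135685 true, .edge 1396 1128 false] [.edge 1356 0 false])) (.leaf (.eq 224 17043521 [] [.plain 1399 25915469 false]))) (.node 1 (.leaf (.mov 217 25385043 true [.plain 1400 8925265 true, .edge 1394 633 false])) (.leaf (.mov 217 19085399 true [.plain 1359 19101763 true, .edge 1401 435 false]))))))))
(.node 30 (.node 15 (.node 7 (.node 3 (.node 1 (.leaf (.mov 217 10971209 true [.plain 1360 10704983 true, .edge 1402 1144 false])) (.node 1 (.leaf (.mov 217 11495495 true [.plain 1359 11487315 true, .edge 1403 415 false])) (.leaf .dfn)))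
(.node 2 (.node 1 (.leaf (.mov 226 17043521 false [.edge 1405 0 true])) (.leaf .dfn)) (.node 1 (.leaf (.mov 227 17043521 true [.edge 1407 0 true])) (.leaf .dfn))))
(.node 4 (.node 2 (.node 1 (.leaf (.mov 228 17043521 false [.edge 1409 0 true])) (.leaf (.rel 39 29694035 3 [.edge 1376 1341 false, .edge 1405 1247 false, .mul, .edge 1407 430 false, .mul, .edge 1409 776 false, .mul]))) (.node 1 (.leaf (.eq 228 17043521 [] [.plain 1411 17043521 true])) (.leaf (.eqT 39 9056345 false [.plain 1412 17512523 true, .edge 1410 1016 false] [.edge 1296 0 false]))))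
(.node 2 (.node 1 (.leaf (.eq 227 17043521 [] [.plain 1413 25837647 false])) (.leaf (.eqT 210 11495495 true [.plain 1414 19681363 true, .edge 1408 648 false] [.edge 1308 0 false]))) (.node 1 (.leaf (.eq 226 17043521 [] [.plain 1415 23294047 false])) (.leaf (.mov 211 19085399 false [.plain 1416 17698911 true, .edge 1406 549 false]))))))
(.node 7 (.node 3 (.node 1 (.leaf .dfn) (.node 1 (.leaf (.mov 229 17043521 false [.edge 1418 0 true])) (.leaf (.mov 50 4808797 false [.plain 380 6840415 true, .edge 1418 947 false]))))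
(.node 2 (.node 1 (.leaf (.mov 50 19085399 false [.plain 382 6893653 true, .edge 1420 718 false])) (.leaf (.mov 50 17043521 false [.plain 380 19206211 true, .edge 1421 904 false]))) (.node 1 (.leaf (.mov 50 23928925 false [.plain 400 17764447 true, .edge 1422 1135 false])) (.leaf (.mov 50 13310023 false [.plain 380 15341637 true, .edge 1423 609 false])))))
(.node 4 (.node 2 (.node 1 (.leaf (.mov 50 10971209 false [.plain 381 10975305 true, .edge 1424 80 false])) (.leaf (.mov 50 32125001 false [.plain 380 30093387 true, .edge 1425 793 false]))) (.node 1 (.leaf (.eqT 50 10971209 false [.plain 400 23623755 true, .edge 1418 546 false] [.edge 1425 0 false])) (.leaf (.eq 229 17043521 [] [.plain 1427 17442905 false]))))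
(.node 2 (.node 1 (.leaf .dfn) (.leaf .dfn)) (.node 1 (.leaf (.mov 231 17043521 true [.edge 1430 0 true])) (.leaf .dfn))))))
(.node 15 (.node 7 (.node 3 (.node 1 (.leaf (.mov 232 17043521 false [.edge 1432 0 true])) (.node 1 (.leaf (.rel 39 28196931 6 [.edge 375 882 false, .edge 1418 164 false, .mul, .edge 1429 1344 false, .mul, .edge 1430 727 false, .edge 1432 1036 false, .mul])) (.leaf (.eq 232 17043521 [] [.plain 1434 19814487 true]))))
(.node 2 (.node 1 (.leaf (.eqT 39 7292999 false [.plain 1435 17244255 true, .edge 1433 680 false] [.edge 1351 0 false])) (.leaf (.eq 231 17043521 [] [.plain 1436 27738185 false]))) (.node 1 (.leaf (.mov 217 17059919 true [.plain 1437 11292737 true, .edge 1431 618 false])) (.leaf (.mov 217 17043521 true [.plain 1360 17643613 true, .edge 1438 452 false])))))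
(.node 4 (.node 2 (.node 1 (.leaf .dfn) (.leaf .dfn)) (.node 1 (.leaf (.mov 234 17043521 true [.edge 1441 0 true])) (.leaf .dfn)))
(.node 2 (.node 1 (.leaf (.mov 235 17043521 false [.edge 1443 0 true])) (.leaf (.rel 39 29640781 6 [.edge 1375 1131 false, .edge 1388 1297 false, .mul, .edge 1440 630 false, .mul, .edge 1441 1184 false, .edge 1443 92 false, .mul]))) (.node 1 (.leaf (.eq 235 17043521 [] [.plain 1445 19095633 true])) (.leaf (.eqT 39 31801425 false [.plain 1446 17506381 true, .edge 1444 535 false] [.edge 1356 0 false]))))))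
(.node 8 (.node 4 (.node 2 (.node 1 (.leaf (.eq 234 17043521 [] [.plain 1447 19863639 false])) (.leaf (.eqT 217 25385043 true [.plain 1448 27547715 true, .edge 1442 193 false] [.edge 1401 0 false]))) (.node 1 (.leaf (.eq 233 17043521 [] [.plain 1449 8925271 false])) (.leaf .dfn)))
(.node 2 (.node 1 (.leaf (.mov 236 17043521 true [.edge 1451 0 true])) (.leaf .dfn)) (.node 1 (.leaf (.mov 237 17043521 true [.edge 1453 0 true])) (.leaf .dfn))))
(.node 4 (.node 2 (.node 1 (.leaf (.mov 238 17043521 true [.edge 1455 0 true])) (.leaf (.rel 39 5001285 7 [.edge 1368 1257 false, .edge 1391 46 false, .edge 1451 122 false, .mul, .edge 1453 710 false, .mul, .edge 1455 311 false, .mul]))) (.node 1 (.leaf (.eq 238 17043521 [] [.plain 1457 9388123 true])) (.leaf (.eqT 39 10971209 true [.plain 1458 11016283 true, .edge 1456 408 false] [.edge 375 0 false]))))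
(.node 2 (.node 1 (.leaf (.eq 237 17043521 [] [.plain 1459 25831499 false])) (.leaf (.eqT 50 11495495 true [.plain 1460 19673155 true, .edge 1454 490 false] [.edge 501 0 false]))) (.node 1 (.leaf (.eq 236 17043521 [] [.plain 1461 23275611 false])) (.leaf (.mov 62 4808797 true [.plain 1462 27793473 true, .edge 1452 1475 false]))))))))))

/-- The reasons. -/
def caseCFullSrcLLRL : Tab Src := .node 244 caseCFullSrcLLRLL caseCFullSrcLLRLR

/-- The reasons. -/
def caseCFullSrcLLRRL : Tab Src :=
(.node 122 (.node 61 (.node 30 (.node 15 (.node 7 (.node 3 (.node 1 (.leaf (.mov 62 13310023 true [.plain 484 13451357 true, .edge 1463 184 false])) (.node 1 (.leaf (.mov 62 4544593 true [.plain 484 4681823 true, .edge 1464 933 false])) (.leaf (.mov 62 32131155 true [.plain 484 31791193 true, .edge 1465 329 false]))))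
(.node 2 (.node 1 (.leaf (.mov 62 13510735 true [.plain 485 13525075 true, .edge 1466 70 false])) (.leaf (.mov 62 31801425 true [.plain 484 32139333 true, .edge 1467 167 false]))) (.node 1 (.leaf (.mov 62 32125001 true [.plain 484 31809603 true, .edge 1468 809 false])) (.leaf (.mov 62 29904967 true [.plain 484 29757515 true, .edge 1469 515 false])))))
(.node 4 (.node 2 (.node 1 (.leaf .dfn) (.leaf (.mov 239 17043521 true [.edge 1471 0 true]))) (.node 1 (.leaf .dfn) (.leaf (.mov 240 17043521 true [.edge 1473 0 true]))))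
(.node 2 (.node 1 (.leaf .dfn) (.leaf (.mov 241 17043521 true [.edge 1475 0 true]))) (.node 1 (.leaf (.rel 39 23531611 7 [.edge 1370 1280 false, .edge 1388 1437 false, .edge 1471 194 false, .mul, .edge 1473 35 false, .mul, .edge 1475 1198 false, .mul])) (.leaf (.eq 241 17043521 [] [.plain 1477 10700883 true]))))))
(.node 7 (.node 3 (.node 1 (.leaf (.eqT 39 11495495 true [.plain 1478 25694283 true, .edge 1476 72 false] [.edge 372 0 false])) (.node 1 (.leaf (.eq 240 17043521 [] [.plain 1479 19355729 false])) (.leaf (.eqT 50 25385043 true [.plain 1480 27605065 true, .edge 1474 1502 false] [.edge 561 0 false]))))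
(.node 2 (.node 1 (.leaf (.eq 239 10909781 [] [.plain 1481 17043521 false, .plain 578 27750487 false])) (.leaf (.eq 239 17043521 [] [.plain 1482 15296597 false]))) (.node 1 (.leaf (.mov 71 31801425 true [.plain 1483 25442393 true, .edge 1472 410 false])) (.leaf (.mov 71 13310023 true [.plain 526 13379659 true, .edge 1484 625 false])))))
(.node 4 (.node 2 (.node 1 (.leaf (.mov 71 13510735 true [.plain 527 13572175 true, .edge 1485 1535 false])) (.leaf (.mov 71 4544593 true [.plain 526 4606037 true, .edge 1486 168 false]))) (.node 1 (.leaf .dfn) (.leaf (.mov 242 17043521 false [.edge 1488 0 true]))))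
(.node 2 (.node 1 (.leaf (.rel 50 9332803 0 [.edge 1426 259 false, .mul, .edge 1429 469 false, .mul, .edge 1488 1018 false, .mul, .mul])) (.leaf (.eq 242 17043521 [] [.plain 1490 19540041 true]))) (.node 1 (.leaf (.eqT 50 10971209 false [.plain 1491 17459295 true, .edge 1489 858 false] [.edge 1425 0 false])) (.leaf (.eq 230 17043521 [] [.plain 1492 19812421 false])))))))
(.node 15 (.node 7 (.node 3 (.node 1 (.leaf (.mov 229 17059919 true [.plain 1493 19030103 true, .edge 1430 227 false])) (.node 1 (.leaf .dfn) (.leaf (.mov 243 17043521 false [.edge 1495 0 true]))))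
(.node 2 (.node 1 (.leaf (.rel 50 30230607 0 [.edge 523 1456 false, .mul, .edge 538 402 false, .mul, .edge 1495 330 false, .mul, .mul])) (.leaf (.eq 243 17043521 [] [.plain 1497 19730513 true]))) (.node 1 (.leaf (.eqT 50 31801425 false [.plain 1498 17061967 true, .edge 1496 488 false] [.edge 519 0 false])) (.leaf (.eq 74 17043521 [] [.plain 1499 19884117 false])))))
(.node 4 (.node 2 (.node 1 (.leaf (.mov 71 11495495 true [.plain 1500 8917067 true, .edge 539 368 false])) (.leaf .dfn)) (.node 1 (.leaf (.mov 244 17043521 true [.edge 1502 0 true])) (.leaf .dfn)))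
(.node 2 (.node 1 (.leaf (.mov 245 17043521 true [.edge 1504 0 true])) (.leaf (.rel 50 10960961 1 [.edge 560 1495 false, .plain 578 16922695 false, .mul, .edge 1502 333 false, .mul, .edge 1504 776 false, .mul, .mul]))) (.node 1 (.leaf (.eq 245 17043521 [] [.plain 1506 17051743 true])) (.leaf (.eqT 50 11495495 true [.plain 1507 27553867 true, .edge 1505 1244 false] [.edge 501 0 false]))))))
(.node 8 (.node 4 (.node 2 (.node 1 (.leaf (.eq 244 17043521 [] [.plain 1508 8935503 false])) (.leaf (.eqT 62 10971209 true [.plain 1509 11081817 true, .edge 1503 454 false] [.edge 1156 0 false]))) (.node 1 (.leaf (.eq 183 17043521 [] [.plain 1510 9197661 true])) (.leaf (.eqT 71 19085399 false [.plain 1511 17586271 true, .edge 1147 1274 false] [.edge 538 0 false]))))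
(.node 2 (.node 1 (.leaf (.eq 173 21973069 [] [.plain 1512 17043521 false, .plain 1500 17043521 false])) (.leaf (.eq 173 17043521 [] [.plain 1513 7166029 false]))) (.node 1 (.leaf (.mov 71 29904967 true [.plain 1514 27816017 true, .edge 1085 121 false])) (.leaf (.mov 71 32131155 true [.plain 526 31731789 true, .edge 1515 506 false])))))
(.node 4 (.node 2 (.node 1 (.leaf (.mov 71 32125001 true [.plain 527 32196681 true, .edge 1516 241 false])) (.leaf (.mov 71 4808797 true [.plain 526 4878425 true, .edge 1517 151 false]))) (.node 1 (.leaf (.mov 71 17059919 true [.plain 1514 14958681 true, .edge 1086 995 false])) (.leaf (.mov 71 27529303 false [.plain 1514 21260369 true, .edge 1165 348 false]))))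
(.node 2 (.node 1 (.leaf (.mov 71 29904967 false [.plain 526 29827163 true, .edge 1520 651 false])) (.leaf (.mov 71 4808797 false [.plain 527 4747357 true, .edge 1521 1255 false]))) (.node 1 (.leaf (.mov 71 13510735 false [.plain 526 13178947 true, .edge 1522 1180 false])) (.leaf .dfn)))))))
(.node 30 (.node 15 (.node 7 (.node 3 (.node 1 (.leaf (.mov 50 17059919 true [.plain 400 31600717 true, .edge 1524 675 false])) (.node 1 (.leaf .dfn) (.leaf (.mov 248 17043521 false [.edge 1526 0 true]))))
(.node 2 (.node 1 (.leaf (.mov 62 9056345 false [.plain 484 9330757 true, .edge 1526 251 false])) (.leaf (.mov 62 31801425 false [.plain 484 32139333 true, .edge 1528 1193 false]))) (.node 1 (.leaf (.mov 62 13310023 false [.plain 484 13451357 true, .edge 1529 1020 false])) (.leaf (.mov 62 32125001 false [.plain 485 32116829 true, .edge 1530 356 false])))))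
(.node 4 (.node 2 (.node 1 (.leaf (.mov 62 6776923 false [.plain 484 6574163 true, .edge 1531 1391 false])) (.leaf (.mov 62 7292999 false [.plain 484 7090271 true, .edge 1532 1150 false]))) (.node 1 (.leaf (.mov 62 23928925 false [.plain 484 23480401 true, .edge 1533 897 false])) (.leaf .dfn)))
(.node 2 (.node 1 (.leaf (.mov 249 17043521 false [.edge 1535 0 true])) (.leaf .dfn)) (.node 1 (.leaf (.mov 250 17043521 true [.edge 1537 0 true])) (.leaf .dfn)))))
(.node 7 (.node 3 (.node 1 (.leaf (.mov 251 17043521 false [.edge 1539 0 true])) (.node 1 (.leaf (.rel 50 29825095 3 [.edge 1524 1014 false, .edge 1535 1303 false, .mul, .edge 1537 1171 false, .mul, .edge 1539 973 false, .mul])) (.leaf (.eq 251 17043521 [] [.plain 1541 17117249 true]))))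
(.node 2 (.node 1 (.leaf (.eqT 50 27529303 false [.plain 1542 17244243 true, .edge 1540 1532 false] [.edge 518 0 false])) (.leaf (.eq 250 11343963 [] [.plain 1543 17043521 false, .plain 537 17119325 false]))) (.node 1 (.leaf (.eq 250 17043521 [] [.plain 1544 25761865 false])) (.leaf (.eqT 50 32131155 true [.plain 1545 27809881 true, .edge 1538 1021 false] [.edge 510 0 false])))))
(.node 4 (.node 2 (.node 1 (.leaf (.eq 249 25575495 [] [.plain 1546 17043521 false, .plain 516 17043521 false])) (.leaf (.eq 249 17043521 [] [.plain 1547 4878431 false]))) (.node 1 (.leaf (.eqT 50 27529303 false [.plain 1548 17045599 true, .edge 1536 40 false] [.edge 518 0 false])) (.leaf (.eq 246 21571655 [] [.plain 1549 17043521 false, .plain 537 17119325 false]))))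
(.node 2 (.node 1 (.leaf (.eq 246 17043521 [] [.plain 1550 10709081 false])) (.leaf .dfn)) (.node 1 (.leaf (.mov 252 17043521 false [.edge 1552 0 true])) (.leaf (.mov 71 13310023 false [.plain 526 13379659 true, .edge 1552 668 false])))))))
(.node 15 (.node 7 (.node 3 (.node 1 (.leaf (.mov 71 6776923 false [.plain 527 6713435 true, .edge 1554 565 false])) (.node 1 (.leaf (.mov 71 9056345 false [.plain 526 9375825 true, .edge 1555 346 false])) (.leaf .dfn)))
(.node 2 (.node 1 (.leaf .dfn) (.leaf (.mov 254 17043521 true [.edge 1558 0 true]))) (.node 1 (.leaf .dfn) (.leaf (.mov 255 17043521 false [.edge 1560 0 true])))))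
(.node 4 (.node 2 (.node 1 (.leaf (.rel 50 23672901 6 [.edge 499 265 false, .edge 1529 195 false, .mul, .edge 1557 593 false, .mul, .edge 1558 250 false, .edge 1560 63 false, .mul])) (.leaf (.eq 255 17043521 [] [.plain 1562 19738711 true]))) (.node 1 (.leaf (.eqT 50 29904967 false [.plain 1563 17043549 true, .edge 1561 521 false] [.edge 1418 0 false])) (.leaf (.eq 254 17043521 [] [.plain 1564 9121881 false]))))
(.node 2 (.node 1 (.leaf (.mov 229 25385043 true [.plain 1565 11286593 true, .edge 1559 674 false])) (.leaf (.mov 229 11495495 true [.plain 1428 11475027 true, .edge 1566 824 false]))) (.node 1 (.leaf .dfn) (.leaf (.mov 256 17043521 false [.edge 1568 0 true]))))))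
(.node 8 (.node 4 (.node 2 (.node 1 (.leaf (.mov 53 6776923 false [.plain 414 6912077 true, .edge 1568 898 false])) (.leaf (.mov 53 13510735 false [.plain 414 13439067 true, .edge 1570 518 false]))) (.node 1 (.leaf (.mov 53 13310023 false [.plain 414 13508693 true, .edge 1571 679 false])) (.leaf (.mov 53 23928925 false [.plain 415 23863383 true, .edge 1572 1347 false]))))
(.node 2 (.node 1 (.leaf (.mov 53 29904967 false [.plain 414 30156865 true, .edge 1573 415 false])) (.leaf (.mov 53 9056345 false [.plain 414 8919107 true, .edge 1574 829 false]))) (.node 1 (.leaf (.mov 53 27529303 false [.plain 414 28012633 true, .edge 1575 1357 false])) (.leaf (.eqT 53 29904967 false [.plain 415 29970513 true, .edge 1568 1037 false] [.edge 1574 0 false])))))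
(.node 4 (.node 2 (.node 1 (.leaf (.eqT 53 6776923 false [.plain 416 6907999 true, .edge 1568 1259 false] [.edge 1570 0 false])) (.leaf (.eq 256 17043521 [] [.plain 1578 17059921 false]))) (.node 1 (.leaf (.eq 256 17043521 [] [.plain 1577 16988235 false])) (.leaf .dfn)))
(.node 2 (.node 1 (.leaf .dfn) (.leaf (.mov 258 17043521 false [.edge 1582 0 true]))) (.node 1 (.leaf (.rel 53 13197403 0 [.edge 1568 693 false, .mul, .edge 1581 248 false, .mul, .edge 1582 448 false, .mul, .mul])) (.leaf (.eq 258 17043521 [] [.plain 1584 19359819 true])))))))))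
(.node 61 (.node 30 (.node 15 (.node 7 (.node 3 (.node 1 (.leaf (.eqT 53 29904967 false [.plain 1585 17051739 true, .edge 1583 1145 false] [.edge 1574 0 false])) (.node 1 (.leaf (.eq 257 17043521 [] [.plain 1586 19740751 false])) (.leaf .dfn)))
(.node 2 (.node 1 (.leaf (.mov 259 17043521 true [.edge 1588 0 true])) (.leaf (.mov 53 19085399 true [.plain 414 19757149 true, .edge 1588 139 false]))) (.node 1 (.leaf (.mov 53 17043521 true [.plain 414 17717327 true, .edge 1590 449 false])) (.leaf (.mov 53 25385043 true [.plain 414 25440321 true, .edge 1591 184 false])))))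
(.node 4 (.node 2 (.node 1 (.leaf (.eqT 53 17043521 true [.plain 415 17109063 true, .edge 1588 1452 false] [.edge 1591 0 false])) (.leaf (.eqT 53 19085399 true [.plain 416 19740743 true, .edge 1588 566 false] [.edge 1590 0 false]))) (.node 1 (.leaf (.eq 259 17043521 [] [.plain 1594 19738705 false])) (.leaf (.eq 259 17043521 [] [.plain 1593 17133635 false]))))
(.node 2 (.node 1 (.leaf .dfn) (.leaf (.mov 53 4808797 true [.plain 414 4683861 true, .edge 1597 141 false]))) (.node 1 (.leaf (.mov 53 4544593 true [.plain 414 4997199 true, .edge 1598 268 false])) (.leaf (.mov 53 13510735 true [.plain 414 13439067 true, .edge 1599 201 false]))))))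
(.node 7 (.node 3 (.node 1 (.leaf (.mov 53 31801425 true [.plain 416 31604813 true, .edge 1600 1410 false])) (.node 1 (.leaf (.mov 53 29904967 true [.plain 414 30156865 true, .edge 1601 733 false])) (.leaf (.mov 53 32131155 true [.plain 414 32258135 true, .edge 1602 874 false]))))
(.node 2 (.node 1 (.leaf (.mov 53 32125001 true [.plain 414 31670355 true, .edge 1603 892 false])) (.leaf (.eqT 53 4808797 true [.plain 415 4743239 true, .edge 1598 1451 false] [.edge 1598 0 false]))) (.node 1 (.leaf (.eqT 53 32125001 true [.plain 415 32190535 true, .edge 1597 161 false] [.edge 1604 0 false])) (.leaf (.eq 262 17043521 [] [.plain 1606 27809881 false])))))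
(.node 4 (.node 2 (.node 1 (.leaf (.eq 262 17043521 [] [.plain 1605 19675203 false])) (.leaf .dfn)) (.node 1 (.leaf (.mov 265 17043521 false [.edge 1609 0 true])) (.leaf (.eqT 57 6776923 false [.plain 440 6582365 true, .edge 1609 1312 false] [.edge 1609 0 false]))))
(.node 2 (.node 1 (.leaf (.eqT 57 6776923 false [.plain 443 7284815 true, .edge 1609 831 false] [.edge 1609 0 false])) (.leaf (.eq 265 17043521 [] [.plain 1612 17567829 false]))) (.node 1 (.leaf (.eq 265 17043521 [] [.plain 1611 17764435 false])) (.leaf .dfn))))))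
(.node 15 (.node 7 (.node 3 (.node 1 (.leaf (.mov 266 17043521 false [.edge 1615 0 true])) (.node 1 (.leaf .dfn) (.leaf (.mov 267 17043521 false [.edge 1617 0 true]))))
(.node 2 (.node 1 (.leaf (.eqT 259 27529303 false [.plain 1595 27537487 true, .edge 1617 450 false] [.edge 1617 0 false])) (.leaf (.mov 259 4808797 false [.plain 1596 4946015 true, .edge 1617 1456 false]))) (.node 1 (.leaf (.eqT 259 4808797 false [.plain 1595 4794459 true, .edge 1620 339 false] [.edge 1620 0 false])) (.leaf (.eq 267 17043521 [] [.plain 1621 16922703 false])))))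
(.node 4 (.node 2 (.node 1 (.leaf (.eq 267 17043521 [] [.plain 1619 17524817 false])) (.leaf .dfn)) (.node 1 (.leaf (.mov 268 17043521 true [.edge 1624 0 true])) (.leaf .dfn)))
(.node 2 (.node 1 (.leaf (.mov 269 17043521 false [.edge 1626 0 true])) (.leaf (.rel 53 8605771 3 [.edge 1592 1505 false, .edge 1617 873 false, .mul, .edge 1624 754 false, .mul, .edge 1626 1219 false, .mul]))) (.node 1 (.leaf (.eq 269 17043521 [] [.plain 1628 17442899 true])) (.leaf (.eqT 53 23928925 false [.plain 1629 17635419 true, .edge 1627 1185 false] [.edge 1573 0 false]))))))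
(.node 8 (.node 4 (.node 2 (.node 1 (.leaf (.eq 268 17043521 [] [.plain 1630 19816527 false])) (.leaf (.mov 256 11495495 true [.plain 1631 9261121 true, .edge 1625 346 false]))) (.node 1 (.leaf .dfn) (.leaf (.mov 270 17043521 true [.edge 1633 0 true]))))
(.node 2 (.node 1 (.leaf .dfn) (.leaf (.mov 271 17043521 false [.edge 1635 0 true]))) (.node 1 (.leaf (.rel 53 7024723 3 [.edge 1604 1425 false, .edge 1615 547 false, .mul, .edge 1633 1364 false, .mul, .edge 1635 1506 false, .mul])) (.leaf (.eq 271 17043521 [] [.plain 1637 16982107 true])))))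
(.node 4 (.node 2 (.node 1 (.leaf (.eqT 53 13510735 false [.plain 1638 17242177 true, .edge 1636 1320 false] [.edge 1571 0 false])) (.leaf (.eq 270 17043521 [] [.plain 1639 11421789 false]))) (.node 1 (.leaf (.mov 256 17059919 true [.plain 1640 11106395 true, .edge 1634 197 false])) (.leaf (.mov 256 25385043 true [.plain 1579 25712709 true, .edge 1641 936 false]))))
(.node 2 (.node 1 (.leaf (.mov 256 19085399 true [.plain 1580 19609675 true, .edge 1642 1385 false])) (.leaf (.mov 256 17043521 true [.plain 1579 17174597 true, .edge 1643 1442 false]))) (.node 1 (.leaf .dfn) (.leaf (.eqT 262 13510735 false [.plain 1607 31940703 true, .edge 1645 299 false] [.edge 1645 0 false]))))))))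
(.node 30 (.node 15 (.node 7 (.node 3 (.node 1 (.leaf (.eqT 262 13510735 false [.plain 1608 15671389 true, .edge 1645 814 false] [.edge 1645 0 false])) (.node 1 (.leaf (.eq 272 17043521 [] [.plain 1647 17567811 false])) (.leaf (.eq 272 17043521 [] [.plain 1646 17633361 false]))))
(.node 2 (.node 1 (.leaf .dfn) (.leaf (.eqT 262 27529303 false [.plain 1607 11292741 true, .edge 1650 1296 false] [.edge 1650 0 false]))) (.node 1 (.leaf (.eqT 262 27529303 false [.plain 1608 25499719 true, .edge 1650 789 false] [.edge 1650 0 false])) (.leaf (.eq 273 17043521 [] [.plain 1652 17059923 false])))))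
(.node 4 (.node 2 (.node 1 (.leaf (.eq 273 17043521 [] [.plain 1651 17045585 false])) (.leaf .dfn)) (.node 1 (.leaf (.mov 274 17043521 false [.edge 1655 0 true])) (.leaf (.eqT 273 19085399 false [.plain 1653 19099719 true, .edge 1655 315 false] [.edge 1655 0 false]))))
(.node 2 (.node 1 (.leaf (.eqT 273 19085399 false [.plain 1654 19083333 true, .edge 1655 955 false] [.edge 1655 0 false])) (.leaf (.eq 274 17043521 [] [.plain 1658 17567827 false]))) (.node 1 (.leaf (.eq 274 17043521 [] [.plain 1657 17633347 false])) (.leaf .dfn)))))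
(.node 7 (.node 3 (.node 1 (.leaf (.mov 275 17043521 true [.edge 1661 0 true])) (.node 1 (.leaf (.eqT 274 25385043 true [.plain 1659 26171465 true, .edge 1661 1488 false] [.edge 1661 0 false])) (.leaf (.eqT 274 25385043 true [.plain 1660 26105937 true, .edge 1661 371 false] [.edge 1661 0 false]))))
(.node 2 (.node 1 (.leaf (.eq 275 17043521 [] [.plain 1664 25432139 false])) (.leaf (.eq 275 17043521 [] [.plain 1663 27529283 false]))) (.node 1 (.leaf .dfn) (.leaf (.mov 276 17043521 false [.edge 1667 0 true])))))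
(.node 4 (.node 2 (.node 1 (.leaf (.rel 53 30031957 6 [.edge 1600 131 false, .edge 1650 1280 false, .mul, .edge 1655 725 false, .mul, .edge 1661 1137 false, .edge 1667 284 false, .mul])) (.leaf (.eq 276 17043521 [] [.plain 1669 19148869 true]))) (.node 1 (.leaf (.mov 53 7292999 false [.plain 1670 17584205 true, .edge 1668 1378 false])) (.leaf (.mov 53 10971209 false [.plain 414 11487327 true, .edge 1671 583 false]))))
(.node 2 (.node 1 (.leaf (.eqT 53 10971209 false [.plain 416 11495489 true, .edge 1672 871 false] [.edge 1672 0 false])) (.leaf (.eqT 53 7292999 false [.plain 416 6637635 true, .edge 1671 478 false] [.edge 1671 0 false]))) (.node 1 (.leaf (.eq 275 17043521 [] [.plain 1674 8992855 false])) (.leaf (.eq 275 17043521 [] [.plain 1673 9068615 false])))))))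
(.node 15 (.node 7 (.node 3 (.node 1 (.leaf (.mov 275 17059919 true [.plain 1676 25448531 true, .edge 1662 885 false])) (.node 1 (.leaf .dfn) (.leaf .dfn)))
(.node 2 (.node 1 (.leaf (.mov 278 17043521 true [.edge 1679 0 true])) (.leaf .dfn)) (.node 1 (.leaf (.mov 279 17043521 true [.edge 1681 0 true])) (.leaf (.rel 53 21573709 7 [.edge 1602 1390 false, .edge 1615 1061 false, .edge 1678 652 false, .mul, .edge 1679 866 false, .mul, .edge 1681 1507 false, .mul])))))
(.node 4 (.node 2 (.node 1 (.leaf (.eq 279 17043521 [] [.plain 1683 28256347 true])) (.leaf (.eqT 53 17059919 true [.plain 1684 17567825 true, .edge 1682 1088 false] [.edge 1588 0 false]))) (.node 1 (.leaf (.eq 278 17043521 [] [.plain 1685 4679751 false])) (.leaf (.mov 259 13510735 true [.plain 1686 27865153 true, .edge 1680 880 false]))))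
(.node 2 (.node 1 (.leaf (.mov 259 32125001 true [.plain 1595 32137301 true, .edge 1687 1147 false])) (.leaf (.mov 259 31801425 true [.plain 1596 32125011 true, .edge 1688 49 false]))) (.node 1 (.leaf (.mov 259 4808797 true [.plain 1595 4794459 true, .edge 1689 1191 false])) (.leaf (.mov 259 13310023 true [.plain 1596 13443141 true, .edge 1690 1506 false]))))))
(.node 8 (.node 4 (.node 2 (.node 1 (.leaf (.mov 259 32131155 true [.plain 1595 32118863 true, .edge 1691 295 false])) (.leaf (.mov 259 4544593 true [.plain 1596 4669523 true, .edge 1692 337 false]))) (.node 1 (.leaf (.mov 259 29904967 true [.plain 1595 29888601 true, .edge 1693 780 false])) (.leaf .dfn)))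
(.node 2 (.node 1 (.leaf (.mov 280 17043521 true [.edge 1695 0 true])) (.leaf .dfn)) (.node 1 (.leaf (.mov 281 17043521 true [.edge 1697 0 true])) (.leaf .dfn))))
(.node 4 (.node 2 (.node 1 (.leaf (.mov 282 17043521 true [.edge 1699 0 true])) (.leaf (.rel 53 29972551 7 [.edge 1602 1204 false, .edge 1615 450 false, .edge 1695 1417 false, .mul, .edge 1697 964 false, .mul, .edge 1699 92 false, .mul]))) (.node 1 (.leaf (.eq 282 17043521 [] [.plain 1701 27994177 true])) (.leaf (.eqT 53 31801425 true [.plain 1702 19689545 true, .edge 1700 734 false] [.edge 1601 0 false]))))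
(.node 2 (.node 1 (.leaf (.eq 281 17043521 [] [.plain 1703 21375065 false])) (.leaf (.mov 262 4808797 true [.plain 1704 27605083 true, .edge 1698 1201 false]))) (.node 1 (.leaf (.mov 262 25385043 true [.plain 1607 5056589 true, .edge 1705 1265 false])) (.leaf (.mov 262 19085399 true [.plain 1608 16920641 true, .edge 1706 383 false]))))))))))

/-- The reasons. -/
def caseCFullSrcLLRRR : Tab Src :=
(.node 122 (.node 61 (.node 30 (.node 15 (.node 7 (.node 3 (.node 1 (.leaf (.mov 262 31801425 true [.plain 1607 9312325 true, .edge 1707 709 false])) (.node 1 (.leaf .dfn) (.leaf (.mov 283 17043521 false [.edge 1709 0 true]))))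
(.node 2 (.node 1 (.leaf (.mov 57 27529303 false [.plain 440 27883597 true, .edge 1709 88 false])) (.leaf (.mov 57 13510735 false [.plain 441 13574235 true, .edge 1711 569 false]))) (.node 1 (.leaf (.mov 57 29904967 false [.plain 440 29761627 true, .edge 1712 241 false])) (.leaf (.mov 57 32125001 false [.plain 442 31989839 true, .edge 1713 882 false])))))
(.node 4 (.node 2 (.node 1 (.leaf (.mov 57 7292999 false [.plain 440 7098433 true, .edge 1714 428 false])) (.leaf (.mov 57 31801425 false [.plain 441 31737929 true, .edge 1715 1131 false]))) (.node 1 (.leaf (.mov 57 10971209 false [.plain 440 10633283 true, .edge 1716 1053 false])) (.leaf (.eqT 57 10971209 false [.plain 443 11081821 true, .edge 1709 1472 false] [.edge 1717 0 false]))))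
(.node 2 (.node 1 (.leaf (.eq 283 17043521 [] [.plain 1718 17119313 false])) (.leaf .dfn)) (.node 1 (.leaf (.mov 57 4544593 true [.plain 440 4671573 true, .edge 1720 583 false])) (.leaf (.mov 57 29904967 true [.plain 441 29972545 true, .edge 1721 1373 false]))))))
(.node 7 (.node 3 (.node 1 (.leaf (.mov 57 32131155 true [.plain 440 31797325 true, .edge 1722 386 false])) (.node 1 (.leaf (.eqT 57 13510735 true [.plain 442 12732501 true, .edge 1720 1363 false] [.edge 1720 0 false])) (.leaf (.eqT 57 32131155 true [.plain 443 31924309 true, .edge 1720 1243 false] [.edge 1723 0 false]))))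
(.node 2 (.node 1 (.leaf (.eq 286 17043521 [] [.plain 1725 17119299 false])) (.leaf (.eq 286 17043521 [] [.plain 1724 27539523 false]))) (.node 1 (.leaf .dfn) (.leaf .dfn))))
(.node 4 (.node 2 (.node 1 (.leaf (.mov 288 17043521 true [.edge 1729 0 true])) (.leaf (.rel 57 4925517 1 [.edge 1720 1233 false, .mul, .edge 1728 118 false, .mul, .edge 1729 85 false, .mul, .mul]))) (.node 1 (.leaf (.eq 288 17043521 [] [.plain 1731 19755077 true])) (.leaf (.eqT 57 32131155 true [.plain 1732 11284561 true, .edge 1730 201 false] [.edge 1723 0 false]))))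
(.node 2 (.node 1 (.leaf (.eq 287 17043521 [] [.plain 1733 9179213 false])) (.leaf .dfn)) (.node 1 (.leaf .dfn) (.leaf (.mov 290 17043521 true [.edge 1736 0 true])))))))
(.node 15 (.node 7 (.node 3 (.node 1 (.leaf .dfn) (.node 1 (.leaf (.mov 291 17043521 true [.edge 1738 0 true])) (.leaf (.rel 57 19017801 1 [.edge 1735 1492 false, .mul, .edge 1736 485 false, .mul, .edge 1738 152 false, .mul, .mul]))))
(.node 2 (.node 1 (.leaf (.eq 291 17043521 [] [.plain 1740 8917087 true])) (.leaf (.eqT 57 19085399 true [.plain 1741 8919107 true, .edge 1739 1463 false] [.edge 444 0 false]))) (.node 1 (.leaf (.eq 290 27555909 [] [.plain 1742 17043521 false, .plain 451 17043521 false])) (.leaf (.eq 290 17043521 [] [.plain 1743 27545685 false])))))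
(.node 4 (.node 2 (.node 1 (.leaf (.eqT 53 10971209 true [.plain 1744 19667019 true, .edge 1737 1188 false] [.edge 453 0 false])) (.leaf (.eq 289 17043521 [] [.plain 1745 19664965 false]))) (.node 1 (.leaf .dfn) (.leaf (.mov 292 17043521 false [.edge 1747 0 true]))))
(.node 2 (.node 1 (.leaf (.mov 286 13510735 false [.plain 1726 17717329 true, .edge 1747 361 false])) (.leaf (.mov 286 19085399 false [.plain 1727 23275605 true, .edge 1749 1407 false]))) (.node 1 (.leaf (.mov 286 27529303 false [.plain 1726 19148893 true, .edge 1750 82 false])) (.leaf .dfn)))))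
(.node 8 (.node 4 (.node 2 (.node 1 (.leaf (.mov 293 17043521 false [.edge 1752 0 true])) (.leaf (.mov 71 31801425 false [.plain 526 32192591 true, .edge 1752 869 false]))) (.node 1 (.leaf (.eqT 71 31801425 false [.plain 527 31733841 true, .edge 1752 185 false] [.edge 1754 0 false])) (.leaf (.eq 293 17043521 [] [.plain 1755 17174621 false]))))
(.node 2 (.node 1 (.leaf .dfn) (.leaf (.mov 294 17043521 true [.edge 1757 0 true]))) (.node 1 (.leaf .dfn) (.leaf (.mov 295 17043521 false [.edge 1759 0 true])))))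
(.node 4 (.node 2 (.node 1 (.leaf (.rel 57 27875399 3 [.edge 550 1049 false, .plain 1500 11032657 false, .edge 1752 35 false, .mul, .edge 1757 1106 false, .mul, .edge 1759 950 false, .mul])) (.leaf (.eq 295 17043521 [] [.plain 1761 17528899 true]))) (.node 1 (.leaf (.eqT 57 4808797 false [.plain 1762 17698903 true, .edge 1760 239 false] [.edge 1709 0 false])) (.leaf (.eq 294 17043521 [] [.plain 1763 19032147 false]))))
(.node 2 (.node 1 (.leaf (.mov 283 10971209 true [.plain 1764 8927299 true, .edge 1758 624 false])) (.leaf .dfn)) (.node 1 (.leaf (.mov 53 31801425 false [.plain 414 31600713 true, .edge 1766 857 false])) (.leaf .dfn)))))))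
(.node 30 (.node 15 (.node 7 (.node 3 (.node 1 (.leaf .dfn) (.node 1 (.leaf (.mov 298 17043521 false [.edge 1769 0 true])) (.leaf (.rel 57 11415621 3 [.edge 444 670 false, .plain 451 27547713 false, .edge 1766 537 false, .mul, .edge 1768 187 false, .mul, .edge 1769 1185 false, .mul]))))
(.node 2 (.node 1 (.leaf (.eq 298 17043521 [] [.plain 1771 17178691 true])) (.leaf (.mov 57 13310023 false [.plain 1772 17045581 true, .edge 1770 86 false]))) (.node 1 (.leaf .dfn) (.leaf (.mov 71 32125001 false [.plain 526 31737943 true, .edge 1774 1492 false])))))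
(.node 4 (.node 2 (.node 1 (.leaf (.eqT 71 32125001 false [.plain 527 32196681 true, .edge 1774 498 false] [.edge 1775 0 false])) (.leaf (.eq 299 17043521 [] [.plain 1776 17000523 false]))) (.node 1 (.leaf .dfn) (.leaf .dfn)))
(.node 2 (.node 1 (.leaf (.mov 301 17043521 true [.edge 1779 0 true])) (.leaf .dfn)) (.node 1 (.leaf (.mov 302 17043521 false [.edge 1781 0 true])) (.leaf (.rel 57 15560777 6 [.edge 1721 37 false, .edge 1751 575 false, .mul, .edge 1778 373 false, .mul, .edge 1779 12 false, .edge 1781 1281 false, .mul]))))))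
(.node 7 (.node 3 (.node 1 (.leaf (.eq 302 17043521 [] [.plain 1783 19359825 true])) (.node 1 (.leaf (.eqT 57 10971209 false [.plain 1784 16932935 true, .edge 1782 1164 false] [.edge 1717 0 false])) (.leaf (.eq 301 17043521 [] [.plain 1785 17641567 false]))))
(.node 2 (.node 1 (.leaf (.mov 283 17043521 true [.plain 1786 17127499 true, .edge 1780 901 false])) (.leaf (.mov 283 17059919 true [.plain 1719 17649739 true, .edge 1787 820 false]))) (.node 1 (.leaf .dfn) (.leaf (.eqT 57 23928925 false [.plain 442 24000601 true, .edge 1789 1112 false] [.edge 1789 0 false])))))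
(.node 4 (.node 2 (.node 1 (.leaf (.eqT 57 23928925 false [.plain 443 24000591 true, .edge 1789 1334 false] [.edge 1789 0 false])) (.leaf (.eq 303 17043521 [] [.plain 1791 17174597 false]))) (.node 1 (.leaf (.eq 303 17043521 [] [.plain 1790 17764419 false])) (.leaf .dfn)))
(.node 2 (.node 1 (.leaf (.mov 303 17043521 true [.plain 1792 17174597 true, .edge 1794 1442 false])) (.leaf (.mov 303 25385043 true [.plain 1793 25516113 true, .edge 1795 1081 false]))) (.node 1 (.leaf (.mov 303 17059919 true [.plain 1792 17715291 true, .edge 1796 965 false])) (.leaf .dfn))))))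
(.node 15 (.node 7 (.node 3 (.node 1 (.leaf (.mov 305 17043521 true [.edge 1798 0 true])) (.node 1 (.leaf .dfn) (.leaf (.mov 306 17043521 true [.edge 1800 0 true]))))
(.node 2 (.node 1 (.leaf (.rel 57 11155547 7 [.edge 1735 428 false, .plain 1746 9261145 false, .edge 1789 1025 false, .edge 1794 1335 false, .mul, .edge 1798 638 false, .mul, .edge 1800 67 false, .mul])) (.leaf (.eq 306 17043521 [] [.plain 1802 27469891 true]))) (.node 1 (.leaf (.eqT 57 29904967 true [.plain 1803 17133633 true, .edge 1801 125 false] [.edge 1722 0 false])) (.leaf (.eq 305 17043521 [] [.plain 1804 21522507 false])))))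
(.node 4 (.node 2 (.node 1 (.leaf (.mov 286 4544593 true [.plain 1805 8927305 true, .edge 1799 727 false])) (.leaf .dfn)) (.node 1 (.leaf (.mov 57 13310023 true [.plain 440 13445195 true, .edge 1807 1485 false])) (.leaf (.mov 57 4808797 true [.plain 443 5197911 true, .edge 1808 1140 false]))))
(.node 2 (.node 1 (.leaf (.mov 57 32125001 true [.plain 440 31803479 true, .edge 1809 321 false])) (.leaf (.eqT 57 31801425 true [.plain 441 31737929 true, .edge 1807 1451 false] [.edge 1807 0 false]))) (.node 1 (.leaf (.eqT 57 13310023 true [.plain 442 12869723 true, .edge 1807 273 false] [.edge 1808 0 false])) (.leaf (.eq 307 17043521 [] [.plain 1812 9001049 false]))))))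
(.node 8 (.node 4 (.node 2 (.node 1 (.leaf (.eq 307 17043521 [] [.plain 1811 19140683 false])) (.leaf .dfn)) (.node 1 (.leaf (.mov 308 17043521 false [.edge 1815 0 true])) (.leaf (.mov 307 27529303 false [.plain 1813 17043551 true, .edge 1815 1282 false]))))
(.node 2 (.node 1 (.leaf (.mov 307 13510735 false [.plain 1814 15607889 true, .edge 1817 484 false])) (.leaf (.mov 307 19085399 false [.plain 1813 23279697 true, .edge 1818 265 false]))) (.node 1 (.leaf .dfn) (.leaf (.mov 309 17043521 true [.edge 1820 0 true])))))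
(.node 4 (.node 2 (.node 1 (.leaf .dfn) (.leaf (.mov 310 17043521 true [.edge 1822 0 true]))) (.node 1 (.leaf .dfn) (.leaf (.mov 311 17043521 true [.edge 1824 0 true]))))
(.node 2 (.node 1 (.leaf (.rel 57 23347281 7 [.edge 1807 739 false, .edge 1815 116 false, .edge 1820 1429 false, .mul, .edge 1822 390 false, .mul, .edge 1824 336 false, .mul])) (.leaf (.eq 311 17043521 [] [.plain 1826 10700865 true]))) (.node 1 (.leaf (.eqT 57 10971209 true [.plain 1827 17576019 true, .edge 1825 1378 false] [.edge 547 0 false])) (.leaf (.eq 310 12802127 [] [.plain 1828 17043521 false, .plain 1500 27807811 false])))))))))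
(.node 61 (.node 30 (.node 15 (.node 7 (.node 3 (.node 1 (.leaf (.eq 310 17043521 [] [.plain 1829 13445203 false])) (.node 1 (.leaf (.eqT 71 32131155 true [.plain 1830 25432145 true, .edge 1823 240 false] [.edge 1516 0 false])) (.leaf (.eq 309 17043521 [] [.plain 1831 17508437 false]))))
(.node 2 (.node 1 (.leaf (.mov 161 4544593 true [.plain 1832 27596873 true, .edge 1821 1235 false])) (.leaf .dfn)) (.node 1 (.leaf .dfn) (.leaf .dfn))))
(.node 4 (.node 2 (.node 1 (.leaf (.rel 60 19802201 0 [.edge 1834 51 false, .mul, .edge 1835 1509 false, .mul, .edge 1836 16 false, .mul, .mul])) (.leaf (.eq 316 17043521 [] [.plain 1837 19757137 true]))) (.node 1 (.leaf .dfn) (.leaf .dfn)))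
(.node 2 (.node 1 (.leaf (.mov 318 17043521 true [.edge 1840 0 true])) (.leaf .dfn)) (.node 1 (.leaf (.mov 319 17043521 true [.edge 1842 0 true])) (.leaf (.rel 60 17127519 1 [.edge 1839 845 false, .mul, .edge 1840 901 false, .mul, .edge 1842 600 false, .mul, .mul]))))))
(.node 7 (.node 3 (.node 1 (.leaf (.eq 319 17043521 [] [.plain 1844 17567821 true])) (.node 1 (.leaf (.eqT 60 17043521 true [.plain 1845 17651779 true, .edge 1843 914 false] [.edge 455 0 false])) (.leaf (.eq 318 17043521 [] [.plain 1846 17635421 false]))))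
(.node 2 (.node 1 (.leaf (.eqT 16 10971209 true [.plain 1847 17651779 true, .edge 1841 914 false] [.edge 456 0 false])) (.leaf (.eq 317 17043521 [] [.plain 1848 17635421 false]))) (.node 1 (.leaf .dfn) (.leaf (.mov 60 10971209 true [.plain 464 10960973 true, .edge 1850 476 false])))))
(.node 4 (.node 2 (.node 1 (.leaf (.mov 60 25385043 true [.plain 465 25380947 true, .edge 1851 32 false])) (.leaf (.mov 60 19085399 true [.plain 464 19099715 true, .edge 1852 1134 false]))) (.node 1 (.leaf (.eqT 60 19085399 true [.plain 463 19085381 true, .edge 1853 71 false] [.edge 1853 0 false])) (.leaf (.eqT 60 11495495 true [.plain 466 11495493 true, .edge 1850 81 false] [.edge 1850 0 false]))))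
(.node 2 (.node 1 (.leaf (.eqT 60 25385043 true [.plain 467 25380951 true, .edge 1850 1073 false] [.edge 1852 0 false])) (.leaf (.eqT 60 10971209 true [.plain 468 10963021 true, .edge 1850 134 false] [.edge 1851 0 false]))) (.node 1 (.leaf (.eq 320 17043521 [] [.plain 1857 11089993 false])) (.leaf (.eq 320 17043521 [] [.plain 1856 11350105 false])))))))
(.node 15 (.node 7 (.node 3 (.node 1 (.leaf (.eq 320 17043521 [] [.plain 1855 17045569 false])) (.node 1 (.leaf (.eq 320 17043521 [] [.plain 1854 27865153 false])) (.leaf .dfn)))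
(.node 2 (.node 1 (.leaf (.mov 28 7292999 false [.plain 231 28260421 true, .edge 1862 606 false])) (.leaf (.mov 28 23928925 false [.plain 233 23939167 true, .edge 1863 293 false]))) (.node 1 (.leaf (.mov 28 31801425 false [.plain 231 23421011 true, .edge 1864 588 false])) (.leaf .dfn))))
(.node 4 (.node 2 (.node 1 (.leaf .dfn) (.leaf .dfn)) (.node 1 (.leaf (.mov 326 17043521 false [.edge 1868 0 true])) (.leaf (.rel 60 19667029 3 [.edge 1839 806 false, .plain 1849 19732569 false, .edge 1866 1059 false, .mul, .edge 1867 682 false, .mul, .edge 1868 12 false, .mul]))))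
(.node 2 (.node 1 (.leaf (.eq 326 17043521 [] [.plain 1870 17784927 true])) (.leaf (.eqT 60 19085399 false [.plain 1871 17719389 true, .edge 1869 391 false] [.edge 1834 0 false]))) (.node 1 (.leaf (.eq 325 17043521 [] [.plain 1872 17705053 false])) (.leaf .dfn)))))
(.node 8 (.node 4 (.node 2 (.node 1 (.leaf (.mov 60 29904967 true [.plain 463 29904987 true, .edge 1874 138 false])) (.leaf (.mov 60 31801425 true [.plain 464 31799365 true, .edge 1875 1334 false]))) (.node 1 (.leaf (.mov 60 4808797 true [.plain 463 4808793 true, .edge 1876 878 false])) (.leaf (.eqT 60 4544593 true [.plain 465 4552785 true, .edge 1874 1535 false] [.edge 1874 0 false]))))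
(.node 2 (.node 1 (.leaf (.eqT 60 4544593 true [.plain 467 4552793 true, .edge 1874 1357 false] [.edge 1874 0 false])) (.leaf (.eqT 60 4808797 true [.plain 468 4814923 true, .edge 1874 87 false] [.edge 1877 0 false]))) (.node 1 (.leaf (.eq 327 17043521 [] [.plain 1880 27881547 false])) (.leaf (.eq 327 17043521 [] [.plain 1879 11081817 false])))))
(.node 4 (.node 2 (.node 1 (.leaf (.eq 327 17043521 [] [.plain 1878 11104345 false])) (.leaf .dfn)) (.node 1 (.leaf (.mov 327 19085399 false [.plain 1881 16932929 true, .edge 1884 280 false])) (.leaf (.mov 327 29904967 false [.plain 1882 19880011 true, .edge 1885 1438 false]))))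
(.node 2 (.node 1 (.leaf (.mov 327 4808797 false [.plain 1881 6828105 true, .edge 1886 654 false])) (.leaf (.eqT 327 4808797 false [.plain 1883 16988235 true, .edge 1884 419 false] [.edge 1887 0 false]))) (.node 1 (.leaf (.eq 328 17043521 [] [.plain 1888 17463387 false])) (.leaf .dfn)))))))
(.node 31 (.node 15 (.node 7 (.node 3 (.node 1 (.leaf (.mov 320 4808797 false [.plain 1858 6828107 true, .edge 1890 1126 false])) (.node 1 (.leaf (.mov 320 19085399 false [.plain 1859 6907969 true, .edge 1891 1175 false])) (.leaf (.mov 320 17043521 false [.plain 1858 19232857 true, .edge 1892 948 false]))))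
(.node 2 (.node 1 (.leaf (.eqT 320 29904967 false [.plain 1860 29907015 true, .edge 1890 1259 false] [.edge 1890 0 false])) (.leaf (.eqT 320 29904967 false [.plain 1861 29909063 true, .edge 1890 731 false] [.edge 1890 0 false]))) (.node 1 (.leaf (.eq 329 17043521 [] [.plain 1895 17053785 false])) (.leaf (.eq 329 17043521 [] [.plain 1894 17059921 false])))))
(.node 4 (.node 2 (.node 1 (.leaf .dfn) (.leaf (.eqT 329 19085399 false [.plain 1896 19081283 true, .edge 1898 1441 false] [.edge 1898 0 false]))) (.node 1 (.leaf (.eqT 329 19085399 false [.plain 1897 19099717 true, .edge 1898 996 false] [.edge 1898 0 false])) (.leaf (.eq 330 17043521 [] [.plain 1900 17633363 false]))))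
(.node 2 (.node 1 (.leaf (.eq 330 17043521 [] [.plain 1899 17698885 false])) (.leaf .dfn)) (.node 1 (.leaf (.mov 331 17043521 true [.edge 1903 0 true])) (.leaf .dfn)))))
(.node 8 (.node 4 (.node 2 (.node 1 (.leaf (.mov 332 17043521 false [.edge 1905 0 true])) (.leaf (.rel 60 11233363 6 [.edge 1851 1518 false, .edge 1890 491 false, .mul, .edge 1898 734 false, .mul, .edge 1903 597 false, .edge 1905 317 false, .mul]))) (.node 1 (.leaf (.eq 332 17043521 [] [.plain 1907 19337303 true])) (.leaf (.eqT 60 32125001 false [.plain 1908 17633359 true, .edge 1906 1265 false] [.edge 1026 0 false]))))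
(.node 2 (.node 1 (.leaf (.eq 331 17043521 [] [.plain 1909 27856983 false])) (.leaf (.mov 153 25385043 true [.plain 1910 17119299 true, .edge 1904 31 false]))) (.node 1 (.leaf (.mov 153 19085399 true [.plain 1004 19101777 true, .edge 1911 1462 false])) (.leaf .dfn))))
(.node 4 (.node 2 (.node 1 (.leaf .dfn) (.leaf .dfn)) (.node 1 (.leaf .dfn) (.leaf (.mov 336 17043521 false [.edge 1916 0 true]))))
(.node 2 (.node 1 (.leaf (.rel 60 23666761 6 [.edge 1876 1044 false, .edge 1913 1005 false, .mul, .edge 1914 272 false, .mul, .edge 1915 1030 false, .edge 1916 1214 false, .mul])) (.leaf (.eq 336 17043521 [] [.plain 1918 19222597 true]))) (.node 1 (.leaf (.eqT 60 29904967 false [.plain 1919 17526863 true, .edge 1917 714 false] [.edge 1866 0 false])) (.leaf (.eq 335 17043521 [] [.plain 1920 8872011 false])))))))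
(.node 15 (.node 7 (.node 3 (.node 1 (.leaf .dfn) (.node 1 (.leaf (.mov 328 17043521 true [.plain 1889 16916563 true, .edge 1922 984 false])) (.leaf .dfn)))
(.node 2 (.node 1 (.leaf .dfn) (.leaf (.mov 339 17043521 true [.edge 1925 0 true]))) (.node 1 (.leaf (.rel 60 6576201 7 [.edge 1874 1422 false, .edge 1885 154 false, .edge 1922 672 false, .mul, .edge 1924 1136 false, .mul, .edge 1925 1021 false, .mul])) (.leaf (.eq 339 17043521 [] [.plain 1927 27936833 true])))))
(.node 4 (.node 2 (.node 1 (.leaf (.eqT 60 11495495 true [.plain 1928 11292761 true, .edge 1926 1012 false] [.edge 1850 0 false])) (.leaf (.eq 338 17043521 [] [.plain 1929 27684929 false]))) (.node 1 (.leaf .dfn) (.leaf (.mov 340 17043521 true [.edge 1931 0 true]))))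
(.node 2 (.node 1 (.leaf .dfn) (.leaf (.mov 341 17043521 true [.edge 1933 0 true]))) (.node 1 (.leaf .dfn) (.leaf (.mov 342 17043521 true [.edge 1935 0 true]))))))
(.node 8 (.node 4 (.node 2 (.node 1 (.leaf (.rel 60 15028315 7 [.edge 1874 24 false, .edge 1887 956 false, .edge 1931 314 false, .mul, .edge 1933 520 false, .mul, .edge 1935 1146 false, .mul])) (.leaf (.eq 342 17043521 [] [.plain 1937 10633283 true]))) (.node 1 (.leaf (.eqT 60 13510735 true [.plain 1938 17594443 true, .edge 1936 30 false] [.edge 1021 0 false])) (.leaf (.eq 341 17043521 [] [.plain 1939 13453405 false]))))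
(.node 2 (.node 1 (.leaf (.eqT 28 10971209 true [.plain 1940 19142731 true, .edge 1934 1301 false] [.edge 814 0 false])) (.leaf (.eq 340 17043521 [] [.plain 1941 23617621 false]))) (.node 1 (.leaf (.mov 120 13310023 true [.plain 1942 11343955 true, .edge 1932 1211 false])) (.leaf .dfn))))
(.node 4 (.node 2 (.node 1 (.leaf (.mov 343 17043521 false [.edge 1944 0 true])) (.leaf (.rel 62 25628767 0 [.edge 1532 1104 false, .mul, .edge 1557 484 false, .mul, .edge 1944 946 false, .mul, .mul]))) (.node 1 (.leaf (.eq 343 17043521 [] [.plain 1946 19861581 true])) (.leaf (.eqT 62 9056345 false [.plain 1947 16920663 true, .edge 1945 771 false] [.edge 1528 0 false]))))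
(.node 2 (.node 1 (.leaf (.eq 253 17043521 [] [.plain 1948 19732575 false])) (.leaf (.mov 248 19085399 true [.plain 1949 16939097 true, .edge 1558 59 false]))) (.node 1 (.leaf .dfn) (.leaf (.mov 344 17043521 false [.edge 1951 0 true]))))))))))

/-- The reasons. -/
def caseCFullSrcLLRR : Tab Src := .node 244 caseCFullSrcLLRRL caseCFullSrcLLRRR

/-- The reasons. -/
def caseCFullSrcLLR : Tab Src := .node 488 caseCFullSrcLLRL caseCFullSrcLLRR

/-- The reasons. -/
def caseCFullSrcLL : Tab Src := .node 976 caseCFullSrcLLL caseCFullSrcLLR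

/-- The reasons. -/
def caseCFullSrcLRLLL : Tab Src :=
(.node 122 (.node 61 (.node 30 (.node 15 (.node 7 (.node 3 (.node 1 (.leaf (.mov 62 29904967 false [.plain 484 29757515 true, .edge 1951 558 false])) (.node 1 (.leaf (.eqT 62 29904967 false [.plain 485 29911127 true, .edge 1953 1368 false] [.edge 1953 0 false])) (.leaf (.eqT 62 13510735 false [.plain 485 13525075 true, .edge 1951 1229 false] [.edge 1951 0 false]))))
(.node 2 (.node 1 (.leaf (.eq 344 17043521 [] [.plain 1955 17043529 false])) (.leaf (.eq 344 17043521 [] [.plain 1954 17569879 false]))) (.node 1 (.leaf .dfn) (.leaf (.mov 345 17043521 false [.edge 1958 0 true])))))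
(.node 4 (.node 2 (.node 1 (.leaf (.eqT 344 19085399 false [.plain 1956 19085393 true, .edge 1958 1045 false] [.edge 1958 0 false])) (.leaf (.eqT 344 19085399 false [.plain 1957 19081285 true, .edge 1958 1277 false] [.edge 1958 0 false]))) (.node 1 (.leaf (.eq 345 17043521 [] [.plain 1961 17240129 false])) (.leaf (.eq 345 17043521 [] [.plain 1960 17633349 false]))))
(.node 2 (.node 1 (.leaf .dfn) (.leaf (.mov 346 17043521 false [.edge 1964 0 true]))) (.node 1 (.leaf (.rel 62 4874325 0 [.edge 1951 278 false, .mul, .edge 1958 1507 false, .mul, .edge 1964 1172 false, .mul, .mul])) (.leaf (.eq 346 17043521 [] [.plain 1966 19884109 true]))))))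
(.node 7 (.node 3 (.node 1 (.leaf (.mov 62 27529303 false [.plain 1967 17051739 true, .edge 1965 1145 false])) (.node 1 (.leaf (.mov 62 4808797 false [.plain 484 4925515 true, .edge 1968 784 false])) (.leaf .dfn)))
(.node 2 (.node 1 (.leaf .dfn) (.leaf .dfn)) (.node 1 (.leaf (.mov 351 17043521 true [.edge 1972 0 true])) (.leaf (.rel 62 23687261 1 [.edge 1470 585 false, .mul, .edge 1971 1022 false, .mul, .edge 1972 1034 false, .mul, .mul])))))
(.node 4 (.node 2 (.node 1 (.leaf (.eq 351 17043521 [] [.plain 1974 9007191 true])) (.leaf (.eqT 62 4544593 true [.plain 1975 19157059 true, .edge 1973 40 false] [.edge 1465 0 false]))) (.node 1 (.leaf (.eq 350 17043521 [] [.plain 1976 19216471 false])) (.leaf .dfn)))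
(.node 2 (.node 1 (.leaf .dfn) (.leaf .dfn)) (.node 1 (.leaf (.mov 354 17043521 false [.edge 1980 0 true])) (.leaf (.rel 62 29958239 3 [.edge 1463 141 false, .edge 1978 492 false, .mul, .edge 1979 1027 false, .mul, .edge 1980 651 false, .mul])))))))
(.node 15 (.node 7 (.node 3 (.node 1 (.leaf (.eq 354 17043521 [] [.plain 1982 16988229 true])) (.node 1 (.leaf (.eqT 62 4808797 false [.plain 1983 17459265 true, .edge 1981 1381 false] [.edge 1969 0 false])) (.leaf (.eq 353 17043521 [] [.plain 1984 19796043 false]))))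
(.node 2 (.node 1 (.leaf .dfn) (.leaf .dfn)) (.node 1 (.leaf (.mov 356 17043521 false [.edge 1987 0 true])) (.leaf .dfn))))
(.node 4 (.node 2 (.node 1 (.leaf (.mov 357 17043521 true [.edge 1989 0 true])) (.leaf .dfn)) (.node 1 (.leaf (.mov 358 17043521 false [.edge 1991 0 true])) (.leaf (.rel 62 21459023 6 [.edge 1464 1258 false, .edge 1440 857 false, .plain 1450 17045571 false, .mul, .edge 1389 1402 false, .mul, .edge 1989 925 false, .edge 1991 288 false, .mul]))))
(.node 2 (.node 1 (.leaf (.eq 358 17043521 [] [.plain 1993 19540053 true])) (.leaf (.eqT 62 13310023 false [.plain 1994 17721435 true, .edge 1992 72 false] [.edge 1530 0 false]))) (.node 1 (.leaf (.eq 357 17043521 [] [.plain 1995 19034195 false])) (.leaf (.mov 248 17059919 true [.plain 1996 19150931 true, .edge 1990 1221 false]))))))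
(.node 8 (.node 4 (.node 2 (.node 1 (.leaf .dfn) (.leaf .dfn)) (.node 1 (.leaf (.mov 364 17043521 true [.edge 1999 0 true])) (.leaf .dfn)))
(.node 2 (.node 1 (.leaf (.mov 365 17043521 true [.edge 2001 0 true])) (.leaf (.rel 62 29778013 7 [.edge 1467 523 false, .edge 1987 916 false, .edge 1998 1301 false, .mul, .edge 1999 1017 false, .mul, .edge 2001 1406 false, .mul]))) (.node 1 (.leaf (.eq 365 17043521 [] [.plain 2003 9136219 true])) (.leaf (.eqT 62 13310023 true [.plain 2004 19738689 true, .edge 2002 257 false] [.edge 1464 0 false])))))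
(.node 4 (.node 2 (.node 1 (.leaf (.eq 364 17043521 [] [.plain 2005 15484999 false])) (.leaf (.mov 223 29904967 true [.plain 2006 8990811 true, .edge 2000 941 false]))) (.node 1 (.leaf .dfn) (.leaf (.mov 366 17043521 true [.edge 2008 0 true]))))
(.node 2 (.node 1 (.leaf (.rel 62 15540289 7 [.edge 1468 1248 false, .edge 1389 649 false, .edge 1381 459 false, .plain 1387 19216457 false, .mul, .edge 1989 236 false, .plain 1996 19140673 false, .mul, .edge 2008 347 false, .mul])) (.leaf (.eq 366 17043521 [] [.plain 2010 25897049 true]))) (.node 1 (.leaf (.eqT 62 32125001 true [.plain 2011 8984659 true, .edge 2009 395 false] [.edge 1469 0 false])) (.leaf (.eq 248 17043521 [] [.plain 2012 6824023 false]))))))))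
(.node 30 (.node 15 (.node 7 (.node 3 (.node 1 (.leaf (.mov 223 23928925 false [.plain 2013 17190979 true, .edge 1527 943 false])) (.node 1 (.leaf (.eqT 223 13310023 false [.plain 2013 19740749 true, .edge 1557 1501 false] [.edge 1986 0 false])) (.leaf (.mov 223 31801425 true [.plain 2013 25849951 true, .edge 1950 45 false]))))
(.node 2 (.node 1 (.leaf (.mov 223 13310023 true [.plain 2013 19740749 true, .edge 1997 1478 false])) (.leaf (.eq 253 17641559 [.plain 1949 17641559 false, .plain 2013 19689547 false] [.plain 2015 17043521 false]))) (.node 1 (.leaf (.eq 355 17043521 [] [.plain 2018 17043521 true])) (.leaf .dfn))))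
(.node 4 (.node 2 (.node 1 (.leaf .dfn) (.leaf (.mov 368 17043521 false [.edge 2021 0 true]))) (.node 1 (.leaf (.rel 71 30105685 0 [.edge 1555 1070 false, .mul, .edge 2020 1250 false, .mul, .edge 2021 130 false, .mul, .mul])) (.leaf (.eq 368 17043521 [] [.plain 2023 19802185 true]))))
(.node 2 (.node 1 (.leaf (.eqT 71 9056345 false [.plain 2024 16982089 true, .edge 2022 388 false] [.edge 1556 0 false])) (.leaf (.eq 367 17043521 [] [.plain 2025 19271747 false]))) (.node 1 (.leaf .dfn) (.leaf (.mov 369 17043521 false [.edge 2027 0 true]))))))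
(.node 7 (.node 3 (.node 1 (.leaf .dfn) (.node 1 (.leaf (.mov 370 17043521 false [.edge 2029 0 true])) (.leaf (.rel 71 32262209 0 [.edge 1774 110 false, .mul, .edge 2027 254 false, .mul, .edge 2029 669 false, .mul, .mul]))))
(.node 2 (.node 1 (.leaf (.eq 370 17043521 [] [.plain 2031 19691595 true])) (.leaf (.eqT 71 31801425 false [.plain 2032 17051739 true, .edge 2030 1145 false] [.edge 1754 0 false]))) (.node 1 (.leaf (.eq 369 17043521 [] [.plain 2033 19740751 false])) (.leaf (.mov 293 19085399 false [.plain 2034 17641555 true, .edge 2028 319 false])))))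
(.node 4 (.node 2 (.node 1 (.leaf .dfn) (.leaf .dfn)) (.node 1 (.leaf (.mov 372 17043521 true [.edge 2037 0 true])) (.leaf .dfn)))
(.node 2 (.node 1 (.leaf (.mov 373 17043521 true [.edge 2039 0 true])) (.leaf (.rel 71 8806483 1 [.edge 2036 1162 false, .mul, .edge 2037 637 false, .mul, .edge 2039 1013 false, .mul, .mul]))) (.node 1 (.leaf (.eq 373 17043521 [] [.plain 2041 17569877 true])) (.leaf (.eqT 71 11495495 true [.plain 2042 17651795 true, .edge 2040 1128 false] [.edge 1501 0 false])))))))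
(.node 15 (.node 7 (.node 3 (.node 1 (.leaf (.eq 372 17651805 [] [.plain 2043 17043521 false, .plain 546 27555913 false])) (.node 1 (.leaf (.eq 372 17043521 [] [.plain 2044 17651805 false])) (.leaf (.eqT 57 11495495 true [.plain 2045 17070153 true, .edge 2038 1231 false] [.edge 548 0 false]))))
(.node 2 (.node 1 (.leaf (.eq 371 17053789 [] [.plain 2046 17043521 false, .plain 1500 27873355 false])) (.leaf (.eq 371 17043521 [] [.plain 2047 17053783 false]))) (.node 1 (.leaf .dfn) (.leaf (.mov 374 17043521 false [.edge 2049 0 true])))))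
(.node 4 (.node 2 (.node 1 (.leaf .dfn) (.leaf .dfn)) (.node 1 (.leaf (.mov 376 17043521 true [.edge 2052 0 true])) (.leaf .dfn)))
(.node 2 (.node 1 (.leaf (.mov 377 17043521 false [.edge 2054 0 true])) (.leaf (.rel 71 21895237 3 [.edge 1485 485 false, .edge 2051 237 false, .mul, .edge 2052 1073 false, .mul, .edge 2054 1092 false, .mul]))) (.node 1 (.leaf (.eq 377 17043521 [] [.plain 2056 17766465 true])) (.leaf (.eqT 71 32125001 false [.plain 2057 17444935 true, .edge 2055 1367 false] [.edge 1775 0 false]))))))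
(.node 8 (.node 4 (.node 2 (.node 1 (.leaf (.eq 376 17043521 [] [.plain 2058 17512527 false])) (.leaf (.mov 299 17059919 true [.plain 2059 17043545 true, .edge 2053 1158 false]))) (.node 1 (.leaf (.mov 299 25385043 true [.plain 1777 25712735 true, .edge 2060 799 false])) (.leaf .dfn)))
(.node 2 (.node 1 (.leaf .dfn) (.leaf (.mov 379 17043521 false [.edge 2063 0 true]))) (.node 1 (.leaf (.rel 71 25894985 3 [.edge 2036 1347 false, .plain 2048 17635401 false, .edge 1775 969 false, .mul, .edge 2062 476 false, .mul, .edge 2063 175 false, .mul])) (.leaf (.eq 379 17043521 [] [.plain 2065 17135707 true])))))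
(.node 4 (.node 2 (.node 1 (.leaf (.eqT 71 10971209 false [.plain 2066 17586265 true, .edge 2064 563 false] [.edge 1752 0 false])) (.leaf (.eq 378 17043521 [] [.plain 2067 25374811 false]))) (.node 1 (.leaf .dfn) (.leaf (.mov 380 17043521 false [.edge 2069 0 true]))))
(.node 2 (.node 1 (.leaf .dfn) (.leaf (.mov 381 17043521 false [.edge 2071 0 true]))) (.node 1 (.leaf .dfn) (.leaf (.mov 382 17043521 true [.edge 2073 0 true])))))))))
(.node 61 (.node 30 (.node 15 (.node 7 (.node 3 (.node 1 (.leaf .dfn) (.node 1 (.leaf (.mov 383 17043521 false [.edge 2075 0 true])) (.leaf (.rel 71 7290949 6 [.edge 1486 984 false, .edge 2069 1369 false, .mul, .edge 2071 253 false, .mul, .edge 2073 639 false, .edge 2075 1363 false, .mul]))))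
(.node 2 (.node 1 (.leaf (.eq 383 17043521 [] [.plain 2077 19544149 true])) (.leaf (.eqT 71 7292999 false [.plain 2078 17721417 true, .edge 2076 1177 false] [.edge 1774 0 false]))) (.node 1 (.leaf (.eq 382 17043521 [] [.plain 2079 19034179 false])) (.leaf (.eqT 299 25385043 true [.plain 2080 27596881 true, .edge 2074 385 false] [.edge 2061 0 false])))))
(.node 4 (.node 2 (.node 1 (.leaf (.eq 381 17043521 [] [.plain 2081 11030605 false])) (.leaf (.mov 375 19085399 false [.plain 2082 17457241 true, .edge 2072 1369 false]))) (.node 1 (.leaf .dfn) (.leaf (.mov 83 10971209 true [.plain 588 10967113 true, .edge 2084 4 false]))))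
(.node 2 (.node 1 (.leaf (.mov 83 11495495 true [.plain 589 11487313 true, .edge 2085 1427 false])) (.leaf (.eqT 83 25385043 true [.plain 590 25376851 true, .edge 2084 1144 false] [.edge 2084 0 false]))) (.node 1 (.leaf (.eqT 83 11495495 true [.plain 591 11481177 true, .edge 2084 734 false] [.edge 2086 0 false])) (.leaf (.eq 390 17043521 [] [.plain 2088 19683395 false]))))))
(.node 7 (.node 3 (.node 1 (.leaf (.eq 390 17043521 [] [.plain 2087 27537481 false])) (.node 1 (.leaf .dfn) (.leaf .dfn)))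
(.node 2 (.node 1 (.leaf .dfn) (.leaf (.mov 395 17043521 true [.edge 2093 0 true]))) (.node 1 (.leaf (.rel 83 25434203 1 [.edge 2091 461 false, .mul, .edge 2092 58 false, .mul, .edge 2093 24 false, .mul, .mul])) (.leaf (.eq 395 17043521 [] [.plain 2095 11341903 true])))))
(.node 4 (.node 2 (.node 1 (.leaf (.mov 83 17059919 true [.plain 2096 17651795 true, .edge 2094 1128 false])) (.leaf .dfn)) (.node 1 (.leaf (.mov 390 13510735 false [.plain 2089 15605841 true, .edge 2098 431 false])) (.leaf (.mov 390 19085399 false [.plain 2090 23273553 true, .edge 2099 1239 false]))))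
(.node 2 (.node 1 (.leaf .dfn) (.leaf (.mov 83 31801425 true [.plain 587 31797329 true, .edge 2101 528 false]))) (.node 1 (.leaf (.mov 83 29904967 true [.plain 589 29894729 true, .edge 2102 1417 false])) (.leaf (.mov 83 4808797 true [.plain 587 4814941 true, .edge 2103 1401 false])))))))
(.node 15 (.node 7 (.node 3 (.node 1 (.leaf (.eqT 83 29904967 true [.plain 592 29890651 true, .edge 2101 813 false] [.edge 2103 0 false])) (.node 1 (.leaf (.eq 398 17043521 [] [.plain 2105 25776203 false])) (.leaf .dfn)))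
(.node 2 (.node 1 (.leaf .dfn) (.leaf (.mov 83 13310023 true [.plain 587 13312071 true, .edge 2108 1235 false]))) (.node 1 (.leaf (.mov 83 32125001 true [.plain 591 32116829 true, .edge 2109 498 false])) (.leaf (.mov 83 32131155 true [.plain 587 32127059 true, .edge 2110 1165 false])))))
(.node 4 (.node 2 (.node 1 (.leaf (.eqT 83 13310023 true [.plain 588 13322311 true, .edge 2108 64 false] [.edge 2109 0 false])) (.leaf (.eqT 83 13310023 true [.plain 589 13312095 true, .edge 2108 385 false] [.edge 2109 0 false]))) (.node 1 (.leaf (.eqT 83 32125001 true [.plain 592 32139351 true, .edge 2108 400 false] [.edge 2110 0 false])) (.leaf (.eq 403 17043521 [] [.plain 2114 9187395 false]))))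
(.node 2 (.node 1 (.leaf (.eq 403 17043521 [] [.plain 2113 11014227 false])) (.leaf (.eq 403 17043521 [] [.plain 2112 27807809 false]))) (.node 1 (.leaf .dfn) (.leaf (.mov 403 4808797 false [.plain 2115 4745305 true, .edge 2118 112 false]))))))
(.node 8 (.node 4 (.node 2 (.node 1 (.leaf (.mov 403 27529303 false [.plain 2117 27859023 true, .edge 2119 1513 false])) (.leaf (.mov 403 13510735 false [.plain 2115 13574211 true, .edge 2120 512 false]))) (.node 1 (.leaf (.eqT 403 29904967 false [.plain 2116 29894727 true, .edge 2118 1304 false] [.edge 2118 0 false])) (.leaf (.eq 404 17043521 [] [.plain 2122 17068107 false]))))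
(.node 2 (.node 1 (.leaf .dfn) (.leaf .dfn)) (.node 1 (.leaf .dfn) (.leaf (.mov 407 17043521 true [.edge 2126 0 true])))))
(.node 4 (.node 2 (.node 1 (.leaf .dfn) (.leaf (.mov 408 17043521 false [.edge 2128 0 true]))) (.node 1 (.leaf (.rel 83 27873355 6 [.edge 2091 756 false, .edge 2124 1473 false, .mul, .edge 2125 350 false, .mul, .edge 2126 1009 false, .edge 2128 511 false, .mul])) (.leaf (.eq 408 17043521 [] [.plain 2130 19339333 true]))))
(.node 2 (.node 1 (.leaf (.mov 83 29904967 false [.plain 2131 17109069 true, .edge 2129 213 false])) (.leaf .dfn)) (.node 1 (.leaf .dfn) (.leaf (.mov 413 17043521 true [.edge 2134 0 true]))))))))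
(.node 30 (.node 15 (.node 7 (.node 3 (.node 1 (.leaf .dfn) (.node 1 (.leaf (.mov 414 17043521 true [.edge 2136 0 true])) (.leaf (.rel 83 25378905 7 [.edge 2085 1394 false, .edge 2100 465 false, .edge 2133 1185 false, .mul, .edge 2134 344 false, .mul, .edge 2136 555 false, .mul]))))
(.node 2 (.node 1 (.leaf (.eq 414 17043521 [] [.plain 2138 27928659 true])) (.leaf (.eqT 83 4808797 true [.plain 2139 8998995 true, .edge 2137 445 false] [.edge 2104 0 false]))) (.node 1 (.leaf (.eq 413 17043521 [] [.plain 2140 6824019 false])) (.leaf (.mov 398 19085399 true [.plain 2141 17584193 true, .edge 2135 286 false])))))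
(.node 4 (.node 2 (.node 1 (.leaf (.mov 398 4544593 true [.plain 2106 8605791 true, .edge 2142 581 false])) (.leaf .dfn)) (.node 1 (.leaf (.mov 404 19085399 true [.plain 2123 19097683 true, .edge 2144 673 false])) (.leaf .dfn)))
(.node 2 (.node 1 (.leaf (.mov 416 17043521 true [.edge 2146 0 true])) (.leaf .dfn)) (.node 1 (.leaf (.mov 417 17043521 true [.edge 2148 0 true])) (.leaf (.rel 83 30105671 7 [.edge 2108 340 false, .edge 2119 629 false, .edge 2144 918 false, .mul, .edge 2146 892 false, .mul, .edge 2148 1228 false, .mul]))))))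
(.node 7 (.node 3 (.node 1 (.leaf (.eq 417 17043521 [] [.plain 2150 27664465 true])) (.node 1 (.leaf (.eqT 83 4544593 true [.plain 2151 11106379 true, .edge 2149 79 false] [.edge 2101 0 false])) (.leaf (.eq 416 17043521 [] [.plain 2152 6910019 false]))))
(.node 2 (.node 1 (.leaf (.eqT 398 4544593 true [.plain 2153 9181267 true, .edge 2147 270 false] [.edge 2143 0 false])) (.leaf (.eq 415 17043521 [] [.plain 2154 5193805 false]))) (.node 1 (.leaf .dfn) (.leaf (.eqT 84 10971209 true [.plain 601 10643537 true, .edge 2156 1100 false] [.edge 2156 0 false])))))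
(.node 4 (.node 2 (.node 1 (.leaf (.eqT 84 10971209 true [.plain 602 11233345 true, .edge 2156 930 false] [.edge 2156 0 false])) (.leaf (.eq 421 17043521 [] [.plain 2158 17070155 false]))) (.node 1 (.leaf (.eq 421 17043521 [] [.plain 2157 17053785 false])) (.leaf .dfn)))
(.node 2 (.node 1 (.leaf (.eqT 421 17059919 true [.plain 2159 17053765 true, .edge 2161 690 false] [.edge 2161 0 false])) (.leaf (.eqT 421 17059919 true [.plain 2160 17070167 true, .edge 2161 1355 false] [.edge 2161 0 false]))) (.node 1 (.leaf (.eq 422 17043521 [] [.plain 2163 17061977 false])) (.leaf (.eq 422 17043521 [] [.plain 2162 17059913 false])))))))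
(.node 15 (.node 7 (.node 3 (.node 1 (.leaf .dfn) (.node 1 (.leaf (.mov 423 17043521 true [.edge 2166 0 true])) (.leaf (.rel 84 25305169 1 [.edge 2156 446 false, .mul, .edge 2161 101 false, .mul, .edge 2166 742 false, .mul, .mul]))))
(.node 2 (.node 1 (.leaf (.eq 423 17043521 [] [.plain 2168 17070167 true])) (.leaf (.mov 84 11495495 true [.plain 2169 17651795 true, .edge 2167 1128 false]))) (.node 1 (.leaf .dfn) (.leaf (.mov 430 17043521 true [.edge 2171 0 true])))))
(.node 4 (.node 2 (.node 1 (.leaf (.mov 84 13510735 true [.plain 599 13248587 true, .edge 2171 696 false])) (.leaf (.mov 84 4808797 true [.plain 600 4874333 true, .edge 2173 452 false]))) (.node 1 (.leaf (.mov 84 31801425 true [.plain 599 32260189 true, .edge 2174 718 false])) (.leaf .dfn)))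
(.node 2 (.node 1 (.leaf (.mov 431 17043521 false [.edge 2176 0 true])) (.leaf .dfn)) (.node 1 (.leaf (.mov 432 17043521 true [.edge 2178 0 true])) (.leaf .dfn)))))
(.node 8 (.node 4 (.node 2 (.node 1 (.leaf (.mov 433 17043521 false [.edge 2180 0 true])) (.leaf (.rel 84 31604811 3 [.edge 2171 793 false, .edge 2176 748 false, .mul, .edge 2178 18 false, .mul, .edge 2180 257 false, .mul]))) (.node 1 (.leaf (.eq 433 17043521 [] [.plain 2182 17643585 true])) (.leaf (.mov 84 31801425 false [.plain 2183 17461333 true, .edge 2181 750 false]))))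
(.node 2 (.node 1 (.leaf (.eqT 84 31801425 false [.plain 601 32129091 true, .edge 2184 1513 false] [.edge 2184 0 false])) (.leaf (.eqT 84 31801425 false [.plain 602 32260173 true, .edge 2184 1229 false] [.edge 2184 0 false]))) (.node 1 (.leaf (.eq 432 17043521 [] [.plain 2186 25643093 false])) (.leaf (.eq 432 17043521 [] [.plain 2185 25655387 false])))))
(.node 4 (.node 2 (.node 1 (.leaf (.mov 432 32131155 true [.plain 2188 25776211 true, .edge 2179 1396 false])) (.leaf (.mov 432 13510735 true [.plain 2187 13510747 true, .edge 2189 516 false]))) (.node 1 (.leaf .dfn) (.leaf (.mov 434 17043521 false [.edge 2191 0 true]))))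
(.node 2 (.node 1 (.leaf .dfn) (.leaf (.mov 435 17043521 true [.edge 2193 0 true]))) (.node 1 (.leaf .dfn) (.leaf (.mov 436 17043521 false [.edge 2195 0 true]))))))))))

/-- The reasons. -/
def caseCFullSrcLRLLR : Tab Src :=
(.node 122 (.node 61 (.node 30 (.node 15 (.node 7 (.node 3 (.node 1 (.leaf (.rel 84 17440839 3 [.edge 2170 1477 false, .edge 2191 562 false, .mul, .edge 2193 12 false, .mul, .edge 2195 647 false, .mul])) (.node 1 (.leaf (.eq 436 17043521 [] [.plain 2197 17061953 true])) (.leaf (.eqT 84 17043521 false [.plain 2198 16918619 true, .edge 2196 1270 false] [.edge 594 0 false]))))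
(.node 2 (.node 1 (.leaf (.eq 435 17043521 [] [.plain 2199 25372767 false])) (.leaf (.eqT 83 17059919 true [.plain 2200 11300953 true, .edge 2194 331 false] [.edge 2097 0 false]))) (.node 1 (.leaf (.eq 434 17043521 [] [.plain 2201 19097687 false])) (.leaf (.mov 394 19085399 false [.plain 2202 17190987 true, .edge 2192 219 false])))))
(.node 4 (.node 2 (.node 1 (.leaf .dfn) (.leaf (.eqT 422 27529303 false [.plain 2164 27553861 true, .edge 2204 1459 false] [.edge 2204 0 false]))) (.node 1 (.leaf (.eqT 422 27529303 false [.plain 2165 27555935 true, .edge 2204 1411 false] [.edge 2204 0 false])) (.leaf (.eq 447 17043521 [] [.plain 2206 16916545 false]))))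
(.node 2 (.node 1 (.leaf (.eq 447 17043521 [] [.plain 2205 16984143 false])) (.leaf .dfn)) (.node 1 (.leaf (.mov 447 10971209 true [.plain 2207 11352137 true, .edge 2209 561 false])) (.leaf (.mov 447 17059919 true [.plain 2208 17508433 true, .edge 2210 1210 false]))))))
(.node 7 (.node 3 (.node 1 (.leaf (.mov 447 11495495 true [.plain 2207 11368519 true, .edge 2211 327 false])) (.node 1 (.leaf .dfn) (.leaf .dfn)))
(.node 2 (.node 1 (.leaf (.mov 450 17043521 true [.edge 2214 0 true])) (.leaf (.rel 84 25837639 7 [.edge 2170 1214 false, .edge 2204 81 false, .edge 2209 71 false, .mul, .edge 2213 1444 false, .mul, .edge 2214 357 false, .mul]))) (.node 1 (.leaf (.eq 450 17043521 [] [.plain 2216 10700867 true])) (.leaf (.eqT 84 31801425 true [.plain 2217 25768011 true, .edge 2215 140 false] [.edge 2175 0 false])))))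
(.node 4 (.node 2 (.node 1 (.leaf (.eq 449 17043521 [] [.plain 2218 27750475 false])) (.leaf .dfn)) (.node 1 (.leaf (.mov 451 17043521 false [.edge 2220 0 true])) (.leaf (.mov 86 32125001 false [.plain 621 31746129 true, .edge 2220 444 false]))))
(.node 2 (.node 1 (.leaf (.mov 86 9056345 false [.plain 621 9398337 true, .edge 2222 649 false])) (.leaf (.mov 86 31801425 false [.plain 621 32202827 true, .edge 2223 698 false]))) (.node 1 (.leaf (.eqT 86 31801425 false [.plain 622 31809615 true, .edge 2220 394 false] [.edge 2224 0 false])) (.leaf (.eqT 86 9056345 false [.plain 623 9050189 true, .edge 2220 133 false] [.edge 2223 0 false])))))))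
(.node 15 (.node 7 (.node 3 (.node 1 (.leaf (.eq 451 17043521 [] [.plain 2226 17117267 false])) (.node 1 (.leaf (.eq 451 17043521 [] [.plain 2225 16918605 false])) (.leaf .dfn)))
(.node 2 (.node 1 (.leaf (.eqT 451 19085399 false [.plain 2227 19609691 true, .edge 2229 981 false] [.edge 2229 0 false])) (.leaf (.eqT 451 19085399 false [.plain 2228 19150917 true, .edge 2229 1200 false] [.edge 2229 0 false]))) (.node 1 (.leaf (.eq 452 17043521 [] [.plain 2231 17070171 false])) (.leaf (.eq 452 17043521 [] [.plain 2230 17059913 false])))))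
(.node 4 (.node 2 (.node 1 (.leaf .dfn) (.leaf (.mov 453 17043521 false [.edge 2234 0 true]))) (.node 1 (.leaf (.rel 86 23865431 0 [.edge 2220 23 false, .mul, .edge 2229 432 false, .mul, .edge 2234 789 false, .mul, .mul])) (.leaf (.eq 453 17043521 [] [.plain 2236 19288145 true]))))
(.node 2 (.node 1 (.leaf (.mov 86 13310023 false [.plain 2237 17051739 true, .edge 2235 1145 false])) (.leaf (.mov 86 10971209 false [.plain 621 10704989 true, .edge 2238 525 false]))) (.node 1 (.leaf (.mov 86 6776923 false [.plain 621 6641743 true, .edge 2239 1518 false])) (.leaf (.mov 86 7292999 false [.plain 621 7157835 true, .edge 2240 478 false]))))))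
(.node 8 (.node 4 (.node 2 (.node 1 (.leaf .dfn) (.leaf .dfn)) (.node 1 (.leaf (.mov 455 17043521 true [.edge 2243 0 true])) (.leaf (.rel 86 8941657 1 [.edge 675 202 false, .mul, .edge 2242 1086 false, .mul, .edge 2243 1088 false, .mul, .mul]))))
(.node 2 (.node 1 (.leaf (.eq 455 17043521 [] [.plain 2245 17127493 true])) (.leaf (.eqT 86 17059919 true [.plain 2246 8984657 true, .edge 2244 299 false] [.edge 676 0 false]))) (.node 1 (.leaf (.eq 454 17043521 [] [.plain 2247 25522245 false])) (.leaf .dfn))))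
(.node 4 (.node 2 (.node 1 (.leaf (.mov 456 17043521 true [.edge 2249 0 true])) (.leaf (.mov 86 11495495 true [.plain 621 11212867 true, .edge 2249 1432 false]))) (.node 1 (.leaf (.mov 86 19085399 true [.plain 621 19605599 true, .edge 2251 1164 false])) (.leaf (.mov 86 10971209 true [.plain 621 10704989 true, .edge 2252 883 false]))))
(.node 2 (.node 1 (.leaf .dfn) (.leaf .dfn)) (.node 1 (.leaf (.mov 458 17043521 true [.edge 2255 0 true])) (.leaf (.rel 86 25563203 1 [.edge 2249 727 false, .mul, .edge 2254 784 false, .mul, .edge 2255 981 false, .mul, .mul]))))))))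
(.node 30 (.node 15 (.node 7 (.node 3 (.node 1 (.leaf (.eq 458 17043521 [] [.plain 2257 27807821 true])) (.node 1 (.leaf (.eqT 86 19085399 true [.plain 2258 8919107 true, .edge 2256 1463 false] [.edge 2252 0 false])) (.leaf (.eq 457 17043521 [] [.plain 2259 27545685 false]))))
(.node 2 (.node 1 (.leaf .dfn) (.leaf (.eqT 93 32125001 false [.plain 666 31797319 true, .edge 2261 1505 false] [.edge 2261 0 false]))) (.node 1 (.leaf (.eq 459 17043521 [] [.plain 2262 17053777 false])) (.leaf .dfn))))
(.node 4 (.node 2 (.node 1 (.leaf .dfn) (.leaf .dfn)) (.node 1 (.leaf (.mov 462 17043521 false [.edge 2266 0 true])) (.leaf (.rel 86 8943699 3 [.edge 675 1142 false, .edge 2264 1020 false, .mul, .edge 2265 767 false, .mul, .edge 2266 1510 false, .mul]))))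
(.node 2 (.node 1 (.leaf (.eq 462 17043521 [] [.plain 2268 16934995 true])) (.leaf (.mov 86 29904967 false [.plain 2269 17068103 true, .edge 2267 1105 false]))) (.node 1 (.leaf (.mov 86 27529303 false [.plain 621 27801691 true, .edge 2270 1268 false])) (.leaf .dfn)))))
(.node 7 (.node 3 (.node 1 (.leaf (.mov 463 17043521 false [.edge 2272 0 true])) (.node 1 (.leaf .dfn) (.leaf (.mov 464 17043521 true [.edge 2274 0 true]))))
(.node 2 (.node 1 (.leaf .dfn) (.leaf (.mov 465 17043521 false [.edge 2276 0 true]))) (.node 1 (.leaf (.rel 86 16916551 3 [.edge 2251 189 false, .edge 2272 405 false, .mul, .edge 2274 410 false, .mul, .edge 2276 39 false, .mul])) (.leaf (.eq 465 17043521 [] [.plain 2278 17657937 true])))))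
(.node 4 (.node 2 (.node 1 (.leaf (.eqT 86 17043521 false [.plain 2279 17512539 true, .edge 2277 587 false] [.edge 610 0 false])) (.leaf (.eq 464 17043521 [] [.plain 2280 25837645 false]))) (.node 1 (.leaf (.eqT 16 4808797 true [.plain 2281 27529305 true, .edge 2275 972 false] [.edge 631 0 false])) (.leaf (.eq 463 17043521 [] [.plain 2282 19560525 false]))))
(.node 2 (.node 1 (.leaf (.eqT 89 19085399 false [.plain 2283 17127499 true, .edge 2273 116 false] [.edge 651 0 false])) (.leaf (.eq 456 17043521 [] [.plain 2284 10707009 false]))) (.node 1 (.leaf (.mov 92 25385043 true [.plain 2285 11341907 true, .edge 2250 438 false])) (.leaf (.mov 92 19085399 true [.plain 2285 25694295 true, .edge 2254 659 false])))))))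
(.node 15 (.node 7 (.node 3 (.node 1 (.leaf .dfn) (.node 1 (.leaf (.mov 86 32131155 true [.plain 621 31723605 true, .edge 2288 159 false])) (.leaf (.mov 86 31801425 true [.plain 621 32202827 true, .edge 2289 567 false]))))
(.node 2 (.node 1 (.leaf (.mov 86 32125001 true [.plain 621 31746129 true, .edge 2290 1318 false])) (.leaf (.mov 86 13510735 true [.plain 622 13520963 true, .edge 2291 414 false]))) (.node 1 (.leaf (.mov 86 4808797 true [.plain 621 4857943 true, .edge 2292 170 false])) (.leaf (.mov 86 13310023 true [.plain 621 13387863 true, .edge 2293 1384 false])))))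
(.node 4 (.node 2 (.node 1 (.leaf (.mov 86 4544593 true [.plain 621 4618317 true, .edge 2294 1305 false])) (.leaf (.eqT 86 4808797 true [.plain 623 4814927 true, .edge 2288 257 false] [.edge 2293 0 false]))) (.node 1 (.leaf (.eq 466 17043521 [] [.plain 2296 19740739 false])) (.leaf .dfn)))
(.node 2 (.node 1 (.leaf (.mov 466 13510735 false [.plain 2297 13181005 true, .edge 2298 167 false])) (.leaf .dfn)) (.node 1 (.leaf (.mov 466 29904967 false [.plain 2297 29841477 true, .edge 2300 692 false])) (.leaf .dfn)))))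
(.node 8 (.node 4 (.node 2 (.node 1 (.leaf .dfn) (.leaf (.mov 470 17043521 false [.edge 2303 0 true]))) (.node 1 (.leaf .dfn) (.leaf (.mov 471 17043521 true [.edge 2305 0 true]))))
(.node 2 (.node 1 (.leaf .dfn) (.leaf (.mov 472 17043521 false [.edge 2307 0 true]))) (.node 1 (.leaf (.rel 86 15032397 6 [.edge 2293 783 false, .edge 2299 1356 false, .mul, .edge 2303 758 false, .mul, .edge 2305 893 false, .edge 2307 892 false, .mul])) (.leaf (.eq 472 17043521 [] [.plain 2309 19099715 true])))))
(.node 4 (.node 2 (.node 1 (.leaf (.eqT 86 13310023 false [.plain 2310 17717323 true, .edge 2308 28 false] [.edge 2238 0 false])) (.leaf (.eq 471 17043521 [] [.plain 2311 19032135 false]))) (.node 1 (.leaf (.mov 452 19085399 true [.plain 2312 19748937 true, .edge 2306 532 false])) (.leaf (.mov 452 10971209 true [.plain 2232 10973263 true, .edge 2313 729 false]))))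
(.node 2 (.node 1 (.leaf (.mov 452 11495495 true [.plain 2233 11485273 true, .edge 2314 226 false])) (.leaf (.mov 452 25385043 true [.plain 2232 25372751 true, .edge 2315 257 false]))) (.node 1 (.leaf .dfn) (.leaf (.mov 473 17043521 false [.edge 2317 0 true])))))))))
(.node 61 (.node 30 (.node 15 (.node 7 (.node 3 (.node 1 (.leaf .dfn) (.node 1 (.leaf (.mov 474 17043521 false [.edge 2319 0 true])) (.leaf .dfn)))
(.node 2 (.node 1 (.leaf (.mov 475 17043521 true [.edge 2321 0 true])) (.leaf .dfn)) (.node 1 (.leaf (.mov 476 17043521 false [.edge 2323 0 true])) (.leaf (.rel 86 27476053 6 [.edge 2251 1392 false, .plain 2285 25505875 false, .edge 2317 742 false, .mul, .edge 2319 791 false, .mul, .edge 2321 219 false, .edge 2323 1171 false, .mul])))))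
(.node 4 (.node 2 (.node 1 (.leaf (.eq 476 17043521 [] [.plain 2325 19017793 true])) (.leaf (.eqT 86 7292999 false [.plain 2326 17127497 true, .edge 2324 469 false] [.edge 2241 0 false]))) (.node 1 (.leaf (.eq 475 17043521 [] [.plain 2327 19818589 false])) (.leaf (.mov 452 17059919 true [.plain 2328 17659985 true, .edge 2322 1096 false]))))
(.node 2 (.node 1 (.leaf .dfn) (.leaf .dfn)) (.node 1 (.leaf (.mov 478 17043521 true [.edge 2331 0 true])) (.leaf .dfn)))))
(.node 7 (.node 3 (.node 1 (.leaf (.mov 479 17043521 true [.edge 2333 0 true])) (.node 1 (.leaf (.rel 86 6707279 7 [.edge 2294 610 false, .edge 2300 191 false, .edge 2330 856 false, .mul, .edge 2331 1350 false, .mul, .edge 2333 880 false, .mul])) (.leaf (.eq 479 17043521 [] [.plain 2335 25839683 true]))))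
(.node 2 (.node 1 (.leaf (.eqT 86 11495495 true [.plain 2336 11366489 true, .edge 2334 114 false] [.edge 2251 0 false])) (.leaf (.eq 478 29890633 [] [.plain 2337 17043521 false, .plain 2285 17633345 false]))) (.node 1 (.leaf (.eq 478 17043521 [] [.plain 2338 9377887 false])) (.leaf (.mov 92 13510735 true [.plain 2339 19689563 true, .edge 2332 265 false])))))
(.node 4 (.node 2 (.node 1 (.leaf (.mov 92 32131155 true [.plain 654 31924303 true, .edge 2340 1028 false])) (.leaf (.mov 92 4544593 true [.plain 655 4671569 true, .edge 2341 1047 false]))) (.node 1 (.leaf (.mov 92 29904967 true [.plain 654 29702233 true, .edge 2342 930 false])) (.leaf .dfn)))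
(.node 2 (.node 1 (.leaf .dfn) (.leaf .dfn)) (.node 1 (.leaf (.mov 482 17043521 true [.edge 2346 0 true])) (.leaf (.rel 86 30234719 7 [.edge 2288 1504 false, .edge 2298 1342 false, .edge 2344 927 false, .mul, .edge 2345 1263 false, .mul, .edge 2346 1356 false, .mul])))))))
(.node 15 (.node 7 (.node 3 (.node 1 (.leaf (.eq 482 17043521 [] [.plain 2348 10709083 true])) (.node 1 (.leaf (.eqT 86 13510735 true [.plain 2349 9181267 true, .edge 2347 270 false] [.edge 2292 0 false])) (.leaf (.eq 481 17043521 [] [.plain 2350 32004191 false]))))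
(.node 2 (.node 1 (.leaf .dfn) (.leaf (.mov 483 17043521 false [.edge 2352 0 true]))) (.node 1 (.leaf (.mov 89 31801425 false [.plain 643 23414875 true, .edge 2352 276 false])) (.leaf (.mov 89 13310023 false [.plain 645 13320263 true, .edge 2354 834 false])))))
(.node 4 (.node 2 (.node 1 (.leaf .dfn) (.leaf .dfn)) (.node 1 (.leaf (.mov 490 17043521 true [.edge 2357 0 true])) (.leaf (.rel 89 21913691 1 [.edge 704 82 false, .mul, .edge 2356 1469 false, .mul, .edge 2357 234 false, .mul, .mul]))))
(.node 2 (.node 1 (.leaf (.eq 490 17043521 [] [.plain 2359 25507919 true])) (.leaf (.eqT 89 13510735 true [.plain 2360 8984657 true, .edge 2358 299 false] [.edge 708 0 false]))) (.node 1 (.leaf (.eq 489 17043521 [] [.plain 2361 25522245 false])) (.leaf .dfn)))))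
(.node 8 (.node 4 (.node 2 (.node 1 (.leaf (.eqT 89 4808797 true [.plain 643 21588047 true, .edge 2363 614 false] [.edge 2363 0 false])) (.leaf (.eqT 89 4808797 true [.plain 645 4794461 true, .edge 2363 1023 false] [.edge 2363 0 false]))) (.node 1 (.leaf (.eq 491 17043521 [] [.plain 2365 17635409 false])) (.leaf (.eq 491 17043521 [] [.plain 2364 17127491 false]))))
(.node 2 (.node 1 (.leaf .dfn) (.leaf (.eqT 491 17059919 true [.plain 2366 17651807 true, .edge 2368 47 false] [.edge 2368 0 false]))) (.node 1 (.leaf (.eqT 491 17059919 true [.plain 2367 17111117 true, .edge 2368 342 false] [.edge 2368 0 false])) (.leaf (.eq 492 17043521 [] [.plain 2370 17109057 false])))))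
(.node 4 (.node 2 (.node 1 (.leaf (.eq 492 17043521 [] [.plain 2369 17649747 false])) (.leaf .dfn)) (.node 1 (.leaf (.mov 493 17043521 true [.edge 2373 0 true])) (.leaf (.rel 89 32251989 1 [.edge 2363 1374 false, .mul, .edge 2368 689 false, .mul, .edge 2373 871 false, .mul, .mul]))))
(.node 2 (.node 1 (.leaf (.eq 493 17043521 [] [.plain 2375 25516127 true])) (.leaf (.mov 89 31801425 true [.plain 2376 9007193 true, .edge 2374 1353 false]))) (.node 1 (.leaf .dfn) (.leaf (.mov 99 7292999 false [.plain 693 7094341 true, .edge 2378 760 false]))))))))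
(.node 30 (.node 15 (.node 7 (.node 3 (.node 1 (.leaf .dfn) (.node 1 (.leaf (.mov 492 29904967 false [.plain 2371 29970503 true, .edge 2380 1502 false])) (.leaf (.mov 492 27529303 false [.plain 2372 27818063 true, .edge 2381 1525 false]))))
(.node 2 (.node 1 (.leaf (.mov 492 13510735 false [.plain 2371 13576271 true, .edge 2382 514 false])) (.leaf .dfn)) (.node 1 (.leaf .dfn) (.leaf (.mov 497 17043521 false [.edge 2385 0 true])))))
(.node 4 (.node 2 (.node 1 (.leaf (.rel 89 32251995 3 [.edge 2377 211 false, .edge 2380 1051 false, .mul, .edge 2384 676 false, .mul, .edge 2385 960 false, .mul])) (.leaf (.eq 497 17043521 [] [.plain 2387 17119299 true]))) (.node 1 (.leaf (.eqT 89 13310023 false [.plain 2388 16939089 true, .edge 2386 1418 false] [.edge 2355 0 false])) (.leaf (.eq 496 17043521 [] [.plain 2389 25575505 false]))))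
(.node 2 (.node 1 (.leaf .dfn) (.leaf (.mov 498 17043521 true [.edge 2391 0 true]))) (.node 1 (.leaf .dfn) (.leaf (.mov 499 17043521 false [.edge 2393 0 true]))))))
(.node 7 (.node 3 (.node 1 (.leaf (.rel 89 19880001 3 [.edge 706 152 false, .edge 935 1004 false, .mul, .edge 2391 408 false, .mul, .edge 2393 612 false, .mul])) (.node 1 (.leaf (.eq 499 17043521 [] [.plain 2395 17705037 true])) (.leaf (.eqT 89 19085399 false [.plain 2396 17766479 true, .edge 2394 553 false] [.edge 651 0 false]))))
(.node 2 (.node 1 (.leaf (.eq 498 17043521 [] [.plain 2397 17190989 false])) (.leaf (.eqT 92 11495495 true [.plain 2398 11024473 true, .edge 2392 1228 false] [.edge 710 0 false]))) (.node 1 (.leaf (.eq 137 28203077 [] [.plain 2399 17043521 false, .plain 722 17043521 false])) (.leaf (.eq 137 17043521 [] [.plain 2400 29845595 false])))))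
(.node 4 (.node 2 (.node 1 (.leaf (.mov 99 17043521 false [.plain 2401 17061963 true, .edge 921 1154 false])) (.leaf .dfn)) (.node 1 (.leaf .dfn) (.leaf (.mov 92 10971209 false [.plain 654 11081793 true, .edge 2404 340 false]))))
(.node 2 (.node 1 (.leaf (.mov 92 31801425 false [.plain 655 32127057 true, .edge 2405 285 false])) (.leaf (.mov 92 27529303 false [.plain 654 28196943 true, .edge 2406 926 false]))) (.node 1 (.leaf .dfn) (.leaf .dfn))))))
(.node 15 (.node 7 (.node 3 (.node 1 (.leaf (.mov 511 17043521 false [.edge 2409 0 true])) (.node 1 (.leaf (.rel 92 15294559 0 [.edge 2404 1134 false, .mul, .edge 2408 527 false, .mul, .edge 2409 27 false, .mul, .mul])) (.leaf (.eq 511 17043521 [] [.plain 2411 19357779 true]))))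
(.node 2 (.node 1 (.leaf (.mov 92 29904967 false [.plain 2412 17051739 true, .edge 2410 1145 false])) (.leaf (.mov 92 32125001 false [.plain 654 31989845 true, .edge 2413 1440 false]))) (.node 1 (.leaf (.mov 92 7292999 false [.plain 655 7098439 true, .edge 2414 246 false])) (.leaf (.mov 92 13510735 false [.plain 654 12732481 true, .edge 2415 1118 false])))))
(.node 4 (.node 2 (.node 1 (.leaf .dfn) (.leaf (.rel 92 17068101 0 [.edge 648 1438 false, .mul, .edge 651 921 false, .mul, .edge 2417 1389 false, .mul, .mul]))) (.node 1 (.leaf (.eq 512 17043521 [] [.plain 2418 19738709 true])) (.leaf .dfn)))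
(.node 2 (.node 1 (.leaf (.eqT 99 19085399 true [.plain 693 19542101 true, .edge 2420 1527 false] [.edge 2420 0 false])) (.leaf (.eq 513 17043521 [] [.plain 2421 17586257 false]))) (.node 1 (.leaf .dfn) (.leaf (.mov 514 17043521 true [.edge 2423 0 true]))))))
(.node 8 (.node 4 (.node 2 (.node 1 (.leaf (.rel 92 11419743 1 [.edge 710 644 false, .plain 722 8927321 false, .mul, .edge 2420 1523 false, .mul, .edge 2423 46 false, .mul, .mul])) (.leaf (.eq 514 17043521 [] [.plain 2425 27865165 true]))) (.node 1 (.leaf (.mov 92 10971209 true [.plain 2426 11090009 true, .edge 2424 831 false])) (.leaf (.mov 92 17043521 true [.plain 654 17524819 true, .edge 2427 1413 false]))))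
(.node 2 (.node 1 (.leaf .dfn) (.leaf (.mov 92 31801425 true [.plain 654 31873101 true, .edge 2429 691 false]))) (.node 1 (.leaf (.mov 92 32125001 true [.plain 655 31803465 true, .edge 2430 1165 false])) (.leaf (.mov 92 4808797 true [.plain 654 5197915 true, .edge 2431 490 false])))))
(.node 4 (.node 2 (.node 1 (.leaf .dfn) (.leaf (.mov 513 4808797 false [.plain 2422 4946009 true, .edge 2433 51 false]))) (.node 1 (.leaf .dfn) (.leaf (.mov 520 17043521 true [.edge 2435 0 true]))))
(.node 2 (.node 1 (.leaf .dfn) (.leaf (.mov 521 17043521 false [.edge 2437 0 true]))) (.node 1 (.leaf (.rel 92 25718875 3 [.edge 2428 510 false, .edge 2433 128 false, .mul, .edge 2435 252 false, .mul, .edge 2437 711 false, .mul])) (.leaf (.eq 521 17043521 [] [.plain 2439 17522777 true]))))))))))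

/-- The reasons. -/
def caseCFullSrcLRLL : Tab Src := .node 244 caseCFullSrcLRLLL caseCFullSrcLRLLR

/-- The reasons. -/
def caseCFullSrcLRLRL : Tab Src :=
(.node 122 (.node 61 (.node 30 (.node 15 (.node 7 (.node 3 (.node 1 (.leaf (.eqT 92 29904967 false [.plain 2440 17594449 true, .edge 2438 859 false] [.edge 2413 0 false])) (.node 1 (.leaf (.eq 520 17043521 [] [.plain 2441 11286623 false])) (.leaf (.mov 510 17043521 true [.plain 2442 11038795 true, .edge 2436 377 false]))))
(.node 2 (.node 1 (.leaf .dfn) (.leaf (.mov 99 6776923 false [.plain 693 6578265 true, .edge 2444 995 false]))) (.node 1 (.leaf .dfn) (.leaf (.mov 523 17043521 true [.edge 2446 0 true])))))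
(.node 4 (.node 2 (.node 1 (.leaf .dfn) (.leaf (.mov 524 17043521 false [.edge 2448 0 true]))) (.node 1 (.leaf (.rel 92 27807831 3 [.edge 712 161 false, .plain 722 19746889 false, .edge 2444 936 false, .mul, .edge 2446 162 false, .mul, .edge 2448 1459 false, .mul])) (.leaf (.eq 524 17043521 [] [.plain 2450 17782867 true]))))
(.node 2 (.node 1 (.leaf (.eqT 92 29904967 false [.plain 2451 17127491 true, .edge 2449 1111 false] [.edge 2413 0 false])) (.leaf (.eq 523 17043521 [] [.plain 2452 17043537 false]))) (.node 1 (.leaf (.mov 510 17059919 true [.plain 2453 19757123 true, .edge 2447 933 false])) (.leaf .dfn)))))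
(.node 7 (.node 3 (.node 1 (.leaf (.mov 99 23928925 false [.plain 693 23472223 true, .edge 2455 439 false])) (.node 1 (.leaf .dfn) (.leaf (.mov 528 17043521 false [.edge 2457 0 true]))))
(.node 2 (.node 1 (.leaf .dfn) (.leaf (.mov 529 17043521 true [.edge 2459 0 true]))) (.node 1 (.leaf .dfn) (.leaf (.mov 530 17043521 false [.edge 2461 0 true])))))
(.node 4 (.node 2 (.node 1 (.leaf (.rel 92 27672655 6 [.edge 710 1472 false, .plain 722 25718859 false, .edge 2455 33 false, .mul, .edge 2457 19 false, .mul, .edge 2459 1189 false, .edge 2461 732 false, .mul])) (.leaf (.eq 530 17043521 [] [.plain 2463 19796035 true]))) (.node 1 (.leaf (.eqT 92 7292999 false [.plain 2464 17244249 true, .edge 2462 904 false] [.edge 2415 0 false])) (.leaf (.eq 529 17043521 [] [.plain 2465 17721413 false]))))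
(.node 2 (.node 1 (.leaf (.eqT 510 17059919 true [.plain 2466 19732555 true, .edge 2460 1175 false] [.edge 2454 0 false])) (.leaf (.eq 528 17043521 [] [.plain 2467 17702997 false]))) (.node 1 (.leaf (.mov 522 19085399 false [.plain 2468 17657939 true, .edge 2458 373 false])) (.leaf .dfn))))))
(.node 15 (.node 7 (.node 3 (.node 1 (.leaf .dfn) (.node 1 (.leaf .dfn) (.leaf .dfn)))
(.node 2 (.node 1 (.leaf (.mov 534 17043521 false [.edge 2473 0 true])) (.leaf (.rel 92 23939151 6 [.edge 2432 1383 false, .edge 2470 1044 false, .mul, .edge 2471 1229 false, .mul, .edge 2472 489 false, .edge 2473 259 false, .mul]))) (.node 1 (.leaf (.eq 534 17043521 [] [.plain 2475 19142749 true])) (.leaf (.eqT 92 31801425 false [.plain 2476 17641537 true, .edge 2474 142 false] [.edge 2406 0 false])))))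
(.node 4 (.node 2 (.node 1 (.leaf (.eq 533 17043521 [] [.plain 2477 8804421 false])) (.leaf .dfn)) (.node 1 (.leaf .dfn) (.leaf .dfn)))
(.node 2 (.node 1 (.leaf (.mov 537 17043521 true [.edge 2481 0 true])) (.leaf (.rel 92 25448539 7 [.edge 2428 415 false, .edge 2434 196 false, .edge 2479 1001 false, .mul, .edge 2480 985 false, .mul, .edge 2481 726 false, .mul]))) (.node 1 (.leaf (.eq 537 17043521 [] [.plain 2483 28198979 true])) (.leaf (.eqT 92 13510735 true [.plain 2484 25507907 true, .edge 2482 1254 false] [.edge 2340 0 false]))))))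
(.node 8 (.node 4 (.node 2 (.node 1 (.leaf (.eq 536 17043521 [] [.plain 2485 10709059 false])) (.leaf .dfn)) (.node 1 (.leaf (.mov 538 17043521 false [.edge 2487 0 true])) (.leaf .dfn)))
(.node 2 (.node 1 (.leaf (.mov 539 17043521 true [.edge 2489 0 true])) (.leaf .dfn)) (.node 1 (.leaf (.mov 540 17043521 true [.edge 2491 0 true])) (.leaf .dfn))))
(.node 4 (.node 2 (.node 1 (.leaf (.mov 541 17043521 true [.edge 2493 0 true])) (.leaf (.rel 92 27469899 7 [.edge 2427 1099 false, .edge 2487 1173 false, .edge 2489 1161 false, .mul, .edge 2491 522 false, .mul, .edge 2493 414 false, .mul]))) (.node 1 (.leaf (.eq 541 17043521 [] [.plain 2495 25577547 true])) (.leaf (.eqT 92 29904967 true [.plain 2496 17578057 true, .edge 2494 443 false] [.edge 2343 0 false]))))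
(.node 2 (.node 1 (.leaf (.eq 540 17043521 [] [.plain 2497 7229533 false])) (.leaf (.mov 477 32131155 true [.plain 2498 11016265 true, .edge 2492 441 false]))) (.node 1 (.leaf .dfn) (.leaf (.mov 542 17043521 false [.edge 2500 0 true]))))))))
(.node 30 (.node 15 (.node 7 (.node 3 (.node 1 (.leaf .dfn) (.node 1 (.leaf (.mov 543 17043521 false [.edge 2502 0 true])) (.leaf .dfn)))
(.node 2 (.node 1 (.leaf (.mov 544 17043521 false [.edge 2504 0 true])) (.leaf (.rel 93 23873613 0 [.edge 2500 217 false, .mul, .edge 2502 1443 false, .mul, .edge 2504 30 false, .mul, .mul]))) (.node 1 (.leaf (.eq 544 17043521 [] [.plain 2506 19667029 true])) (.leaf (.eqT 93 31801425 false [.plain 2507 17051739 true, .edge 2505 1145 false] [.edge 2302 0 false])))))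
(.node 4 (.node 2 (.node 1 (.leaf (.eq 543 17043521 [] [.plain 2508 19740751 false])) (.leaf (.mov 469 19085399 false [.plain 2509 17457241 true, .edge 2503 1369 false]))) (.node 1 (.leaf .dfn) (.leaf .dfn)))
(.node 2 (.node 1 (.leaf (.mov 546 17043521 true [.edge 2512 0 true])) (.leaf (.rel 93 19157087 1 [.edge 688 1018 false, .mul, .edge 2511 879 false, .mul, .edge 2512 999 false, .mul, .mul]))) (.node 1 (.leaf (.eq 546 17043521 [] [.plain 2514 19730509 true])) (.leaf (.eqT 93 17043521 true [.plain 2515 17651779 true, .edge 2513 914 false] [.edge 691 0 false]))))))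
(.node 7 (.node 3 (.node 1 (.leaf (.eq 545 17043521 [] [.plain 2516 17635421 false])) (.node 1 (.leaf .dfn) (.leaf (.mov 99 29904967 false [.plain 693 29775941 true, .edge 2518 205 false]))))
(.node 2 (.node 1 (.leaf .dfn) (.leaf (.mov 93 13310023 true [.plain 664 13113415 true, .edge 2520 342 false]))) (.node 1 (.leaf (.mov 93 4544593 true [.plain 666 4675653 true, .edge 2521 949 false])) (.leaf (.mov 93 32125001 true [.plain 664 32256073 true, .edge 2522 713 false])))))
(.node 4 (.node 2 (.node 1 (.leaf .dfn) (.leaf .dfn)) (.node 1 (.leaf (.mov 551 17043521 false [.edge 2525 0 true])) (.leaf (.rel 93 11421769 3 [.edge 2242 444 false, .plain 2248 11081803 false, .edge 2264 732 false, .mul, .edge 2524 345 false, .mul, .edge 2525 1035 false, .mul]))))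
(.node 2 (.node 1 (.leaf (.eq 551 17043521 [] [.plain 2527 17463387 true])) (.leaf (.eqT 93 7292999 false [.plain 2528 17191005 true, .edge 2526 411 false] [.edge 2500 0 false]))) (.node 1 (.leaf (.eq 550 17043521 [] [.plain 2529 11225163 false])) (.leaf .dfn))))))
(.node 15 (.node 7 (.node 3 (.node 1 (.leaf (.mov 552 17043521 true [.edge 2531 0 true])) (.node 1 (.leaf (.mov 93 4808797 true [.plain 665 4546627 true, .edge 2531 1199 false])) (.leaf (.mov 93 13510735 true [.plain 666 13117511 true, .edge 2533 235 false]))))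
(.node 2 (.node 1 (.leaf (.mov 93 32131155 true [.plain 665 31672413 true, .edge 2534 878 false])) (.leaf (.eqT 93 32131155 true [.plain 664 31672403 true, .edge 2535 1340 false] [.edge 2535 0 false]))) (.node 1 (.leaf (.eq 552 17043521 [] [.plain 2536 19755099 false])) (.leaf .dfn))))
(.node 4 (.node 2 (.node 1 (.leaf (.mov 552 29904967 false [.plain 2537 29775961 true, .edge 2538 422 false])) (.leaf .dfn)) (.node 1 (.leaf (.mov 99 27529303 false [.plain 693 27859029 true, .edge 2540 885 false])) (.leaf .dfn)))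
(.node 2 (.node 1 (.leaf (.mov 556 17043521 false [.edge 2542 0 true])) (.leaf .dfn)) (.node 1 (.leaf (.mov 557 17043521 true [.edge 2544 0 true])) (.leaf .dfn)))))
(.node 8 (.node 4 (.node 2 (.node 1 (.leaf (.mov 558 17043521 false [.edge 2546 0 true])) (.leaf (.rel 93 27619395 6 [.edge 691 818 false, .edge 2540 913 false, .mul, .edge 2542 1066 false, .mul, .edge 2544 1329 false, .edge 2546 1060 false, .mul]))) (.node 1 (.leaf (.eq 558 17043521 [] [.plain 2548 19537985 true])) (.leaf (.mov 93 27529303 false [.plain 2549 17721429 true, .edge 2547 150 false]))))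
(.node 2 (.node 1 (.leaf (.mov 93 6776923 false [.plain 664 6973531 true, .edge 2550 1326 false])) (.leaf (.mov 93 23928925 false [.plain 666 23470167 true, .edge 2551 799 false]))) (.node 1 (.leaf (.mov 93 4808797 false [.plain 664 4546653 true, .edge 2552 1531 false])) (.leaf (.eqT 93 6776923 false [.plain 665 6973509 true, .edge 2550 1097 false] [.edge 2551 0 false])))))
(.node 4 (.node 2 (.node 1 (.leaf (.eq 557 17043521 [] [.plain 2554 19603523 false])) (.leaf .dfn)) (.node 1 (.leaf .dfn) (.leaf .dfn)))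
(.node 2 (.node 1 (.leaf .dfn) (.leaf (.mov 562 17043521 false [.edge 2559 0 true]))) (.node 1 (.leaf (.rel 93 5068865 6 [.edge 2522 1088 false, .edge 2556 614 false, .mul, .edge 2557 1303 false, .mul, .edge 2558 878 false, .edge 2559 1054 false, .mul])) (.leaf (.eq 562 17043521 [] [.plain 2561 19884119 true])))))))))
(.node 61 (.node 30 (.node 15 (.node 7 (.node 3 (.node 1 (.leaf (.eqT 93 10971209 false [.plain 2562 17584207 true, .edge 2560 890 false] [.edge 2264 0 false])) (.node 1 (.leaf (.eq 561 17043521 [] [.plain 2563 27596879 false])) (.leaf .dfn)))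
(.node 2 (.node 1 (.leaf .dfn) (.leaf .dfn)) (.node 1 (.leaf (.mov 565 17043521 true [.edge 2567 0 true])) (.leaf (.rel 93 10704981 7 [.edge 690 1262 false, .edge 2541 1454 false, .edge 2565 1035 false, .mul, .edge 2566 599 false, .mul, .edge 2567 1085 false, .mul])))))
(.node 4 (.node 2 (.node 1 (.leaf (.eq 565 17043521 [] [.plain 2569 28256323 true])) (.leaf (.eqT 93 31801425 true [.plain 2570 19208257 true, .edge 2568 423 false] [.edge 2531 0 false]))) (.node 1 (.leaf (.eq 564 17043521 [] [.plain 2571 23689309 false])) (.leaf .dfn)))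
(.node 2 (.node 1 (.leaf .dfn) (.leaf (.mov 567 17043521 true [.edge 2574 0 true]))) (.node 1 (.leaf .dfn) (.leaf (.mov 568 17043521 true [.edge 2576 0 true]))))))
(.node 7 (.node 3 (.node 1 (.leaf (.rel 93 4612187 7 [.edge 2535 357 false, .edge 2539 197 false, .edge 2573 1019 false, .mul, .edge 2574 1295 false, .mul, .edge 2576 961 false, .mul])) (.node 1 (.leaf (.eq 568 17043521 [] [.plain 2578 28196931 true])) (.leaf (.eqT 93 19085399 true [.plain 2579 19214425 true, .edge 2577 115 false] [.edge 690 0 false]))))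
(.node 2 (.node 1 (.leaf (.eq 567 17043521 [] [.plain 2580 6649923 false])) (.leaf (.mov 99 4808797 true [.plain 2581 27856985 true, .edge 2575 1025 false]))) (.node 1 (.leaf (.mov 99 13510735 true [.plain 693 13115469 true, .edge 2582 139 false])) (.leaf .dfn))))
(.node 4 (.node 2 (.node 1 (.leaf (.mov 569 17043521 false [.edge 2584 0 true])) (.leaf (.rel 99 13197387 0 [.edge 2540 775 false, .mul, .edge 2542 718 false, .mul, .edge 2584 267 false, .mul, .mul]))) (.node 1 (.leaf (.eq 569 17043521 [] [.plain 2586 19359833 true])) (.leaf (.eqT 99 29904967 false [.plain 2587 17051739 true, .edge 2585 1145 false] [.edge 2519 0 false]))))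
(.node 2 (.node 1 (.leaf (.eq 556 17043521 [] [.plain 2588 19740751 false])) (.leaf (.mov 547 19085399 false [.plain 2589 16986179 true, .edge 2543 780 false]))) (.node 1 (.leaf .dfn) (.leaf (.mov 99 13310023 true [.plain 693 13439045 true, .edge 2591 343 false])))))))
(.node 15 (.node 7 (.node 3 (.node 1 (.leaf .dfn) (.node 1 (.leaf (.mov 571 17043521 false [.edge 2593 0 true])) (.leaf .dfn)))
(.node 2 (.node 1 (.leaf (.mov 99 32125001 true [.plain 693 31799371 true, .edge 2595 1123 false])) (.leaf .dfn)) (.node 1 (.leaf (.mov 576 17043521 false [.edge 2597 0 true])) (.leaf .dfn))))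
(.node 4 (.node 2 (.node 1 (.leaf (.mov 577 17043521 true [.edge 2599 0 true])) (.leaf .dfn)) (.node 1 (.leaf (.mov 578 17043521 false [.edge 2601 0 true])) (.leaf (.rel 99 32329819 3 [.edge 2595 1203 false, .edge 2597 226 false, .mul, .edge 2599 1516 false, .mul, .edge 2601 318 false, .mul]))))
(.node 2 (.node 1 (.leaf (.eq 578 17043521 [] [.plain 2603 17125459 true])) (.leaf (.eqT 99 9056345 false [.plain 2604 16920671 true, .edge 2602 539 false] [.edge 2455 0 false]))) (.node 1 (.leaf (.eq 577 17043521 [] [.plain 2605 25897053 false])) (.leaf (.mov 527 11495495 true [.plain 2606 19675203 true, .edge 2600 1160 false]))))))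
(.node 8 (.node 4 (.node 2 (.node 1 (.leaf .dfn) (.leaf (.mov 579 17043521 false [.edge 2608 0 true]))) (.node 1 (.leaf .dfn) (.leaf .dfn)))
(.node 2 (.node 1 (.leaf .dfn) (.leaf .dfn)) (.node 1 (.leaf (.mov 583 17043521 false [.edge 2613 0 true])) (.leaf (.rel 99 31920201 6 [.edge 2596 1333 false, .edge 2610 1511 false, .mul, .edge 2611 1400 false, .mul, .edge 2612 889 false, .edge 2613 1217 false, .mul])))))
(.node 4 (.node 2 (.node 1 (.leaf (.eq 583 17043521 [] [.plain 2615 19343451 true])) (.leaf (.eqT 99 27529303 false [.plain 2616 16984141 true, .edge 2614 920 false] [.edge 2541 0 false]))) (.node 1 (.leaf (.eq 582 17043521 [] [.plain 2617 27605069 false])) (.leaf .dfn)))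
(.node 2 (.node 1 (.leaf (.mov 587 17043521 true [.edge 2619 0 true])) (.leaf .dfn)) (.node 1 (.leaf (.mov 588 17043521 true [.edge 2621 0 true])) (.leaf .dfn)))))))
(.node 30 (.node 15 (.node 7 (.node 3 (.node 1 (.leaf (.mov 589 17043521 true [.edge 2623 0 true])) (.node 1 (.leaf (.rel 99 21526613 7 [.edge 2591 683 false, .edge 2593 613 false, .edge 2619 1368 false, .mul, .edge 2621 268 false, .mul, .edge 2623 274 false, .mul])) (.leaf (.eq 589 17043521 [] [.plain 2625 27410497 true]))))
(.node 2 (.node 1 (.leaf (.eqT 99 17043521 true [.plain 2626 25778257 true, .edge 2624 1037 false] [.edge 689 0 false])) (.leaf (.eq 588 17043521 [] [.plain 2627 14897221 false]))) (.node 1 (.leaf (.eqT 93 13510735 true [.plain 2628 25720905 true, .edge 2622 75 false] [.edge 2534 0 false])) (.leaf (.eq 587 17043521 [] [.plain 2629 25643103 false])))))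
(.node 4 (.node 2 (.node 1 (.leaf (.mov 552 31801425 true [.plain 2630 27793481 true, .edge 2620 1135 false])) (.leaf (.mov 552 13510735 true [.plain 2537 13115457 true, .edge 2631 17 false]))) (.node 1 (.leaf .dfn) (.leaf (.mov 99 31801425 true [.plain 693 32131155 true, .edge 2633 0 false]))))
(.node 2 (.node 1 (.leaf .dfn) (.leaf (.mov 591 17043521 false [.edge 2635 0 true]))) (.node 1 (.leaf .dfn) (.leaf (.mov 592 17043521 true [.edge 2637 0 true]))))))
(.node 7 (.node 3 (.node 1 (.leaf .dfn) (.node 1 (.leaf (.mov 593 17043521 true [.edge 2639 0 true])) (.leaf .dfn)))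
(.node 2 (.node 1 (.leaf (.mov 594 17043521 true [.edge 2641 0 true])) (.leaf (.rel 99 12806227 7 [.edge 2633 1517 false, .edge 2635 1336 false, .edge 2637 1530 false, .mul, .edge 2639 596 false, .mul, .edge 2641 87 false, .mul]))) (.node 1 (.leaf (.eq 594 17043521 [] [.plain 2643 27476035 true])) (.leaf (.eqT 99 4544593 true [.plain 2644 8992841 true, .edge 2642 817 false] [.edge 2595 0 false])))))
(.node 4 (.node 2 (.node 1 (.leaf (.eq 593 17043521 [] [.plain 2645 6828127 false])) (.leaf (.mov 575 29904967 true [.plain 2646 17135681 true, .edge 2640 96 false]))) (.node 1 (.leaf .dfn) (.leaf (.mov 595 17043521 false [.edge 2648 0 true]))))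
(.node 2 (.node 1 (.leaf (.mov 105 4808797 false [.plain 736 4612191 true, .edge 2648 1007 false])) (.leaf (.mov 105 29904967 false [.plain 738 29970511 true, .edge 2650 345 false]))) (.node 1 (.leaf (.mov 105 6776923 false [.plain 736 6842457 true, .edge 2651 907 false])) (.leaf (.mov 105 7292999 false [.plain 737 6582345 true, .edge 2652 1334 false])))))))
(.node 15 (.node 7 (.node 3 (.node 1 (.leaf (.mov 105 31801425 false [.plain 737 31662153 true, .edge 2648 1173 false])) (.node 1 (.leaf .dfn) (.leaf .dfn)))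
(.node 2 (.node 1 (.leaf (.mov 597 17043521 false [.edge 2656 0 true])) (.leaf (.rel 105 23535691 0 [.edge 2648 21 false, .mul, .edge 2655 55 false, .mul, .edge 2656 419 false, .mul, .mul]))) (.node 1 (.leaf (.eq 597 17043521 [] [.plain 2658 19757145 true])) (.leaf (.eqT 105 6776923 false [.plain 2659 17051739 true, .edge 2657 1145 false] [.edge 2652 0 false])))))
(.node 4 (.node 2 (.node 1 (.leaf (.eq 596 17043521 [] [.plain 2660 19740751 false])) (.leaf .dfn)) (.node 1 (.leaf (.mov 105 13510735 false [.plain 736 13379661 true, .edge 2662 1065 false])) (.leaf (.mov 105 27529303 false [.plain 738 27594825 true, .edge 2663 161 false]))))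
(.node 2 (.node 1 (.leaf (.mov 105 13310023 false [.plain 736 13572165 true, .edge 2664 287 false])) (.leaf (.mov 105 10971209 false [.plain 737 11415647 true, .edge 2665 785 false]))) (.node 1 (.leaf (.mov 105 32125001 false [.plain 737 31610963 true, .edge 2662 318 false])) (.leaf .dfn)))))
(.node 8 (.node 4 (.node 2 (.node 1 (.leaf (.mov 105 13510735 true [.plain 736 13379661 true, .edge 2668 597 false])) (.leaf (.mov 105 32131155 true [.plain 738 32196703 true, .edge 2669 624 false]))) (.node 1 (.leaf (.mov 105 31801425 true [.plain 736 31670355 true, .edge 2670 892 false])) (.leaf (.mov 105 29904967 true [.plain 737 30230593 true, .edge 2671 648 false]))))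
(.node 2 (.node 1 (.leaf (.mov 105 4544593 true [.plain 737 5054543 true, .edge 2668 961 false])) (.leaf (.eqT 105 13510735 true [.plain 737 13400155 true, .edge 2673 742 false] [.edge 2669 0 false]))) (.node 1 (.leaf (.eqT 105 4544593 true [.plain 738 4479043 true, .edge 2673 1071 false] [.edge 2673 0 false])) (.leaf (.eq 601 17043521 [] [.plain 2675 27793491 false])))))
(.node 4 (.node 2 (.node 1 (.leaf (.eq 601 17043521 [] [.plain 2674 27603011 false])) (.leaf .dfn)) (.node 1 (.leaf .dfn) (.leaf (.mov 605 17043521 true [.edge 2679 0 true]))))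
(.node 2 (.node 1 (.leaf (.rel 105 11221081 1 [.edge 797 1380 false, .mul, .edge 2678 918 false, .mul, .edge 2679 1111 false, .mul, .mul])) (.leaf (.eq 605 17043521 [] [.plain 2681 11038805 true]))) (.node 1 (.leaf (.eqT 105 19085399 true [.plain 2682 17651801 true, .edge 2680 776 false] [.edge 794 0 false])) (.leaf (.eq 604 17043521 [] [.plain 2683 17657949 false]))))))))))

/-- The reasons. -/
def caseCFullSrcLRLRR : Tab Src :=
(.node 122 (.node 61 (.node 30 (.node 15 (.node 7 (.node 3 (.node 1 (.leaf .dfn) (.node 1 (.leaf .dfn) (.leaf (.mov 601 17043521 false [.plain 2676 19206235 true, .edge 2686 651 false]))))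
(.node 2 (.node 1 (.leaf (.mov 601 4808797 false [.plain 2677 16998475 true, .edge 2687 288 false])) (.leaf (.mov 601 29904967 false [.plain 2676 32067657 true, .edge 2688 1039 false]))) (.node 1 (.leaf .dfn) (.leaf (.mov 608 17043521 false [.edge 2690 0 true])))))
(.node 4 (.node 2 (.node 1 (.leaf .dfn) (.leaf (.mov 609 17043521 true [.edge 2692 0 true]))) (.node 1 (.leaf .dfn) (.leaf (.mov 610 17043521 false [.edge 2694 0 true]))))
(.node 2 (.node 1 (.leaf (.rel 105 30156875 3 [.edge 2671 1132 false, .edge 2690 764 false, .mul, .edge 2692 371 false, .mul, .edge 2694 1293 false, .mul])) (.leaf (.eq 610 17043521 [] [.plain 2696 17180755 true]))) (.node 1 (.leaf (.eqT 105 23928925 false [.plain 2697 17240135 true, .edge 2695 1298 false] [.edge 2662 0 false])) (.leaf (.eq 609 17043521 [] [.plain 2698 17717317 false]))))))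
(.node 7 (.node 3 (.node 1 (.leaf (.mov 598 19085399 true [.plain 2699 19232841 true, .edge 2693 1510 false])) (.node 1 (.leaf .dfn) (.leaf .dfn)))
(.node 2 (.node 1 (.leaf (.mov 612 17043521 false [.edge 2702 0 true])) (.leaf (.rel 105 29573187 3 [.edge 2670 648 false, .edge 2688 858 false, .mul, .edge 2701 801 false, .mul, .edge 2702 802 false, .mul]))) (.node 1 (.leaf (.eq 612 17043521 [] [.plain 2704 17651779 true])) (.leaf (.eqT 105 31801425 false [.plain 2705 17459281 true, .edge 2703 1495 false] [.edge 2654 0 false])))))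
(.node 4 (.node 2 (.node 1 (.leaf (.eq 611 17043521 [] [.plain 2706 26101835 false])) (.leaf .dfn)) (.node 1 (.leaf .dfn) (.leaf .dfn)))
(.node 2 (.node 1 (.leaf .dfn) (.leaf (.mov 620 17043521 false [.edge 2711 0 true]))) (.node 1 (.leaf (.rel 105 25589845 6 [.edge 794 1001 false, .edge 2685 670 false, .mul, .edge 2709 1005 false, .mul, .edge 2710 731 false, .edge 2711 657 false, .mul])) (.leaf (.eq 620 17043521 [] [.plain 2713 19681357 true])))))))
(.node 15 (.node 7 (.node 3 (.node 1 (.leaf (.eqT 105 13310023 false [.plain 2714 17260619 true, .edge 2712 242 false] [.edge 2665 0 false])) (.node 1 (.leaf (.eq 619 17043521 [] [.plain 2715 8941643 false])) (.leaf .dfn)))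
(.node 2 (.node 1 (.leaf (.mov 621 17043521 true [.edge 2717 0 true])) (.leaf (.rel 105 19275851 7 [.edge 799 1009 false, .edge 785 1058 false, .edge 803 1036 false, .mul, .edge 823 1279 false, .mul, .edge 2717 888 false, .mul]))) (.node 1 (.leaf (.eq 621 17043521 [] [.plain 2719 27666521 true])) (.leaf (.eqT 105 19085399 true [.plain 2720 25497673 true, .edge 2718 1236 false] [.edge 794 0 false])))))
(.node 4 (.node 2 (.node 1 (.leaf (.eq 117 17043521 [] [.plain 2721 17135681 true])) (.leaf (.mov 113 10971209 true [.plain 2722 8919127 true, .edge 2678 22 false]))) (.node 1 (.leaf (.mov 113 31801425 false [.plain 2722 29841493 true, .edge 2685 777 false])) (.leaf (.mov 113 10971209 false [.plain 2722 8919127 true, .edge 2708 921 false]))))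
(.node 2 (.node 1 (.leaf .dfn) (.leaf (.mov 622 17043521 false [.edge 2726 0 true]))) (.node 1 (.leaf (.mov 113 4808797 false [.plain 771 4743239 true, .edge 2726 499 false])) (.leaf (.mov 113 13310023 false [.plain 772 13178945 true, .edge 2728 606 false]))))))
(.node 8 (.node 4 (.node 2 (.node 1 (.leaf (.mov 113 23928925 false [.plain 771 23863383 true, .edge 2729 1347 false])) (.leaf .dfn)) (.node 1 (.leaf .dfn) (.leaf (.mov 624 17043521 false [.edge 2732 0 true]))))
(.node 2 (.node 1 (.leaf (.rel 113 4730961 0 [.edge 2726 1412 false, .mul, .edge 2731 549 false, .mul, .edge 2732 1044 false, .mul, .mul])) (.leaf (.eq 624 17043521 [] [.plain 2734 19341401 true]))) (.node 1 (.leaf (.eqT 113 4808797 false [.plain 2735 16935003 true, .edge 2733 810 false] [.edge 2728 0 false])) (.leaf (.eq 623 17043521 [] [.plain 2736 19355715 false])))))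
(.node 4 (.node 2 (.node 1 (.leaf .dfn) (.leaf (.mov 625 17043521 false [.edge 2738 0 true]))) (.node 1 (.leaf (.mov 113 9056345 false [.plain 771 9121879 true, .edge 2738 950 false])) (.leaf (.mov 113 27529303 false [.plain 772 27725907 true, .edge 2740 1483 false]))))
(.node 2 (.node 1 (.leaf (.mov 113 13510735 false [.plain 771 13576263 true, .edge 2741 982 false])) (.leaf .dfn)) (.node 1 (.leaf .dfn) (.leaf (.mov 627 17043521 false [.edge 2744 0 true]))))))))
(.node 30 (.node 15 (.node 7 (.node 3 (.node 1 (.leaf (.rel 113 27406417 0 [.edge 2738 1001 false, .mul, .edge 2743 476 false, .mul, .edge 2744 368 false, .mul, .mul])) (.node 1 (.leaf (.eq 627 17043521 [] [.plain 2746 19095633 true])) (.leaf (.eqT 113 9056345 false [.plain 2747 16935003 true, .edge 2745 810 false] [.edge 2740 0 false]))))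
(.node 2 (.node 1 (.leaf (.eq 626 17043521 [] [.plain 2748 19355715 false])) (.leaf .dfn)) (.node 1 (.leaf (.mov 628 17043521 true [.edge 2750 0 true])) (.leaf (.mov 113 32125001 true [.plain 771 32190535 true, .edge 2750 161 false])))))
(.node 4 (.node 2 (.node 1 (.leaf (.mov 113 29904967 true [.plain 772 29577299 true, .edge 2752 181 false])) (.leaf (.mov 113 4544593 true [.plain 771 4479045 true, .edge 2753 547 false]))) (.node 1 (.leaf .dfn) (.leaf .dfn)))
(.node 2 (.node 1 (.leaf (.mov 630 17043521 true [.edge 2756 0 true])) (.leaf (.rel 113 21903429 1 [.edge 2750 757 false, .mul, .edge 2755 393 false, .mul, .edge 2756 648 false, .mul, .mul]))) (.node 1 (.leaf (.eq 630 17043521 [] [.plain 2758 19150935 true])) (.leaf (.eqT 113 32125001 true [.plain 2759 25505883 true, .edge 2757 1260 false] [.edge 2752 0 false]))))))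
(.node 7 (.node 3 (.node 1 (.leaf (.eq 629 17043521 [] [.plain 2760 9001039 false])) (.node 1 (.leaf .dfn) (.leaf .dfn)))
(.node 2 (.node 1 (.leaf .dfn) (.leaf .dfn)) (.node 1 (.leaf .dfn) (.leaf (.mov 637 17043521 false [.edge 2766 0 true])))))
(.node 4 (.node 2 (.node 1 (.leaf (.rel 113 4945997 3 [.edge 2750 422 false, .edge 2764 45 false, .mul, .edge 2765 1415 false, .mul, .edge 2766 1121 false, .mul])) (.leaf (.eq 637 17043521 [] [.plain 2768 17127507 true]))) (.node 1 (.leaf (.eqT 113 27529303 false [.plain 2769 17244243 true, .edge 2767 1532 false] [.edge 2741 0 false])) (.leaf (.eq 636 17043521 [] [.plain 2770 25761865 false]))))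
(.node 2 (.node 1 (.leaf .dfn) (.leaf (.mov 638 17043521 false [.edge 2772 0 true]))) (.node 1 (.leaf .dfn) (.leaf (.mov 639 17043521 true [.edge 2774 0 true])))))))
(.node 15 (.node 7 (.node 3 (.node 1 (.leaf .dfn) (.node 1 (.leaf (.mov 640 17043521 false [.edge 2776 0 true])) (.leaf (.rel 113 27883613 3 [.edge 800 396 false, .edge 2772 1518 false, .mul, .edge 2774 1082 false, .mul, .edge 2776 613 false, .mul]))))
(.node 2 (.node 1 (.leaf (.eq 640 17043521 [] [.plain 2778 17258579 true])) (.leaf (.eqT 113 4808797 false [.plain 2779 17643605 true, .edge 2777 760 false] [.edge 2728 0 false]))) (.node 1 (.leaf (.eq 639 17043521 [] [.plain 2780 17000539 false])) (.leaf (.mov 622 17059919 true [.plain 2781 17594459 true, .edge 2775 794 false])))))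
(.node 4 (.node 2 (.node 1 (.leaf .dfn) (.leaf .dfn)) (.node 1 (.leaf .dfn) (.leaf (.mov 643 17043521 false [.edge 2785 0 true]))))
(.node 2 (.node 1 (.leaf .dfn) (.leaf (.mov 644 17043521 false [.edge 2787 0 true]))) (.node 1 (.leaf .dfn) (.leaf (.mov 645 17043521 true [.edge 2789 0 true]))))))
(.node 8 (.node 4 (.node 2 (.node 1 (.leaf .dfn) (.leaf (.mov 646 17043521 false [.edge 2791 0 true]))) (.node 1 (.leaf (.rel 113 15294545 6 [.edge 2784 1057 false, .edge 2785 983 false, .mul, .edge 2787 981 false, .mul, .edge 2789 1485 false, .edge 2791 750 false, .mul])) (.leaf (.eq 646 17043521 [] [.plain 2793 19730509 true]))))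
(.node 2 (.node 1 (.leaf (.eqT 113 29904967 false [.plain 2794 17457241 true, .edge 2792 1369 false] [.edge 2726 0 false])) (.leaf (.eq 645 17043521 [] [.plain 2795 9322571 false]))) (.node 1 (.leaf (.mov 622 10971209 true [.plain 2796 27621441 true, .edge 2790 533 false])) (.leaf .dfn))))
(.node 4 (.node 2 (.node 1 (.leaf .dfn) (.leaf .dfn)) (.node 1 (.leaf (.mov 649 17043521 false [.edge 2800 0 true])) (.leaf (.rel 113 32182337 6 [.edge 2752 1310 false, .edge 2783 1189 false, .mul, .edge 2798 1101 false, .mul, .edge 2799 1412 false, .edge 2800 1296 false, .mul]))))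
(.node 2 (.node 1 (.leaf (.eq 649 17043521 [] [.plain 2802 19277905 true])) (.leaf (.eqT 113 13310023 false [.plain 2803 16939095 true, .edge 2801 1402 false] [.edge 2729 0 false]))) (.node 1 (.leaf (.eq 648 17043521 [] [.plain 2804 16920655 false])) (.leaf .dfn))))))))
(.node 61 (.node 30 (.node 15 (.node 7 (.node 3 (.node 1 (.leaf (.mov 650 17043521 false [.edge 2806 0 true])) (.node 1 (.leaf .dfn) (.leaf (.mov 651 17043521 true [.edge 2808 0 true]))))
(.node 2 (.node 1 (.leaf .dfn) (.leaf (.mov 652 17043521 true [.edge 2810 0 true]))) (.node 1 (.leaf .dfn) (.leaf (.mov 653 17043521 true [.edge 2812 0 true])))))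
(.node 4 (.node 2 (.node 1 (.leaf (.rel 113 4677703 7 [.edge 2762 625 false, .edge 2806 282 false, .edge 2808 957 false, .mul, .edge 2810 164 false, .mul, .edge 2812 543 false, .mul])) (.leaf (.eq 653 17043521 [] [.plain 2814 10903633 true]))) (.node 1 (.leaf (.eqT 113 25385043 true [.plain 2815 17059929 true, .edge 2813 487 false] [.edge 804 0 false])) (.leaf (.eq 652 17043521 [] [.plain 2816 13520963 false]))))
(.node 2 (.node 1 (.leaf (.mov 120 29904967 true [.plain 2817 19208281 true, .edge 2811 893 false])) (.leaf (.eqT 120 29904967 true [.plain 822 32331847 true, .edge 2818 1384 false] [.edge 2818 0 false]))) (.node 1 (.leaf (.eq 651 17043521 [] [.plain 2819 13115467 false])) (.leaf (.mov 651 4808797 true [.plain 2820 11098195 true, .edge 2809 1068 false]))))))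
(.node 7 (.node 3 (.node 1 (.leaf .dfn) (.node 1 (.leaf (.mov 654 17043521 false [.edge 2822 0 true])) (.leaf .dfn)))
(.node 2 (.node 1 (.leaf (.mov 655 17043521 true [.edge 2824 0 true])) (.leaf .dfn)) (.node 1 (.leaf (.mov 656 17043521 true [.edge 2826 0 true])) (.leaf .dfn))))
(.node 4 (.node 2 (.node 1 (.leaf (.mov 657 17043521 true [.edge 2828 0 true])) (.leaf (.rel 113 4487257 7 [.edge 2754 61 false, .edge 2822 926 false, .edge 2824 732 false, .mul, .edge 2826 608 false, .mul, .edge 2828 895 false, .mul]))) (.node 1 (.leaf (.eq 657 17043521 [] [.plain 2830 9324633 true])) (.leaf (.eqT 113 19085399 true [.plain 2831 17578049 true, .edge 2829 803 false] [.edge 803 0 false]))))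
(.node 2 (.node 1 (.leaf (.eq 656 17043521 [] [.plain 2832 13439057 false])) (.leaf (.mov 120 4808797 true [.plain 2833 25505859 true, .edge 2827 1089 false]))) (.node 1 (.leaf .dfn) (.leaf (.mov 658 17043521 false [.edge 2835 0 true])))))))
(.node 15 (.node 7 (.node 3 (.node 1 (.leaf (.rel 120 6635599 0 [.edge 1052 1036 false, .mul, .edge 1064 131 false, .plain 1075 17782875 false, .mul, .edge 2835 1161 false, .mul, .mul])) (.node 1 (.leaf (.eq 658 17043521 [] [.plain 2837 19818563 true])) (.leaf (.eqT 120 7292999 false [.plain 2838 17524831 true, .edge 2836 1304 false] [.edge 1053 0 false]))))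
(.node 2 (.node 1 (.leaf (.eq 161 17043521 [] [.plain 2839 16982105 true])) (.leaf (.mov 145 13310023 true [.plain 2840 27660379 true, .edge 1084 680 false]))) (.node 1 (.leaf (.mov 145 32131155 true [.plain 2840 11485259 true, .edge 1182 264 false])) (.leaf (.mov 145 25385043 true [.plain 2840 32264283 true, .edge 1833 963 false])))))
(.node 4 (.node 2 (.node 1 (.leaf (.mov 145 13310023 false [.plain 2840 27660379 true, .edge 2049 1088 false])) (.leaf .dfn)) (.node 1 (.leaf (.mov 120 6776923 false [.plain 822 4743259 true, .edge 2845 807 false])) (.leaf .dfn)))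
(.node 2 (.node 1 (.leaf .dfn) (.leaf (.mov 661 17043521 false [.edge 2848 0 true]))) (.node 1 (.leaf (.rel 120 4728921 0 [.edge 2845 534 false, .mul, .edge 2847 797 false, .mul, .edge 2848 1478 false, .mul, .mul])) (.leaf (.eq 661 17043521 [] [.plain 2850 19013725 true]))))))
(.node 8 (.node 4 (.node 2 (.node 1 (.leaf (.mov 120 4808797 false [.plain 2851 16935003 true, .edge 2849 810 false])) (.leaf .dfn)) (.node 1 (.leaf (.mov 662 17043521 true [.edge 2853 0 true])) (.leaf .dfn)))
(.node 2 (.node 1 (.leaf (.mov 663 17043521 true [.edge 2855 0 true])) (.leaf (.rel 120 15540307 1 [.edge 1196 617 false, .mul, .edge 2853 294 false, .mul, .edge 2855 609 false, .mul, .mul]))) (.node 1 (.leaf (.eq 663 17043521 [] [.plain 2857 8925263 true])) (.leaf (.eqT 120 4808797 true [.plain 2858 25450571 true, .edge 2856 1498 false] [.edge 2834 0 false])))))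
(.node 4 (.node 2 (.node 1 (.leaf (.eq 662 17043521 [] [.plain 2859 11089999 false])) (.leaf (.mov 655 4808797 true [.plain 2860 25759817 true, .edge 2854 1180 false]))) (.node 1 (.leaf .dfn) (.leaf (.eqT 120 32125001 true [.plain 822 29505609 true, .edge 2862 1327 false] [.edge 2862 0 false]))))
(.node 2 (.node 1 (.leaf (.eq 664 17043521 [] [.plain 2863 17635393 false])) (.leaf .dfn)) (.node 1 (.leaf (.eqT 664 17043521 false [.plain 2864 17635393 true, .edge 2865 1238 false] [.edge 2865 0 false])) (.leaf (.eq 665 17043521 [] [.plain 2866 17125441 false]))))))))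
(.node 31 (.node 15 (.node 7 (.node 3 (.node 1 (.leaf .dfn) (.node 1 (.leaf .dfn) (.leaf (.mov 667 17043521 true [.edge 2869 0 true]))))
(.node 2 (.node 1 (.leaf .dfn) (.leaf (.mov 668 17043521 false [.edge 2871 0 true]))) (.node 1 (.leaf (.rel 120 14893123 3 [.edge 1195 1359 false, .edge 2868 1079 false, .mul, .edge 2869 376 false, .mul, .edge 2871 268 false, .mul])) (.leaf (.eq 668 17043521 [] [.plain 2873 17119321 true])))))
(.node 4 (.node 2 (.node 1 (.leaf (.eqT 120 31801425 false [.plain 2874 17526869 true, .edge 2872 382 false] [.edge 1052 0 false])) (.leaf (.eq 667 23277635 [] [.plain 2875 17043521 false, .plain 2840 17043521 false]))) (.node 1 (.leaf (.eq 667 17043521 [] [.plain 2876 25634883 false])) (.leaf (.eqT 145 32131155 true [.plain 2877 25770057 true, .edge 2870 737 false] [.edge 2842 0 false]))))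
(.node 2 (.node 1 (.leaf (.eq 666 17043521 [] [.plain 2878 7020635 false])) (.leaf .dfn)) (.node 1 (.leaf (.mov 669 17043521 true [.edge 2880 0 true])) (.leaf .dfn)))))
(.node 8 (.node 4 (.node 2 (.node 1 (.leaf (.mov 670 17043521 false [.edge 2882 0 true])) (.leaf (.rel 120 8613965 3 [.edge 1077 664 false, .plain 1083 25778267 false, .edge 2852 1528 false, .mul, .edge 2880 739 false, .mul, .edge 2882 974 false, .mul]))) (.node 1 (.leaf (.eq 670 17043521 [] [.plain 2884 17242183 true])) (.leaf (.eqT 120 6776923 false [.plain 2885 17119325 true, .edge 2883 877 false] [.edge 2846 0 false]))))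
(.node 2 (.node 1 (.leaf (.eq 669 17043521 [] [.plain 2886 28256347 false])) (.leaf (.mov 659 17043521 true [.plain 2887 9269331 true, .edge 2881 1386 false]))) (.node 1 (.leaf .dfn) (.leaf (.mov 673 17043521 false [.edge 2889 0 true])))))
(.node 4 (.node 2 (.node 1 (.leaf (.mov 120 23928925 false [.plain 822 21178461 true, .edge 2889 813 false])) (.leaf .dfn)) (.node 1 (.leaf .dfn) (.leaf (.mov 123 29904967 false [.plain 835 29511761 true, .edge 2893 241 false]))))
(.node 2 (.node 1 (.leaf (.mov 123 4808797 false [.plain 836 4743237 true, .edge 2894 1158 false])) (.leaf (.mov 123 23928925 false [.plain 835 23666775 true, .edge 2895 946 false]))) (.node 1 (.leaf .dfn) (.leaf (.mov 123 13310023 true [.plain 835 13113411 true, .edge 2897 557 false])))))))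
(.node 15 (.node 7 (.node 3 (.node 1 (.leaf (.mov 123 32125001 true [.plain 836 32190533 true, .edge 2898 1423 false])) (.node 1 (.leaf (.mov 123 29904967 true [.plain 835 29511761 true, .edge 2899 733 false])) (.leaf .dfn)))
(.node 2 (.node 1 (.leaf .dfn) (.leaf (.mov 685 17043521 true [.edge 2902 0 true]))) (.node 1 (.leaf (.rel 123 15292489 1 [.edge 2897 556 false, .mul, .edge 2901 1027 false, .mul, .edge 2902 1065 false, .mul, .mul])) (.leaf (.eq 685 17043521 [] [.plain 2904 27537477 true])))))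
(.node 4 (.node 2 (.node 1 (.leaf (.eqT 123 29904967 true [.plain 2905 11368515 true, .edge 2903 598 false] [.edge 2900 0 false])) (.leaf (.eq 684 17043521 [] [.plain 2906 11368535 false]))) (.node 1 (.leaf .dfn) (.leaf .dfn)))
(.node 2 (.node 1 (.leaf (.mov 688 17043521 false [.edge 2909 0 true])) (.leaf .dfn)) (.node 1 (.leaf (.mov 689 17043521 true [.edge 2911 0 true])) (.leaf .dfn)))))
(.node 8 (.node 4 (.node 2 (.node 1 (.leaf (.mov 690 17043521 false [.edge 2913 0 true])) (.leaf (.rel 123 10897481 3 [.edge 919 1227 false, .edge 2909 587 false, .mul, .edge 2911 32 false, .mul, .edge 2913 768 false, .mul]))) (.node 1 (.leaf (.eq 690 17043521 [] [.plain 2915 17780803 true])) (.leaf (.mov 123 7292999 false [.plain 2916 17705025 true, .edge 2914 501 false]))))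
(.node 2 (.node 1 (.leaf .dfn) (.leaf .dfn)) (.node 1 (.leaf (.mov 692 17043521 true [.edge 2919 0 true])) (.leaf .dfn))))
(.node 4 (.node 2 (.node 1 (.leaf (.mov 693 17043521 false [.edge 2921 0 true])) (.leaf (.rel 123 8919113 3 [.edge 895 888 false, .edge 2918 1032 false, .mul, .edge 2919 1055 false, .mul, .edge 2921 179 false, .mul]))) (.node 1 (.leaf (.eq 693 17043521 [] [.plain 2923 17700945 true])) (.leaf (.eqT 123 29904967 false [.plain 2924 17584203 true, .edge 2922 513 false] [.edge 2894 0 false]))))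
(.node 2 (.node 1 (.leaf (.eq 692 17043521 [] [.plain 2925 17569871 false])) (.leaf (.mov 680 17043521 true [.plain 2926 17059929 true, .edge 2920 487 false]))) (.node 1 (.leaf .dfn) (.leaf .dfn)))))))))

/-- The reasons. -/
def caseCFullSrcLRLR : Tab Src := .node 244 caseCFullSrcLRLRL caseCFullSrcLRLRR

/-- The reasons. -/
def caseCFullSrcLRL : Tab Src := .node 488 caseCFullSrcLRLL caseCFullSrcLRLR

/-- The reasons. -/
def caseCFullSrcLRRLL : Tab Src :=
(.node 122 (.node 61 (.node 30 (.node 15 (.node 7 (.node 3 (.node 1 (.leaf .dfn) (.node 1 (.leaf (.mov 697 17043521 false [.edge 2930 0 true])) (.leaf .dfn)))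
(.node 2 (.node 1 (.leaf .dfn) (.leaf (.mov 699 17043521 false [.edge 2933 0 true]))) (.node 1 (.leaf .dfn) (.leaf (.mov 700 17043521 true [.edge 2935 0 true])))))
(.node 4 (.node 2 (.node 1 (.leaf .dfn) (.leaf (.mov 701 17043521 false [.edge 2937 0 true]))) (.node 1 (.leaf (.rel 123 30029915 6 [.edge 2899 1215 false, .edge 2932 817 false, .mul, .edge 2933 985 false, .mul, .edge 2935 1489 false, .edge 2937 1092 false, .mul])) (.leaf (.eq 701 17043521 [] [.plain 2939 19353693 true]))))
(.node 2 (.node 1 (.leaf (.mov 123 10971209 false [.plain 2940 17117259 true, .edge 2938 93 false])) (.leaf (.eqT 123 10971209 false [.plain 836 10905683 true, .edge 2941 425 false] [.edge 2941 0 false]))) (.node 1 (.leaf (.eq 700 17043521 [] [.plain 2942 17457233 false])) (.leaf (.mov 700 17059919 true [.plain 2943 17127489 true, .edge 2936 839 false]))))))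
(.node 7 (.node 3 (.node 1 (.leaf .dfn) (.node 1 (.leaf (.mov 702 17043521 false [.edge 2945 0 true])) (.leaf .dfn)))
(.node 2 (.node 1 (.leaf (.mov 703 17043521 true [.edge 2947 0 true])) (.leaf .dfn)) (.node 1 (.leaf (.mov 704 17043521 false [.edge 2949 0 true])) (.leaf (.rel 123 27547733 6 [.edge 896 133 false, .edge 2930 784 false, .mul, .edge 2945 808 false, .mul, .edge 2947 257 false, .edge 2949 377 false, .mul])))))
(.node 4 (.node 2 (.node 1 (.leaf (.eq 704 17043521 [] [.plain 2951 19032133 true])) (.leaf (.mov 123 13510735 false [.plain 2952 17068123 true, .edge 2950 1124 false]))) (.node 1 (.leaf (.mov 123 9056345 false [.plain 835 9187415 true, .edge 2953 636 false])) (.leaf (.mov 123 6776923 false [.plain 836 6711361 true, .edge 2954 1131 false]))))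
(.node 2 (.node 1 (.leaf (.mov 123 27529303 false [.plain 835 27660369 true, .edge 2955 882 false])) (.leaf .dfn)) (.node 1 (.leaf .dfn) (.leaf .dfn))))))
(.node 15 (.node 7 (.node 3 (.node 1 (.leaf (.mov 707 17043521 true [.edge 2959 0 true])) (.node 1 (.leaf .dfn) (.leaf (.mov 708 17043521 true [.edge 2961 0 true]))))
(.node 2 (.node 1 (.leaf (.rel 123 7024723 7 [.edge 2899 1425 false, .edge 2957 1066 false, .edge 2958 703 false, .mul, .edge 2959 702 false, .mul, .edge 2961 762 false, .mul])) (.leaf (.eq 708 17043521 [] [.plain 2963 25634889 true]))) (.node 1 (.leaf (.eqT 123 17043521 true [.plain 2964 8917067 true, .edge 2962 368 false] [.edge 895 0 false])) (.leaf (.eq 707 17043521 [] [.plain 2965 32317535 false])))))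
(.node 4 (.node 2 (.node 1 (.leaf (.mov 129 13510735 true [.plain 2966 17569859 true, .edge 2960 484 false])) (.leaf .dfn)) (.node 1 (.leaf .dfn) (.leaf (.mov 710 17043521 true [.edge 2969 0 true]))))
(.node 2 (.node 1 (.leaf .dfn) (.leaf (.mov 711 17043521 true [.edge 2971 0 true]))) (.node 1 (.leaf .dfn) (.leaf (.mov 712 17043521 true [.edge 2973 0 true]))))))
(.node 8 (.node 4 (.node 2 (.node 1 (.leaf (.rel 123 27621461 7 [.edge 896 349 false, .edge 2968 966 false, .edge 2969 944 false, .mul, .edge 2971 527 false, .mul, .edge 2973 192 false, .mul])) (.leaf (.eq 712 17043521 [] [.plain 2975 16916545 true]))) (.node 1 (.leaf (.eqT 123 32125001 true [.plain 2976 11098193 true, .edge 2974 762 false] [.edge 2899 0 false])) (.leaf (.eq 711 17043521 [] [.plain 2977 4677713 false]))))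
(.node 2 (.node 1 (.leaf (.mov 683 29904967 true [.plain 2978 9007169 true, .edge 2972 1074 false])) (.leaf .dfn)) (.node 1 (.leaf .dfn) (.leaf (.mov 714 17043521 false [.edge 2981 0 true])))))
(.node 4 (.node 2 (.node 1 (.leaf (.rel 126 15274049 0 [.edge 866 918 false, .mul, .edge 2980 195 false, .mul, .edge 2981 723 false, .mul, .mul])) (.leaf (.eq 714 17043521 [] [.plain 2983 19865679 true]))) (.node 1 (.leaf (.eqT 126 29904967 false [.plain 2984 17444957 true, .edge 2982 335 false] [.edge 864 0 false])) (.leaf (.eq 713 17043521 [] [.plain 2985 19222609 false]))))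
(.node 2 (.node 1 (.leaf .dfn) (.leaf (.mov 126 32125001 true [.plain 854 24070237 true, .edge 2987 888 false]))) (.node 1 (.leaf (.eqT 126 13510735 true [.plain 854 31856723 true, .edge 2988 428 false] [.edge 2987 0 false])) (.leaf (.eq 715 17043521 [] [.plain 2989 17635393 false]))))))))
(.node 30 (.node 15 (.node 7 (.node 3 (.node 1 (.leaf .dfn) (.node 1 (.leaf (.mov 716 17043521 true [.edge 2991 0 true])) (.leaf (.eqT 715 17059919 true [.plain 2990 17651791 true, .edge 2991 1287 false] [.edge 2991 0 false]))))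
(.node 2 (.node 1 (.leaf (.eq 716 17043521 [] [.plain 2993 17633363 false])) (.leaf .dfn)) (.node 1 (.leaf (.mov 717 17043521 true [.edge 2995 0 true])) (.leaf (.rel 126 21383263 1 [.edge 2987 1057 false, .mul, .edge 2991 548 false, .mul, .edge 2995 961 false, .mul, .mul])))))
(.node 4 (.node 2 (.node 1 (.leaf (.eq 717 17043521 [] [.plain 2997 27596887 true])) (.leaf (.mov 126 32131155 true [.plain 2998 11284561 true, .edge 2996 201 false]))) (.node 1 (.leaf (.mov 126 13310023 true [.plain 854 21375057 true, .edge 2999 609 false])) (.leaf .dfn)))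
(.node 2 (.node 1 (.leaf (.mov 718 17043521 true [.edge 3001 0 true])) (.leaf (.mov 126 25385043 true [.plain 854 4995157 true, .edge 3001 607 false]))) (.node 1 (.leaf (.mov 126 31801425 true [.plain 854 9386075 true, .edge 3003 190 false])) (.leaf (.mov 126 11495495 true [.plain 854 29704281 true, .edge 3004 860 false]))))))
(.node 7 (.node 3 (.node 1 (.leaf .dfn) (.node 1 (.leaf (.mov 719 17043521 true [.edge 3006 0 true])) (.leaf .dfn)))
(.node 2 (.node 1 (.leaf (.mov 720 17043521 true [.edge 3008 0 true])) (.leaf (.rel 126 23410767 1 [.edge 3001 76 false, .mul, .edge 3006 936 false, .mul, .edge 3008 250 false, .mul, .mul]))) (.node 1 (.leaf (.eq 720 17043521 [] [.plain 3010 8984655 true])) (.leaf (.eqT 126 4544593 true [.plain 3011 11368513 true, .edge 3009 625 false] [.edge 978 0 false])))))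
(.node 4 (.node 2 (.node 1 (.leaf (.eq 719 17043521 [] [.plain 3012 11366487 false])) (.leaf (.eqT 145 32131155 true [.plain 3013 11040859 true, .edge 3007 537 false] [.edge 2842 0 false]))) (.node 1 (.leaf (.eq 718 17043521 [] [.plain 3014 27594821 false])) (.leaf (.mov 188 10971209 true [.plain 3015 8919129 true, .edge 3002 953 false]))))
(.node 2 (.node 1 (.leaf .dfn) (.leaf (.mov 721 17043521 false [.edge 3017 0 true]))) (.node 1 (.leaf .dfn) (.leaf (.mov 722 17043521 false [.edge 3019 0 true])))))))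
(.node 15 (.node 7 (.node 3 (.node 1 (.leaf .dfn) (.node 1 (.leaf (.mov 723 17043521 false [.edge 3021 0 true])) (.leaf (.mov 716 29904967 false [.plain 2994 29839449 true, .edge 3021 800 false]))))
(.node 2 (.node 1 (.leaf .dfn) (.leaf (.mov 724 17043521 true [.edge 3024 0 true]))) (.node 1 (.leaf .dfn) (.leaf (.mov 725 17043521 false [.edge 3026 0 true])))))
(.node 4 (.node 2 (.node 1 (.leaf (.rel 126 21903455 3 [.edge 3000 1430 false, .edge 3021 703 false, .mul, .edge 3024 333 false, .mul, .edge 3026 59 false, .mul])) (.leaf (.eq 725 17043521 [] [.plain 3028 16934987 true]))) (.node 1 (.leaf (.mov 126 23928925 false [.plain 3029 17444947 true, .edge 3027 991 false])) (.leaf (.mov 126 7292999 false [.plain 854 29577305 true, .edge 3030 468 false]))))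
(.node 2 (.node 1 (.leaf (.mov 126 32125001 false [.plain 854 24070237 true, .edge 3031 513 false])) (.leaf (.mov 126 9056345 false [.plain 854 23334989 true, .edge 3032 748 false]))) (.node 1 (.leaf .dfn) (.leaf .dfn)))))
(.node 8 (.node 4 (.node 2 (.node 1 (.leaf .dfn) (.leaf (.mov 728 17043521 false [.edge 3036 0 true]))) (.node 1 (.leaf (.rel 126 25565265 3 [.edge 3003 831 false, .plain 3015 11286617 false, .edge 3034 161 false, .mul, .edge 3035 223 false, .mul, .edge 3036 162 false, .mul])) (.leaf (.eq 728 17043521 [] [.plain 3038 17702977 true]))))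
(.node 2 (.node 1 (.leaf (.mov 126 6776923 false [.plain 3039 17594443 true, .edge 3037 19 false])) (.leaf (.mov 126 13310023 false [.plain 854 21375057 true, .edge 3040 795 false]))) (.node 1 (.leaf (.mov 126 31801425 false [.plain 854 9386075 true, .edge 3041 207 false])) (.leaf (.mov 126 10971209 false [.plain 854 12927047 true, .edge 3042 1280 false])))))
(.node 4 (.node 2 (.node 1 (.leaf .dfn) (.leaf (.mov 730 17043521 false [.edge 3044 0 true]))) (.node 1 (.leaf (.mov 715 4808797 false [.plain 2990 4876381 true, .edge 3044 128 false])) (.leaf .dfn)))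
(.node 2 (.node 1 (.leaf (.mov 731 17043521 false [.edge 3047 0 true])) (.leaf (.rel 126 19339345 6 [.edge 3003 159 false, .plain 3015 19732555 false, .edge 1166 92 false, .plain 1514 12935239 false, .mul, .edge 1523 911 false, .mul, .edge 2853 956 false, .plain 2860 19683419 false, .edge 3047 580 false, .mul]))) (.node 1 (.leaf (.eq 731 17043521 [] [.plain 3049 19691603 true])) (.leaf (.eqT 126 17043521 false [.plain 3050 17702977 true, .edge 3048 475 false] [.edge 865 0 false])))))))))
(.node 61 (.node 30 (.node 15 (.node 7 (.node 3 (.node 1 (.leaf (.eq 655 17043521 [] [.plain 3051 6645841 false])) (.node 1 (.leaf (.mov 129 4544593 true [.plain 3052 19208257 true, .edge 2825 423 false])) (.leaf (.mov 129 17059919 true [.plain 3052 4474953 true, .edge 2826 853 false]))))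
(.node 2 (.node 1 (.leaf (.mov 129 17043521 true [.plain 3052 21252183 true, .edge 2861 548 false])) (.leaf .dfn)) (.node 1 (.leaf (.mov 732 17043521 true [.edge 3056 0 true])) (.leaf .dfn))))
(.node 4 (.node 2 (.node 1 (.leaf (.mov 733 17043521 false [.edge 3058 0 true])) (.leaf (.rel 126 13197381 6 [.edge 976 1223 false, .edge 2835 723 false, .plain 2838 16918607 false, .mul, .edge 1052 817 false, .plain 2840 16998477 false, .mul, .edge 3056 1456 false, .edge 3058 605 false, .mul]))) (.node 1 (.leaf (.eq 733 17043521 [] [.plain 3060 19816519 true])) (.leaf (.eqT 126 29904967 false [.plain 3061 17133635 true, .edge 3059 1465 false] [.edge 864 0 false]))))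
(.node 2 (.node 1 (.leaf (.eq 732 17043521 [] [.plain 3062 27469919 false])) (.leaf (.mov 129 25385043 true [.plain 3063 8992835 true, .edge 3057 1426 false]))) (.node 1 (.leaf .dfn) (.leaf (.mov 734 17043521 true [.edge 3065 0 true]))))))
(.node 7 (.node 3 (.node 1 (.leaf .dfn) (.node 1 (.leaf (.mov 735 17043521 true [.edge 3067 0 true])) (.leaf .dfn)))
(.node 2 (.node 1 (.leaf (.mov 736 17043521 true [.edge 3069 0 true])) (.leaf (.rel 126 8550483 7 [.edge 3003 70 false, .plain 3015 27555905 false, .edge 3034 773 false, .edge 3065 1333 false, .mul, .edge 3067 1226 false, .mul, .edge 3069 272 false, .mul]))) (.node 1 (.leaf (.eq 736 17043521 [] [.plain 3071 27476059 true])) (.leaf (.eqT 126 4544593 true [.plain 3072 11081811 true, .edge 3070 143 false] [.edge 978 0 false])))))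
(.node 4 (.node 2 (.node 1 (.leaf (.eq 735 17043521 [] [.plain 3073 30220357 false])) (.leaf (.mov 145 19085399 true [.plain 3074 19224659 true, .edge 3068 807 false]))) (.node 1 (.leaf .dfn) (.leaf (.mov 737 17043521 false [.edge 3076 0 true]))))
(.node 2 (.node 1 (.leaf .dfn) (.leaf (.mov 738 17043521 true [.edge 3078 0 true]))) (.node 1 (.leaf .dfn) (.leaf (.mov 739 17043521 true [.edge 3080 0 true])))))))
(.node 15 (.node 7 (.node 3 (.node 1 (.leaf .dfn) (.node 1 (.leaf (.mov 740 17043521 true [.edge 3082 0 true])) (.leaf (.rel 126 4540493 7 [.edge 976 609 false, .edge 3076 157 false, .edge 3078 280 false, .mul, .edge 3080 602 false, .mul, .edge 3082 583 false, .mul]))))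
(.node 2 (.node 1 (.leaf (.eq 740 17043521 [] [.plain 3084 28188763 true])) (.leaf (.eqT 126 11495495 true [.plain 3085 17111113 true, .edge 3083 890 false] [.edge 3005 0 false]))) (.node 1 (.leaf (.eq 739 21907523 [] [.plain 3086 17043521 false, .plain 3015 27816009 false])) (.leaf (.eq 739 17043521 [] [.plain 3087 7100483 false])))))
(.node 4 (.node 2 (.node 1 (.leaf (.mov 188 13510735 true [.plain 3088 25759809 true, .edge 3081 577 false])) (.leaf .dfn)) (.node 1 (.leaf .dfn) (.leaf (.mov 742 17043521 false [.edge 3091 0 true]))))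
(.node 2 (.node 1 (.leaf .dfn) (.leaf (.mov 743 17043521 false [.edge 3093 0 true]))) (.node 1 (.leaf (.rel 129 29843533 0 [.edge 3090 416 false, .mul, .edge 3091 1031 false, .mul, .edge 3093 273 false, .mul, .mul])) (.leaf (.eq 743 17043521 [] [.plain 3095 19081301 true]))))))
(.node 8 (.node 4 (.node 2 (.node 1 (.leaf (.mov 129 13510735 false [.plain 3096 16935003 true, .edge 3094 810 false])) (.leaf .dfn)) (.node 1 (.leaf .dfn) (.leaf (.mov 745 17043521 false [.edge 3099 0 true]))))
(.node 2 (.node 1 (.leaf .dfn) (.leaf (.mov 746 17043521 false [.edge 3101 0 true]))) (.node 1 (.leaf (.rel 129 4749379 0 [.edge 3098 998 false, .mul, .edge 3099 1115 false, .mul, .edge 3101 1239 false, .mul, .mul])) (.leaf (.eq 746 17043521 [] [.plain 3103 19865673 true])))))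
(.node 4 (.node 2 (.node 1 (.leaf (.mov 129 4808797 false [.plain 3104 16935003 true, .edge 3102 810 false])) (.leaf .dfn)) (.node 1 (.leaf .dfn) (.leaf (.mov 748 17043521 true [.edge 3107 0 true]))))
(.node 2 (.node 1 (.leaf .dfn) (.leaf (.mov 749 17043521 true [.edge 3109 0 true]))) (.node 1 (.leaf (.rel 129 27732053 1 [.edge 3106 1412 false, .mul, .edge 3107 843 false, .mul, .edge 3109 471 false, .mul, .mul])) (.leaf (.eq 749 17043521 [] [.plain 3111 17111119 true]))))))))
(.node 30 (.node 15 (.node 7 (.node 3 (.node 1 (.leaf (.eqT 129 10971209 true [.plain 3112 17651779 true, .edge 3110 914 false] [.edge 886 0 false])) (.node 1 (.leaf (.eq 748 17635405 [] [.plain 3113 17043521 false, .plain 893 17043521 false])) (.leaf (.eq 748 17043521 [] [.plain 3114 17635421 false]))))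
(.node 2 (.node 1 (.leaf (.eqT 123 25385043 true [.plain 3115 19757123 true, .edge 3108 933 false] [.edge 897 0 false])) (.leaf (.eq 747 17043521 [] [.plain 3116 19755085 false]))) (.node 1 (.leaf .dfn) (.leaf .dfn))))
(.node 4 (.node 2 (.node 1 (.leaf (.mov 751 17043521 true [.edge 3119 0 true])) (.leaf .dfn)) (.node 1 (.leaf (.mov 752 17043521 true [.edge 3121 0 true])) (.leaf (.rel 129 32317533 1 [.edge 3118 1178 false, .mul, .edge 3119 629 false, .mul, .edge 3121 659 false, .mul, .mul]))))
(.node 2 (.node 1 (.leaf (.eq 752 17043521 [] [.plain 3123 27611221 true])) (.leaf (.mov 129 31801425 true [.plain 3124 9007193 true, .edge 3122 1353 false]))) (.node 1 (.leaf .dfn) (.leaf .dfn)))))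
(.node 7 (.node 3 (.node 1 (.leaf (.mov 756 17043521 true [.edge 3127 0 true])) (.node 1 (.leaf .dfn) (.leaf (.mov 757 17043521 false [.edge 3129 0 true]))))
(.node 2 (.node 1 (.leaf (.rel 129 27881551 3 [.edge 3054 339 false, .plain 2833 11294785 false, .edge 2852 573 false, .mul, .edge 3127 865 false, .mul, .edge 3129 545 false, .mul])) (.leaf (.eq 757 17043521 [] [.plain 3131 16998481 true]))) (.node 1 (.leaf (.eqT 129 4808797 false [.plain 3132 17256519 true, .edge 3130 127 false] [.edge 3105 0 false])) (.leaf (.eq 756 17043521 [] [.plain 3133 19554387 false])))))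
(.node 4 (.node 2 (.node 1 (.leaf (.mov 745 10971209 true [.plain 3134 11300931 true, .edge 3128 1131 false])) (.leaf .dfn)) (.node 1 (.leaf (.mov 758 17043521 false [.edge 3136 0 true])) (.leaf .dfn)))
(.node 2 (.node 1 (.leaf .dfn) (.leaf (.mov 760 17043521 false [.edge 3139 0 true]))) (.node 1 (.leaf .dfn) (.leaf (.mov 761 17043521 true [.edge 3141 0 true])))))))
(.node 15 (.node 7 (.node 3 (.node 1 (.leaf .dfn) (.node 1 (.leaf (.mov 762 17043521 false [.edge 3143 0 true])) (.leaf (.rel 129 5064773 6 [.edge 3118 379 false, .edge 3136 556 false, .mul, .edge 3139 309 false, .mul, .edge 3141 570 false, .edge 3143 1349 false, .mul]))))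
(.node 2 (.node 1 (.leaf (.eq 762 17043521 [] [.plain 3145 19273803 true])) (.leaf (.eqT 129 31801425 false [.plain 3146 17002571 true, .edge 3144 1462 false] [.edge 2968 0 false]))) (.node 1 (.leaf (.eq 761 17043521 [] [.plain 3147 28260439 false])) (.leaf (.eqT 709 19085399 true [.plain 3148 9195593 true, .edge 3142 1159 false] [.edge 2969 0 false])))))
(.node 4 (.node 2 (.node 1 (.leaf (.eq 760 17043521 [] [.plain 3149 16998491 false])) (.leaf (.mov 710 17043521 false [.plain 3150 17442887 true, .edge 3140 1256 false]))) (.node 1 (.leaf .dfn) (.leaf .dfn)))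
(.node 2 (.node 1 (.leaf .dfn) (.leaf .dfn)) (.node 1 (.leaf (.mov 766 17043521 true [.edge 3155 0 true])) (.leaf (.rel 129 13445203 7 [.edge 3125 331 false, .edge 3152 196 false, .edge 3153 651 false, .mul, .edge 3154 278 false, .mul, .edge 3155 612 false, .mul]))))))
(.node 8 (.node 4 (.node 2 (.node 1 (.leaf (.eq 766 17043521 [] [.plain 3157 28254273 true])) (.leaf (.mov 129 32125001 true [.plain 3158 11032659 true, .edge 3156 145 false]))) (.node 1 (.leaf .dfn) (.leaf .dfn)))
(.node 2 (.node 1 (.leaf .dfn) (.leaf .dfn)) (.node 1 (.leaf (.mov 770 17043521 true [.edge 3163 0 true])) (.leaf (.rel 129 29646933 7 [.edge 3118 138 false, .edge 3160 1192 false, .edge 3161 751 false, .mul, .edge 3162 573 false, .mul, .edge 3163 1434 false, .mul])))))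
(.node 4 (.node 2 (.node 1 (.leaf (.eq 770 17043521 [] [.plain 3165 25313355 true])) (.leaf (.eqT 129 32125001 true [.plain 3166 19222603 true, .edge 3164 910 false] [.edge 3159 0 false]))) (.node 1 (.leaf (.eq 769 17043521 [] [.plain 3167 21833815 false])) (.leaf .dfn)))
(.node 2 (.node 1 (.leaf (.mov 130 11495495 true [.plain 872 11481177 true, .edge 3169 734 false])) (.leaf (.eqT 130 25385043 true [.plain 873 26091605 true, .edge 3170 563 false] [.edge 3169 0 false]))) (.node 1 (.leaf (.eqT 130 25385043 true [.plain 874 26167383 true, .edge 3170 1008 false] [.edge 3169 0 false])) (.leaf (.eqT 130 11495495 true [.plain 873 11221081 true, .edge 3169 1380 false] [.edge 3170 0 false]))))))))))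

/-- The reasons. -/
def caseCFullSrcLRRLR : Tab Src :=
(.node 122 (.node 61 (.node 30 (.node 15 (.node 7 (.node 3 (.node 1 (.leaf (.eqT 130 11495495 true [.plain 874 11147355 true, .edge 3169 74 false] [.edge 3170 0 false])) (.node 1 (.leaf (.eq 773 17043521 [] [.plain 3174 19681353 false])) (.leaf (.eq 773 17043521 [] [.plain 3173 25776195 false]))))
(.node 2 (.node 1 (.leaf (.eq 773 17043521 [] [.plain 3172 27529283 false])) (.leaf (.eq 773 17043521 [] [.plain 3171 19142723 false]))) (.node 1 (.leaf .dfn) (.leaf (.eqT 773 17059919 true [.plain 3175 17061957 true, .edge 3179 860 false] [.edge 3179 0 false])))))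
(.node 4 (.node 2 (.node 1 (.leaf (.eqT 773 17059919 true [.plain 3176 27553871 true, .edge 3179 1196 false] [.edge 3179 0 false])) (.leaf (.eqT 773 17059919 true [.plain 3177 27545677 true, .edge 3179 1497 false] [.edge 3179 0 false]))) (.node 1 (.leaf (.eqT 773 17059919 true [.plain 3178 19159117 true, .edge 3179 1176 false] [.edge 3179 0 false])) (.leaf (.eq 774 17043521 [] [.plain 3183 19232859 false]))))
(.node 2 (.node 1 (.leaf (.eq 774 17043521 [] [.plain 3182 8917083 false])) (.leaf (.eq 774 17043521 [] [.plain 3181 8941633 false]))) (.node 1 (.leaf (.eq 774 17043521 [] [.plain 3180 17070147 false])) (.leaf .dfn)))))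
(.node 7 (.node 3 (.node 1 (.leaf (.mov 775 17043521 true [.edge 3188 0 true])) (.node 1 (.leaf (.rel 130 27406427 1 [.edge 3169 299 false, .mul, .edge 3179 1232 false, .mul, .edge 3188 243 false, .mul, .mul])) (.leaf (.eq 775 17043521 [] [.plain 3190 25694277 true]))))
(.node 2 (.node 1 (.leaf (.mov 130 19085399 true [.plain 3191 8919107 true, .edge 3189 1463 false])) (.leaf .dfn)) (.node 1 (.leaf (.mov 130 13310023 true [.plain 872 13334609 true, .edge 3193 1072 false])) (.leaf (.mov 130 4808797 true [.plain 873 4864079 true, .edge 3194 735 false])))))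
(.node 4 (.node 2 (.node 1 (.leaf (.mov 130 29904967 true [.plain 872 29911127 true, .edge 3195 619 false])) (.leaf (.mov 130 32131155 true [.plain 874 31789125 true, .edge 3196 561 false]))) (.node 1 (.leaf (.mov 130 13510735 true [.plain 872 13525075 true, .edge 3197 70 false])) (.leaf (.mov 130 4544593 true [.plain 873 4612187 true, .edge 3197 357 false]))))
(.node 2 (.node 1 (.leaf (.mov 130 31801425 true [.plain 872 31791195 true, .edge 3199 593 false])) (.leaf (.eqT 130 31801425 true [.plain 873 32182363 true, .edge 3193 108 false] [.edge 3200 0 false]))) (.node 1 (.leaf (.eq 776 17043521 [] [.plain 3201 9007187 false])) (.leaf .dfn))))))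
(.node 15 (.node 7 (.node 3 (.node 1 (.leaf (.mov 774 29904967 false [.plain 3184 32073801 true, .edge 3203 1070 false])) (.node 1 (.leaf (.mov 774 17043521 false [.plain 3185 8917083 true, .edge 3204 276 false])) (.leaf (.mov 774 19085399 false [.plain 3184 16932929 true, .edge 3205 280 false]))))
(.node 2 (.node 1 (.leaf (.eqT 774 19085399 false [.plain 3186 6907991 true, .edge 3203 854 false] [.edge 3206 0 false])) (.leaf (.eqT 774 4808797 false [.plain 3187 4796511 true, .edge 3203 239 false] [.edge 3203 0 false]))) (.node 1 (.leaf (.eq 779 17043521 [] [.plain 3208 17764437 false])) (.leaf (.eq 779 17043521 [] [.plain 3207 17635405 false])))))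
(.node 4 (.node 2 (.node 1 (.leaf .dfn) (.leaf (.mov 776 27529303 false [.plain 3202 11368543 true, .edge 3211 1341 false]))) (.node 1 (.leaf (.eqT 776 13510735 false [.plain 3202 31856723 true, .edge 3212 893 false] [.edge 3211 0 false])) (.leaf (.eq 781 17043521 [] [.plain 3213 17569875 false]))))
(.node 2 (.node 1 (.leaf .dfn) (.leaf (.mov 782 17043521 true [.edge 3215 0 true]))) (.node 1 (.leaf .dfn) (.leaf (.mov 783 17043521 false [.edge 3217 0 true]))))))
(.node 8 (.node 4 (.node 2 (.node 1 (.leaf (.rel 130 6971477 3 [.edge 3198 1529 false, .edge 3211 961 false, .mul, .edge 3215 1183 false, .mul, .edge 3217 81 false, .mul])) (.leaf (.eq 783 17043521 [] [.plain 3219 17784911 true]))) (.node 1 (.leaf (.eqT 130 27529303 false [.plain 3220 17053787 true, .edge 3218 457 false] [.edge 878 0 false])) (.leaf (.eq 782 17043521 [] [.plain 3221 17000541 false]))))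
(.node 2 (.node 1 (.leaf (.mov 131 19085399 true [.plain 3222 19230795 true, .edge 3216 1307 false])) (.leaf (.mov 131 10971209 true [.plain 883 10967117 true, .edge 3223 1293 false]))) (.node 1 (.leaf .dfn) (.leaf (.mov 789 17043521 true [.edge 3225 0 true])))))
(.node 4 (.node 2 (.node 1 (.leaf (.rel 130 17657923 7 [.edge 868 850 false, .edge 189 627 false, .edge 249 52 false, .mul, .edge 1054 783 false, .mul, .edge 3225 481 false, .mul])) (.leaf (.eq 789 17043521 [] [.plain 3227 19538003 true]))) (.node 1 (.leaf (.eqT 130 25385043 true [.plain 3228 27859017 true, .edge 3226 1177 false] [.edge 3169 0 false])) (.leaf (.eq 773 17043521 [] [.plain 3229 17043521 true]))))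
(.node 2 (.node 1 (.leaf (.mov 162 32131155 true [.plain 3230 27603021 true, .edge 3179 1148 false])) (.leaf .dfn)) (.node 1 (.leaf (.mov 779 25385043 true [.plain 3209 25516125 true, .edge 3232 460 false])) (.leaf (.mov 779 17043521 true [.plain 3210 17698883 true, .edge 3233 1070 false]))))))))
(.node 30 (.node 15 (.node 7 (.node 3 (.node 1 (.leaf (.mov 779 19085399 true [.plain 3209 19675211 true, .edge 3234 943 false])) (.node 1 (.leaf .dfn) (.leaf .dfn)))
(.node 2 (.node 1 (.leaf (.mov 792 17043521 true [.edge 3237 0 true])) (.leaf (.rel 130 10901599 7 [.edge 3192 595 false, .edge 3204 306 false, .edge 3232 1205 false, .mul, .edge 3236 1416 false, .mul, .edge 3237 1007 false, .mul]))) (.node 1 (.leaf (.eq 792 17043521 [] [.plain 3239 10960977 true])) (.leaf (.eqT 130 13510735 true [.plain 3240 19681369 true, .edge 3238 425 false] [.edge 3198 0 false])))))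
(.node 4 (.node 2 (.node 1 (.leaf (.eq 791 17043521 [] [.plain 3241 15214673 false])) (.leaf .dfn)) (.node 1 (.leaf .dfn) (.leaf .dfn)))
(.node 2 (.node 1 (.leaf (.mov 795 17043521 false [.edge 3245 0 true])) (.leaf (.rel 131 14907475 0 [.edge 3243 650 false, .mul, .edge 3244 66 false, .mul, .edge 3245 1050 false, .mul, .mul]))) (.node 1 (.leaf (.eq 795 17043521 [] [.plain 3247 19556419 true])) (.leaf (.mov 131 32125001 false [.plain 3248 16935003 true, .edge 3246 810 false]))))))
(.node 7 (.node 3 (.node 1 (.leaf (.mov 131 9056345 false [.plain 883 9070661 true, .edge 3249 966 false])) (.node 1 (.leaf (.mov 131 7292999 false [.plain 884 7282777 true, .edge 3250 542 false])) (.leaf (.mov 131 13310023 false [.plain 883 13322333 true, .edge 3251 957 false]))))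
(.node 2 (.node 1 (.leaf .dfn) (.leaf (.mov 131 29904967 true [.plain 883 29890635 true, .edge 3253 540 false]))) (.node 1 (.leaf (.mov 131 4808797 true [.plain 884 4796495 true, .edge 3254 160 false])) (.leaf (.eqT 131 29904967 true [.plain 885 29890651 true, .edge 3253 813 false] [.edge 3254 0 false])))))
(.node 4 (.node 2 (.node 1 (.leaf (.eq 796 17043521 [] [.plain 3256 25776203 false])) (.leaf .dfn)) (.node 1 (.leaf (.mov 131 32125001 true [.plain 883 32139331 true, .edge 3258 91 false])) (.leaf (.mov 131 13310023 true [.plain 884 13334609 true, .edge 3259 1072 false]))))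
(.node 2 (.node 1 (.leaf (.mov 131 13510735 true [.plain 883 13520991 true, .edge 3260 43 false])) (.leaf (.eqT 131 13310023 true [.plain 885 13322315 true, .edge 3258 498 false] [.edge 3260 0 false]))) (.node 1 (.leaf (.eq 799 17043521 [] [.plain 3262 17592385 false])) (.leaf .dfn))))))
(.node 15 (.node 7 (.node 3 (.node 1 (.leaf (.mov 799 29904967 false [.plain 3263 19882053 true, .edge 3264 1462 false])) (.node 1 (.leaf .dfn) (.leaf (.mov 781 13510735 false [.plain 3214 13115457 true, .edge 3266 109 false]))))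
(.node 2 (.node 1 (.leaf .dfn) (.leaf .dfn)) (.node 1 (.leaf .dfn) (.leaf .dfn))))
(.node 4 (.node 2 (.node 1 (.leaf (.rel 131 29888607 6 [.edge 3254 1174 false, .edge 3268 296 false, .mul, .edge 3269 50 false, .mul, .edge 3270 1163 false, .edge 3271 797 false, .mul])) (.leaf (.eq 814 17043521 [] [.plain 3272 19882055 true]))) (.node 1 (.leaf .dfn) (.leaf .dfn)))
(.node 2 (.node 1 (.leaf .dfn) (.leaf (.mov 817 17043521 true [.edge 3276 0 true]))) (.node 1 (.leaf (.rel 131 8865865 7 [.edge 3224 82 false, .edge 3267 504 false, .edge 3274 1069 false, .mul, .edge 3275 447 false, .mul, .edge 3276 1249 false, .mul])) (.leaf (.eq 817 17043521 [] [.plain 3278 9390171 true]))))))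
(.node 8 (.node 4 (.node 2 (.node 1 (.leaf (.eqT 131 13510735 true [.plain 3279 17061977 true, .edge 3277 564 false] [.edge 3261 0 false])) (.leaf (.eq 816 17043521 [] [.plain 3280 13322315 false]))) (.node 1 (.leaf .dfn) (.leaf .dfn)))
(.node 2 (.node 1 (.leaf (.mov 819 17043521 true [.edge 3283 0 true])) (.leaf .dfn)) (.node 1 (.leaf (.mov 820 17043521 true [.edge 3285 0 true])) (.leaf (.rel 131 29577291 7 [.edge 3259 907 false, .edge 3264 1275 false, .edge 3282 528 false, .mul, .edge 3283 881 false, .mul, .edge 3285 13 false, .mul])))))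
(.node 4 (.node 2 (.node 1 (.leaf (.eq 820 17043521 [] [.plain 3287 27476033 true])) (.leaf (.eqT 131 4808797 true [.plain 3288 17659971 true, .edge 3286 233 false] [.edge 3255 0 false]))) (.node 1 (.leaf (.eq 819 17043521 [] [.plain 3289 7284829 false])) (.leaf (.mov 796 4544593 true [.plain 3290 17578065 true, .edge 3284 1399 false]))))
(.node 2 (.node 1 (.leaf (.mov 796 31801425 true [.plain 3257 31789137 true, .edge 3291 1517 false])) (.leaf .dfn)) (.node 1 (.leaf (.eqT 134 6776923 false [.plain 909 7157849 true, .edge 3293 239 false] [.edge 3293 0 false])) (.leaf (.eqT 134 6776923 false [.plain 910 7090255 true, .edge 3293 228 false] [.edge 3293 0 false])))))))))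
(.node 61 (.node 30 (.node 15 (.node 7 (.node 3 (.node 1 (.leaf (.eq 821 17043521 [] [.plain 3295 17698883 false])) (.node 1 (.leaf (.eq 821 17043521 [] [.plain 3294 17764437 false])) (.leaf .dfn)))
(.node 2 (.node 1 (.leaf (.mov 822 17043521 false [.edge 3298 0 true])) (.leaf (.eqT 821 19085399 false [.plain 3296 19740757 true, .edge 3298 1490 false] [.edge 3298 0 false]))) (.node 1 (.leaf (.eqT 821 19085399 false [.plain 3297 19675211 true, .edge 3298 1529 false] [.edge 3298 0 false])) (.leaf (.eq 822 17043521 [] [.plain 3301 17053763 false])))))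
(.node 4 (.node 2 (.node 1 (.leaf (.eq 822 17043521 [] [.plain 3300 17051723 false])) (.leaf .dfn)) (.node 1 (.leaf (.mov 823 17043521 false [.edge 3304 0 true])) (.leaf (.rel 134 29691985 0 [.edge 3293 51 false, .mul, .edge 3298 1509 false, .mul, .edge 3304 16 false, .mul, .mul]))))
(.node 2 (.node 1 (.leaf (.eq 823 17043521 [] [.plain 3306 19757137 true])) (.leaf (.mov 134 9056345 false [.plain 3307 16935003 true, .edge 3305 810 false]))) (.node 1 (.leaf .dfn) (.leaf (.mov 824 17043521 true [.edge 3309 0 true]))))))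
(.node 7 (.node 3 (.node 1 (.leaf .dfn) (.node 1 (.leaf (.mov 825 17043521 true [.edge 3311 0 true])) (.leaf (.rel 134 8812619 1 [.edge 1145 198 false, .plain 1050 17119315 false, .mul, .edge 3309 29 false, .mul, .edge 3311 32 false, .mul, .mul]))))
(.node 2 (.node 1 (.leaf (.eq 825 17043521 [] [.plain 3313 11106397 true])) (.leaf (.eqT 134 19085399 true [.plain 3314 17053777 true, .edge 3312 621 false] [.edge 911 0 false]))) (.node 1 (.leaf (.eq 824 17043527 [] [.plain 3315 17043521 false, .plain 918 17043521 false])) (.leaf (.eq 824 17043521 [] [.plain 3316 17043527 false])))))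
(.node 4 (.node 2 (.node 1 (.leaf (.mov 123 11495495 true [.plain 3317 8999003 true, .edge 3310 100 false])) (.leaf .dfn)) (.node 1 (.leaf .dfn) (.leaf .dfn)))
(.node 2 (.node 1 (.leaf (.mov 828 17043521 true [.edge 3321 0 true])) (.leaf (.rel 134 29712469 1 [.edge 3319 1053 false, .mul, .edge 3320 735 false, .mul, .edge 3321 411 false, .mul, .mul]))) (.node 1 (.leaf (.eq 828 17043521 [] [.plain 3323 27799623 true])) (.leaf (.mov 134 31801425 true [.plain 3324 9007193 true, .edge 3322 1353 false])))))))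
(.node 15 (.node 7 (.node 3 (.node 1 (.leaf .dfn) (.node 1 (.leaf (.mov 829 17043521 true [.edge 3326 0 true])) (.leaf (.mov 134 17043521 true [.plain 909 16916547 true, .edge 3326 365 false]))))
(.node 2 (.node 1 (.leaf (.mov 134 11495495 true [.plain 910 11300931 true, .edge 3328 1131 false])) (.leaf (.mov 134 17059919 true [.plain 909 17440845 true, .edge 3329 540 false]))) (.node 1 (.leaf .dfn) (.leaf (.eqT 134 32125001 true [.plain 909 31871051 true, .edge 3331 1262 false] [.edge 3331 0 false])))))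
(.node 4 (.node 2 (.node 1 (.leaf (.eqT 134 32125001 true [.plain 910 31938641 true, .edge 3331 1117 false] [.edge 3331 0 false])) (.leaf (.eq 831 17043521 [] [.plain 3333 25440323 false]))) (.node 1 (.leaf (.eq 831 17043521 [] [.plain 3332 27539529 false])) (.leaf .dfn)))
(.node 2 (.node 1 (.leaf (.mov 833 17043521 false [.edge 3336 0 true])) (.leaf .dfn)) (.node 1 (.leaf (.mov 834 17043521 true [.edge 3338 0 true])) (.leaf .dfn)))))
(.node 8 (.node 4 (.node 2 (.node 1 (.leaf (.mov 835 17043521 false [.edge 3340 0 true])) (.leaf (.rel 134 17508421 3 [.edge 3329 1397 false, .edge 3336 5 false, .mul, .edge 3338 6 false, .mul, .edge 3340 365 false, .mul]))) (.node 1 (.leaf (.eq 835 17043521 [] [.plain 3342 17193041 true])) (.leaf (.eqT 134 17043521 false [.plain 3343 17244235 true, .edge 3341 505 false] [.edge 899 0 false]))))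
(.node 2 (.node 1 (.leaf (.eq 834 17043521 [] [.plain 3344 17721431 false])) (.leaf (.eqT 31 13510735 true [.plain 3345 19208259 true, .edge 3339 848 false] [.edge 1133 0 false]))) (.node 1 (.leaf (.eq 833 19150921 [] [.plain 3346 17043521 false, .plain 1514 13379665 false])) (.leaf (.eq 833 17043521 [] [.plain 3347 19150921 false])))))
(.node 4 (.node 2 (.node 1 (.leaf (.eqT 71 13510735 false [.plain 3348 17262683 true, .edge 3337 174 false] [.edge 1523 0 false])) (.leaf (.eq 829 17043521 [] [.plain 3349 25434183 false]))) (.node 1 (.leaf (.mov 188 19085399 true [.plain 3350 25505881 true, .edge 3327 1433 false])) (.leaf .dfn)))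
(.node 2 (.node 1 (.leaf (.mov 836 17043521 false [.edge 3352 0 true])) (.leaf .dfn)) (.node 1 (.leaf (.mov 837 17043521 true [.edge 3354 0 true])) (.leaf .dfn)))))))
(.node 30 (.node 15 (.node 7 (.node 3 (.node 1 (.leaf (.mov 838 17043521 false [.edge 3356 0 true])) (.node 1 (.leaf (.rel 134 9252957 3 [.edge 3330 1214 false, .plain 3350 17127505 false, .edge 3352 18 false, .mul, .edge 3354 786 false, .mul, .edge 3356 921 false, .mul])) (.leaf (.eq 838 17043521 [] [.plain 3358 17643611 true]))))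
(.node 2 (.node 1 (.leaf (.mov 134 27529303 false [.plain 3359 17059929 true, .edge 3357 1417 false])) (.leaf (.mov 134 32125001 false [.plain 909 31871051 true, .edge 3360 276 false]))) (.node 1 (.leaf (.mov 134 13510735 false [.plain 910 12875865 true, .edge 3361 753 false])) (.leaf (.mov 134 10971209 false [.plain 909 11352139 true, .edge 3362 1424 false])))))
(.node 4 (.node 2 (.node 1 (.leaf .dfn) (.leaf .dfn)) (.node 1 (.leaf (.mov 840 17043521 true [.edge 3365 0 true])) (.leaf (.mov 134 32131155 true [.plain 909 32067665 true, .edge 3365 767 false]))))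
(.node 2 (.node 1 (.leaf (.mov 134 29904967 true [.plain 910 30099523 true, .edge 3367 317 false])) (.leaf (.mov 134 13510735 true [.plain 909 12939341 true, .edge 3368 456 false]))) (.node 1 (.leaf .dfn) (.leaf (.mov 841 17043521 false [.edge 3370 0 true]))))))
(.node 7 (.node 3 (.node 1 (.leaf .dfn) (.node 1 (.leaf .dfn) (.leaf (.mov 831 13510735 false [.plain 3334 17717325 true, .edge 3373 185 false]))))
(.node 2 (.node 1 (.leaf (.mov 831 19085399 false [.plain 3335 23275601 true, .edge 3374 662 false])) (.leaf (.mov 831 27529303 false [.plain 3334 19148885 true, .edge 3375 586 false]))) (.node 1 (.leaf .dfn) (.leaf .dfn))))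
(.node 4 (.node 2 (.node 1 (.leaf (.mov 846 17043521 true [.edge 3378 0 true])) (.leaf .dfn)) (.node 1 (.leaf (.mov 847 17043521 true [.edge 3380 0 true])) (.leaf (.rel 134 4610137 7 [.edge 3331 164 false, .edge 3373 183 false, .edge 3377 939 false, .mul, .edge 3378 822 false, .mul, .edge 3380 947 false, .mul]))))
(.node 2 (.node 1 (.leaf (.eq 847 17043521 [] [.plain 3382 10709065 true])) (.leaf (.eqT 134 11495495 true [.plain 3383 25712721 true, .edge 3381 1259 false] [.edge 3329 0 false]))) (.node 1 (.leaf (.eq 846 13523039 [] [.plain 3384 17043521 false, .plain 3350 19208265 false])) (.leaf (.eq 846 17043521 [] [.plain 3385 25655371 false])))))))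
(.node 15 (.node 7 (.node 3 (.node 1 (.leaf (.mov 188 4544593 true [.plain 3386 11087947 true, .edge 3379 705 false])) (.node 1 (.leaf .dfn) (.leaf .dfn)))
(.node 2 (.node 1 (.leaf (.mov 849 17043521 true [.edge 3389 0 true])) (.leaf .dfn)) (.node 1 (.leaf (.mov 850 17043521 true [.edge 3391 0 true])) (.leaf (.rel 134 9070685 7 [.edge 3329 585 false, .plain 3350 17135707 false, .edge 3352 571 false, .edge 3388 466 false, .mul, .edge 3389 982 false, .mul, .edge 3391 607 false, .mul])))))
(.node 4 (.node 2 (.node 1 (.leaf (.eq 850 17043521 [] [.plain 3393 9322585 true])) (.leaf (.eqT 134 29904967 true [.plain 3394 27603035 true, .edge 3392 420 false] [.edge 3368 0 false]))) (.node 1 (.leaf (.eq 849 17043521 [] [.plain 3395 21395539 false])) (.leaf (.mov 840 25385043 true [.plain 3396 8999003 true, .edge 3390 100 false]))))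
(.node 2 (.node 1 (.leaf .dfn) (.leaf (.mov 144 31801425 false [.plain 960 31737931 true, .edge 3398 1429 false]))) (.node 1 (.leaf (.mov 144 29904967 false [.plain 961 30031937 true, .edge 3399 1500 false])) (.leaf (.mov 144 4808797 false [.plain 960 4745303 true, .edge 3400 982 false]))))))
(.node 8 (.node 4 (.node 2 (.node 1 (.leaf .dfn) (.leaf .dfn)) (.node 1 (.leaf .dfn) (.leaf (.mov 856 17043521 true [.edge 3404 0 true]))))
(.node 2 (.node 1 (.leaf (.rel 144 21893209 1 [.edge 3402 599 false, .mul, .edge 3403 692 false, .mul, .edge 3404 1258 false, .mul, .mul])) (.leaf (.eq 856 17043521 [] [.plain 3406 19689549 true]))) (.node 1 (.leaf (.mov 144 13310023 true [.plain 3407 9007193 true, .edge 3405 1353 false])) (.leaf .dfn))))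
(.node 4 (.node 2 (.node 1 (.leaf (.mov 144 4544593 true [.plain 960 4477005 true, .edge 3409 761 false])) (.leaf (.mov 144 13510735 true [.plain 961 12939355 true, .edge 3410 1216 false]))) (.node 1 (.leaf (.mov 144 32131155 true [.plain 960 32194645 true, .edge 3411 729 false])) (.leaf .dfn)))
(.node 2 (.node 1 (.leaf .dfn) (.leaf .dfn)) (.node 1 (.leaf (.mov 862 17043521 true [.edge 3415 0 true])) (.leaf .dfn)))))))))

/-- The reasons. -/
def caseCFullSrcLRRL : Tab Src := .node 244 caseCFullSrcLRRLL caseCFullSrcLRRLR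

/-- The reasons. -/
def caseCFullSrcLRRRL : Tab Src :=
(.node 122 (.node 61 (.node 30 (.node 15 (.node 7 (.node 3 (.node 1 (.leaf (.mov 863 17043521 false [.edge 3417 0 true])) (.node 1 (.leaf (.rel 144 28188753 3 [.edge 964 345 false, .edge 3414 1370 false, .mul, .edge 3415 171 false, .mul, .edge 3417 416 false, .mul])) (.leaf (.eq 863 17043521 [] [.plain 3419 17526877 true]))))
(.node 2 (.node 1 (.leaf (.mov 144 32125001 false [.plain 3420 17004625 true, .edge 3418 1463 false])) (.leaf (.mov 144 10971209 false [.plain 960 10903645 true, .edge 3421 1037 false]))) (.node 1 (.leaf (.mov 144 13510735 false [.plain 961 12939355 true, .edge 3422 898 false])) (.leaf (.mov 144 27529303 false [.plain 960 27596891 true, .edge 3423 1039 false])))))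
(.node 4 (.node 2 (.node 1 (.leaf .dfn) (.leaf .dfn)) (.node 1 (.leaf (.mov 865 17043521 true [.edge 3426 0 true])) (.leaf .dfn)))
(.node 2 (.node 1 (.leaf (.mov 866 17043521 false [.edge 3428 0 true])) (.leaf (.rel 144 8536145 3 [.edge 964 1260 false, .edge 3425 433 false, .mul, .edge 3426 692 false, .mul, .edge 3428 1049 false, .mul]))) (.node 1 (.leaf (.eq 866 17043521 [] [.plain 3430 17592403 true])) (.leaf (.eqT 144 31801425 false [.plain 3431 17256531 true, .edge 3429 929 false] [.edge 3399 0 false]))))))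
(.node 7 (.node 3 (.node 1 (.leaf (.eq 865 17043521 [] [.plain 3432 25770067 false])) (.node 1 (.leaf (.mov 851 11495495 true [.plain 3433 27809875 true, .edge 3427 119 false])) (.leaf .dfn)))
(.node 2 (.node 1 (.leaf .dfn) (.leaf .dfn)) (.node 1 (.leaf .dfn) (.leaf (.mov 870 17043521 true [.edge 3438 0 true])))))
(.node 4 (.node 2 (.node 1 (.leaf .dfn) (.leaf (.mov 871 17043521 false [.edge 3440 0 true]))) (.node 1 (.leaf (.rel 144 10641503 6 [.edge 962 212 false, .edge 3436 765 false, .mul, .edge 3437 1509 false, .mul, .edge 3438 474 false, .edge 3440 916 false, .mul])) (.leaf (.eq 871 17043521 [] [.plain 3442 19085397 true]))))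
(.node 2 (.node 1 (.leaf (.eqT 144 10971209 false [.plain 3443 16984133 true, .edge 3441 813 false] [.edge 3422 0 false])) (.leaf (.eq 870 17043521 [] [.plain 3444 19877965 false]))) (.node 1 (.leaf (.eqT 862 17043521 true [.plain 3445 9246801 true, .edge 3439 959 false] [.edge 3416 0 false])) (.leaf (.eq 869 17043521 [] [.plain 3446 9254999 false])))))))
(.node 15 (.node 7 (.node 3 (.node 1 (.leaf .dfn) (.node 1 (.leaf (.mov 872 17043521 false [.edge 3448 0 true])) (.leaf .dfn)))
(.node 2 (.node 1 (.leaf (.mov 873 17043521 true [.edge 3450 0 true])) (.leaf .dfn)) (.node 1 (.leaf (.mov 874 17043521 false [.edge 3452 0 true])) (.leaf (.rel 144 15607895 6 [.edge 3411 1165 false, .edge 3435 121 false, .mul, .edge 3448 998 false, .mul, .edge 3450 369 false, .edge 3452 308 false, .mul])))))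
(.node 4 (.node 2 (.node 1 (.leaf (.eq 874 17043521 [] [.plain 3454 19157079 true])) (.leaf (.eqT 144 13510735 false [.plain 3455 17061981 true, .edge 3453 1330 false] [.edge 3423 0 false]))) (.node 1 (.leaf (.eq 873 17043521 [] [.plain 3456 9312339 false])) (.leaf (.mov 862 4544593 true [.plain 3457 19157067 true, .edge 3451 804 false]))))
(.node 2 (.node 1 (.leaf .dfn) (.leaf (.mov 875 17043521 false [.edge 3459 0 true]))) (.node 1 (.leaf .dfn) (.leaf (.mov 876 17043521 true [.edge 3461 0 true]))))))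
(.node 8 (.node 4 (.node 2 (.node 1 (.leaf .dfn) (.leaf (.mov 877 17043521 true [.edge 3463 0 true]))) (.node 1 (.leaf .dfn) (.leaf (.mov 878 17043521 true [.edge 3465 0 true]))))
(.node 2 (.node 1 (.leaf (.rel 144 13242443 7 [.edge 3402 412 false, .edge 3459 880 false, .edge 3461 196 false, .mul, .edge 3463 1280 false, .mul, .edge 3465 93 false, .mul])) (.leaf (.eq 878 17043521 [] [.plain 3467 10903643 true]))) (.node 1 (.leaf (.mov 144 4808797 true [.plain 3468 17059929 true, .edge 3466 487 false])) (.leaf .dfn))))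
(.node 4 (.node 2 (.node 1 (.leaf .dfn) (.leaf (.mov 880 17043521 true [.edge 3471 0 true]))) (.node 1 (.leaf .dfn) (.leaf (.mov 881 17043521 true [.edge 3473 0 true]))))
(.node 2 (.node 1 (.leaf (.rel 144 25497671 7 [.edge 965 489 false, .edge 3414 863 false, .edge 3470 1431 false, .mul, .edge 3471 786 false, .mul, .edge 3473 673 false, .mul])) (.leaf (.eq 881 17043521 [] [.plain 3475 28256321 true]))) (.node 1 (.leaf (.eqT 144 32131155 true [.plain 3476 27818051 true, .edge 3474 544 false] [.edge 3412 0 false])) (.leaf (.eq 880 17043521 [] [.plain 3477 12730439 false]))))))))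
(.node 30 (.node 15 (.node 7 (.node 3 (.node 1 (.leaf (.mov 857 32131155 true [.plain 3478 25448529 true, .edge 3472 1170 false])) (.node 1 (.leaf .dfn) (.leaf .dfn)))
(.node 2 (.node 1 (.leaf .dfn) (.leaf (.mov 884 17043521 false [.edge 3482 0 true]))) (.node 1 (.leaf (.rel 145 15038543 0 [.edge 3480 1004 false, .mul, .edge 3481 90 false, .mul, .edge 3482 800 false, .mul, .mul])) (.leaf (.eq 884 17043521 [] [.plain 3484 19746911 true])))))
(.node 4 (.node 2 (.node 1 (.leaf (.mov 145 32125001 false [.plain 3485 16935003 true, .edge 3483 810 false])) (.leaf .dfn)) (.node 1 (.leaf .dfn) (.leaf .dfn)))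
(.node 2 (.node 1 (.leaf (.mov 887 17043521 false [.edge 3489 0 true])) (.leaf (.rel 145 27740229 0 [.edge 3487 886 false, .mul, .edge 3488 305 false, .mul, .edge 3489 462 false, .mul, .mul]))) (.node 1 (.leaf (.eq 887 17043521 [] [.plain 3491 19085381 true])) (.leaf (.eqT 145 31801425 false [.plain 3492 17051739 true, .edge 3490 1145 false] [.edge 3019 0 false]))))))
(.node 7 (.node 3 (.node 1 (.leaf (.eq 886 17043521 [] [.plain 3493 19740751 false])) (.node 1 (.leaf .dfn) (.leaf (.mov 888 17043521 true [.edge 3495 0 true]))))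
(.node 2 (.node 1 (.leaf (.rel 145 23992407 1 [.edge 2841 95 false, .plain 1514 19748953 false, .mul, .edge 1487 232 false, .mul, .edge 3495 1264 false, .mul, .mul])) (.leaf (.eq 888 17043521 [] [.plain 3497 17051719 true]))) (.node 1 (.leaf (.eqT 145 32125001 true [.plain 3498 19142739 true, .edge 3496 1018 false] [.edge 3056 0 false])) (.leaf (.eq 223 19216473 [] [.plain 3499 17043521 false, .plain 3063 17043521 false])))))
(.node 4 (.node 2 (.node 1 (.leaf (.eq 223 17043521 [] [.plain 3500 19214425 false])) (.leaf (.mov 129 6776923 false [.plain 3501 17440843 true, .edge 1389 1043 false]))) (.node 1 (.leaf (.mov 129 32131155 true [.plain 3501 27469897 true, .edge 1393 916 false])) (.leaf (.mov 129 9056345 false [.plain 3501 19689547 true, .edge 1440 1137 false]))))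
(.node 2 (.node 1 (.leaf (.mov 129 19085399 true [.plain 3501 25448527 true, .edge 1471 1482 false])) (.leaf (.eqT 129 4544593 true [.plain 3501 28194891 true, .edge 1971 660 false] [.edge 3053 0 false]))) (.node 1 (.leaf (.eqT 129 4808797 false [.plain 3501 12933201 true, .edge 1978 769 false] [.edge 3105 0 false])) (.leaf (.eqT 129 10971209 false [.plain 3501 30019669 true, .edge 1986 683 false] [.edge 3138 0 false])))))))
(.node 15 (.node 7 (.node 3 (.node 1 (.leaf (.eqT 129 29904967 false [.plain 3501 27406429 true, .edge 1987 29 false] [.edge 3098 0 false])) (.node 1 (.leaf (.eqT 129 31801425 true [.plain 3501 7163991 true, .edge 2007 1330 false] [.edge 3125 0 false])) (.leaf (.eqT 129 32125001 false [.plain 3501 4991053 true, .edge 2014 1311 false] [.edge 2918 0 false]))))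
(.node 2 (.node 1 (.leaf (.mov 129 13310023 true [.plain 3501 32008281 true, .edge 2016 234 false])) (.leaf (.eqT 129 10971209 true [.plain 3501 30019669 true, .edge 2017 1287 false] [.edge 886 0 false]))) (.node 1 (.leaf (.mov 129 13310023 false [.plain 3501 32008281 true, .edge 2051 196 false])) (.leaf (.mov 129 23928925 false [.plain 3501 6893659 true, .edge 2069 233 false])))))
(.node 4 (.node 2 (.node 1 (.leaf (.eq 220 19339357 [] [.plain 3513 17043521 false, .plain 893 17043521 false])) (.leaf (.eq 220 17043521 [] [.plain 3516 19273817 false]))) (.node 1 (.leaf (.mov 123 31801425 true [.plain 3517 27873363 true, .edge 1369 98 false])) (.leaf (.eqT 123 4808797 true [.plain 3517 11360351 true, .edge 1381 298 false] [.edge 2908 0 false]))))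
(.node 2 (.node 1 (.leaf (.eqT 123 4808797 false [.plain 3517 11360351 true, .edge 1392 788 false] [.edge 2895 0 false])) (.leaf (.mov 123 31801425 false [.plain 3517 27873363 true, .edge 1405 550 false]))) (.node 1 (.leaf (.eq 223 17051721 [.plain 3501 17051721 false] [.plain 3520 17043521 false])) (.leaf (.eq 680 17043521 [] [.plain 3522 17262683 true]))))))
(.node 8 (.node 4 (.node 2 (.node 1 (.leaf (.eqT 129 29904967 true [.plain 3523 27809873 true, .edge 2927 992 false] [.edge 3126 0 false])) (.leaf (.eq 753 17043521 [] [.plain 3524 17043521 true]))) (.node 1 (.leaf (.eq 221 25786449 [.plain 1387 25786449 false, .plain 3517 25434205 false] [.plain 3519 17043521 false])) (.leaf (.eq 686 17043521 [] [.plain 3526 17043521 true]))))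
(.node 2 (.node 1 (.leaf (.eq 691 17043521 [] [.plain 3511 17043521 true])) (.leaf (.eq 751 17043521 [] [.plain 3510 25505871 true]))) (.node 1 (.leaf (.mov 363 10971209 true [.plain 3529 9246787 true, .edge 3120 1492 false])) (.leaf (.mov 363 7292999 false [.plain 3529 4810817 true, .edge 3152 334 false])))))
(.node 4 (.node 2 (.node 1 (.leaf (.eq 744 17043521 [] [.plain 3509 17043521 true])) (.leaf (.eq 355 17125443 [.plain 2019 17125443 false, .plain 3501 13310017 false] [.plain 3508 17043521 false]))) (.node 1 (.leaf (.eq 759 17043521 [] [.plain 3533 17043521 true])) (.leaf (.eq 745 17043521 [] [.plain 3507 19355715 true]))))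
(.node 2 (.node 1 (.leaf (.mov 352 19085399 false [.plain 3535 17174621 true, .edge 3100 1315 false])) (.leaf (.mov 352 17059919 true [.plain 3535 19605585 true, .edge 3135 246 false]))) (.node 1 (.leaf (.eq 350 19222611 [.plain 1977 19222611 false, .plain 3501 19812441 false] [.plain 3506 17043521 false])) (.leaf (.eq 654 17043521 [] [.plain 3538 15620179 true])))))))))
(.node 61 (.node 30 (.node 15 (.node 7 (.node 3 (.node 1 (.leaf (.eqT 129 4808797 false [.plain 3539 16984145 true, .edge 2823 3 false] [.edge 3105 0 false])) (.node 1 (.leaf (.eq 628 4733005 [] [.plain 3540 17043521 false, .plain 3535 19877955 false])) (.leaf (.eq 628 17043521 [] [.plain 3541 9125959 false]))))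
(.node 2 (.node 1 (.leaf (.mov 352 17043521 true [.plain 3542 27809881 true, .edge 2751 1021 false])) (.leaf (.eqT 352 17059919 true [.plain 3542 27793495 true, .edge 2755 886 false] [.edge 3537 0 false]))) (.node 1 (.leaf (.eqT 352 19085399 false [.plain 3542 23689283 true, .edge 2764 371 false] [.edge 3536 0 false])) (.leaf (.mov 352 27529303 false [.plain 3542 17657925 true, .edge 2783 725 false])))))
(.node 4 (.node 2 (.node 1 (.leaf (.eq 635 17174607 [] [.plain 3545 17043521 false, .plain 3532 19095629 false])) (.leaf (.eq 635 17043521 [] [.plain 3547 17174603 false]))) (.node 1 (.leaf (.eqT 356 19085399 true [.plain 3548 17195095 true, .edge 2765 1268 false] [.edge 1998 0 false])) (.leaf (.eq 636 27621441 [.plain 2771 27621441 false] [.plain 3549 17043521 false]))))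
(.node 2 (.node 1 (.leaf (.eq 625 17043521 [] [.plain 3550 17061979 false])) (.leaf (.mov 363 17043521 false [.plain 3551 17061979 true, .edge 2739 236 false]))) (.node 1 (.leaf (.mov 363 19085399 false [.plain 3551 19101761 true, .edge 2743 1515 false])) (.leaf (.eq 629 9269313 [.plain 2761 9269313 false, .plain 3542 11106397 false] [.plain 3544 17043521 false]))))))
(.node 7 (.node 3 (.node 1 (.leaf (.eq 660 17043521 [] [.plain 3554 19232833 true])) (.node 1 (.leaf (.eqT 352 19085399 false [.plain 3555 19626079 true, .edge 2848 1417 false] [.edge 3536 0 false])) (.leaf (.eq 661 17584207 [.plain 2851 17584207 false] [.plain 3556 17043521 false, .plain 3532 19095629 false]))))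
(.node 2 (.node 1 (.leaf (.eq 356 17043521 [] [.plain 3557 19691589 true])) (.leaf (.eqT 120 29904967 false [.plain 3558 17768537 true, .edge 1988 512 false] [.edge 2845 0 false]))) (.node 1 (.leaf (.eqT 120 31801425 true [.plain 3558 11417677 true, .edge 1998 547 false] [.edge 1196 0 false])) (.leaf (.eq 363 17043521 [] [.plain 3560 25522259 false])))))
(.node 4 (.node 2 (.node 1 (.leaf (.mov 188 32131155 true [.plain 3561 11167839 true, .edge 1999 1355 false])) (.leaf (.eqT 188 13510735 true [.plain 3561 17719369 true, .edge 3530 941 false] [.edge 3089 0 false]))) (.node 1 (.leaf (.mov 188 9056345 false [.plain 3561 30034013 true, .edge 3531 474 false])) (.leaf (.eqT 188 13510735 false [.plain 3561 17719369 true, .edge 3552 1480 false] [.edge 2892 0 false]))))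
(.node 2 (.node 1 (.leaf (.mov 188 27529303 false [.plain 3561 19157065 true, .edge 3553 907 false])) (.leaf (.eq 674 17043521 [] [.plain 3565 17043521 true]))) (.node 1 (.leaf (.eq 750 17043521 [] [.plain 3563 19681357 false])) (.leaf (.mov 738 31801425 false [.plain 3568 7026783 true, .edge 3160 1385 false])))))))
(.node 15 (.node 7 (.node 3 (.node 1 (.leaf (.eq 223 13375561 [.plain 3501 13375561 false] [.plain 3559 17043521 false])) (.node 1 (.leaf (.eq 659 17043521 [] [.plain 3570 17043521 true])) (.leaf (.eqT 129 4808797 true [.plain 3571 19681353 true, .edge 2888 398 false] [.edge 3118 0 false]))))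
(.node 2 (.node 1 (.leaf (.eq 660 17721411 [.plain 3555 17721411 false] [.plain 3572 17043521 false, .plain 3568 17043521 false])) (.leaf (.eq 738 17043521 [] [.plain 3573 32329813 true]))) (.node 1 (.leaf (.mov 352 32131155 true [.plain 3574 9187411 true, .edge 3079 1470 false])) (.leaf (.mov 352 10971209 false [.plain 3574 7290953 true, .edge 3569 420 false])))))
(.node 4 (.node 2 (.node 1 (.leaf .dfn) (.leaf (.mov 889 17043521 true [.edge 3577 0 true]))) (.node 1 (.leaf .dfn) (.leaf (.mov 890 17043521 true [.edge 3579 0 true]))))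
(.node 2 (.node 1 (.leaf .dfn) (.leaf (.mov 891 17043521 true [.edge 3581 0 true]))) (.node 1 (.leaf (.rel 145 6578271 1 [.edge 3577 1413 false, .mul, .edge 3579 786 false, .mul, .edge 3581 454 false, .mul, .mul])) (.leaf (.eq 891 17043521 [] [.plain 3583 25759837 true]))))))
(.node 8 (.node 4 (.node 2 (.node 1 (.leaf (.mov 145 31801425 true [.plain 3584 9007193 true, .edge 3582 1353 false])) (.leaf .dfn)) (.node 1 (.leaf (.mov 892 17043521 true [.edge 3586 0 true])) (.leaf .dfn)))
(.node 2 (.node 1 (.leaf (.mov 893 17043521 false [.edge 3588 0 true])) (.leaf .dfn)) (.node 1 (.leaf .dfn) (.leaf .dfn))))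
(.node 4 (.node 2 (.node 1 (.leaf (.mov 896 17043521 false [.edge 3592 0 true])) (.leaf (.rel 145 30107723 3 [.edge 2842 103 false, .edge 3590 1325 false, .mul, .edge 3591 411 false, .mul, .edge 3592 1498 false, .mul]))) (.node 1 (.leaf (.eq 896 17043521 [] [.plain 3594 16934977 true])) (.leaf (.mov 145 9056345 false [.plain 3595 17463365 true, .edge 3593 1245 false]))))
(.node 2 (.node 1 (.leaf (.rel 145 12744785 3 [.edge 3056 1452 false, .plain 3063 17135683 false, .edge 3504 1271 false, .plain 1450 17444929 false, .plain 3501 19812441 false, .mul, .edge 3505 399 false, .plain 1483 27539539 false, .mul, .edge 1554 1385 false, .mul])) (.leaf (.eq 252 17043521 [] [.plain 3597 17578055 true]))) (.node 1 (.leaf (.eqT 145 32125001 false [.plain 3598 17641559 true, .edge 1553 444 false] [.edge 3486 0 false])) (.leaf (.eqT 145 10971209 false [.plain 3598 19621955 true, .edge 2020 524 false] [.edge 3480 0 false]))))))))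
(.node 30 (.node 15 (.node 7 (.node 3 (.node 1 (.leaf (.eq 367 17766471 [.plain 2026 17766471 false, .plain 3598 19673169 false] [.plain 3600 17043521 false])) (.node 1 (.leaf (.eq 882 17043521 [] [.plain 3601 17043521 true])) (.leaf (.eq 883 17043521 [] [.plain 3599 19355715 true]))))
(.node 2 (.node 1 (.leaf .dfn) (.leaf .dfn)) (.node 1 (.leaf .dfn) (.leaf .dfn))))
(.node 4 (.node 2 (.node 1 (.leaf (.mov 901 17043521 false [.edge 3607 0 true])) (.leaf .dfn)) (.node 1 (.leaf .dfn) (.leaf .dfn)))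
(.node 2 (.node 1 (.leaf (.mov 906 17043521 true [.edge 3611 0 true])) (.leaf .dfn)) (.node 1 (.leaf (.mov 907 17043521 true [.edge 3613 0 true])) (.leaf .dfn)))))
(.node 7 (.node 3 (.node 1 (.leaf (.mov 908 17043521 true [.edge 3615 0 true])) (.node 1 (.leaf (.rel 145 25786445 7 [.edge 3609 1389 false, .edge 3610 773 false, .edge 3611 1333 false, .mul, .edge 3613 1226 false, .mul, .edge 3615 272 false, .mul])) (.leaf (.eq 908 17043521 [] [.plain 3617 27476059 true]))))
(.node 2 (.node 1 (.leaf (.eqT 145 29904967 true [.plain 3618 11350097 true, .edge 3616 543 false] [.edge 3604 0 false])) (.leaf (.eq 907 17043521 [] [.plain 3619 26161221 false]))) (.node 1 (.leaf (.mov 897 19085399 true [.plain 3620 11294785 true, .edge 3614 1392 false])) (.leaf .dfn))))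
(.node 4 (.node 2 (.node 1 (.leaf .dfn) (.leaf (.mov 910 17043521 true [.edge 3623 0 true]))) (.node 1 (.leaf .dfn) (.leaf (.mov 911 17043521 true [.edge 3625 0 true]))))
(.node 2 (.node 1 (.leaf .dfn) (.leaf (.mov 912 17043521 true [.edge 3627 0 true]))) (.node 1 (.leaf (.rel 145 17463381 7 [.edge 3075 807 false, .edge 3622 492 false, .edge 3623 749 false, .mul, .edge 3625 397 false, .mul, .edge 3627 961 false, .mul])) (.leaf (.eq 912 17043521 [] [.plain 3629 28196931 true])))))))
(.node 15 (.node 7 (.node 3 (.node 1 (.leaf (.eqT 145 17043521 true [.plain 3630 25522251 true, .edge 3628 1119 false] [.edge 963 0 false])) (.node 1 (.leaf (.eq 911 17043521 [] [.plain 3631 27416665 false])) (.leaf (.eqT 144 29904967 true [.plain 3632 25786443 true, .edge 3626 1192 false] [.edge 3409 0 false]))))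
(.node 2 (.node 1 (.leaf (.eq 910 17043521 [] [.plain 3633 29509727 false])) (.leaf (.mov 857 13510735 true [.plain 3634 9203777 true, .edge 3624 1222 false]))) (.node 1 (.leaf .dfn) (.leaf (.mov 153 32125001 true [.plain 1003 32125015 true, .edge 3636 894 false])))))
(.node 4 (.node 2 (.node 1 (.leaf (.mov 153 13510735 true [.plain 1004 13504595 true, .edge 3637 1532 false])) (.leaf (.mov 153 32131155 true [.plain 1003 32131149 true, .edge 3638 594 false]))) (.node 1 (.leaf (.mov 153 4808797 true [.plain 1028 4874307 true, .edge 3639 1330 false])) (.leaf (.mov 153 31801425 true [.plain 1003 31801423 true, .edge 3640 1106 false]))))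
(.node 2 (.node 1 (.leaf (.mov 153 4544593 true [.plain 1004 4538459 true, .edge 3641 1311 false])) (.leaf (.mov 153 29904967 true [.plain 1003 29904987 true, .edge 3642 138 false]))) (.node 1 (.leaf .dfn) (.leaf .dfn)))))
(.node 8 (.node 4 (.node 2 (.node 1 (.leaf .dfn) (.leaf .dfn)) (.node 1 (.leaf (.rel 153 12740673 6 [.edge 3639 1061 false, .edge 3644 299 false, .mul, .edge 3645 737 false, .mul, .edge 3646 71 false, .edge 3647 49 false, .mul])) (.leaf (.eq 935 17043521 [] [.plain 3648 19357761 true]))))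
(.node 2 (.node 1 (.leaf .dfn) (.leaf (.eqT 330 32125001 false [.plain 1901 31731797 true, .edge 3650 796 false] [.edge 3650 0 false]))) (.node 1 (.leaf (.eqT 330 32125001 false [.plain 1902 31666245 true, .edge 3650 911 false] [.edge 3650 0 false])) (.leaf (.eq 940 17043521 [] [.plain 3652 17043545 false])))))
(.node 4 (.node 2 (.node 1 (.leaf (.eq 940 17043521 [] [.plain 3651 17070163 false])) (.leaf .dfn)) (.node 1 (.leaf (.mov 940 11495495 true [.plain 3653 11495507 true, .edge 3655 1127 false])) (.leaf (.mov 940 19085399 true [.plain 3654 19095623 true, .edge 3656 537 false]))))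
(.node 2 (.node 1 (.leaf (.mov 940 25385043 true [.plain 3653 25385037 true, .edge 3657 1038 false])) (.leaf .dfn)) (.node 1 (.leaf .dfn) (.leaf (.mov 943 17043521 true [.edge 3660 0 true]))))))))))

/-- The reasons. -/
def caseCFullSrcLRRRR : Tab Src :=
(.node 122 (.node 61 (.node 30 (.node 15 (.node 7 (.node 3 (.node 1 (.leaf (.rel 153 27471949 7 [.edge 1912 379 false, .edge 3650 967 false, .edge 3655 262 false, .mul, .edge 3659 952 false, .mul, .edge 3660 168 false, .mul])) (.node 1 (.leaf (.eq 943 17043521 [] [.plain 3662 27404353 true])) (.leaf (.eqT 153 29904967 true [.plain 3663 11016275 true, .edge 3661 926 false] [.edge 3643 0 false]))))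
(.node 2 (.node 1 (.leaf (.eq 942 17043521 [] [.plain 3664 12875843 false])) (.leaf .dfn)) (.node 1 (.leaf (.mov 950 17043521 true [.edge 3666 0 true])) (.leaf (.mov 162 25385043 true [.plain 1060 7088211 true, .edge 3666 919 false])))))
(.node 4 (.node 2 (.node 1 (.leaf (.mov 162 29904967 true [.plain 1061 17715273 true, .edge 3668 1054 false])) (.leaf (.mov 162 11495495 true [.plain 1060 31797319 true, .edge 3669 1417 false]))) (.node 1 (.leaf (.mov 162 4544593 true [.plain 1062 8609885 true, .edge 3670 96 false])) (.leaf (.mov 162 10971209 true [.plain 1060 15036489 true, .edge 3671 1100 false]))))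
(.node 2 (.node 1 (.leaf (.mov 162 4808797 true [.plain 1061 19030089 true, .edge 3672 456 false])) (.leaf (.mov 162 19085399 true [.plain 1060 6905943 true, .edge 3673 860 false]))) (.node 1 (.leaf .dfn) (.leaf .dfn)))))
(.node 7 (.node 3 (.node 1 (.leaf (.mov 954 17043521 true [.edge 3676 0 true])) (.node 1 (.leaf .dfn) (.leaf (.mov 955 17043521 false [.edge 3678 0 true]))))
(.node 2 (.node 1 (.leaf (.rel 162 10704967 3 [.edge 3674 872 false, .edge 3675 922 false, .mul, .edge 3676 1343 false, .mul, .edge 3678 763 false, .mul])) (.leaf (.eq 955 17043521 [] [.plain 3680 17594451 true]))) (.node 1 (.leaf (.mov 162 13310023 false [.plain 3681 17784899 true, .edge 3679 734 false])) (.leaf (.mov 162 23928925 false [.plain 1060 27990109 true, .edge 3682 966 false])))))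
(.node 4 (.node 2 (.node 1 (.leaf (.mov 162 32125001 false [.plain 1061 21966913 true, .edge 3683 865 false])) (.leaf (.mov 162 10971209 false [.plain 1060 15036489 true, .edge 3684 226 false]))) (.node 1 (.leaf (.eqT 162 23928925 false [.plain 1062 25825363 true, .edge 3682 113 false] [.edge 3683 0 false])) (.leaf (.eqT 162 13310023 false [.plain 1063 21461085 true, .edge 3682 1011 false] [.edge 3682 0 false]))))
(.node 2 (.node 1 (.leaf (.eq 954 17043521 [] [.plain 3687 26157129 false])) (.leaf (.eq 954 17043521 [] [.plain 3686 25851981 false]))) (.node 1 (.leaf (.mov 954 17059919 true [.plain 3689 19224657 true, .edge 3677 427 false])) (.leaf (.mov 954 32131155 true [.plain 3688 27809877 true, .edge 3690 597 false])))))))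
(.node 15 (.node 7 (.node 3 (.node 1 (.leaf .dfn) (.node 1 (.leaf (.mov 956 17043521 false [.edge 3692 0 true])) (.leaf .dfn)))
(.node 2 (.node 1 (.leaf (.mov 957 17043521 true [.edge 3694 0 true])) (.leaf .dfn)) (.node 1 (.leaf (.mov 958 17043521 false [.edge 3696 0 true])) (.leaf (.rel 162 21510215 3 [.edge 3669 452 false, .edge 3692 590 false, .mul, .edge 3694 822 false, .mul, .edge 3696 513 false, .mul])))))
(.node 4 (.node 2 (.node 1 (.leaf (.eq 958 17043521 [] [.plain 3698 17705025 true])) (.leaf (.mov 162 29904967 false [.plain 3699 17240137 true, .edge 3697 1394 false]))) (.node 1 (.leaf (.mov 162 17043521 false [.plain 1060 8943681 true, .edge 3700 487 false])) (.leaf (.mov 162 4808797 false [.plain 1062 16988233 true, .edge 3701 1205 false]))))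
(.node 2 (.node 1 (.leaf (.mov 162 19085399 false [.plain 1060 6905943 true, .edge 3702 958 false])) (.leaf (.eqT 162 17043521 false [.plain 1061 8917083 true, .edge 3700 276 false] [.edge 3701 0 false]))) (.node 1 (.leaf (.eq 957 17043521 [] [.plain 3704 17649729 false])) (.leaf (.mov 957 11495495 true [.plain 3705 11030593 true, .edge 3695 1107 false]))))))
(.node 8 (.node 4 (.node 2 (.node 1 (.leaf .dfn) (.leaf (.mov 959 17043521 false [.edge 3707 0 true]))) (.node 1 (.leaf .dfn) (.leaf .dfn)))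
(.node 2 (.node 1 (.leaf .dfn) (.leaf (.mov 966 17043521 false [.edge 3711 0 true]))) (.node 1 (.leaf (.rel 162 17061955 6 [.edge 1055 821 false, .edge 1865 875 false, .mul, .edge 3709 1016 false, .mul, .edge 3710 450 false, .edge 3711 145 false, .mul])) (.leaf (.eq 966 17043521 [] [.plain 3713 19542087 true])))))
(.node 4 (.node 2 (.node 1 (.leaf (.eqT 162 19085399 false [.plain 3714 17061953 true, .edge 3712 49 false] [.edge 3703 0 false])) (.leaf (.eq 965 17043521 [] [.plain 3715 19867739 false]))) (.node 1 (.leaf .dfn) (.leaf (.mov 970 17043521 true [.edge 3717 0 true]))))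
(.node 2 (.node 1 (.leaf .dfn) (.leaf (.mov 971 17043521 true [.edge 3719 0 true]))) (.node 1 (.leaf .dfn) (.leaf (.mov 972 17043521 true [.edge 3721 0 true]))))))))
(.node 30 (.node 15 (.node 7 (.node 3 (.node 1 (.leaf (.rel 162 23687239 7 [.edge 3669 800 false, .edge 3707 511 false, .edge 3717 1067 false, .mul, .edge 3719 271 false, .mul, .edge 3721 726 false, .mul])) (.node 1 (.leaf (.eq 972 17043521 [] [.plain 3723 28198979 true])) (.leaf (.eqT 162 17043521 true [.plain 3724 27883609 true, .edge 3722 1381 false] [.edge 1055 0 false]))))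
(.node 2 (.node 1 (.leaf (.eq 971 17043521 [] [.plain 3725 29573187 false])) (.leaf (.eqT 28 19085399 true [.plain 3726 27859035 true, .edge 3720 681 false] [.edge 817 0 false]))) (.node 1 (.leaf (.eq 970 17043521 [] [.plain 3727 29575239 false])) (.leaf (.eqT 120 32125001 true [.plain 3728 27619395 true, .edge 3718 818 false] [.edge 2862 0 false])))))
(.node 4 (.node 2 (.node 1 (.leaf (.eq 959 17043521 [] [.plain 3729 17442897 false])) (.leaf (.eqT 664 17043521 false [.plain 3730 16998481 true, .edge 3708 18 false] [.edge 2865 0 false]))) (.node 1 (.leaf (.eq 950 17043521 [] [.plain 3731 27875399 false])) (.leaf (.mov 665 17059919 true [.plain 3732 11300945 true, .edge 3667 1472 false]))))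
(.node 2 (.node 1 (.leaf (.mov 665 27529303 false [.plain 3732 11087961 true, .edge 3675 1347 false])) (.leaf (.mov 665 13510735 false [.plain 2867 13572175 true, .edge 3734 459 false]))) (.node 1 (.leaf .dfn) (.leaf (.mov 1014 17043521 false [.edge 3736 0 true]))))))
(.node 7 (.node 3 (.node 1 (.leaf .dfn) (.node 1 (.leaf (.mov 1015 17043521 false [.edge 3738 0 true])) (.leaf .dfn)))
(.node 2 (.node 1 (.leaf (.mov 1016 17043521 false [.edge 3740 0 true])) (.leaf (.rel 188 6889543 0 [.edge 3736 801 false, .mul, .edge 3738 336 false, .mul, .edge 3740 378 false, .mul, .mul]))) (.node 1 (.leaf (.eq 1016 17043521 [] [.plain 3742 19814465 true])) (.leaf (.mov 188 29904967 false [.plain 3743 17051739 true, .edge 3741 1145 false])))))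
(.node 4 (.node 2 (.node 1 (.leaf .dfn) (.leaf (.mov 1017 17043521 false [.edge 3745 0 true]))) (.node 1 (.leaf .dfn) (.leaf (.mov 1018 17043521 false [.edge 3747 0 true]))))
(.node 2 (.node 1 (.leaf (.rel 188 27476055 0 [.edge 3034 908 false, .mul, .edge 3745 647 false, .mul, .edge 3747 1456 false, .mul, .mul])) (.leaf (.eq 1018 17043521 [] [.plain 3749 19740753 true]))) (.node 1 (.leaf (.mov 188 7292999 false [.plain 3750 16935003 true, .edge 3748 810 false])) (.leaf .dfn))))))
(.node 15 (.node 7 (.node 3 (.node 1 (.leaf .dfn) (.node 1 (.leaf (.mov 1020 17043521 true [.edge 3753 0 true])) (.leaf .dfn)))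
(.node 2 (.node 1 (.leaf (.mov 1021 17043521 true [.edge 3755 0 true])) (.leaf (.rel 188 14958671 1 [.edge 3752 1351 false, .mul, .edge 3753 315 false, .mul, .edge 3755 298 false, .mul, .mul]))) (.node 1 (.leaf (.eq 1021 17043521 [] [.plain 3757 11098199 true])) (.leaf (.mov 188 31801425 true [.plain 3758 9007193 true, .edge 3756 1353 false])))))
(.node 4 (.node 2 (.node 1 (.leaf .dfn) (.leaf (.mov 1022 17043521 false [.edge 3760 0 true]))) (.node 1 (.leaf .dfn) (.leaf .dfn)))
(.node 2 (.node 1 (.leaf (.mov 1024 17043521 true [.edge 3763 0 true])) (.leaf .dfn)) (.node 1 (.leaf (.mov 1025 17043521 false [.edge 3765 0 true])) (.leaf (.rel 188 30230609 3 [.edge 3759 861 false, .edge 3762 857 false, .mul, .edge 3763 928 false, .mul, .edge 3765 1444 false, .mul]))))))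
(.node 8 (.node 4 (.node 2 (.node 1 (.leaf (.eq 1025 17043521 [] [.plain 3767 17528925 true])) (.leaf (.eqT 188 7292999 false [.plain 3768 17528911 true, .edge 3766 85 false] [.edge 3751 0 false]))) (.node 1 (.leaf (.eq 1024 17043521 [] [.plain 3769 11302981 false])) (.leaf (.mov 1017 19085399 true [.plain 3770 25778243 true, .edge 3764 928 false]))))
(.node 2 (.node 1 (.leaf .dfn) (.leaf (.mov 1026 17043521 false [.edge 3772 0 true]))) (.node 1 (.leaf .dfn) (.leaf (.mov 1027 17043521 true [.edge 3774 0 true])))))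
(.node 4 (.node 2 (.node 1 (.leaf .dfn) (.leaf (.mov 1028 17043521 false [.edge 3776 0 true]))) (.node 1 (.leaf (.rel 188 5060681 3 [.edge 3387 1014 false, .edge 3772 77 false, .mul, .edge 3774 103 false, .mul, .edge 3776 715 false, .mul])) (.leaf (.eq 1028 17043521 [] [.plain 3778 17643601 true]))))
(.node 2 (.node 1 (.leaf (.eqT 188 9056345 false [.plain 3779 17463375 true, .edge 3777 304 false] [.edge 3564 0 false])) (.leaf (.eq 1027 17043521 [] [.plain 3780 25567301 false]))) (.node 1 (.leaf (.mov 763 17059919 true [.plain 3781 11366473 true, .edge 3775 177 false])) (.leaf .dfn))))))))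
(.node 61 (.node 30 (.node 15 (.node 7 (.node 3 (.node 1 (.leaf .dfn) (.node 1 (.leaf (.mov 1030 17043521 false [.edge 3784 0 true])) (.leaf .dfn)))
(.node 2 (.node 1 (.leaf (.mov 1033 17043521 true [.edge 3786 0 true])) (.leaf .dfn)) (.node 1 (.leaf (.mov 1034 17043521 false [.edge 3788 0 true])) (.leaf .dfn))))
(.node 4 (.node 2 (.node 1 (.leaf (.mov 1035 17043521 false [.edge 3790 0 true])) (.leaf .dfn)) (.node 1 (.leaf (.mov 1036 17043521 true [.edge 3792 0 true])) (.leaf .dfn)))
(.node 2 (.node 1 (.leaf (.mov 1037 17043521 false [.edge 3794 0 true])) (.leaf (.rel 188 23885895 6 [.edge 3786 1255 false, .edge 3788 935 false, .mul, .edge 3790 345 false, .mul, .edge 3792 619 false, .edge 3794 84 false, .mul]))) (.node 1 (.leaf (.eq 1037 17043521 [] [.plain 3796 19603543 true])) (.leaf (.eqT 188 6776923 false [.plain 3797 17512531 true, .edge 3795 896 false] [.edge 3352 0 false]))))))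
(.node 7 (.node 3 (.node 1 (.leaf (.eq 1036 17043521 [] [.plain 3798 19683403 false])) (.node 1 (.leaf (.mov 836 17043521 true [.plain 3799 19746905 true, .edge 3793 219 false])) (.leaf .dfn)))
(.node 2 (.node 1 (.leaf (.mov 1038 17043521 false [.edge 3801 0 true])) (.leaf .dfn)) (.node 1 (.leaf (.mov 1039 17043521 false [.edge 3803 0 true])) (.leaf .dfn))))
(.node 4 (.node 2 (.node 1 (.leaf (.mov 1040 17043521 true [.edge 3805 0 true])) (.leaf .dfn)) (.node 1 (.leaf (.mov 1041 17043521 false [.edge 3807 0 true])) (.leaf (.rel 188 19353673 6 [.edge 3783 644 false, .edge 3801 1397 false, .mul, .edge 3803 496 false, .mul, .edge 3805 992 false, .edge 3807 316 false, .mul]))))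
(.node 2 (.node 1 (.leaf (.eq 1041 17043521 [] [.plain 3809 19341385 true])) (.leaf (.eqT 188 17043521 false [.plain 3810 17506379 true, .edge 3808 765 false] [.edge 1166 0 false]))) (.node 1 (.leaf (.eq 1040 25507923 [] [.plain 3811 17043521 false, .plain 1514 4991053 false])) (.leaf (.eq 1040 17043521 [] [.plain 3812 27603033 false])))))))
(.node 15 (.node 7 (.node 3 (.node 1 (.leaf (.eqT 71 17043521 true [.plain 3813 8927315 true, .edge 3806 292 false] [.edge 551 0 false])) (.node 1 (.leaf (.eq 1039 10633287 [] [.plain 3814 17043521 false, .plain 578 17043521 false])) (.leaf (.eq 1039 17043521 [] [.plain 3815 4792395 false]))))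
(.node 2 (.node 1 (.leaf (.eqT 71 4808797 false [.plain 3816 17766483 true, .edge 3804 961 false] [.edge 1522 0 false])) (.leaf (.eq 1038 17043521 [] [.plain 3817 19079259 false]))) (.node 1 (.leaf (.eqT 188 19085399 false [.plain 3818 17125451 true, .edge 3802 1116 false] [.edge 2868 0 false])) (.leaf (.eq 1029 29907033 [] [.plain 3819 17043521 false, .plain 2879 17043521 false])))))
(.node 4 (.node 2 (.node 1 (.leaf (.eq 1029 17043521 [] [.plain 3820 9123935 false])) (.leaf (.mov 188 23928925 false [.plain 3821 17461327 true, .edge 3784 1421 false]))) (.node 1 (.leaf .dfn) (.leaf .dfn)))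
(.node 2 (.node 1 (.leaf (.mov 1043 17043521 true [.edge 3824 0 true])) (.leaf .dfn)) (.node 1 (.leaf (.mov 1044 17043521 true [.edge 3826 0 true])) (.leaf .dfn)))))
(.node 8 (.node 4 (.node 2 (.node 1 (.leaf (.mov 1045 17043521 true [.edge 3828 0 true])) (.leaf (.rel 188 13178953 7 [.edge 3387 1044 false, .edge 3823 840 false, .edge 3824 1478 false, .mul, .edge 3826 4 false, .mul, .edge 3828 1283 false, .mul]))) (.node 1 (.leaf (.eq 1045 17043521 [] [.plain 3830 25837651 true])) (.leaf (.eqT 188 4808797 true [.plain 3831 27594843 true, .edge 3829 268 false] [.edge 3752 0 false]))))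
(.node 2 (.node 1 (.leaf (.eq 1044 17043521 [] [.plain 3832 25378883 false])) (.leaf (.mov 1019 10971209 true [.plain 3833 27799627 true, .edge 3827 597 false]))) (.node 1 (.leaf .dfn) (.leaf .dfn))))
(.node 4 (.node 2 (.node 1 (.leaf (.mov 1047 17043521 true [.edge 3836 0 true])) (.leaf .dfn)) (.node 1 (.leaf (.mov 1048 17043521 true [.edge 3838 0 true])) (.leaf (.rel 188 25761857 7 [.edge 2853 891 false, .plain 2860 11350097 false, .plain 3052 13445189 false, .edge 3090 1220 false, .edge 3835 1189 false, .mul, .edge 3836 1244 false, .mul, .edge 3838 1521 false, .mul]))))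
(.node 2 (.node 1 (.leaf (.eq 1048 17043521 [] [.plain 3840 25567323 true])) (.leaf (.eqT 188 31801425 true [.plain 3841 27856987 true, .edge 3839 1182 false] [.edge 3759 0 false]))) (.node 1 (.leaf (.eq 1047 17043521 [] [.plain 3842 30093399 false])) (.leaf (.mov 1020 10971209 true [.plain 3843 17135699 true, .edge 3837 600 false]))))))))
(.node 31 (.node 15 (.node 7 (.node 3 (.node 1 (.leaf .dfn) (.node 1 (.leaf (.mov 1049 17043521 false [.edge 3845 0 true])) (.leaf (.mov 195 23928925 false [.plain 1213 23937095 true, .edge 3845 498 false]))))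
(.node 2 (.node 1 (.leaf (.mov 195 6776923 false [.plain 1215 6778969 true, .edge 3847 757 false])) (.leaf (.mov 195 10971209 false [.plain 1213 10967111 true, .edge 3848 836 false]))) (.node 1 (.leaf (.mov 195 9056345 false [.plain 1216 9068635 true, .edge 3849 1130 false])) (.leaf (.mov 195 32125001 false [.plain 1213 32139357 true, .edge 3850 1150 false])))))
(.node 4 (.node 2 (.node 1 (.leaf (.eqT 195 31801425 false [.plain 1214 31801413 true, .edge 3845 1384 false] [.edge 3845 0 false])) (.leaf (.eq 1049 17043521 [] [.plain 3852 17633367 false]))) (.node 1 (.leaf .dfn) (.leaf .dfn)))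
(.node 2 (.node 1 (.leaf (.mov 1053 17043521 true [.edge 3855 0 true])) (.leaf .dfn)) (.node 1 (.leaf (.mov 1054 17043521 true [.edge 3857 0 true])) (.leaf (.rel 195 11038813 1 [.edge 3854 456 false, .mul, .edge 3855 11 false, .mul, .edge 3857 677 false, .mul, .mul]))))))
(.node 8 (.node 4 (.node 2 (.node 1 (.leaf (.eq 1054 17043521 [] [.plain 3859 27883605 true])) (.leaf (.eqT 195 17043521 true [.plain 3860 17651779 true, .edge 3858 914 false] [.edge 1293 0 false]))) (.node 1 (.leaf (.eq 1053 17043521 [] [.plain 3861 17635421 false])) (.leaf (.mov 207 17043521 true [.plain 3862 19142737 true, .edge 3856 1035 false]))))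
(.node 2 (.node 1 (.leaf .dfn) (.leaf (.mov 195 32125001 true [.plain 1213 32139357 true, .edge 3864 1034 false]))) (.node 1 (.leaf (.mov 195 32131155 true [.plain 1215 32125009 true, .edge 3865 1158 false])) (.leaf (.mov 195 13310023 true [.plain 1213 13322321 true, .edge 3866 484 false])))))
(.node 4 (.node 2 (.node 1 (.leaf (.eqT 195 13310023 true [.plain 1216 13320261 true, .edge 3864 1185 false] [.edge 3867 0 false])) (.leaf (.eq 1055 17043521 [] [.plain 3868 25694289 false]))) (.node 1 (.leaf .dfn) (.leaf (.mov 203 13510735 false [.plain 1253 13183053 true, .edge 3870 761 false]))))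
(.node 2 (.node 1 (.leaf (.mov 203 29904967 false [.plain 1254 29773913 true, .edge 3871 269 false])) (.leaf (.mov 203 27529303 false [.plain 1253 27791445 true, .edge 3872 149 false]))) (.node 1 (.leaf .dfn) (.leaf (.mov 195 4544593 true [.plain 1214 4544607 true, .edge 3874 347 false])))))))
(.node 15 (.node 7 (.node 3 (.node 1 (.leaf (.mov 195 31801425 true [.plain 1215 31799379 true, .edge 3875 646 false])) (.node 1 (.leaf (.mov 195 4808797 true [.plain 1214 4808779 true, .edge 3876 242 false])) (.leaf (.eqT 195 4808797 true [.plain 1213 4792399 true, .edge 3877 1277 false] [.edge 3877 0 false]))))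
(.node 2 (.node 1 (.leaf (.eqT 195 29904967 true [.plain 1216 29888581 true, .edge 3874 1429 false] [.edge 3874 0 false])) (.leaf (.eq 1060 17043521 [] [.plain 3879 17584211 false]))) (.node 1 (.leaf (.eq 1060 17043521 [] [.plain 3878 19216465 false])) (.leaf .dfn))))
(.node 4 (.node 2 (.node 1 (.leaf .dfn) (.leaf .dfn)) (.node 1 (.leaf (.mov 1063 17043521 false [.edge 3884 0 true])) (.leaf (.rel 195 29888591 3 [.edge 3874 535 false, .edge 3882 1255 false, .mul, .edge 3883 891 false, .mul, .edge 3884 1102 false, .mul]))))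
(.node 2 (.node 1 (.leaf (.eq 1063 17043521 [] [.plain 3886 17526857 true])) (.leaf (.mov 195 29904967 false [.plain 3887 17246279 true, .edge 3885 1400 false]))) (.node 1 (.leaf .dfn) (.leaf (.mov 1064 17043521 false [.edge 3889 0 true]))))))
(.node 8 (.node 4 (.node 2 (.node 1 (.leaf .dfn) (.leaf (.mov 1065 17043521 true [.edge 3891 0 true]))) (.node 1 (.leaf .dfn) (.leaf (.mov 1066 17043521 false [.edge 3893 0 true]))))
(.node 2 (.node 1 (.leaf (.rel 195 7090265 3 [.edge 3875 959 false, .edge 3889 311 false, .mul, .edge 3891 468 false, .mul, .edge 3893 665 false, .mul])) (.leaf (.eq 1066 17043521 [] [.plain 3895 17258561 true]))) (.node 1 (.leaf (.eqT 195 6776923 false [.plain 3896 17127509 true, .edge 3894 1156 false] [.edge 3848 0 false])) (.leaf (.eq 1065 17043521 [] [.plain 3897 17633367 false])))))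
(.node 4 (.node 2 (.node 1 (.leaf (.mov 1049 25385043 true [.plain 3898 25786441 true, .edge 3892 315 false])) (.leaf (.mov 1049 19085399 true [.plain 3853 19609673 true, .edge 3899 290 false]))) (.node 1 (.leaf .dfn) (.leaf (.mov 1055 13510735 false [.plain 3869 13115457 true, .edge 3901 109 false]))))
(.node 2 (.node 1 (.leaf .dfn) (.leaf .dfn)) (.node 1 (.leaf (.mov 1070 17043521 true [.edge 3904 0 true])) (.leaf .dfn)))))))))

/-- The reasons. -/
def caseCFullSrcLRRR : Tab Src := .node 244 caseCFullSrcLRRRL caseCFullSrcLRRRR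

/-- The reasons. -/
def caseCFullSrcLRR : Tab Src := .node 488 caseCFullSrcLRRL caseCFullSrcLRRR

/-- The reasons. -/
def caseCFullSrcLR : Tab Src := .node 977 caseCFullSrcLRL caseCFullSrcLRR

/-- The reasons. -/
def caseCFullSrcL : Tab Src := .node 1953 caseCFullSrcLL caseCFullSrcLR

/-- The reasons. -/
def caseCFullSrcRLLLL : Tab Src :=
(.node 122 (.node 61 (.node 30 (.node 15 (.node 7 (.node 3 (.node 1 (.leaf (.mov 1071 17043521 false [.edge 3906 0 true])) (.node 1 (.leaf (.rel 195 10704989 6 [.edge 1264 883 false, .edge 3872 704 false, .mul, .edge 3903 1141 false, .mul, .edge 3904 1329 false, .edge 3906 1060 false, .mul])) (.leaf (.eq 1071 17043521 [] [.plain 3908 19537985 true]))))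
(.node 2 (.node 1 (.leaf (.eqT 195 23928925 false [.plain 3909 17567811 true, .edge 3907 1058 false] [.edge 3847 0 false])) (.leaf (.eq 1070 17043521 [] [.plain 3910 19294281 false]))) (.node 1 (.leaf (.mov 1049 17043521 true [.plain 3911 19214401 true, .edge 3905 183 false])) (.leaf (.mov 1049 17059919 true [.plain 3853 17649737 true, .edge 3912 406 false])))))
(.node 4 (.node 2 (.node 1 (.leaf .dfn) (.leaf .dfn)) (.node 1 (.leaf (.mov 1073 17043521 true [.edge 3915 0 true])) (.leaf .dfn)))
(.node 2 (.node 1 (.leaf (.mov 1074 17043521 false [.edge 3917 0 true])) (.leaf (.rel 195 4728913 6 [.edge 3876 197 false, .edge 3882 1072 false, .mul, .edge 3914 857 false, .mul, .edge 3915 101 false, .edge 3917 365 false, .mul]))) (.node 1 (.leaf (.eq 1074 17043521 [] [.plain 3919 19796063 true])) (.leaf (.mov 195 4808797 false [.plain 3920 17240151 true, .edge 3918 1460 false]))))))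
(.node 7 (.node 3 (.node 1 (.leaf (.eqT 195 4808797 false [.plain 1214 4808779 true, .edge 3921 605 false] [.edge 3921 0 false])) (.node 1 (.leaf (.eqT 195 4808797 false [.plain 1215 4812895 true, .edge 3921 1027 false] [.edge 3921 0 false])) (.leaf (.eq 1073 17043521 [] [.plain 3923 17651779 false]))))
(.node 2 (.node 1 (.leaf (.eq 1073 17043521 [] [.plain 3922 17258579 false])) (.leaf (.mov 1073 17059919 true [.plain 3925 17649739 true, .edge 3916 820 false]))) (.node 1 (.leaf (.mov 1073 25385043 true [.plain 3924 25778245 true, .edge 3926 864 false])) (.leaf .dfn))))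
(.node 4 (.node 2 (.node 1 (.leaf (.mov 1075 17043521 true [.edge 3928 0 true])) (.leaf .dfn)) (.node 1 (.leaf (.mov 1076 17043521 true [.edge 3930 0 true])) (.leaf .dfn)))
(.node 2 (.node 1 (.leaf (.mov 1077 17043521 true [.edge 3932 0 true])) (.leaf (.rel 195 21375049 7 [.edge 3866 1465 false, .edge 3902 812 false, .edge 3928 1407 false, .mul, .edge 3930 1507 false, .mul, .edge 3932 1062 false, .mul]))) (.node 1 (.leaf (.eq 1077 17043521 [] [.plain 3934 27738201 true])) (.leaf (.eqT 195 19085399 true [.plain 3935 11040833 true, .edge 3933 1114 false] [.edge 1264 0 false])))))))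
(.node 15 (.node 7 (.node 3 (.node 1 (.leaf (.eq 1076 17043521 [] [.plain 3936 15482965 false])) (.node 1 (.leaf (.mov 203 32131155 true [.plain 3937 27801673 true, .edge 3931 1423 false])) (.leaf (.mov 203 31801425 true [.plain 1253 32194643 true, .edge 3938 974 false]))))
(.node 2 (.node 1 (.leaf (.mov 203 13510735 true [.plain 1254 13117505 true, .edge 3939 1379 false])) (.leaf (.mov 203 4808797 true [.plain 1253 4874335 true, .edge 3940 713 false]))) (.node 1 (.leaf .dfn) (.leaf (.mov 1055 27529303 false [.plain 3869 27859023 true, .edge 3942 1513 false])))))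
(.node 4 (.node 2 (.node 1 (.leaf .dfn) (.leaf .dfn)) (.node 1 (.leaf (.mov 1080 17043521 true [.edge 3945 0 true])) (.leaf .dfn)))
(.node 2 (.node 1 (.leaf (.mov 1081 17043521 true [.edge 3947 0 true])) (.leaf (.rel 195 31670347 7 [.edge 3866 373 false, .edge 3942 9 false, .edge 3944 31 false, .mul, .edge 3945 104 false, .mul, .edge 3947 428 false, .mul]))) (.node 1 (.leaf (.eq 1081 17043521 [] [.plain 3949 27412545 true])) (.leaf (.eqT 195 4808797 true [.plain 3950 19150929 true, .edge 3948 779 false] [.edge 3877 0 false]))))))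
(.node 8 (.node 4 (.node 2 (.node 1 (.leaf (.eq 1080 17043521 [] [.plain 3951 5003335 false])) (.leaf (.mov 1060 32131155 true [.plain 3952 27816017 true, .edge 3946 121 false]))) (.node 1 (.leaf (.mov 1060 29904967 true [.plain 3880 29761625 true, .edge 3953 1016 false])) (.leaf (.mov 1060 13510735 true [.plain 3881 13176909 true, .edge 3954 654 false]))))
(.node 2 (.node 1 (.leaf (.mov 1060 4544593 true [.plain 3880 4671575 true, .edge 3955 740 false])) (.leaf .dfn)) (.node 1 (.leaf .dfn) (.leaf (.mov 1086 17043521 false [.edge 3958 0 true])))))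
(.node 4 (.node 2 (.node 1 (.leaf (.rel 200 4792413 0 [.edge 1247 360 false, .mul, .edge 3957 897 false, .mul, .edge 3958 900 false, .mul, .mul])) (.leaf (.eq 1086 17043521 [] [.plain 3960 19079261 true]))) (.node 1 (.leaf (.eqT 200 29904967 false [.plain 3961 17717319 true, .edge 3959 818 false] [.edge 1246 0 false])) (.leaf (.eq 1085 17043521 [] [.plain 3962 19015745 false]))))
(.node 2 (.node 1 (.leaf .dfn) (.leaf .dfn)) (.node 1 (.leaf (.mov 1088 17043521 true [.edge 3965 0 true])) (.leaf (.rel 200 29970497 1 [.edge 1324 377 false, .mul, .edge 3964 870 false, .mul, .edge 3965 1284 false, .mul, .mul]))))))))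
(.node 30 (.node 15 (.node 7 (.node 3 (.node 1 (.leaf (.eq 1088 17043521 [] [.plain 3967 19730501 true])) (.node 1 (.leaf (.eqT 200 29904967 true [.plain 3968 17635393 true, .edge 3966 47 false] [.edge 1323 0 false])) (.leaf (.eq 1087 17043521 [] [.plain 3969 17633357 false]))))
(.node 2 (.node 1 (.leaf .dfn) (.leaf .dfn)) (.node 1 (.leaf (.mov 1090 17043521 true [.edge 3972 0 true])) (.leaf (.rel 200 32194631 1 [.edge 1343 941 false, .mul, .edge 3971 770 false, .mul, .edge 3972 880 false, .mul, .mul])))))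
(.node 4 (.node 2 (.node 1 (.leaf (.eq 1090 17043521 [] [.plain 3974 25505887 true])) (.leaf (.eqT 200 32131155 true [.plain 3975 27537481 true, .edge 3973 1384 false] [.edge 1342 0 false]))) (.node 1 (.leaf (.eq 1089 17043521 [] [.plain 3976 8933447 false])) (.leaf .dfn)))
(.node 2 (.node 1 (.leaf .dfn) (.leaf .dfn)) (.node 1 (.leaf (.mov 1093 17043521 false [.edge 3980 0 true])) (.leaf (.rel 200 9189463 3 [.edge 1239 383 false, .plain 1245 27881545 false, .edge 1249 878 false, .mul, .edge 3979 1400 false, .mul, .edge 3980 660 false, .mul]))))))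
(.node 7 (.node 3 (.node 1 (.leaf (.eq 1093 17043521 [] [.plain 3982 17190993 true])) (.node 1 (.leaf (.eqT 200 13510735 false [.plain 3983 17584201 true, .edge 3981 792 false] [.edge 1249 0 false])) (.leaf (.eq 1092 17043521 [] [.plain 3984 17569887 false]))))
(.node 2 (.node 1 (.leaf .dfn) (.leaf (.mov 1094 17043521 true [.edge 3986 0 true]))) (.node 1 (.leaf .dfn) (.leaf (.mov 1095 17043521 false [.edge 3988 0 true])))))
(.node 4 (.node 2 (.node 1 (.leaf (.rel 200 6907985 3 [.edge 1345 161 false, .edge 3978 632 false, .mul, .edge 3986 1265 false, .mul, .edge 3988 322 false, .mul])) (.leaf (.eq 1095 17043521 [] [.plain 3990 17510489 true]))) (.node 1 (.leaf (.eqT 200 4808797 false [.plain 3991 17784899 true, .edge 3989 734 false] [.edge 1247 0 false])) (.leaf (.eq 1094 17043521 [] [.plain 3992 11483231 false]))))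
(.node 2 (.node 1 (.leaf (.mov 203 11495495 true [.plain 3993 17070145 true, .edge 3987 528 false])) (.leaf .dfn)) (.node 1 (.leaf (.eqT 214 32125001 false [.plain 1332 30029917 true, .edge 3995 987 false] [.edge 3995 0 false])) (.leaf (.eqT 214 32125001 false [.plain 1333 9070667 true, .edge 3995 284 false] [.edge 3995 0 false])))))))
(.node 15 (.node 7 (.node 3 (.node 1 (.leaf (.eq 1096 17043521 [] [.plain 3997 17240133 false])) (.node 1 (.leaf (.eq 1096 17043521 [] [.plain 3996 17109063 false])) (.leaf .dfn)))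
(.node 2 (.node 1 (.leaf .dfn) (.leaf (.mov 1099 17043521 false [.edge 4001 0 true]))) (.node 1 (.leaf (.eqT 1096 19085399 false [.plain 3998 19216473 true, .edge 4001 1225 false] [.edge 4001 0 false])) (.leaf (.eqT 1096 19085399 false [.plain 3999 19019867 true, .edge 4001 66 false] [.edge 4001 0 false])))))
(.node 4 (.node 2 (.node 1 (.leaf (.eq 1099 17043521 [] [.plain 4004 17045595 false])) (.leaf (.eq 1099 17043521 [] [.plain 4003 17068099 false]))) (.node 1 (.leaf .dfn) (.leaf (.mov 1100 17043521 true [.edge 4007 0 true]))))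
(.node 2 (.node 1 (.leaf (.eqT 1099 17059919 true [.plain 4006 17051725 true, .edge 4007 1518 false] [.edge 4007 0 false])) (.leaf (.eq 1100 17043521 [] [.plain 4009 17051723 false]))) (.node 1 (.leaf .dfn) (.leaf (.mov 1101 17043521 false [.edge 4011 0 true]))))))
(.node 8 (.node 4 (.node 2 (.node 1 (.leaf (.rel 200 10969183 6 [.edge 1346 1219 false, .edge 3995 305 false, .mul, .edge 4001 468 false, .mul, .edge 4007 33 false, .edge 4011 1069 false, .mul])) (.leaf (.eq 1101 17043521 [] [.plain 4013 19079239 true]))) (.node 1 (.leaf (.mov 200 10971209 false [.plain 4014 16918621 true, .edge 4012 326 false])) (.leaf (.mov 200 23928925 false [.plain 1237 25829457 true, .edge 4015 761 false]))))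
(.node 2 (.node 1 (.leaf (.mov 200 13310023 false [.plain 1236 13244489 true, .edge 4016 1120 false])) (.leaf (.mov 200 9056345 false [.plain 1238 9318491 true, .edge 4017 1469 false]))) (.node 1 (.leaf (.mov 200 6776923 false [.plain 1236 6711391 true, .edge 4018 1492 false])) (.leaf .dfn))))
(.node 4 (.node 2 (.node 1 (.leaf (.mov 1102 17043521 true [.edge 4020 0 true])) (.leaf .dfn)) (.node 1 (.leaf (.mov 1103 17043521 false [.edge 4022 0 true])) (.leaf (.rel 200 7024713 6 [.edge 1321 1459 false, .edge 1417 919 false, .plain 3517 4798549 false, .mul, .edge 2917 740 false, .mul, .edge 4020 292 false, .edge 4022 674 false, .mul]))))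
(.node 2 (.node 1 (.leaf (.eq 1103 17043521 [] [.plain 4024 19818565 true])) (.leaf (.eqT 200 27529303 false [.plain 4025 17111117 true, .edge 4023 294 false] [.edge 1248 0 false]))) (.node 1 (.leaf (.eq 1102 17043521 [] [.plain 4026 27621461 false])) (.leaf (.mov 203 25385043 true [.plain 4027 11032659 true, .edge 4021 145 false])))))))))
(.node 61 (.node 30 (.node 15 (.node 7 (.node 3 (.node 1 (.leaf .dfn) (.node 1 (.leaf (.mov 1104 17043521 true [.edge 4029 0 true])) (.leaf .dfn)))
(.node 2 (.node 1 (.leaf (.mov 1105 17043521 true [.edge 4031 0 true])) (.leaf .dfn)) (.node 1 (.leaf (.mov 1106 17043521 true [.edge 4033 0 true])) (.leaf (.rel 200 17506393 7 [.edge 1347 323 false, .edge 4000 411 false, .edge 4029 969 false, .mul, .edge 4031 506 false, .mul, .edge 4033 417 false, .mul])))))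
(.node 4 (.node 2 (.node 1 (.leaf (.eq 1106 17043521 [] [.plain 4035 9068633 true])) (.leaf (.eqT 200 17059919 true [.plain 4036 11040849 true, .edge 4034 924 false] [.edge 1239 0 false]))) (.node 1 (.leaf (.eq 1105 15669335 [] [.plain 4037 17043521 false, .plain 1245 17043521 false])) (.leaf (.eq 1105 17043521 [] [.plain 4038 25827421 false]))))
(.node 2 (.node 1 (.leaf (.eqT 200 11495495 true [.plain 4039 25770073 true, .edge 4032 155 false] [.edge 1346 0 false])) (.leaf (.eq 1104 17043521 [] [.plain 4040 14907457 false]))) (.node 1 (.leaf (.mov 214 4808797 true [.plain 4041 11087963 true, .edge 4030 539 false])) (.leaf .dfn)))))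
(.node 7 (.node 3 (.node 1 (.leaf (.mov 1107 17043521 false [.edge 4043 0 true])) (.node 1 (.leaf (.rel 203 29823065 0 [.edge 3873 602 false, .mul, .edge 3903 314 false, .mul, .edge 4043 582 false, .mul, .mul])) (.leaf (.eq 1107 17043521 [] [.plain 4045 19755083 true]))))
(.node 2 (.node 1 (.leaf (.eqT 203 13510735 false [.plain 4046 17002573 true, .edge 4044 1091 false] [.edge 3871 0 false])) (.leaf (.eq 1069 17043521 [] [.plain 4047 19140689 false]))) (.node 1 (.leaf (.mov 1059 10971209 true [.plain 4048 9246815 true, .edge 3904 707 false])) (.leaf .dfn))))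
(.node 4 (.node 2 (.node 1 (.leaf (.mov 1110 17043521 false [.edge 4050 0 true])) (.leaf .dfn)) (.node 1 (.leaf .dfn) (.leaf (.mov 1112 17043521 true [.edge 4053 0 true]))))
(.node 2 (.node 1 (.leaf .dfn) (.leaf (.mov 1113 17043521 false [.edge 4055 0 true]))) (.node 1 (.leaf (.rel 203 15607877 3 [.edge 3940 1511 false, .edge 4052 82 false, .mul, .edge 4053 240 false, .mul, .edge 4055 111 false, .mul])) (.leaf (.eq 1113 17043521 [] [.plain 4057 17643603 true])))))))
(.node 15 (.node 7 (.node 3 (.node 1 (.leaf (.eqT 203 27529303 false [.plain 4058 17440859 true, .edge 4056 205 false] [.edge 3873 0 false])) (.node 1 (.leaf (.eq 1112 17043521 [] [.plain 4059 26091591 false])) (.leaf (.mov 1059 19085399 true [.plain 4060 11278401 true, .edge 4054 1034 false]))))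
(.node 2 (.node 1 (.leaf .dfn) (.leaf (.mov 203 29904967 true [.plain 1253 29839429 true, .edge 4062 50 false]))) (.node 1 (.leaf (.mov 203 32125001 true [.plain 1254 31797333 true, .edge 4063 1016 false])) (.leaf (.mov 203 4544593 true [.plain 1253 4610131 true, .edge 4064 238 false])))))
(.node 4 (.node 2 (.node 1 (.leaf .dfn) (.leaf .dfn)) (.node 1 (.leaf (.mov 1116 17043521 true [.edge 4067 0 true])) (.leaf .dfn)))
(.node 2 (.node 1 (.leaf (.mov 1117 17043521 false [.edge 4069 0 true])) (.leaf (.rel 203 6959175 3 [.edge 4062 1285 false, .edge 4066 336 false, .mul, .edge 4067 1460 false, .mul, .edge 4069 1120 false, .mul]))) (.node 1 (.leaf (.eq 1117 17043521 [] [.plain 4071 17649753 true])) (.leaf (.eqT 203 27529303 false [.plain 4072 17244243 true, .edge 4070 1532 false] [.edge 3873 0 false]))))))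
(.node 8 (.node 4 (.node 2 (.node 1 (.leaf (.eq 1116 17043521 [] [.plain 4073 25761865 false])) (.leaf (.mov 1059 17043521 true [.plain 4074 27619419 true, .edge 4068 458 false]))) (.node 1 (.leaf .dfn) (.leaf .dfn)))
(.node 2 (.node 1 (.leaf .dfn) (.leaf .dfn)) (.node 1 (.leaf (.mov 1122 17043521 false [.edge 4079 0 true])) (.leaf .dfn))))
(.node 4 (.node 2 (.node 1 (.leaf (.mov 1123 17043521 true [.edge 4081 0 true])) (.leaf .dfn)) (.node 1 (.leaf (.mov 1124 17043521 false [.edge 4083 0 true])) (.leaf (.rel 203 12929111 6 [.edge 3941 658 false, .edge 4078 1059 false, .mul, .edge 4079 1033 false, .mul, .edge 4081 1091 false, .edge 4083 121 false, .mul]))))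
(.node 2 (.node 1 (.leaf (.eq 1124 17043521 [] [.plain 4085 19818571 true])) (.leaf (.mov 203 31801425 false [.plain 4086 16937041 true, .edge 4084 1482 false]))) (.node 1 (.leaf .dfn) (.leaf (.mov 1125 17043521 true [.edge 4088 0 true]))))))))
(.node 30 (.node 15 (.node 7 (.node 3 (.node 1 (.leaf .dfn) (.node 1 (.leaf (.mov 1126 17043521 true [.edge 4090 0 true])) (.leaf (.rel 203 11350093 7 [.edge 1255 1211 false, .plain 1262 25759833 false, .edge 3851 429 false, .edge 3900 198 false, .mul, .edge 4088 1319 false, .mul, .edge 4090 277 false, .mul]))))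
(.node 2 (.node 1 (.leaf (.eq 1126 17043521 [] [.plain 4092 19621969 true])) (.leaf (.eqT 203 13310023 true [.plain 4093 25776217 true, .edge 4091 915 false] [.edge 4062 0 false]))) (.node 1 (.leaf (.eq 1125 17043521 [] [.plain 4094 32329809 false])) (.leaf (.mov 1114 4544593 true [.plain 4095 25704521 true, .edge 4089 1479 false])))))
(.node 4 (.node 2 (.node 1 (.leaf .dfn) (.leaf .dfn)) (.node 1 (.leaf (.mov 1128 17043521 true [.edge 4098 0 true])) (.leaf .dfn)))
(.node 2 (.node 1 (.leaf (.mov 1129 17043521 true [.edge 4100 0 true])) (.leaf .dfn)) (.node 1 (.leaf (.mov 1130 17043521 true [.edge 4102 0 true])) (.leaf (.rel 203 14897225 7 [.edge 4064 215 false, .edge 4097 857 false, .edge 4098 12 false, .mul, .edge 4100 862 false, .mul, .edge 4102 57 false, .mul]))))))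
(.node 7 (.node 3 (.node 1 (.leaf (.eq 1130 17043521 [] [.plain 4104 10897483 true])) (.node 1 (.leaf (.eqT 203 4808797 true [.plain 4105 19230787 true, .edge 4103 758 false] [.edge 3941 0 false])) (.leaf (.eq 1129 17043521 [] [.plain 4106 15419461 false]))))
(.node 2 (.node 1 (.leaf (.mov 1075 10971209 true [.plain 4107 11368515 true, .edge 4101 598 false])) (.leaf .dfn)) (.node 1 (.leaf (.mov 1131 17043521 false [.edge 4109 0 true])) (.leaf (.rel 206 17258563 0 [.edge 1266 921 false, .mul, .edge 1294 310 false, .mul, .edge 4109 149 false, .mul, .mul])))))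
(.node 4 (.node 2 (.node 1 (.leaf (.eq 1131 17043521 [] [.plain 4111 19208257 true])) (.leaf (.eqT 206 19085399 false [.plain 4112 17592405 true, .edge 4110 367 false] [.edge 1276 0 false]))) (.node 1 (.leaf (.eq 210 17043521 [] [.plain 4113 19691589 false])) (.leaf (.mov 207 19085399 false [.plain 4114 17508445 true, .edge 1295 774 false]))))
(.node 2 (.node 1 (.leaf (.mov 207 10971209 true [.plain 4114 8607839 true, .edge 1305 404 false])) (.leaf (.mov 207 11495495 true [.plain 1281 11493467 true, .edge 4116 351 false]))) (.node 1 (.leaf (.mov 207 25385043 true [.plain 1282 25378893 true, .edge 4117 156 false])) (.leaf (.mov 207 19085399 true [.plain 1281 19083347 true, .edge 4118 338 false])))))))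
(.node 15 (.node 7 (.node 3 (.node 1 (.leaf .dfn) (.node 1 (.leaf (.mov 206 31801425 true [.plain 1272 32129107 true, .edge 4120 394 false])) (.leaf (.mov 206 4808797 true [.plain 1273 4808771 true, .edge 4121 894 false]))))
(.node 2 (.node 1 (.leaf (.mov 206 13510735 true [.plain 1272 13117517 true, .edge 4122 757 false])) (.leaf (.eqT 206 4808797 true [.plain 1274 4677723 true, .edge 4120 264 false] [.edge 4122 0 false]))) (.node 1 (.leaf (.eqT 206 32131155 true [.plain 1275 32196673 true, .edge 4120 1272 false] [.edge 4120 0 false])) (.leaf (.eq 1135 17043521 [] [.plain 4125 17109073 false])))))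
(.node 4 (.node 2 (.node 1 (.leaf (.eq 1135 17043521 [] [.plain 4124 8941643 false])) (.leaf .dfn)) (.node 1 (.leaf (.mov 206 13310023 true [.plain 1272 13441093 true, .edge 4128 458 false])) (.leaf (.mov 206 32125001 true [.plain 1274 31666261 true, .edge 4129 1228 false]))))
(.node 2 (.node 1 (.leaf (.mov 206 4544593 true [.plain 1272 4675667 true, .edge 4130 1166 false])) (.leaf (.eqT 206 4544593 true [.plain 1275 4479047 true, .edge 4128 1459 false] [.edge 4131 0 false]))) (.node 1 (.leaf (.eq 1138 17043521 [] [.plain 4132 25524307 false])) (.leaf .dfn)))))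
(.node 8 (.node 4 (.node 2 (.node 1 (.leaf (.mov 1138 4808797 false [.plain 4133 19017801 true, .edge 4134 215 false])) (.leaf .dfn)) (.node 1 (.leaf (.mov 1135 29904967 false [.plain 4126 29970523 true, .edge 4136 1127 false])) (.leaf (.mov 1135 27529303 false [.plain 4127 27791445 true, .edge 4137 149 false]))))
(.node 2 (.node 1 (.leaf .dfn) (.leaf (.mov 214 19085399 false [.plain 1332 16986193 true, .edge 4139 1346 false]))) (.node 1 (.leaf (.mov 214 13510735 false [.plain 1333 19812429 true, .edge 4140 1407 false])) (.leaf .dfn))))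
(.node 4 (.node 2 (.node 1 (.leaf (.mov 1144 17043521 true [.edge 4142 0 true])) (.leaf .dfn)) (.node 1 (.leaf (.mov 1145 17043521 false [.edge 4144 0 true])) (.leaf (.rel 206 25432153 3 [.edge 1329 844 false, .edge 4139 853 false, .mul, .edge 4142 748 false, .mul, .edge 4144 578 false, .mul]))))
(.node 2 (.node 1 (.leaf (.eq 1145 17043521 [] [.plain 4146 17004639 true])) (.leaf (.mov 206 13510735 false [.plain 4147 17004617 true, .edge 4145 669 false]))) (.node 1 (.leaf (.mov 206 29904967 false [.plain 1272 29773893 true, .edge 4148 455 false])) (.leaf (.mov 206 9056345 false [.plain 1274 8925267 true, .edge 4149 1264 false]))))))))))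

/-- The reasons. -/
def caseCFullSrcRLLLR : Tab Src :=
(.node 122 (.node 61 (.node 30 (.node 15 (.node 7 (.node 3 (.node 1 (.leaf (.mov 206 13310023 false [.plain 1272 13441093 true, .edge 4150 607 false])) (.node 1 (.leaf (.mov 206 23928925 false [.plain 1275 23863381 true, .edge 4151 538 false])) (.leaf (.mov 206 6776923 false [.plain 1272 6580313 true, .edge 4152 1276 false]))))
(.node 2 (.node 1 (.leaf (.eqT 206 13510735 false [.plain 1273 13510731 true, .edge 4148 440 false] [.edge 4148 0 false])) (.leaf (.eq 1144 17043521 [] [.plain 4154 11300943 false]))) (.node 1 (.leaf (.mov 1144 17059919 true [.plain 4155 25456705 true, .edge 4143 632 false])) (.leaf .dfn))))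
(.node 4 (.node 2 (.node 1 (.leaf .dfn) (.leaf (.mov 1147 17043521 false [.edge 4158 0 true]))) (.node 1 (.leaf (.rel 206 12867665 3 [.edge 4131 1515 false, .edge 4134 289 false, .mul, .edge 4157 362 false, .mul, .edge 4158 1416 false, .mul])) (.leaf (.eq 1147 17043521 [] [.plain 4160 17592385 true]))))
(.node 2 (.node 1 (.leaf (.eqT 206 6776923 false [.plain 4161 17766475 true, .edge 4159 1356 false] [.edge 4153 0 false])) (.leaf (.eq 1146 17043521 [] [.plain 4162 25507925 false]))) (.node 1 (.leaf .dfn) (.leaf (.mov 1149 17043521 true [.edge 4164 0 true]))))))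
(.node 7 (.node 3 (.node 1 (.leaf .dfn) (.node 1 (.leaf (.mov 1150 17043521 false [.edge 4166 0 true])) (.leaf .dfn)))
(.node 2 (.node 1 (.leaf (.mov 1155 17043521 false [.edge 4168 0 true])) (.leaf .dfn)) (.node 1 (.leaf (.mov 1156 17043521 true [.edge 4170 0 true])) (.leaf .dfn))))
(.node 4 (.node 2 (.node 1 (.leaf (.mov 1157 17043521 false [.edge 4172 0 true])) (.leaf (.rel 206 19294279 6 [.edge 4164 601 false, .edge 4166 108 false, .mul, .edge 4168 511 false, .mul, .edge 4170 379 false, .edge 4172 556 false, .mul]))) (.node 1 (.leaf (.eq 1157 17043521 [] [.plain 4174 19157063 true])) (.leaf (.eqT 206 17043521 false [.plain 4175 17444945 true, .edge 4173 306 false] [.edge 1266 0 false]))))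
(.node 2 (.node 1 (.leaf (.eq 1156 17043521 [] [.plain 4176 8808525 false])) (.leaf (.eqT 39 25385043 true [.plain 4177 8984651 true, .edge 4171 370 false] [.edge 1217 0 false]))) (.node 1 (.leaf (.eq 1155 16939083 [] [.plain 4178 17043521 false, .plain 1223 17043521 false])) (.leaf (.eq 1155 17043521 [] [.plain 4179 17768541 false])))))))
(.node 15 (.node 7 (.node 3 (.node 1 (.leaf (.eqT 39 6776923 false [.plain 4180 17260623 true, .edge 4169 20 false] [.edge 1267 0 false])) (.node 1 (.leaf (.eq 1150 17043521 [] [.plain 4181 19036239 false])) (.leaf (.eqT 206 19085399 false [.plain 4182 17506375 true, .edge 4167 206 false] [.edge 1276 0 false]))))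
(.node 2 (.node 1 (.leaf (.eq 1149 17043521 [] [.plain 4183 27611217 false])) (.leaf (.eqT 207 17043521 true [.plain 4184 25522265 true, .edge 4165 199 false] [.edge 3863 0 false]))) (.node 1 (.leaf (.eq 1052 17043521 [] [.plain 4185 19232839 true])) (.leaf .dfn))))
(.node 4 (.node 2 (.node 1 (.leaf .dfn) (.leaf .dfn)) (.node 1 (.leaf (.mov 1160 17043521 true [.edge 4189 0 true])) (.leaf (.rel 206 29827157 7 [.edge 4123 1458 false, .edge 4138 1383 false, .edge 4187 892 false, .mul, .edge 4188 434 false, .mul, .edge 4189 640 false, .mul]))))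
(.node 2 (.node 1 (.leaf (.eq 1160 17043521 [] [.plain 4191 28264539 true])) (.leaf (.eqT 206 32125001 true [.plain 4192 25759827 true, .edge 4190 497 false] [.edge 4130 0 false]))) (.node 1 (.leaf (.eq 1159 17043521 [] [.plain 4193 7043147 false])) (.leaf .dfn)))))
(.node 8 (.node 4 (.node 2 (.node 1 (.leaf (.mov 1161 17043521 true [.edge 4195 0 true])) (.leaf .dfn)) (.node 1 (.leaf (.mov 1162 17043521 true [.edge 4197 0 true])) (.leaf .dfn)))
(.node 2 (.node 1 (.leaf (.mov 1163 17043521 true [.edge 4199 0 true])) (.leaf (.rel 206 4939841 7 [.edge 4120 1052 false, .edge 4138 1361 false, .edge 4195 1211 false, .mul, .edge 4197 530 false, .mul, .edge 4199 1166 false, .mul]))) (.node 1 (.leaf (.eq 1163 17043521 [] [.plain 4201 17705041 true])) (.leaf (.eqT 206 17043521 true [.plain 4202 27875419 true, .edge 4200 488 false] [.edge 1329 0 false])))))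
(.node 4 (.node 2 (.node 1 (.leaf (.eq 1162 17043521 [] [.plain 4203 32067655 false])) (.leaf (.mov 214 10971209 true [.plain 4204 11030611 true, .edge 4198 583 false]))) (.node 1 (.leaf (.mov 214 11495495 true [.plain 1332 9396313 true, .edge 4205 342 false])) (.leaf (.mov 214 13310023 true [.plain 1333 25905221 true, .edge 4206 1241 false]))))
(.node 2 (.node 1 (.leaf (.mov 214 32125001 true [.plain 1332 30029917 true, .edge 4207 1364 false])) (.leaf .dfn)) (.node 1 (.leaf (.mov 207 10971209 false [.plain 1281 10969157 true, .edge 4209 1527 false])) (.leaf (.mov 207 9056345 false [.plain 1282 9068613 true, .edge 4210 1098 false]))))))))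
(.node 30 (.node 15 (.node 7 (.node 3 (.node 1 (.leaf (.mov 207 6776923 false [.plain 1281 6774871 true, .edge 4211 1120 false])) (.node 1 (.leaf (.mov 207 13310023 false [.plain 1283 13312093 true, .edge 4212 760 false])) (.leaf (.mov 207 23928925 false [.plain 1281 23930949 true, .edge 4213 806 false]))))
(.node 2 (.node 1 (.leaf (.mov 207 7292999 false [.plain 1282 7286879 true, .edge 4214 426 false])) (.leaf (.mov 207 31801425 false [.plain 1281 31803481 true, .edge 4215 345 false]))) (.node 1 (.leaf (.eqT 207 31801425 false [.plain 1284 31797331 true, .edge 4209 1302 false] [.edge 4216 0 false])) (.leaf (.eq 1164 17043521 [] [.plain 4217 17643597 false])))))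
(.node 4 (.node 2 (.node 1 (.leaf .dfn) (.leaf (.mov 207 13310023 true [.plain 1281 13307987 true, .edge 4219 468 false]))) (.node 1 (.leaf (.mov 207 13510735 true [.plain 1282 13523039 true, .edge 4220 1411 false])) (.leaf (.mov 207 32131155 true [.plain 1281 32129093 true, .edge 4221 224 false]))))
(.node 2 (.node 1 (.leaf (.eqT 207 32131155 true [.plain 1284 32127057 true, .edge 4219 863 false] [.edge 4222 0 false])) (.leaf (.eq 1167 17043521 [] [.plain 4223 19222617 false]))) (.node 1 (.leaf .dfn) (.leaf .dfn)))))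
(.node 7 (.node 3 (.node 1 (.leaf (.mov 1171 17043521 true [.edge 4226 0 true])) (.node 1 (.leaf (.rel 207 28262473 1 [.edge 4116 911 false, .mul, .edge 4225 178 false, .mul, .edge 4226 704 false, .mul, .mul])) (.leaf (.eq 1171 17043521 [] [.plain 4228 11278415 true]))))
(.node 2 (.node 1 (.leaf (.eqT 207 11495495 true [.plain 4229 11294809 true, .edge 4227 313 false] [.edge 4117 0 false])) (.leaf (.eq 1170 17043521 [] [.plain 4230 9197653 false]))) (.node 1 (.leaf .dfn) (.leaf (.mov 1167 19085399 false [.plain 4224 4745301 true, .edge 4232 479 false])))))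
(.node 4 (.node 2 (.node 1 (.leaf .dfn) (.leaf .dfn)) (.node 1 (.leaf (.mov 1178 17043521 false [.edge 4235 0 true])) (.leaf (.rel 207 7290951 3 [.edge 4221 1380 false, .edge 4232 676 false, .mul, .edge 4234 1132 false, .mul, .edge 4235 1041 false, .mul]))))
(.node 2 (.node 1 (.leaf (.eq 1178 17043521 [] [.plain 4237 17780831 true])) (.leaf (.eqT 207 31801425 false [.plain 4238 17641547 true, .edge 4236 761 false] [.edge 4216 0 false]))) (.node 1 (.leaf (.eq 1177 17043521 [] [.plain 4239 17522765 false])) (.leaf .dfn))))))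
(.node 15 (.node 7 (.node 3 (.node 1 (.leaf (.mov 211 27529303 false [.plain 1311 27856981 true, .edge 4241 1232 false])) (.node 1 (.leaf (.mov 211 29904967 false [.plain 1312 29839451 true, .edge 4242 791 false])) (.leaf (.mov 211 13510735 false [.plain 1311 13117517 true, .edge 4243 558 false]))))
(.node 2 (.node 1 (.leaf .dfn) (.leaf (.mov 1180 17043521 false [.edge 4245 0 true]))) (.node 1 (.leaf .dfn) (.leaf (.mov 1181 17043521 false [.edge 4247 0 true])))))
(.node 4 (.node 2 (.node 1 (.leaf .dfn) (.leaf (.mov 1182 17043521 true [.edge 4249 0 true]))) (.node 1 (.leaf .dfn) (.leaf (.mov 1183 17043521 false [.edge 4251 0 true]))))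
(.node 2 (.node 1 (.leaf (.rel 207 17197145 6 [.edge 4116 375 false, .edge 4245 119 false, .mul, .edge 4247 128 false, .mul, .edge 4249 14 false, .edge 4251 58 false, .mul])) (.leaf (.eq 1183 17043521 [] [.plain 4253 19798097 true]))) (.node 1 (.leaf (.eqT 207 19085399 false [.plain 4254 17459275 true, .edge 4252 1232 false] [.edge 4115 0 false])) (.leaf (.eq 1182 17043521 [] [.plain 4255 17068119 false]))))))
(.node 8 (.node 4 (.node 2 (.node 1 (.leaf (.eqT 39 32125001 true [.plain 4256 25712707 true, .edge 4250 874 false] [.edge 1370 0 false])) (.leaf (.eq 1181 8548423 [] [.plain 4257 17043521 false, .plain 3517 19165257 false]))) (.node 1 (.leaf (.eq 1181 17043521 [] [.plain 4258 29892683 false])) (.leaf (.eqT 123 7292999 false [.plain 4259 16998481 true, .edge 4248 18 false] [.edge 2917 0 false]))))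
(.node 2 (.node 1 (.leaf (.eq 1180 17043521 [] [.plain 4260 19877961 false])) (.leaf (.mov 689 19085399 false [.plain 4261 17715275 true, .edge 4246 65 false]))) (.node 1 (.leaf .dfn) (.leaf (.mov 1184 17043521 false [.edge 4263 0 true])))))
(.node 4 (.node 2 (.node 1 (.leaf .dfn) (.leaf (.mov 1185 17043521 true [.edge 4265 0 true]))) (.node 1 (.leaf .dfn) (.leaf (.mov 1186 17043521 false [.edge 4267 0 true]))))
(.node 2 (.node 1 (.leaf (.rel 207 28264531 6 [.edge 4116 80 false, .edge 4243 328 false, .mul, .edge 4263 1298 false, .mul, .edge 4265 904 false, .edge 4267 796 false, .mul])) (.leaf (.eq 1186 17043521 [] [.plain 4269 19540051 true]))) (.node 1 (.leaf (.eqT 207 31801425 false [.plain 4270 17528915 true, .edge 4268 1456 false] [.edge 4216 0 false])) (.leaf (.eq 1185 17043521 [] [.plain 4271 19748939 false])))))))))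
(.node 61 (.node 30 (.node 15 (.node 7 (.node 3 (.node 1 (.leaf (.mov 1164 17043521 true [.plain 4272 19691611 true, .edge 4266 53 false])) (.node 1 (.leaf (.mov 1164 17059919 true [.plain 4218 17635411 true, .edge 4273 333 false])) (.leaf .dfn)))
(.node 2 (.node 1 (.leaf (.mov 1187 17043521 true [.edge 4275 0 true])) (.leaf .dfn)) (.node 1 (.leaf (.mov 1188 17043521 true [.edge 4277 0 true])) (.leaf (.rel 207 17195087 7 [.edge 4117 266 false, .edge 4245 1332 false, .plain 4261 17000541 false, .edge 2912 466 false, .mul, .edge 4275 982 false, .mul, .edge 4277 607 false, .mul])))))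
(.node 4 (.node 2 (.node 1 (.leaf (.eq 1188 17043521 [] [.plain 4279 9322585 true])) (.leaf (.eqT 207 19085399 true [.plain 4280 27873371 true, .edge 4278 334 false] [.edge 4119 0 false]))) (.node 1 (.leaf (.eq 1187 17043521 [] [.plain 4281 27684959 false])) (.leaf (.eqT 211 25385043 true [.plain 4282 8925273 true, .edge 4276 534 false] [.edge 1313 0 false]))))
(.node 2 (.node 1 (.leaf (.eq 688 11419741 [] [.plain 4283 17043521 false, .plain 1320 17043521 false])) (.leaf (.eq 688 17043521 [] [.plain 4284 4814921 false]))) (.node 1 (.leaf (.eqT 200 27529303 false [.plain 4285 17512541 true, .edge 2910 681 false] [.edge 1248 0 false])) (.leaf (.eqT 200 13510735 true [.plain 4285 19746897 true, .edge 2911 655 false] [.edge 1343 0 false]))))))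
(.node 7 (.node 3 (.node 1 (.leaf (.eq 689 17043521 [] [.plain 4287 19755099 false])) (.node 1 (.leaf (.eqT 214 4808797 false [.plain 4288 17262663 true, .edge 2913 1183 false] [.edge 4000 0 false])) (.leaf (.mov 214 31801425 true [.plain 4288 8538179 true, .edge 4020 1512 false]))))
(.node 2 (.node 1 (.leaf (.mov 214 13310023 false [.plain 4288 21893187 true, .edge 4076 922 false])) (.leaf (.mov 214 23928925 false [.plain 1332 21833799 true, .edge 4291 499 false]))) (.node 1 (.leaf (.mov 214 31801425 false [.plain 1333 23421011 true, .edge 4292 588 false])) (.leaf (.mov 214 7292999 false [.plain 1332 5193817 true, .edge 4293 484 false])))))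
(.node 4 (.node 2 (.node 1 (.leaf (.eqT 214 29904967 false [.plain 4288 19683409 true, .edge 4262 54 false] [.edge 3978 0 false])) (.leaf (.eq 1091 17043521 [] [.plain 4295 17043521 true]))) (.node 1 (.leaf (.eq 690 17461317 [.plain 2916 17461317 false] [.plain 4289 17043521 false])) (.leaf (.eq 1098 17043521 [] [.plain 4297 17043521 true]))))
(.node 2 (.node 1 (.leaf (.eqT 123 32131155 true [.plain 4298 17242187 true, .edge 4029 1267 false] [.edge 2929 0 false])) (.leaf (.eq 1104 27856977 [.plain 4041 27856977 false] [.plain 4299 17043521 false]))) (.node 1 (.leaf (.eq 695 17043521 [] [.plain 4300 17043521 true])) (.leaf (.eq 203 17043521 [] [.plain 4286 17256539 true])))))))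
(.node 15 (.node 7 (.node 3 (.node 1 (.leaf (.mov 134 13310023 true [.plain 4302 17133645 true, .edge 1255 1286 false])) (.node 1 (.leaf (.eqT 134 27529303 false [.plain 4302 13588553 true, .edge 3873 1250 false] [.edge 3360 0 false])) (.leaf (.eqT 134 29904967 true [.plain 4302 4481103 true, .edge 3941 581 false] [.edge 3368 0 false]))))
(.node 2 (.node 1 (.leaf (.eqT 134 23928925 false [.plain 4302 19861571 true, .edge 3957 979 false] [.edge 2928 0 false])) (.leaf (.eqT 134 32125001 true [.plain 4302 25761883 true, .edge 3979 1389 false] [.edge 3331 0 false]))) (.node 1 (.leaf (.eqT 134 25385043 true [.plain 4302 17244253 true, .edge 3994 937 false] [.edge 1145 0 false])) (.leaf (.eqT 134 4808797 true [.plain 4302 11417665 true, .edge 4028 1390 false] [.edge 3319 0 false])))))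
(.node 4 (.node 2 (.node 1 (.leaf (.eqT 134 10971209 true [.plain 4302 21526617 true, .edge 4065 516 false] [.edge 3326 0 false])) (.leaf (.eqT 134 9056345 false [.plain 4302 25313373 true, .edge 4087 436 false] [.edge 3308 0 false]))) (.node 1 (.leaf (.eq 1123 17043521 [] [.plain 4311 27936841 false])) (.leaf (.mov 822 10971209 true [.plain 4312 17635409 true, .edge 4082 1287 false]))))
(.node 2 (.node 1 (.leaf (.mov 822 25385043 true [.plain 3302 25380945 true, .edge 4313 16 false])) (.leaf (.mov 822 11495495 true [.plain 3303 11472987 true, .edge 4314 805 false]))) (.node 1 (.leaf (.mov 822 19085399 true [.plain 3302 19081301 true, .edge 4315 649 false])) (.leaf (.eq 1114 8927305 [] [.plain 4310 17043521 false, .plain 3350 17043521 false]))))))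
(.node 8 (.node 4 (.node 2 (.node 1 (.leaf (.eq 1114 17043521 [] [.plain 4317 8935505 false])) (.leaf (.eqT 188 9056345 false [.plain 4318 27875407 true, .edge 4066 551 false] [.edge 3564 0 false]))) (.node 1 (.leaf (.eqT 188 13510735 true [.plain 4318 21788753 true, .edge 4096 237 false] [.edge 3089 0 false])) (.leaf (.eqT 188 23928925 false [.plain 4318 16998469 true, .edge 4097 107 false] [.edge 3822 0 false]))))
(.node 2 (.node 1 (.leaf (.eq 1127 17043521 [] [.plain 4321 17051727 false])) (.leaf (.eq 1064 9136203 [] [.plain 4320 17043521 false, .plain 3574 31662171 false]))) (.node 1 (.leaf (.eq 1064 17043521 [] [.plain 4323 23621715 false])) (.leaf (.eqT 352 10971209 false [.plain 4324 17524801 true, .edge 3890 1283 false] [.edge 3576 0 false])))))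
(.node 4 (.node 2 (.node 1 (.leaf (.mov 352 32125001 true [.plain 4324 19738709 true, .edge 3891 1520 false])) (.leaf (.eq 1060 17043521 [] [.plain 4325 9128005 false]))) (.node 1 (.leaf (.mov 767 9056345 false [.plain 4327 17059933 true, .edge 3882 108 false])) (.leaf (.mov 767 31801425 true [.plain 4327 5187679 true, .edge 3955 541 false]))))
(.node 2 (.node 1 (.leaf (.eqT 1079 11495495 true [.edge 4329 1511 true] [.edge 3945 0 false])) (.leaf (.mov 767 10971209 true [.plain 4327 31799385 true, .edge 3956 500 false]))) (.node 1 (.leaf (.eqT 1079 11495495 true [.edge 4331 334 true] [.edge 3945 0 false])) (.leaf (.eq 767 27740233 [] [.plain 4332 17043521 false, .plain 3952 17043521 false, .plain 4327 7284803 false]))))))))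
(.node 30 (.node 15 (.node 7 (.node 3 (.node 1 (.leaf (.eq 767 17043521 [] [.plain 4333 6977621 false])) (.node 1 (.leaf (.eqT 767 25385043 true [.plain 4334 19290203 true, .edge 3161 137 false] [.edge 3161 0 false])) (.leaf (.eq 768 17043521 [] [.plain 4335 8941659 false]))))
(.node 2 (.node 1 (.leaf (.eq 767 29640779 [] [.plain 4330 17043521 false, .plain 3952 17043521 false, .plain 4327 7284803 false])) (.leaf (.eq 767 17043521 [] [.plain 4337 6584395 false]))) (.node 1 (.leaf (.eqT 767 25385043 true [.plain 4338 27416665 true, .edge 3161 1511 false] [.edge 3161 0 false])) (.leaf (.eq 768 17043521 [] [.plain 4339 19208281 false])))))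
(.node 4 (.node 2 (.node 1 (.leaf (.mov 768 29904967 true [.plain 4340 32069707 true, .edge 3162 1114 false])) (.leaf (.mov 768 10971209 true [.plain 4336 15038543 true, .edge 4341 1226 false]))) (.node 1 (.leaf (.eq 1115 17043521 [] [.plain 4319 17117251 false])) (.leaf (.mov 763 25385043 true [.plain 4343 25643085 true, .edge 4067 969 false]))))
(.node 2 (.node 1 (.leaf (.eq 689 27478081 [.plain 4288 27478081 false] [.plain 4309 17043521 false])) (.leaf (.eq 826 17043521 [] [.plain 4345 17043521 true]))) (.node 1 (.leaf (.eqT 214 4808797 true [.plain 4346 25505863 true, .edge 3320 836 false] [.edge 4042 0 false])) (.leaf (.eq 827 11016257 [] [.plain 4347 17043521 false, .plain 4298 16937027 false]))))))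
(.node 7 (.node 3 (.node 1 (.leaf (.eq 827 17043521 [] [.plain 4348 8984641 false])) (.node 1 (.leaf (.mov 123 13510735 true [.plain 4349 25434199 true, .edge 3321 307 false])) (.leaf (.eq 1091 16922691 [.plain 4296 16922691 false] [.plain 4308 17043521 false, .plain 1050 19673169 false]))))
(.node 2 (.node 1 (.leaf (.eq 211 17043521 [] [.plain 4351 16982095 false])) (.leaf (.eqT 144 4808797 true [.plain 4352 11210825 true, .edge 1313 425 false] [.edge 3469 0 false]))) (.node 1 (.leaf (.mov 144 23928925 false [.plain 4352 19290195 true, .edge 1417 998 false])) (.leaf (.mov 144 31801425 true [.plain 4352 27949127 true, .edge 3964 1383 false])))))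
(.node 4 (.node 2 (.node 1 (.leaf (.eqT 144 13310023 true [.plain 4352 17641567 true, .edge 4225 101 false] [.edge 3408 0 false])) (.leaf (.eqT 144 10971209 false [.plain 4352 21112911 true, .edge 4244 1430 false] [.edge 3422 0 false]))) (.node 1 (.leaf (.eqT 144 13310023 false [.plain 4352 17641567 true, .edge 4245 73 false] [.edge 3372 0 false])) (.leaf (.eq 1180 17524811 [.plain 4261 17524811 false, .plain 4288 19140701 false] [.plain 4358 17043521 false]))))
(.node 2 (.node 1 (.leaf (.eq 843 17043521 [] [.plain 4359 17043521 true])) (.leaf (.eq 1179 17043521 [] [.plain 4357 17111127 false]))) (.node 1 (.leaf (.eq 1170 17657947 [.plain 4231 17657947 false, .plain 4352 17109071 false] [.plain 4356 17043521 false])) (.leaf (.eq 855 17043521 [] [.plain 4362 25505871 true])))))))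
(.node 15 (.node 7 (.node 3 (.node 1 (.leaf (.eq 212 19730521 [.plain 1320 19730521 false] [.plain 4353 17043521 false])) (.node 1 (.leaf (.eq 877 17043521 [] [.plain 4364 13520963 true])) (.leaf (.eqT 200 13510735 true [.plain 4365 19738715 true, .edge 3464 39 false] [.edge 1343 0 false]))))
(.node 2 (.node 1 (.leaf (.eq 876 17043521 [] [.plain 4366 17719385 false])) (.leaf (.eqT 214 17043521 true [.plain 4367 9179203 true, .edge 3462 1032 false] [.edge 1326 0 false]))) (.node 1 (.leaf (.eq 875 17043521 [] [.plain 4368 11278427 false])) (.leaf (.eqT 206 19085399 false [.plain 4369 17111109 true, .edge 3460 193 false] [.edge 1276 0 false])))))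
(.node 4 (.node 2 (.node 1 (.leaf (.eq 854 17043521 [] [.plain 4370 10635341 false])) (.leaf (.eq 1092 11341905 [.plain 3985 11341905 false, .plain 4302 11366465 false] [.plain 4307 17043521 false]))) (.node 1 (.leaf (.eq 831 17043521 [] [.plain 4372 17043521 true])) (.leaf (.eqT 134 10971209 false [.plain 4373 4927577 true, .edge 3376 584 false] [.edge 3363 0 false]))))
(.node 2 (.node 1 (.leaf (.eq 844 17043521 [] [.plain 4374 17592409 false])) (.leaf (.mov 837 13310023 true [.plain 4375 27545677 true, .edge 3377 1497 false]))) (.node 1 (.leaf (.eq 1085 17457241 [.plain 3963 17457241 false, .plain 4302 19683417 false] [.plain 4306 17043521 false])) (.leaf (.eq 694 17043521 [] [.plain 4377 17043521 true]))))))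
(.node 8 (.node 4 (.node 2 (.node 1 (.leaf (.eq 1075 17043521 [] [.plain 4305 21438543 false])) (.leaf (.mov 840 11495495 true [.plain 4379 25770075 true, .edge 3929 864 false]))) (.node 1 (.leaf (.mov 840 4808797 false [.plain 4379 28260429 true, .edge 4050 1401 false])) (.leaf (.eqT 840 17043521 false [.plain 4379 7041099 true, .edge 4052 1182 false] [.edge 3370 0 false]))))
(.node 2 (.node 1 (.leaf (.mov 840 19085399 false [.plain 4379 13592659 true, .edge 4077 1178 false])) (.leaf (.mov 840 29904967 false [.plain 4379 23421013 true, .edge 4078 146 false]))) (.node 1 (.leaf (.mov 840 13510735 true [.plain 4379 8546385 true, .edge 4108 1304 false])) (.leaf (.eq 1111 17043521 [] [.plain 4382 17719375 false])))))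
(.node 4 (.node 2 (.node 1 (.leaf (.eq 1059 17043521 [] [.plain 4304 17528919 false])) (.leaf (.mov 837 27529303 false [.plain 4387 19142739 true, .edge 3903 916 false]))) (.node 1 (.leaf (.mov 837 32131155 true [.plain 4387 11157569 true, .edge 4049 902 false])) (.leaf (.mov 837 32125001 true [.plain 4387 11155525 true, .edge 4061 156 false]))))
(.node 2 (.node 1 (.leaf (.mov 837 17059919 true [.plain 4387 25450587 true, .edge 4075 1199 false])) (.leaf .dfn)) (.node 1 (.leaf (.mov 207 29904967 true [.plain 1282 29888587 true, .edge 4392 1368 false])) (.leaf (.mov 207 31801425 true [.plain 1283 31797317 true, .edge 4393 1413 false]))))))))))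

/-- The reasons. -/
def caseCFullSrcRLLL : Tab Src := .node 244 caseCFullSrcRLLLL caseCFullSrcRLLLR

/-- The reasons. -/
def caseCFullSrcRLLRL : Tab Src :=
(.node 122 (.node 61 (.node 30 (.node 15 (.node 7 (.node 3 (.node 1 (.leaf (.mov 207 4808797 true [.plain 1282 4794443 true, .edge 4394 1444 false])) (.node 1 (.leaf (.eqT 207 4808797 true [.plain 1281 4810829 true, .edge 4395 1071 false] [.edge 4395 0 false])) (.leaf (.eqT 207 31801425 true [.plain 1284 31797331 true, .edge 4392 1047 false] [.edge 4394 0 false]))))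
(.node 2 (.node 1 (.leaf (.eq 1189 17043521 [] [.plain 4397 17045577 false])) (.leaf (.eq 1189 17043521 [] [.plain 4396 27816019 false]))) (.node 1 (.leaf .dfn) (.leaf (.mov 1189 19085399 false [.plain 4398 6895701 true, .edge 4400 969 false])))))
(.node 4 (.node 2 (.node 1 (.leaf (.mov 1189 17043521 false [.plain 4399 19206235 true, .edge 4401 651 false])) (.leaf (.mov 1189 29904967 false [.plain 4398 17715269 true, .edge 4402 164 false]))) (.node 1 (.leaf .dfn) (.leaf .dfn)))
(.node 2 (.node 1 (.leaf .dfn) (.leaf (.mov 1193 17043521 true [.edge 4406 0 true]))) (.node 1 (.leaf (.rel 207 29626433 7 [.edge 4392 458 false, .edge 4400 507 false, .edge 4404 861 false, .mul, .edge 4405 1003 false, .mul, .edge 4406 457 false, .mul])) (.leaf (.eq 1193 17043521 [] [.plain 4408 27410521 true]))))))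
(.node 7 (.node 3 (.node 1 (.leaf (.eqT 207 32131155 true [.plain 4409 19157065 true, .edge 4407 1276 false] [.edge 4222 0 false])) (.node 1 (.leaf (.eq 1192 17043521 [] [.plain 4410 23607389 false])) (.leaf .dfn)))
(.node 2 (.node 1 (.leaf (.mov 214 19085399 true [.plain 1332 16986193 true, .edge 4412 1026 false])) (.leaf (.mov 214 13510735 true [.plain 1333 19812429 true, .edge 4413 528 false]))) (.node 1 (.leaf (.mov 214 32131155 true [.plain 1332 30031943 true, .edge 4414 765 false])) (.leaf .dfn))))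
(.node 4 (.node 2 (.node 1 (.leaf .dfn) (.leaf .dfn)) (.node 1 (.leaf .dfn) (.leaf (.mov 1202 17043521 false [.edge 4419 0 true]))))
(.node 2 (.node 1 (.leaf .dfn) (.leaf (.mov 1203 17043521 true [.edge 4421 0 true]))) (.node 1 (.leaf .dfn) (.leaf (.mov 1204 17043521 false [.edge 4423 0 true])))))))
(.node 15 (.node 7 (.node 3 (.node 1 (.leaf (.rel 214 11366479 3 [.edge 4418 697 false, .edge 4419 460 false, .mul, .edge 4421 621 false, .mul, .edge 4423 812 false, .mul])) (.node 1 (.leaf (.eq 1204 17043521 [] [.plain 4425 17070145 true])) (.leaf (.eqT 214 13510735 false [.plain 4426 17244247 true, .edge 4424 895 false] [.edge 4141 0 false]))))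
(.node 2 (.node 1 (.leaf (.eq 1203 17043521 [] [.plain 4427 25434199 false])) (.leaf (.mov 1143 19085399 true [.plain 4428 27553857 true, .edge 4422 157 false]))) (.node 1 (.leaf .dfn) (.leaf (.mov 134 4808797 false [.plain 909 4999263 true, .edge 4430 865 false])))))
(.node 4 (.node 2 (.node 1 (.leaf (.mov 134 31801425 false [.plain 910 32055371 true, .edge 4431 56 false])) (.leaf (.mov 134 29904967 false [.plain 909 30031941 true, .edge 4432 882 false]))) (.node 1 (.leaf .dfn) (.leaf (.mov 1206 17043521 true [.edge 4434 0 true]))))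
(.node 2 (.node 1 (.leaf .dfn) (.leaf (.mov 1207 17043521 false [.edge 4436 0 true]))) (.node 1 (.leaf (.rel 214 4989017 3 [.edge 4290 208 false, .plain 4027 17594459 false, .plain 4302 10713179 false, .edge 4430 138 false, .mul, .edge 4434 479 false, .mul, .edge 4436 373 false, .mul])) (.leaf (.eq 1207 17043521 [] [.plain 4438 17174607 true]))))))
(.node 8 (.node 4 (.node 2 (.node 1 (.leaf (.eqT 214 13310023 false [.plain 4439 17117269 true, .edge 4437 1349 false] [.edge 4291 0 false])) (.leaf (.eq 1206 17043521 [] [.plain 4440 17506377 false]))) (.node 1 (.leaf (.mov 1118 25385043 true [.plain 4441 25784403 true, .edge 4435 540 false])) (.leaf .dfn)))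
(.node 2 (.node 1 (.leaf .dfn) (.leaf (.mov 1209 17043521 false [.edge 4444 0 true]))) (.node 1 (.leaf .dfn) (.leaf (.mov 1210 17043521 false [.edge 4446 0 true])))))
(.node 4 (.node 2 (.node 1 (.leaf .dfn) (.leaf (.mov 1211 17043521 true [.edge 4448 0 true]))) (.node 1 (.leaf .dfn) (.leaf (.mov 1212 17043521 false [.edge 4450 0 true]))))
(.node 2 (.node 1 (.leaf (.rel 214 9332807 6 [.edge 4206 848 false, .edge 4443 359 false, .mul, .edge 4446 349 false, .mul, .edge 4448 1491 false, .edge 4450 542 false, .mul])) (.leaf (.eq 1212 17043521 [] [.plain 4452 19730517 true]))) (.node 1 (.leaf (.mov 214 10971209 false [.plain 4453 17586267 true, .edge 4451 795 false])) (.leaf .dfn)))))))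
(.node 30 (.node 15 (.node 7 (.node 3 (.node 1 (.leaf (.mov 1213 17043521 false [.edge 4455 0 true])) (.node 1 (.leaf .dfn) (.leaf (.mov 1214 17043521 false [.edge 4457 0 true]))))
(.node 2 (.node 1 (.leaf .dfn) (.leaf (.mov 1215 17043521 true [.edge 4459 0 true]))) (.node 1 (.leaf .dfn) (.leaf (.mov 1216 17043521 false [.edge 4461 0 true])))))
(.node 4 (.node 2 (.node 1 (.leaf (.rel 214 21901391 6 [.edge 4207 978 false, .edge 4455 336 false, .mul, .edge 4457 1191 false, .mul, .edge 4459 1064 false, .edge 4461 569 false, .mul])) (.leaf (.eq 1216 17043521 [] [.plain 4463 19626049 true]))) (.node 1 (.leaf (.eqT 214 23928925 false [.plain 4464 17070167 true, .edge 4462 1106 false] [.edge 4292 0 false])) (.leaf (.eq 1215 17043521 [] [.plain 4465 19216455 false]))))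
(.node 2 (.node 1 (.leaf (.mov 1118 10971209 true [.plain 4466 9261139 true, .edge 4460 538 false])) (.leaf .dfn)) (.node 1 (.leaf (.mov 1217 17043521 true [.edge 4468 0 true])) (.leaf (.mov 1100 11495495 true [.plain 4010 11472987 true, .edge 4468 805 false]))))))
(.node 7 (.node 3 (.node 1 (.leaf .dfn) (.node 1 (.leaf (.mov 1218 17043521 true [.edge 4471 0 true])) (.leaf .dfn)))
(.node 2 (.node 1 (.leaf (.mov 1219 17043521 true [.edge 4473 0 true])) (.leaf (.rel 214 6641749 7 [.edge 1334 377 false, .plain 1341 25505875 false, .edge 4019 319 false, .edge 4468 1260 false, .mul, .edge 4471 957 false, .mul, .edge 4473 765 false, .mul]))) (.node 1 (.leaf (.eq 1219 17043521 [] [.plain 4475 25305177 true])) (.leaf (.eqT 214 10971209 true [.plain 4476 25440321 true, .edge 4474 184 false] [.edge 4205 0 false])))))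
(.node 4 (.node 2 (.node 1 (.leaf (.eq 1218 17043521 [] [.plain 4477 17524817 false])) (.leaf (.mov 1161 11495495 true [.plain 4478 25786443 true, .edge 4472 1192 false]))) (.node 1 (.leaf .dfn) (.leaf (.mov 1220 17043521 true [.edge 4480 0 true]))))
(.node 2 (.node 1 (.leaf .dfn) (.leaf (.mov 1221 17043521 true [.edge 4482 0 true]))) (.node 1 (.leaf .dfn) (.leaf (.mov 1222 17043521 true [.edge 4484 0 true])))))))
(.node 15 (.node 7 (.node 3 (.node 1 (.leaf (.rel 214 12730445 7 [.edge 4414 1431 false, .edge 4444 652 false, .edge 4480 1059 false, .mul, .edge 4482 256 false, .mul, .edge 4484 325 false, .mul])) (.node 1 (.leaf (.eq 1222 17043521 [] [.plain 4486 27674713 true])) (.leaf (.eqT 214 4808797 true [.plain 4487 17133635 true, .edge 4485 192 false] [.edge 4042 0 false]))))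
(.node 2 (.node 1 (.leaf (.eq 1221 12744787 [] [.plain 4488 17043521 false, .plain 4298 16937027 false])) (.leaf (.eq 1221 17043521 [] [.plain 4489 23863381 false]))) (.node 1 (.leaf (.eqT 123 29904967 true [.plain 4490 19208265 true, .edge 4483 1225 false] [.edge 2900 0 false])) (.leaf (.eq 1220 17043521 [] [.plain 4491 21831745 false])))))
(.node 4 (.node 2 (.node 1 (.leaf (.eqT 683 29904967 true [.plain 4492 27611211 true, .edge 4481 1232 false] [.edge 2979 0 false])) (.leaf (.eq 1209 17043521 [] [.plain 4493 17444951 false]))) (.node 1 (.leaf (.eqT 710 17043521 false [.plain 4494 17053791 true, .edge 4445 272 false] [.edge 3151 0 false])) (.leaf (.eq 1196 17043521 [] [.plain 4495 17459287 false]))))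
(.node 2 (.node 1 (.leaf .dfn) (.leaf (.mov 217 7292999 false [.plain 1359 7297119 true, .edge 4497 109 false]))) (.node 1 (.leaf (.mov 217 13310023 false [.plain 1360 13387867 true, .edge 4498 932 false])) (.leaf (.mov 217 6776923 false [.plain 1359 6781011 true, .edge 4499 979 false]))))))
(.node 8 (.node 4 (.node 2 (.node 1 (.leaf .dfn) (.leaf (.mov 1224 17043521 false [.edge 4501 0 true]))) (.node 1 (.leaf .dfn) (.leaf (.mov 1225 17043521 false [.edge 4503 0 true]))))
(.node 2 (.node 1 (.leaf (.rel 217 21368911 0 [.edge 4497 1498 false, .mul, .edge 4501 656 false, .mul, .edge 4503 1368 false, .mul, .mul])) (.leaf (.eq 1225 17043521 [] [.plain 4505 19101769 true]))) (.node 1 (.leaf (.mov 217 32125001 false [.plain 4506 16935003 true, .edge 4504 810 false])) (.leaf (.mov 217 31801425 false [.plain 1359 31797317 true, .edge 4507 1513 false])))))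
(.node 4 (.node 2 (.node 1 (.leaf (.mov 217 23928925 false [.plain 1360 23543897 true, .edge 4508 648 false])) (.leaf (.mov 217 9056345 false [.plain 1359 9050181 true, .edge 4509 366 false]))) (.node 1 (.leaf .dfn) (.leaf .dfn)))
(.node 2 (.node 1 (.leaf (.mov 1227 17043521 true [.edge 4512 0 true])) (.leaf (.rel 217 17109059 1 [.edge 1439 496 false, .plain 1493 19294285 false, .mul, .edge 4511 164 false, .mul, .edge 4512 614 false, .mul, .mul]))) (.node 1 (.leaf (.eq 1227 17043521 [] [.plain 4514 17586245 true])) (.leaf (.eqT 217 17059919 true [.plain 4515 17635403 true, .edge 4513 388 false] [.edge 1438 0 false])))))))))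
(.node 61 (.node 30 (.node 15 (.node 7 (.node 3 (.node 1 (.leaf (.eq 1226 17657927 [] [.plain 4516 17043521 false, .plain 1493 19081311 false])) (.node 1 (.leaf (.eq 1226 17043521 [] [.plain 4517 17643597 false])) (.leaf .dfn)))
(.node 2 (.node 1 (.leaf (.mov 217 4544593 true [.plain 1359 4538463 true, .edge 4519 80 false])) (.leaf (.mov 217 32131155 true [.plain 1360 31723595 true, .edge 4520 130 false]))) (.node 1 (.leaf (.mov 217 32125001 true [.plain 1359 32129091 true, .edge 4521 1018 false])) (.leaf .dfn))))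
(.node 4 (.node 2 (.node 1 (.leaf .dfn) (.leaf (.mov 1230 17043521 true [.edge 4524 0 true]))) (.node 1 (.leaf (.rel 217 13131871 1 [.edge 4519 572 false, .mul, .edge 4523 863 false, .mul, .edge 4524 785 false, .mul, .mul])) (.leaf (.eq 1230 17043521 [] [.plain 4526 19691591 true]))))
(.node 2 (.node 1 (.leaf (.mov 217 31801425 true [.plain 4527 9007193 true, .edge 4525 1353 false])) (.leaf (.mov 217 29904967 true [.plain 1359 29894731 true, .edge 4528 1413 false]))) (.node 1 (.leaf (.mov 217 13510735 true [.plain 1360 13193301 true, .edge 4529 1090 false])) (.leaf (.mov 217 13310023 true [.plain 1359 13312093 true, .edge 4530 279 false]))))))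
(.node 7 (.node 3 (.node 1 (.leaf .dfn) (.node 1 (.leaf .dfn) (.leaf (.mov 1233 17043521 true [.edge 4533 0 true]))))
(.node 2 (.node 1 (.leaf .dfn) (.leaf (.mov 1234 17043521 false [.edge 4535 0 true]))) (.node 1 (.leaf (.rel 217 25890887 3 [.edge 1402 756 false, .plain 3501 11233353 false, .edge 2930 1454 false, .mul, .edge 4533 55 false, .mul, .edge 4535 252 false, .mul])) (.leaf (.eq 1234 17043521 [] [.plain 4537 17528917 true])))))
(.node 4 (.node 2 (.node 1 (.leaf (.eqT 217 23928925 false [.plain 4538 17256531 true, .edge 4536 929 false] [.edge 4509 0 false])) (.leaf (.eq 1233 17043521 [] [.plain 4539 19030107 false]))) (.node 1 (.leaf (.mov 1224 19085399 true [.plain 4540 19673179 true, .edge 4534 1269 false])) (.leaf .dfn)))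
(.node 2 (.node 1 (.leaf .dfn) (.leaf (.mov 1236 17043521 true [.edge 4543 0 true]))) (.node 1 (.leaf .dfn) (.leaf (.mov 1237 17043521 false [.edge 4545 0 true])))))))
(.node 15 (.node 7 (.node 3 (.node 1 (.leaf (.rel 217 31606855 3 [.edge 4530 661 false, .edge 4542 980 false, .mul, .edge 4543 1134 false, .mul, .edge 4545 568 false, .mul])) (.node 1 (.leaf (.eq 1237 17043521 [] [.plain 4547 17119313 true])) (.leaf (.eqT 217 7292999 false [.plain 4548 17059915 true, .edge 4546 970 false] [.edge 4498 0 false]))))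
(.node 2 (.node 1 (.leaf (.eq 1236 17043521 [] [.plain 4549 26103875 false])) (.leaf (.mov 1223 10971209 true [.plain 4550 25770073 true, .edge 4544 155 false]))) (.node 1 (.leaf .dfn) (.leaf .dfn))))
(.node 4 (.node 2 (.node 1 (.leaf .dfn) (.leaf (.eqT 229 13510735 false [.plain 1428 13520991 true, .edge 4554 1505 false] [.edge 4554 0 false]))) (.node 1 (.leaf (.eq 1240 17043521 [] [.plain 4555 17053777 false])) (.leaf .dfn)))
(.node 2 (.node 1 (.leaf .dfn) (.leaf .dfn)) (.node 1 (.leaf .dfn) (.leaf (.mov 1244 17043521 false [.edge 4560 0 true]))))))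
(.node 8 (.node 4 (.node 2 (.node 1 (.leaf (.rel 217 13242443 6 [.edge 4522 412 false, .edge 4557 235 false, .mul, .edge 4558 1046 false, .mul, .edge 4559 1328 false, .edge 4560 1028 false, .mul])) (.leaf (.eq 1244 17043521 [] [.plain 4562 19277911 true]))) (.node 1 (.leaf (.eqT 217 23928925 false [.plain 4563 17125447 true, .edge 4561 897 false] [.edge 4509 0 false])) (.leaf (.eq 1243 17043521 [] [.plain 4564 27621443 false]))))
(.node 2 (.node 1 (.leaf .dfn) (.leaf .dfn)) (.node 1 (.leaf .dfn) (.leaf (.mov 1247 17043521 true [.edge 4568 0 true])))))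
(.node 4 (.node 2 (.node 1 (.leaf .dfn) (.leaf (.mov 1248 17043521 false [.edge 4570 0 true]))) (.node 1 (.leaf (.rel 217 5189713 6 [.edge 4522 1411 false, .edge 4566 206 false, .mul, .edge 4567 80 false, .mul, .edge 4568 1305 false, .edge 4570 962 false, .mul])) (.leaf (.eq 1248 17043521 [] [.plain 4572 19540037 true]))))
(.node 2 (.node 1 (.leaf (.eqT 217 13310023 false [.plain 4573 17262671 true, .edge 4571 1236 false] [.edge 4499 0 false])) (.leaf (.eq 1247 17043521 [] [.plain 4574 19017807 false]))) (.node 1 (.leaf (.mov 1223 17059919 true [.plain 4575 19675209 true, .edge 4569 448 false])) (.leaf .dfn)))))))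
(.node 30 (.node 15 (.node 7 (.node 3 (.node 1 (.leaf .dfn) (.node 1 (.leaf .dfn) (.leaf .dfn)))
(.node 2 (.node 1 (.leaf (.mov 1256 17043521 true [.edge 4580 0 true])) (.leaf (.rel 217 31989839 7 [.edge 4519 777 false, .edge 4577 171 false, .edge 4578 304 false, .mul, .edge 4579 858 false, .mul, .edge 4580 1491 false, .mul]))) (.node 1 (.leaf (.eq 1256 17043521 [] [.plain 4582 9398355 true])) (.leaf (.eqT 217 29904967 true [.plain 4583 8927297 true, .edge 4581 675 false] [.edge 4529 0 false])))))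
(.node 4 (.node 2 (.node 1 (.leaf (.eq 1255 17043521 [] [.plain 4584 25890909 false])) (.leaf .dfn)) (.node 1 (.leaf (.eqT 1240 19085399 false [.plain 4556 19081285 true, .edge 4586 1277 false] [.edge 4586 0 false])) (.leaf (.eq 1257 17043521 [] [.plain 4587 17240129 false]))))
(.node 2 (.node 1 (.leaf .dfn) (.leaf (.mov 1258 17043521 false [.edge 4589 0 true]))) (.node 1 (.leaf (.rel 229 11358277 0 [.edge 4554 1475 false, .mul, .edge 4586 143 false, .mul, .edge 4589 1042 false, .mul, .mul])) (.leaf (.eq 1258 17043521 [] [.plain 4591 19691611 true]))))))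
(.node 7 (.node 3 (.node 1 (.leaf (.mov 229 27529303 false [.plain 4592 17051739 true, .edge 4590 1145 false])) (.node 1 (.leaf .dfn) (.leaf .dfn)))
(.node 2 (.node 1 (.leaf .dfn) (.leaf (.mov 1261 17043521 false [.edge 4596 0 true]))) (.node 1 (.leaf (.rel 229 31991879 0 [.edge 4594 858 false, .mul, .edge 4595 280 false, .mul, .edge 4596 765 false, .mul, .mul])) (.leaf (.eq 1261 17043521 [] [.plain 4598 19034197 true])))))
(.node 4 (.node 2 (.node 1 (.leaf (.mov 229 4808797 false [.plain 4599 16935003 true, .edge 4597 810 false])) (.leaf .dfn)) (.node 1 (.leaf (.mov 229 4544593 true [.plain 1428 4552799 true, .edge 4601 1253 false])) (.leaf .dfn)))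
(.node 2 (.node 1 (.leaf (.mov 229 13310023 true [.plain 1428 13322333 true, .edge 4603 41 false])) (.leaf .dfn)) (.node 1 (.leaf .dfn) (.leaf .dfn))))))
(.node 15 (.node 7 (.node 3 (.node 1 (.leaf (.mov 1268 17043521 false [.edge 4607 0 true])) (.node 1 (.leaf (.rel 229 15419471 3 [.edge 4603 249 false, .edge 4605 745 false, .mul, .edge 4606 104 false, .mul, .edge 4607 625 false, .mul])) (.leaf (.eq 1268 17043521 [] [.plain 4609 16922707 true]))))
(.node 2 (.node 1 (.leaf (.mov 229 7292999 false [.plain 4610 16982099 true, .edge 4608 990 false])) (.leaf (.mov 229 13310023 false [.plain 1428 13322333 true, .edge 4611 957 false]))) (.node 1 (.leaf .dfn) (.leaf (.mov 229 32131155 true [.plain 1428 32116825 true, .edge 4613 18 false])))))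
(.node 4 (.node 2 (.node 1 (.leaf .dfn) (.leaf (.mov 1270 17043521 false [.edge 4615 0 true]))) (.node 1 (.leaf .dfn) (.leaf (.mov 1271 17043521 true [.edge 4617 0 true]))))
(.node 2 (.node 1 (.leaf .dfn) (.leaf (.mov 1272 17043521 false [.edge 4619 0 true]))) (.node 1 (.leaf (.rel 229 15603787 3 [.edge 4613 948 false, .edge 4615 1239 false, .mul, .edge 4617 1299 false, .mul, .edge 4619 412 false, .mul])) (.leaf (.eq 1272 17043521 [] [.plain 4621 17508437 true]))))))
(.node 8 (.node 4 (.node 2 (.node 1 (.leaf (.eqT 229 27529303 false [.plain 4622 16920663 true, .edge 4620 771 false] [.edge 4593 0 false])) (.leaf (.eq 1271 17043521 [] [.plain 4623 19732575 false]))) (.node 1 (.leaf (.mov 1257 17043521 true [.plain 4624 17051737 true, .edge 4618 1514 false])) (.leaf (.mov 1257 25385043 true [.plain 4588 25778259 true, .edge 4625 642 false]))))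
(.node 2 (.node 1 (.leaf .dfn) (.leaf (.mov 229 10971209 true [.plain 1428 10967117 true, .edge 4627 1293 false]))) (.node 1 (.leaf .dfn) (.leaf (.mov 229 31801425 true [.plain 1428 31809605 true, .edge 4629 1456 false])))))
(.node 4 (.node 2 (.node 1 (.leaf .dfn) (.leaf .dfn)) (.node 1 (.leaf (.mov 1279 17043521 false [.edge 4632 0 true])) (.leaf .dfn)))
(.node 2 (.node 1 (.leaf (.mov 1280 17043521 true [.edge 4634 0 true])) (.leaf .dfn)) (.node 1 (.leaf (.mov 1281 17043521 false [.edge 4636 0 true])) (.leaf (.rel 229 6971463 6 [.edge 4603 566 false, .edge 4631 810 false, .mul, .edge 4632 439 false, .mul, .edge 4634 1309 false, .edge 4636 502 false, .mul]))))))))))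

/-- The reasons. -/
def caseCFullSrcRLLRR : Tab Src :=
(.node 122 (.node 61 (.node 30 (.node 15 (.node 7 (.node 3 (.node 1 (.leaf (.eq 1281 17043521 [] [.plain 4638 19626071 true])) (.node 1 (.leaf (.eqT 229 13510735 false [.plain 4639 17508443 true, .edge 4637 455 false] [.edge 4554 0 false])) (.leaf (.eq 1280 17043521 [] [.plain 4640 19798081 false]))))
(.node 2 (.node 1 (.leaf (.mov 1240 25385043 true [.plain 4641 27545683 true, .edge 4635 376 false])) (.leaf (.mov 1240 10971209 true [.plain 4556 10967107 true, .edge 4642 592 false]))) (.node 1 (.leaf .dfn) (.leaf .dfn))))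
(.node 4 (.node 2 (.node 1 (.leaf .dfn) (.leaf .dfn)) (.node 1 (.leaf (.mov 1285 17043521 false [.edge 4647 0 true])) (.leaf (.rel 229 31987789 6 [.edge 4601 124 false, .edge 4644 1110 false, .mul, .edge 4645 447 false, .mul, .edge 4646 1378 false, .edge 4647 888 false, .mul]))))
(.node 2 (.node 1 (.leaf (.eq 1285 17043521 [] [.plain 4649 19292237 true])) (.leaf (.eqT 229 4808797 false [.plain 4650 17109063 true, .edge 4648 489 false] [.edge 4600 0 false]))) (.node 1 (.leaf (.eq 1284 17043521 [] [.plain 4651 17061975 false])) (.leaf .dfn)))))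
(.node 7 (.node 3 (.node 1 (.leaf .dfn) (.node 1 (.leaf .dfn) (.leaf (.mov 1288 17043521 true [.edge 4655 0 true]))))
(.node 2 (.node 1 (.leaf .dfn) (.leaf (.mov 1289 17043521 true [.edge 4657 0 true]))) (.node 1 (.leaf (.rel 229 25374813 7 [.edge 4627 9 false, .edge 4653 583 false, .edge 4654 233 false, .mul, .edge 4655 441 false, .mul, .edge 4657 687 false, .mul])) (.leaf (.eq 1289 17043521 [] [.plain 4659 27469913 true])))))
(.node 4 (.node 2 (.node 1 (.leaf (.eqT 229 29904967 true [.plain 4660 8917073 true, .edge 4658 826 false] [.edge 4601 0 false])) (.leaf (.eq 1288 17043521 [] [.plain 4661 32327775 false]))) (.node 1 (.leaf (.mov 1262 4808797 true [.plain 4662 27613273 true, .edge 4656 433 false])) (.leaf .dfn)))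
(.node 2 (.node 1 (.leaf (.mov 1290 17043521 false [.edge 4664 0 true])) (.leaf (.mov 217 27529303 false [.plain 1360 27801665 true, .edge 4664 400 false]))) (.node 1 (.leaf .dfn) (.leaf (.mov 1291 17043521 true [.edge 4667 0 true])))))))
(.node 15 (.node 7 (.node 3 (.node 1 (.leaf .dfn) (.node 1 (.leaf (.mov 1292 17043521 true [.edge 4669 0 true])) (.leaf .dfn)))
(.node 2 (.node 1 (.leaf (.mov 1293 17043521 true [.edge 4671 0 true])) (.leaf (.rel 229 11016287 7 [.edge 1494 1328 false, .plain 1437 19165273 false, .edge 4664 438 false, .edge 4667 358 false, .mul, .edge 4669 1115 false, .mul, .edge 4671 740 false, .mul]))) (.node 1 (.leaf (.eq 1293 17043521 [] [.plain 4673 28254299 true])) (.leaf (.eqT 229 4808797 true [.plain 4674 11358275 true, .edge 4672 1138 false] [.edge 4629 0 false])))))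
(.node 4 (.node 2 (.node 1 (.leaf (.eq 1292 17043521 [] [.plain 4675 8802379 false])) (.leaf (.mov 1275 25385043 true [.plain 4676 9205833 true, .edge 4670 1273 false]))) (.node 1 (.leaf .dfn) (.leaf .dfn)))
(.node 2 (.node 1 (.leaf .dfn) (.leaf (.mov 1296 17043521 false [.edge 4680 0 true]))) (.node 1 (.leaf (.rel 256 29503553 0 [.edge 4678 322 false, .mul, .edge 4679 884 false, .mul, .edge 4680 36 false, .mul, .mul])) (.leaf (.eq 1296 17043521 [] [.plain 4682 19095635 true]))))))
(.node 8 (.node 4 (.node 2 (.node 1 (.leaf (.mov 256 32125001 false [.plain 4683 16935003 true, .edge 4681 810 false])) (.leaf .dfn)) (.node 1 (.leaf .dfn) (.leaf (.mov 1301 17043521 true [.edge 4686 0 true]))))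
(.node 2 (.node 1 (.leaf (.rel 256 27799627 1 [.edge 1644 597 false, .mul, .edge 4685 721 false, .mul, .edge 4686 242 false, .mul, .mul])) (.leaf (.eq 1301 17043521 [] [.plain 4688 27619397 true]))) (.node 1 (.leaf (.eqT 256 17059919 true [.plain 4689 19664979 true, .edge 4687 1335 false] [.edge 1641 0 false])) (.leaf (.eq 1300 17043521 [] [.plain 4690 19691591 false])))))
(.node 4 (.node 2 (.node 1 (.leaf .dfn) (.leaf (.mov 256 31801425 true [.plain 1580 32194655 true, .edge 4692 1120 false]))) (.node 1 (.leaf .dfn) (.leaf (.mov 256 32131155 true [.plain 1580 31737951 true, .edge 4694 429 false]))))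
(.node 2 (.node 1 (.leaf (.eqT 256 32131155 true [.plain 1579 31672385 true, .edge 4695 1128 false] [.edge 4695 0 false])) (.leaf (.eq 1308 17043521 [] [.plain 4696 8999003 false]))) (.node 1 (.leaf .dfn) (.leaf (.mov 1308 27529303 false [.plain 4697 17051743 true, .edge 4698 775 false]))))))))
(.node 30 (.node 15 (.node 7 (.node 3 (.node 1 (.leaf .dfn) (.node 1 (.leaf (.mov 1310 17043521 true [.edge 4700 0 true])) (.leaf .dfn)))
(.node 2 (.node 1 (.leaf (.mov 1311 17043521 false [.edge 4702 0 true])) (.leaf (.rel 256 15280221 3 [.edge 4694 1264 false, .edge 4698 1061 false, .mul, .edge 4700 840 false, .mul, .edge 4702 1095 false, .mul]))) (.node 1 (.leaf (.eq 1311 17043521 [] [.plain 4704 17459275 true])) (.leaf (.mov 256 4808797 false [.plain 4705 17246279 true, .edge 4703 1400 false])))))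
(.node 4 (.node 2 (.node 1 (.leaf (.mov 256 23928925 false [.plain 1579 23666773 true, .edge 4706 495 false])) (.leaf .dfn)) (.node 1 (.leaf (.mov 1321 17043521 false [.edge 4708 0 true])) (.leaf (.eqT 267 19085399 false [.plain 1622 19085389 true, .edge 4708 1251 false] [.edge 4708 0 false]))))
(.node 2 (.node 1 (.leaf (.eqT 267 19085399 false [.plain 1623 19880005 true, .edge 4708 1459 false] [.edge 4708 0 false])) (.leaf (.eq 1321 17043521 [] [.plain 4711 16984143 false]))) (.node 1 (.leaf (.eq 1321 17043521 [] [.plain 4710 17651807 false])) (.leaf .dfn)))))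
(.node 7 (.node 3 (.node 1 (.leaf (.mov 1322 17043521 true [.edge 4714 0 true])) (.node 1 (.leaf .dfn) (.leaf (.mov 1323 17043521 true [.edge 4716 0 true]))))
(.node 2 (.node 1 (.leaf .dfn) (.leaf (.mov 1324 17043521 true [.edge 4718 0 true]))) (.node 1 (.leaf (.rel 256 19015751 7 [.edge 1632 635 false, .edge 4708 1207 false, .edge 4714 244 false, .mul, .edge 4716 961 false, .mul, .edge 4718 570 false, .mul])) (.leaf (.eq 1324 17043521 [] [.plain 4720 27926617 true])))))
(.node 4 (.node 2 (.node 1 (.leaf (.eqT 256 17043521 true [.plain 4721 25458779 true, .edge 4719 834 false] [.edge 1644 0 false])) (.leaf (.eq 1323 17043521 [] [.plain 4722 25829443 false]))) (.node 1 (.leaf (.eqT 266 10971209 true [.plain 4723 27799617 true, .edge 4717 812 false] [.edge 1695 0 false])) (.leaf (.eq 1322 17043521 [] [.plain 4724 15419477 false]))))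
(.node 2 (.node 1 (.leaf (.mov 280 13510735 true [.plain 4725 9197649 true, .edge 4715 1150 false])) (.leaf .dfn)) (.node 1 (.leaf .dfn) (.leaf .dfn))))))
(.node 15 (.node 7 (.node 3 (.node 1 (.leaf (.mov 1350 17043521 true [.edge 4729 0 true])) (.node 1 (.leaf .dfn) (.leaf (.mov 1351 17043521 false [.edge 4731 0 true]))))
(.node 2 (.node 1 (.leaf (.rel 259 29907013 6 [.edge 1694 939 false, .edge 4727 641 false, .mul, .edge 4728 322 false, .mul, .edge 4729 56 false, .edge 4731 826 false, .mul])) (.leaf (.eq 1351 17043521 [] [.plain 4733 19273801 true]))) (.node 1 (.leaf (.eqT 259 4808797 false [.plain 4734 17442881 true, .edge 4732 615 false] [.edge 1620 0 false])) (.leaf (.eq 1350 17043521 [] [.plain 4735 27867205 false])))))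
(.node 4 (.node 2 (.node 1 (.leaf (.mov 267 11495495 true [.plain 4736 25710683 true, .edge 4730 616 false])) (.leaf (.mov 267 10971209 true [.plain 1622 10971223 true, .edge 4737 1190 false]))) (.node 1 (.leaf .dfn) (.leaf (.mov 1358 17043521 false [.edge 4739 0 true]))))
(.node 2 (.node 1 (.leaf (.rel 262 6973533 0 [.edge 1650 1303 false, .mul, .edge 1655 1342 false, .mul, .edge 4739 836 false, .mul, .mul])) (.leaf (.eq 1358 17043521 [] [.plain 4741 19034195 true]))) (.node 1 (.leaf (.eqT 262 13510735 false [.plain 4742 16935003 true, .edge 4740 810 false] [.edge 1645 0 false])) (.leaf (.eq 274 17043521 [] [.plain 4743 19355715 false]))))))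
(.node 8 (.node 4 (.node 2 (.node 1 (.leaf (.mov 272 19085399 false [.plain 4744 17592405 true, .edge 1656 367 false])) (.leaf (.mov 272 17043521 true [.plain 4744 19877955 true, .edge 1661 468 false]))) (.node 1 (.leaf .dfn) (.leaf (.mov 1359 17043521 false [.edge 4747 0 true]))))
(.node 2 (.node 1 (.leaf .dfn) (.leaf (.mov 1360 17043521 false [.edge 4749 0 true]))) (.node 1 (.leaf .dfn) (.leaf (.mov 1361 17043521 false [.edge 4751 0 true])))))
(.node 4 (.node 2 (.node 1 (.leaf (.rel 262 6715479 0 [.edge 4747 953 false, .mul, .edge 4749 1203 false, .mul, .edge 4751 876 false, .mul, .mul])) (.leaf (.eq 1361 17043521 [] [.plain 4753 19667011 true]))) (.node 1 (.leaf (.mov 262 13310023 false [.plain 4754 17051739 true, .edge 4752 1145 false])) (.leaf .dfn)))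
(.node 2 (.node 1 (.leaf .dfn) (.leaf (.mov 1363 17043521 true [.edge 4757 0 true]))) (.node 1 (.leaf (.rel 262 21586005 1 [.edge 1705 487 false, .mul, .edge 4756 895 false, .mul, .edge 4757 883 false, .mul, .mul])) (.leaf (.eq 1363 17043521 [] [.plain 4759 27818061 true])))))))))
(.node 61 (.node 30 (.node 15 (.node 7 (.node 3 (.node 1 (.leaf (.eqT 262 31801425 true [.plain 4760 25786435 true, .edge 4758 1483 false] [.edge 1708 0 false])) (.node 1 (.leaf (.eq 1362 17043521 [] [.plain 4761 25759831 false])) (.leaf .dfn)))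
(.node 2 (.node 1 (.leaf .dfn) (.leaf (.eqT 262 13510735 true [.plain 1607 31940703 true, .edge 4764 378 false] [.edge 4764 0 false]))) (.node 1 (.leaf (.eqT 262 13510735 true [.plain 1608 15671389 true, .edge 4764 1215 false] [.edge 4764 0 false])) (.leaf (.eq 1365 17043521 [] [.plain 4766 17111123 false])))))
(.node 4 (.node 2 (.node 1 (.leaf (.eq 1365 17043521 [] [.plain 4765 17651793 false])) (.leaf .dfn)) (.node 1 (.leaf (.mov 1365 27529303 false [.plain 4767 27596879 true, .edge 4769 1402 false])) (.leaf (.mov 1365 29904967 false [.plain 4768 29829211 true, .edge 4770 1317 false]))))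
(.node 2 (.node 1 (.leaf (.mov 1365 4808797 false [.plain 4767 4745307 true, .edge 4771 465 false])) (.leaf .dfn)) (.node 1 (.leaf (.mov 1367 17043521 true [.edge 4773 0 true])) (.leaf .dfn)))))
(.node 7 (.node 3 (.node 1 (.leaf (.mov 1368 17043521 false [.edge 4775 0 true])) (.node 1 (.leaf .dfn) (.leaf (.mov 1369 17043521 true [.edge 4777 0 true]))))
(.node 2 (.node 1 (.leaf .dfn) (.leaf (.mov 1370 17043521 false [.edge 4779 0 true]))) (.node 1 (.leaf (.rel 262 15603785 3 [.edge 4773 456 false, .edge 4775 1423 false, .mul, .edge 4777 419 false, .mul, .edge 4779 1388 false, .mul])) (.leaf (.eq 1370 17043521 [] [.plain 4781 17508439 true])))))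
(.node 4 (.node 2 (.node 1 (.leaf (.eqT 262 27529303 false [.plain 4782 16920663 true, .edge 4780 771 false] [.edge 1650 0 false])) (.leaf (.eq 1369 17043521 [] [.plain 4783 19732575 false]))) (.node 1 (.leaf (.mov 273 17059919 true [.plain 4784 19683409 true, .edge 4778 935 false])) (.leaf .dfn)))
(.node 2 (.node 1 (.leaf (.eqT 262 32131155 true [.plain 1607 24012889 true, .edge 4786 849 false] [.edge 4786 0 false])) (.leaf (.eqT 262 32131155 true [.plain 1608 30097499 true, .edge 4786 999 false] [.edge 4786 0 false]))) (.node 1 (.leaf (.eq 1371 17043521 [] [.plain 4788 19206235 false])) (.leaf (.eq 1371 17043521 [] [.plain 4787 11079769 false])))))))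
(.node 15 (.node 7 (.node 3 (.node 1 (.leaf .dfn) (.node 1 (.leaf (.mov 1371 29904967 false [.plain 4789 32067657 true, .edge 4791 1039 false])) (.leaf (.mov 1371 19085399 false [.plain 4790 4732995 true, .edge 4792 1413 false]))))
(.node 2 (.node 1 (.leaf (.mov 1371 17043521 false [.plain 4789 19206235 true, .edge 4793 651 false])) (.leaf .dfn)) (.node 1 (.leaf .dfn) (.leaf (.mov 1374 17043521 false [.edge 4796 0 true])))))
(.node 4 (.node 2 (.node 1 (.leaf (.rel 262 21981275 3 [.edge 4786 1227 false, .edge 4791 1013 false, .mul, .edge 4795 18 false, .mul, .edge 4796 257 false, .mul])) (.leaf (.eq 1374 17043521 [] [.plain 4798 17643585 true]))) (.node 1 (.leaf (.mov 262 9056345 false [.plain 4799 17193045 true, .edge 4797 529 false])) (.leaf (.mov 262 7292999 false [.plain 1607 29499487 true, .edge 4800 445 false]))))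
(.node 2 (.node 1 (.leaf (.mov 262 31801425 false [.plain 1608 29640775 true, .edge 4801 688 false])) (.leaf (.mov 262 6776923 false [.plain 1607 12730451 true, .edge 4802 708 false]))) (.node 1 (.leaf .dfn) (.leaf .dfn)))))
(.node 8 (.node 4 (.node 2 (.node 1 (.leaf (.mov 262 4544593 true [.plain 1607 8611935 true, .edge 4805 1251 false])) (.leaf (.mov 262 29904967 true [.plain 1608 32069705 true, .edge 4806 1508 false]))) (.node 1 (.leaf (.mov 262 10971209 true [.plain 1607 12873805 true, .edge 4807 531 false])) (.leaf .dfn)))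
(.node 2 (.node 1 (.leaf (.mov 1378 17043521 false [.edge 4809 0 true])) (.leaf .dfn)) (.node 1 (.leaf (.mov 1379 17043521 false [.edge 4811 0 true])) (.leaf .dfn))))
(.node 4 (.node 2 (.node 1 (.leaf (.mov 1380 17043521 true [.edge 4813 0 true])) (.leaf .dfn)) (.node 1 (.leaf (.mov 1381 17043521 false [.edge 4815 0 true])) (.leaf (.rel 262 32129119 6 [.edge 4764 1103 false, .edge 4769 921 false, .mul, .edge 4811 1314 false, .mul, .edge 4813 601 false, .edge 4815 108 false, .mul]))))
(.node 2 (.node 1 (.leaf (.eq 1381 17043521 [] [.plain 4817 19800139 true])) (.leaf (.eqT 262 7292999 false [.plain 4818 17176655 true, .edge 4816 1071 false] [.edge 4801 0 false]))) (.node 1 (.leaf (.eq 1380 17043521 [] [.plain 4819 27949129 false])) (.leaf (.mov 1373 17059919 true [.plain 4820 11038795 true, .edge 4814 377 false]))))))))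
(.node 31 (.node 15 (.node 7 (.node 3 (.node 1 (.leaf .dfn) (.node 1 (.leaf .dfn) (.leaf .dfn)))
(.node 2 (.node 1 (.leaf (.mov 1384 17043521 true [.edge 4824 0 true])) (.leaf .dfn)) (.node 1 (.leaf (.mov 1385 17043521 false [.edge 4826 0 true])) (.leaf (.rel 262 5124165 6 [.edge 4804 508 false, .edge 4822 93 false, .mul, .edge 4823 1058 false, .mul, .edge 4824 755 false, .edge 4826 678 false, .mul])))))
(.node 4 (.node 2 (.node 1 (.leaf (.eq 1385 17043521 [] [.plain 4828 19814479 true])) (.leaf (.eqT 262 23928925 false [.plain 4829 17109063 true, .edge 4827 489 false] [.edge 4747 0 false]))) (.node 1 (.leaf (.eq 1384 17043521 [] [.plain 4830 17061975 false])) (.leaf (.mov 1359 17059919 true [.plain 4831 17045595 true, .edge 4825 230 false]))))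
(.node 2 (.node 1 (.leaf .dfn) (.leaf .dfn)) (.node 1 (.leaf (.mov 1387 17043521 true [.edge 4834 0 true])) (.leaf .dfn)))))
(.node 8 (.node 4 (.node 2 (.node 1 (.leaf (.mov 1388 17043521 true [.edge 4836 0 true])) (.leaf (.rel 262 23343175 7 [.edge 4807 1214 false, .edge 4809 1095 false, .edge 4833 35 false, .mul, .edge 4834 708 false, .mul, .edge 4836 826 false, .mul]))) (.node 1 (.leaf (.eq 1388 17043521 [] [.plain 4838 27469915 true])) (.leaf (.eqT 262 25385043 true [.plain 4839 27856971 true, .edge 4837 300 false] [.edge 1706 0 false]))))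
(.node 2 (.node 1 (.leaf (.eq 1387 17043521 [] [.plain 4840 29571141 false])) (.leaf (.mov 280 10971209 true [.plain 4841 27529307 true, .edge 4835 1134 false]))) (.node 1 (.leaf .dfn) (.leaf (.mov 265 19085399 true [.plain 1613 19544139 true, .edge 4843 1094 false])))))
(.node 4 (.node 2 (.node 1 (.leaf (.mov 265 17059919 true [.plain 1614 17256541 true, .edge 4844 257 false])) (.leaf (.mov 265 17043521 true [.plain 1613 17567829 true, .edge 4845 221 false]))) (.node 1 (.leaf .dfn) (.leaf (.mov 1404 17043521 false [.edge 4847 0 true]))))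
(.node 2 (.node 1 (.leaf .dfn) (.leaf (.mov 1405 17043521 true [.edge 4849 0 true]))) (.node 1 (.leaf .dfn) (.leaf (.mov 1406 17043521 false [.edge 4851 0 true])))))))
(.node 15 (.node 7 (.node 3 (.node 1 (.leaf (.rel 265 17657921 3 [.edge 4846 492 false, .edge 4847 1478 false, .mul, .edge 4849 476 false, .mul, .edge 4851 175 false, .mul])) (.node 1 (.leaf (.eq 1406 17043521 [] [.plain 4853 17135707 true])) (.leaf (.eqT 265 17043521 false [.plain 4854 17567819 true, .edge 4852 162 false] [.edge 1610 0 false]))))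
(.node 2 (.node 1 (.leaf (.eq 1405 17043521 [] [.plain 4855 26105921 false])) (.leaf (.eqT 57 29904967 true [.plain 4856 17125459 true, .edge 4850 1028 false] [.edge 1722 0 false]))) (.node 1 (.leaf (.eq 1404 17043521 [] [.plain 4857 21508173 false])) (.leaf (.mov 286 4808797 false [.plain 4858 17651779 true, .edge 4848 846 false])))))
(.node 4 (.node 2 (.node 1 (.leaf .dfn) (.leaf .dfn)) (.node 1 (.leaf .dfn) (.leaf (.mov 1413 17043521 false [.edge 4862 0 true]))))
(.node 2 (.node 1 (.leaf (.rel 265 17578075 6 [.edge 4846 550 false, .edge 4847 696 false, .plain 4858 17051733 false, .mul, .edge 4860 1346 false, .mul, .edge 4861 337 false, .edge 4862 1043 false, .mul])) (.leaf (.eq 1413 17043521 [] [.plain 4864 19621975 true]))) (.node 1 (.leaf (.mov 265 19085399 false [.plain 4865 17111111 true, .edge 4863 35 false])) (.leaf .dfn)))))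
(.node 8 (.node 4 (.node 2 (.node 1 (.leaf .dfn) (.leaf .dfn)) (.node 1 (.leaf (.mov 1426 17043521 false [.edge 4869 0 true])) (.leaf (.rel 266 30226501 0 [.edge 4867 443 false, .mul, .edge 4868 1295 false, .mul, .edge 4869 433 false, .mul, .mul]))))
(.node 2 (.node 1 (.leaf (.eq 1426 17043521 [] [.plain 4871 19609693 true])) (.leaf (.mov 266 10971209 false [.plain 4872 17051739 true, .edge 4870 1145 false]))) (.node 1 (.leaf .dfn) (.leaf .dfn))))
(.node 4 (.node 2 (.node 1 (.leaf (.mov 1433 17043521 false [.edge 4875 0 true])) (.leaf .dfn)) (.node 1 (.leaf (.mov 1444 17043521 false [.edge 4877 0 true])) (.leaf .dfn)))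
(.node 2 (.node 1 (.leaf (.mov 1445 17043521 false [.edge 4879 0 true])) (.leaf .dfn)) (.node 1 (.leaf (.mov 1446 17043521 true [.edge 4881 0 true])) (.leaf .dfn)))))))))

/-- The reasons. -/
def caseCFullSrcRLLR : Tab Src := .node 244 caseCFullSrcRLLRL caseCFullSrcRLLRR

/-- The reasons. -/
def caseCFullSrcRLL : Tab Src := .node 488 caseCFullSrcRLLL caseCFullSrcRLLR

/-- The reasons. -/
def caseCFullSrcRLRLL : Tab Src :=
(.node 122 (.node 61 (.node 30 (.node 15 (.node 7 (.node 3 (.node 1 (.leaf (.mov 1447 17043521 false [.edge 4883 0 true])) (.node 1 (.leaf (.rel 266 26093645 6 [.edge 1678 42 false, .edge 4877 490 false, .mul, .edge 4879 28 false, .mul, .edge 4881 351 false, .edge 4883 836 false, .mul])) (.leaf (.eq 1447 17043521 [] [.plain 4885 19605585 true]))))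
(.node 2 (.node 1 (.leaf (.eqT 266 10971209 false [.plain 4886 16984133 true, .edge 4884 813 false] [.edge 4873 0 false])) (.leaf (.eq 1446 17043521 [] [.plain 4887 19877965 false]))) (.node 1 (.leaf (.mov 1425 10971209 true [.plain 4888 11104337 true, .edge 4882 138 false])) (.leaf .dfn))))
(.node 4 (.node 2 (.node 1 (.leaf .dfn) (.leaf .dfn)) (.node 1 (.leaf .dfn) (.leaf .dfn)))
(.node 2 (.node 1 (.leaf (.rel 266 15226953 7 [.edge 4890 1019 false, .edge 4891 1277 false, .edge 4892 135 false, .mul, .edge 4893 824 false, .mul, .edge 4894 300 false, .mul])) (.leaf (.eq 1456 17043521 [] [.plain 4895 26101833 true]))) (.node 1 (.leaf .dfn) (.leaf .dfn)))))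
(.node 7 (.node 3 (.node 1 (.leaf .dfn) (.node 1 (.leaf .dfn) (.leaf (.mov 1460 17043521 true [.edge 4900 0 true]))))
(.node 2 (.node 1 (.leaf (.rel 266 8546369 7 [.edge 1695 572 false, .edge 4897 484 false, .edge 4898 402 false, .mul, .edge 4899 604 false, .mul, .edge 4900 208 false, .mul])) (.leaf (.eq 1460 17043521 [] [.plain 4902 9134161 true]))) (.node 1 (.leaf (.eqT 266 4544593 true [.plain 4903 27816011 true, .edge 4901 1112 false] [.edge 4890 0 false])) (.leaf (.eq 1459 17043521 [] [.plain 4904 25567301 false])))))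
(.node 4 (.node 2 (.node 1 (.leaf .dfn) (.leaf (.mov 267 10971209 false [.plain 1623 11081795 true, .edge 4906 1009 false]))) (.node 1 (.leaf (.eqT 267 10971209 false [.plain 1622 10971223 true, .edge 4907 1282 false] [.edge 4907 0 false])) (.leaf (.eq 1461 17043521 [] [.plain 4908 17119313 false]))))
(.node 2 (.node 1 (.leaf .dfn) (.leaf (.eqT 1461 19085399 false [.plain 4909 19101761 true, .edge 4910 1515 false] [.edge 4910 0 false]))) (.node 1 (.leaf (.eq 1462 17043521 [] [.plain 4911 17567815 false])) (.leaf .dfn))))))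
(.node 15 (.node 7 (.node 3 (.node 1 (.leaf (.mov 1463 17043521 false [.edge 4913 0 true])) (.node 1 (.leaf (.rel 267 23685209 0 [.edge 4906 1156 false, .mul, .edge 4910 180 false, .mul, .edge 4913 1274 false, .mul, .mul])) (.leaf (.eq 1463 17043521 [] [.plain 4915 19271755 true]))))
(.node 2 (.node 1 (.leaf (.mov 267 29904967 false [.plain 4916 17051739 true, .edge 4914 1145 false])) (.leaf .dfn)) (.node 1 (.leaf (.mov 267 7292999 false [.plain 1623 7039041 true, .edge 4918 325 false])) (.leaf .dfn))))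
(.node 4 (.node 2 (.node 1 (.leaf (.mov 1465 17043521 false [.edge 4920 0 true])) (.leaf .dfn)) (.node 1 (.leaf (.mov 1466 17043521 false [.edge 4922 0 true])) (.leaf (.rel 267 27613259 0 [.edge 4918 468 false, .mul, .edge 4920 1032 false, .mul, .edge 4922 314 false, .mul, .mul]))))
(.node 2 (.node 1 (.leaf (.eq 1466 17043521 [] [.plain 4924 19230797 true])) (.leaf (.mov 267 27529303 false [.plain 4925 17051739 true, .edge 4923 1145 false]))) (.node 1 (.leaf (.mov 267 31801425 false [.plain 1623 31873103 true, .edge 4926 522 false])) (.leaf .dfn)))))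
(.node 8 (.node 4 (.node 2 (.node 1 (.leaf (.mov 267 31801425 true [.plain 1622 31801429 true, .edge 4928 1111 false])) (.leaf (.mov 267 13310023 true [.plain 1623 12869707 true, .edge 4929 489 false]))) (.node 1 (.leaf .dfn) (.leaf .dfn)))
(.node 2 (.node 1 (.leaf (.mov 1476 17043521 true [.edge 4932 0 true])) (.leaf .dfn)) (.node 1 (.leaf (.mov 1477 17043521 false [.edge 4934 0 true])) (.leaf (.rel 267 13115473 3 [.edge 4929 266 false, .edge 4931 377 false, .mul, .edge 4932 804 false, .mul, .edge 4934 16 false, .mul])))))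
(.node 4 (.node 2 (.node 1 (.leaf (.eq 1477 17043521 [] [.plain 4936 17567817 true])) (.leaf (.eqT 267 29904967 false [.plain 4937 16916563 true, .edge 4935 1254 false] [.edge 4917 0 false]))) (.node 1 (.leaf (.eq 1476 17043521 [] [.plain 4938 25313363 false])) (.leaf (.mov 1462 25385043 true [.plain 4939 19165265 true, .edge 4933 619 false]))))
(.node 2 (.node 1 (.leaf (.mov 1462 19085399 true [.plain 4912 19544155 true, .edge 4940 193 false])) (.leaf .dfn)) (.node 1 (.leaf (.mov 1478 17043521 false [.edge 4942 0 true])) (.leaf .dfn)))))))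
(.node 30 (.node 15 (.node 7 (.node 3 (.node 1 (.leaf (.mov 1479 17043521 true [.edge 4944 0 true])) (.node 1 (.leaf .dfn) (.leaf (.mov 1480 17043521 false [.edge 4946 0 true]))))
(.node 2 (.node 1 (.leaf (.rel 267 17506393 3 [.edge 4738 323 false, .edge 4942 214 false, .mul, .edge 4944 46 false, .mul, .edge 4946 290 false, .mul])) (.leaf (.eq 1480 17043521 [] [.plain 4948 17698899 true]))) (.node 1 (.leaf (.eqT 267 17043521 false [.plain 4949 17262663 true, .edge 4947 1183 false] [.edge 1618 0 false])) (.leaf (.eq 1479 17043521 [] [.plain 4950 17721435 false])))))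
(.node 4 (.node 2 (.node 1 (.leaf (.eqT 259 32131155 true [.plain 4951 8990803 true, .edge 4945 759 false] [.edge 1692 0 false])) (.leaf (.eq 1478 17043521 [] [.plain 4952 25524311 false]))) (.node 1 (.leaf (.mov 277 13510735 false [.plain 4953 16935003 true, .edge 4943 810 false])) (.leaf .dfn)))
(.node 2 (.node 1 (.leaf (.mov 1482 17043521 false [.edge 4955 0 true])) (.leaf .dfn)) (.node 1 (.leaf (.mov 1486 17043521 true [.edge 4957 0 true])) (.leaf (.mov 267 29904967 true [.plain 1623 29702235 true, .edge 4957 1002 false]))))))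
(.node 7 (.node 3 (.node 1 (.leaf .dfn) (.node 1 (.leaf .dfn) (.leaf .dfn)))
(.node 2 (.node 1 (.leaf .dfn) (.leaf (.mov 1490 17043521 false [.edge 4963 0 true]))) (.node 1 (.leaf (.rel 267 29954113 6 [.edge 4957 309 false, .edge 4960 492 false, .mul, .edge 4961 1156 false, .mul, .edge 4962 1350 false, .edge 4963 131 false, .mul])) (.leaf (.eq 1490 17043521 [] [.plain 4965 19675231 true])))))
(.node 4 (.node 2 (.node 1 (.leaf (.eqT 267 29904967 false [.plain 4966 17133635 true, .edge 4964 1465 false] [.edge 4917 0 false])) (.leaf (.eq 1489 17043521 [] [.plain 4967 8869965 false]))) (.node 1 (.leaf .dfn) (.leaf (.mov 1491 17043521 false [.edge 4969 0 true]))))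
(.node 2 (.node 1 (.leaf .dfn) (.leaf (.mov 1492 17043521 true [.edge 4971 0 true]))) (.node 1 (.leaf .dfn) (.leaf (.mov 1493 17043521 false [.edge 4973 0 true])))))))
(.node 15 (.node 7 (.node 3 (.node 1 (.leaf (.rel 267 6780999 6 [.edge 4930 267 false, .edge 4955 773 false, .mul, .edge 4969 886 false, .mul, .edge 4971 210 false, .edge 4973 1098 false, .mul])) (.node 1 (.leaf (.eq 1493 17043521 [] [.plain 4975 19290197 true])) (.leaf (.mov 267 23928925 false [.plain 4976 17111133 true, .edge 4974 1175 false]))))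
(.node 2 (.node 1 (.leaf (.eqT 267 23928925 false [.plain 1622 23928921 true, .edge 4977 440 false] [.edge 4977 0 false])) (.leaf (.eqT 267 23928925 false [.plain 1623 24000587 true, .edge 4977 1425 false] [.edge 4977 0 false]))) (.node 1 (.leaf (.eq 1492 17043521 [] [.plain 4979 27686989 false])) (.leaf (.mov 1492 13310023 true [.plain 4980 8984667 true, .edge 4972 970 false])))))
(.node 4 (.node 2 (.node 1 (.leaf (.eq 1492 17043521 [] [.plain 4978 27883603 false])) (.leaf (.mov 1492 17059919 true [.plain 4982 8933443 true, .edge 4972 673 false]))) (.node 1 (.leaf .dfn) (.leaf (.mov 1494 17043521 true [.edge 4984 0 true]))))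
(.node 2 (.node 1 (.leaf .dfn) (.leaf (.mov 1495 17043521 true [.edge 4986 0 true]))) (.node 1 (.leaf .dfn) (.leaf (.mov 1496 17043521 true [.edge 4988 0 true]))))))
(.node 8 (.node 4 (.node 2 (.node 1 (.leaf (.rel 267 28258381 7 [.edge 1624 1102 false, .plain 1631 11358297 false, .edge 4684 606 false, .edge 4984 1508 false, .mul, .edge 4986 488 false, .mul, .edge 4988 678 false, .mul])) (.leaf (.eq 1496 17043521 [] [.plain 4990 9330771 true]))) (.node 1 (.leaf (.eqT 267 13310023 true [.plain 4991 8984651 true, .edge 4989 370 false] [.edge 4930 0 false])) (.leaf (.eq 1495 17043521 [] [.plain 4992 27922525 false]))))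
(.node 2 (.node 1 (.leaf (.mov 1469 32131155 true [.plain 4993 19732547 true, .edge 4987 288 false])) (.leaf .dfn)) (.node 1 (.leaf (.mov 1500 17043521 false [.edge 4995 0 true])) (.leaf (.mov 272 6776923 false [.plain 1648 6580313 true, .edge 4995 1276 false])))))
(.node 4 (.node 2 (.node 1 (.leaf (.mov 272 13310023 false [.plain 1649 13375563 true, .edge 4997 311 false])) (.leaf .dfn)) (.node 1 (.leaf (.eqT 272 25385043 true [.plain 1648 26171473 true, .edge 4999 1363 false] [.edge 4999 0 false])) (.leaf (.eqT 272 25385043 true [.plain 1649 26105931 true, .edge 4999 652 false] [.edge 4999 0 false]))))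
(.node 2 (.node 1 (.leaf (.eq 1503 17043521 [] [.plain 5001 25440331 false])) (.leaf (.eq 1503 17043521 [] [.plain 5000 27539523 false]))) (.node 1 (.leaf .dfn) (.leaf (.mov 1504 17043521 true [.edge 5004 0 true])))))))))
(.node 61 (.node 30 (.node 15 (.node 7 (.node 3 (.node 1 (.leaf .dfn) (.node 1 (.leaf (.mov 1505 17043521 true [.edge 5006 0 true])) (.leaf (.rel 272 19542081 1 [.edge 4999 620 false, .mul, .edge 5004 701 false, .mul, .edge 5006 1137 false, .mul, .mul]))))
(.node 2 (.node 1 (.leaf (.eq 1505 17043521 [] [.plain 5008 9187407 true])) (.leaf (.mov 272 19085399 true [.plain 5009 8919107 true, .edge 5007 1463 false]))) (.node 1 (.leaf .dfn) (.leaf (.mov 1506 17043521 true [.edge 5011 0 true])))))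
(.node 4 (.node 2 (.node 1 (.leaf (.mov 272 13310023 true [.plain 1648 13441093 true, .edge 5011 458 false])) (.leaf (.mov 272 4544593 true [.plain 1649 4610133 true, .edge 5013 256 false]))) (.node 1 (.leaf (.mov 272 32125001 true [.plain 1648 31797323 true, .edge 5014 1166 false])) (.leaf .dfn)))
(.node 2 (.node 1 (.leaf .dfn) (.leaf (.mov 1508 17043521 true [.edge 5017 0 true]))) (.node 1 (.leaf (.rel 272 7092311 1 [.edge 5011 195 false, .mul, .edge 5016 1126 false, .mul, .edge 5017 1146 false, .mul, .mul])) (.leaf (.eq 1508 17043521 [] [.plain 5019 11352159 true]))))))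
(.node 7 (.node 3 (.node 1 (.leaf (.eqT 272 4544593 true [.plain 5020 11368513 true, .edge 5018 625 false] [.edge 5014 0 false])) (.node 1 (.leaf (.eq 1507 17043521 [] [.plain 5021 11366487 false])) (.leaf .dfn)))
(.node 2 (.node 1 (.leaf (.mov 272 13510735 true [.plain 1648 13117517 true, .edge 5023 757 false])) (.leaf (.mov 272 31801425 true [.plain 1649 32194639 true, .edge 5024 759 false]))) (.node 1 (.leaf (.mov 272 32131155 true [.plain 1648 31803473 true, .edge 5025 394 false])) (.leaf .dfn))))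
(.node 4 (.node 2 (.node 1 (.leaf .dfn) (.leaf (.mov 1503 13510735 false [.plain 5002 17717329 true, .edge 5028 361 false]))) (.node 1 (.leaf (.mov 1503 19085399 false [.plain 5003 23275605 true, .edge 5029 1407 false])) (.leaf (.mov 1503 27529303 false [.plain 5002 19148893 true, .edge 5030 82 false]))))
(.node 2 (.node 1 (.leaf .dfn) (.leaf .dfn)) (.node 1 (.leaf (.mov 1513 17043521 false [.edge 5033 0 true])) (.leaf (.rel 272 27922523 3 [.edge 4999 995 false, .edge 5028 533 false, .mul, .edge 5032 574 false, .mul, .edge 5033 894 false, .mul])))))))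
(.node 15 (.node 7 (.node 3 (.node 1 (.leaf (.eq 1513 17043521 [] [.plain 5035 16939083 true])) (.node 1 (.leaf (.eqT 272 13310023 false [.plain 5036 17135683 true, .edge 5034 1450 false] [.edge 4998 0 false])) (.leaf (.eq 1512 17043521 [] [.plain 5037 11278423 false]))))
(.node 2 (.node 1 (.leaf .dfn) (.leaf (.mov 1514 17043521 false [.edge 5039 0 true]))) (.node 1 (.leaf .dfn) (.leaf .dfn))))
(.node 4 (.node 2 (.node 1 (.leaf (.eqT 272 17059919 true [.plain 1648 17584205 true, .edge 5042 1412 false] [.edge 5042 0 false])) (.leaf (.eqT 272 17059919 true [.plain 1649 17649759 true, .edge 5042 378 false] [.edge 5042 0 false]))) (.node 1 (.leaf (.eq 1519 17043521 [] [.plain 5044 17651793 false])) (.leaf (.eq 1519 17043521 [] [.plain 5043 17584195 false]))))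
(.node 2 (.node 1 (.leaf .dfn) (.leaf .dfn)) (.node 1 (.leaf .dfn) (.leaf .dfn)))))
(.node 8 (.node 4 (.node 2 (.node 1 (.leaf .dfn) (.leaf (.mov 1525 17043521 false [.edge 5051 0 true]))) (.node 1 (.leaf (.rel 272 17524827 6 [.edge 5047 386 false, .edge 5048 587 false, .mul, .edge 5049 194 false, .mul, .edge 5050 1080 false, .edge 5051 1412 false, .mul])) (.leaf (.eq 1525 17043521 [] [.plain 5053 19814485 true]))))
(.node 2 (.node 1 (.leaf (.eqT 272 19085399 false [.plain 5054 17109069 true, .edge 5052 213 false] [.edge 4745 0 false])) (.leaf (.eq 1524 17043521 [] [.plain 5055 27791439 false]))) (.node 1 (.leaf .dfn) (.leaf .dfn))))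
(.node 4 (.node 2 (.node 1 (.leaf (.mov 1527 17043521 true [.edge 5058 0 true])) (.leaf .dfn)) (.node 1 (.leaf (.mov 1528 17043521 false [.edge 5060 0 true])) (.leaf (.rel 272 12935233 6 [.edge 5025 1070 false, .edge 5027 1405 false, .mul, .edge 5057 1269 false, .mul, .edge 5058 675 false, .edge 5060 31 false, .mul]))))
(.node 2 (.node 1 (.leaf (.eq 1528 17043521 [] [.plain 5062 19800133 true])) (.leaf (.eqT 272 13310023 false [.plain 5063 17592411 true, .edge 5061 128 false] [.edge 4998 0 false]))) (.node 1 (.leaf (.eq 1527 17043521 [] [.plain 5064 28256329 false])) (.leaf (.mov 1500 25385043 true [.plain 5065 8992833 true, .edge 5059 1440 false]))))))))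
(.node 30 (.node 15 (.node 7 (.node 3 (.node 1 (.leaf .dfn) (.node 1 (.leaf (.mov 275 17043521 false [.plain 1665 25432139 true, .edge 5067 1463 false])) (.leaf (.mov 275 27529303 false [.plain 1666 17043541 true, .edge 5068 1384 false]))))
(.node 2 (.node 1 (.leaf (.mov 275 19085399 false [.plain 1665 21182547 true, .edge 5069 542 false])) (.leaf (.mov 275 32125001 false [.plain 1675 19542109 true, .edge 5070 563 false]))) (.node 1 (.leaf (.mov 275 6776923 false [.plain 1665 8874071 true, .edge 5071 1093 false])) (.leaf (.mov 275 10971209 false [.plain 1666 6776907 true, .edge 5072 12 false])))))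
(.node 4 (.node 2 (.node 1 (.leaf (.eqT 275 17043521 false [.plain 1676 25432141 true, .edge 5067 1481 false] [.edge 5068 0 false])) (.leaf (.eq 1529 17043521 [] [.plain 5074 17510479 false]))) (.node 1 (.leaf .dfn) (.leaf (.eqT 1529 25385043 true [.plain 5075 26095683 true, .edge 5076 690 false] [.edge 5076 0 false]))))
(.node 2 (.node 1 (.leaf (.eq 1530 17043521 [] [.plain 5077 17059913 false])) (.leaf .dfn)) (.node 1 (.leaf (.mov 1531 17043521 true [.edge 5079 0 true])) (.leaf (.mov 1530 31801425 true [.plain 5078 31799387 true, .edge 5079 1455 false]))))))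
(.node 7 (.node 3 (.node 1 (.leaf .dfn) (.node 1 (.leaf (.mov 1532 17043521 true [.edge 5082 0 true])) (.leaf (.rel 272 27555929 7 [.edge 4746 343 false, .edge 5067 566 false, .edge 5076 410 false, .mul, .edge 5079 200 false, .mul, .edge 5082 94 false, .mul]))))
(.node 2 (.node 1 (.leaf (.eq 1532 17043521 [] [.plain 5084 25305161 true])) (.leaf (.eqT 272 13310023 true [.plain 5085 19224643 true, .edge 5083 870 false] [.edge 5013 0 false]))) (.node 1 (.leaf (.eq 1531 17043521 [] [.plain 5086 21829717 false])) (.leaf (.mov 1506 11495495 true [.plain 5087 19740761 true, .edge 5080 372 false])))))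
(.node 4 (.node 2 (.node 1 (.leaf .dfn) (.leaf (.mov 1533 17043521 true [.edge 5089 0 true]))) (.node 1 (.leaf .dfn) (.leaf (.mov 1534 17043521 true [.edge 5091 0 true]))))
(.node 2 (.node 1 (.leaf .dfn) (.leaf (.mov 1535 17043521 true [.edge 5093 0 true]))) (.node 1 (.leaf (.rel 272 21112925 7 [.edge 5024 1002 false, .edge 5039 1275 false, .edge 5089 528 false, .mul, .edge 5091 881 false, .mul, .edge 5093 13 false, .mul])) (.leaf (.eq 1535 17043521 [] [.plain 5095 27476033 true])))))))
(.node 15 (.node 7 (.node 3 (.node 1 (.leaf (.eqT 272 17059919 true [.plain 5096 8998985 true, .edge 5094 17 false] [.edge 5042 0 false])) (.node 1 (.leaf (.eq 1534 17043521 [] [.plain 5097 30160965 false])) (.leaf (.mov 1519 29904967 true [.plain 5098 11350091 true, .edge 5092 1476 false]))))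
(.node 2 (.node 1 (.leaf (.mov 1519 32131155 true [.plain 5045 31733837 true, .edge 5099 888 false])) (.leaf (.mov 1519 4544593 true [.plain 5046 4671571 true, .edge 5100 528 false]))) (.node 1 (.leaf (.mov 1519 13510735 true [.plain 5045 13176899 true, .edge 5101 499 false])) (.leaf .dfn))))
(.node 4 (.node 2 (.node 1 (.leaf .dfn) (.leaf .dfn)) (.node 1 (.leaf (.mov 1538 17043521 false [.edge 5105 0 true])) (.leaf (.rel 273 23617623 0 [.edge 5103 517 false, .mul, .edge 5104 890 false, .mul, .edge 5105 208 false, .mul, .mul]))))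
(.node 2 (.node 1 (.leaf (.eq 1538 17043521 [] [.plain 5107 19554371 true])) (.leaf (.mov 273 4808797 false [.plain 5108 16935003 true, .edge 5106 810 false]))) (.node 1 (.leaf .dfn) (.leaf (.eqT 273 10971209 true [.plain 1653 10960961 true, .edge 5110 1495 false] [.edge 5110 0 false]))))))
(.node 8 (.node 4 (.node 2 (.node 1 (.leaf (.eqT 273 10971209 true [.plain 1654 10969155 true, .edge 5110 999 false] [.edge 5110 0 false])) (.leaf (.eq 1542 17043521 [] [.plain 5112 19206235 false]))) (.node 1 (.leaf (.eq 1542 17043521 [] [.plain 5111 8917059 false])) (.leaf .dfn)))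
(.node 2 (.node 1 (.leaf (.eqT 1542 17059919 true [.plain 5113 19222613 true, .edge 5115 1422 false] [.edge 5115 0 false])) (.leaf (.eqT 1542 17059919 true [.plain 5114 8933453 true, .edge 5115 1488 false] [.edge 5115 0 false]))) (.node 1 (.leaf (.eq 1543 17043521 [] [.plain 5117 27529283 false])) (.leaf (.eq 1543 17043521 [] [.plain 5116 19140681 false])))))
(.node 4 (.node 2 (.node 1 (.leaf .dfn) (.leaf (.mov 1544 17043521 true [.edge 5120 0 true]))) (.node 1 (.leaf (.rel 273 19554369 1 [.edge 5110 352 false, .mul, .edge 5115 1119 false, .mul, .edge 5120 1191 false, .mul, .mul])) (.leaf (.eq 1544 17043521 [] [.plain 5122 27856967 true]))))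
(.node 2 (.node 1 (.leaf (.mov 273 11495495 true [.plain 5123 17651795 true, .edge 5121 1128 false])) (.leaf .dfn)) (.node 1 (.leaf (.mov 1546 17043521 true [.edge 5125 0 true])) (.leaf .dfn)))))))))

/-- The reasons. -/
def caseCFullSrcRLRLR : Tab Src :=
(.node 122 (.node 61 (.node 30 (.node 15 (.node 7 (.node 3 (.node 1 (.leaf (.mov 1543 27529303 false [.plain 5118 17043541 true, .edge 5127 1384 false])) (.node 1 (.leaf (.mov 1543 13510735 false [.plain 5119 15607891 true, .edge 5128 794 false])) (.leaf (.mov 1543 19085399 false [.plain 5118 23279701 true, .edge 5129 1171 false]))))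
(.node 2 (.node 1 (.leaf .dfn) (.leaf .dfn)) (.node 1 (.leaf (.mov 1550 17043521 false [.edge 5132 0 true])) (.leaf (.rel 273 9134157 3 [.edge 5124 739 false, .edge 5127 1508 false, .mul, .edge 5131 1488 false, .mul, .edge 5132 273 false, .mul])))))
(.node 4 (.node 2 (.node 1 (.leaf (.eq 1550 17043521 [] [.plain 5134 16920657 true])) (.leaf (.mov 273 10971209 false [.plain 5135 17508431 true, .edge 5133 1009 false]))) (.node 1 (.leaf (.mov 273 31801425 false [.plain 1653 31799373 true, .edge 5136 1249 false])) (.leaf (.mov 273 7292999 false [.plain 1654 7290945 true, .edge 5137 807 false]))))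
(.node 2 (.node 1 (.leaf (.mov 273 32125001 false [.plain 1653 32131157 true, .edge 5138 856 false])) (.leaf .dfn)) (.node 1 (.leaf (.mov 273 29904967 true [.plain 1653 29892697 true, .edge 5140 69 false])) (.leaf (.mov 273 4544593 true [.plain 1654 4542549 true, .edge 5141 46 false]))))))
(.node 7 (.node 3 (.node 1 (.leaf (.mov 273 4808797 true [.plain 1653 4812891 true, .edge 5142 889 false])) (.node 1 (.leaf .dfn) (.leaf .dfn)))
(.node 2 (.node 1 (.leaf (.mov 1559 17043521 false [.edge 5145 0 true])) (.leaf .dfn)) (.node 1 (.leaf (.mov 1560 17043521 false [.edge 5147 0 true])) (.leaf .dfn))))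
(.node 4 (.node 2 (.node 1 (.leaf (.mov 1561 17043521 true [.edge 5149 0 true])) (.leaf .dfn)) (.node 1 (.leaf (.mov 1562 17043521 false [.edge 5151 0 true])) (.leaf (.rel 273 27801685 6 [.edge 4785 478 false, .edge 5145 506 false, .mul, .edge 5147 845 false, .mul, .edge 5149 256 false, .edge 5151 884 false, .mul]))))
(.node 2 (.node 1 (.leaf (.eq 1562 17043521 [] [.plain 5153 19359833 true])) (.leaf (.eqT 273 4808797 false [.plain 5154 17705037 true, .edge 5152 285 false] [.edge 5109 0 false]))) (.node 1 (.leaf (.eq 1561 17043521 [] [.plain 5155 28002377 false])) (.leaf (.mov 1537 10971209 true [.plain 5156 17633361 true, .edge 5150 514 false])))))))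
(.node 15 (.node 7 (.node 3 (.node 1 (.leaf .dfn) (.node 1 (.leaf .dfn) (.leaf .dfn)))
(.node 2 (.node 1 (.leaf .dfn) (.leaf (.mov 1566 17043521 false [.edge 5161 0 true]))) (.node 1 (.leaf (.rel 273 32004189 6 [.edge 5141 380 false, .edge 5158 1462 false, .mul, .edge 5159 633 false, .mul, .edge 5160 399 false, .edge 5161 375 false, .mul])) (.leaf (.eq 1566 17043521 [] [.plain 5163 19880023 true])))))
(.node 4 (.node 2 (.node 1 (.leaf (.eqT 273 4808797 false [.plain 5164 17459283 true, .edge 5162 1326 false] [.edge 5109 0 false])) (.leaf (.eq 1565 17043521 [] [.plain 5165 27801693 false]))) (.node 1 (.leaf .dfn) (.leaf (.mov 1567 17043521 true [.edge 5167 0 true]))))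
(.node 2 (.node 1 (.leaf .dfn) (.leaf (.mov 1568 17043521 true [.edge 5169 0 true]))) (.node 1 (.leaf .dfn) (.leaf (.mov 1569 17043521 true [.edge 5171 0 true]))))))
(.node 8 (.node 4 (.node 2 (.node 1 (.leaf (.rel 273 21303387 7 [.edge 5142 1276 false, .edge 5144 329 false, .edge 5167 654 false, .mul, .edge 5169 17 false, .mul, .edge 5171 1034 false, .mul])) (.leaf (.eq 1569 17043521 [] [.plain 5173 9070675 true]))) (.node 1 (.leaf (.eqT 273 11495495 true [.plain 5174 8933443 true, .edge 5172 673 false] [.edge 5124 0 false])) (.leaf (.eq 1568 17043521 [] [.plain 5175 25892939 false]))))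
(.node 2 (.node 1 (.leaf (.mov 1543 25385043 true [.plain 5176 17053777 true, .edge 5170 621 false])) (.leaf (.mov 1543 32125001 true [.plain 5118 9056331 true, .edge 5177 1259 false]))) (.node 1 (.leaf (.mov 1543 13310023 true [.plain 5119 15407185 true, .edge 5178 1 false])) (.leaf (.mov 1543 19085399 true [.plain 5118 23279701 true, .edge 5179 159 false])))))
(.node 4 (.node 2 (.node 1 (.leaf .dfn) (.leaf (.mov 1570 17043521 false [.edge 5181 0 true]))) (.node 1 (.leaf .dfn) (.leaf (.mov 1571 17043521 true [.edge 5183 0 true]))))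
(.node 2 (.node 1 (.leaf .dfn) (.leaf (.mov 1572 17043521 true [.edge 5185 0 true]))) (.node 1 (.leaf .dfn) (.leaf (.mov 1573 17043521 true [.edge 5187 0 true]))))))))
(.node 30 (.node 15 (.node 7 (.node 3 (.node 1 (.leaf (.rel 273 31598661 7 [.edge 5125 222 false, .edge 5181 239 false, .edge 5183 530 false, .mul, .edge 5185 823 false, .mul, .edge 5187 432 false, .mul])) (.node 1 (.leaf (.eq 1573 17043521 [] [.plain 5189 25839699 true])) (.leaf (.eqT 273 4544593 true [.plain 5190 8941649 true, .edge 5188 1053 false] [.edge 5142 0 false]))))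
(.node 2 (.node 1 (.leaf (.eq 1572 17043521 [] [.plain 5191 32327751 false])) (.leaf (.mov 1554 4808797 true [.plain 5192 25450587 true, .edge 5186 1199 false]))) (.node 1 (.leaf .dfn) (.leaf .dfn))))
(.node 4 (.node 2 (.node 1 (.leaf .dfn) (.leaf (.mov 1578 17043521 true [.edge 5196 0 true]))) (.node 1 (.leaf (.rel 275 29714525 1 [.edge 5194 837 false, .mul, .edge 5195 420 false, .mul, .edge 5196 445 false, .mul, .mul])) (.leaf (.eq 1578 17043521 [] [.plain 5198 25704535 true]))))
(.node 2 (.node 1 (.leaf (.mov 275 31801425 true [.plain 5199 9007193 true, .edge 5197 1353 false])) (.leaf .dfn)) (.node 1 (.leaf (.mov 1579 17043521 true [.edge 5201 0 true])) (.leaf (.rel 275 9269325 1 [.edge 1677 346 false, .plain 4744 10639427 false, .mul, .edge 5042 1091 false, .mul, .edge 5201 1446 false, .mul, .mul]))))))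
(.node 7 (.node 3 (.node 1 (.leaf (.eq 1579 17043521 [] [.plain 5203 9244765 true])) (.node 1 (.leaf (.eqT 275 17043521 true [.plain 5204 9254979 true, .edge 5202 341 false] [.edge 1662 0 false])) (.leaf (.eq 1519 27791431 [] [.plain 5205 17043521 false, .plain 4744 25385043 false]))))
(.node 2 (.node 1 (.leaf (.eq 1519 17043521 [] [.plain 5206 9244743 false])) (.leaf (.eqT 272 32131155 true [.plain 5207 32202847 true, .edge 5102 1465 false] [.edge 5026 0 false]))) (.node 1 (.leaf (.eq 1533 17043521 [] [.plain 5208 6959179 false])) (.leaf (.mov 1509 11495495 true [.plain 5209 9007171 true, .edge 5090 1139 false])))))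
(.node 4 (.node 2 (.node 1 (.leaf .dfn) (.leaf (.mov 275 32125001 true [.plain 1665 11153503 true, .edge 5211 1445 false]))) (.node 1 (.leaf (.mov 275 25385043 true [.plain 1666 29579345 true, .edge 5212 606 false])) (.leaf (.mov 275 13310023 true [.plain 1665 27990099 true, .edge 5213 614 false]))))
(.node 2 (.node 1 (.leaf (.eqT 275 32125001 true [.plain 1675 19542109 true, .edge 5211 124 false] [.edge 5212 0 false])) (.leaf (.eqT 275 13310023 true [.plain 1676 27990103 true, .edge 5211 1062 false] [.edge 5214 0 false]))) (.node 1 (.leaf (.eq 1580 17043521 [] [.plain 5216 27873361 false])) (.leaf (.eq 1580 17043521 [] [.plain 5215 17592401 false])))))))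
(.node 15 (.node 7 (.node 3 (.node 1 (.leaf .dfn) (.node 1 (.leaf (.mov 1580 19085399 false [.plain 5217 16920641 true, .edge 5219 438 false])) (.leaf (.mov 1580 29904967 false [.plain 5218 19884107 true, .edge 5220 1012 false]))))
(.node 2 (.node 1 (.leaf (.mov 1580 4808797 false [.plain 5217 6842441 true, .edge 5221 501 false])) (.leaf .dfn)) (.node 1 (.leaf (.mov 1584 17043521 false [.edge 5223 0 true])) (.leaf .dfn))))
(.node 4 (.node 2 (.node 1 (.leaf (.mov 1585 17043521 true [.edge 5225 0 true])) (.leaf .dfn)) (.node 1 (.leaf (.mov 1586 17043521 false [.edge 5227 0 true])) (.leaf (.rel 275 6840387 3 [.edge 5200 864 false, .edge 5223 231 false, .mul, .edge 5225 1249 false, .mul, .edge 5227 1216 false, .mul]))))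
(.node 2 (.node 1 (.leaf (.eq 1586 17043521 [] [.plain 5229 17117265 true])) (.leaf (.eqT 275 29904967 false [.plain 5230 16998485 true, .edge 5228 711 false] [.edge 1667 0 false]))) (.node 1 (.leaf (.eq 1585 21110867 [] [.plain 5231 17043521 false, .plain 1670 17043521 false])) (.leaf (.eq 1585 17043521 [] [.plain 5232 25305179 false]))))))
(.node 8 (.node 4 (.node 2 (.node 1 (.leaf (.eqT 53 11495495 true [.plain 5233 8933459 true, .edge 5226 168 false] [.edge 452 0 false])) (.leaf (.eq 1584 17043521 [] [.plain 5234 4792409 false]))) (.node 1 (.leaf (.mov 57 9056345 false [.plain 5235 17524817 true, .edge 5224 1505 false])) (.leaf .dfn)))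
(.node 2 (.node 1 (.leaf .dfn) (.leaf (.mov 1588 17043521 false [.edge 5238 0 true]))) (.node 1 (.leaf (.rel 275 6707291 3 [.edge 5212 160 false, .edge 5221 382 false, .mul, .edge 5237 611 false, .mul, .edge 5238 819 false, .mul])) (.leaf (.eq 1588 17043521 [] [.plain 5240 17459293 true])))))
(.node 4 (.node 2 (.node 1 (.leaf (.eqT 275 10971209 false [.plain 5241 17651777 true, .edge 5239 245 false] [.edge 5073 0 false])) (.leaf (.eq 1587 17043521 [] [.plain 5242 10895445 false]))) (.node 1 (.leaf .dfn) (.leaf (.mov 1592 17043521 false [.edge 5244 0 true]))))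
(.node 2 (.node 1 (.leaf .dfn) (.leaf (.mov 1593 17043521 false [.edge 5246 0 true]))) (.node 1 (.leaf .dfn) (.leaf (.mov 1594 17043521 true [.edge 5248 0 true])))))))))
(.node 61 (.node 30 (.node 15 (.node 7 (.node 3 (.node 1 (.leaf .dfn) (.node 1 (.leaf (.mov 1595 17043521 false [.edge 5250 0 true])) (.leaf (.rel 275 27416647 6 [.edge 5211 1389 false, .edge 5244 773 false, .mul, .edge 5246 886 false, .mul, .edge 5248 210 false, .edge 5250 1098 false, .mul]))))
(.node 2 (.node 1 (.leaf (.eq 1595 17043521 [] [.plain 5252 19290197 true])) (.leaf (.mov 275 13310023 false [.plain 5253 17567815 true, .edge 5251 1508 false]))) (.node 1 (.leaf (.eqT 275 13310023 false [.plain 1675 11212881 true, .edge 5254 1460 false] [.edge 5254 0 false])) (.leaf (.eqT 275 13310023 false [.plain 1676 27990103 true, .edge 5254 376 false] [.edge 5254 0 false])))))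
(.node 4 (.node 2 (.node 1 (.leaf (.eq 1594 17043521 [] [.plain 5256 28012635 false])) (.leaf (.eq 1594 17043521 [] [.plain 5255 27684935 false]))) (.node 1 (.leaf (.mov 1594 13310023 true [.plain 5258 17111107 true, .edge 5249 1282 false])) (.leaf (.mov 1594 17059919 true [.plain 5257 7295061 true, .edge 5259 1418 false]))))
(.node 2 (.node 1 (.leaf .dfn) (.leaf .dfn)) (.node 1 (.leaf (.mov 1600 17043521 true [.edge 5262 0 true])) (.leaf .dfn)))))
(.node 7 (.node 3 (.node 1 (.leaf (.mov 1601 17043521 true [.edge 5264 0 true])) (.node 1 (.leaf (.rel 275 17447005 7 [.edge 5211 122 false, .edge 5220 1344 false, .edge 5261 1314 false, .mul, .edge 5262 1129 false, .mul, .edge 5264 50 false, .mul])) (.leaf (.eq 1601 17043521 [] [.plain 5266 10963011 true]))))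
(.node 2 (.node 1 (.leaf (.eqT 275 17059919 true [.plain 5267 27883595 true, .edge 5265 1185 false] [.edge 1677 0 false])) (.leaf (.eq 1600 29825103 [] [.plain 5268 17043521 false, .plain 4744 25915457 false]))) (.node 1 (.leaf (.eq 1600 17043521 [] [.plain 5269 27662409 false])) (.leaf (.eqT 272 32125001 true [.plain 5270 19673171 true, .edge 5263 1130 false] [.edge 5015 0 false])))))
(.node 4 (.node 2 (.node 1 (.leaf (.eq 1599 17043521 [] [.plain 5271 23273543 false])) (.leaf .dfn)) (.node 1 (.leaf .dfn) (.leaf (.mov 1612 17043521 true [.edge 5274 0 true]))))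
(.node 2 (.node 1 (.leaf .dfn) (.leaf (.mov 1613 17043521 true [.edge 5276 0 true]))) (.node 1 (.leaf (.rel 277 17174623 1 [.edge 5273 991 false, .mul, .edge 5274 33 false, .mul, .edge 5276 1024 false, .mul, .mul])) (.leaf (.eq 1613 17043521 [] [.plain 5278 19757149 true])))))))
(.node 15 (.node 7 (.node 3 (.node 1 (.leaf (.mov 277 25385043 true [.plain 5279 27531355 true, .edge 5277 416 false])) (.node 1 (.leaf .dfn) (.leaf .dfn)))
(.node 2 (.node 1 (.leaf (.mov 1617 17043521 true [.edge 5282 0 true])) (.leaf .dfn)) (.node 1 (.leaf (.mov 1618 17043521 false [.edge 5284 0 true])) (.leaf (.rel 277 19798087 3 [.edge 5273 622 false, .edge 5281 1359 false, .mul, .edge 5282 90 false, .mul, .edge 5284 333 false, .mul])))))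
(.node 4 (.node 2 (.node 1 (.leaf (.eq 1618 17043521 [] [.plain 5286 17442905 true])) (.leaf (.eqT 277 19085399 false [.plain 5287 17246279 true, .edge 5285 1400 false] [.edge 4877 0 false]))) (.node 1 (.leaf (.eq 1617 17043521 [] [.plain 5288 11145297 false])) (.leaf (.mov 1444 25385043 true [.plain 5289 17651779 true, .edge 5283 914 false]))))
(.node 2 (.node 1 (.leaf .dfn) (.leaf .dfn)) (.node 1 (.leaf .dfn) (.leaf .dfn)))))
(.node 8 (.node 4 (.node 2 (.node 1 (.leaf .dfn) (.leaf (.rel 277 12730459 6 [.edge 5291 1458 false, .edge 5292 501 false, .mul, .edge 5293 1337 false, .mul, .edge 5294 655 false, .edge 5295 1283 false, .mul]))) (.node 1 (.leaf (.eq 1625 17043521 [] [.plain 5296 19015763 true])) (.leaf .dfn)))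
(.node 2 (.node 1 (.leaf (.mov 1626 17043521 true [.edge 5298 0 true])) (.leaf .dfn)) (.node 1 (.leaf (.mov 1627 17043521 true [.edge 5300 0 true])) (.leaf .dfn))))
(.node 4 (.node 2 (.node 1 (.leaf (.mov 1628 17043521 true [.edge 5302 0 true])) (.leaf (.rel 277 23478363 7 [.edge 5291 136 false, .edge 5292 934 false, .edge 5298 819 false, .mul, .edge 5300 1006 false, .mul, .edge 5302 1492 false, .mul]))) (.node 1 (.leaf (.eq 1628 17043521 [] [.plain 5304 9330779 true])) (.leaf (.mov 277 11495495 true [.plain 5305 9271363 true, .edge 5303 1394 false]))))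
(.node 2 (.node 1 (.leaf .dfn) (.leaf .dfn)) (.node 1 (.leaf (.mov 1635 17043521 false [.edge 5308 0 true])) (.leaf .dfn)))))))
(.node 30 (.node 15 (.node 7 (.node 3 (.node 1 (.leaf (.mov 1636 17043521 false [.edge 5310 0 true])) (.node 1 (.leaf (.rel 280 11165765 0 [.edge 5307 257 false, .mul, .edge 5308 1202 false, .mul, .edge 5310 1029 false, .mul, .mul])) (.leaf (.eq 1636 17043521 [] [.plain 5312 19157063 true]))))
(.node 2 (.node 1 (.leaf (.mov 280 10971209 false [.plain 5313 17051739 true, .edge 5311 1145 false])) (.leaf .dfn)) (.node 1 (.leaf .dfn) (.leaf .dfn))))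
(.node 4 (.node 2 (.node 1 (.leaf (.mov 1639 17043521 true [.edge 5317 0 true])) (.leaf (.rel 280 4544603 1 [.edge 5315 1207 false, .mul, .edge 5316 955 false, .mul, .edge 5317 821 false, .mul, .mul]))) (.node 1 (.leaf (.eq 1639 17043521 [] [.plain 5319 17635397 true])) (.leaf (.mov 280 29904967 true [.plain 5320 11368515 true, .edge 5318 598 false]))))
(.node 2 (.node 1 (.leaf .dfn) (.leaf .dfn)) (.node 1 (.leaf (.mov 1641 17043521 false [.edge 5323 0 true])) (.leaf (.mov 1321 27529303 false [.plain 4712 27469913 true, .edge 5323 965 false]))))))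
(.node 7 (.node 3 (.node 1 (.leaf (.mov 1321 29904967 false [.plain 4713 29829213 true, .edge 5325 672 false])) (.node 1 (.leaf .dfn) (.leaf .dfn)))
(.node 2 (.node 1 (.leaf (.mov 1643 17043521 false [.edge 5328 0 true])) (.leaf (.rel 280 32196679 3 [.edge 4726 783 false, .edge 5323 1296 false, .mul, .edge 5327 1434 false, .mul, .edge 5328 1160 false, .mul]))) (.node 1 (.leaf (.eq 1643 17043521 [] [.plain 5330 17510493 true])) (.leaf (.mov 280 7292999 false [.plain 5331 16984149 true, .edge 5329 405 false])))))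
(.node 4 (.node 2 (.node 1 (.leaf .dfn) (.leaf .dfn)) (.node 1 (.leaf .dfn) (.leaf (.mov 1646 17043521 true [.edge 5335 0 true]))))
(.node 2 (.node 1 (.leaf .dfn) (.leaf (.mov 1647 17043521 false [.edge 5337 0 true]))) (.node 1 (.leaf (.rel 280 25514063 3 [.edge 5333 1496 false, .edge 5334 117 false, .mul, .edge 5335 1491 false, .mul, .edge 5337 1198 false, .mul])) (.leaf (.eq 1647 17043521 [] [.plain 5339 17244253 true])))))))
(.node 15 (.node 7 (.node 3 (.node 1 (.leaf (.eqT 280 27529303 false [.plain 5340 17461331 true, .edge 5338 16 false] [.edge 4763 0 false])) (.node 1 (.leaf (.eq 1646 17043521 [] [.plain 5341 16988243 false])) (.leaf (.mov 1364 25385043 true [.plain 5342 25694281 true, .edge 5336 1057 false]))))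
(.node 2 (.node 1 (.leaf .dfn) (.leaf .dfn)) (.node 1 (.leaf .dfn) (.leaf .dfn))))
(.node 4 (.node 2 (.node 1 (.leaf (.mov 1653 17043521 false [.edge 5347 0 true])) (.leaf .dfn)) (.node 1 (.leaf (.mov 1654 17043521 true [.edge 5349 0 true])) (.leaf .dfn)))
(.node 2 (.node 1 (.leaf (.mov 1655 17043521 false [.edge 5351 0 true])) (.leaf (.rel 280 12871747 6 [.edge 5345 847 false, .edge 5346 895 false, .mul, .edge 5347 953 false, .mul, .edge 5349 806 false, .edge 5351 1479 false, .mul]))) (.node 1 (.leaf (.eq 1655 17043521 [] [.plain 5353 19544147 true])) (.leaf (.eqT 280 13310023 false [.plain 5354 17766487 true, .edge 5352 113 false] [.edge 5322 0 false]))))))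
(.node 8 (.node 4 (.node 2 (.node 1 (.leaf (.eq 1654 17043521 [] [.plain 5355 19603521 false])) (.leaf (.mov 1640 10971209 true [.plain 5356 9244745 true, .edge 5350 975 false]))) (.node 1 (.leaf .dfn) (.leaf .dfn)))
(.node 2 (.node 1 (.leaf (.mov 1657 17043521 false [.edge 5359 0 true])) (.leaf .dfn)) (.node 1 (.leaf (.mov 1658 17043521 false [.edge 5361 0 true])) (.leaf .dfn))))
(.node 4 (.node 2 (.node 1 (.leaf (.mov 1659 17043521 true [.edge 5363 0 true])) (.leaf .dfn)) (.node 1 (.leaf (.mov 1660 17043521 false [.edge 5365 0 true])) (.leaf (.rel 280 11495509 6 [.edge 5358 71 false, .edge 5359 49 false, .mul, .edge 5361 1343 false, .mul, .edge 5363 939 false, .edge 5365 555 false, .mul]))))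
(.node 2 (.node 1 (.leaf (.eq 1660 17043521 [] [.plain 5367 19865667 true])) (.leaf (.eqT 280 32125001 false [.plain 5368 17586241 true, .edge 5366 1289 false] [.edge 5307 0 false]))) (.node 1 (.leaf (.eq 1659 17043521 [] [.plain 5369 17633345 false])) (.leaf (.mov 1634 17043521 true [.plain 5370 17633345 true, .edge 5364 228 false]))))))))))

/-- The reasons. -/
def caseCFullSrcRLRL : Tab Src := .node 244 caseCFullSrcRLRLL caseCFullSrcRLRLR

/-- The reasons. -/
def caseCFullSrcRLRRL : Tab Src :=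
(.node 122 (.node 61 (.node 30 (.node 15 (.node 7 (.node 3 (.node 1 (.leaf .dfn) (.node 1 (.leaf (.mov 1661 17043521 true [.edge 5372 0 true])) (.leaf .dfn)))
(.node 2 (.node 1 (.leaf (.mov 1662 17043521 true [.edge 5374 0 true])) (.leaf .dfn)) (.node 1 (.leaf (.mov 1663 17043521 true [.edge 5376 0 true])) (.leaf (.rel 280 25567325 7 [.edge 5358 275 false, .edge 5359 79 false, .edge 5372 1407 false, .mul, .edge 5374 1507 false, .mul, .edge 5376 1062 false, .mul])))))
(.node 4 (.node 2 (.node 1 (.leaf (.eq 1663 17043521 [] [.plain 5378 27738201 true])) (.leaf (.eqT 280 13310023 true [.plain 5379 17592403 true, .edge 5377 1099 false] [.edge 4756 0 false]))) (.node 1 (.leaf (.eq 1662 31600721 [] [.plain 5380 17043521 false, .plain 4762 17043521 false])) (.leaf (.eq 1662 17043521 [] [.plain 5381 23470167 false]))))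
(.node 2 (.node 1 (.leaf (.eqT 280 11495495 true [.plain 5382 11350105 true, .edge 5375 1008 false] [.edge 5358 0 false])) (.leaf (.eq 1661 17043521 [] [.plain 5383 25632859 false]))) (.node 1 (.leaf (.mov 1656 10971209 true [.plain 5384 17651777 true, .edge 5373 1340 false])) (.leaf .dfn)))))
(.node 7 (.node 3 (.node 1 (.leaf (.mov 1664 17043521 false [.edge 5386 0 true])) (.node 1 (.leaf .dfn) (.leaf (.mov 1665 17043521 true [.edge 5388 0 true]))))
(.node 2 (.node 1 (.leaf .dfn) (.leaf (.mov 1666 17043521 true [.edge 5390 0 true]))) (.node 1 (.leaf .dfn) (.leaf (.mov 1667 17043521 true [.edge 5392 0 true])))))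
(.node 4 (.node 2 (.node 1 (.leaf (.rel 280 4606041 7 [.edge 5344 504 false, .edge 5386 220 false, .edge 5388 1139 false, .mul, .edge 5390 1199 false, .mul, .edge 5392 1418 false, .mul])) (.leaf (.eq 1667 17043521 [] [.plain 5394 27402329 true]))) (.node 1 (.leaf (.eqT 280 11495495 true [.plain 5395 17125457 true, .edge 5393 1013 false] [.edge 5358 0 false])) (.leaf (.eq 1666 17043521 [] [.plain 5396 4487239 false]))))
(.node 2 (.node 1 (.leaf (.mov 1656 29904967 true [.plain 5397 27816025 true, .edge 5391 886 false])) (.leaf .dfn)) (.node 1 (.leaf .dfn) (.leaf .dfn))))))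
(.node 15 (.node 7 (.node 3 (.node 1 (.leaf (.mov 1670 17043521 false [.edge 5401 0 true])) (.node 1 (.leaf (.rel 283 21852235 0 [.edge 5399 829 false, .mul, .edge 5400 1439 false, .mul, .edge 5401 778 false, .mul, .mul])) (.leaf (.eq 1670 17043521 [] [.plain 5403 19140681 true]))))
(.node 2 (.node 1 (.leaf (.mov 283 9056345 false [.plain 5404 16935003 true, .edge 5402 810 false])) (.leaf .dfn)) (.node 1 (.leaf .dfn) (.leaf (.mov 1672 17043521 true [.edge 5407 0 true])))))
(.node 4 (.node 2 (.node 1 (.leaf (.rel 283 17117263 1 [.edge 1788 1093 false, .mul, .edge 5406 1350 false, .mul, .edge 5407 1053 false, .mul, .mul])) (.leaf (.eq 1672 17043521 [] [.plain 5409 27816005 true]))) (.node 1 (.leaf (.eqT 283 17043521 true [.plain 5410 11300955 true, .edge 5408 1289 false] [.edge 1787 0 false])) (.leaf (.eq 1671 17043521 [] [.plain 5411 9195589 false]))))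
(.node 2 (.node 1 (.leaf .dfn) (.leaf (.mov 283 25385043 true [.plain 1719 26105949 true, .edge 5413 1122 false]))) (.node 1 (.leaf .dfn) (.leaf (.mov 283 13310023 true [.plain 1719 13375565 true, .edge 5415 816 false]))))))
(.node 8 (.node 4 (.node 2 (.node 1 (.leaf .dfn) (.leaf (.mov 283 32131155 true [.plain 1719 31737951 true, .edge 5417 429 false]))) (.node 1 (.leaf .dfn) (.leaf .dfn)))
(.node 2 (.node 1 (.leaf .dfn) (.leaf .dfn)) (.node 1 (.leaf (.mov 283 32125001 true [.plain 1719 31731803 true, .edge 5422 782 false])) (.leaf .dfn))))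
(.node 4 (.node 2 (.node 1 (.leaf .dfn) (.leaf .dfn)) (.node 1 (.leaf (.mov 1694 17043521 false [.edge 5426 0 true])) (.leaf (.rel 283 27949127 6 [.edge 5413 1383 false, .edge 5420 751 false, .mul, .edge 5424 1050 false, .mul, .edge 5425 210 false, .edge 5426 1098 false, .mul]))))
(.node 2 (.node 1 (.leaf (.eq 1694 17043521 [] [.plain 5428 19290197 true])) (.leaf (.eqT 283 6776923 false [.plain 5429 17578075 true, .edge 5427 1172 false] [.edge 5399 0 false]))) (.node 1 (.leaf (.eq 1693 17043521 [] [.plain 5430 27478089 false])) (.leaf .dfn)))))))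
(.node 30 (.node 15 (.node 7 (.node 3 (.node 1 (.leaf (.mov 1695 17043521 false [.edge 5432 0 true])) (.node 1 (.leaf .dfn) (.leaf (.mov 1696 17043521 false [.edge 5434 0 true]))))
(.node 2 (.node 1 (.leaf .dfn) (.leaf (.mov 1697 17043521 true [.edge 5436 0 true]))) (.node 1 (.leaf .dfn) (.leaf (.mov 1698 17043521 false [.edge 5438 0 true])))))
(.node 4 (.node 2 (.node 1 (.leaf (.rel 283 9121881 6 [.edge 5414 1208 false, .edge 5432 275 false, .mul, .edge 5434 1384 false, .mul, .edge 5436 439 false, .edge 5438 407 false, .mul])) (.leaf (.eq 1698 17043521 [] [.plain 5440 19232863 true]))) (.node 1 (.leaf (.eqT 283 9056345 false [.plain 5441 17133639 true, .edge 5439 1073 false] [.edge 5405 0 false])) (.leaf (.eq 1697 17043521 [] [.plain 5442 8542291 false]))))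
(.node 2 (.node 1 (.leaf (.mov 1669 17043521 true [.plain 5443 27867227 true, .edge 5437 1330 false])) (.leaf .dfn)) (.node 1 (.leaf (.eqT 293 23928925 false [.plain 1756 24064077 true, .edge 5445 1441 false] [.edge 5445 0 false])) (.leaf (.eq 1699 17043521 [] [.plain 5446 17698885 false]))))))
(.node 7 (.node 3 (.node 1 (.leaf .dfn) (.node 1 (.leaf (.mov 1699 25385043 true [.plain 5447 25450565 true, .edge 5448 34 false])) (.leaf .dfn)))
(.node 2 (.node 1 (.leaf (.mov 1701 17043521 true [.edge 5450 0 true])) (.leaf .dfn)) (.node 1 (.leaf (.mov 1702 17043521 true [.edge 5452 0 true])) (.leaf (.rel 283 11225163 7 [.edge 1765 1007 false, .edge 5445 540 false, .edge 5448 260 false, .mul, .edge 5450 142 false, .mul, .edge 5452 1504 false, .mul])))))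
(.node 4 (.node 2 (.node 1 (.leaf (.eq 1702 17043521 [] [.plain 5454 10963027 true])) (.leaf (.eqT 283 4808797 true [.plain 5455 9203795 true, .edge 5453 422 false] [.edge 5417 0 false]))) (.node 1 (.leaf (.eq 1701 17043521 [] [.plain 5456 32004175 false])) (.leaf (.mov 1678 29904967 true [.plain 5457 17045579 true, .edge 5451 430 false]))))
(.node 2 (.node 1 (.leaf .dfn) (.leaf .dfn)) (.node 1 (.leaf (.mov 1704 17043521 true [.edge 5460 0 true])) (.leaf .dfn))))))
(.node 15 (.node 7 (.node 3 (.node 1 (.leaf (.mov 1705 17043521 true [.edge 5462 0 true])) (.node 1 (.leaf .dfn) (.leaf (.mov 1706 17043521 true [.edge 5464 0 true]))))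
(.node 2 (.node 1 (.leaf (.rel 283 4862023 7 [.edge 5416 1310 false, .edge 5459 216 false, .edge 5460 742 false, .mul, .edge 5462 1099 false, .mul, .edge 5464 1054 false, .mul])) (.leaf (.eq 1706 17043521 [] [.plain 5466 10905681 true]))) (.node 1 (.leaf (.eqT 283 17043521 true [.plain 5467 9255003 true, .edge 5465 595 false] [.edge 1787 0 false])) (.leaf (.eq 1705 17043521 [] [.plain 5468 29972575 false])))))
(.node 4 (.node 2 (.node 1 (.leaf (.mov 300 13310023 true [.plain 5469 17061971 true, .edge 5463 1186 false])) (.leaf .dfn)) (.node 1 (.leaf (.mov 1707 17043521 false [.edge 5471 0 true])) (.leaf (.rel 286 17043547 0 [.edge 1747 1251 false, .mul, .edge 1778 99 false, .mul, .edge 5471 1238 false, .mul, .mul]))))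
(.node 2 (.node 1 (.leaf (.eq 1707 17043521 [] [.plain 5473 19353667 true])) (.leaf (.eqT 286 19085399 false [.plain 5474 17659971 true, .edge 5472 1165 false] [.edge 1750 0 false]))) (.node 1 (.leaf (.eq 300 17043521 [] [.plain 5475 19757145 false])) (.leaf (.mov 292 25385043 true [.plain 5476 27947103 true, .edge 1779 282 false]))))))
(.node 8 (.node 4 (.node 2 (.node 1 (.leaf (.mov 292 19085399 true [.plain 5476 17193033 true, .edge 5406 1437 false])) (.leaf (.mov 292 6776923 false [.plain 5476 4991045 true, .edge 5421 469 false]))) (.node 1 (.leaf (.mov 292 29904967 true [.plain 5476 32192589 true, .edge 5470 470 false])) (.leaf .dfn)))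
(.node 2 (.node 1 (.leaf .dfn) (.leaf (.mov 1712 17043521 true [.edge 5482 0 true]))) (.node 1 (.leaf (.rel 286 6641729 1 [.edge 1806 1018 false, .mul, .edge 5481 982 false, .mul, .edge 5482 715 false, .mul, .mul])) (.leaf (.eq 1712 17043521 [] [.plain 5484 11352135 true])))))
(.node 4 (.node 2 (.node 1 (.leaf (.mov 286 29904967 true [.plain 5485 27613267 true, .edge 5483 1148 false])) (.leaf .dfn)) (.node 1 (.leaf (.mov 286 11495495 true [.plain 1726 21958747 true, .edge 5487 1366 false])) (.leaf .dfn)))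
(.node 2 (.node 1 (.leaf .dfn) (.leaf (.mov 1718 17043521 true [.edge 5490 0 true]))) (.node 1 (.leaf .dfn) (.leaf (.mov 1719 17043521 false [.edge 5492 0 true])))))))))
(.node 61 (.node 30 (.node 15 (.node 7 (.node 3 (.node 1 (.leaf (.rel 286 17508421 3 [.edge 5488 1397 false, .edge 5489 1424 false, .mul, .edge 5490 1006 false, .mul, .edge 5492 846 false, .mul])) (.node 1 (.leaf (.eq 1719 17043521 [] [.plain 5494 17195103 true])) (.leaf (.eqT 286 17043521 false [.plain 5495 17117263 true, .edge 5493 275 false] [.edge 1747 0 false]))))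
(.node 2 (.node 1 (.leaf (.eq 1718 17043521 [] [.plain 5496 16934981 false])) (.leaf (.mov 292 11495495 true [.plain 5497 11106393 true, .edge 5491 371 false]))) (.node 1 (.leaf .dfn) (.leaf (.mov 1720 17043521 false [.edge 5499 0 true])))))
(.node 4 (.node 2 (.node 1 (.leaf .dfn) (.leaf (.mov 286 13510735 true [.plain 1726 17717329 true, .edge 5501 473 false]))) (.node 1 (.leaf (.mov 286 19085399 true [.plain 1727 23275605 true, .edge 5502 528 false])) (.leaf (.mov 286 32131155 true [.plain 1726 11147333 true, .edge 5503 712 false]))))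
(.node 2 (.node 1 (.leaf .dfn) (.leaf .dfn)) (.node 1 (.leaf .dfn) (.leaf .dfn)))))
(.node 7 (.node 3 (.node 1 (.leaf .dfn) (.node 1 (.leaf (.mov 1727 17043521 false [.edge 5509 0 true])) (.leaf (.rel 286 21526605 6 [.edge 5486 739 false, .edge 5506 1317 false, .mul, .edge 5507 1408 false, .mul, .edge 5508 464 false, .edge 5509 551 false, .mul]))))
(.node 2 (.node 1 (.leaf (.eq 1727 17043521 [] [.plain 5511 19013699 true])) (.leaf (.eqT 286 4808797 false [.plain 5512 17528919 true, .edge 5510 232 false] [.edge 4859 0 false]))) (.node 1 (.leaf (.eq 1726 17043521 [] [.plain 5513 19224655 false])) (.leaf .dfn))))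
(.node 4 (.node 2 (.node 1 (.leaf .dfn) (.leaf .dfn)) (.node 1 (.leaf (.mov 1734 17043521 true [.edge 5517 0 true])) (.leaf (.rel 286 32139351 7 [.edge 5502 400 false, .edge 5505 402 false, .edge 5515 1049 false, .mul, .edge 5516 248 false, .mul, .edge 5517 597 false, .mul]))))
(.node 2 (.node 1 (.leaf (.eq 1734 17043521 [] [.plain 5519 27674705 true])) (.leaf (.eqT 286 4544593 true [.plain 5520 17111113 true, .edge 5518 890 false] [.edge 1806 0 false]))) (.node 1 (.leaf (.eq 1733 17043521 [] [.plain 5521 21504071 false])) (.leaf .dfn))))))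
(.node 15 (.node 7 (.node 3 (.node 1 (.leaf .dfn) (.node 1 (.leaf .dfn) (.leaf (.mov 1737 17043521 false [.edge 5525 0 true]))))
(.node 2 (.node 1 (.leaf (.rel 292 6840409 0 [.edge 5523 980 false, .mul, .edge 5524 169 false, .mul, .edge 5525 629 false, .mul, .mul])) (.leaf (.eq 1737 17043521 [] [.plain 5527 19540045 true]))) (.node 1 (.leaf (.mov 292 4808797 false [.plain 5528 16935003 true, .edge 5526 810 false])) (.leaf .dfn))))
(.node 4 (.node 2 (.node 1 (.leaf .dfn) (.leaf (.mov 1739 17043521 false [.edge 5531 0 true]))) (.node 1 (.leaf .dfn) (.leaf (.mov 1740 17043521 false [.edge 5533 0 true]))))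
(.node 2 (.node 1 (.leaf (.rel 292 14827591 0 [.edge 5530 1194 false, .mul, .edge 5531 699 false, .mul, .edge 5533 622 false, .mul, .mul])) (.leaf (.eq 1740 17043521 [] [.plain 5535 19017793 true]))) (.node 1 (.leaf (.mov 292 7292999 false [.plain 5536 16935003 true, .edge 5534 810 false])) (.leaf .dfn)))))
(.node 8 (.node 4 (.node 2 (.node 1 (.leaf .dfn) (.leaf (.mov 1742 17043521 true [.edge 5539 0 true]))) (.node 1 (.leaf (.rel 292 15562821 1 [.edge 5480 485 false, .mul, .edge 5538 314 false, .mul, .edge 5539 1428 false, .mul, .mul])) (.leaf (.eq 1742 17043521 [] [.plain 5541 17592397 true]))))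
(.node 2 (.node 1 (.leaf (.mov 292 4544593 true [.plain 5542 19142723 true, .edge 5540 394 false])) (.leaf .dfn)) (.node 1 (.leaf (.mov 1743 17043521 true [.edge 5544 0 true])) (.leaf .dfn))))
(.node 4 (.node 2 (.node 1 (.leaf (.mov 1744 17043521 true [.edge 5546 0 true])) (.leaf .dfn)) (.node 1 (.leaf (.mov 1745 17043521 true [.edge 5548 0 true])) (.leaf (.rel 292 6961241 1 [.edge 5544 46 false, .mul, .edge 5546 1383 false, .mul, .edge 5548 227 false, .mul, .mul]))))
(.node 2 (.node 1 (.leaf (.eq 1745 17043521 [] [.plain 5550 27865167 true])) (.leaf (.mov 292 13310023 true [.plain 5551 9007193 true, .edge 5549 1353 false]))) (.node 1 (.leaf .dfn) (.leaf .dfn)))))))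
(.node 30 (.node 15 (.node 7 (.node 3 (.node 1 (.leaf .dfn) (.node 1 (.leaf (.mov 1751 17043521 true [.edge 5555 0 true])) (.leaf .dfn)))
(.node 2 (.node 1 (.leaf (.mov 1752 17043521 false [.edge 5557 0 true])) (.leaf (.rel 292 31811665 3 [.edge 5553 1522 false, .edge 5554 381 false, .mul, .edge 5555 269 false, .mul, .edge 5557 909 false, .mul]))) (.node 1 (.leaf (.eq 1752 17043521 [] [.plain 5559 17178719 true])) (.leaf (.mov 292 13310023 false [.plain 5560 17135697 true, .edge 5558 1087 false])))))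
(.node 4 (.node 2 (.node 1 (.leaf .dfn) (.leaf .dfn)) (.node 1 (.leaf (.mov 1754 17043521 false [.edge 5563 0 true])) (.leaf .dfn)))
(.node 2 (.node 1 (.leaf (.mov 1755 17043521 true [.edge 5565 0 true])) (.leaf .dfn)) (.node 1 (.leaf (.mov 1756 17043521 false [.edge 5567 0 true])) (.leaf (.rel 292 7219293 3 [.edge 5562 1350 false, .edge 5563 131 false, .mul, .edge 5565 539 false, .mul, .edge 5567 985 false, .mul]))))))
(.node 7 (.node 3 (.node 1 (.leaf (.eq 1756 17043521 [] [.plain 5569 17178701 true])) (.node 1 (.leaf (.mov 292 9056345 false [.plain 5570 17109059 true, .edge 5568 1198 false])) (.leaf .dfn)))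
(.node 2 (.node 1 (.leaf .dfn) (.leaf .dfn)) (.node 1 (.leaf .dfn) (.leaf .dfn))))
(.node 4 (.node 2 (.node 1 (.leaf .dfn) (.leaf (.mov 1770 17043521 false [.edge 5577 0 true]))) (.node 1 (.leaf (.rel 292 11147339 6 [.edge 5477 793 false, .plain 1786 25710659 false, .edge 5574 357 false, .mul, .edge 5575 74 false, .mul, .edge 5576 725 false, .edge 5577 1317 false, .mul])) (.leaf (.eq 1770 17043521 [] [.plain 5579 19099729 true]))))
(.node 2 (.node 1 (.leaf (.eqT 292 13310023 false [.plain 5580 17576027 true, .edge 5578 67 false] [.edge 5561 0 false])) (.leaf (.eq 1769 17043521 [] [.plain 5581 19738701 false]))) (.node 1 (.leaf (.rel 292 17528907 7 [.edge 5477 795 false, .plain 1786 17594443 false, .edge 1710 319 false, .edge 550 149 false, .plain 1500 25702465 false, .mul, .edge 1487 1166 false, .plain 3501 11014231 false, .mul, .edge 3118 360 false, .plain 3568 9181259 false, .plain 3574 23478349 false, .mul])) (.leaf (.eq 352 17043521 [] [.plain 5583 21776473 true])))))))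
(.node 15 (.node 7 (.node 3 (.node 1 (.leaf (.eqT 292 13510735 true [.plain 5584 17002573 true, .edge 1979 641 false] [.edge 5562 0 false])) (.node 1 (.leaf (.mov 292 27529303 false [.plain 5584 19865685 true, .edge 3536 1107 false])) (.leaf (.eqT 292 32125001 true [.plain 5584 11096139 true, .edge 3543 1372 false] [.edge 5544 0 false]))))
(.node 2 (.node 1 (.leaf (.mov 292 23928925 false [.plain 5584 13592671 true, .edge 3546 661 false])) (.leaf (.eqT 292 31801425 true [.plain 5584 21440595 true, .edge 3575 582 false] [.edge 5553 0 false]))) (.node 1 (.leaf (.eqT 292 25385043 true [.plain 5584 31922257 true, .edge 4326 234 false] [.edge 5477 0 false])) (.leaf (.eq 1065 11016281 [.plain 3898 11016281 false] [.plain 5590 17043521 false, .plain 1786 11096139 false])))))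
(.node 4 (.node 2 (.node 1 (.leaf (.eq 1049 17043521 [] [.plain 5591 15296591 false])) (.leaf (.eqT 283 17043521 false [.plain 5592 17176659 true, .edge 3846 1523 false] [.edge 1710 0 false]))) (.node 1 (.leaf (.eqT 283 19085399 true [.plain 5592 19148871 true, .edge 3913 160 false] [.edge 5413 0 false])) (.leaf (.eq 1069 17641541 [.plain 4048 17641541 false, .plain 4387 19818561 false] [.plain 5594 17043521 false]))))
(.node 2 (.node 1 (.leaf (.eq 1673 17043521 [] [.plain 5595 17043521 true])) (.leaf (.mov 837 6776923 false [.plain 5596 11030593 true, .edge 5420 570 false]))) (.node 1 (.leaf (.eq 195 17043521 [] [.plain 5593 4749381 false])) (.leaf (.eqT 57 19085399 true [.plain 5598 9244751 true, .edge 3854 159 false] [.edge 444 0 false]))))))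
(.node 8 (.node 4 (.node 2 (.node 1 (.leaf (.eqT 57 10971209 true [.plain 5598 21966933 true, .edge 3867 372 false] [.edge 547 0 false])) (.leaf (.eqT 57 29904967 true [.plain 5598 4999261 true, .edge 3877 1486 false] [.edge 1722 0 false]))) (.node 1 (.leaf (.eqT 57 9056345 false [.plain 5598 25712715 true, .edge 3888 1114 false] [.edge 5236 0 false])) (.leaf (.eqT 57 6776923 false [.plain 5598 21573707 true, .edge 3921 445 false] [.edge 1609 0 false]))))
(.node 2 (.node 1 (.leaf (.eq 1073 17043521 [] [.plain 5603 17125447 false])) (.leaf (.eqT 265 19085399 true [.plain 5604 19034185 true, .edge 3927 369 false] [.edge 4844 0 false]))) (.node 1 (.leaf (.eq 1395 17043521 [] [.plain 5605 8933449 true])) (.leaf (.eq 1577 17043521 [] [.plain 5602 19355721 true])))))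
(.node 4 (.node 2 (.node 1 (.leaf (.mov 1062 29904967 true [.plain 5607 17109085 true, .edge 5196 614 false])) (.leaf (.eq 1060 11368523 [.plain 4327 11368523 false] [.plain 5601 17043521 false]))) (.node 1 (.leaf (.eq 767 17043521 [] [.plain 5609 13590601 false])) (.leaf (.eqT 286 17059919 true [.plain 5610 27924563 true, .edge 3161 214 false] [.edge 1728 0 false]))))
(.node 2 (.node 1 (.leaf (.eqT 286 29904967 false [.plain 5610 15345731 true, .edge 4328 1076 false] [.edge 4860 0 false])) (.leaf (.eqT 286 32125001 true [.plain 5610 8798289 true, .edge 4331 769 false] [.edge 5487 0 false]))) (.node 1 (.leaf (.eq 1715 17043521 [] [.plain 5613 17043521 true])) (.leaf (.mov 1079 17043521 false [.plain 5614 23291997 true, .edge 5489 62 false]))))))))))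

/-- The reasons. -/
def caseCFullSrcRLRRR : Tab Src :=
(.node 122 (.node 61 (.node 30 (.node 15 (.node 7 (.node 3 (.node 1 (.leaf (.eq 1411 17043521 [] [.plain 5612 17043521 true])) (.node 1 (.leaf (.eqT 1061 25385043 true [.plain 5616 25710685 true, .edge 4861 491 false] [.edge 3883 0 false])) (.leaf (.eq 1412 17043521 [] [.plain 5617 27859009 false]))))
(.node 2 (.node 1 (.leaf (.mov 1062 29904967 false [.plain 5618 19290183 true, .edge 4862 817 false])) (.leaf (.eq 768 19232841 [] [.plain 5611 17043521 false, .plain 1734 17043521 false]))) (.node 1 (.leaf (.eq 768 17043521 [] [.plain 5620 19232843 false])) (.leaf (.eqT 286 25385043 true [.plain 5621 26101825 true, .edge 4342 1183 false] [.edge 5501 0 false])))))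
(.node 4 (.node 2 (.node 1 (.leaf (.eq 769 27881539 [.plain 3168 27881539 false] [.plain 5622 17043521 false])) (.leaf (.eq 1721 17043521 [] [.plain 5623 17043521 true]))) (.node 1 (.leaf (.mov 765 10971209 false [.plain 5624 21198921 true, .edge 5505 1397 false])) (.leaf (.eq 1055 25778243 [] [.plain 5600 17043521 false, .plain 1500 27807811 false]))))
(.node 2 (.node 1 (.leaf (.eq 1055 17043521 [] [.plain 5626 11350083 false])) (.leaf (.eqT 71 7292999 false [.plain 5627 7026767 true, .edge 3902 1085 false] [.edge 1774 0 false]))) (.node 1 (.leaf (.eqT 71 31801425 false [.plain 5627 31875159 true, .edge 3943 629 false] [.edge 1754 0 false])) (.leaf (.eq 1078 17043521 [] [.plain 5629 16918597 false]))))))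
(.node 7 (.node 3 (.node 1 (.leaf (.mov 293 17043521 true [.plain 5630 17641567 true, .edge 3944 101 false])) (.node 1 (.leaf (.mov 293 11495495 true [.plain 1756 11030593 true, .edge 5631 1107 false])) (.leaf (.eq 1068 17043521 [] [.plain 5628 16982089 false]))))
(.node 2 (.node 1 (.leaf (.mov 299 17043521 true [.plain 5633 16918597 true, .edge 3928 1466 false])) (.leaf (.eq 1052 27807817 [.plain 4186 27807817 false] [.plain 5599 17043521 false, .plain 451 17043521 false]))) (.node 1 (.leaf (.eq 206 17043521 [] [.plain 5635 21198919 false])) (.leaf (.eqT 53 10971209 true [.plain 5636 19884103 true, .edge 4164 1136 false] [.edge 453 0 false])))))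
(.node 4 (.node 2 (.node 1 (.leaf (.eq 1149 27531337 [.plain 4184 27531337 false] [.plain 5637 17043521 false])) (.leaf (.eq 207 17043521 [] [.plain 5638 17135699 false]))) (.node 1 (.leaf (.eqT 57 31801425 true [.plain 5639 4997191 true, .edge 4395 57 false] [.edge 1807 0 false])) (.leaf (.eq 1189 17043521 [] [.plain 5640 17659985 false]))))
(.node 2 (.node 1 (.leaf (.eqT 307 27529303 false [.plain 5641 27799629 true, .edge 4403 324 false] [.edge 1817 0 false])) (.leaf (.eq 1190 17043521 [] [.plain 5642 17197123 false]))) (.node 1 (.leaf (.eqT 308 17059919 true [.plain 5643 17461333 true, .edge 4404 459 false] [.edge 1820 0 false])) (.leaf (.eq 1191 19216457 [] [.plain 5644 17043521 false, .plain 1832 17043521 false, .plain 2840 6582355 false])))))))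
(.node 15 (.node 7 (.node 3 (.node 1 (.leaf (.eq 1191 17043521 [] [.plain 5645 19214411 false])) (.node 1 (.leaf (.eqT 145 13310023 true [.plain 5646 19355717 true, .edge 4405 127 false] [.edge 2841 0 false])) (.leaf (.eq 1192 17578073 [.plain 4411 17578073 false] [.plain 5647 17043521 false, .plain 1514 27605065 false]))))
(.node 2 (.node 1 (.leaf (.eq 1167 17043521 [] [.plain 5648 17766481 false])) (.leaf (.eqT 71 10971209 false [.plain 5649 19732559 true, .edge 4233 395 false] [.edge 1752 0 false]))) (.node 1 (.leaf (.eq 1176 17043521 [] [.plain 5650 16922691 false])) (.leaf (.eqT 293 19085399 true [.plain 5651 19208277 true, .edge 4234 797 false] [.edge 1757 0 false])))))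
(.node 4 (.node 2 (.node 1 (.leaf (.eq 1177 19159131 [.plain 4240 19159131 false] [.plain 5652 17043521 false, .plain 1764 17043521 false])) (.leaf (.eq 1164 17043521 [] [.plain 5653 19867723 false]))) (.node 1 (.leaf (.eqT 283 17059919 true [.plain 5654 17133655 true, .edge 4274 637 false] [.edge 1788 0 false])) (.leaf (.eq 1184 19206235 [] [.plain 5655 17043521 false, .plain 5476 19609671 false]))))
(.node 2 (.node 1 (.leaf (.eq 1184 17043521 [] [.plain 5656 19206235 false])) (.leaf (.eqT 292 19085399 false [.plain 5657 17133647 true, .edge 4264 1098 false] [.edge 1778 0 false]))) (.node 1 (.leaf (.eq 1179 19165265 [.plain 4361 19165265 false] [.plain 5658 17043521 false, .plain 5476 17043521 false])) (.leaf (.eq 862 17043521 [] [.plain 5659 9060417 false]))))))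
(.node 8 (.node 4 (.node 2 (.node 1 (.leaf (.eqT 292 17043521 false [.plain 5660 27881559 true, .edge 3417 289 false] [.edge 1748 0 false])) (.leaf (.eqT 292 10971209 true [.plain 5660 6584411 true, .edge 3458 59 false] [.edge 5572 0 false]))) (.node 1 (.leaf (.eq 1761 17043521 [] [.plain 5662 17043521 true])) (.leaf (.mov 872 9056345 false [.plain 5663 17635403 true, .edge 5573 341 false]))))
(.node 2 (.node 1 (.leaf (.eq 863 16922691 [.plain 3420 16922691 false] [.plain 5661 17043521 false])) (.leaf (.eq 286 17043521 [] [.plain 5665 17127489 true]))) (.node 1 (.leaf (.eqT 144 17059919 true [.plain 5666 7217233 true, .edge 5504 313 false] [.edge 965 0 false])) (.leaf (.eq 1721 25434187 [.plain 5624 25434187 false] [.plain 5667 17043521 false])))))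
(.node 4 (.node 2 (.node 1 (.leaf (.eq 765 17043521 [] [.plain 5668 23951449 false])) (.leaf (.mov 145 10971209 true [.plain 5669 32202825 true, .edge 3155 1504 false]))) (.node 1 (.leaf (.eqT 145 27529303 false [.plain 5669 23533655 true, .edge 5625 1488 false] [.edge 1076 0 false])) (.leaf (.eq 1722 16934989 [] [.plain 5671 17043521 false, .plain 2840 19294273 false]))))
(.node 2 (.node 1 (.leaf (.eq 1722 17043521 [] [.plain 5672 17506399 false])) (.leaf (.eqT 145 32131155 true [.plain 5673 8536149 true, .edge 5515 311 false] [.edge 2842 0 false]))) (.node 1 (.leaf (.eq 1732 17043521 [] [.plain 5674 9001025 false])) (.leaf (.eqT 188 19085399 true [.plain 5675 29827165 true, .edge 5516 870 false] [.edge 3351 0 false]))))))))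
(.node 30 (.node 15 (.node 7 (.node 3 (.node 1 (.leaf (.eq 1733 19150937 [.plain 5522 19150937 false] [.plain 5676 17043521 false])) (.node 1 (.leaf (.eq 304 17043521 [] [.plain 5677 15540289 false])) (.leaf (.eqT 134 19085399 true [.plain 5678 9050203 true, .edge 5481 216 false] [.edge 911 0 false]))))
(.node 2 (.node 1 (.leaf (.eq 1711 19667019 [] [.plain 5679 17043521 false, .plain 918 17043521 false])) (.leaf (.eq 1711 17043521 [] [.plain 5680 19732569 false]))) (.node 1 (.leaf (.mov 123 32125001 false [.plain 5681 31858757 true, .edge 5499 650 false])) (.leaf (.eqT 123 7292999 false [.plain 5681 6907989 true, .edge 5506 261 false] [.edge 2917 0 false])))))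
(.node 4 (.node 2 (.node 1 (.leaf (.eq 1724 17635405 [] [.plain 5683 17043521 false, .plain 4288 17004609 false])) (.leaf (.eq 1724 17043521 [] [.plain 5684 17635421 false]))) (.node 1 (.leaf (.eqT 214 29904967 false [.plain 5685 19292247 true, .edge 5507 918 false] [.edge 3978 0 false])) (.leaf (.eq 1725 17719389 [] [.plain 5686 17043521 false, .plain 4296 17043521 false, .plain 4352 17051717 false]))))
(.node 2 (.node 1 (.leaf (.eq 1725 17043521 [] [.plain 5687 17444937 false])) (.leaf (.eqT 144 19085399 true [.plain 5688 9269341 true, .edge 5508 208 false] [.edge 3309 0 false]))) (.node 1 (.leaf (.eq 1726 27799619 [.plain 5514 27799619 false, .plain 5606 21831769 false] [.plain 5689 17043521 false, .plain 3317 17043521 false])) (.leaf (.eq 1072 17043521 [] [.plain 5690 21192793 false]))))))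
(.node 7 (.node 3 (.node 1 (.leaf (.eqT 123 31801425 true [.plain 5691 19085389 true, .edge 3915 49 false] [.edge 3518 0 false])) (.node 1 (.leaf (.eq 1073 17051713 [.plain 5604 17051713 false] [.plain 5692 17043521 false])) (.leaf (.eq 265 17043521 [] [.plain 5693 17135703 false]))))
(.node 2 (.node 1 (.leaf (.eqT 39 6776923 false [.plain 5694 19271755 true, .edge 4866 766 false] [.edge 1267 0 false])) (.leaf (.eq 1412 19675205 [.plain 5618 19675205 false] [.plain 5695 17043521 false, .plain 5636 17242181 false]))) (.node 1 (.leaf (.eq 1062 17043521 [] [.plain 5696 8933461 false])) (.leaf (.eqT 53 10971209 true [.plain 5697 4812871 true, .edge 5608 943 false] [.edge 453 0 false])))))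
(.node 4 (.node 2 (.node 1 (.leaf (.eqT 53 32125001 false [.plain 5697 11014237 true, .edge 5619 989 false] [.edge 1766 0 false])) (.leaf (.eq 1413 17510471 [.plain 4865 17510471 false, .plain 5694 19292247 false] [.plain 5699 17043521 false]))) (.node 1 (.leaf (.eq 296 17043521 [] [.plain 5700 17043521 true])) (.leaf (.eqT 39 19085399 true [.plain 5701 25440345 true, .edge 1768 91 false] [.edge 339 0 false]))))
(.node 2 (.node 1 (.leaf (.eq 297 11087939 [] [.plain 5702 17043521 false, .plain 346 17043521 false])) (.leaf (.eq 297 17043521 [] [.plain 5703 11098179 false]))) (.node 1 (.leaf (.eq 1578 19667027 [.plain 5199 19667027 false] [.plain 5698 17043521 false])) (.leaf (.eq 275 17043521 [] [.plain 5705 8863809 false])))))))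
(.node 15 (.node 7 (.node 3 (.node 1 (.leaf (.eqT 57 23928925 false [.plain 5706 31608917 true, .edge 5254 49 false] [.edge 1789 0 false])) (.node 1 (.leaf (.eq 1594 17043521 [] [.plain 5707 27529281 false])) (.leaf (.eqT 303 17059919 true [.plain 5708 27545679 true, .edge 5260 1522 false] [.edge 1797 0 false]))))
(.node 2 (.node 1 (.leaf (.eq 1593 19015745 [] [.plain 5709 17043521 false, .plain 5678 19675203 false])) (.leaf (.eq 1593 17043521 [] [.plain 5710 19079233 false]))) (.node 1 (.leaf (.eqT 134 13310023 false [.plain 5711 17705025 true, .edge 5247 501 false] [.edge 2909 0 false])) (.leaf (.eqT 134 13310023 true [.plain 5711 17705025 true, .edge 5248 326 false] [.edge 4303 0 false])))))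
(.node 4 (.node 2 (.node 1 (.leaf (.eq 1594 9189467 [.plain 5708 9189467 false] [.plain 5713 17043521 false, .plain 1262 17117257 false, .plain 5598 17786955 false])) (.leaf (.eq 303 17043521 [] [.plain 5714 19755083 false]))) (.node 1 (.leaf (.eqT 57 31801425 true [.plain 5715 25524301 true, .edge 1797 389 false] [.edge 1807 0 false])) (.leaf (.eq 304 9271377 [.plain 5678 9271377 false] [.plain 5716 17043521 false]))))
(.node 2 (.node 1 (.leaf (.eq 307 17043521 [] [.plain 5717 17043521 true])) (.leaf (.eqT 134 10971209 false [.plain 5718 19540035 true, .edge 1819 1173 false] [.edge 3363 0 false]))) (.node 1 (.leaf (.eq 837 17043521 [] [.plain 5719 25628763 true])) (.leaf (.mov 308 11495495 true [.plain 5720 27799619 true, .edge 3355 788 false]))))))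
(.node 8 (.node 4 (.node 2 (.node 1 (.leaf (.mov 308 17043521 true [.plain 5720 4880461 true, .edge 4376 1206 false])) (.leaf (.mov 308 19085399 false [.plain 5720 15622239 true, .edge 4388 70 false]))) (.node 1 (.leaf (.mov 308 25385043 true [.plain 5720 23537731 true, .edge 4389 285 false])) (.leaf (.eqT 308 17059919 true [.plain 5720 21117011 true, .edge 4390 1275 false] [.edge 1820 0 false]))))
(.node 2 (.node 1 (.leaf (.mov 308 10971209 true [.plain 5720 27816029 true, .edge 4391 1135 false])) (.leaf (.mov 308 13310023 false [.plain 5720 6649943 true, .edge 5597 1410 false]))) (.node 1 (.leaf (.eq 1111 16982103 [.plain 4386 16982103 false] [.plain 5725 17043521 false, .plain 1832 17043521 false, .plain 2840 6582355 false])) (.leaf (.eq 841 17043521 [] [.plain 5728 17193055 false])))))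
(.node 4 (.node 2 (.node 1 (.leaf (.eqT 145 13310023 false [.plain 5729 16984151 true, .edge 3371 526 false] [.edge 2844 0 false])) (.leaf (.eq 840 17043521 [] [.plain 5730 17592397 false]))) (.node 1 (.leaf (.mov 374 17059919 true [.plain 5731 17059913 true, .edge 3366 1300 false])) (.leaf (.mov 374 19085399 true [.plain 5731 19085385 true, .edge 3397 1465 false]))))
(.node 2 (.node 1 (.leaf (.mov 374 11495495 true [.plain 5731 11495509 true, .edge 4380 71 false])) (.leaf (.mov 374 4808797 false [.plain 5731 4808771 true, .edge 4381 1282 false]))) (.node 1 (.leaf (.mov 374 19085399 false [.plain 5731 19085385 true, .edge 4383 1282 false])) (.leaf (.mov 374 29904967 false [.plain 5731 29904973 true, .edge 4384 759 false])))))))))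
(.node 61 (.node 30 (.node 15 (.node 7 (.node 3 (.node 1 (.leaf (.mov 374 32131155 true [.plain 5731 32131165 true, .edge 4385 1129 false])) (.node 1 (.leaf (.eq 1592 19818573 [] [.plain 5712 17043521 false, .plain 4285 17043521 false])) (.leaf (.eq 1592 17043521 [] [.plain 5739 19544155 false]))))
(.node 2 (.node 1 (.leaf (.eqT 200 13510735 false [.plain 5740 17705055 true, .edge 5245 1347 false] [.edge 1249 0 false])) (.leaf (.eq 1580 25450563 [] [.plain 5741 17043521 false, .plain 4302 17592389 false]))) (.node 1 (.leaf (.eq 1580 17043521 [] [.plain 5742 25458755 false])) (.leaf (.eqT 134 27529303 false [.plain 5743 32053315 true, .edge 5222 151 false] [.edge 3360 0 false])))))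
(.node 4 (.node 2 (.node 1 (.leaf (.eq 1581 16988251 [] [.plain 5744 17043521 false, .plain 5720 29778001 false])) (.leaf (.eq 1581 17043521 [] [.plain 5745 17180767 false]))) (.node 1 (.leaf (.eqT 308 25385043 true [.plain 5746 26161235 true, .edge 5237 758 false] [.edge 5724 0 false])) (.leaf (.eqT 308 17043521 true [.plain 5746 17586241 true, .edge 5261 976 false] [.edge 5722 0 false]))))
(.node 2 (.node 1 (.leaf (.eq 1599 17569873 [.plain 5272 17569873 false] [.plain 5748 17043521 false])) (.leaf (.eq 1506 17043521 [] [.plain 5749 19867713 false]))) (.node 1 (.leaf (.mov 845 25385043 true [.plain 5750 27809875 true, .edge 5012 119 false])) (.leaf (.mov 845 19085399 true [.plain 5750 17053783 true, .edge 5016 1047 false]))))))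
(.node 7 (.node 3 (.node 1 (.leaf (.mov 845 19085399 false [.plain 5750 17053783 true, .edge 5041 766 false])) (.node 1 (.leaf (.mov 845 11495495 true [.plain 5750 8546375 true, .edge 5088 853 false])) (.leaf (.eq 1587 19150913 [.plain 5243 19150913 false] [.plain 5747 17043521 false, .plain 3911 8917083 false, .plain 5592 11098203 false]))))
(.node 2 (.node 1 (.leaf (.eq 1529 17043521 [] [.plain 5755 23668825 false])) (.leaf (.eqT 283 10971209 true [.plain 5756 10975321 true, .edge 5076 742 false] [.edge 1765 0 false]))) (.node 1 (.leaf (.eq 1530 17043521 [] [.plain 5757 17659993 false])) (.leaf (.eqT 293 11495495 true [.plain 5758 14966873 true, .edge 5081 86 false] [.edge 5632 0 false])))))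
(.node 4 (.node 2 (.node 1 (.leaf (.eq 1531 8990801 [.plain 5087 8990801 false, .plain 5750 25380951 false] [.plain 5759 17043521 false])) (.leaf (.eq 1079 17043521 [] [.plain 5760 9181265 true]))) (.node 1 (.leaf (.eqT 845 25385043 true [.plain 5761 27934797 true, .edge 3945 900 false] [.edge 5751 0 false])) (.leaf (.eqT 845 19085399 false [.plain 5761 17178691 true, .edge 5615 1333 false] [.edge 5753 0 false]))))
(.node 2 (.node 1 (.leaf (.eq 1717 17043521 [] [.plain 5763 17176653 false])) (.leaf (.mov 1518 25385043 true [.plain 5764 25434177 true, .edge 5490 1227 false]))) (.node 1 (.leaf (.eq 1080 25710657 [.plain 3952 25710657 false, .plain 4327 24070211 false, .plain 5610 32073799 false, .plain 5666 11225155 false] [.plain 5762 17043521 false])) (.leaf (.eq 272 17043521 [] [.plain 5766 31731801 true])))))))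
(.node 15 (.node 7 (.node 3 (.node 1 (.leaf (.eqT 144 31801425 true [.plain 5767 27752543 true, .edge 5010 1464 false] [.edge 4355 0 false])) (.node 1 (.leaf (.eqT 144 17059919 true [.plain 5767 29507659 true, .edge 5026 122 false] [.edge 965 0 false])) (.leaf (.eqT 144 19085399 true [.plain 5767 9324619 true, .edge 5047 153 false] [.edge 3309 0 false]))))
(.node 2 (.node 1 (.leaf (.eq 1521 8999001 [] [.plain 5770 17043521 false, .plain 3317 17043521 false])) (.leaf (.eq 1521 17043521 [] [.plain 5771 11024475 false]))) (.node 1 (.leaf (.eqT 123 7292999 false [.plain 5772 23294025 true, .edge 5048 786 false] [.edge 2917 0 false])) (.leaf (.eq 1522 17512521 [] [.plain 5773 17043521 false, .plain 4288 17004609 false])))))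
(.node 4 (.node 2 (.node 1 (.leaf (.eq 1522 17043521 [] [.plain 5774 17721437 false])) (.leaf (.eqT 214 29904967 false [.plain 5775 19206221 true, .edge 5049 895 false] [.edge 3978 0 false]))) (.node 1 (.leaf (.eq 1523 16988231 [] [.plain 5776 17043521 false, .plain 4296 17043521 false, .plain 4352 17051717 false])) (.leaf (.eq 1523 17043521 [] [.plain 5777 17180745 false]))))
(.node 2 (.node 1 (.leaf (.eqT 144 19085399 true [.plain 5778 8536131 true, .edge 5050 1515 false] [.edge 3309 0 false])) (.leaf (.eq 1524 11030603 [.plain 5056 11030603 false] [.plain 5779 17043521 false, .plain 3317 17043521 false]))) (.node 1 (.leaf (.eq 273 17043521 [] [.plain 5780 9263177 false])) (.leaf (.eqT 123 13510735 true [.plain 5781 8874079 true, .edge 5124 797 false] [.edge 4350 0 false]))))))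
(.node 8 (.node 4 (.node 2 (.node 1 (.leaf (.eqT 123 13510735 false [.plain 5781 8874079 true, .edge 5139 688 false] [.edge 2953 0 false])) (.leaf (.eqT 123 25385043 true [.plain 5781 21831757 true, .edge 5143 457 false] [.edge 897 0 false]))) (.node 1 (.leaf (.eq 1554 17043521 [] [.plain 5784 9197633 false])) (.leaf (.eqT 129 31801425 false [.plain 5785 19337297 true, .edge 5144 275 false] [.edge 2968 0 false]))))
(.node 2 (.node 1 (.leaf (.eqT 129 19085399 false [.plain 5785 13527127 true, .edge 5158 888 false] [.edge 2980 0 false])) (.leaf (.eqT 129 29904967 true [.plain 5785 23355463 true, .edge 5193 982 false] [.edge 3126 0 false]))) (.node 1 (.leaf (.eq 1571 25380929 [] [.plain 5788 17043521 false, .plain 3525 17043521 false, .plain 3528 9263191 false])) (.leaf (.eq 1571 17043521 [] [.plain 5789 7022657 false])))))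
(.node 4 (.node 2 (.node 1 (.leaf (.eqT 62 19085399 true [.plain 5790 27791443 true, .edge 5184 1187 false] [.edge 1157 0 false])) (.leaf (.eq 1570 10711109 [] [.plain 5791 17043521 false, .plain 1511 19157063 false]))) (.node 1 (.leaf (.eq 1570 17043521 [] [.plain 5792 29960267 false])) (.leaf (.eqT 71 9056345 false [.plain 5793 17444931 true, .edge 5182 623 false] [.edge 1556 0 false]))))
(.node 2 (.node 1 (.leaf (.eq 1546 23617627 [] [.plain 5794 17043521 false, .plain 3598 17068117 false])) (.leaf (.eq 1546 17043521 [] [.plain 5795 8808519 false]))) (.node 1 (.leaf (.mov 145 4544593 true [.plain 5796 11024465 true, .edge 5126 594 false])) (.leaf (.eqT 123 4544593 true [.plain 5781 21192799 true, .edge 5797 21 true] [.edge 2897 0 false]))))))))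
(.node 31 (.node 15 (.node 7 (.node 3 (.node 1 (.leaf (.eq 683 17043521 [] [.plain 5798 17043521 true])) (.node 1 (.leaf (.eqT 145 29904967 true [.plain 5799 19673159 true, .edge 2901 558 false] [.edge 3604 0 false])) (.leaf (.eqT 145 4808797 false [.plain 5799 17258589 true, .edge 2932 266 false] [.edge 3425 0 false]))))
(.node 2 (.node 1 (.leaf (.eqT 145 9056345 false [.plain 5799 23621721 true, .edge 2957 541 false] [.edge 3596 0 false])) (.leaf (.eqT 145 19085399 true [.plain 5799 5066839 true, .edge 2979 661 false] [.edge 3075 0 false]))) (.node 1 (.leaf (.eq 734 17043521 [] [.plain 5803 5064795 true])) (.leaf (.mov 710 17059919 true [.plain 5804 27553859 true, .edge 3066 353 false])))))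
(.node 4 (.node 2 (.node 1 (.leaf (.mov 710 23928925 false [.plain 5804 15550553 true, .edge 3622 771 false])) (.leaf (.eq 895 17043521 [] [.plain 5802 19206221 true]))) (.node 1 (.leaf (.eq 864 17043521 [] [.plain 5801 17043521 true])) (.leaf (.eq 684 19738689 [.plain 2907 19738689 false, .plain 5799 19159111 false] [.plain 5800 17043521 false]))))
(.node 2 (.node 1 (.leaf (.eq 897 17043521 [] [.plain 5809 17043521 true])) (.leaf (.eqT 145 29904967 false [.plain 5810 17594459 true, .edge 3606 179 false] [.edge 3413 0 false]))) (.node 1 (.leaf (.eqT 145 31801425 true [.plain 5810 10645583 true, .edge 3621 348 false] [.edge 3585 0 false])) (.leaf (.eq 906 17043521 [] [.plain 5812 31670363 false]))))))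
(.node 8 (.node 4 (.node 2 (.node 1 (.leaf (.mov 890 25385043 true [.plain 5813 17111129 true, .edge 3612 1087 false])) (.leaf (.eq 900 17043521 [] [.plain 5811 17522767 false]))) (.node 1 (.leaf (.mov 860 19085399 false [.plain 5815 19814495 true, .edge 3607 1419 false])) (.leaf (.eq 1563 17649743 [] [.plain 5787 17043521 false, .plain 2986 17043521 false]))))
(.node 2 (.node 1 (.leaf (.eq 1563 17043521 [] [.plain 5817 17649741 false])) (.leaf (.eqT 129 17043521 false [.plain 5818 19017811 true, .edge 5159 141 false] [.edge 863 0 false]))) (.node 1 (.leaf (.eq 1564 17043521 [] [.plain 5819 17125461 false])) (.leaf (.eqT 126 17043521 true [.plain 5820 19275841 true, .edge 5160 20 false] [.edge 845 0 false])))))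
(.node 4 (.node 2 (.node 1 (.leaf (.eq 1565 9246787 [.plain 5166 9246787 false] [.plain 5821 17043521 false])) (.leaf (.eq 1537 17043521 [] [.plain 5822 19341403 false]))) (.node 1 (.leaf (.eqT 22 11495495 true [.plain 5823 27478083 true, .edge 5157 617 false] [.edge 257 0 false])) (.leaf (.eq 1560 17043521 [] [.plain 5824 6824007 false]))))
(.node 2 (.node 1 (.leaf (.eqT 31 13510735 false [.plain 5825 17461343 true, .edge 5148 1032 false] [.edge 901 0 false])) (.leaf (.eq 1559 17043521 [] [.plain 5826 19157057 false]))) (.node 1 (.leaf (.eqT 134 19085399 false [.plain 5827 17133635 true, .edge 5146 1465 false] [.edge 1101 0 false])) (.leaf (.eq 1368 13377611 [] [.plain 5828 17043521 false, .plain 1107 17043521 false])))))))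
(.node 15 (.node 7 (.node 3 (.node 1 (.leaf (.eq 1368 17043521 [] [.plain 5829 12734535 false])) (.node 1 (.leaf (.eqT 134 13310023 false [.plain 5830 17459287 true, .edge 4776 1494 false] [.edge 2909 0 false])) (.leaf (.eq 1367 27539529 [] [.plain 5831 17043521 false, .plain 4285 17043521 false]))))
(.node 2 (.node 1 (.leaf (.eq 1367 17043521 [] [.plain 5832 27539529 false])) (.leaf (.eqT 200 13510735 true [.plain 5833 11350091 true, .edge 4774 1476 false] [.edge 1343 0 false]))) (.node 1 (.leaf (.eq 262 17043521 [] [.plain 5834 25643099 false])) (.leaf (.eqT 214 32125001 true [.plain 5835 29646915 true, .edge 1708 1260 false] [.edge 4208 0 false])))))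
(.node 4 (.node 2 (.node 1 (.leaf (.eqT 214 32125001 false [.plain 5835 29646915 true, .edge 4755 48 false] [.edge 3995 0 false])) (.leaf (.eqT 214 31801425 true [.plain 5835 30107717 true, .edge 4764 338 false] [.edge 4290 0 false]))) (.node 1 (.leaf (.eqT 214 4808797 true [.plain 5835 6957131 true, .edge 4786 1108 false] [.edge 4042 0 false])) (.leaf (.eqT 214 7292999 false [.plain 5835 5058655 true, .edge 4803 961 false] [.edge 4294 0 false]))))
(.node 2 (.node 1 (.leaf (.eqT 214 4544593 true [.plain 5835 6713439 true, .edge 4804 255 false] [.edge 3971 0 false])) (.leaf (.eqT 214 19085399 true [.plain 5835 17506371 true, .edge 4808 291 false] [.edge 4413 0 false]))) (.node 1 (.leaf (.eq 1377 11284563 [] [.plain 5842 17043521 false, .plain 4496 25784411 false])) (.leaf (.eq 1377 17043521 [] [.plain 5843 27875417 false]))))))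
(.node 8 (.node 4 (.node 2 (.node 1 (.leaf (.eqT 758 17043521 false [.plain 5844 6891591 true, .edge 4809 341 false] [.edge 3137 0 false])) (.leaf (.eq 1378 17569885 [] [.plain 5845 17043521 false, .plain 3568 13113429 false, .plain 3574 27553875 false, .plain 5584 13254739 false]))) (.node 1 (.leaf (.eq 1378 17043521 [] [.plain 5846 17569871 false])) (.leaf (.eqT 292 29904967 false [.plain 5847 16934987 true, .edge 4810 401 false] [.edge 5523 0 false]))))
(.node 2 (.node 1 (.leaf (.eqT 292 31801425 true [.plain 5847 11343941 true, .edge 4833 543 false] [.edge 5553 0 false])) (.leaf (.eq 1749 17043521 [] [.plain 5849 17043521 true]))) (.node 1 (.leaf (.mov 1386 27529303 false [.plain 5850 11016279 true, .edge 5554 700 false])) (.leaf (.eq 1377 29976649 [.plain 5844 29976649 false] [.plain 5848 17043521 false])))))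
(.node 4 (.node 2 (.node 1 (.leaf (.eq 1735 17043521 [] [.plain 5852 17043521 true])) (.leaf (.eqT 758 19085399 false [.plain 5853 19540047 true, .edge 5524 763 false] [.edge 3139 0 false]))) (.node 1 (.leaf (.eq 1736 17240143 [] [.plain 5854 17043521 false, .plain 3150 17043521 false])) (.leaf (.eq 1736 17043521 [] [.plain 5855 17240137 false]))))
(.node 2 (.node 1 (.leaf (.mov 710 19085399 false [.plain 5856 19730497 true, .edge 5525 145 false])) (.leaf (.eq 1375 17567819 [] [.plain 5841 17043521 false, .plain 3977 17043521 false]))) (.node 1 (.leaf (.eq 1375 17043521 [] [.plain 5858 17567835 false])) (.leaf (.eqT 214 10971209 false [.plain 5859 17176647 true, .edge 4822 893 false] [.edge 4454 0 false]))))))))))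

/-- The reasons. -/
def caseCFullSrcRLRR : Tab Src := .node 244 caseCFullSrcRLRRL caseCFullSrcRLRRR

/-- The reasons. -/
def caseCFullSrcRLR : Tab Src := .node 488 caseCFullSrcRLRL caseCFullSrcRLRR

/-- The reasons. -/
def caseCFullSrcRL : Tab Src := .node 977 caseCFullSrcRLL caseCFullSrcRLR

/-- The reasons. -/
def caseCFullSrcRRLLL : Tab Src :=
(.node 122 (.node 61 (.node 30 (.node 15 (.node 7 (.node 3 (.node 1 (.leaf (.eq 1382 17043521 [] [.plain 5860 17715271 false])) (.node 1 (.leaf (.mov 1211 4808797 false [.plain 5861 19079241 true, .edge 4823 903 false])) (.leaf (.eq 1373 17043521 [] [.plain 5840 25761859 false]))))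
(.node 2 (.node 1 (.leaf (.eqT 1118 25385043 true [.plain 5863 17053765 true, .edge 4821 690 false] [.edge 4442 0 false])) (.leaf (.eq 1379 17043521 [] [.plain 5864 4730949 false]))) (.node 1 (.leaf (.mov 1205 19085399 false [.plain 5865 17715271 true, .edge 4812 543 false])) (.leaf (.eq 1371 27531331 [] [.plain 5839 17043521 false, .plain 4298 16937027 false])))))
(.node 4 (.node 2 (.node 1 (.leaf (.eq 1371 17043521 [] [.plain 5867 27531331 false])) (.leaf (.eqT 123 13510735 false [.plain 5868 17635413 true, .edge 4794 627 false] [.edge 2953 0 false]))) (.node 1 (.leaf (.eq 1372 17043521 [] [.plain 5869 17578067 false])) (.leaf (.mov 703 10971209 true [.plain 5870 8808533 true, .edge 4795 688 false]))))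
(.node 2 (.node 1 (.leaf (.eq 1365 25694273 [] [.plain 5838 17043521 false, .plain 4027 8992851 false, .plain 4302 26097747 false])) (.leaf (.eq 1365 17043521 [] [.plain 5872 9179201 false]))) (.node 1 (.leaf (.eqT 134 29904967 false [.plain 5873 4796511 true, .edge 4772 239 false] [.edge 4433 0 false])) (.leaf (.eq 1366 17043521 [] [.plain 5874 17506373 false]))))))
(.node 7 (.node 3 (.node 1 (.leaf (.eq 1360 17043521 [] [.plain 5837 19140675 false])) (.node 1 (.leaf (.eqT 1096 19085399 false [.plain 5876 16988245 true, .edge 4750 1352 false] [.edge 4001 0 false])) (.leaf (.eq 1359 17043521 [] [.plain 5877 19157087 false]))))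
(.node 2 (.node 1 (.leaf (.mov 1099 19085399 false [.plain 5878 17004637 true, .edge 4748 1056 false])) (.leaf (.eqT 214 10971209 false [.plain 5835 8605773 true, .edge 5879 1145 true] [.edge 4454 0 false]))) (.node 1 (.leaf (.mov 1099 17043521 true [.plain 5878 19159119 true, .edge 4832 66 false])) (.leaf (.eq 1211 17043521 [] [.plain 5880 9050199 true])))))
(.node 4 (.node 2 (.node 1 (.leaf (.mov 1099 10971209 true [.plain 5882 19157083 true, .edge 4449 466 false])) (.leaf (.mov 1099 11495495 true [.plain 4005 11493457 true, .edge 5883 719 false]))) (.node 1 (.leaf (.mov 1099 19085399 true [.plain 4006 19097685 true, .edge 5884 981 false])) (.leaf (.mov 1099 25385043 true [.plain 4005 25382991 true, .edge 5885 971 false]))))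
(.node 2 (.node 1 (.leaf (.eqT 1099 17043521 false [.plain 5882 23670871 true, .edge 5862 185 false] [.edge 4002 0 false])) (.leaf (.eq 1383 17043521 [] [.plain 5887 17061957 false]))) (.node 1 (.leaf (.eq 1161 17043521 [] [.plain 5836 4618329 true])) (.leaf (.eqT 280 17043521 true [.plain 5889 17643603 true, .edge 4196 1347 false] [.edge 1696 0 false])))))))
(.node 15 (.node 7 (.node 3 (.node 1 (.leaf (.eqT 280 32125001 false [.plain 5889 31746133 true, .edge 4416 319 false] [.edge 5307 0 false])) (.node 1 (.leaf (.eqT 280 27529303 false [.plain 5889 27801679 true, .edge 4417 1477 false] [.edge 4763 0 false])) (.leaf (.mov 280 23928925 false [.plain 5889 23543881 true, .edge 4443 502 false]))))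
(.node 2 (.node 1 (.leaf (.eqT 280 10971209 false [.plain 5889 10704961 true, .edge 4455 30 false] [.edge 5314 0 false])) (.leaf (.mov 280 19085399 true [.plain 5889 19605575 true, .edge 4479 659 false]))) (.node 1 (.leaf (.eq 1635 17043521 [] [.plain 5894 19740751 true])) (.leaf (.eqT 1213 19085399 false [.plain 5896 17586245 true, .edge 5309 868 false] [.edge 4457 0 false])))))
(.node 4 (.node 2 (.node 1 (.leaf (.eq 1634 17043521 [] [.plain 5897 19277891 false])) (.leaf (.mov 1214 10971209 true [.plain 5898 9197643 true, .edge 5371 232 false]))) (.node 1 (.leaf (.eq 1364 17043521 [] [.plain 5892 17043521 true])) (.leaf (.mov 1200 17043521 true [.plain 5900 16939091 true, .edge 5343 1360 false]))))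
(.node 2 (.node 1 (.leaf (.eq 1199 16934977 [] [.plain 5891 17043521 false, .plain 5898 17043521 false])) (.leaf (.eq 1214 17043521 [] [.plain 5902 19085379 true]))) (.node 1 (.leaf (.mov 1199 19085399 false [.plain 5903 17592405 true, .edge 4458 367 false])) (.leaf (.mov 1199 10971209 true [.plain 5903 9322571 true, .edge 5899 628 false]))))))
(.node 8 (.node 4 (.node 2 (.node 1 (.leaf (.eq 1142 17043521 [] [.plain 5890 13181021 false])) (.leaf (.eqT 266 11495495 true [.plain 5906 11145301 true, .edge 4187 104 false] [.edge 1678 0 false]))) (.node 1 (.leaf (.eq 1158 17043521 [] [.plain 5907 27547729 false])) (.leaf (.eqT 277 13310023 true [.plain 5908 25915487 true, .edge 4188 381 false] [.edge 1679 0 false]))))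
(.node 2 (.node 1 (.leaf (.eq 1159 8984665 [.plain 4194 8984665 false] [.plain 5909 17043521 false, .plain 1686 17043521 false])) (.leaf (.eq 1138 17043521 [] [.plain 5910 6643785 false]))) (.node 1 (.leaf (.eqT 259 27529303 false [.plain 5911 8999005 true, .edge 4135 1353 false] [.edge 1617 0 false])) (.leaf (.eq 1141 17043521 [] [.plain 5912 17578059 false])))))
(.node 4 (.node 2 (.node 1 (.leaf (.eqT 267 19085399 true [.plain 5913 19554369 true, .edge 4157 352 false] [.edge 1624 0 false])) (.leaf (.eq 1146 25497691 [.plain 4163 25497691 false] [.plain 5914 17043521 false, .plain 1631 17043521 false]))) (.node 1 (.leaf (.eq 1144 17043521 [] [.plain 5915 9320535 false])) (.leaf (.eqT 256 25385043 true [.plain 5916 11343951 true, .edge 4156 527 false] [.edge 1642 0 false]))))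
(.node 2 (.node 1 (.leaf (.eq 1143 17043521 [] [.plain 5917 13193299 false])) (.leaf (.eqT 266 19085399 true [.plain 5918 19273815 true, .edge 4429 927 false] [.edge 4685 0 false]))) (.node 1 (.leaf (.eq 1202 19357781 [] [.plain 5919 17043521 false, .plain 4691 17043521 false])) (.leaf (.eq 1202 17043521 [] [.plain 5920 19624015 false]))))))))
(.node 30 (.node 15 (.node 7 (.node 3 (.node 1 (.leaf (.eqT 266 17043521 false [.plain 5921 17657921 true, .edge 4420 6 false] [.edge 1616 0 false])) (.node 1 (.leaf (.eq 1201 11096141 [] [.plain 5922 17043521 false, .plain 5835 17127489 false])) (.leaf (.eq 1201 17043521 [] [.plain 5923 11090013 false]))))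
(.node 2 (.node 1 (.leaf (.eq 1557 17043521 [] [.plain 5786 17522775 false])) (.leaf (.mov 709 25385043 true [.plain 5925 25653333 true, .edge 5167 880 false]))) (.node 1 (.leaf (.eq 1549 17043521 [] [.plain 5783 19271771 false])) (.leaf (.eq 1543 19667031 [] [.plain 5782 17043521 false, .plain 3324 11079761 false])))))
(.node 4 (.node 2 (.node 1 (.leaf (.eq 1543 17043521 [] [.plain 5928 19732567 false])) (.leaf (.eqT 134 31801425 false [.plain 5929 19757127 true, .edge 5130 118 false] [.edge 4432 0 false]))) (.node 1 (.leaf (.eqT 134 13510735 true [.plain 5929 9121885 true, .edge 5180 1073 false] [.edge 3369 0 false])) (.leaf (.eq 1567 26099783 [] [.plain 5931 17043521 false, .plain 5731 17117257 false]))))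
(.node 2 (.node 1 (.leaf (.eq 1567 17043521 [] [.plain 5932 4874331 false])) (.leaf (.mov 374 13310023 true [.plain 5933 25505867 true, .edge 5168 1496 false]))) (.node 1 (.leaf (.eq 1548 17043521 [] [.plain 5930 16916567 false])) (.leaf (.mov 1205 17059919 true [.plain 5935 17717333 true, .edge 5131 853 false]))))))
(.node 7 (.node 3 (.node 1 (.leaf (.eq 1509 17043521 [] [.plain 5769 11096137 false])) (.node 1 (.leaf (.eqT 145 29904967 false [.plain 5937 31936599 true, .edge 5027 765 false] [.edge 3413 0 false])) (.leaf (.eqT 145 10971209 true [.plain 5937 8611911 true, .edge 5210 1145 false] [.edge 5670 0 false]))))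
(.node 2 (.node 1 (.leaf (.eq 1514 25522265 [] [.plain 5939 17043521 false, .plain 3158 8982611 false])) (.leaf (.eq 1514 17043521 [] [.plain 5940 27611217 false]))) (.node 1 (.leaf (.eqT 129 13310023 false [.plain 5941 17567821 true, .edge 5040 610 false] [.edge 3514 0 false])) (.leaf (.eq 1509 19085405 [.plain 5937 19085405 false] [.plain 5942 17043521 false])))))
(.node 4 (.node 2 (.node 1 (.leaf (.eq 375 17043521 [] [.plain 5943 17592401 true])) (.leaf (.eqT 145 25385043 true [.plain 5944 25776193 true, .edge 2052 984 false] [.edge 2843 0 false]))) (.node 1 (.leaf (.eqT 145 19085399 false [.plain 5944 19214429 true, .edge 2083 1201 false] [.edge 3436 0 false])) (.leaf (.eq 868 17043521 [] [.plain 5946 17043521 true]))))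
(.node 2 (.node 1 (.leaf (.eqT 380 17043521 false [.plain 5947 19802201 true, .edge 3437 51 false] [.edge 2070 0 false])) (.leaf (.eq 869 17721431 [.plain 3447 17721431 false] [.plain 5948 17043521 false, .plain 3501 23685197 false]))) (.node 1 (.leaf (.eq 861 17043521 [] [.plain 5949 19540033 false])) (.leaf (.eqT 129 13310023 true [.plain 5950 17197149 true, .edge 3470 982 false] [.edge 3512 0 false])))))))
(.node 15 (.node 7 (.node 3 (.node 1 (.leaf (.eq 879 25448529 [] [.plain 5951 17043521 false, .plain 1565 9269331 false])) (.node 1 (.leaf (.eq 879 17043521 [] [.plain 5952 25456729 false])) (.leaf (.eqT 229 13310023 true [.plain 5953 15683671 true, .edge 3471 1406 false] [.edge 4604 0 false]))))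
(.node 2 (.node 1 (.leaf (.eq 880 25704531 [.plain 3478 25704531 false] [.plain 5954 17043521 false])) (.leaf (.eq 1265 17043521 [] [.plain 5955 27791425 true]))) (.node 1 (.leaf (.eqT 857 27529303 false [.plain 5956 6959175 true, .edge 4605 850 false] [.edge 3435 0 false])) (.leaf (.mov 857 31801425 false [.plain 5956 19097671 true, .edge 4631 554 false])))))
(.node 4 (.node 2 (.node 1 (.leaf (.eq 1266 17043521 [] [.plain 5957 16920651 false])) (.leaf (.mov 867 10971209 true [.plain 5959 11155551 true, .edge 4606 678 false]))) (.node 1 (.leaf (.eq 376 11350083 [.plain 2059 11350083 false] [.plain 5945 17043521 false])) (.leaf (.eq 308 17043521 [] [.plain 5961 17592391 true]))))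
(.node 2 (.node 1 (.leaf (.mov 299 13510735 false [.plain 5962 17766465 true, .edge 1816 1170 false])) (.leaf (.mov 299 32125001 true [.plain 5962 11225173 true, .edge 5721 1297 false]))) (.node 1 (.leaf (.mov 299 4544593 true [.plain 1777 5134401 true, .edge 5964 957 false])) (.leaf (.eqT 299 17043521 true [.plain 5962 25514067 true, .edge 5722 290 false] [.edge 5634 0 false]))))))
(.node 8 (.node 4 (.node 2 (.node 1 (.leaf (.mov 299 27529303 false [.plain 5962 19232847 true, .edge 5723 659 false])) (.leaf (.mov 299 6776923 false [.plain 1777 6973509 true, .edge 5967 1097 false]))) (.node 1 (.leaf (.mov 299 13510735 true [.plain 5962 17766465 true, .edge 5724 962 false])) (.leaf (.mov 299 13310023 true [.plain 5962 27928649 true, .edge 5726 1399 false]))))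
(.node 2 (.node 1 (.leaf (.mov 299 29904967 true [.plain 1777 29511757 true, .edge 5970 1050 false])) (.leaf (.eqT 299 6776923 false [.plain 5962 8810591 true, .edge 5727 1080 false] [.edge 5968 0 false]))) (.node 1 (.leaf (.eq 1684 17721421 [] [.plain 5972 17043521 false, .plain 4048 17262683 false, .plain 4387 19216477 false, .plain 5720 25505873 false, .plain 5962 19030093 false])) (.leaf (.eq 1684 17043521 [] [.plain 5973 17512537 false])))))
(.node 4 (.node 2 (.node 1 (.leaf (.eqT 299 13510735 false [.plain 5974 19664961 true, .edge 5424 1177 false] [.edge 5963 0 false])) (.leaf (.eq 1692 17446989 [] [.plain 5975 17043521 false, .plain 5718 17242195 false]))) (.node 1 (.leaf (.eq 1692 17043521 [] [.plain 5976 17784903 false])) (.leaf (.eqT 134 32125001 true [.plain 5977 17195103 true, .edge 5425 17 false] [.edge 3331 0 false]))))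
(.node 2 (.node 1 (.leaf (.eq 1693 27594817 [.plain 5431 27594817 false] [.plain 5978 17043521 false, .plain 4373 17043521 false])) (.leaf (.eq 1668 17043521 [] [.plain 5979 19605589 false]))) (.node 1 (.leaf (.eqT 134 13510735 false [.plain 5980 19796063 true, .edge 5400 697 false] [.edge 3362 0 false])) (.leaf (.eq 1669 16982081 [] [.plain 5981 17043521 false, .plain 5720 9195601 false, .plain 5962 17244247 false])))))))))
(.node 61 (.node 30 (.node 15 (.node 7 (.node 3 (.node 1 (.leaf (.eq 1669 17043521 [] [.plain 5982 16918593 false])) (.node 1 (.leaf (.eqT 299 13510735 true [.plain 5983 17569865 true, .edge 5444 1072 false] [.edge 5969 0 false])) (.leaf (.eq 1696 17258579 [] [.plain 5984 17043521 false, .plain 3911 19216457 false, .plain 5592 17045577 false]))))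
(.node 2 (.node 1 (.leaf (.eq 1696 17043521 [] [.plain 5985 17717331 false])) (.leaf (.eqT 283 17043521 false [.plain 5986 17127501 true, .edge 5435 1108 false] [.edge 1710 0 false]))) (.node 1 (.leaf (.eq 1695 17043521 [] [.plain 5987 19294293 false])) (.leaf (.eqT 57 29904967 false [.plain 5988 17786949 true, .edge 5433 147 false] [.edge 1713 0 false])))))
(.node 4 (.node 2 (.node 1 (.leaf (.eq 1673 6961225 [.plain 5596 6961225 false, .plain 5720 26101851 false, .plain 5962 4612175 false] [.plain 5989 17043521 false])) (.leaf (.eq 299 17043521 [] [.plain 5990 6905947 false]))) (.node 1 (.leaf (.mov 283 7292999 false [.plain 5991 19730515 true, .edge 2027 1449 false])) (.leaf (.eqT 283 4808797 true [.plain 5991 25827393 true, .edge 2061 427 false] [.edge 5417 0 false]))))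
(.node 2 (.node 1 (.leaf (.eqT 283 10971209 true [.plain 5991 27467865 true, .edge 2062 1003 false] [.edge 1765 0 false])) (.leaf (.eqT 283 32125001 true [.plain 5991 12873819 true, .edge 5965 502 false] [.edge 5423 0 false]))) (.node 1 (.leaf (.eqT 283 13310023 true [.plain 5991 7092301 true, .edge 5971 786 false] [.edge 5416 0 false])) (.leaf (.eq 1115 17506375 [.plain 4343 17506375 false] [.plain 5996 17043521 false]))))))
(.node 7 (.node 3 (.node 1 (.leaf (.eq 1676 17043521 [] [.plain 5997 9007195 true])) (.node 1 (.leaf (.mov 763 23928925 false [.plain 5998 19609695 true, .edge 5459 888 false])) (.leaf (.eq 1690 17043521 [] [.plain 5995 17117273 true]))))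
(.node 2 (.node 1 (.leaf (.eq 378 19740739 [.plain 2068 19740739 false] [.plain 5994 17043521 false])) (.leaf (.eq 293 17043521 [] [.plain 6001 29909073 false]))) (.node 1 (.leaf (.eqT 293 19085399 false [.plain 6002 8812627 true, .edge 5445 578 false] [.edge 2035 0 false])) (.leaf (.eq 1699 17526853 [] [.plain 6003 17043521 false, .plain 5991 19214427 false])))))
(.node 4 (.node 2 (.node 1 (.leaf (.eq 1699 17043521 [] [.plain 6004 17262683 false])) (.leaf (.eqT 283 32131155 true [.plain 6005 16920657 true, .edge 5449 254 false] [.edge 5418 0 false]))) (.node 1 (.leaf (.eq 1700 17043521 [] [.plain 6006 17594457 false])) (.leaf (.eq 375 11343963 [.plain 5944 11343963 false] [.plain 5993 17043521 false]))))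
(.node 2 (.node 1 (.leaf (.eq 1678 17043521 [] [.plain 6008 17043521 true])) (.leaf (.mov 145 23928925 false [.plain 6009 6955101 true, .edge 5419 422 false]))) (.node 1 (.leaf (.eqT 145 17059919 true [.plain 6009 15290447 true, .edge 5458 1175 false] [.edge 3609 0 false])) (.leaf (.eq 1700 17258565 [.plain 6007 17258565 false, .plain 6009 15210565 false] [.plain 6011 17043521 false])))))))
(.node 15 (.node 7 (.node 3 (.node 1 (.leaf (.eq 904 17043521 [] [.plain 6012 17043521 true])) (.node 1 (.leaf (.eqT 145 29904967 false [.plain 6013 31938641 true, .edge 3610 782 false] [.edge 3413 0 false])) (.leaf (.eq 905 17043521 [] [.plain 6014 17641547 false]))))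
(.node 2 (.node 1 (.leaf (.eq 845 11341889 [] [.plain 5966 17043521 false, .plain 4379 9181273 false, .plain 5731 17705031 false])) (.leaf (.eq 845 17043521 [] [.plain 6016 25759809 false]))) (.node 1 (.leaf (.mov 374 13510735 true [.plain 6017 10707025 true, .edge 3378 568 false])) (.leaf (.mov 374 31801425 false [.plain 6017 17242201 true, .edge 3772 1416 false])))))
(.node 4 (.node 2 (.node 1 (.leaf (.mov 374 13510735 false [.plain 6017 10707025 true, .edge 3823 53 false])) (.leaf (.mov 374 31801425 true [.plain 6017 17242201 true, .edge 5751 1470 false]))) (.node 1 (.leaf (.eqT 144 29904967 true [.plain 5767 4485199 true, .edge 6021 177 true] [.edge 3409 0 false])) (.leaf (.mov 374 4808797 true [.plain 6017 26095693 true, .edge 5752 392 false]))))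
(.node 2 (.node 1 (.leaf (.mov 374 7292999 false [.plain 6017 19538011 true, .edge 5753 135 false])) (.leaf (.eqT 374 32131155 true [.plain 6017 19294277 true, .edge 5754 67 false] [.edge 5738 0 false]))) (.node 1 (.leaf (.eq 1530 15292483 [.plain 5758 15292483 false] [.plain 6025 17043521 false])) (.leaf (.eq 1128 17043521 [] [.plain 6026 21196883 true]))))))
(.node 8 (.node 4 (.node 2 (.node 1 (.leaf (.mov 293 13510735 true [.plain 6027 17133635 true, .edge 4099 192 false])) (.leaf (.mov 293 32131155 true [.plain 1756 31860823 true, .edge 6028 1219 false]))) (.node 1 (.leaf (.mov 293 4544593 true [.plain 6002 30031961 true, .edge 6029 1225 false])) (.leaf (.mov 293 29904967 true [.plain 1756 29634625 true, .edge 6030 638 false]))))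
(.node 2 (.node 1 (.leaf (.eq 857 17043521 [] [.plain 6022 17043521 true])) (.leaf (.eqT 374 11495495 true [.plain 6032 31598659 true, .edge 3479 173 false] [.edge 5734 0 false]))) (.node 1 (.leaf (.mov 374 10971209 true [.plain 6032 15345757 true, .edge 3635 1171 false])) (.leaf (.eqT 374 17043521 false [.plain 6032 8798285 true, .edge 5958 791 false] [.edge 2050 0 false])))))
(.node 4 (.node 2 (.node 1 (.leaf (.eq 1278 17649739 [] [.plain 6035 17043521 false, .plain 2840 21979225 false])) (.leaf (.eq 1278 17043521 [] [.plain 6036 17649753 false]))) (.node 1 (.leaf (.eqT 145 23928925 false [.plain 6037 19148873 true, .edge 4632 196 false] [.edge 6010 0 false])) (.leaf (.eq 1679 17043521 [] [.plain 6038 17594445 true]))))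
(.node 2 (.node 1 (.leaf (.eq 879 32116807 [.plain 5953 32116807 false] [.plain 6033 17043521 false, .plain 5633 25315423 false, .plain 5991 25694299 false])) (.leaf (.eq 283 17043521 [] [.plain 6040 28264531 true]))) (.node 1 (.leaf (.eqT 229 29904967 false [.plain 6041 17643585 true, .edge 1710 187 false] [.edge 4594 0 false])) (.leaf (.eqT 229 4544593 true [.plain 6041 11350095 true, .edge 1788 1473 false] [.edge 4602 0 false]))))))))
(.node 30 (.node 15 (.node 7 (.node 3 (.node 1 (.leaf (.mov 229 23928925 false [.plain 6041 27473997 true, .edge 5399 596 false])) (.node 1 (.leaf (.mov 229 31801425 false [.plain 1428 31809605 true, .edge 6044 652 false])) (.leaf (.eqT 229 31801425 true [.plain 6041 10704969 true, .edge 5414 275 false] [.edge 4630 0 false]))))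
(.node 2 (.node 1 (.leaf (.eqT 229 11495495 true [.plain 6041 31873089 true, .edge 5423 352 false] [.edge 1567 0 false])) (.leaf (.mov 229 9056345 false [.plain 6041 21592131 true, .edge 5574 630 false]))) (.node 1 (.leaf (.mov 229 32125001 false [.plain 1428 32139331 true, .edge 6048 235 false])) (.leaf (.eqT 229 13510735 false [.plain 6041 30165083 true, .edge 5992 1268 false] [.edge 4554 0 false])))))
(.node 4 (.node 2 (.node 1 (.leaf (.eq 369 17109073 [.plain 2034 17109073 false] [.plain 6050 17043521 false])) (.leaf (.eq 1240 17043521 [] [.plain 6051 17043521 true]))) (.node 1 (.leaf (.eqT 293 17043521 false [.plain 6052 19863641 true, .edge 4586 498 false] [.edge 1753 0 false])) (.leaf (.eqT 293 11495495 true [.plain 6052 8806483 true, .edge 4643 1162 false] [.edge 5632 0 false]))))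
(.node 2 (.node 1 (.leaf (.eq 1279 25458783 [] [.plain 6054 17043521 false, .plain 5761 25696345 false, .plain 6017 27936855 false])) (.leaf (.eq 1279 17043521 [] [.plain 6055 25450565 false]))) (.node 1 (.leaf (.eqT 374 7292999 false [.plain 6056 17641537 true, .edge 4633 142 false] [.edge 6024 0 false])) (.leaf (.eq 1278 19214409 [.plain 6037 19214409 false] [.plain 6057 17043521 false]))))))
(.node 7 (.node 3 (.node 1 (.leaf (.eq 1518 17043521 [] [.plain 6058 17770567 true])) (.node 1 (.leaf (.eqT 145 31801425 true [.plain 6059 25309265 true, .edge 5765 462 false] [.edge 3585 0 false])) (.leaf (.eq 1718 11284571 [.plain 5497 11284571 false] [.plain 6060 17043521 false]))))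
(.node 2 (.node 1 (.leaf (.eq 890 17043521 [] [.plain 6061 25505871 true])) (.leaf (.eqT 292 10971209 true [.plain 6062 17117267 true, .edge 3580 637 false] [.edge 5572 0 false]))) (.node 1 (.leaf (.eqT 292 13310023 true [.plain 6062 10899521 true, .edge 5814 864 false] [.edge 5552 0 false])) (.leaf (.eq 905 27410519 [.plain 6015 27410519 false] [.plain 6064 17043521 false])))))
(.node 4 (.node 2 (.node 1 (.leaf (.eq 1744 17043521 [] [.plain 6065 25505871 true])) (.leaf (.mov 860 19085399 true [.plain 6066 19230811 true, .edge 5547 236 false]))) (.node 1 (.leaf (.eq 889 17125445 [] [.plain 6063 17043521 false, .plain 5663 17043521 false])) (.leaf (.eq 889 17043521 [] [.plain 6068 17125461 false]))))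
(.node 2 (.node 1 (.leaf (.mov 872 19085399 true [.plain 6069 27529297 true, .edge 3578 1249 false])) (.leaf (.eqT 872 9056345 false [.plain 6069 17586253 true, .edge 3605 805 false] [.edge 5664 0 false]))) (.node 1 (.leaf (.eq 1763 17043521 [] [.plain 6071 17569871 true])) (.leaf (.eq 1257 17043521 [] [.plain 6053 17000523 false])))))))
(.node 15 (.node 7 (.node 3 (.node 1 (.leaf (.eqT 71 4544593 true [.plain 6073 19339355 true, .edge 4626 1152 false] [.edge 1487 0 false])) (.node 1 (.leaf (.eq 1270 17174607 [] [.plain 6074 17043521 false, .plain 3501 11022423 false])) (.leaf (.eq 1270 17043521 [] [.plain 6075 17174603 false]))))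
(.node 2 (.node 1 (.leaf (.eqT 129 13310023 false [.plain 6076 17635413 true, .edge 4616 627 false] [.edge 3514 0 false])) (.leaf (.eq 1269 9246787 [] [.plain 6077 17043521 false, .plain 5944 17576017 false]))) (.node 1 (.leaf (.eq 1269 17043521 [] [.plain 6078 27793475 false])) (.leaf (.eq 1690 25440331 [.plain 6000 25440331 false] [.plain 6047 17043521 false, .plain 1949 27752539 false, .plain 2013 25563231 false, .plain 3501 6635593 false])))))
(.node 4 (.node 2 (.node 1 (.leaf (.eq 836 17043521 [] [.plain 6080 4743253 false])) (.leaf (.eqT 129 23928925 false [.plain 6081 17444951 true, .edge 3353 1533 false] [.edge 3515 0 false]))) (.node 1 (.leaf (.eqT 129 4808797 true [.plain 6081 8607815 true, .edge 3388 278 false] [.edge 3118 0 false])) (.leaf (.eqT 129 19085399 true [.plain 6081 11030619 true, .edge 3800 271 false] [.edge 3505 0 false]))))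
(.node 2 (.node 1 (.leaf (.eq 1035 27856963 [] [.plain 6084 17043521 false, .plain 1483 11104323 false])) (.leaf (.eq 1035 17043521 [] [.plain 6085 11276355 false]))) (.node 1 (.leaf (.eqT 71 7292999 false [.plain 6086 17700955 true, .edge 3791 568 false] [.edge 1774 0 false])) (.leaf (.eq 1034 19603531 [] [.plain 6087 17043521 false, .plain 5991 17043521 false, .plain 6041 6701143 false]))))))
(.node 8 (.node 4 (.node 2 (.node 1 (.leaf (.eq 1034 17043521 [] [.plain 6088 19030087 false])) (.leaf (.eqT 229 13510735 false [.plain 6089 17242193 true, .edge 3789 1078 false] [.edge 4554 0 false]))) (.node 1 (.leaf (.eq 1033 6910027 [] [.plain 6090 17043521 false, .plain 6052 17043521 false])) (.leaf (.eq 1033 17043521 [] [.plain 6091 11421791 false]))))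
(.node 2 (.node 1 (.leaf (.mov 293 10971209 true [.plain 6092 27603027 true, .edge 3787 567 false])) (.leaf (.mov 293 17059919 true [.plain 1756 16932945 true, .edge 6093 672 false]))) (.node 1 (.leaf (.mov 293 4808797 true [.plain 6002 11368525 true, .edge 6094 1073 false])) (.leaf (.mov 293 13310023 true [.plain 1756 12937301 true, .edge 6095 1120 false])))))
(.node 4 (.node 2 (.node 1 (.leaf (.eq 848 25505881 [] [.plain 6083 17043521 false, .plain 3568 17043521 false, .plain 3574 30105669 false, .plain 5584 17244229 false])) (.leaf (.eq 848 17043521 [] [.plain 6097 27605073 false]))) (.node 1 (.leaf (.eqT 292 10971209 true [.plain 6098 10897501 true, .edge 3389 613 false] [.edge 5572 0 false])) (.leaf (.eq 849 11081809 [.plain 3396 11081809 false, .plain 5731 27922523 false] [.plain 6099 17043521 false, .plain 5663 17043521 false]))))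
(.node 2 (.node 1 (.leaf (.eq 872 17043521 [] [.plain 6100 29841503 true])) (.leaf (.eqT 374 17043521 false [.plain 6101 17127497 true, .edge 3449 469 false] [.edge 2050 0 false]))) (.node 1 (.leaf (.mov 374 13310023 false [.plain 6101 13246545 true, .edge 5664 1445 false])) (.leaf (.mov 374 25385043 true [.plain 6101 25309269 true, .edge 6070 1516 false]))))))))))

/-- The reasons. -/
def caseCFullSrcRRLLR : Tab Src :=
(.node 122 (.node 61 (.node 30 (.node 15 (.node 7 (.node 3 (.node 1 (.leaf (.eq 867 19544137 [] [.plain 6102 17043521 false, .plain 2840 21979225 false])) (.node 1 (.leaf (.eq 867 17043521 [] [.plain 6105 19818589 false])) (.leaf (.eqT 145 25385043 true [.plain 6106 19865675 true, .edge 5960 1402 false] [.edge 2843 0 false]))))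
(.node 2 (.node 1 (.leaf (.eq 1267 17053777 [] [.plain 6107 17043521 false, .plain 5962 17576015 false, .plain 5991 11343943 false, .plain 6041 5122121 false])) (.leaf (.eq 1267 17043521 [] [.plain 6108 17053777 false]))) (.node 1 (.leaf (.eq 380 17043521 [] [.plain 6082 17190993 true])) (.leaf (.eqT 188 9056345 false [.plain 6110 19798097 true, .edge 2071 173 false] [.edge 3564 0 false])))))
(.node 4 (.node 2 (.node 1 (.leaf (.eq 381 16916571 [.plain 2082 16916571 false, .plain 5944 19609685 false] [.plain 6111 17043521 false])) (.leaf (.eq 763 17043521 [] [.plain 6112 17524827 true]))) (.node 1 (.leaf (.eqT 145 19085399 true [.plain 6113 17109069 true, .edge 3782 1013 false] [.edge 3075 0 false])) (.leaf (.eqT 145 11495495 true [.plain 6113 8613961 true, .edge 4344 95 false] [.edge 3586 0 false]))))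
(.node 2 (.node 1 (.leaf (.eqT 145 7292999 false [.plain 6113 4681805 true, .edge 5999 1341 false] [.edge 3487 0 false])) (.leaf (.eq 1703 17043521 [] [.plain 6116 17700955 false]))) (.node 1 (.leaf (.eq 1116 17117257 [.plain 4074 17117257 false, .plain 4387 27555929 false, .plain 5720 19165253 false, .plain 5962 28002369 false, .plain 5991 15364173 false, .plain 6041 31733853 false] [.plain 6115 17043521 false])) (.leaf (.eq 892 17043521 [] [.plain 6118 17043521 true]))))))
(.node 7 (.node 3 (.node 1 (.leaf (.eqT 229 19085399 true [.plain 6119 17576025 true, .edge 3587 196 false] [.edge 4627 0 false])) (.node 1 (.leaf (.mov 229 6776923 false [.plain 6119 4743233 true, .edge 3588 431 false])) (.leaf (.mov 229 10971209 false [.plain 1428 10967117 true, .edge 6121 403 false]))))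
(.node 2 (.node 1 (.leaf (.eq 1273 17043521 [] [.plain 6120 17043521 true])) (.leaf (.eqT 145 31801425 false [.plain 6123 15278165 true, .edge 4653 1096 false] [.edge 3019 0 false]))) (.node 1 (.leaf (.eq 1286 17043521 [] [.plain 6124 16982081 false])) (.leaf (.mov 722 11495495 true [.plain 6125 11366471 true, .edge 4654 1181 false])))))
(.node 4 (.node 2 (.node 1 (.leaf (.eq 1026 17705025 [] [.plain 6114 17043521 false, .plain 5804 6701129 false])) (.leaf (.eq 1026 17043521 [] [.plain 6127 17004609 false]))) (.node 1 (.leaf (.mov 710 13310023 false [.plain 6128 16988247 true, .edge 3773 1469 false])) (.leaf (.eq 1673 27875409 [.plain 5596 27875409 false, .plain 5720 7282777 false, .plain 5962 25827403 false, .plain 5991 15409223 false, .plain 6041 11483203 false] [.plain 6046 17043521 false]))))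
(.node 2 (.node 1 (.leaf (.eq 1275 17043521 [] [.plain 6130 27529281 true])) (.leaf (.eqT 229 32125001 true [.plain 6131 25915473 true, .edge 4677 1484 false] [.edge 4613 0 false]))) (.node 1 (.leaf (.eq 1291 12800069 [] [.plain 6132 17043521 false, .plain 6079 17043521 false])) (.leaf (.eq 1291 17043521 [] [.plain 6133 15542347 false])))))))
(.node 15 (.node 7 (.node 3 (.node 1 (.leaf (.eqT 145 13310023 true [.plain 6134 9246787 true, .edge 4668 1492 false] [.edge 2841 0 false])) (.node 1 (.leaf (.eq 1290 19275841 [] [.plain 6135 17043521 false, .plain 1514 27605065 false])) (.leaf (.eq 1290 17043521 [] [.plain 6136 19017793 false]))))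
(.node 2 (.node 1 (.leaf (.eqT 71 10971209 false [.plain 6137 17051741 true, .edge 4665 211 false] [.edge 1752 0 false])) (.leaf (.eq 293 17043521 [] [.plain 6138 17043521 true]))) (.node 1 (.leaf (.mov 217 4808797 false [.plain 6139 19232847 true, .edge 2035 659 false])) (.leaf (.mov 217 13510735 false [.plain 1360 13193301 true, .edge 6140 202 false])))))
(.node 4 (.node 2 (.node 1 (.leaf (.eqT 217 25385043 true [.plain 6139 6828117 true, .edge 6031 504 false] [.edge 1401 0 false])) (.leaf (.eqT 217 32131155 true [.plain 6139 21182535 true, .edge 6096 173 false] [.edge 4521 0 false]))) (.node 1 (.leaf (.eq 1228 17043521 [] [.plain 6143 25434187 true])) (.leaf (.mov 188 32125001 false [.plain 6144 7026759 true, .edge 4532 849 false]))))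
(.node 2 (.node 1 (.leaf (.eqT 188 4808797 false [.plain 6144 15231047 true, .edge 4557 956 false] [.edge 3736 0 false])) (.leaf (.eqT 188 29904967 false [.plain 6144 25778257 true, .edge 4566 753 false] [.edge 3744 0 false]))) (.node 1 (.leaf (.eqT 188 6776923 false [.plain 6144 19292227 true, .edge 4577 1389 false] [.edge 3352 0 false])) (.leaf (.eq 1253 17246297 [] [.plain 6148 17043521 false, .plain 6081 17043521 false]))))))
(.node 8 (.node 4 (.node 2 (.node 1 (.leaf (.eq 1253 17043521 [] [.plain 6149 16986199 false])) (.leaf (.eqT 129 13310023 true [.plain 6150 19607647 true, .edge 4578 1480 false] [.edge 3512 0 false]))) (.node 1 (.leaf (.eq 1254 17659969 [] [.plain 6151 17043521 false, .plain 1565 9269331 false])) (.leaf (.eq 1254 17043521 [] [.plain 6152 17641537 false]))))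
(.node 2 (.node 1 (.leaf (.eqT 229 13310023 true [.plain 6153 17178695 true, .edge 4579 577 false] [.edge 4604 0 false])) (.leaf (.eq 1255 11350099 [.plain 4585 11350099 false] [.plain 6154 17043521 false, .plain 5956 9244737 false, .plain 6032 29829201 false]))) (.node 1 (.leaf (.eq 1229 17043521 [] [.plain 6155 19343433 false])) (.leaf (.mov 374 9056345 false [.plain 6156 13199453 true, .edge 4542 93 false])))))
(.node 4 (.node 2 (.node 1 (.leaf (.mov 374 6776923 false [.plain 6156 27809863 true, .edge 4552 1424 false])) (.leaf (.mov 374 27529303 false [.plain 6156 4864073 true, .edge 4553 1109 false]))) (.node 1 (.leaf (.eq 1245 17043521 [] [.plain 6147 17659993 false])) (.leaf (.eqT 1015 17043521 false [.plain 6160 19222615 true, .edge 4567 913 false] [.edge 3739 0 false]))))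
(.node 2 (.node 1 (.leaf (.eq 1246 17043521 [] [.plain 6161 17721439 false])) (.leaf (.eq 1241 17043521 [] [.plain 6146 17641563 false]))) (.node 1 (.leaf (.eqT 1014 19085399 false [.plain 6163 19619921 true, .edge 4558 197 false] [.edge 3738 0 false])) (.leaf (.eq 1242 17043521 [] [.plain 6164 17176663 false]))))))))
(.node 30 (.node 15 (.node 7 (.node 3 (.node 1 (.leaf (.mov 1015 11495495 true [.plain 6165 10707031 true, .edge 4559 500 false])) (.node 1 (.leaf (.eq 1127 19222595 [.plain 4322 19222595 false] [.plain 6142 17043521 false, .plain 3501 11419739 false])) (.leaf (.eq 1030 17043521 [] [.plain 6167 19605579 false]))))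
(.node 2 (.node 1 (.leaf (.eqT 129 27529303 false [.plain 6168 17109069 true, .edge 3785 213 false] [.edge 3090 0 false])) (.leaf (.eq 1029 17633355 [.plain 3821 17633355 false] [.plain 6169 17043521 false]))) (.node 1 (.leaf (.eq 741 17043521 [] [.plain 6170 17043521 true])) (.leaf (.eqT 188 13310023 false [.plain 6171 19865675 true, .edge 3091 55 false] [.edge 3364 0 false])))))
(.node 4 (.node 2 (.node 1 (.leaf (.eqT 188 25385043 true [.plain 6171 19214411 true, .edge 3835 572 false] [.edge 3783 0 false])) (.leaf (.eq 1046 19157073 [] [.plain 6173 17043521 false, .plain 3821 17043521 false]))) (.node 1 (.leaf (.eq 1046 17043521 [] [.plain 6174 19159123 false])) (.leaf (.eqT 188 31801425 true [.plain 6175 28201043 true, .edge 3836 547 false] [.edge 3759 0 false]))))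
(.node 2 (.node 1 (.leaf (.eq 1047 27611225 [.plain 3843 27611225 false] [.plain 6176 17043521 false])) (.leaf (.eq 1020 17043521 [] [.plain 6177 4808787 false]))) (.node 1 (.leaf (.mov 1020 31801425 true [.plain 6178 11030593 true, .edge 3754 1107 false])) (.leaf (.mov 1020 32131155 true [.plain 6178 21571649 true, .edge 6179 174 false]))))))
(.node 7 (.node 3 (.node 1 (.leaf (.mov 1020 13310023 true [.plain 6178 23291969 true, .edge 6180 662 false])) (.node 1 (.leaf (.mov 1020 25385043 true [.plain 6178 7043141 true, .edge 6181 512 false])) (.leaf (.mov 1020 29904967 true [.plain 6178 17444947 true, .edge 6182 1487 false]))))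
(.node 2 (.node 1 (.leaf (.mov 1020 11495495 true [.plain 6178 32329821 true, .edge 6183 1437 false])) (.leaf (.mov 1020 4808797 true [.plain 6178 19683397 true, .edge 3755 90 false]))) (.node 1 (.leaf (.mov 1020 13510735 true [.plain 6178 29704261 true, .edge 6185 1248 false])) (.leaf (.mov 1020 32125001 true [.plain 6178 21375045 true, .edge 6186 134 false])))))
(.node 4 (.node 2 (.node 1 (.leaf (.mov 1020 19085399 true [.plain 6178 6770777 true, .edge 6187 600 false])) (.leaf (.mov 1020 4544593 true [.plain 6178 11221063 true, .edge 6188 259 false]))) (.node 1 (.leaf (.mov 1020 4808797 false [.plain 6178 19683397 true, .edge 3760 720 false])) (.leaf (.mov 1020 7292999 false [.plain 6178 32071765 true, .edge 6190 1411 false]))))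
(.node 2 (.node 1 (.leaf (.mov 1020 23928925 false [.plain 6178 27537493 true, .edge 3762 203 false])) (.leaf (.mov 1020 6776923 false [.plain 6178 15540289 true, .edge 6192 1438 false]))) (.node 1 (.leaf (.mov 1020 32125001 false [.plain 6178 21375045 true, .edge 6193 912 false])) (.leaf (.eqT 1020 19085399 false [.plain 6178 6770777 true, .edge 6194 1419 false] [.edge 3760 0 false])))))))
(.node 15 (.node 7 (.node 3 (.node 1 (.leaf (.eq 1023 17043521 [] [.plain 6195 17442897 false])) (.node 1 (.leaf (.eq 839 17043521 [] [.plain 6172 17043521 true])) (.leaf (.eq 300 28203101 [.plain 5476 28203101 false] [.plain 6043 17043521 false]))))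
(.node 2 (.node 1 (.leaf (.eq 1262 17043521 [] [.plain 6198 11368537 true])) (.leaf (.eqT 292 17043521 false [.plain 6199 17178701 true, .edge 4644 1035 false] [.edge 1748 0 false]))) (.node 1 (.leaf (.mov 292 4808797 true [.plain 6199 4540503 true, .edge 4663 1214 false])) (.leaf (.eq 1282 16922699 [] [.plain 6200 17043521 false, .plain 5666 17127489 false])))))
(.node 4 (.node 2 (.node 1 (.leaf (.eq 1282 17043521 [] [.plain 6202 17244237 false])) (.leaf (.eqT 144 10971209 false [.plain 6203 19867723 true, .edge 4645 172 false] [.edge 3422 0 false]))) (.node 1 (.leaf (.eq 1283 17705045 [] [.plain 6204 17043521 false, .plain 5660 32067655 false])) (.leaf (.eq 1283 17043521 [] [.plain 6205 17004623 false]))))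
(.node 2 (.node 1 (.leaf (.eqT 292 25385043 true [.plain 6206 26169413 true, .edge 4646 403 false] [.edge 5477 0 false])) (.leaf (.eq 1284 8998979 [.plain 4652 8998979 false] [.plain 6207 17043521 false, .plain 1786 11096139 false, .plain 6041 11038809 false]))) (.node 1 (.leaf (.eq 1260 17043521 [] [.plain 6208 13183063 false])) (.leaf (.eq 1259 17043521 [] [.plain 6042 17043521 true]))))))
(.node 8 (.node 4 (.node 2 (.node 1 (.leaf (.eq 1510 17043521 [] [.plain 5938 17068119 false])) (.leaf (.eqT 860 19085399 false [.plain 6211 19097693 true, .edge 5057 111 false] [.edge 5816 0 false]))) (.node 1 (.leaf (.eq 1526 17043521 [] [.plain 6212 17782859 false])) (.leaf (.eq 1504 17578079 [] [.plain 5768 17043521 false, .plain 3970 11032643 false, .plain 4352 10711109 false]))))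
(.node 2 (.node 1 (.leaf (.eq 1504 17043521 [] [.plain 6214 17594453 false])) (.leaf (.eqT 144 4808797 true [.plain 6215 25720923 true, .edge 5005 355 false] [.edge 3469 0 false]))) (.node 1 (.leaf (.eq 1503 11278405 [] [.plain 6216 17043521 false, .plain 4365 25587779 false])) (.leaf (.eq 1503 17043521 [] [.plain 6217 27859015 false])))))
(.node 4 (.node 2 (.node 1 (.leaf (.eqT 200 13310023 false [.plain 6218 11294787 true, .edge 5031 1230 false] [.edge 4017 0 false])) (.leaf (.eq 1511 17043521 [] [.plain 6219 17522771 false]))) (.node 1 (.leaf (.eqT 1100 11495495 true [.plain 6220 9386059 true, .edge 5032 1205 false] [.edge 4470 0 false])) (.leaf (.eq 1512 17576009 [.plain 5038 17576009 false] [.plain 6221 17043521 false]))))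
(.node 2 (.node 1 (.leaf (.eq 1500 17043521 [] [.plain 6222 23210079 false])) (.leaf (.mov 1217 29904967 false [.plain 6223 17592401 true, .edge 4996 1366 false]))) (.node 1 (.leaf (.eqT 144 7292999 false [.plain 5767 13244499 true, .edge 6224 28 true] [.edge 3398 0 false])) (.leaf (.mov 1217 31801425 true [.plain 6223 10647619 true, .edge 5066 881 false])))))))))
(.node 61 (.node 30 (.node 15 (.node 7 (.node 3 (.node 1 (.leaf (.eq 1217 17043521 [] [.plain 6225 9246801 false])) (.node 1 (.leaf (.mov 851 17043521 true [.plain 6227 27793499 true, .edge 4469 881 false])) (.leaf (.eqT 851 11495495 true [.plain 6227 23421009 true, .edge 6226 1535 false] [.edge 3434 0 false]))))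
(.node 2 (.node 1 (.leaf (.eq 1526 28000329 [.plain 6213 28000329 false] [.plain 6229 17043521 false, .plain 5808 25837663 false])) (.leaf (.eq 901 17043521 [] [.plain 6230 11292743 false]))) (.node 1 (.leaf (.eqT 698 19085399 false [.plain 6231 17176669 true, .edge 3608 1414 false] [.edge 2933 0 false])) (.leaf (.eq 900 19619933 [.plain 5815 19619933 false] [.plain 6232 17043521 false])))))
(.node 4 (.node 2 (.node 1 (.leaf (.eq 860 17043521 [] [.plain 6233 19140691 false])) (.leaf (.eqT 699 19085399 true [.plain 6234 16988229 true, .edge 6067 362 false] [.edge 2935 0 false]))) (.node 1 (.leaf (.eq 1743 17043521 [] [.plain 6235 17135687 false])) (.leaf (.eqT 700 17059919 true [.plain 6236 17117249 true, .edge 5545 191 false] [.edge 2944 0 false]))))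
(.node 2 (.node 1 (.leaf (.eq 699 17043521 [] [.plain 6237 19359835 true])) (.leaf (.mov 292 10971209 false [.plain 6238 17784903 true, .edge 2934 1018 false]))) (.node 1 (.leaf (.eq 737 27672651 [] [.plain 5589 17043521 false, .plain 5850 17043521 false])) (.leaf (.eq 1386 17043521 [] [.plain 6240 11343937 true]))))))
(.node 7 (.node 3 (.node 1 (.leaf (.mov 737 25385043 true [.plain 6241 27926621 true, .edge 4834 132 false])) (.node 1 (.leaf (.mov 737 32125001 false [.plain 6241 29825115 true, .edge 5851 1114 false])) (.leaf (.eq 113 21368903 [] [.plain 5587 17043521 false, .plain 6236 17043521 false]))))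
(.node 2 (.node 1 (.leaf (.eq 700 17043521 [] [.plain 6244 17133663 true])) (.leaf (.eqT 113 10971209 false [.plain 6245 17526857 true, .edge 2937 887 false] [.edge 2725 0 false]))) (.node 1 (.leaf (.eq 701 17770573 [.plain 2940 17770573 false] [.plain 6246 17043521 false])) (.leaf (.eq 614 17043521 [] [.plain 6247 17782851 true])))))
(.node 4 (.node 2 (.node 1 (.leaf (.eq 353 19681369 [.plain 1985 19681369 false] [.plain 5585 17043521 false])) (.leaf (.eq 1753 17043521 [] [.plain 6249 17043521 true]))) (.node 1 (.leaf (.mov 345 13310023 false [.plain 6250 15210583 true, .edge 5563 230 false])) (.leaf (.mov 345 4808797 false [.plain 1962 4481117 true, .edge 6251 147 false]))))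
(.node 2 (.node 1 (.leaf (.mov 345 13510735 false [.plain 1963 13183045 true, .edge 6252 573 false])) (.leaf (.mov 345 6776923 false [.plain 1962 7039067 true, .edge 6253 192 false]))) (.node 1 (.leaf .dfn) (.leaf (.mov 1771 17043521 false [.edge 6255 0 true])))))))
(.node 15 (.node 7 (.node 3 (.node 1 (.leaf .dfn) (.node 1 (.leaf (.mov 1772 17043521 true [.edge 6257 0 true])) (.leaf .dfn)))
(.node 2 (.node 1 (.leaf (.mov 1773 17043521 true [.edge 6259 0 true])) (.leaf .dfn)) (.node 1 (.leaf (.mov 1774 17043521 true [.edge 6261 0 true])) (.leaf (.rel 292 7157831 7 [.edge 5480 226 false, .edge 6255 427 false, .edge 6257 1504 false, .mul, .edge 6259 102 false, .mul, .edge 6261 1075 false, .mul])))))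
(.node 4 (.node 2 (.node 1 (.leaf (.eq 1774 17043521 [] [.plain 6263 9136211 true])) (.leaf (.eqT 292 25385043 true [.plain 6264 19232859 true, .edge 6262 853 false] [.edge 5477 0 false]))) (.node 1 (.leaf (.eq 1773 13244485 [] [.plain 6265 17043521 false, .plain 1786 11096139 false, .plain 6041 11038809 false])) (.leaf (.eq 1773 17043521 [] [.plain 6266 15407175 false]))))
(.node 2 (.node 1 (.leaf (.eqT 229 10971209 true [.plain 6267 27611225 true, .edge 6260 1149 false] [.edge 4628 0 false])) (.leaf (.eq 1772 6824017 [] [.plain 6268 17043521 false, .plain 6123 27881553 false]))) (.node 1 (.leaf (.eq 1772 17043521 [] [.plain 6269 8538185 false])) (.leaf (.eqT 145 32131155 true [.plain 6270 27881547 true, .edge 6258 1450 false] [.edge 2842 0 false]))))))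
(.node 8 (.node 4 (.node 2 (.node 1 (.leaf (.eq 1771 17043521 [] [.plain 6271 17180737 false])) (.leaf (.eqT 188 31801425 false [.plain 6272 17457225 true, .edge 6256 1528 false] [.edge 3034 0 false]))) (.node 1 (.leaf (.eq 1704 17043521 [] [.plain 6273 17592407 false])) (.leaf (.mov 726 17059919 true [.plain 6274 17592385 true, .edge 5461 471 false]))))
(.node 2 (.node 1 (.leaf (.eqT 726 11495495 true [.plain 6274 11145291 true, .edge 5538 776 false] [.edge 3065 0 false])) (.leaf (.eq 1741 17659971 [] [.plain 6276 17043521 false, .plain 5804 17043521 false]))) (.node 1 (.leaf (.eq 1741 17043521 [] [.plain 6277 17641539 false])) (.leaf (.eqT 710 17043521 true [.plain 6278 27816031 true, .edge 5539 828 false] [.edge 2970 0 false])))))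
(.node 4 (.node 2 (.node 1 (.leaf (.eq 1742 9254985 [.plain 5542 9254985 false] [.plain 6279 17043521 false])) (.leaf (.eq 709 17043521 [] [.plain 6280 19277915 true]))) (.node 1 (.leaf (.eqT 292 29904967 true [.plain 6281 28014665 true, .edge 5926 672 false] [.edge 5480 0 false])) (.leaf (.eq 1567 11022419 [.plain 5933 11022419 false] [.plain 6282 17043521 false, .plain 6274 8550479 false]))))
(.node 2 (.node 1 (.leaf (.eq 726 17043521 [] [.plain 6283 6840405 true])) (.leaf (.mov 374 17043521 true [.plain 6284 25712713 true, .edge 3035 584 false]))) (.node 1 (.leaf (.mov 374 32125001 true [.plain 6284 11485277 true, .edge 3065 731 false])) (.leaf (.eqT 374 17059919 true [.plain 6284 25696327 true, .edge 6275 1178 false] [.edge 5732 0 false]))))))))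
(.node 30 (.node 15 (.node 7 (.node 3 (.node 1 (.leaf (.eq 1703 11096133 [.plain 6117 11096133 false] [.plain 6287 17043521 false])) (.node 1 (.leaf (.eq 885 17043521 [] [.plain 6288 29976663 false])) (.leaf (.eqT 134 4808797 false [.plain 6289 19681369 true, .edge 3488 289 false] [.edge 4431 0 false]))))
(.node 2 (.node 1 (.leaf (.eq 886 16922691 [.plain 3494 16922691 false] [.plain 6290 17043521 false])) (.leaf (.eq 1205 17043521 [] [.plain 6291 17700955 true]))) (.node 1 (.leaf (.eqT 722 17043521 false [.plain 6292 19294299 true, .edge 5866 254 false] [.edge 3020 0 false])) (.leaf (.mov 722 25385043 true [.plain 6292 27816015 true, .edge 5936 881 false])))))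
(.node 4 (.node 2 (.node 1 (.leaf (.eq 1366 19232853 [.plain 5875 19232853 false, .plain 6292 19216455 false] [.plain 6293 17043521 false])) (.leaf (.eq 722 17043521 [] [.plain 6295 17258575 false]))) (.node 1 (.leaf (.eqT 145 32131155 true [.plain 6296 19357781 true, .edge 6126 1418 false] [.edge 2842 0 false])) (.leaf (.eqT 145 31801425 true [.plain 6296 17174603 true, .edge 6294 1141 false] [.edge 3585 0 false]))))
(.node 2 (.node 1 (.leaf (.eq 1549 17119299 [.plain 5927 17119299 false] [.plain 6298 17043521 false, .plain 6062 27605063 false])) (.leaf (.eq 703 17043521 [] [.plain 6299 17522763 false]))) (.node 1 (.leaf (.mov 292 32131155 true [.plain 6300 19738707 true, .edge 2948 1401 false])) (.leaf (.eqT 292 7292999 false [.plain 6300 19157063 true, .edge 2949 1347 false] [.edge 5537 0 false]))))))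
(.node 7 (.node 3 (.node 1 (.leaf (.eqT 292 10971209 true [.plain 6300 28196937 true, .edge 5871 436 false] [.edge 5572 0 false])) (.node 1 (.leaf (.eq 1373 27799627 [.plain 5863 27799627 false] [.plain 6303 17043521 false, .plain 5663 17043521 false, .plain 6101 28012627 false])) (.leaf (.eq 1118 17043521 [] [.plain 6304 29956181 false]))))
(.node 2 (.node 1 (.leaf (.eqT 374 32131155 true [.plain 6305 25641035 true, .edge 4467 772 false] [.edge 5738 0 false])) (.leaf (.eq 1214 9271363 [.plain 5903 9271363 false] [.plain 6306 17043521 false, .plain 6027 27928665 false, .plain 6139 17125449 false]))) (.node 1 (.leaf (.eq 1199 17043521 [] [.plain 6307 15280193 false])) (.leaf (.eqT 217 23928925 false [.plain 6308 19034199 true, .edge 5904 658 false] [.edge 4509 0 false])))))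
(.node 4 (.node 2 (.node 1 (.leaf (.eqT 217 13310023 true [.plain 6308 17702979 true, .edge 5905 126 false] [.edge 4531 0 false])) (.leaf (.eq 1658 19017823 [] [.plain 6310 17043521 false, .plain 6156 9271389 false]))) (.node 1 (.leaf (.eq 1658 17043521 [] [.plain 6311 19275861 false])) (.leaf (.eqT 374 27529303 false [.plain 6312 17659979 true, .edge 5362 1365 false] [.edge 6159 0 false]))))
(.node 2 (.node 1 (.leaf (.eq 1657 17043521 [] [.plain 6313 19216477 false])) (.leaf (.mov 1239 19085399 false [.plain 6314 17051737 true, .edge 5360 547 false]))) (.node 1 (.leaf (.eq 1224 17043521 [] [.plain 6309 19085387 true])) (.leaf (.eqT 1213 17043521 false [.plain 6316 16918609 true, .edge 4502 196 false] [.edge 4456 0 false])))))))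
(.node 15 (.node 7 (.node 3 (.node 1 (.leaf (.mov 1213 19085399 true [.plain 6316 19337285 true, .edge 4541 472 false])) (.node 1 (.leaf (.eq 1223 19798109 [] [.plain 6317 17043521 false, .plain 5889 29511765 false])) (.leaf (.eq 1223 17043521 [] [.plain 6319 19798089 false]))))
(.node 2 (.node 1 (.leaf (.eqT 280 32125001 true [.plain 6320 17770577 true, .edge 4551 1001 false] [.edge 1697 0 false])) (.leaf (.eqT 280 10971209 true [.plain 6320 19206237 true, .edge 4576 870 false] [.edge 4842 0 false]))) (.node 1 (.leaf (.eq 1246 17592395 [.plain 6162 17592395 false] [.plain 6322 17043521 false, .plain 6241 19294295 false])) (.leaf (.eq 1014 17043521 [] [.plain 6323 19689549 false])))))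
(.node 4 (.node 2 (.node 1 (.leaf (.mov 737 19085399 false [.plain 6324 17641547 true, .edge 3737 761 false])) (.leaf (.eqT 737 17043521 false [.plain 6324 19798101 true, .edge 3738 1483 false] [.edge 3077 0 false]))) (.node 1 (.leaf (.eq 1015 17043521 [] [.plain 6326 17506383 false])) (.leaf (.eqT 145 32131155 true [.plain 6327 27410519 true, .edge 6166 618 false] [.edge 2842 0 false]))))
(.node 2 (.node 1 (.leaf (.eq 1243 27865163 [.plain 4565 27865163 false, .plain 6316 9128029 false] [.plain 6328 17043521 false])) (.leaf (.eq 1213 17043521 [] [.plain 6329 8927303 false]))) (.node 1 (.leaf (.eqT 188 32125001 false [.plain 6330 17176663 true, .edge 4456 1081 false] [.edge 6145 0 false])) (.leaf (.eqT 188 10971209 false [.plain 6330 19757123 true, .edge 4457 1437 false] [.edge 3590 0 false]))))))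
(.node 8 (.node 4 (.node 2 (.node 1 (.leaf (.mov 188 32125001 true [.plain 6330 17176663 true, .edge 6318 960 false])) (.leaf (.eq 1214 17594463 [.plain 5903 17594463 false, .plain 6308 19017821 false] [.plain 6332 17043521 false]))) (.node 1 (.leaf (.eq 894 17043521 [] [.plain 6334 17043521 true])) (.leaf (.eqT 217 32125001 true [.plain 6335 27990093 true, .edge 3591 571 false] [.edge 4522 0 false]))))
(.node 2 (.node 1 (.leaf (.eq 895 11278411 [.plain 5807 11278411 false] [.plain 6336 17043521 false, .plain 6144 25505873 false])) (.leaf (.eq 705 17043521 [] [.plain 6337 23601221 false]))) (.node 1 (.leaf (.eqT 188 17043521 true [.plain 6338 8878157 true, .edge 2958 499 false] [.edge 2853 0 false])) (.leaf (.eq 706 25507907 [] [.plain 6339 17043521 false, .plain 2860 17043521 false, .plain 3052 4472911 false])))))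
(.node 4 (.node 2 (.node 1 (.leaf (.eq 706 17043521 [] [.plain 6340 27603011 false])) (.leaf (.eq 1161 9048145 [.plain 5889 9048145 false] [.plain 6331 17043521 false]))) (.node 1 (.leaf (.eq 1231 17043521 [] [.plain 6342 17246289 true])) (.leaf (.eq 1235 17180753 [] [.plain 6321 17043521 false, .plain 1704 17043521 false, .plain 5835 13453391 false]))))
(.node 2 (.node 1 (.leaf (.eq 1235 17043521 [] [.plain 6344 16988241 false])) (.leaf (.eq 704 17528921 [.plain 2952 17528921 false] [.plain 6302 17043521 false]))) (.node 1 (.leaf (.eq 1739 17043521 [] [.plain 6346 19355715 true])) (.leaf (.eqT 123 27529303 false [.plain 6347 17043527 true, .edge 5532 1045 false] [.edge 2956 0 false]))))))))))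

/-- The reasons. -/
def caseCFullSrcRRLL : Tab Src := .node 244 caseCFullSrcRRLLL caseCFullSrcRRLLR

/-- The reasons. -/
def caseCFullSrcRRLRL : Tab Src :=
(.node 122 (.node 61 (.node 30 (.node 15 (.node 7 (.node 3 (.node 1 (.leaf (.eq 1738 19542081 [] [.plain 6348 17043521 false, .plain 6300 19337301 false])) (.node 1 (.leaf (.eq 1738 17043521 [] [.plain 6349 19884097 false])) (.leaf (.eq 1287 17043521 [] [.plain 6297 19673153 false]))))
(.node 2 (.node 1 (.leaf (.eqT 188 4808797 true [.plain 6351 27410517 true, .edge 4655 666 false] [.edge 3752 0 false])) (.leaf (.eq 1288 25704529 [.plain 4662 25704529 false, .plain 6199 4548693 false] [.plain 6352 17043521 false]))) (.node 1 (.leaf (.eq 1019 17043521 [] [.plain 6353 17043521 true])) (.leaf (.eqT 292 31801425 true [.plain 6354 17594437 true, .edge 3753 1399 false] [.edge 5553 0 false])))))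
(.node 4 (.node 2 (.node 1 (.leaf (.eqT 292 11495495 true [.plain 6354 27469907 true, .edge 3834 141 false] [.edge 5498 0 false])) (.leaf (.eq 1043 8798291 [] [.plain 6356 17043521 false, .plain 5764 25432139 false, .plain 6059 25317465 false]))) (.node 1 (.leaf (.eq 1043 17043521 [] [.plain 6357 4743239 false])) (.leaf (.eqT 145 32131155 true [.plain 6358 19224643 true, .edge 3825 870 false] [.edge 2842 0 false]))))
(.node 2 (.node 1 (.leaf (.eq 1042 17043521 [] [.plain 6359 17174599 false])) (.leaf (.eq 1020 17586267 [] [.plain 6355 17043521 false, .plain 5850 17043521 false, .plain 6241 25761857 false]))) (.node 1 (.leaf (.eq 1020 17043521 [] [.plain 6361 17586251 false])) (.leaf (.mov 737 11495495 true [.plain 6362 27545693 true, .edge 3755 1350 false]))))))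
(.node 7 (.node 3 (.node 1 (.leaf (.mov 737 7292999 false [.plain 6362 19030101 true, .edge 3760 1153 false])) (.node 1 (.leaf (.mov 737 10971209 false [.plain 6362 27529299 true, .edge 3762 440 false])) (.leaf (.mov 737 32131155 true [.plain 6362 19802177 true, .edge 3844 579 false]))))
(.node 2 (.node 1 (.leaf (.mov 737 17059919 true [.plain 6362 21586011 true, .edge 6179 249 false])) (.leaf (.mov 737 13310023 true [.plain 6362 6776897 true, .edge 6180 620 false]))) (.node 1 (.leaf (.mov 737 4544593 true [.plain 6362 23279687 true, .edge 6181 658 false])) (.leaf (.mov 737 31801425 true [.plain 6362 17715265 true, .edge 6182 790 false])))))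
(.node 4 (.node 2 (.node 1 (.leaf (.mov 737 13510735 true [.plain 6362 10960965 true, .edge 6184 343 false])) (.leaf (.mov 737 17043521 true [.plain 6362 4808773 true, .edge 6185 1158 false]))) (.node 1 (.leaf (.mov 737 32125001 true [.plain 6362 13510725 true, .edge 6186 1207 false])) (.leaf (.mov 737 29904967 true [.plain 6362 21966931 true, .edge 6187 1134 false]))))
(.node 2 (.node 1 (.leaf (.mov 737 4808797 true [.plain 6362 25385029 true, .edge 6188 686 false])) (.leaf (.mov 737 19085399 true [.plain 6362 15224921 true, .edge 6189 771 false]))) (.node 1 (.leaf (.mov 737 27529303 false [.plain 6362 4999251 true, .edge 6191 1081 false])) (.leaf (.mov 737 29904967 false [.plain 6362 21966931 true, .edge 6192 901 false])))))))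
(.node 15 (.node 7 (.node 3 (.node 1 (.leaf (.mov 737 13310023 false [.plain 6362 6776897 true, .edge 6193 1251 false])) (.node 1 (.leaf (.mov 737 6776923 false [.plain 6362 27402305 true, .edge 6194 74 false])) (.leaf (.eqT 1022 17043521 false [.plain 6196 16998481 true, .edge 6380 292 true] [.edge 3761 0 false]))))
(.node 2 (.node 1 (.leaf (.eq 737 30232655 [] [.plain 6381 17043521 false, .plain 6362 19560517 false])) (.leaf (.eq 737 17043521 [] [.plain 6382 32139341 false]))) (.node 1 (.leaf (.mov 737 4808797 false [.plain 6383 21305429 true, .edge 6243 1177 false])) (.leaf (.mov 737 23928925 false [.plain 6383 15290445 true, .edge 6384 932 false])))))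
(.node 4 (.node 2 (.node 1 (.leaf (.mov 737 9056345 false [.plain 6383 32254019 true, .edge 6385 1349 false])) (.leaf (.mov 737 31801425 false [.plain 6383 23949385 true, .edge 6386 1009 false]))) (.node 1 (.leaf (.mov 737 13510735 false [.plain 6383 19609691 true, .edge 6325 981 false])) (.leaf (.eqT 737 25385043 true [.plain 6383 29911105 true, .edge 6370 488 false] [.edge 6242 0 false]))))
(.node 2 (.node 1 (.leaf (.eq 1019 19222599 [.plain 6354 19222599 false] [.plain 6389 17043521 false, .plain 4841 19738691 false])) (.leaf (.eq 292 17043521 [] [.plain 6390 6707277 false]))) (.node 1 (.leaf (.mov 280 29904967 false [.plain 6391 17780805 true, .edge 1748 735 false])) (.leaf (.mov 280 4808797 false [.plain 6391 19095647 true, .edge 1778 557 false]))))))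
(.node 8 (.node 4 (.node 2 (.node 1 (.leaf (.eqT 280 4544593 true [.plain 6391 10704979 true, .edge 5477 228 false] [.edge 5315 0 false])) (.leaf (.eqT 280 29904967 true [.plain 6391 17780805 true, .edge 5478 879 false] [.edge 5321 0 false]))) (.node 1 (.leaf (.mov 280 9056345 false [.plain 6391 21311579 true, .edge 5479 291 false])) (.leaf (.mov 280 4808797 true [.plain 6391 19095647 true, .edge 5498 1508 false]))))
(.node 2 (.node 1 (.leaf (.mov 280 17043521 false [.plain 6391 8982595 true, .edge 5529 819 false])) (.leaf (.mov 280 31801425 false [.plain 6391 11419731 true, .edge 5530 566 false]))) (.node 1 (.leaf (.mov 280 25385043 true [.plain 6391 7166033 true, .edge 5543 988 false])) (.leaf (.mov 280 6776923 false [.plain 6391 14837849 true, .edge 5571 127 false])))))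
(.node 4 (.node 2 (.node 1 (.leaf (.mov 280 13510735 false [.plain 6391 29829197 true, .edge 5586 336 false])) (.leaf (.eqT 280 10971209 false [.plain 6391 14968907 true, .edge 5588 561 false] [.edge 5314 0 false]))) (.node 1 (.leaf (.eqT 280 11495495 true [.plain 6391 31746117 true, .edge 6201 1114 false] [.edge 5358 0 false])) (.leaf (.eqT 280 13310023 false [.plain 6391 23533637 true, .edge 6239 496 false] [.edge 5322 0 false]))))
(.node 2 (.node 1 (.leaf (.eqT 280 32131155 true [.plain 6391 21907537 true, .edge 6301 142 false] [.edge 5344 0 false])) (.leaf (.eq 1649 17043521 [] [.plain 6406 17043521 true]))) (.node 1 (.leaf (.mov 702 19085399 false [.plain 6407 17459289 true, .edge 5386 1458 false])) (.leaf (.eq 1640 17043521 [] [.plain 6405 17043521 true]))))))))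
(.node 30 (.node 15 (.node 7 (.node 3 (.node 1 (.leaf (.mov 698 17059919 true [.plain 6409 19081307 true, .edge 5357 1453 false])) (.node 1 (.leaf (.eq 1287 16916559 [.plain 6351 16916559 false] [.plain 6404 17043521 false])) (.leaf (.eq 1656 17043521 [] [.plain 6411 17043521 true]))))
(.node 2 (.node 1 (.leaf (.eqT 188 10971209 true [.plain 6412 25569371 true, .edge 5385 105 false] [.edge 3016 0 false])) (.leaf (.eqT 188 29904967 true [.plain 6412 23687245 true, .edge 5398 33 false] [.edge 3786 0 false]))) (.node 1 (.leaf (.eq 1665 15618119 [] [.plain 6414 17043521 false, .plain 6092 17043521 false, .plain 6139 8601681 false])) (.leaf (.eq 1665 17043521 [] [.plain 6415 27687005 false])))))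
(.node 4 (.node 2 (.node 1 (.leaf (.eqT 217 10971209 true [.plain 6416 27594817 true, .edge 5389 9 false] [.edge 1403 0 false])) (.leaf (.eq 1664 17195103 [] [.plain 6417 17043521 false, .plain 3501 26093633 false]))) (.node 1 (.leaf (.eq 1664 17043521 [] [.plain 6418 17461339 false])) (.leaf (.eqT 129 31801425 false [.plain 6419 17111119 true, .edge 5387 66 false] [.edge 2968 0 false]))))
(.node 2 (.node 1 (.leaf (.eq 1649 17125467 [.plain 6407 17125467 false] [.plain 6420 17043521 false, .plain 6281 17043521 false, .plain 6391 7284827 false])) (.leaf (.eq 702 17043521 [] [.plain 6421 19740751 false]))) (.node 1 (.leaf (.eqT 280 6776923 false [.plain 6422 17109085 true, .edge 2946 1005 false] [.edge 6401 0 false])) (.leaf (.eqT 280 9056345 false [.plain 6422 19867729 true, .edge 6408 1032 false] [.edge 6396 0 false]))))))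
(.node 7 (.node 3 (.node 1 (.leaf (.eq 1664 17766477 [.plain 6419 17766477 false] [.plain 6424 17043521 false])) (.node 1 (.leaf (.eq 1689 17043521 [] [.plain 6425 17782875 true])) (.leaf (.eq 1755 17043521 [] [.plain 6423 17190999 true]))))
(.node 2 (.node 1 (.leaf (.mov 697 11495495 true [.plain 6427 9261121 true, .edge 5566 346 false])) (.leaf (.eq 1657 10707011 [.plain 6314 10707011 false] [.plain 6413 17043521 false]))) (.node 1 (.leaf (.eq 1239 17043521 [] [.plain 6429 23607367 false])) (.leaf (.eqT 126 32125001 false [.plain 6430 19812437 true, .edge 6315 1092 false] [.edge 3032 0 false])))))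
(.node 4 (.node 2 (.node 1 (.leaf (.eq 1656 17567809 [.plain 6412 17567809 false] [.plain 6431 17043521 false])) (.leaf (.eq 724 17043521 [] [.plain 6432 11221063 true]))) (.node 1 (.leaf (.eqT 188 32131155 true [.plain 6433 11090001 true, .edge 3025 1126 false] [.edge 3562 0 false])) (.leaf (.eqT 188 7292999 false [.plain 6433 25778245 true, .edge 3026 288 false] [.edge 3751 0 false]))))
(.node 2 (.node 1 (.leaf (.eq 725 17070159 [.plain 3029 17070159 false] [.plain 6435 17043521 false])) (.leaf (.eq 1017 17043521 [] [.plain 6436 19355715 true]))) (.node 1 (.leaf (.eqT 126 13310023 false [.plain 6437 17651797 true, .edge 3746 879 false] [.edge 3041 0 false])) (.leaf (.eqT 126 19085399 true [.plain 6437 9050205 true, .edge 3771 1140 false] [.edge 975 0 false])))))))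
(.node 15 (.node 7 (.node 3 (.node 1 (.leaf (.eq 1023 25311321 [.plain 6196 25311321 false] [.plain 6439 17043521 false])) (.node 1 (.leaf (.eq 1022 17043521 [] [.plain 6440 13506625 false])) (.leaf (.eq 726 19101761 [.plain 6284 19101761 false] [.plain 6438 17043521 false]))))
(.node 2 (.node 1 (.leaf (.eq 727 17043521 [] [.plain 6442 17000531 true])) (.leaf (.eq 723 17698881 [] [.plain 6434 17043521 false, .plain 2006 17061977 false, .plain 3501 29700165 false]))) (.node 1 (.leaf (.eq 723 17043521 [] [.plain 6444 17698881 false])) (.leaf (.eqT 129 7292999 false [.plain 6445 17061977 true, .edge 3022 839 false] [.edge 2930 0 false])))))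
(.node 4 (.node 2 (.node 1 (.leaf (.eq 716 17043521 [] [.plain 6446 27619401 false])) (.leaf (.mov 697 17043521 true [.plain 6447 25516107 true, .edge 2992 1383 false]))) (.node 1 (.leaf (.mov 697 17059919 true [.plain 6447 25499717 true, .edge 2995 130 false])) (.leaf (.mov 697 27529303 false [.plain 6447 19230813 true, .edge 3017 206 false]))))
(.node 2 (.node 1 (.leaf (.mov 697 4808797 false [.plain 6447 23623757 true, .edge 3023 38 false])) (.leaf (.eqT 129 7292999 false [.plain 6445 17061977 true, .edge 6451 421 true] [.edge 2930 0 false]))) (.node 1 (.leaf (.eq 697 17043521 [] [.plain 6452 11106369 false])) (.leaf (.mov 697 29904967 true [.plain 6453 19884103 true, .edge 6428 1136 false]))))))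
(.node 8 (.node 4 (.node 2 (.node 1 (.leaf (.eq 641 17768543 [] [.plain 6403 17043521 false, .plain 5896 19691589 false, .plain 6330 17176661 false])) (.leaf (.eq 641 17043521 [] [.plain 6455 16939081 false]))) (.node 1 (.leaf (.eqT 188 10971209 false [.plain 6456 19208263 true, .edge 2798 1395 false] [.edge 3590 0 false])) (.leaf (.eq 647 16922697 [] [.plain 6457 17043521 false, .plain 6335 17043521 false]))))
(.node 2 (.node 1 (.leaf (.eq 647 17043521 [] [.plain 6458 17244239 false])) (.leaf (.eqT 217 31801425 true [.plain 6459 25311327 true, .edge 2799 59 false] [.edge 4528 0 false]))) (.node 1 (.leaf (.eq 648 8998987 [.plain 2805 8998987 false] [.plain 6460 17043521 false, .plain 6156 27605063 false])) (.leaf (.eq 622 17043521 [] [.plain 6461 32002117 false])))))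
(.node 4 (.node 2 (.node 1 (.leaf (.eqT 374 9056345 false [.plain 6462 17457231 true, .edge 2727 1327 false] [.edge 6157 0 false])) (.leaf (.eqT 374 6776923 false [.plain 6462 19353687 true, .edge 2731 1484 false] [.edge 6158 0 false]))) (.node 1 (.leaf (.mov 374 29904967 true [.plain 6462 25694293 true, .edge 2782 510 false])) (.leaf (.eqT 374 19085399 true [.plain 6462 27467859 true, .edge 2797 25 false] [.edge 5733 0 false]))))
(.node 2 (.node 1 (.leaf (.eq 644 10711131 [] [.plain 6466 17043521 false, .plain 6098 17784919 false, .plain 6391 17705025 false])) (.leaf (.eq 644 17043521 [] [.plain 6467 29960269 false]))) (.node 1 (.leaf (.eqT 280 31801425 false [.plain 6468 17002569 true, .edge 2788 1492 false] [.edge 6399 0 false])) (.leaf (.eqT 280 31801425 true [.plain 6468 17002569 true, .edge 2789 1167 false] [.edge 5345 0 false])))))))))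
(.node 61 (.node 30 (.node 15 (.node 7 (.node 3 (.node 1 (.leaf (.eq 645 8982601 [.plain 2796 8982601 false, .plain 6462 19865689 false] [.plain 6470 17043521 false])) (.node 1 (.leaf (.eq 1651 17043521 [] [.plain 6471 17043521 true])) (.leaf (.mov 374 23928925 false [.plain 6472 6893649 true, .edge 5346 568 false]))))
(.node 2 (.node 1 (.leaf (.eq 643 19730503 [] [.plain 6469 17043521 false, .plain 6350 17190979 false, .plain 6391 15024207 false])) (.leaf (.eq 643 17043521 [] [.plain 6474 19664967 false]))) (.node 1 (.leaf (.eqT 280 7292999 false [.plain 6475 17524803 true, .edge 2786 1529 false] [.edge 5332 0 false])) (.leaf (.eq 1642 17043521 [] [.plain 6476 10637377 true])))))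
(.node 4 (.node 2 (.node 1 (.leaf (.eq 623 17506399 [.plain 2737 17506399 false, .plain 6462 19664963 false] [.plain 6464 17043521 false])) (.leaf (.eq 1238 17043521 [] [.plain 6478 17256515 true]))) (.node 1 (.leaf (.eq 113 4733013 [] [.plain 6463 17043521 false, .plain 6345 17440847 false])) (.leaf (.eq 214 17043521 [] [.plain 6480 15364173 true]))))
(.node 2 (.node 1 (.leaf (.mov 113 7292999 false [.plain 6481 27799619 true, .edge 3978 463 false])) (.leaf (.eqT 113 31801425 false [.plain 6481 23685197 true, .edge 4000 1311 false] [.edge 2724 0 false]))) (.node 1 (.leaf (.mov 113 4808797 true [.plain 6481 21833819 true, .edge 4290 911 false])) (.leaf (.eqT 113 25385043 true [.plain 6481 30031945 true, .edge 4415 893 false] [.edge 804 0 false]))))))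
(.node 7 (.node 3 (.node 1 (.leaf (.eqT 113 32131155 true [.plain 6481 8919119 true, .edge 4418 292 false] [.edge 2763 0 false])) (.node 1 (.leaf (.mov 113 32125001 false [.plain 6481 8872021 true, .edge 4454 393 false])) (.leaf (.eq 1201 27545681 [.plain 5924 27545681 false, .plain 6481 8919119 false] [.plain 6486 17043521 false]))))
(.node 2 (.node 1 (.leaf (.eq 633 17043521 [] [.plain 6488 17043521 true])) (.leaf (.eq 1196 19732571 [.plain 4496 19732571 false] [.plain 6485 17043521 false]))) (.node 1 (.leaf (.eq 758 17043521 [] [.plain 6490 17004631 false])) (.leaf (.eqT 120 13510735 false [.plain 6491 17444957 true, .edge 3137 335 false] [.edge 2772 0 false])))))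
(.node 4 (.node 2 (.node 1 (.leaf (.eqT 120 27529303 false [.plain 6491 19359815 true, .edge 3139 850 false] [.edge 2889 0 false])) (.leaf (.eq 760 17178703 [.plain 3150 17178703 false] [.plain 6493 17043521 false]))) (.node 1 (.leaf (.eq 710 17043521 [] [.plain 6494 17135697 false])) (.leaf (.mov 673 17059919 true [.plain 6495 17117279 true, .edge 5805 504 false]))))
(.node 2 (.node 1 (.leaf (.mov 673 10971209 false [.plain 6495 10909763 true, .edge 5806 1188 false])) (.leaf (.mov 673 19085399 false [.plain 6495 19032133 true, .edge 5857 287 false]))) (.node 1 (.leaf (.mov 673 32125001 false [.plain 6495 32184407 true, .edge 6129 315 false])) (.leaf (.eq 750 4743235 [.plain 3568 4743235 false, .plain 3574 13586523 false, .plain 5584 4538459 false, .plain 6391 21526617 false] [.plain 6492 17043521 false])))))))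
(.node 15 (.node 7 (.node 3 (.node 1 (.leaf (.eq 638 17043521 [] [.plain 6500 17043521 true])) (.node 1 (.leaf (.eqT 280 19085399 false [.plain 6501 17127503 true, .edge 2773 1307 false] [.edge 4897 0 false])) (.leaf (.eqT 280 25385043 true [.plain 6501 27881561 true, .edge 2774 934 false] [.edge 6400 0 false]))))
(.node 2 (.node 1 (.leaf (.eq 639 9197643 [.plain 2781 9197643 false, .plain 6462 8917071 false] [.plain 6503 17043521 false, .plain 6278 17586271 false, .plain 6495 25497675 false])) (.leaf (.eq 673 17043521 [] [.plain 6504 25456731 true]))) (.node 1 (.leaf (.mov 374 10971209 false [.plain 6505 17786945 true, .edge 2890 1415 false])) (.leaf (.mov 374 4544593 true [.plain 6505 19683415 true, .edge 6496 819 false])))))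
(.node 4 (.node 2 (.node 1 (.leaf (.eqT 374 17043521 false [.plain 6505 21893203 true, .edge 6497 656 false] [.edge 2050 0 false])) (.leaf (.mov 374 32125001 false [.plain 6505 19083349 true, .edge 6498 1198 false]))) (.node 1 (.leaf (.eqT 374 19085399 false [.plain 6505 30226503 true, .edge 6499 544 false] [.edge 5736 0 false])) (.leaf (.eq 845 17440847 [.plain 6017 17440847 false] [.plain 6510 17043521 false]))))
(.node 2 (.node 1 (.leaf (.eq 1120 17043521 [] [.plain 6511 17262667 true])) (.leaf (.eq 909 17641567 [] [.plain 6508 17043521 false, .plain 2840 21979225 false]))) (.node 1 (.leaf (.eq 909 17043521 [] [.plain 6513 17659991 false])) (.leaf (.eq 1457 17043521 [] [.plain 6502 17043521 true]))))))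
(.node 8 (.node 4 (.node 2 (.node 1 (.leaf (.eqT 120 17043521 true [.plain 6515 25374799 true, .edge 4898 57 false] [.edge 801 0 false])) (.leaf (.eq 1458 17043521 [] [.plain 6516 11016273 false]))) (.node 1 (.leaf (.eqT 113 29904967 true [.plain 6517 17770573 true, .edge 4899 334 false] [.edge 2753 0 false])) (.leaf (.eq 1459 9195601 [.plain 4905 9195601 false] [.plain 6518 17043521 false, .plain 3542 17111105 false, .plain 5584 11286611 false, .plain 6391 4681809 false]))))
(.node 2 (.node 1 (.leaf (.eq 1452 17043521 [] [.plain 6519 17461341 false])) (.leaf (.eqT 280 31801425 false [.plain 6520 15689815 true, .edge 4891 795 false] [.edge 6399 0 false]))) (.node 1 (.leaf (.eq 1453 17109087 [] [.plain 6521 17043521 false, .plain 6350 17190979 false, .plain 6391 15024207 false])) (.leaf (.eq 1453 17043521 [] [.plain 6522 17109085 false])))))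
(.node 4 (.node 2 (.node 1 (.leaf (.eqT 280 31801425 true [.plain 6523 17717315 true, .edge 4892 16 false] [.edge 5345 0 false])) (.leaf (.eq 1454 25770067 [] [.plain 6524 17043521 false, .plain 6472 17043521 false]))) (.node 1 (.leaf (.eq 1454 17043521 [] [.plain 6525 11366473 false])) (.leaf (.eqT 374 32131155 true [.plain 6526 30160961 true, .edge 4893 1306 false] [.edge 5738 0 false]))))
(.node 2 (.node 1 (.leaf (.eq 1455 17633371 [] [.plain 6527 17043521 false, .plain 6027 27928665 false, .plain 6139 17125449 false])) (.leaf (.eq 1455 17043521 [] [.plain 6528 17633353 false]))) (.node 1 (.leaf (.eqT 217 32125001 true [.plain 6529 21368907 true, .edge 4894 1084 false] [.edge 4522 0 false])) (.leaf (.eq 1456 19675217 [.plain 4896 19675217 false] [.plain 6530 17043521 false, .plain 6144 25505873 false]))))))))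
(.node 30 (.node 15 (.node 7 (.node 3 (.node 1 (.leaf (.eq 266 17043521 [] [.plain 6531 15036503 false])) (.node 1 (.leaf (.mov 188 13310023 true [.plain 6532 27947085 true, .edge 4685 444 false])) (.leaf (.eqT 188 31801425 false [.plain 6532 21237855 true, .edge 4873 887 false] [.edge 3034 0 false]))))
(.node 2 (.node 1 (.leaf (.eqT 188 17043521 true [.plain 6532 25522261 true, .edge 4874 435 false] [.edge 2853 0 false])) (.leaf (.eq 1432 11014225 [] [.plain 6535 17043521 false, .plain 2860 17043521 false, .plain 3052 4472911 false]))) (.node 1 (.leaf (.eq 1432 17043521 [] [.plain 6536 8982601 false])) (.leaf (.eqT 129 4808797 false [.plain 6537 17002569 true, .edge 4875 1492 false] [.edge 3105 0 false])))))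
(.node 4 (.node 2 (.node 1 (.leaf (.eq 1433 17705037 [] [.plain 6538 17043521 false, .plain 3535 19877955 false, .plain 5584 17526859 false, .plain 6391 13527113 false])) (.leaf (.eq 1433 17043521 [] [.plain 6539 17004633 false]))) (.node 1 (.leaf (.eqT 280 27529303 false [.plain 6540 17584203 true, .edge 4876 513 false] [.edge 4763 0 false])) (.leaf (.eq 1432 17569885 [.plain 6537 17569885 false] [.plain 6541 17043521 false, .plain 5900 17043521 false]))))
(.node 2 (.node 1 (.leaf (.eq 1200 17043521 [] [.plain 6542 16939091 true])) (.leaf (.eqT 129 4808797 true [.plain 6543 17651779 true, .edge 5901 914 false] [.edge 3118 0 false]))) (.node 1 (.leaf (.eq 1645 17061981 [] [.plain 6544 17043521 false, .plain 3568 17043521 false, .plain 3574 30105669 false, .plain 5584 17244229 false, .plain 6391 25450567 false])) (.leaf (.eq 1645 17043521 [] [.plain 6545 17061967 false]))))))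
(.node 7 (.node 3 (.node 1 (.leaf (.eqT 280 17059919 true [.plain 6546 27873351 true, .edge 5335 630 false] [.edge 5333 0 false])) (.node 1 (.leaf (.eq 1646 9197657 [.plain 5342 9197657 false, .plain 5900 9056339 false, .plain 6543 8999001 false] [.plain 6547 17043521 false])) (.leaf (.eq 1644 17043521 [] [.plain 6548 17043521 true]))))
(.node 2 (.node 1 (.leaf (.eq 1425 19339335 [] [.plain 6534 17043521 false, .plain 6284 17043521 false])) (.leaf (.eq 1425 17043521 [] [.plain 6550 19273797 false]))) (.node 1 (.leaf (.eqT 374 13310023 true [.plain 6551 25372763 true, .edge 4889 983 false] [.edge 5934 0 false])) (.leaf (.eq 1445 11300933 [] [.plain 6552 17043521 false, .plain 5925 9048149 false, .plain 6281 8876123 false, .plain 6391 32256095 false])))))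
(.node 4 (.node 2 (.node 1 (.leaf (.eq 1445 17043521 [] [.plain 6553 27865165 false])) (.leaf (.eqT 280 6776923 false [.plain 6554 16920671 true, .edge 4880 539 false] [.edge 6401 0 false]))) (.node 1 (.leaf (.eqT 280 19085399 true [.plain 6554 25694279 true, .edge 4881 305 false] [.edge 5895 0 false])) (.leaf (.eq 1446 11302993 [.plain 4888 11302993 false, .plain 6551 10698819 false] [.plain 6556 17043521 false, .plain 6227 4991055 false]))))
(.node 2 (.node 1 (.leaf (.eq 851 17043521 [] [.plain 6557 21129287 true])) (.leaf (.eqT 374 31801425 true [.plain 6558 27611201 true, .edge 6228 153 false] [.edge 6021 0 false]))) (.node 1 (.leaf (.eq 1100 10973275 [] [.plain 6559 17043521 false, .plain 5767 15274061 false])) (.leaf (.eq 1100 17043521 [] [.plain 6560 15294559 false])))))))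
(.node 15 (.node 7 (.node 3 (.node 1 (.leaf (.eqT 144 25385043 true [.plain 6561 8943691 true, .edge 4008 1319 false] [.edge 1051 0 false])) (.node 1 (.leaf (.mov 144 6776923 false [.plain 6561 19538013 true, .edge 4011 733 false])) (.leaf (.eq 1099 27529301 [] [.plain 6562 17043521 false, .plain 1144 11427917 false]))))
(.node 2 (.node 1 (.leaf (.eq 1099 17043521 [] [.plain 6564 27529311 false])) (.leaf (.eqT 134 19085399 true [.plain 6565 27807833 true, .edge 5881 330 false] [.edge 911 0 false]))) (.node 1 (.leaf (.eqT 134 29904967 true [.plain 6565 26161235 true, .edge 5886 758 false] [.edge 3368 0 false])) (.leaf (.eq 1210 11212883 [] [.plain 6567 17043521 false, .plain 5731 27553859 false])))))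
(.node 4 (.node 2 (.node 1 (.leaf (.eq 1210 17043521 [] [.plain 6568 13178959 false])) (.leaf (.eqT 374 4808797 false [.plain 6569 17068119 true, .edge 4447 1435 false] [.edge 5735 0 false]))) (.node 1 (.leaf (.eq 1208 17043521 [] [.plain 6570 19689557 false])) (.leaf (.eq 1383 9056343 [.plain 5888 9056343 false] [.plain 6566 17043521 false, .plain 918 17043521 false]))))
(.node 2 (.node 1 (.leaf (.eq 1096 17043521 [] [.plain 6572 23683165 false])) (.leaf (.eqT 123 32125001 false [.plain 6573 19673169 true, .edge 4001 1458 false] [.edge 5682 0 false]))) (.node 1 (.leaf (.eq 1099 17119325 [.plain 6565 17119325 false] [.plain 6574 17043521 false])) (.leaf (.eq 1720 17043521 [] [.plain 6575 17244255 true]))))))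
(.node 8 (.node 4 (.node 2 (.node 1 (.leaf (.eqT 134 9056345 false [.plain 6576 17526851 true, .edge 5500 1184 false] [.edge 3308 0 false])) (.leaf (.eq 1711 15607881 [.plain 5681 15607881 false] [.plain 6577 17043521 false]))) (.node 1 (.leaf (.eq 822 17043521 [] [.plain 6578 19355715 true])) (.leaf (.eqT 123 10971209 false [.plain 6579 17594453 true, .edge 3299 974 false] [.edge 2941 0 false]))))
(.node 2 (.node 1 (.leaf (.eqT 123 32125001 true [.plain 6579 19339341 true, .edge 4316 668 false] [.edge 2899 0 false])) (.leaf (.eq 1122 19556443 [] [.plain 6581 17043521 false, .plain 5799 17578059 false]))) (.node 1 (.leaf (.eq 1122 17043521 [] [.plain 6582 19556421 false])) (.leaf (.eqT 145 29904967 false [.plain 6583 17524821 true, .edge 4080 910 false] [.edge 3413 0 false])))))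
(.node 4 (.node 2 (.node 1 (.leaf (.eq 1121 19288153 [] [.plain 6584 17043521 false, .plain 6234 17043521 false, .plain 6238 19140691 false, .plain 6391 21829705 false])) (.leaf (.eq 1121 17043521 [] [.plain 6585 19880013 false]))) (.node 1 (.leaf (.eqT 280 23928925 false [.plain 6586 19294287 true, .edge 4079 896 false] [.edge 5893 0 false])) (.leaf (.eq 1122 17180755 [.plain 6583 17180755 false] [.plain 6587 17043521 false, .plain 6571 16937039 false]))))
(.node 2 (.node 1 (.leaf (.eq 1110 17043521 [] [.plain 6588 19796053 true])) (.leaf (.eqT 145 4808797 false [.plain 6589 17125465 true, .edge 4051 119 false] [.edge 3425 0 false]))) (.node 1 (.leaf (.eq 1075 13242443 [.plain 4379 13242443 false, .plain 5731 25770075 false] [.plain 6590 17043521 false, .plain 5808 17043521 false])) (.leaf (.eq 698 17043521 [] [.plain 6591 17764429 true]))))))))))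

/-- The reasons. -/
def caseCFullSrcRRLRR : Tab Src :=
(.node 122 (.node 61 (.node 30 (.node 15 (.node 7 (.node 3 (.node 1 (.leaf (.eqT 374 31801425 true [.plain 6592 9179229 true, .edge 6410 1293 false] [.edge 6021 0 false])) (.node 1 (.leaf (.eq 1653 27809875 [] [.plain 6593 17043521 false, .plain 5767 15274061 false])) (.leaf (.eq 1653 17043521 [] [.plain 6594 9254987 false]))))
(.node 2 (.node 1 (.leaf (.eqT 144 4808797 false [.plain 6595 17784917 true, .edge 5348 1188 false] [.edge 3401 0 false])) (.leaf (.eq 1652 19816539 [] [.plain 6596 17043521 false, .plain 6558 17780817 false]))) (.node 1 (.leaf (.eq 1652 17043521 [] [.plain 6597 19607623 false])) (.leaf (.eqT 374 13310023 false [.plain 6598 19560525 true, .edge 5347 469 false] [.edge 6103 0 false])))))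
(.node 4 (.node 2 (.node 1 (.leaf (.eq 1653 17567821 [.plain 6595 17567821 false] [.plain 6599 17043521 false, .plain 6072 17190979 false])) (.leaf (.eq 899 17043521 [] [.plain 6600 17782869 true]))) (.node 1 (.leaf (.eq 821 19216479 [] [.plain 6580 17043521 false, .plain 6245 17524815 false])) (.leaf (.eq 821 17043521 [] [.plain 6602 19214423 false]))))
(.node 2 (.node 1 (.leaf (.eq 1444 19222595 [] [.plain 6555 17043521 false, .plain 6427 17715271 false])) (.leaf (.eq 1444 17043521 [] [.plain 6604 19224643 false]))) (.node 1 (.leaf (.eqT 697 17043521 false [.plain 6605 17784901 true, .edge 4878 357 false] [.edge 2931 0 false])) (.leaf (.mov 697 10971209 true [.plain 6605 11407443 true, .edge 5290 315 false]))))))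
(.node 7 (.node 3 (.node 1 (.leaf (.mov 697 4544593 true [.plain 6453 8611921 true, .edge 6607 724 false])) (.node 1 (.leaf (.eq 277 17043521 [] [.plain 6606 19607621 false])) (.leaf (.eqT 129 29904967 false [.plain 6609 21117013 true, .edge 4954 36 false] [.edge 3098 0 false]))))
(.node 2 (.node 1 (.leaf (.eqT 129 11495495 true [.plain 6609 27416667 true, .edge 5280 1301 false] [.edge 3106 0 false])) (.leaf (.eqT 129 32131155 true [.plain 6609 19079237 true, .edge 5306 1423 false] [.edge 3503 0 false]))) (.node 1 (.leaf (.eq 1627 21461085 [] [.plain 6612 17043521 false, .plain 1400 17586249 false])) (.leaf (.eq 1627 17043521 [] [.plain 6613 13332551 false])))))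
(.node 4 (.node 2 (.node 1 (.leaf (.eqT 217 32125001 true [.plain 6614 19150937 true, .edge 5301 495 false] [.edge 4522 0 false])) (.leaf (.eq 1626 8808535 [] [.plain 6615 17043521 false, .plain 6144 25505873 false]))) (.node 1 (.leaf (.eq 1626 17043521 [] [.plain 6616 23617613 false])) (.leaf (.eqT 188 31801425 true [.plain 6617 11081817 true, .edge 5299 454 false] [.edge 3759 0 false]))))
(.node 2 (.node 1 (.leaf (.eq 1622 27474015 [] [.plain 6618 17043521 false, .plain 6362 27605063 false])) (.leaf (.eq 1622 17043521 [] [.plain 6619 31860827 false]))) (.node 1 (.leaf (.eqT 737 7292999 false [.plain 6620 19882053 true, .edge 5293 1462 false] [.edge 6364 0 false])) (.leaf (.eq 1623 17705053 [] [.plain 6621 17043521 false, .plain 6441 17715283 false])))))))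
(.node 15 (.node 7 (.node 3 (.node 1 (.leaf (.eq 1623 17043521 [] [.plain 6622 17004617 false])) (.node 1 (.leaf (.eqT 145 25385043 true [.plain 6623 11302991 true, .edge 5294 618 false] [.edge 2843 0 false])) (.leaf (.eq 1624 25702481 [] [.plain 6624 17043521 false, .plain 5962 17576015 false, .plain 5991 11343943 false, .plain 6041 5122121 false]))))
(.node 2 (.node 1 (.leaf (.eq 1624 17043521 [] [.plain 6625 9203785 false])) (.leaf (.eqT 229 10971209 false [.plain 6626 19605581 true, .edge 5295 65 false] [.edge 6122 0 false]))) (.node 1 (.leaf (.eq 1625 17256527 [.plain 5297 17256527 false, .plain 6609 25577561 false] [.plain 6627 17043521 false])) (.leaf (.eq 893 17043521 [] [.plain 6628 17193055 true])))))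
(.node 4 (.node 2 (.node 1 (.leaf (.eqT 129 13510735 false [.plain 6629 16939091 true, .edge 3589 1093 false] [.edge 3097 0 false])) (.leaf (.eq 892 21506123 [.plain 6119 21506123 false] [.plain 6630 17043521 false]))) (.node 1 (.leaf (.eq 742 17043521 [] [.plain 6631 19355715 true])) (.leaf (.eqT 229 9056345 false [.plain 6632 16918617 true, .edge 3092 874 false] [.edge 6048 0 false]))))
(.node 2 (.node 1 (.leaf (.eq 741 19812433 [.plain 6171 19812433 false] [.plain 6633 17043521 false])) (.leaf (.eq 1767 17043521 [] [.plain 6634 17190987 true]))) (.node 1 (.leaf (.eqT 188 23928925 false [.plain 6635 19099741 true, .edge 5575 628 false] [.edge 3822 0 false])) (.leaf (.eq 1768 17061981 [] [.plain 6636 17043521 false, .plain 6168 17719387 false]))))))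
(.node 8 (.node 4 (.node 2 (.node 1 (.leaf (.eq 1768 17043521 [] [.plain 6637 17061967 false])) (.leaf (.eqT 129 32131155 true [.plain 6638 9254987 true, .edge 5576 1083 false] [.edge 3503 0 false]))) (.node 1 (.leaf (.eq 1769 27791435 [.plain 5582 27791435 false] [.plain 6639 17043521 false, .plain 1400 17586249 false])) (.leaf (.eq 1751 17043521 [] [.plain 6640 7041119 false]))))
(.node 2 (.node 1 (.leaf (.eqT 217 32125001 true [.plain 6641 25432131 true, .edge 5556 849 false] [.edge 4522 0 false])) (.leaf (.eq 1750 11089997 [] [.plain 6642 17043521 false, .plain 6144 25505873 false]))) (.node 1 (.leaf (.eq 1750 17043521 [] [.plain 6643 11096135 false])) (.leaf (.eq 1612 11106397 [] [.plain 6611 17043521 false, .plain 3117 17043521 false])))))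
(.node 4 (.node 2 (.node 1 (.leaf (.eq 1612 17043521 [] [.plain 6645 11106375 false])) (.leaf (.eqT 129 10971209 true [.plain 6646 27793499 true, .edge 5275 881 false] [.edge 886 0 false]))) (.node 1 (.leaf (.eq 1611 9263183 [] [.plain 6647 17043521 false, .plain 893 17043521 false])) (.leaf (.eq 1611 17043521 [] [.plain 6648 27816015 false]))))
(.node 2 (.node 1 (.leaf (.eqT 123 6776923 false [.plain 6649 16939085 true, .edge 5281 664 false] [.edge 2955 0 false])) (.leaf (.eq 1616 17244235 [] [.plain 6650 17043521 false, .plain 6300 19085393 false, .plain 6391 29706321 false]))) (.node 1 (.leaf (.eq 1616 17043521 [] [.plain 6651 16922695 false])) (.leaf (.eqT 280 13510735 true [.plain 6652 9121867 true, .edge 5282 98 false] [.edge 4726 0 false]))))))))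
(.node 30 (.node 15 (.node 7 (.node 3 (.node 1 (.leaf (.eq 1617 9189457 [.plain 5289 9189457 false, .plain 6605 27474009 false] [.plain 6653 17043521 false])) (.node 1 (.leaf (.eq 1321 17043521 [] [.plain 6654 16982085 true])) (.leaf (.mov 697 10971209 false [.plain 6655 17786945 true, .edge 4709 1415 false]))))
(.node 2 (.node 1 (.leaf (.mov 697 9056345 false [.plain 6655 4730963 true, .edge 5326 1090 false])) (.leaf (.mov 697 7292999 false [.plain 6453 29499463 true, .edge 6657 65 false]))) (.node 1 (.leaf (.eqT 1641 17043521 false [.edge 6658 1452 true] [.edge 5324 0 false])) (.leaf (.eq 697 28199007 [] [.plain 6659 17043521 false, .plain 6655 9396299 false])))))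
(.node 4 (.node 2 (.node 1 (.leaf (.eq 697 17043521 [] [.plain 6660 6973515 false])) (.leaf (.eqT 697 29904967 true [.plain 6661 23951435 true, .edge 6608 1392 false] [.edge 6454 0 false]))) (.node 1 (.leaf (.eqT 697 17043521 false [.plain 6661 7293017 true, .edge 6658 1282 false] [.edge 2931 0 false])) (.leaf (.eq 1641 17043521 [] [.plain 6663 17053773 false]))))
(.node 2 (.node 1 (.leaf (.eqT 129 10971209 true [.plain 6664 26163283 true, .edge 5327 1291 false] [.edge 886 0 false])) (.leaf (.eq 1642 17043531 [.plain 6477 17043531 false] [.plain 6665 17043521 false, .plain 893 17043521 false]))) (.node 1 (.leaf (.eq 642 17043521 [] [.plain 6666 32254021 false])) (.leaf (.eq 1616 10702931 [.plain 6652 10702931 false] [.plain 6662 17043521 false]))))))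
(.node 7 (.node 3 (.node 1 (.leaf (.eq 1754 17043521 [] [.plain 6668 17633351 true])) (.node 1 (.leaf (.eqT 280 6776923 false [.plain 6669 17061955 true, .edge 5564 230 false] [.edge 6401 0 false])) (.leaf (.eq 1753 13127767 [.plain 6250 13127767 false] [.plain 6670 17043521 false, .plain 6427 17715271 false]))))
(.node 2 (.node 1 (.leaf (.eq 697 17043521 [] [.plain 6671 19802183 true])) (.leaf (.mov 345 4808797 true [.plain 6672 8925251 true, .edge 6448 1393 false]))) (.node 1 (.leaf (.mov 345 13510735 true [.plain 1963 13183045 true, .edge 6673 289 false])) (.leaf (.mov 345 31801425 true [.plain 6672 25434205 true, .edge 6449 1517 false])))))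
(.node 4 (.node 2 (.node 1 (.leaf (.mov 345 32131155 true [.plain 1963 31737921 true, .edge 6675 344 false])) (.leaf (.mov 345 7292999 false [.plain 6672 15605841 true, .edge 6450 431 false]))) (.node 1 (.leaf (.eqT 345 17043521 false [.plain 6672 15038551 true, .edge 6656 1064 false] [.edge 1959 0 false])) (.leaf (.eq 344 17043521 [] [.plain 6678 19359835 true]))))
(.node 2 (.node 1 (.leaf (.eqT 267 17043521 false [.plain 6679 17715281 true, .edge 1952 1249 false] [.edge 1618 0 false])) (.leaf (.eq 259 17043521 [] [.plain 6680 27619421 true]))) (.node 1 (.leaf (.eqT 62 17059919 true [.plain 6681 17109083 true, .edge 1589 856 false] [.edge 1970 0 false])) (.leaf (.eq 347 17043521 [] [.plain 6682 17043521 true])))))))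
(.node 15 (.node 7 (.node 3 (.node 1 (.leaf (.eq 1349 19675219 [] [.plain 6610 17043521 false, .plain 3532 17043521 false, .plain 3558 17004611 false])) (.node 1 (.leaf (.eq 1349 17043521 [] [.plain 6684 19755089 false])) (.leaf (.eqT 120 29904967 true [.plain 6685 19619913 true, .edge 4729 967 false] [.edge 2818 0 false]))))
(.node 2 (.node 1 (.leaf (.eq 1350 25524313 [.plain 4736 25524313 false] [.plain 6686 17043521 false])) (.leaf (.eq 651 17043521 [] [.plain 6687 17178711 true]))) (.node 1 (.leaf (.eqT 267 29904967 true [.plain 6688 30165071 true, .edge 2821 157 false] [.edge 4959 0 false])) (.leaf (.eq 1486 17043521 [] [.plain 6689 17068107 true])))))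
(.node 4 (.node 2 (.node 1 (.leaf (.eqT 650 17043521 true [.plain 6690 9197659 true, .edge 4958 154 false] [.edge 2808 0 false])) (.leaf (.mov 650 19085399 false [.plain 6690 6977601 true, .edge 4960 76 false]))) (.node 1 (.leaf (.eq 267 13127747 [] [.plain 6691 17043521 false, .plain 6688 17043521 false])) (.leaf (.eq 267 17043521 [] [.plain 6693 9318467 false]))))
(.node 2 (.node 1 (.leaf (.eqT 267 19085399 true [.plain 6694 32069705 true, .edge 4957 1508 false] [.edge 1624 0 false])) (.leaf (.eqT 267 29904967 false [.plain 6694 11417677 true, .edge 4977 242 false] [.edge 4917 0 false]))) (.node 1 (.leaf (.eq 1492 17043521 [] [.plain 6696 27936843 false])) (.leaf (.mov 1462 17059919 true [.plain 6697 29759583 true, .edge 4981 250 false]))))))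
(.node 8 (.node 4 (.node 2 (.node 1 (.leaf (.mov 1462 17043521 true [.plain 4912 17567815 true, .edge 6698 1174 false])) (.leaf (.eqT 1462 19085399 true [.plain 6697 9271365 true, .edge 4983 43 false] [.edge 4941 0 false]))) (.node 1 (.leaf (.eq 1491 17043521 [] [.plain 6700 19554373 false])) (.leaf (.mov 1475 19085399 false [.plain 6701 17643589 true, .edge 4970 670 false]))))
(.node 2 (.node 1 (.leaf (.eq 1486 25516113 [.plain 6690 25516113 false] [.plain 6695 17043521 false, .plain 1631 17043521 false])) (.leaf (.eq 650 17043521 [] [.plain 6703 19732553 false]))) (.node 1 (.leaf (.eqT 256 17043521 false [.plain 6704 17524825 true, .edge 2807 1233 false] [.edge 1569 0 false])) (.leaf (.eqT 256 19085399 false [.plain 6704 19880003 true, .edge 6692 1090 false] [.edge 1581 0 false])))))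
(.node 4 (.node 2 (.node 1 (.leaf (.eq 1487 17766493 [] [.plain 6706 17043521 false, .plain 1587 17043521 false])) (.leaf (.eq 1487 17043521 [] [.plain 6707 17700939 false]))) (.node 1 (.leaf (.eqT 256 17043521 false [.plain 6708 19343453 true, .edge 4961 1215 false] [.edge 1569 0 false])) (.leaf (.eq 1488 17043521 [] [.plain 6709 17526865 false]))))
(.node 2 (.node 1 (.leaf (.eqT 53 17059919 true [.plain 6710 10702913 true, .edge 4962 1530 false] [.edge 1588 0 false])) (.leaf (.eq 1489 19757129 [.plain 4968 19757129 false] [.plain 6711 17043521 false, .plain 6681 17043521 false]))) (.node 1 (.leaf (.eq 1462 17043521 [] [.plain 6712 4874307 false])) (.leaf (.eqT 62 13310023 true [.plain 6713 25768003 true, .edge 6699 470 false] [.edge 1464 0 false])))))))))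
(.node 61 (.node 30 (.node 15 (.node 7 (.node 3 (.node 1 (.leaf (.eq 1491 10969169 [.plain 6701 10969169 false] [.plain 6714 17043521 false, .plain 3501 17193039 false])) (.node 1 (.leaf (.eq 1475 17043521 [] [.plain 6715 21510213 false])) (.leaf (.eqT 129 4808797 false [.plain 6716 19036231 true, .edge 6702 1357 false] [.edge 3105 0 false]))))
(.node 2 (.node 1 (.leaf (.eq 1482 19214431 [] [.plain 6717 17043521 false, .plain 3535 19877955 false, .plain 5584 17526859 false, .plain 6391 13527113 false])) (.leaf (.eq 1482 17043521 [] [.plain 6718 19216469 false]))) (.node 1 (.leaf (.eqT 280 13510735 false [.plain 6719 17592411 true, .edge 4956 128 false] [.edge 6402 0 false])) (.leaf (.eq 1469 31920209 [] [.plain 6720 17043521 false, .plain 3532 19605571 false, .plain 3558 19148865 false])))))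
(.node 4 (.node 2 (.node 1 (.leaf (.eq 1469 17043521 [] [.plain 6721 25628761 false])) (.leaf (.eqT 120 4808797 true [.plain 6722 15689803 true, .edge 4994 291 false] [.edge 2834 0 false]))) (.node 1 (.leaf (.eq 1494 23210057 [] [.plain 6723 17043521 false, .plain 3052 21571649 false])) (.leaf (.eq 1494 17043521 [] [.plain 6724 27467847 false]))))
(.node 2 (.node 1 (.leaf (.eqT 129 29904967 true [.plain 6725 11368529 true, .edge 4985 412 false] [.edge 3126 0 false])) (.leaf (.eq 1295 17244247 [] [.plain 6726 17043521 false, .plain 3525 17043521 false, .plain 3528 9263191 false]))) (.node 1 (.leaf (.eq 1295 17043521 [] [.plain 6727 16922717 false])) (.leaf (.eqT 62 4808797 false [.plain 6728 19755097 true, .edge 4680 104 false] [.edge 1969 0 false]))))))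
(.node 7 (.node 3 (.node 1 (.leaf (.eq 1296 17659969 [.plain 4683 17659969 false] [.plain 6729 17043521 false])) (.node 1 (.leaf (.eq 345 17043521 [] [.plain 6730 19683407 true])) (.leaf (.eqT 256 23928925 false [.plain 6731 31664205 true, .edge 6254 243 false] [.edge 4707 0 false]))))
(.node 2 (.node 1 (.leaf (.eqT 256 4808797 true [.plain 6731 29780053 true, .edge 6674 1349 false] [.edge 4694 0 false])) (.leaf (.eqT 256 31801425 true [.plain 6731 14895177 true, .edge 6676 1428 false] [.edge 4693 0 false]))) (.node 1 (.leaf (.mov 256 31801425 false [.plain 6731 14895177 true, .edge 6677 148 false])) (.leaf (.eq 717 19142723 [.plain 2998 19142723 false] [.plain 6734 17043521 false])))))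
(.node 4 (.node 2 (.node 1 (.leaf (.eq 1304 17043521 [] [.plain 6736 25516105 true])) (.leaf (.eq 1308 17043521 [] [.plain 6733 17043521 true]))) (.node 1 (.leaf (.eqT 715 4808797 false [.plain 6738 23208021 true, .edge 4699 186 false] [.edge 3046 0 false])) (.leaf (.eq 1309 17043521 [] [.plain 6739 17526851 false]))))
(.node 2 (.node 1 (.leaf (.eq 1754 17068105 [.plain 6669 17068105 false] [.plain 6732 17043521 false])) (.leaf (.eq 1310 17043521 [] [.plain 6741 11210825 true]))) (.node 1 (.leaf (.eqT 280 25385043 true [.plain 6742 27531345 true, .edge 4701 1171 false] [.edge 6400 0 false])) (.leaf (.eq 1309 25563211 [.plain 6740 25563211 false] [.plain 6743 17043521 false, .plain 6278 17586271 false, .plain 6495 25497675 false, .plain 6505 25448531 false])))))))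
(.node 15 (.node 7 (.node 3 (.node 1 (.leaf (.eq 730 17043521 [] [.plain 6744 9195607 false])) (.node 1 (.leaf (.eqT 374 10971209 false [.plain 6745 17240155 true, .edge 3045 899 false] [.edge 6506 0 false])) (.leaf (.eq 715 17043521 [] [.plain 6746 25450573 false]))))
(.node 2 (.node 1 (.leaf (.eqT 120 13310023 true [.plain 6747 8917071 true, .edge 2991 633 false] [.edge 1943 0 false])) (.leaf (.eq 716 27547731 [.plain 6447 27547731 false, .plain 6672 17109083 false, .plain 6731 21260375 false] [.plain 6748 17043521 false]))) (.node 1 (.leaf (.eq 328 17043521 [] [.plain 6749 11358287 true])) (.leaf (.eqT 256 13510735 true [.plain 6750 11040851 true, .edge 1923 822 false] [.edge 4692 0 false])))))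
(.node 4 (.node 2 (.node 1 (.leaf (.eq 337 8925267 [] [.plain 6751 17043521 false, .plain 6737 17043521 false])) (.leaf (.eq 337 17043521 [] [.plain 6752 8933451 false]))) (.node 1 (.leaf (.eqT 126 17043521 true [.plain 6753 31602777 true, .edge 1924 475 false] [.edge 845 0 false])) (.leaf (.eq 338 19740763 [.plain 1930 19740763 false] [.plain 6754 17043521 false]))))
(.node 2 (.node 1 (.leaf (.eq 320 17043521 [] [.plain 6755 15276127 false])) (.leaf (.eqT 22 13510735 false [.plain 6756 17717341 true, .edge 1893 25 false] [.edge 660 0 false]))) (.node 1 (.leaf (.eq 329 17043521 [] [.plain 6757 17659973 false])) (.leaf (.eqT 93 19085399 false [.plain 6758 19884119 true, .edge 1898 1037 false] [.edge 677 0 false]))))))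
(.node 8 (.node 4 (.node 2 (.node 1 (.leaf (.eq 330 17180751 [] [.plain 6759 17043521 false, .plain 687 17043521 false])) (.leaf (.eq 330 17043521 [] [.plain 6760 16988235 false]))) (.node 1 (.leaf (.eqT 93 32125001 false [.plain 6761 30095429 true, .edge 3650 86 false] [.edge 2261 0 false])) (.leaf (.eq 940 17043521 [] [.plain 6762 17569883 false]))))
(.node 2 (.node 1 (.leaf (.mov 459 11495495 true [.plain 6763 11165787 true, .edge 3655 160 false])) (.leaf (.mov 459 19085399 true [.plain 2263 19081285 true, .edge 6764 1257 false]))) (.node 1 (.leaf (.eqT 459 19085399 true [.plain 6763 19542099 true, .edge 3658 1316 false] [.edge 6765 0 false])) (.leaf (.eq 941 17043521 [] [.plain 6766 27791441 false])))))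
(.node 4 (.node 2 (.node 1 (.leaf (.eqT 941 13310023 true [.plain 6767 13307975 true, .edge 3659 848 false] [.edge 3659 0 false])) (.leaf (.eq 942 19150921 [.plain 3665 19150921 false] [.plain 6768 17043521 false, .plain 3665 17043521 false]))) (.node 1 (.leaf (.eq 916 17043521 [] [.plain 6769 23601227 false])) (.leaf (.eqT 916 17043521 false [.plain 6770 17635395 true, .edge 3644 624 false] [.edge 3644 0 false]))))
(.node 2 (.node 1 (.leaf (.eq 932 17043521 [] [.plain 6771 17125457 false])) (.leaf (.eqT 932 19085399 false [.plain 6772 19034181 true, .edge 3645 833 false] [.edge 3645 0 false]))) (.node 1 (.leaf (.eq 933 17043521 [] [.plain 6773 17649731 false])) (.leaf (.eqT 933 19085399 true [.plain 6774 19624021 true, .edge 3646 1028 false] [.edge 3646 0 false]))))))))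
(.node 31 (.node 15 (.node 7 (.node 3 (.node 1 (.leaf (.eq 934 17043521 [] [.plain 6775 17109059 false])) (.node 1 (.leaf (.eqT 934 17043521 false [.plain 6776 17109059 true, .edge 3647 1198 false] [.edge 3647 0 false])) (.leaf (.eq 935 17567825 [.plain 3649 17567825 false] [.plain 6777 17043521 false, .plain 3649 17043521 false]))))
(.node 2 (.node 1 (.leaf (.eq 153 17043521 [] [.plain 6778 29636701 false])) (.leaf (.eqT 153 17043521 false [.plain 6779 17457245 true, .edge 997 1517 false] [.edge 997 0 false]))) (.node 1 (.leaf (.eq 152 4732999 [.plain 1019 4732999 false] [.plain 6780 17043521 false, .plain 1019 13113429 false])) (.leaf (.eq 60 17043521 [] [.plain 6781 29976643 false])))))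
(.node 4 (.node 2 (.node 1 (.leaf (.mov 60 4808797 false [.plain 6782 4880471 true, .edge 469 748 false])) (.leaf (.mov 60 27529303 false [.plain 6782 27816027 true, .edge 1866 424 false]))) (.node 1 (.leaf (.eqT 60 13310023 true [.plain 6782 13377623 true, .edge 1877 326 false] [.edge 1022 0 false])) (.leaf (.eq 327 17043521 [] [.plain 6785 11368513 false]))))
(.node 2 (.node 1 (.leaf (.eqT 28 29904967 false [.plain 6786 6955101 true, .edge 1913 422 false] [.edge 952 0 false])) (.leaf (.eq 333 17043521 [] [.plain 6787 17594445 false]))) (.node 1 (.leaf (.eqT 31 19085399 false [.plain 6788 19101761 true, .edge 1914 1515 false] [.edge 426 0 false])) (.leaf (.eq 334 17567815 [] [.plain 6789 17043521 false, .plain 951 17782873 false]))))))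
(.node 8 (.node 4 (.node 2 (.node 1 (.leaf (.eq 334 17043521 [] [.plain 6790 17567815 false])) (.leaf (.eqT 28 4808797 true [.plain 6791 19034177 true, .edge 1915 204 false] [.edge 986 0 false]))) (.node 1 (.leaf (.eq 335 11016275 [.plain 1921 11016275 false] [.plain 6792 17043521 false, .plain 1019 17043521 false])) (.leaf (.eq 324 17043521 [] [.plain 6793 17522753 false]))))
(.node 2 (.node 1 (.leaf (.eqT 60 17043521 true [.plain 6794 27791451 true, .edge 1867 1065 false] [.edge 455 0 false])) (.leaf (.eq 325 9271371 [.plain 1873 9271371 false] [.plain 6795 17043521 false]))) (.node 1 (.leaf (.eq 314 17043521 [] [.plain 6796 21520475 false])) (.leaf (.eqT 16 17043521 false [.plain 6797 19863617 true, .edge 1835 46 false] [.edge 139 0 false])))))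
(.node 4 (.node 2 (.node 1 (.leaf (.eq 315 17043521 [] [.plain 6798 17440853 false])) (.leaf (.eqT 1 9056345 false [.plain 6799 19738699 true, .edge 1836 1306 false] [.edge 150 0 false]))) (.node 1 (.leaf (.eq 316 17594451 [.plain 1838 17594451 false] [.plain 6800 17043521 false])) (.leaf (.eq 60 17043521 [] [.plain 6801 16920663 false]))))
(.node 2 (.node 1 (.leaf (.eqT 16 10971209 false [.plain 6802 11081795 true, .edge 6783 1009 false] [.edge 607 0 false])) (.leaf (.eqT 16 31801425 false [.plain 6802 31873103 true, .edge 6784 522 false] [.edge 580 0 false]))) (.node 1 (.leaf (.eq 324 17592409 [.plain 6794 17592409 false, .plain 6802 25522249 false] [.plain 6804 17043521 false])) (.leaf (.eq 83 17043521 [] [.plain 6805 17068107 true])))))))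
(.node 15 (.node 7 (.node 3 (.node 1 (.leaf (.eqT 16 7292999 false [.plain 6806 19556419 true, .edge 593 1266 false] [.edge 608 0 false])) (.node 1 (.leaf (.eqT 16 11495495 true [.plain 6806 27809871 true, .edge 2097 203 false] [.edge 454 0 false])) (.leaf (.eqT 16 17043521 true [.plain 6806 4876371 true, .edge 2111 189 false] [.edge 210 0 false]))))
(.node 2 (.node 1 (.leaf (.eqT 16 10971209 false [.plain 6806 27793473 true, .edge 2132 1199 false] [.edge 607 0 false])) (.leaf (.eq 407 17043521 [] [.plain 6810 27684947 false]))) (.node 1 (.leaf (.eqT 84 11495495 true [.plain 6811 17641555 true, .edge 2127 1519 false] [.edge 2170 0 false])) (.leaf (.eq 422 17043521 [] [.plain 6812 17651805 true])))))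
(.node 4 (.node 2 (.node 1 (.leaf (.mov 406 31801425 false [.plain 6813 15624279 true, .edge 2204 1079 false])) (.leaf (.eq 403 17043521 [] [.plain 6809 17127497 false]))) (.node 1 (.leaf (.eqT 22 27529303 false [.plain 6815 27596871 true, .edge 2121 347 false] [.edge 658 0 false])) (.leaf (.eq 404 17043521 [] [.plain 6816 17256521 false]))))
(.node 2 (.node 1 (.leaf (.eqT 93 17043521 true [.plain 6817 17444951 true, .edge 2145 935 false] [.edge 691 0 false])) (.leaf (.eq 415 11368531 [.plain 2155 11368531 false] [.plain 6818 17043521 false]))) (.node 1 (.leaf (.eq 412 17043521 [] [.plain 6819 27738179 false])) (.leaf (.eqT 99 11495495 true [.plain 6820 12738639 true, .edge 2134 1030 false] [.edge 694 0 false]))))))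
(.node 8 (.node 4 (.node 2 (.node 1 (.leaf (.eq 413 27816001 [.plain 2141 27816001 false] [.plain 6821 17043521 false, .plain 701 17043521 false])) (.leaf (.eq 398 17043521 [] [.plain 6822 31924315 false]))) (.node 1 (.leaf (.eqT 89 29904967 false [.plain 6823 31938631 true, .edge 2107 1386 false] [.edge 2403 0 false])) (.leaf (.eq 505 17043521 [] [.plain 6824 17043521 true]))))
(.node 2 (.node 1 (.leaf (.eq 394 8925253 [] [.plain 6808 17043521 false, .plain 6802 17043521 false])) (.leaf (.eq 394 17043521 [] [.plain 6826 8933461 false]))) (.node 1 (.leaf (.eqT 16 10971209 false [.plain 6827 19222597 true, .edge 2203 494 false] [.edge 607 0 false])) (.leaf (.eq 422 13183045 [.plain 6813 13183045 false] [.plain 6828 17043521 false])))))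
(.node 4 (.node 2 (.node 1 (.leaf (.eq 406 17043521 [] [.plain 6829 17262661 false])) (.leaf (.mov 84 7292999 false [.plain 6830 4472921 true, .edge 6814 1103 false]))) (.node 1 (.leaf (.eq 84 17043521 [] [.plain 6807 17193029 false])) (.leaf (.eqT 84 32131155 true [.plain 6832 30228561 true, .edge 2175 976 false] [.edge 2171 0 false]))))
(.node 2 (.node 1 (.leaf (.eqT 84 31801425 false [.plain 6832 29575251 true, .edge 6831 668 false] [.edge 2184 0 false])) (.leaf (.eq 447 17043521 [] [.plain 6834 17784917 false]))) (.node 1 (.leaf (.eqT 432 13510735 true [.plain 6835 17784917 true, .edge 2212 299 false] [.edge 2190 0 false])) (.leaf (.eq 448 17043521 [] [.plain 6836 17633353 false]))))))))))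

/-- The reasons. -/
def caseCFullSrcRRLR : Tab Src := .node 244 caseCFullSrcRRLRL caseCFullSrcRRLRR

/-- The reasons. -/
def caseCFullSrcRRL : Tab Src := .node 488 caseCFullSrcRRLL caseCFullSrcRRLR

/-- The reasons. -/
def caseCFullSrcRRRLL : Tab Src :=
(.node 122 (.node 61 (.node 30 (.node 15 (.node 7 (.node 3 (.node 1 (.leaf (.mov 431 19085399 true [.plain 6837 19294281 true, .edge 2213 767 false])) (.node 1 (.leaf (.eq 430 17043521 [] [.plain 6833 19740761 false])) (.leaf (.eq 61 17176651 [.plain 472 17176651 false] [.plain 6803 17043521 false]))))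
(.node 2 (.node 1 (.leaf (.eq 84 17043521 [] [.plain 6840 19740751 true])) (.leaf (.eqT 7 32125001 false [.plain 6841 13256799 true, .edge 6831 1140 false] [.edge 476 0 false]))) (.node 1 (.leaf (.eq 447 17444951 [.plain 6835 17444951 false] [.plain 6842 17043521 false, .plain 6802 9197633 false])) (.leaf (.eq 432 17043521 [] [.plain 6843 25577557 false])))))
(.node 4 (.node 2 (.node 1 (.leaf (.eqT 16 4808797 true [.plain 6844 15351879 true, .edge 2190 1450 false] [.edge 631 0 false])) (.leaf (.eq 431 17043521 [] [.plain 6845 4747331 false]))) (.node 1 (.leaf (.eqT 89 29904967 false [.plain 6846 17592389 true, .edge 2177 844 false] [.edge 2403 0 false])) (.leaf (.eqT 89 4808797 true [.plain 6846 19337311 true, .edge 6838 191 false] [.edge 2363 0 false]))))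
(.node 2 (.node 1 (.leaf (.eq 449 25522249 [.plain 2219 25522249 false] [.plain 6848 17043521 false])) (.leaf (.eq 491 17043521 [] [.plain 6849 17043521 true]))) (.node 1 (.leaf (.mov 430 10971209 true [.plain 6850 8919109 true, .edge 2368 123 false])) (.leaf (.mov 430 19085399 true [.plain 6839 17457235 true, .edge 6851 1405 false]))))))
(.node 7 (.node 3 (.node 1 (.leaf (.eq 430 19740749 [] [.plain 6847 17043521 false, .plain 6825 17043521 false])) (.node 1 (.leaf (.eq 430 17043521 [] [.plain 6853 19691591 false])) (.leaf (.mov 402 17043521 true [.plain 6854 19732545 true, .edge 2172 576 false]))))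
(.node 2 (.node 1 (.leaf (.eqT 7 13310023 true [.plain 6841 7022675 true, .edge 6855 21 true] [.edge 280 0 false])) (.leaf (.mov 402 19085399 true [.plain 6854 17510487 true, .edge 6852 1043 false]))) (.node 1 (.leaf (.eq 402 17043521 [] [.plain 6856 9189457 false])) (.leaf (.eqT 31 17043521 true [.plain 6858 17764429 true, .edge 6857 1218 false] [.edge 256 0 false])))))
(.node 4 (.node 2 (.node 1 (.leaf (.eq 492 17043521 [] [.plain 6859 19157059 false])) (.leaf (.eqT 22 9056345 false [.plain 6860 9205829 true, .edge 2383 645 false] [.edge 832 0 false]))) (.node 1 (.leaf (.eq 495 17043521 [] [.plain 6861 17576017 false])) (.leaf (.eqT 123 11495495 true [.plain 6862 10641481 true, .edge 2384 991 false] [.edge 3318 0 false]))))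
(.node 2 (.node 1 (.leaf (.eq 496 19230787 [.plain 2390 19230787 false] [.plain 6863 17043521 false])) (.leaf (.eq 483 17043521 [] [.plain 6864 11343949 false]))) (.node 1 (.leaf (.eqT 144 17043521 false [.plain 6865 17715283 true, .edge 2353 445 false] [.edge 954 0 false])) (.leaf (.eq 89 17043521 [] [.plain 6866 6639697 false])))))))
(.node 15 (.node 7 (.node 3 (.node 1 (.leaf (.eqT 28 32131155 true [.plain 6867 19540057 true, .edge 709 397 false] [.edge 816 0 false])) (.node 1 (.leaf (.eq 120 17043521 [] [.plain 6868 21508189 true])) (.leaf (.mov 99 32125001 false [.plain 6869 13320261 true, .edge 1052 935 false]))))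
(.node 2 (.node 1 (.leaf (.mov 99 10971209 false [.plain 693 10641483 true, .edge 6870 363 false])) (.leaf (.eqT 99 6776923 false [.plain 6869 27686977 true, .edge 2891 234 false] [.edge 2445 0 false]))) (.node 1 (.leaf (.eq 673 17522761 [.plain 6505 17522761 false] [.plain 6872 17043521 false])) (.leaf (.eq 522 17043521 [] [.plain 6873 17180737 true])))))
(.node 4 (.node 2 (.node 1 (.leaf (.eqT 374 32125001 false [.plain 6874 19540043 true, .edge 2469 446 false] [.edge 6509 0 false])) (.leaf (.eq 527 19816517 [] [.plain 6875 17043521 false, .plain 5528 16935001 false, .plain 6391 4808799 false]))) (.node 1 (.leaf (.eq 527 17043521 [] [.plain 6876 19607629 false])) (.leaf (.eqT 280 11495495 true [.plain 6877 8546397 true, .edge 2607 449 false] [.edge 5358 0 false]))))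
(.node 2 (.node 1 (.leaf (.eq 576 27732055 [] [.plain 6878 17043521 false, .plain 6412 17043521 false])) (.leaf (.eq 576 17043521 [] [.plain 6879 21180507 false]))) (.node 1 (.leaf (.eqT 188 23928925 false [.plain 6880 17197151 true, .edge 2598 1146 false] [.edge 3822 0 false])) (.leaf (.eq 575 15274067 [] [.plain 6881 17043521 false, .plain 6168 17719387 false]))))))
(.node 8 (.node 4 (.node 2 (.node 1 (.leaf (.eq 575 17043521 [] [.plain 6882 11210825 false])) (.leaf (.eqT 129 4808797 false [.plain 6883 7020629 true, .edge 2610 224 false] [.edge 3105 0 false]))) (.node 1 (.leaf (.eqT 129 32131155 true [.plain 6883 29691991 true, .edge 2647 565 false] [.edge 3503 0 false])) (.leaf (.eq 592 28194903 [] [.plain 6885 17043521 false, .plain 1400 17586249 false]))))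
(.node 2 (.node 1 (.leaf (.eq 592 17043521 [] [.plain 6886 15624279 false])) (.leaf (.eqT 217 31801425 true [.plain 6887 25712705 true, .edge 2638 964 false] [.edge 4528 0 false]))) (.node 1 (.leaf (.eq 591 8616005 [] [.plain 6888 17043521 false, .plain 6156 27605063 false])) (.leaf (.eq 591 17043521 [] [.plain 6889 29894731 false])))))
(.node 4 (.node 2 (.node 1 (.leaf (.eqT 374 9056345 false [.plain 6890 17109087 true, .edge 2636 334 false] [.edge 6157 0 false])) (.leaf (.eq 590 4794455 [] [.plain 6891 17043521 false, .plain 6345 17440847 false, .plain 6481 23492691 false]))) (.node 1 (.leaf (.eq 590 17043521 [] [.plain 6892 10698841 false])) (.leaf (.eq 580 17000529 [] [.plain 6884 17043521 false, .plain 3535 19877955 false, .plain 5584 17526859 false, .plain 6391 13527113 false]))))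
(.node 2 (.node 1 (.leaf (.eq 580 17043521 [] [.plain 6894 17508433 false])) (.leaf (.eqT 280 13510735 false [.plain 6895 19015749 true, .edge 2611 1078 false] [.edge 6402 0 false]))) (.node 1 (.leaf (.eq 581 17256529 [] [.plain 6896 17043521 false, .plain 3532 19605571 false, .plain 3558 19148865 false, .plain 6869 11081801 false])) (.leaf (.eq 581 17043521 [] [.plain 6897 17780817 false]))))))))
(.node 30 (.node 15 (.node 7 (.node 3 (.node 1 (.leaf (.eqT 99 4544593 true [.plain 6898 10641497 true, .edge 2612 779 false] [.edge 2595 0 false])) (.node 1 (.leaf (.eq 582 19214403 [.plain 2618 19214403 false] [.plain 6899 17043521 false, .plain 6883 17043521 false])) (.leaf (.eq 555 17043521 [] [.plain 6900 9269321 false]))))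
(.node 2 (.node 1 (.leaf (.eqT 129 31801425 true [.plain 6901 11417685 true, .edge 2565 1425 false] [.edge 3125 0 false])) (.leaf (.eq 563 27621465 [] [.plain 6902 17043521 false, .plain 3529 27605063 false, .plain 3561 25831519 false]))) (.node 1 (.leaf (.eq 563 17043521 [] [.plain 6903 25514067 false])) (.leaf (.eqT 188 17059919 true [.plain 6904 27727957 true, .edge 2566 3 false] [.edge 1183 0 false])))))
(.node 4 (.node 2 (.node 1 (.leaf (.eq 564 11079747 [.plain 2572 11079747 false] [.plain 6905 17043521 false, .plain 1194 17043521 false, .plain 6869 29509707 false])) (.leaf (.eq 552 17043521 [] [.plain 6906 23355461 false]))) (.node 1 (.leaf (.eqT 99 17043521 true [.plain 6907 17635419 true, .edge 2532 175 false] [.edge 689 0 false])) (.leaf (.eqT 99 27529303 false [.plain 6907 27793479 true, .edge 2539 954 false] [.edge 2541 0 false]))))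
(.node 2 (.node 1 (.leaf (.eqT 99 31801425 true [.plain 6907 32196679 true, .edge 2632 783 false] [.edge 2634 0 false])) (.leaf (.eq 571 27934813 [] [.plain 6910 17043521 false, .plain 6893 17043521 false]))) (.node 1 (.leaf (.eq 571 17043521 [] [.plain 6911 4927583 false])) (.leaf (.eqT 113 13510735 false [.plain 6912 17117273 true, .edge 2594 523 false] [.edge 2742 0 false]))))))
(.node 7 (.node 3 (.node 1 (.leaf (.eq 570 17524829 [] [.plain 6913 17043521 false, .plain 3551 17508425 false, .plain 3561 17522765 false])) (.node 1 (.leaf (.eq 570 17043521 [] [.plain 6914 17524829 false])) (.leaf (.eqT 188 4808797 false [.plain 6915 23672919 true, .edge 2608 446 false] [.edge 3736 0 false]))))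
(.node 2 (.node 1 (.leaf (.eq 579 17698889 [] [.plain 6916 17043521 false, .plain 6324 17043521 false])) (.leaf (.eq 737 17043521 [] [.plain 6917 19798101 true]))) (.node 1 (.leaf (.mov 579 19085399 false [.plain 6918 16986193 true, .edge 3077 1346 false])) (.leaf (.mov 579 11495495 true [.plain 6918 9396313 true, .edge 3078 342 false])))))
(.node 4 (.node 2 (.node 1 (.leaf (.mov 579 19085399 true [.plain 6918 16986193 true, .edge 6242 1026 false])) (.leaf (.mov 579 32125001 false [.plain 6918 30029917 true, .edge 6243 987 false]))) (.node 1 (.leaf (.mov 579 10971209 true [.plain 6918 8872007 true, .edge 6363 342 false])) (.leaf (.mov 579 31801425 false [.plain 6918 29706331 true, .edge 6364 657 false]))))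
(.node 2 (.node 1 (.leaf (.mov 579 10971209 false [.plain 6918 8872007 true, .edge 6365 294 false])) (.leaf (.mov 579 13510735 true [.plain 6918 15605843 true, .edge 6366 948 false]))) (.node 1 (.leaf (.mov 579 17059919 true [.plain 6918 19159111 true, .edge 6367 912 false])) (.leaf (.mov 579 32125001 true [.plain 6918 30029917 true, .edge 6368 1364 false])))))))
(.node 15 (.node 7 (.node 3 (.node 1 (.leaf (.mov 579 4544593 true [.plain 6918 6639707 true, .edge 6369 430 false])) (.node 1 (.leaf (.mov 579 31801425 true [.plain 6918 29706331 true, .edge 6370 912 false])) (.leaf (.mov 579 32131155 true [.plain 6918 30031943 true, .edge 6371 765 false]))))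
(.node 2 (.node 1 (.leaf (.mov 579 17043521 true [.plain 6918 19142729 true, .edge 6372 1511 false])) (.leaf (.mov 579 13310023 true [.plain 6918 15405137 true, .edge 6373 589 false]))) (.node 1 (.leaf (.mov 579 29904967 true [.plain 6918 32004183 true, .edge 6374 301 false])) (.leaf (.mov 579 4808797 true [.plain 6918 6907983 true, .edge 6375 1272 false])))))
(.node 4 (.node 2 (.node 1 (.leaf (.mov 579 25385043 true [.plain 6918 27480149 true, .edge 6376 1017 false])) (.leaf (.mov 579 13510735 false [.plain 6918 15605843 true, .edge 6377 1213 false]))) (.node 1 (.leaf (.mov 579 29904967 false [.plain 6918 32004183 true, .edge 6378 875 false])) (.leaf (.mov 579 23928925 false [.plain 6918 21833799 true, .edge 6379 499 false]))))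
(.node 2 (.node 1 (.leaf (.mov 579 6776923 false [.plain 6918 4677717 true, .edge 6380 294 false])) (.leaf (.mov 579 4808797 false [.plain 6918 6907983 true, .edge 6384 789 false]))) (.node 1 (.leaf (.mov 579 13310023 false [.plain 6918 15405137 true, .edge 6385 1037 false])) (.leaf (.mov 579 9056345 false [.plain 6918 11155533 true, .edge 6386 987 false]))))))
(.node 8 (.node 4 (.node 2 (.node 1 (.leaf (.mov 579 7292999 false [.plain 6918 5193817 true, .edge 6387 484 false])) (.leaf (.mov 579 27529303 false [.plain 6918 25434207 true, .edge 6388 1012 false]))) (.node 1 (.leaf (.eqT 188 4808797 false [.edge 6945 1340 true] [.edge 3736 0 false])) (.leaf (.eq 579 6957151 [] [.plain 6946 17043521 false, .plain 6324 17043521 false, .plain 6918 19798101 false]))))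
(.node 2 (.node 1 (.leaf (.eq 579 17043521 [] [.plain 6947 27478093 false])) (.leaf (.eq 553 17246277 [] [.plain 6909 17043521 false, .plain 6901 17643615 false]))) (.node 1 (.leaf (.eq 553 17043521 [] [.plain 6949 16986189 false])) (.leaf (.eqT 129 17059919 true [.plain 6950 8546385 true, .edge 2573 1304 false] [.edge 3054 0 false])))))
(.node 4 (.node 2 (.node 1 (.leaf (.eq 566 19140689 [] [.plain 6951 17043521 false, .plain 2833 19140675 false, .plain 6869 15550557 false])) (.leaf (.eq 566 17043521 [] [.plain 6952 19140691 false]))) (.node 1 (.leaf (.eq 93 17043521 [] [.plain 6908 4608067 false])) (.leaf (.eqT 93 4544593 true [.plain 6954 23531593 true, .edge 2523 1416 false] [.edge 2522 0 false]))))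
(.node 2 (.node 1 (.leaf (.eqT 93 27529303 false [.plain 6954 4810817 true, .edge 2553 334 false] [.edge 2550 0 false])) (.leaf (.eq 557 17043521 [] [.plain 6956 19015765 false]))) (.node 1 (.leaf (.mov 557 25385043 true [.plain 6957 25778249 true, .edge 2545 171 false])) (.leaf (.mov 557 19085399 true [.plain 2555 19544153 true, .edge 6958 442 false])))))))))
(.node 61 (.node 30 (.node 15 (.node 7 (.node 3 (.node 1 (.leaf (.eq 548 17043521 [] [.plain 6955 25770059 false])) (.node 1 (.leaf (.eqT 548 13510735 false [.plain 6960 13506653 true, .edge 2556 1254 false] [.edge 2556 0 false])) (.leaf (.eq 559 17043521 [] [.plain 6961 17068097 false]))))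
(.node 2 (.node 1 (.leaf (.eqT 559 19085399 false [.plain 6962 19097687 true, .edge 2557 968 false] [.edge 2557 0 false])) (.leaf (.eq 560 17043521 [] [.plain 6963 17174611 false]))) (.node 1 (.leaf (.eqT 560 10971209 true [.plain 6964 11167809 true, .edge 2558 1231 false] [.edge 2558 0 false])) (.leaf (.eq 561 17070153 [.plain 2564 17070153 false] [.plain 6965 17043521 false, .plain 2564 17043521 false])))))
(.node 4 (.node 2 (.node 1 (.leaf (.eq 460 17043521 [] [.plain 6966 25516101 false])) (.leaf (.eqT 460 19085399 true [.plain 6967 19099713 true, .edge 2524 972 false] [.edge 2265 0 false]))) (.node 1 (.leaf (.eq 550 8933443 [.plain 2530 8933443 false] [.plain 6968 17043521 false])) (.leaf (.eq 542 17043521 [] [.plain 6969 19101779 false]))))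
(.node 2 (.node 1 (.leaf (.eqT 461 19085399 false [.plain 6970 17567813 true, .edge 2501 831 false] [.edge 2266 0 false])) (.leaf (.mov 461 17043521 false [.plain 6970 19867729 true, .edge 2502 1032 false]))) (.node 1 (.leaf (.eq 93 21973057 [] [.plain 6971 17043521 false, .plain 2269 17043521 false])) (.leaf (.eq 93 17043521 [] [.plain 6973 7166017 false]))))))
(.node 7 (.node 3 (.node 1 (.leaf (.mov 86 13510735 false [.plain 6974 17463375 true, .edge 657 304 false])) (.node 1 (.leaf (.mov 86 4808797 false [.plain 621 4857943 true, .edge 6975 957 false])) (.leaf (.eqT 86 13310023 false [.plain 6974 27873351 true, .edge 2553 129 false] [.edge 2238 0 false]))))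
(.node 2 (.node 1 (.leaf (.eq 557 17043521 [] [.plain 6977 19609675 false])) (.leaf (.eqT 452 25385043 true [.plain 6978 25892949 true, .edge 6959 330 false] [.edge 2316 0 false]))) (.node 1 (.leaf (.eq 556 11030611 [.plain 2589 11030611 false] [.plain 6979 17043521 false])) (.leaf (.eq 547 17043521 [] [.plain 6980 8927315 false])))))
(.node 4 (.node 2 (.node 1 (.leaf (.eqT 470 17043521 false [.plain 6981 19755083 true, .edge 2590 178 false] [.edge 2304 0 false])) (.leaf (.eq 555 19673163 [.plain 6901 19673163 false] [.plain 6982 17043521 false]))) (.node 1 (.leaf (.eq 467 17043521 [] [.plain 6983 19359835 true])) (.leaf (.eqT 129 31801425 true [.plain 6984 11079769 true, .edge 2344 1006 false] [.edge 3125 0 false]))))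
(.node 2 (.node 1 (.leaf (.eq 480 25432131 [] [.plain 6985 17043521 false, .plain 3529 27605063 false, .plain 3561 25831519 false])) (.leaf (.eq 480 17043521 [] [.plain 6986 25432131 false]))) (.node 1 (.leaf (.eqT 188 17059919 true [.plain 6987 25587791 true, .edge 2345 1124 false] [.edge 1183 0 false])) (.leaf (.eq 481 9269331 [.plain 2351 9269331 false] [.plain 6988 17043521 false, .plain 1194 17043521 false, .plain 6869 29509707 false])))))))
(.node 15 (.node 7 (.node 3 (.node 1 (.leaf (.eq 466 17043521 [] [.plain 6989 6643805 false])) (.node 1 (.leaf (.eqT 99 13510735 false [.plain 6990 15208527 true, .edge 2301 119 false] [.edge 2518 0 false])) (.leaf (.eq 468 17700957 [] [.plain 6991 17043521 false, .plain 6981 17043521 false]))))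
(.node 2 (.node 1 (.leaf (.eq 470 17043521 [] [.plain 6992 19755083 true])) (.leaf (.mov 468 19085399 false [.plain 6993 17127513 true, .edge 2304 1075 false]))) (.node 1 (.leaf (.eqT 129 4808797 false [.plain 6984 19740749 true, .edge 6994 309 true] [.edge 3105 0 false])) (.leaf (.mov 468 19085399 true [.plain 6993 17127513 true, .edge 2305 1050 false])))))
(.node 4 (.node 2 (.node 1 (.leaf (.eq 468 19796051 [] [.plain 6995 17043521 false, .plain 3535 19877955 false, .plain 5584 17526859 false, .plain 6391 13527113 false])) (.leaf (.eq 468 17043521 [] [.plain 6997 19861585 false]))) (.node 1 (.leaf (.eqT 280 13510735 true [.plain 6998 17242183 true, .edge 6996 1343 false] [.edge 4726 0 false])) (.leaf (.eq 471 19148865 [.plain 2312 19148865 false] [.plain 6999 17043521 false, .plain 6655 16918603 false, .plain 6672 27928659 false, .plain 6731 17512527 false]))))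
(.node 2 (.node 1 (.leaf (.eq 452 17043521 [] [.plain 7000 19798103 false])) (.leaf (.eqT 256 11495495 true [.plain 7001 19230805 true, .edge 2329 599 false] [.edge 1632 0 false]))) (.node 1 (.leaf (.eq 474 17043521 [] [.plain 7002 19740763 false])) (.leaf (.eqT 267 23928925 false [.plain 7003 17524821 true, .edge 2320 910 false] [.edge 4977 0 false]))))))
(.node 8 (.node 4 (.node 2 (.node 1 (.leaf (.eq 473 19288153 [] [.plain 7004 17043521 false, .plain 6697 25514063 false, .plain 6713 19796061 false])) (.leaf (.eq 473 17043521 [] [.plain 7005 19880013 false]))) (.node 1 (.leaf (.eqT 62 27529303 false [.plain 7006 17702987 true, .edge 2318 431 false] [.edge 1968 0 false])) (.leaf (.eq 92 30085191 [] [.plain 7007 17043521 false, .plain 6731 19691589 false]))))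
(.node 2 (.node 1 (.leaf (.eq 256 17043521 [] [.plain 7008 23357525 true])) (.leaf (.mov 92 9056345 false [.plain 7009 17768527 true, .edge 1569 806 false]))) (.node 1 (.leaf (.mov 92 6776923 false [.plain 7009 19208279 true, .edge 1581 1035 false])) (.leaf (.mov 92 13310023 false [.plain 7009 30158931 true, .edge 4678 235 false])))))
(.node 4 (.node 2 (.node 1 (.leaf (.eqT 92 17043521 false [.plain 7009 30228555 true, .edge 6735 795 false] [.edge 648 0 false])) (.leaf (.eq 721 17043547 [] [.plain 7013 17043521 false, .plain 6867 17127489 false]))) (.node 1 (.leaf (.eq 721 17043521 [] [.plain 7014 17043547 false])) (.leaf (.eqT 28 31801425 false [.plain 7015 17045599 true, .edge 3018 40 false] [.edge 1865 0 false]))))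
(.node 2 (.node 1 (.leaf (.eq 716 19607647 [.plain 6447 19607647 false, .plain 6672 6955081 false, .plain 6731 15419479 false, .plain 7009 32325727 false] [.plain 7016 17043521 false])) (.leaf (.eq 323 17043521 [] [.plain 7017 17070149 true]))) (.node 1 (.leaf (.eqT 92 19085399 false [.plain 7018 19097683 true, .edge 3709 478 false] [.edge 2417 0 false])) (.leaf (.eq 964 17764423 [] [.plain 7019 17043521 false, .plain 2419 17043521 false]))))))))
(.node 30 (.node 15 (.node 7 (.node 3 (.node 1 (.leaf (.eq 964 17043521 [] [.plain 7020 17764423 false])) (.node 1 (.leaf (.eqT 92 19085399 true [.plain 7021 17053791 true, .edge 3710 1311 false] [.edge 2287 0 false])) (.leaf (.eq 965 17068105 [.plain 3716 17068105 false] [.plain 7022 17043521 false, .plain 2260 11286609 false, .plain 2285 27791429 false]))))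
(.node 2 (.node 1 (.leaf (.eq 957 17043521 [] [.plain 7023 19816543 false])) (.leaf (.eqT 92 11495495 true [.plain 7024 11233375 true, .edge 3706 1223 false] [.edge 710 0 false]))) (.node 1 (.leaf (.eq 956 25497683 [] [.plain 7025 17043521 false, .plain 722 17043521 false])) (.leaf (.eq 956 17043521 [] [.plain 7026 27594841 false])))))
(.node 4 (.node 2 (.node 1 (.leaf (.eqT 99 19085399 false [.plain 7027 17586253 true, .edge 3693 805 false] [.edge 935 0 false])) (.leaf (.eq 950 13525061 [.plain 3732 13525061 false] [.plain 7028 17043521 false, .plain 2401 19544135 false]))) (.node 1 (.leaf (.eq 665 17043521 [] [.plain 7029 19877979 false])) (.leaf (.eqT 99 11495495 true [.plain 7030 11104341 true, .edge 3733 1068 false] [.edge 694 0 false]))))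
(.node 2 (.node 1 (.leaf (.eqT 99 7292999 false [.plain 7030 7041105 true, .edge 3735 1188 false] [.edge 2379 0 false])) (.leaf (.eq 953 17043521 [] [.plain 7032 17258581 false]))) (.node 1 (.leaf (.eq 162 7159883 [] [.plain 7031 17043521 false, .plain 701 17043521 false, .plain 6867 28192863 false])) (.leaf (.eq 162 17043521 [] [.plain 7034 4671565 false]))))))
(.node 7 (.node 3 (.node 1 (.leaf (.eqT 28 17059919 true [.plain 7035 30031961 true, .edge 3231 1225 false] [.edge 1029 0 false])) (.node 1 (.leaf (.eqT 28 9056345 false [.plain 7035 25567319 true, .edge 3685 978 false] [.edge 767 0 false])) (.leaf (.eq 954 17043521 [] [.plain 7037 25505879 false]))))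
(.node 2 (.node 1 (.leaf (.eqT 113 19085399 true [.plain 7038 4939851 true, .edge 3691 1364 false] [.edge 803 0 false])) (.leaf (.eq 953 19802183 [.plain 7033 19802183 false] [.plain 7039 17043521 false, .plain 6869 19232849 false]))) (.node 1 (.leaf (.eq 494 17043521 [] [.plain 7040 19142727 false])) (.leaf (.eq 774 8933457 [] [.plain 7036 17043521 false, .plain 1128 17043521 false])))))
(.node 4 (.node 2 (.node 1 (.leaf (.eq 774 17043521 [] [.plain 7042 8925257 false])) (.leaf (.eqT 31 32125001 false [.plain 7043 19290197 true, .edge 3206 863 false] [.edge 903 0 false]))) (.node 1 (.leaf (.eq 779 17043521 [] [.plain 7044 17510483 false])) (.leaf (.eqT 134 17059919 true [.plain 7045 17446981 true, .edge 3235 717 false] [.edge 3330 0 false]))))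
(.node 2 (.node 1 (.leaf (.eq 790 17111131 [] [.plain 7046 17043521 false, .plain 3350 9203779 false])) (.leaf (.eq 790 17043521 [] [.plain 7047 17111129 false]))) (.node 1 (.leaf (.eqT 188 10971209 true [.plain 7048 11481157 true, .edge 3236 312 false] [.edge 3016 0 false])) (.leaf (.eq 791 27603035 [.plain 3242 27603035 false] [.plain 7049 17043521 false])))))))
(.node 15 (.node 7 (.node 3 (.node 1 (.leaf (.eq 776 17043521 [] [.plain 7050 13592659 false])) (.node 1 (.leaf (.eqT 126 13510735 false [.plain 7051 29841473 true, .edge 3212 988 false] [.edge 920 0 false])) (.leaf (.eq 781 17043521 [] [.plain 7052 17043521 false, .plain 2401 17043521 false]))))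
(.node 2 (.node 1 (.leaf (.eqT 99 13510735 false [.plain 7053 13504593 true, .edge 3267 1368 false] [.edge 2518 0 false])) (.leaf (.eq 808 17567837 [] [.plain 7054 17043521 false, .plain 6981 17043521 false, .plain 6993 19675227 false, .plain 6998 17700957 false]))) (.node 1 (.leaf (.eq 808 17043521 [] [.plain 7055 17567821 false])) (.leaf (.eqT 280 17059919 true [.plain 7056 25827417 true, .edge 3274 521 false] [.edge 5333 0 false])))))
(.node 4 (.node 2 (.node 1 (.leaf (.eq 815 19159129 [] [.plain 7057 17043521 false, .plain 6549 17043521 false])) (.leaf (.eq 815 17043521 [] [.plain 7058 19157083 false]))) (.node 1 (.leaf (.eqT 129 17059919 true [.plain 7059 23423049 true, .edge 3275 895 false] [.edge 3054 0 false])) (.leaf (.eq 816 8925249 [.plain 3281 8925249 false] [.plain 7060 17043521 false, .plain 2833 19140675 false, .plain 6869 15550557 false]))))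
(.node 2 (.node 1 (.leaf (.eq 799 17043521 [] [.plain 7061 12798029 false])) (.leaf (.eqT 99 4808797 false [.plain 7062 23605343 true, .edge 3265 6 false] [.edge 2540 0 false]))) (.node 1 (.leaf (.eq 801 17240157 [] [.plain 7063 17043521 false, .plain 6901 17043521 false])) (.leaf (.eq 801 17043521 [] [.plain 7064 17240155 false]))))))
(.node 8 (.node 4 (.node 2 (.node 1 (.leaf (.eqT 129 4808797 true [.plain 7065 19689563 true, .edge 3282 265 false] [.edge 3118 0 false])) (.leaf (.eq 818 19732547 [] [.plain 7066 17043521 false, .plain 3568 17043521 false, .plain 3574 30105669 false, .plain 5584 17244229 false, .plain 6391 25450567 false]))) (.node 1 (.leaf (.eq 818 17043521 [] [.plain 7067 19667011 false])) (.leaf (.eqT 280 13510735 true [.plain 7068 17784919 true, .edge 3283 395 false] [.edge 4726 0 false]))))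
(.node 2 (.node 1 (.leaf (.eq 819 27603027 [.plain 3290 27603027 false] [.plain 7069 17043521 false, .plain 6655 16918603 false, .plain 6672 27928659 false, .plain 6731 17512527 false, .plain 7009 29503557 false])) (.leaf (.eq 796 17043521 [] [.plain 7070 11475017 false]))) (.node 1 (.leaf (.eqT 92 17043521 false [.plain 7071 31940703 true, .edge 3268 299 false] [.edge 648 0 false])) (.leaf (.eqT 92 13310023 true [.plain 7071 32073817 true, .edge 3292 428 false] [.edge 2429 0 false])))))
(.node 4 (.node 2 (.node 1 (.leaf (.eq 818 17440863 [.plain 7068 17440863 false] [.plain 7073 17043521 false])) (.leaf (.eq 515 17043521 [] [.plain 7074 17043521 true]))) (.node 1 (.leaf (.eqT 280 31801425 false [.plain 7075 21196891 true, .edge 2470 1429 false] [.edge 6399 0 false])) (.leaf (.eq 531 17246295 [] [.plain 7076 17043521 false, .plain 6350 17190979 false, .plain 6391 15024207 false]))))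
(.node 2 (.node 1 (.leaf (.eq 531 17043521 [] [.plain 7077 16986207 false])) (.leaf (.eqT 280 7292999 false [.plain 7078 19861585 true, .edge 2471 1361 false] [.edge 5332 0 false]))) (.node 1 (.leaf (.eq 532 17457227 [] [.plain 7079 17043521 false, .plain 6477 13180993 false, .plain 6667 25522253 false])) (.leaf (.eq 532 17043521 [] [.plain 7080 17457239 false]))))))))))

/-- The reasons. -/
def caseCFullSrcRRRLR : Tab Src :=
(.node 122 (.node 61 (.node 30 (.node 15 (.node 7 (.node 3 (.node 1 (.leaf (.eqT 123 25385043 true [.plain 7081 8605763 true, .edge 2472 1332 false] [.edge 897 0 false])) (.node 1 (.leaf (.eq 533 19673177 [.plain 2478 19673177 false] [.plain 7082 17043521 false])) (.leaf (.eq 509 17043521 [] [.plain 7083 31924313 false]))))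
(.node 2 (.node 1 (.leaf (.eqT 129 31801425 false [.plain 7084 19540055 true, .edge 2408 387 false] [.edge 2968 0 false])) (.leaf (.eq 510 17258561 [] [.plain 7085 17043521 false, .plain 6281 17043521 false, .plain 6391 7284827 false]))) (.node 1 (.leaf (.eq 510 17043521 [] [.plain 7086 17717313 false])) (.leaf (.eqT 280 19085399 true [.plain 7087 27619393 true, .edge 2443 403 false] [.edge 5895 0 false])))))
(.node 4 (.node 2 (.node 1 (.leaf (.eq 519 10647633 [] [.plain 7088 17043521 false, .plain 6227 4991055 false, .plain 6558 26157131 false])) (.leaf (.eq 519 17043521 [] [.plain 7089 29958237 false]))) (.node 1 (.leaf (.eqT 374 17059919 true [.plain 7090 27992133 true, .edge 2479 450 false] [.edge 5732 0 false])) (.leaf (.eq 535 17043521 [] [.plain 7091 19664961 false]))))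
(.node 2 (.node 1 (.leaf (.eqT 134 17059919 true [.plain 7092 4683855 true, .edge 2480 916 false] [.edge 3330 0 false])) (.leaf (.eq 536 17586249 [.plain 2486 17586249 false] [.plain 7093 17043521 false, .plain 3350 9203779 false]))) (.node 1 (.leaf (.eq 477 17043521 [] [.plain 7094 6641733 false])) (.leaf (.eqT 188 10971209 true [.plain 7095 5185625 true, .edge 2499 548 false] [.edge 3016 0 false]))))))
(.node 7 (.node 3 (.node 1 (.leaf (.eq 539 17043521 [] [.plain 7096 17446997 false])) (.node 1 (.leaf (.eqT 126 25385043 true [.plain 7097 11276355 true, .edge 2490 1468 false] [.edge 3003 0 false])) (.leaf (.eq 538 27684949 [] [.plain 7098 17043521 false, .plain 3015 11024451 false]))))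
(.node 2 (.node 1 (.leaf (.eq 538 17043521 [] [.plain 7099 13588571 false])) (.leaf (.eqT 188 7292999 false [.plain 7100 17576027 true, .edge 2488 67 false] [.edge 3751 0 false]))) (.node 1 (.leaf (.eq 513 31922257 [] [.plain 7101 17043521 false, .plain 6437 19877955 false])) (.leaf (.eq 513 17043521 [] [.plain 7102 25565273 false])))))
(.node 4 (.node 2 (.node 1 (.leaf (.eq 811 17633361 [] [.plain 7072 17043521 false, .plain 6867 17127489 false])) (.leaf (.eq 811 17043521 [] [.plain 7104 17633361 false]))) (.node 1 (.leaf (.eqT 28 7292999 false [.plain 7105 19275853 true, .edge 3269 1486 false] [.edge 1863 0 false])) (.leaf (.eq 812 17770563 [] [.plain 7106 17043521 false, .plain 7018 17703005 false]))))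
(.node 2 (.node 1 (.leaf (.eq 812 17043521 [] [.plain 7107 17002563 false])) (.leaf (.eqT 92 25385043 true [.plain 7108 25307219 true, .edge 3270 1478 false] [.edge 2286 0 false]))) (.node 1 (.leaf (.eq 813 17043521 [] [.plain 7109 19730513 false])) (.leaf (.eqT 86 19085399 false [.plain 7110 27529293 true, .edge 3271 1251 false] [.edge 624 0 false])))))))
(.node 15 (.node 7 (.node 3 (.node 1 (.leaf (.eq 814 17651807 [.plain 3273 17651807 false] [.plain 7111 17043521 false, .plain 630 17043521 false])) (.node 1 (.leaf (.eq 131 17043521 [] [.plain 7112 10700887 false])) (.leaf (.eqT 86 4808797 false [.plain 7113 16939075 true, .edge 876 1039 false] [.edge 6976 0 false]))))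
(.node 2 (.node 1 (.leaf (.eqT 86 7292999 false [.plain 7113 29579345 true, .edge 3252 467 false] [.edge 2241 0 false])) (.leaf (.eq 794 19353689 [] [.plain 7115 17043521 false, .plain 7001 19013703 false, .plain 7009 4542549 false]))) (.node 1 (.leaf (.eq 794 17043521 [] [.plain 7116 19814479 false])) (.leaf (.eqT 92 13310023 false [.plain 7117 19017813 true, .edge 3245 520 false] [.edge 7012 0 false])))))
(.node 4 (.node 2 (.node 1 (.leaf (.eq 795 17584193 [.plain 3248 17584193 false, .plain 7113 12875859 false] [.plain 7118 17043521 false])) (.leaf (.eq 1294 17043521 [] [.plain 7119 17717325 true]))) (.node 1 (.leaf (.eqT 86 9056345 false [.plain 7120 19544149 true, .edge 4679 430 false] [.edge 2223 0 false])) (.leaf (.eq 1295 17061955 [.plain 6728 17061955 false] [.plain 7121 17043521 false]))))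
(.node 2 (.node 1 (.leaf (.eq 451 17043521 [] [.plain 7122 17594453 true])) (.leaf (.eqT 62 29904967 false [.plain 7123 16988231 true, .edge 2221 1489 false] [.edge 1953 0 false]))) (.node 1 (.leaf (.eq 86 25589825 [] [.plain 7124 17043521 false, .plain 6679 17592389 false])) (.leaf (.eq 267 17043521 [] [.plain 7125 17178713 true]))))))
(.node 8 (.node 4 (.node 2 (.node 1 (.leaf (.eqT 86 4808797 false [.plain 7126 9390155 true, .edge 4919 184 false] [.edge 6976 0 false])) (.leaf (.eqT 86 29904967 false [.plain 7126 6635595 true, .edge 4927 1124 false] [.edge 2270 0 false]))) (.node 1 (.leaf (.eq 1465 17043521 [] [.plain 7128 19271757 false])) (.leaf (.eqT 461 17043521 false [.plain 7129 16937039 true, .edge 4921 1502 false] [.edge 6972 0 false]))))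
(.node 2 (.node 1 (.leaf (.eq 1464 19157059 [] [.plain 7130 17043521 false, .plain 2509 17719385 false])) (.leaf (.eq 1464 17043521 [] [.plain 7131 19159107 false]))) (.node 1 (.leaf (.eq 1464 17262669 [.plain 7132 17262669 false] [.plain 7127 17043521 false])) (.leaf (.eq 469 17043521 [] [.plain 7133 16982103 false])))))
(.node 4 (.node 2 (.node 1 (.leaf (.eqT 22 29904967 false [.plain 7134 19800153 true, .edge 2510 1487 false] [.edge 659 0 false])) (.leaf (.eq 542 19538005 [.plain 6970 19538005 false] [.plain 7135 17043521 false, .plain 6974 17719379 false]))) (.node 1 (.leaf (.eq 461 17043521 [] [.plain 7136 17119311 false])) (.leaf (.eq 130 17043521 [] [.plain 7114 25575499 false]))))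
(.node 2 (.node 1 (.leaf (.eq 631 17043521 [] [.plain 6705 10647621 false])) (.leaf (.eq 1098 17127489 [.plain 4298 17127489 false] [.plain 6483 17043521 false]))) (.node 1 (.leaf (.eq 606 17043521 [] [.plain 7140 17782865 true])) (.leaf (.eqT 123 31801425 false [.plain 7141 19032135 true, .edge 2709 961 false] [.edge 3521 0 false]))))))))
(.node 30 (.node 15 (.node 7 (.node 3 (.node 1 (.leaf (.eq 618 17190977 [] [.plain 7142 17043521 false, .plain 1416 17657947 false, .plain 4352 19865677 false])) (.node 1 (.leaf (.eq 618 17043521 [] [.plain 7143 17715265 false])) (.leaf (.eqT 144 25385043 true [.plain 7144 19337281 true, .edge 2710 128 false] [.edge 1051 0 false]))))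
(.node 2 (.node 1 (.leaf (.eq 619 25712731 [.plain 2716 25712731 false] [.plain 7145 17043521 false, .plain 1144 11427917 false])) (.leaf (.eq 598 17043521 [] [.plain 7146 16998491 false]))) (.node 1 (.leaf (.eqT 134 4808797 true [.plain 7147 11407437 true, .edge 2700 1469 false] [.edge 3319 0 false])) (.leaf (.eq 608 25778241 [] [.plain 7148 17043521 false, .plain 4346 17043521 false, .plain 6481 15482963 false])))))
(.node 4 (.node 2 (.node 1 (.leaf (.eq 608 17043521 [] [.plain 7149 11350081 false])) (.leaf (.eqT 113 7292999 false [.plain 7150 17246285 true, .edge 2691 643 false] [.edge 6482 0 false]))) (.node 1 (.leaf (.eq 601 11341891 [] [.plain 7151 17043521 false, .plain 4296 17195081 false, .plain 4352 17190993 false])) (.leaf (.eq 601 17043521 [] [.plain 7152 25759811 false]))))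
(.node 2 (.node 1 (.leaf (.eqT 144 4808797 false [.plain 7153 27801665 true, .edge 2689 400 false] [.edge 3401 0 false])) (.leaf (.eq 607 17053763 [] [.plain 7154 17043521 false, .plain 6558 17780817 false]))) (.node 1 (.leaf (.eq 607 17043521 [] [.plain 7155 17053763 false])) (.leaf (.eqT 374 31801425 true [.plain 7156 28196953 true, .edge 2701 1034 false] [.edge 6021 0 false]))))))
(.node 7 (.node 3 (.node 1 (.leaf (.eq 611 25702467 [.plain 2707 25702467 false] [.plain 7157 17043521 false, .plain 5767 15274061 false])) (.node 1 (.leaf (.eq 595 17043521 [] [.plain 7158 4732993 false])) (.leaf (.eqT 144 6776923 false [.plain 7159 17659985 true, .edge 2649 58 false] [.edge 6563 0 false]))))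
(.node 2 (.node 1 (.leaf (.mov 144 9056345 false [.plain 7159 19273799 true, .edge 2655 721 false])) (.leaf (.eq 105 21313621 [] [.plain 7160 17043521 false, .plain 4014 17764445 false]))) (.node 1 (.leaf (.eq 200 17043521 [] [.plain 7162 21971031 true])) (.leaf (.mov 105 32125001 true [.plain 7163 25786451 true, .edge 1225 1156 false])))))
(.node 4 (.node 2 (.node 1 (.leaf (.mov 105 13310023 true [.plain 7163 17117269 true, .edge 1239 125 false])) (.leaf (.eq 1671 8935507 [.plain 5412 8935507 false, .plain 5476 19099731 false, .plain 6391 17240133 false] [.plain 6395 17043521 false]))) (.node 1 (.leaf (.eq 1638 17043521 [] [.plain 7166 11368535 true])) (.leaf (.eq 301 25759817 [.plain 1786 25759817 false, .plain 6041 25720923 false] [.plain 6394 17043521 false]))))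
(.node 2 (.node 1 (.leaf (.eq 1637 17043521 [] [.plain 7168 17043521 true])) (.leaf (.mov 1 19085399 false [.edge 23 0 false, .plain 29 17043521 false]))) (.node 1 (.leaf (.mov 4 17059919 true [.edge 51 0 false, .plain 57 17043521 false])) (.leaf (.mov 7 32125001 false [.edge 476 0 false, .plain 6802 9197633 false])))))))
(.node 15 (.node 7 (.node 3 (.node 1 (.leaf (.mov 7 10971209 false [.edge 474 0 false, .plain 6802 31936587 false])) (.node 1 (.leaf (.mov 7 7292999 false [.edge 473 0 false, .plain 6802 7020623 false])) (.leaf (.mov 7 19085399 false [.edge 87 0 false, .plain 97 17043521 false]))))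
(.node 2 (.node 1 (.leaf (.mov 7 31801425 false [.edge 475 0 false, .plain 6802 27611215 false])) (.leaf (.mov 7 10971209 true [.edge 168 0 false, .plain 174 17043521 false]))) (.node 1 (.leaf (.mov 7 11495495 true [.edge 73 0 false, .plain 80 17043521 false])) (.leaf (.mov 13 17043521 false [.edge 327 0 false, .plain 338 17043521 false])))))
(.node 4 (.node 2 (.node 1 (.leaf (.mov 13 19085399 false [.edge 328 0 false, .plain 338 17764423 false])) (.leaf (.mov 13 17059919 true [.edge 365 0 false, .plain 371 11294787 false]))) (.node 1 (.leaf (.mov 13 19085399 true [.edge 115 0 false, .plain 122 17043521 false])) (.leaf (.mov 13 25385043 true [.edge 307 0 false, .plain 313 17043521 false]))))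
(.node 2 (.node 1 (.leaf (.mov 13 11495495 true [.edge 364 0 false, .plain 371 17043521 false])) (.leaf (.mov 16 32125001 false [.edge 579 0 false, .plain 6806 17043521 false]))) (.node 1 (.leaf (.mov 16 10971209 false [.edge 607 0 false, .plain 6841 19691589 false])) (.leaf (.mov 16 7292999 false [.edge 608 0 false, .plain 6841 19746901 false]))))))
(.node 8 (.node 4 (.node 2 (.node 1 (.leaf (.mov 16 19085399 false [.edge 161 0 false, .plain 167 17043521 false])) (.leaf (.mov 16 31801425 false [.edge 580 0 false, .plain 6806 17068107 false]))) (.node 1 (.leaf (.mov 16 32125001 true [.edge 635 0 false, .plain 6867 27875395 false])) (.leaf (.mov 16 10971209 true [.edge 456 0 false, .plain 6802 11081811 false]))))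
(.node 2 (.node 1 (.leaf (.mov 16 4808797 true [.edge 631 0 false, .plain 6867 17043521 false])) (.leaf (.mov 16 29904967 true [.edge 634 0 false, .plain 6867 19746883 false]))) (.node 1 (.leaf (.mov 16 13310023 true [.edge 637 0 false, .plain 6867 11284545 false])) (.leaf (.mov 16 13510735 true [.edge 636 0 false, .plain 6867 19740755 false])))))
(.node 4 (.node 2 (.node 1 (.leaf (.mov 16 31801425 true [.edge 633 0 false, .plain 6867 27859011 false])) (.leaf (.mov 16 32131155 true [.edge 638 0 false, .plain 6867 27801691 false]))) (.node 1 (.leaf (.mov 16 11495495 true [.edge 454 0 false, .plain 6802 17043521 false])) (.leaf (.mov 16 4544593 true [.edge 632 0 false, .plain 6867 27865163 false]))))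
(.node 2 (.node 1 (.leaf (.mov 21 17059919 true [.edge 753 0 false, .plain 763 17043521 false])) (.leaf (.mov 22 4808797 false [.edge 656 0 false, .plain 6974 17043521 false]))) (.node 1 (.leaf (.mov 22 29904967 false [.edge 659 0 false, .plain 6974 17719379 false])) (.leaf (.mov 22 13510735 false [.edge 660 0 false, .plain 6974 17440845 false])))))))))
(.node 61 (.node 30 (.node 15 (.node 7 (.node 3 (.node 1 (.leaf (.mov 22 27529303 false [.edge 658 0 false, .plain 6974 17643587 false])) (.node 1 (.leaf (.mov 22 19085399 false [.edge 213 0 false, .plain 223 17043521 false])) (.leaf (.mov 22 17043521 true [.edge 201 0 false, .plain 208 17043521 false]))))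
(.node 2 (.node 1 (.leaf (.mov 22 17059919 true [.edge 867 0 false, .plain 7138 17043521 false])) (.leaf (.mov 28 4808797 false [.edge 773 0 false, .plain 783 17043521 false]))) (.node 1 (.leaf (.mov 28 23928925 false [.edge 1864 0 false, .plain 7018 17119317 false])) (.leaf (.mov 28 13310023 false [.edge 1862 0 false, .plain 7018 17043521 false])))))
(.node 4 (.node 2 (.node 1 (.leaf (.mov 28 7292999 false [.edge 1863 0 false, .plain 7018 17703005 false])) (.leaf (.mov 28 31801425 false [.edge 1865 0 false, .plain 7018 17070175 false]))) (.node 1 (.leaf (.mov 28 32125001 true [.edge 813 0 false, .plain 6869 17457223 false])) (.leaf (.mov 28 10971209 true [.edge 814 0 false, .plain 6869 19884111 false]))))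
(.node 2 (.node 1 (.leaf (.mov 28 4808797 true [.edge 986 0 false, .plain 1019 17043521 false, .plain 6802 21194833 false])) (.leaf (.mov 28 29904967 true [.edge 746 0 false, .plain 752 17043521 false]))) (.node 1 (.leaf (.mov 28 13310023 true [.edge 819 0 false, .plain 6869 25567325 false])) (.leaf (.mov 28 13510735 true [.edge 818 0 false, .plain 6869 9060445 false]))))))
(.node 7 (.node 3 (.node 1 (.leaf (.mov 28 17059919 true [.edge 1029 0 false, .plain 1128 17043521 false])) (.node 1 (.leaf (.mov 28 19085399 true [.edge 817 0 false, .plain 6869 9060437 false])) (.leaf (.mov 28 31801425 true [.edge 1054 0 false, .plain 7035 17043521 false]))))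
(.node 2 (.node 1 (.leaf (.mov 28 25385043 true [.edge 815 0 false, .plain 6869 25567309 false])) (.leaf (.mov 28 32131155 true [.edge 816 0 false, .plain 6869 9330765 false]))) (.node 1 (.leaf (.mov 28 11495495 true [.edge 820 0 false, .plain 6869 17459277 false])) (.leaf (.mov 28 4544593 true [.edge 235 0 false, .plain 242 17043521 false])))))
(.node 4 (.node 2 (.node 1 (.leaf (.mov 31 17043521 false [.edge 424 0 false, .plain 951 17043521 false])) (.leaf (.mov 31 19085399 false [.edge 426 0 false, .plain 951 17782873 false]))) (.node 1 (.leaf (.mov 31 32125001 true [.edge 1139 0 false, .plain 1514 4792409 false])) (.leaf (.mov 31 4808797 true [.edge 1132 0 false, .plain 1514 4546633 false]))))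
(.node 2 (.node 1 (.leaf (.mov 31 29904967 true [.edge 1134 0 false, .plain 1514 23928913 false])) (.leaf (.mov 31 13310023 true [.edge 1135 0 false, .plain 1514 13385811 false]))) (.node 1 (.leaf (.mov 31 13510735 true [.edge 1133 0 false, .plain 1514 13379665 false])) (.leaf (.mov 31 19085399 true [.edge 1115 0 false, .plain 1126 17043521 false])))))))
(.node 15 (.node 7 (.node 3 (.node 1 (.leaf (.mov 31 31801425 true [.edge 1136 0 false, .plain 1514 23603265 false])) (.node 1 (.leaf (.mov 31 25385043 true [.edge 266 0 false, .plain 273 17043521 false])) (.leaf (.mov 31 32131155 true [.edge 1137 0 false, .plain 1514 32057419 false]))))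
(.node 2 (.node 1 (.leaf (.mov 31 4544593 true [.edge 1138 0 false, .plain 1514 29960259 false])) (.leaf (.mov 34 32125001 false [.edge 1208 0 false, .plain 5598 17567809 false]))) (.node 1 (.leaf (.mov 34 10971209 false [.edge 1199 0 false, .plain 5598 17721409 false])) (.leaf (.mov 34 4808797 false [.edge 1206 0 false, .plain 5598 16986185 false])))))
(.node 4 (.node 2 (.node 1 (.leaf (.mov 34 23928925 false [.edge 1198 0 false, .plain 5598 16998481 false])) (.leaf (.mov 34 29904967 false [.edge 1197 0 false, .plain 5598 17043521 false]))) (.node 1 (.leaf (.mov 34 13310023 false [.edge 1207 0 false, .plain 5598 17592405 false])) (.leaf (.mov 34 13510735 false [.edge 1200 0 false, .plain 5598 17586255 false]))))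
(.node 2 (.node 1 (.leaf (.mov 34 7292999 false [.edge 1205 0 false, .plain 5598 17528909 false])) (.leaf (.mov 34 27529303 false [.edge 1203 0 false, .plain 5598 17190987 false]))) (.node 1 (.leaf (.mov 34 19085399 false [.edge 300 0 false, .plain 306 17043521 false])) (.leaf (.mov 34 31801425 false [.edge 1202 0 false, .plain 5598 17592393 false]))))))
(.node 8 (.node 4 (.node 2 (.node 1 (.leaf (.mov 34 9056345 false [.edge 1204 0 false, .plain 5598 17178719 false])) (.leaf (.mov 34 6776923 false [.edge 1201 0 false, .plain 5598 16934993 false]))) (.node 1 (.leaf (.mov 34 32125001 true [.edge 1227 0 false, .plain 7163 11286611 false])) (.leaf (.mov 34 4808797 true [.edge 1229 0 false, .plain 7163 17125459 false]))))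
(.node 2 (.node 1 (.leaf (.mov 34 29904967 true [.edge 1228 0 false, .plain 7163 25458761 false])) (.leaf (.mov 34 13310023 true [.edge 1230 0 false, .plain 7163 17045595 false]))) (.node 1 (.leaf (.mov 34 13510735 true [.edge 1231 0 false, .plain 7163 9181275 false])) (.leaf (.mov 34 31801425 true [.edge 1226 0 false, .plain 7163 27818075 false])))))
(.node 4 (.node 2 (.node 1 (.leaf (.mov 34 32131155 true [.edge 1232 0 false, .plain 7163 17569867 false])) (.leaf (.mov 34 4544593 true [.edge 1224 0 false, .plain 7163 17043521 false]))) (.node 1 (.leaf (.mov 39 23928925 false [.edge 1265 0 false, .plain 5636 17043521 false])) (.leaf (.mov 39 13310023 false [.edge 1294 0 false, .plain 4114 17043521 false, .plain 5639 19691589 false]))))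
(.node 2 (.node 1 (.leaf (.mov 39 19085399 false [.edge 353 0 false, .plain 363 17043521 false])) (.leaf (.mov 39 9056345 false [.edge 1296 0 false, .plain 4114 17717335 false, .plain 5639 19292225 false]))) (.node 1 (.leaf (.mov 39 6776923 false [.edge 1267 0 false, .plain 5636 17242181 false])) (.leaf (.mov 39 32125001 true [.edge 1370 0 false, .plain 3517 19165257 false]))))))))
(.node 30 (.node 15 (.node 7 (.node 3 (.node 1 (.leaf (.mov 39 4808797 true [.edge 1375 0 false, .plain 3517 11368523 false])) (.node 1 (.leaf (.mov 39 29904967 true [.edge 1368 0 false, .plain 3517 17043521 false])) (.leaf (.mov 39 13310023 true [.edge 1373 0 false, .plain 3517 25786449 false]))))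
(.node 2 (.node 1 (.leaf (.mov 39 13510735 true [.edge 1371 0 false, .plain 3517 17135681 false])) (.leaf (.mov 39 19085399 true [.edge 339 0 false, .plain 346 17043521 false]))) (.node 1 (.leaf (.mov 39 31801425 true [.edge 1372 0 false, .plain 3517 17119315 false])) (.leaf (.mov 39 25385043 true [.edge 1217 0 false, .plain 1223 17043521 false])))))
(.node 4 (.node 2 (.node 1 (.leaf (.mov 39 32131155 true [.edge 1374 0 false, .plain 3517 25448513 false])) (.leaf (.mov 39 4544593 true [.edge 1376 0 false, .plain 3517 25450569 false]))) (.node 1 (.leaf (.mov 50 13510735 false [.edge 517 0 false, .plain 537 17043521 false])) (.leaf (.mov 50 27529303 false [.edge 518 0 false, .plain 537 17119325 false]))))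
(.node 2 (.node 1 (.leaf (.mov 50 10971209 true [.edge 560 0 false, .plain 578 8542277 false])) (.leaf (.mov 50 13310023 true [.edge 1524 0 false, .plain 1551 17043521 false]))) (.node 1 (.leaf (.mov 50 13510735 true [.edge 383 0 false, .plain 390 17043521 false])) (.leaf (.mov 50 17059919 true [.edge 1525 0 false, .plain 1551 27531345 false]))))))
(.node 7 (.node 3 (.node 1 (.leaf (.mov 50 31801425 true [.edge 563 0 false, .plain 578 19339335 false])) (.node 1 (.leaf (.mov 50 25385043 true [.edge 561 0 false, .plain 578 27750487 false])) (.leaf (.mov 50 32131155 true [.edge 510 0 false, .plain 516 17043521 false]))))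
(.node 2 (.node 1 (.leaf (.mov 50 4544593 true [.edge 562 0 false, .plain 578 8812629 false])) (.leaf (.mov 53 32125001 false [.edge 1766 0 false, .plain 5701 17043521 false]))) (.node 1 (.leaf (.mov 53 10971209 false [.edge 1672 0 false, .plain 5706 4747347 false])) (.leaf (.mov 53 4808797 false [.edge 1568 0 false, .plain 7009 17043521 false])))))
(.node 4 (.node 2 (.node 1 (.leaf (.mov 53 23928925 false [.edge 1573 0 false, .plain 7009 17717329 false])) (.leaf (.mov 53 29904967 false [.edge 1574 0 false, .plain 7009 17770581 false]))) (.node 1 (.leaf (.mov 53 13310023 false [.edge 1572 0 false, .plain 7009 16982093 false])) (.leaf (.mov 53 13510735 false [.edge 1571 0 false, .plain 7009 16934995 false]))))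
(.node 2 (.node 1 (.leaf (.mov 53 7292999 false [.edge 1671 0 false, .plain 5706 29907023 false])) (.leaf (.mov 53 27529303 false [.edge 1576 0 false, .plain 7009 17578049 false]))) (.node 1 (.leaf (.mov 53 19085399 false [.edge 417 0 false, .plain 423 17043521 false])) (.leaf (.mov 53 31801425 false [.edge 1767 0 false, .plain 5701 17045571 false])))))))
(.node 15 (.node 7 (.node 3 (.node 1 (.leaf (.mov 53 9056345 false [.edge 1575 0 false, .plain 7009 17657939 false])) (.node 1 (.leaf (.mov 53 6776923 false [.edge 1570 0 false, .plain 7009 17715269 false])) (.leaf (.mov 53 17043521 true [.edge 1591 0 false, .plain 6681 17641537 false]))))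
(.node 2 (.node 1 (.leaf (.mov 53 32125001 true [.edge 1604 0 false, .plain 5835 25524289 false, .plain 6481 27865161 false])) (.leaf (.mov 53 4808797 true [.edge 1598 0 false, .plain 5835 17594441 false, .plain 6481 19159123 false]))) (.node 1 (.leaf (.mov 53 29904967 true [.edge 1602 0 false, .plain 5835 19140697 false, .plain 6481 17659987 false])) (.leaf (.mov 53 13310023 true [.edge 1597 0 false, .plain 5835 17043521 false, .plain 6481 19689547 false])))))
(.node 4 (.node 2 (.node 1 (.leaf (.mov 53 13510735 true [.edge 1600 0 false, .plain 5835 17133649 false, .plain 6481 19732569 false])) (.leaf (.mov 53 17059919 true [.edge 1588 0 false, .plain 6681 17043521 false]))) (.node 1 (.leaf (.mov 53 19085399 true [.edge 1590 0 false, .plain 6681 19664963 false])) (.leaf (.mov 53 31801425 true [.edge 1601 0 false, .plain 5835 9269331 false, .plain 6481 11089995 false]))))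
(.node 2 (.node 1 (.leaf (.mov 53 25385043 true [.edge 1592 0 false, .plain 6681 11358275 false])) (.leaf (.mov 53 32131155 true [.edge 1603 0 false, .plain 5835 9181275 false, .plain 6481 11032641 false]))) (.node 1 (.leaf (.mov 53 4544593 true [.edge 1599 0 false, .plain 5835 9244763 false, .plain 6481 11098179 false])) (.leaf (.mov 57 32125001 false [.edge 1714 0 false, .plain 6041 17506387 false]))))))
(.node 8 (.node 4 (.node 2 (.node 1 (.leaf (.mov 57 10971209 false [.edge 1717 0 false, .plain 6041 17576013 false])) (.leaf (.mov 57 4808797 false [.edge 1709 0 false, .plain 6041 17043521 false]))) (.node 1 (.leaf (.mov 57 23928925 false [.edge 1789 0 false, .plain 5715 17043521 false])) (.leaf (.mov 57 29904967 false [.edge 1713 0 false, .plain 6041 17705053 false]))))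
(.node 2 (.node 1 (.leaf (.mov 57 13310023 false [.edge 1773 0 false, .plain 5704 17649739 false])) (.leaf (.mov 57 13510735 false [.edge 1712 0 false, .plain 6041 17786969 false]))) (.node 1 (.leaf (.mov 57 7292999 false [.edge 1715 0 false, .plain 6041 17700955 false])) (.leaf (.mov 57 27529303 false [.edge 1711 0 false, .plain 6041 16988237 false])))))
(.node 4 (.node 2 (.node 1 (.leaf (.mov 57 19085399 false [.edge 503 0 false, .plain 509 17043521 false])) (.leaf (.mov 57 31801425 false [.edge 1716 0 false, .plain 6041 17440859 false]))) (.node 1 (.leaf (.mov 57 9056345 false [.edge 5236 0 false, .plain 5607 19877983 false, .plain 5697 27859027 false])) (.leaf (.mov 57 6776923 false [.edge 1609 0 false, .plain 5694 17043521 false]))))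
(.node 2 (.node 1 (.leaf (.mov 57 17043521 true [.edge 549 0 false, .plain 1500 19730515 false])) (.leaf (.mov 57 32125001 true [.edge 1810 0 false, .plain 5718 27611219 false]))) (.node 1 (.leaf (.mov 57 10971209 true [.edge 547 0 false, .plain 1500 27807811 false])) (.leaf (.mov 57 4808797 true [.edge 1809 0 false, .plain 5718 17567835 false]))))))))))

/-- The reasons. -/
def caseCFullSrcRRRL : Tab Src := .node 244 caseCFullSrcRRRLL caseCFullSrcRRRLR

/-- The reasons. -/
def caseCFullSrcRRRRL : Tab Src :=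
(.node 122 (.node 61 (.node 30 (.node 15 (.node 7 (.node 3 (.node 1 (.leaf (.mov 57 29904967 true [.edge 1722 0 false, .plain 5666 19232843 false])) (.node 1 (.leaf (.mov 57 13310023 true [.edge 1808 0 false, .plain 5718 25702475 false])) (.leaf (.mov 57 13510735 true [.edge 1720 0 false, .plain 5666 17043521 false]))))
(.node 2 (.node 1 (.leaf (.mov 57 17059919 true [.edge 550 0 false, .plain 1500 19667027 false])) (.leaf (.mov 57 19085399 true [.edge 444 0 false, .plain 451 17043521 false]))) (.node 1 (.leaf (.mov 57 31801425 true [.edge 1807 0 false, .plain 5718 17043521 false])) (.leaf (.mov 57 25385043 true [.edge 1735 0 false, .plain 1746 17043521 false])))))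
(.node 4 (.node 2 (.node 1 (.leaf (.mov 57 32131155 true [.edge 1723 0 false, .plain 5666 27596875 false])) (.leaf (.mov 57 11495495 true [.edge 548 0 false, .plain 1500 27873355 false]))) (.node 1 (.leaf (.mov 57 4544593 true [.edge 1721 0 false, .plain 5666 25499721 false])) (.leaf (.mov 62 32125001 false [.edge 1531 0 false, .plain 2013 17700933 false, .plain 3501 4991051 false]))))
(.node 2 (.node 1 (.leaf (.mov 62 10971209 false [.edge 1526 0 false, .plain 2013 17043521 false, .plain 3501 6778971 false])) (.leaf (.mov 62 4808797 false [.edge 1969 0 false, .plain 6731 19746893 false, .plain 7009 4544595 false]))) (.node 1 (.leaf (.mov 62 23928925 false [.edge 1534 0 false, .plain 2013 17197139 false, .plain 3501 25827405 false])) (.leaf (.mov 62 29904967 false [.edge 1953 0 false, .plain 6679 17592389 false, .plain 7126 16920661 false]))))))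
(.node 7 (.node 3 (.node 1 (.leaf (.mov 62 13310023 false [.edge 1530 0 false, .plain 2013 17764427 false, .plain 3501 7088199 false])) (.node 1 (.leaf (.mov 62 13510735 false [.edge 1951 0 false, .plain 6679 17043521 false, .plain 7126 17190993 false])) (.leaf (.mov 62 7292999 false [.edge 1533 0 false, .plain 2013 17262677 false, .plain 3501 25890889 false]))))
(.node 2 (.node 1 (.leaf (.mov 62 27529303 false [.edge 1968 0 false, .plain 6731 19691589 false, .plain 7009 14970963 false])) (.leaf (.mov 62 19085399 false [.edge 1108 0 false, .plain 1114 17043521 false]))) (.node 1 (.leaf (.mov 62 31801425 false [.edge 1529 0 false, .plain 2013 17242177 false, .plain 3501 4546653 false])) (.leaf (.mov 62 9056345 false [.edge 1528 0 false, .plain 2013 17649755 false, .plain 3501 23492691 false])))))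
(.node 4 (.node 2 (.node 1 (.leaf (.mov 62 6776923 false [.edge 1532 0 false, .plain 2013 17643605 false, .plain 3501 13307997 false])) (.leaf (.mov 62 17043521 true [.edge 1158 0 false, .plain 1164 17043521 false]))) (.node 1 (.leaf (.mov 62 32125001 true [.edge 1469 0 false, .plain 3501 17463383 false])) (.leaf (.mov 62 10971209 true [.edge 1156 0 false, .plain 1511 25720919 false]))))
(.node 2 (.node 1 (.leaf (.mov 62 4808797 true [.edge 1463 0 false, .plain 3501 11155541 false])) (.leaf (.mov 62 29904967 true [.edge 1470 0 false, .plain 3501 9375823 false]))) (.node 1 (.leaf (.mov 62 13310023 true [.edge 1464 0 false, .plain 3501 17193039 false])) (.leaf (.mov 62 13510735 true [.edge 1467 0 false, .plain 3501 27947095 false])))))))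
(.node 15 (.node 7 (.node 3 (.node 1 (.leaf (.mov 62 17059919 true [.edge 1970 0 false, .plain 6683 17043521 false])) (.node 1 (.leaf (.mov 62 19085399 true [.edge 1157 0 false, .plain 1511 19157063 false])) (.leaf (.mov 62 31801425 true [.edge 1468 0 false, .plain 3501 11483231 false]))))
(.node 2 (.node 1 (.leaf (.mov 62 25385043 true [.edge 488 0 false, .plain 498 27816011 false])) (.leaf (.mov 62 32131155 true [.edge 1466 0 false, .plain 3501 11415645 false]))) (.node 1 (.leaf (.mov 62 11495495 true [.edge 486 0 false, .plain 498 17043521 false])) (.leaf (.mov 62 4544593 true [.edge 1465 0 false, .plain 3501 19017815 false])))))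
(.node 4 (.node 2 (.node 1 (.leaf (.mov 71 32125001 false [.edge 1775 0 false, .plain 5991 17705037 false, .plain 6041 9125973 false])) (.leaf (.mov 71 10971209 false [.edge 1752 0 false, .plain 6139 17043521 false]))) (.node 1 (.leaf (.mov 71 23928925 false [.edge 1552 0 false, .plain 3598 17043521 false])) (.leaf (.mov 71 13310023 false [.edge 1554 0 false, .plain 3598 16982089 false]))))
(.node 2 (.node 1 (.leaf (.mov 71 7292999 false [.edge 1774 0 false, .plain 5991 17043521 false, .plain 6041 6701143 false])) (.leaf (.mov 71 19085399 false [.edge 538 0 false, .plain 1500 17043521 false]))) (.node 1 (.leaf (.mov 71 31801425 false [.edge 1754 0 false, .plain 6139 17461331 false])) (.leaf (.mov 71 9056345 false [.edge 1556 0 false, .plain 3598 17068117 false]))))))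
(.node 8 (.node 4 (.node 2 (.node 1 (.leaf (.mov 71 6776923 false [.edge 1555 0 false, .plain 3598 17569873 false])) (.leaf (.mov 71 17043521 true [.edge 551 0 false, .plain 578 17043521 false]))) (.node 1 (.leaf (.mov 71 32125001 true [.edge 1517 0 false, .plain 2840 28201035 false])) (.leaf (.mov 71 10971209 true [.edge 2036 0 false, .plain 2048 17043521 false]))))
(.node 2 (.node 1 (.leaf (.mov 71 4808797 true [.edge 1518 0 false, .plain 2840 19542083 false])) (.leaf (.mov 71 29904967 true [.edge 1515 0 false, .plain 2840 19017803 false]))) (.node 1 (.leaf (.mov 71 13310023 true [.edge 1485 0 false, .plain 3501 17649743 false])) (.leaf (.mov 71 13510735 true [.edge 1486 0 false, .plain 3501 11360341 false])))))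
(.node 4 (.node 2 (.node 1 (.leaf (.mov 71 17059919 true [.edge 1519 0 false, .plain 1093 17117249 false, .plain 1128 28198995 false])) (.leaf (.mov 71 19085399 true [.edge 1502 0 false, .plain 1509 17043521 false]))) (.node 1 (.leaf (.mov 71 31801425 true [.edge 1484 0 false, .plain 3501 11081821 false])) (.leaf (.mov 71 25385043 true [.edge 564 0 false, .plain 576 17043521 false]))))
(.node 2 (.node 1 (.leaf (.mov 71 32131155 true [.edge 1516 0 false, .plain 2840 25374809 false])) (.leaf (.mov 71 11495495 true [.edge 1501 0 false, .plain 546 27555913 false]))) (.node 1 (.leaf (.mov 71 4544593 true [.edge 1487 0 false, .plain 3501 11022423 false])) (.leaf (.mov 86 32125001 false [.edge 2222 0 false, .plain 7123 16916565 false]))))))))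
(.node 30 (.node 15 (.node 7 (.node 3 (.node 1 (.leaf (.mov 86 10971209 false [.edge 2239 0 false, .plain 7001 19357787 false, .plain 7009 15562825 false])) (.node 1 (.leaf (.mov 86 23928925 false [.edge 2220 0 false, .plain 7123 17043521 false])) (.leaf (.mov 86 29904967 false [.edge 2270 0 false, .plain 7137 19738717 false]))))
(.node 2 (.node 1 (.leaf (.mov 86 13310023 false [.edge 2238 0 false, .plain 7001 19691589 false, .plain 7009 26091607 false])) (.leaf (.mov 86 7292999 false [.edge 2241 0 false, .plain 7001 19013703 false, .plain 7009 4542549 false]))) (.node 1 (.leaf (.mov 86 27529303 false [.edge 2271 0 false, .plain 7137 19880003 false])) (.leaf (.mov 86 19085399 false [.edge 624 0 false, .plain 630 17043521 false])))))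
(.node 4 (.node 2 (.node 1 (.leaf (.mov 86 31801425 false [.edge 2224 0 false, .plain 7123 17244255 false])) (.leaf (.mov 86 9056345 false [.edge 2223 0 false, .plain 7123 17578079 false]))) (.node 1 (.leaf (.mov 86 6776923 false [.edge 2240 0 false, .plain 7001 19036225 false, .plain 7009 5132371 false])) (.leaf (.mov 86 17043521 true [.edge 675 0 false, .plain 6974 17180741 false]))))
(.node 2 (.node 1 (.leaf (.mov 86 32125001 true [.edge 2291 0 false, .plain 6990 27881555 false])) (.leaf (.mov 86 10971209 true [.edge 2253 0 false, .plain 2285 11358291 false]))) (.node 1 (.leaf (.mov 86 4808797 true [.edge 2293 0 false, .plain 6990 19165249 false])) (.leaf (.mov 86 29904967 true [.edge 2288 0 false, .plain 6990 17043521 false]))))))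
(.node 7 (.node 3 (.node 1 (.leaf (.mov 86 13310023 true [.edge 2294 0 false, .plain 6990 11038809 false])) (.node 1 (.leaf (.mov 86 13510735 true [.edge 2292 0 false, .plain 6990 19230793 false])) (.leaf (.mov 86 17059919 true [.edge 676 0 false, .plain 6974 17719391 false]))))
(.node 2 (.node 1 (.leaf (.mov 86 19085399 true [.edge 2252 0 false, .plain 2285 11014225 false])) (.leaf (.mov 86 31801425 true [.edge 2290 0 false, .plain 6990 25442369 false]))) (.node 1 (.leaf (.mov 86 25385043 true [.edge 2249 0 false, .plain 2285 17043521 false])) (.leaf (.mov 86 32131155 true [.edge 2289 0 false, .plain 6990 27807817 false])))))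
(.node 4 (.node 2 (.node 1 (.leaf (.mov 86 11495495 true [.edge 2251 0 false, .plain 2285 17633345 false])) (.leaf (.mov 86 4544593 true [.edge 2295 0 false, .plain 6990 25776203 false]))) (.node 1 (.leaf (.mov 92 17043521 false [.edge 648 0 false, .plain 6867 17127489 false])) (.leaf (.mov 92 32125001 false [.edge 2414 0 false, .plain 7087 19142725 false]))))
(.node 2 (.node 1 (.leaf (.mov 92 10971209 false [.edge 2405 0 false, .plain 7084 17135705 false])) (.leaf (.mov 92 4808797 false [.edge 2404 0 false, .plain 7084 17043521 false]))) (.node 1 (.leaf (.mov 92 23928925 false [.edge 2317 0 false, .plain 7006 17043521 false])) (.leaf (.mov 92 29904967 false [.edge 2413 0 false, .plain 7087 19691589 false])))))))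
(.node 15 (.node 7 (.node 3 (.node 1 (.leaf (.mov 92 13310023 false [.edge 7012 0 false, .plain 7120 17258585 false])) (.node 1 (.leaf (.mov 92 13510735 false [.edge 2416 0 false, .plain 7087 19150939 false])) (.leaf (.mov 92 7292999 false [.edge 2415 0 false, .plain 7087 19101763 false]))))
(.node 2 (.node 1 (.leaf (.mov 92 27529303 false [.edge 2407 0 false, .plain 7084 17446995 false])) (.leaf (.mov 92 19085399 false [.edge 2417 0 false, .plain 2419 17043521 false]))) (.node 1 (.leaf (.mov 92 31801425 false [.edge 2406 0 false, .plain 7084 17459277 false])) (.leaf (.mov 92 6776923 false [.edge 7011 0 false, .plain 1587 16922699 false, .plain 7009 19353689 false])))))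
(.node 4 (.node 2 (.node 1 (.leaf (.mov 92 17043521 true [.edge 2428 0 false, .plain 7103 17070167 false])) (.leaf (.mov 92 32125001 true [.edge 2431 0 false, .plain 7075 11022401 false]))) (.node 1 (.leaf (.mov 92 10971209 true [.edge 2427 0 false, .plain 7103 25456725 false])) (.leaf (.mov 92 4808797 true [.edge 2432 0 false, .plain 7075 25778259 false]))))
(.node 2 (.node 1 (.leaf (.mov 92 29904967 true [.edge 2343 0 false, .plain 7095 11417683 false])) (.leaf (.mov 92 13310023 true [.edge 2429 0 false, .plain 7075 17043521 false]))) (.node 1 (.leaf (.mov 92 13510735 true [.edge 2340 0 false, .plain 7095 8542291 false])) (.leaf (.mov 92 17059919 true [.edge 712 0 false, .plain 722 25440329 false]))))))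
(.node 8 (.node 4 (.node 2 (.node 1 (.leaf (.mov 92 19085399 true [.edge 2287 0 false, .plain 2260 11286609 false, .plain 2285 27791429 false])) (.leaf (.mov 92 31801425 true [.edge 2430 0 false, .plain 7075 9007193 false]))) (.node 1 (.leaf (.mov 92 32131155 true [.edge 2341 0 false, .plain 7095 10639441 false])) (.leaf (.mov 92 11495495 true [.edge 710 0 false, .plain 722 17043521 false]))))
(.node 2 (.node 1 (.leaf (.mov 92 4544593 true [.edge 2342 0 false, .plain 7095 10702937 false])) (.leaf (.mov 99 32125001 false [.edge 6870 0 false, .plain 2840 17070149 false]))) (.node 1 (.leaf (.mov 99 10971209 false [.edge 6871 0 false, .plain 2840 17770577 false])) (.leaf (.mov 99 4808797 false [.edge 2540 0 false, .plain 6901 17043521 false])))))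
(.node 4 (.node 2 (.node 1 (.leaf (.mov 99 23928925 false [.edge 2456 0 false, .plain 6877 17770575 false])) (.leaf (.mov 99 29904967 false [.edge 2519 0 false, .plain 6981 17592397 false, .plain 6993 19142727 false, .plain 6998 17463385 false]))) (.node 1 (.leaf (.mov 99 13310023 false [.edge 2444 0 false, .plain 6874 17043521 false])) (.leaf (.mov 99 13510735 false [.edge 2518 0 false, .plain 6981 17043521 false, .plain 6993 19675227 false, .plain 6998 17700957 false]))))
(.node 2 (.node 1 (.leaf (.mov 99 7292999 false [.edge 2379 0 false, .plain 7041 17457221 false])) (.leaf (.mov 99 27529303 false [.edge 2541 0 false, .plain 6901 17643615 false]))) (.node 1 (.leaf (.mov 99 19085399 false [.edge 935 0 false, .plain 2401 19544135 false])) (.leaf (.mov 99 31801425 false [.edge 2378 0 false, .plain 7041 17043521 false])))))))))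
(.node 61 (.node 30 (.node 15 (.node 7 (.node 3 (.node 1 (.leaf (.mov 99 9056345 false [.edge 2455 0 false, .plain 6877 17043521 false])) (.node 1 (.leaf (.mov 99 6776923 false [.edge 2445 0 false, .plain 6874 16988225 false])) (.leaf (.mov 99 17043521 true [.edge 689 0 false, .plain 6974 17059919 false]))))
(.node 2 (.node 1 (.leaf (.mov 99 32125001 true [.edge 2596 0 false, .plain 6883 19224659 false])) (.leaf (.mov 99 10971209 true [.edge 2356 0 false, .plain 2362 17043521 false]))) (.node 1 (.leaf (.mov 99 4808797 true [.edge 2582 0 false, .plain 6953 15618133 false])) (.leaf (.mov 99 29904967 true [.edge 2591 0 false, .plain 6915 17043521 false])))))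
(.node 4 (.node 2 (.node 1 (.leaf (.mov 99 13310023 true [.edge 2592 0 false, .plain 6915 8933451 false])) (.leaf (.mov 99 13510735 true [.edge 2583 0 false, .plain 6953 31938645 false]))) (.node 1 (.leaf (.mov 99 17059919 true [.edge 2511 0 false, .plain 2517 17043521 false])) (.leaf (.mov 99 19085399 true [.edge 2420 0 false, .plain 7103 17043521 false]))))
(.node 2 (.node 1 (.leaf (.mov 99 31801425 true [.edge 2634 0 false, .plain 6893 17043521 false])) (.leaf (.mov 99 32131155 true [.edge 2633 0 false, .plain 6893 17043521 false]))) (.node 1 (.leaf (.mov 99 11495495 true [.edge 694 0 false, .plain 701 17043521 false, .plain 6867 28192863 false])) (.leaf (.mov 99 4544593 true [.edge 2595 0 false, .plain 6883 17043521 false]))))))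
(.node 7 (.node 3 (.node 1 (.leaf (.mov 105 32125001 false [.edge 2667 0 false, .plain 7147 17702991 false])) (.node 1 (.leaf (.mov 105 10971209 false [.edge 2666 0 false, .plain 7147 16986185 false])) (.leaf (.mov 105 4808797 false [.edge 2650 0 false, .plain 7159 17180765 false]))))
(.node 2 (.node 1 (.leaf (.mov 105 23928925 false [.edge 2662 0 false, .plain 7147 17043521 false])) (.leaf (.mov 105 29904967 false [.edge 2651 0 false, .plain 7159 17461313 false]))) (.node 1 (.leaf (.mov 105 13310023 false [.edge 2665 0 false, .plain 7147 17786965 false])) (.leaf (.mov 105 13510735 false [.edge 2663 0 false, .plain 7147 17000543 false])))))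
(.node 4 (.node 2 (.node 1 (.leaf (.mov 105 7292999 false [.edge 2653 0 false, .plain 7159 17592391 false])) (.leaf (.mov 105 27529303 false [.edge 2664 0 false, .plain 7147 17643605 false]))) (.node 1 (.leaf (.mov 105 19085399 false [.edge 739 0 false, .plain 745 17043521 false])) (.leaf (.mov 105 31801425 false [.edge 2654 0 false, .plain 7159 17717335 false]))))
(.node 2 (.node 1 (.leaf (.mov 105 9056345 false [.edge 2648 0 false, .plain 7159 17043521 false])) (.leaf (.mov 105 6776923 false [.edge 2652 0 false, .plain 7159 17719363 false]))) (.node 1 (.leaf (.mov 105 17043521 true [.edge 796 0 false, .plain 2722 19673153 false])) (.leaf (.mov 105 10971209 true [.edge 799 0 false, .plain 2722 27603009 false])))))))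
(.node 15 (.node 7 (.node 3 (.node 1 (.leaf (.mov 105 4808797 true [.edge 2668 0 false, .plain 7153 17043521 false])) (.node 1 (.leaf (.mov 105 29904967 true [.edge 2672 0 false, .plain 7153 8943689 false])) (.leaf (.mov 105 13310023 true [.edge 7165 0 false, .plain 1245 17127513 false, .plain 7163 17592389 false]))))
(.node 2 (.node 1 (.leaf (.mov 105 13510735 true [.edge 2669 0 false, .plain 7153 9254993 false])) (.leaf (.mov 105 17059919 true [.edge 795 0 false, .plain 2722 19730499 false]))) (.node 1 (.leaf (.mov 105 19085399 true [.edge 794 0 false, .plain 2722 17133633 false])) (.leaf (.mov 105 31801425 true [.edge 2671 0 false, .plain 7153 25761875 false])))))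
(.node 4 (.node 2 (.node 1 (.leaf (.mov 105 25385043 true [.edge 797 0 false, .plain 2722 9254979 false])) (.leaf (.mov 105 32131155 true [.edge 2670 0 false, .plain 7153 8927307 false]))) (.node 1 (.leaf (.mov 105 11495495 true [.edge 798 0 false, .plain 2722 27555915 false])) (.leaf (.mov 105 4544593 true [.edge 2673 0 false, .plain 7153 11278427 false]))))
(.node 2 (.node 1 (.leaf (.mov 113 32125001 false [.edge 6487 0 false, .plain 5882 13111379 false, .plain 6565 19689567 false])) (.leaf (.mov 113 10971209 false [.edge 2725 0 false, .plain 6248 17193027 false]))) (.node 1 (.leaf (.mov 113 4808797 false [.edge 2728 0 false, .plain 6462 16988235 false])) (.leaf (.mov 113 23928925 false [.edge 2730 0 false, .plain 6462 17444955 false]))))))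
(.node 8 (.node 4 (.node 2 (.node 1 (.leaf (.mov 113 29904967 false [.edge 2726 0 false, .plain 6462 17043521 false])) (.leaf (.mov 113 13310023 false [.edge 2729 0 false, .plain 6462 17127491 false]))) (.node 1 (.leaf (.mov 113 13510735 false [.edge 2742 0 false, .plain 3551 17508425 false, .plain 3561 17522765 false])) (.leaf (.mov 113 7292999 false [.edge 6482 0 false, .plain 4296 17195081 false, .plain 4352 17190993 false]))))
(.node 2 (.node 1 (.leaf (.mov 113 27529303 false [.edge 2741 0 false, .plain 3551 17594449 false, .plain 3561 17576027 false])) (.leaf (.mov 113 19085399 false [.edge 784 0 false, .plain 2722 17043521 false]))) (.node 1 (.leaf (.mov 113 31801425 false [.edge 2724 0 false, .plain 7141 17193041 false])) (.leaf (.mov 113 9056345 false [.edge 2740 0 false, .plain 3551 16986207 false, .plain 3561 17004619 false])))))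
(.node 4 (.node 2 (.node 1 (.leaf (.mov 113 6776923 false [.edge 2738 0 false, .plain 3551 17043521 false, .plain 3561 17061979 false])) (.leaf (.mov 113 17043521 true [.edge 802 0 false, .plain 6869 17135683 false]))) (.node 1 (.leaf (.mov 113 32125001 true [.edge 2752 0 false, .plain 3542 9254995 false, .plain 5584 27809881 false, .plain 6391 13332571 false])) (.leaf (.mov 113 10971209 true [.edge 2723 0 false, .plain 2684 27555921 false, .plain 2722 27859037 false]))))
(.node 2 (.node 1 (.leaf (.mov 113 4808797 true [.edge 6484 0 false, .plain 4027 17643611 false, .plain 4302 9058395 false])) (.leaf (.mov 113 29904967 true [.edge 2753 0 false, .plain 3542 17111105 false, .plain 5584 11286611 false, .plain 6391 4681809 false]))) (.node 1 (.leaf (.mov 113 13310023 true [.edge 2750 0 false, .plain 3542 17043521 false, .plain 5584 9254995 false, .plain 6391 6778961 false])) (.leaf (.mov 113 13510735 true [.edge 2762 0 false, .plain 7139 17043521 false]))))))))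
(.node 30 (.node 15 (.node 7 (.node 3 (.node 1 (.leaf (.mov 113 17059919 true [.edge 800 0 false, .plain 6869 17043521 false])) (.node 1 (.leaf (.mov 113 19085399 true [.edge 803 0 false, .plain 6869 19232849 false])) (.leaf (.mov 113 31801425 true [.edge 2784 0 false, .plain 6667 17043521 false]))))
(.node 2 (.node 1 (.leaf (.mov 113 25385043 true [.edge 804 0 false, .plain 6869 11341899 false])) (.leaf (.mov 113 32131155 true [.edge 2763 0 false, .plain 6489 17043521 false]))) (.node 1 (.leaf (.mov 113 11495495 true [.edge 2717 0 false, .plain 2720 17043521 false])) (.leaf (.mov 113 4544593 true [.edge 2754 0 false, .plain 3542 27547737 false, .plain 5584 8941633 false, .plain 6391 21893187 false])))))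
(.node 4 (.node 2 (.node 1 (.leaf (.mov 123 32125001 false [.edge 5682 0 false, .plain 6576 16922713 false])) (.leaf (.mov 123 10971209 false [.edge 2941 0 false, .plain 6245 17524815 false]))) (.node 1 (.leaf (.mov 123 4808797 false [.edge 2895 0 false, .plain 3523 17526853 false])) (.leaf (.mov 123 23928925 false [.edge 2896 0 false, .plain 3523 17528905 false]))))
(.node 2 (.node 1 (.leaf (.mov 123 29904967 false [.edge 2894 0 false, .plain 3523 17586261 false])) (.leaf (.mov 123 13310023 false [.edge 2893 0 false, .plain 3523 17043521 false]))) (.node 1 (.leaf (.mov 123 13510735 false [.edge 2953 0 false, .plain 6300 19757127 false, .plain 6391 12798023 false])) (.leaf (.mov 123 7292999 false [.edge 2917 0 false, .plain 4288 17004609 false, .plain 6481 9007199 false]))))))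
(.node 7 (.node 3 (.node 1 (.leaf (.mov 123 27529303 false [.edge 2956 0 false, .plain 6300 19337301 false, .plain 6391 23349333 false])) (.node 1 (.leaf (.mov 123 19085399 false [.edge 837 0 false, .plain 843 17043521 false])) (.leaf (.mov 123 31801425 false [.edge 3521 0 false, .plain 1416 17657947 false, .plain 4352 19865677 false]))))
(.node 2 (.node 1 (.leaf (.mov 123 9056345 false [.edge 2954 0 false, .plain 6300 19341407 false, .plain 6391 27412575 false])) (.leaf (.mov 123 6776923 false [.edge 2955 0 false, .plain 6300 19085393 false, .plain 6391 29706321 false]))) (.node 1 (.leaf (.mov 123 32125001 true [.edge 2899 0 false, .plain 5799 17578059 false])) (.leaf (.mov 123 4808797 true [.edge 2908 0 false, .plain 3527 17043521 false])))))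
(.node 4 (.node 2 (.node 1 (.leaf (.mov 123 29904967 true [.edge 2900 0 false, .plain 5799 25524307 false])) (.leaf (.mov 123 13310023 true [.edge 2898 0 false, .plain 5799 27596875 false]))) (.node 1 (.leaf (.mov 123 13510735 true [.edge 4350 0 false, .plain 3324 11079761 false])) (.leaf (.mov 123 32131155 true [.edge 2929 0 false, .plain 4301 17043521 false, .plain 6481 29958223 false]))))
(.node 2 (.node 1 (.leaf (.mov 123 4544593 true [.edge 2897 0 false, .plain 5799 17043521 false])) (.leaf (.mov 126 32125001 false [.edge 3032 0 false, .plain 6433 32067671 false]))) (.node 1 (.leaf (.mov 126 10971209 false [.edge 3043 0 false, .plain 6443 17641553 false])) (.leaf (.mov 126 23928925 false [.edge 3030 0 false, .plain 6433 9009221 false])))))))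
(.node 15 (.node 7 (.node 3 (.node 1 (.leaf (.mov 126 13310023 false [.edge 3041 0 false, .plain 6443 17508435 false])) (.node 1 (.leaf (.mov 126 13510735 false [.edge 920 0 false, .plain 2401 17043521 false])) (.leaf (.mov 126 7292999 false [.edge 3031 0 false, .plain 6433 29954137 false]))))
(.node 2 (.node 1 (.leaf (.mov 126 27529303 false [.edge 922 0 false, .plain 2401 17193045 false])) (.leaf (.mov 126 31801425 false [.edge 3042 0 false, .plain 6443 17659973 false]))) (.node 1 (.leaf (.mov 126 9056345 false [.edge 3033 0 false, .plain 6433 27867215 false])) (.leaf (.mov 126 6776923 false [.edge 3040 0 false, .plain 6443 17506383 false])))))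
(.node 4 (.node 2 (.node 1 (.leaf (.mov 126 32125001 true [.edge 2988 0 false, .plain 6747 27553867 false, .plain 6869 7043153 false])) (.leaf (.mov 126 29904967 true [.edge 3001 0 false, .plain 3015 17043521 false]))) (.node 1 (.leaf (.mov 126 13310023 true [.edge 3000 0 false, .plain 6447 11358301 false, .plain 6672 19664967 false, .plain 6731 23930969 false, .plain 7009 31924317 false])) (.leaf (.mov 126 13510735 true [.edge 2987 0 false, .plain 6747 17043521 false, .plain 6869 21436497 false]))))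
(.node 2 (.node 1 (.leaf (.mov 126 17059919 true [.edge 855 0 false, .plain 861 17043521 false])) (.leaf (.mov 126 31801425 true [.edge 3004 0 false, .plain 3015 27793483 false]))) (.node 1 (.leaf (.mov 126 25385043 true [.edge 3003 0 false, .plain 3015 11024451 false])) (.leaf (.mov 126 32131155 true [.edge 2999 0 false, .plain 6447 25694293 false, .plain 6672 11087941 false, .plain 6731 6840409 false, .plain 7009 30042197 false]))))))
(.node 8 (.node 4 (.node 2 (.node 1 (.leaf (.mov 126 11495495 true [.edge 3005 0 false, .plain 3015 27816009 false])) (.leaf (.mov 129 32125001 false [.edge 2918 0 false, .plain 3528 17043521 false]))) (.node 1 (.leaf (.mov 129 10971209 false [.edge 3138 0 false, .plain 3534 17043521 false])) (.leaf (.mov 129 4808797 false [.edge 3105 0 false, .plain 3535 19877955 false, .plain 5584 17526859 false, .plain 6391 13527113 false]))))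
(.node 2 (.node 1 (.leaf (.mov 129 23928925 false [.edge 3515 0 false, .plain 6110 17715281 false])) (.leaf (.mov 129 29904967 false [.edge 3098 0 false, .plain 3532 17043521 false, .plain 3558 17004611 false, .plain 6869 4745285 false]))) (.node 1 (.leaf (.mov 129 13310023 false [.edge 3514 0 false, .plain 5944 17576017 false])) (.leaf (.mov 129 13510735 false [.edge 3097 0 false, .plain 6632 19877955 false])))))
(.node 4 (.node 2 (.node 1 (.leaf (.mov 129 7292999 false [.edge 2930 0 false, .plain 6672 17043521 false, .plain 6731 21323855 false, .plain 7009 15624267 false])) (.leaf (.mov 129 27529303 false [.edge 3090 0 false, .plain 6171 17043521 false]))) (.node 1 (.leaf (.mov 129 19085399 false [.edge 2980 0 false, .plain 2986 17043521 false])) (.leaf (.mov 129 31801425 false [.edge 2968 0 false, .plain 6281 17043521 false, .plain 6391 7284827 false]))))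
(.node 2 (.node 1 (.leaf (.mov 129 9056345 false [.edge 3504 0 false, .plain 1450 17643587 false, .plain 3501 19884119 false])) (.leaf (.mov 129 6776923 false [.edge 3502 0 false, .plain 3517 19290195 false]))) (.node 1 (.leaf (.mov 129 32125001 true [.edge 3159 0 false, .plain 5669 24078417 false])) (.leaf (.mov 129 10971209 true [.edge 886 0 false, .plain 893 17043521 false]))))))))))

/-- The reasons. -/
def caseCFullSrcRRRRR : Tab Src :=
(.node 122 (.node 61 (.node 30 (.node 15 (.node 7 (.node 3 (.node 1 (.leaf (.mov 129 4808797 true [.edge 3118 0 false, .plain 3568 17043521 false, .plain 3574 30105669 false, .plain 5584 17244229 false, .plain 6391 25450567 false])) (.node 1 (.leaf (.mov 129 29904967 true [.edge 3126 0 false, .plain 3525 17043521 false, .plain 3528 9263191 false])) (.leaf (.mov 129 13310023 true [.edge 3512 0 false, .plain 1565 9269331 false]))))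
(.node 2 (.node 1 (.leaf (.mov 129 13510735 true [.edge 2967 0 false, .plain 6341 28256345 false])) (.leaf (.mov 129 17059919 true [.edge 3054 0 false, .plain 2833 19140675 false, .plain 6869 15550557 false]))) (.node 1 (.leaf (.mov 129 19085399 true [.edge 3505 0 false, .plain 1483 11104323 false])) (.leaf (.mov 129 31801425 true [.edge 3125 0 false, .plain 3529 27605063 false, .plain 3561 25831519 false])))))
(.node 4 (.node 2 (.node 1 (.leaf (.mov 129 32131155 true [.edge 3503 0 false, .plain 1400 17586249 false])) (.leaf (.mov 129 11495495 true [.edge 3106 0 false, .plain 3117 17043521 false]))) (.node 1 (.leaf (.mov 129 4544593 true [.edge 3053 0 false, .plain 3539 27750489 false])) (.leaf (.mov 134 32125001 false [.edge 3361 0 false, .plain 5720 27605065 false, .plain 5962 17000533 false, .plain 5991 21116995 false, .plain 6041 12931163 false]))))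
(.node 2 (.node 1 (.leaf (.mov 134 10971209 false [.edge 3363 0 false, .plain 5720 31920211 false, .plain 5962 17070149 false, .plain 5991 27594845 false, .plain 6041 6776897 false])) (.leaf (.mov 134 4808797 false [.edge 4431 0 false, .plain 6292 17766477 false, .plain 6296 19603531 false]))) (.node 1 (.leaf (.mov 134 23928925 false [.edge 2928 0 false, .plain 4378 17043521 false])) (.leaf (.mov 134 29904967 false [.edge 4433 0 false, .plain 6292 16916555 false, .plain 6296 19689539 false]))))))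
(.node 7 (.node 3 (.node 1 (.leaf (.mov 134 13310023 false [.edge 2909 0 false, .plain 4285 17043521 false, .plain 7163 15624287 false])) (.node 1 (.leaf (.mov 134 13510735 false [.edge 3362 0 false, .plain 5720 9195601 false, .plain 5962 17244247 false, .plain 5991 29773897 false, .plain 6041 23883843 false])) (.leaf (.mov 134 7292999 false [.edge 4430 0 false, .plain 6292 17043521 false, .plain 6296 19558469 false]))))
(.node 2 (.node 1 (.leaf (.mov 134 27529303 false [.edge 3360 0 false, .plain 5720 29778001 false, .plain 5962 17526875 false, .plain 5991 4874333 false, .plain 6041 27660355 false])) (.leaf (.mov 134 19085399 false [.edge 1101 0 false, .plain 1107 17043521 false]))) (.node 1 (.leaf (.mov 134 31801425 false [.edge 4432 0 false, .plain 6292 17246279 false, .plain 6296 19746893 false])) (.leaf (.mov 134 9056345 false [.edge 3308 0 false, .plain 6579 19877955 false])))))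
(.node 4 (.node 2 (.node 1 (.leaf (.mov 134 6776923 false [.edge 3293 0 false, .plain 6603 17043521 false])) (.leaf (.mov 134 17043521 true [.edge 3328 0 false, .plain 3350 11366467 false]))) (.node 1 (.leaf (.mov 134 32125001 true [.edge 3331 0 false, .plain 4373 17043521 false])) (.leaf (.mov 134 10971209 true [.edge 3326 0 false, .plain 3350 17043521 false]))))
(.node 2 (.node 1 (.leaf (.mov 134 4808797 true [.edge 3319 0 false, .plain 4346 17043521 false, .plain 6481 15482963 false])) (.leaf (.mov 134 29904967 true [.edge 3368 0 false, .plain 5731 27553859 false]))) (.node 1 (.leaf (.mov 134 13310023 true [.edge 4303 0 false, .plain 1262 17117257 false, .plain 5598 17786955 false])) (.leaf (.mov 134 13510735 true [.edge 3369 0 false, .plain 5731 17117257 false])))))))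
(.node 15 (.node 7 (.node 3 (.node 1 (.leaf (.mov 134 17059919 true [.edge 3330 0 false, .plain 3350 9203779 false])) (.node 1 (.leaf (.mov 134 19085399 true [.edge 911 0 false, .plain 918 17043521 false])) (.leaf (.mov 134 31801425 true [.edge 3325 0 false, .plain 4349 27605063 false]))))
(.node 2 (.node 1 (.leaf (.mov 134 25385043 true [.edge 1145 0 false, .plain 1050 19673169 false])) (.leaf (.mov 134 32131155 true [.edge 3367 0 false, .plain 5731 27537473 false]))) (.node 1 (.leaf (.mov 134 11495495 true [.edge 3329 0 false, .plain 3350 19208265 false])) (.leaf (.mov 134 4544593 true [.edge 3365 0 false, .plain 5731 17043521 false])))))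
(.node 4 (.node 2 (.node 1 (.leaf (.mov 144 32125001 false [.edge 3421 0 false, .plain 5660 27883591 false, .plain 6391 17045587 false])) (.leaf (.mov 144 10971209 false [.edge 3422 0 false, .plain 5660 32067655 false, .plain 6391 17178717 false]))) (.node 1 (.leaf (.mov 144 4808797 false [.edge 3401 0 false, .plain 6558 17780817 false])) (.leaf (.mov 144 23928925 false [.edge 4354 0 false, .plain 3517 11087947 false]))))
(.node 2 (.node 1 (.leaf (.mov 144 29904967 false [.edge 3400 0 false, .plain 6558 16935005 false])) (.leaf (.mov 144 13310023 false [.edge 3372 0 false, .plain 4360 17043521 false, .plain 6481 31987801 false]))) (.node 1 (.leaf (.mov 144 13510735 false [.edge 3423 0 false, .plain 5660 27856979 false, .plain 6391 17068125 false])) (.leaf (.mov 144 7292999 false [.edge 3398 0 false, .plain 6558 17043521 false]))))))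
(.node 8 (.node 4 (.node 2 (.node 1 (.leaf (.mov 144 27529303 false [.edge 3424 0 false, .plain 5660 15278147 false, .plain 6391 17698901 false])) (.leaf (.mov 144 19085399 false [.edge 979 0 false, .plain 985 17043521 false]))) (.node 1 (.leaf (.mov 144 31801425 false [.edge 3399 0 false, .plain 6558 17246295 false])) (.leaf (.mov 144 9056345 false [.edge 7161 0 false, .plain 2661 16932941 false, .plain 7159 19730513 false]))))
(.node 2 (.node 1 (.leaf (.mov 144 6776923 false [.edge 6563 0 false, .plain 4014 17764445 false, .plain 7163 5066835 false])) (.leaf (.mov 144 32125001 true [.edge 3402 0 false, .plain 4371 17043521 false, .plain 5639 10635341 false]))) (.node 1 (.leaf (.mov 144 4808797 true [.edge 3469 0 false, .plain 4365 25587779 false, .plain 7163 29579345 false])) (.leaf (.mov 144 29904967 true [.edge 3409 0 false, .plain 6032 17043521 false])))))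
(.node 4 (.node 2 (.node 1 (.leaf (.mov 144 13310023 true [.edge 3408 0 false, .plain 4363 27605063 false])) (.leaf (.mov 144 13510735 true [.edge 3411 0 false, .plain 6032 27611203 false]))) (.node 1 (.leaf (.mov 144 19085399 true [.edge 3309 0 false, .plain 3317 17043521 false])) (.leaf (.mov 144 31801425 true [.edge 4355 0 false, .plain 3970 11032643 false, .plain 4352 10711109 false]))))
(.node 2 (.node 1 (.leaf (.mov 144 25385043 true [.edge 1051 0 false, .plain 1144 11427917 false])) (.leaf (.mov 144 32131155 true [.edge 3412 0 false, .plain 6032 19167305 false]))) (.node 1 (.leaf (.mov 144 4544593 true [.edge 3410 0 false, .plain 6032 27545667 false])) (.leaf (.mov 145 17043521 false [.edge 3414 0 false, .plain 5950 17043521 false]))))))))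
(.node 30 (.node 15 (.node 7 (.node 3 (.node 1 (.leaf (.mov 145 32125001 false [.edge 3486 0 false, .plain 3603 19877955 false])) (.node 1 (.leaf (.mov 145 10971209 false [.edge 3480 0 false, .plain 3602 17043521 false])) (.leaf (.mov 145 4808797 false [.edge 3425 0 false, .plain 5808 17043521 false, .plain 6592 17764443 false]))))
(.node 2 (.node 1 (.leaf (.mov 145 23928925 false [.edge 6010 0 false, .plain 6039 17578071 false, .plain 6056 17576017 false])) (.leaf (.mov 145 29904967 false [.edge 3413 0 false, .plain 6234 17043521 false, .plain 6238 19140691 false, .plain 6391 21829705 false]))) (.node 1 (.leaf (.mov 145 13510735 false [.edge 2835 0 false, .plain 2838 17043521 false, .plain 6869 26167367 false])) (.leaf (.mov 145 7292999 false [.edge 3487 0 false, .plain 6289 17043521 false])))))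
(.node 4 (.node 2 (.node 1 (.leaf (.mov 145 27529303 false [.edge 1076 0 false, .plain 2840 19294273 false])) (.leaf (.mov 145 19085399 false [.edge 3436 0 false, .plain 5947 17043521 false, .plain 6110 19099733 false]))) (.node 1 (.leaf (.mov 145 31801425 false [.edge 3019 0 false, .plain 6296 17043521 false])) (.leaf (.mov 145 9056345 false [.edge 3596 0 false, .plain 5807 19206223 false, .plain 6338 16982101 false]))))
(.node 2 (.node 1 (.leaf (.mov 145 6776923 false [.edge 3076 0 false, .plain 6918 17043521 false])) (.leaf (.mov 145 32125001 true [.edge 3056 0 false, .plain 3063 17043521 false]))) (.node 1 (.leaf (.mov 145 10971209 true [.edge 5670 0 false, .plain 3158 8982611 false])) (.leaf (.mov 145 4808797 true [.edge 3577 0 false, .plain 6069 17043521 false, .plain 6101 25376839 false]))))))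
(.node 7 (.node 3 (.node 1 (.leaf (.mov 145 29904967 true [.edge 3604 0 false, .plain 5810 17043521 false])) (.node 1 (.leaf (.mov 145 13310023 true [.edge 2841 0 false, .plain 1514 27605065 false])) (.leaf (.mov 145 13510735 true [.edge 967 0 false, .plain 974 17043521 false]))))
(.node 2 (.node 1 (.leaf (.mov 145 17059919 true [.edge 3609 0 false, .plain 6013 17043521 false])) (.leaf (.mov 145 19085399 true [.edge 3075 0 false, .plain 5804 6701129 false, .plain 6495 8810577 false, .plain 6505 8874073 false]))) (.node 1 (.leaf (.mov 145 31801425 true [.edge 3585 0 false, .plain 6062 27605063 false, .plain 6391 10895447 false])) (.leaf (.mov 145 25385043 true [.edge 2843 0 false, .plain 5962 17576015 false, .plain 5991 11343943 false, .plain 6041 5122121 false])))))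
(.node 4 (.node 2 (.node 1 (.leaf (.mov 145 11495495 true [.edge 3586 0 false, .plain 6119 17043521 false])) (.leaf (.mov 145 4544593 true [.edge 5797 0 false, .plain 5781 15409229 false]))) (.node 1 (.leaf (.mov 188 17043521 false [.edge 1166 0 false, .plain 1514 4991053 false])) (.leaf (.mov 188 32125001 false [.edge 6145 0 false, .plain 6343 16986193 false]))))
(.node 2 (.node 1 (.leaf (.mov 188 10971209 false [.edge 3590 0 false, .plain 6335 17043521 false])) (.leaf (.mov 188 4808797 false [.edge 3736 0 false, .plain 6324 17043521 false, .plain 6918 19798101 false]))) (.node 1 (.leaf (.mov 188 23928925 false [.edge 3822 0 false, .plain 6168 17719387 false])) (.leaf (.mov 188 29904967 false [.edge 3744 0 false, .plain 6327 19691589 false])))))))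
(.node 15 (.node 7 (.node 3 (.node 1 (.leaf (.mov 188 13310023 false [.edge 3364 0 false, .plain 6197 17043521 false, .plain 6632 17180757 false])) (.node 1 (.leaf (.mov 188 13510735 false [.edge 2892 0 false, .plain 3567 17043521 false])) (.leaf (.mov 188 7292999 false [.edge 3751 0 false, .plain 6437 19877955 false]))))
(.node 2 (.node 1 (.leaf (.mov 188 27529303 false [.edge 3566 0 false, .plain 2749 17444941 false, .plain 3551 19796059 false, .plain 3561 19812439 false])) (.leaf (.mov 188 19085399 false [.edge 2868 0 false, .plain 2879 17043521 false]))) (.node 1 (.leaf (.mov 188 31801425 false [.edge 3034 0 false, .plain 6284 17043521 false])) (.leaf (.mov 188 9056345 false [.edge 3564 0 false, .plain 6113 17524805 false])))))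
(.node 4 (.node 2 (.node 1 (.leaf (.mov 188 6776923 false [.edge 3352 0 false, .plain 6081 17043521 false])) (.leaf (.mov 188 17043521 true [.edge 2853 0 false, .plain 2860 17043521 false, .plain 3052 4472911 false]))) (.node 1 (.leaf (.mov 188 32125001 true [.edge 6333 0 false, .plain 6672 19353685 false, .plain 6731 6713421 false, .plain 7009 25458777 false])) (.leaf (.mov 188 4808797 true [.edge 3752 0 false, .plain 6354 17043521 false, .plain 6391 5062751 false]))))
(.node 2 (.node 1 (.leaf (.mov 188 29904967 true [.edge 3786 0 false, .plain 6092 17043521 false, .plain 6139 8601681 false])) (.leaf (.mov 188 13310023 true [.edge 6533 0 false, .plain 4691 11081803 false, .plain 6532 9318471 false]))) (.node 1 (.leaf (.mov 188 13510735 true [.edge 3089 0 false, .plain 3574 31662171 false, .plain 5584 19359835 false, .plain 6391 9246809 false])) (.leaf (.mov 188 17059919 true [.edge 1183 0 false, .plain 1194 17043521 false, .plain 6869 29509707 false]))))))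
(.node 8 (.node 4 (.node 2 (.node 1 (.leaf (.mov 188 31801425 true [.edge 3759 0 false, .plain 6362 27605063 false, .plain 6918 8611933 false])) (.leaf (.mov 188 25385043 true [.edge 3783 0 false, .plain 3821 17043521 false]))) (.node 1 (.leaf (.mov 188 32131155 true [.edge 3562 0 false, .plain 2006 17061977 false, .plain 3501 29700165 false])) (.leaf (.mov 188 11495495 true [.edge 1170 0 false, .plain 1181 17043521 false, .plain 2840 27729993 false]))))
(.node 2 (.node 1 (.leaf (.mov 188 4544593 true [.edge 3387 0 false, .plain 6017 11421777 false])) (.leaf (.mov 217 32125001 false [.edge 4507 0 false, .plain 6316 19877955 false, .plain 6330 19626065 false]))) (.node 1 (.leaf (.mov 217 10971209 false [.edge 4497 0 false, .plain 6320 17043521 false])) (.leaf (.mov 217 4808797 false [.edge 6140 0 false, .plain 5991 19748943 false, .plain 6041 21383241 false])))))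
(.node 4 (.node 2 (.node 1 (.leaf (.mov 217 23928925 false [.edge 4509 0 false, .plain 6316 19277903 false, .plain 6330 19148893 false])) (.leaf (.mov 217 29904967 false [.edge 4664 0 false, .plain 6137 17043521 false]))) (.node 1 (.leaf (.mov 217 13310023 false [.edge 4499 0 false, .plain 6320 17700947 false])) (.leaf (.mov 217 13510735 false [.edge 6141 0 false, .plain 5991 19341391 false, .plain 6041 10700887 false]))))
(.node 2 (.node 1 (.leaf (.mov 217 7292999 false [.edge 4498 0 false, .plain 6320 17594445 false])) (.leaf (.mov 217 27529303 false [.edge 4666 0 false, .plain 6137 17178697 false]))) (.node 1 (.leaf (.mov 217 19085399 false [.edge 1361 0 false, .plain 1367 17043521 false])) (.leaf (.mov 217 31801425 false [.edge 4508 0 false, .plain 6316 19560515 false, .plain 6330 19812433 false])))))))))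
(.node 61 (.node 30 (.node 15 (.node 7 (.node 3 (.node 1 (.leaf (.mov 217 9056345 false [.edge 4510 0 false, .plain 6316 19621963 false, .plain 6330 19683417 false])) (.node 1 (.leaf (.mov 217 6776923 false [.edge 4500 0 false, .plain 6320 17721419 false])) (.leaf (.mov 217 17043521 true [.edge 1439 0 false, .plain 1493 19882061 false]))))
(.node 2 (.node 1 (.leaf (.mov 217 32125001 true [.edge 4522 0 false, .plain 6144 25505873 false])) (.leaf (.mov 217 10971209 true [.edge 1403 0 false, .plain 3501 26093633 false]))) (.node 1 (.leaf (.mov 217 4808797 true [.edge 4519 0 false, .plain 6144 17043521 false])) (.leaf (.mov 217 29904967 true [.edge 4529 0 false, .plain 6156 19206221 false])))))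
(.node 4 (.node 2 (.node 1 (.leaf (.mov 217 13310023 true [.edge 4531 0 false, .plain 6156 9271389 false])) (.leaf (.mov 217 13510735 true [.edge 4530 0 false, .plain 6156 17594447 false]))) (.node 1 (.leaf (.mov 217 17059919 true [.edge 1438 0 false, .plain 1493 19081311 false])) (.leaf (.mov 217 19085399 true [.edge 1402 0 false, .plain 3501 19867721 false]))))
(.node 2 (.node 1 (.leaf (.mov 217 31801425 true [.edge 4528 0 false, .plain 6156 27605063 false])) (.leaf (.mov 217 25385043 true [.edge 1401 0 false, .plain 3501 11419739 false]))) (.node 1 (.leaf (.mov 217 32131155 true [.edge 4521 0 false, .plain 6144 25434187 false])) (.leaf (.mov 217 11495495 true [.edge 1404 0 false, .plain 3501 25903177 false]))))))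
(.node 7 (.node 3 (.node 1 (.leaf (.mov 217 4544593 true [.edge 4520 0 false, .plain 6144 27881547 false])) (.node 1 (.leaf (.mov 229 32125001 false [.edge 6049 0 false, .plain 6635 17045587 false])) (.leaf (.mov 229 10971209 false [.edge 6122 0 false, .plain 6629 17782875 false]))))
(.node 2 (.node 1 (.leaf (.mov 229 4808797 false [.edge 4600 0 false, .plain 6209 19877955 false])) (.leaf (.mov 229 23928925 false [.edge 6044 0 false, .plain 5980 17528913 false]))) (.node 1 (.leaf (.mov 229 29904967 false [.edge 4594 0 false, .plain 6210 17043521 false])) (.leaf (.mov 229 13310023 false [.edge 4612 0 false, .plain 6109 19816541 false])))))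
(.node 4 (.node 2 (.node 1 (.leaf (.mov 229 13510735 false [.edge 4554 0 false, .plain 6052 17043521 false, .plain 6139 19863629 false])) (.leaf (.mov 229 7292999 false [.edge 4611 0 false, .plain 6109 19290205 false]))) (.node 1 (.leaf (.mov 229 27529303 false [.edge 4593 0 false, .plain 6073 19691589 false])) (.leaf (.mov 229 19085399 false [.edge 1429 0 false, .plain 1493 17043521 false]))))
(.node 2 (.node 1 (.leaf (.mov 229 31801425 false [.edge 6045 0 false, .plain 5980 17068099 false])) (.leaf (.mov 229 9056345 false [.edge 6048 0 false, .plain 6635 17715295 false]))) (.node 1 (.leaf (.mov 229 6776923 false [.edge 6121 0 false, .plain 6629 17002589 false])) (.leaf (.mov 229 17043521 true [.edge 4511 0 false, .plain 4518 17043521 false])))))))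
(.node 15 (.node 7 (.node 3 (.node 1 (.leaf (.mov 229 32125001 true [.edge 4613 0 false, .plain 6079 17043521 false])) (.node 1 (.leaf (.mov 229 10971209 true [.edge 4628 0 false, .plain 6123 27881553 false])) (.leaf (.mov 229 4808797 true [.edge 4629 0 false, .plain 6131 17043521 false]))))
(.node 2 (.node 1 (.leaf (.mov 229 29904967 true [.edge 4601 0 false, .plain 6199 17043521 false, .plain 6391 16920649 false])) (.leaf (.mov 229 13310023 true [.edge 4604 0 false, .plain 5956 9244737 false, .plain 6032 29829201 false]))) (.node 1 (.leaf (.mov 229 13510735 true [.edge 4603 0 false, .plain 5956 17043521 false, .plain 6032 15419483 false])) (.leaf (.mov 229 17059919 true [.edge 1494 0 false, .plain 1437 25507923 false])))))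
(.node 4 (.node 2 (.node 1 (.leaf (.mov 229 19085399 true [.edge 4627 0 false, .plain 6123 17043521 false])) (.leaf (.mov 229 31801425 true [.edge 4630 0 false, .plain 6131 27529281 false]))) (.node 1 (.leaf (.mov 229 25385043 true [.edge 1566 0 false, .plain 1949 8869955 false, .plain 2013 10909789 false, .plain 3501 29909081 false])) (.leaf (.mov 229 32131155 true [.edge 4614 0 false, .plain 6079 11098179 false]))))
(.node 2 (.node 1 (.leaf (.mov 229 11495495 true [.edge 1567 0 false, .plain 1949 27752539 false, .plain 2013 25563231 false, .plain 3501 6635593 false])) (.leaf (.mov 229 4544593 true [.edge 4602 0 false, .plain 6199 25768011 false, .plain 6391 25589849 false]))) (.node 1 (.leaf (.mov 280 17043521 false [.edge 6398 0 false, .plain 5856 19626059 false, .plain 6495 19816519 false, .plain 6505 19877973 false])) (.leaf (.mov 280 32125001 false [.edge 5307 0 false, .plain 5898 17043521 false, .plain 5903 19277891 false, .plain 6308 16934977 false]))))))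
(.node 8 (.node 4 (.node 2 (.node 1 (.leaf (.mov 280 10971209 false [.edge 5314 0 false, .plain 5896 19691589 false, .plain 6330 17176661 false])) (.leaf (.mov 280 4808797 false [.edge 6393 0 false, .plain 5476 17717343 false, .plain 6391 19101777 false]))) (.node 1 (.leaf (.mov 280 23928925 false [.edge 5893 0 false, .plain 6571 16937039 false, .plain 6589 19861591 false])) (.leaf (.mov 280 29904967 false [.edge 6392 0 false, .plain 5666 17256519 false]))))
(.node 2 (.node 1 (.leaf (.mov 280 13310023 false [.edge 5322 0 false, .plain 6409 17043521 false, .plain 6592 19095641 false])) (.leaf (.mov 280 13510735 false [.edge 6402 0 false, .plain 3532 19605571 false, .plain 3558 19148865 false, .plain 6869 11081801 false]))) (.node 1 (.leaf (.mov 280 7292999 false [.edge 5332 0 false, .plain 6477 13180993 false, .plain 6667 25522253 false])) (.leaf (.mov 280 27529303 false [.edge 4763 0 false, .plain 5900 17043521 false, .plain 6543 17768531 false])))))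
(.node 4 (.node 2 (.node 1 (.leaf (.mov 280 19085399 false [.edge 4897 0 false, .plain 6515 17043521 false, .plain 6869 31926343 false])) (.leaf (.mov 280 31801425 false [.edge 6399 0 false, .plain 6350 17190979 false, .plain 6391 15024207 false]))) (.node 1 (.leaf (.mov 280 9056345 false [.edge 6396 0 false, .plain 6426 17193055 false])) (.leaf (.mov 280 6776923 false [.edge 6401 0 false, .plain 6427 17715271 false, .plain 6672 19099743 false, .plain 6731 14831687 false, .plain 7009 25450587 false]))))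
(.node 2 (.node 1 (.leaf (.mov 280 17043521 true [.edge 1696 0 false, .plain 6532 10971209 false])) (.leaf (.mov 280 32125001 true [.edge 1697 0 false, .plain 1704 17043521 false, .plain 5835 13453391 false, .plain 6481 15405143 false]))) (.node 1 (.leaf (.mov 280 10971209 true [.edge 4842 0 false, .plain 6241 19294295 false, .plain 6918 16922697 false])) (.leaf (.mov 280 4808797 true [.edge 6397 0 false, .plain 5764 19224665 false, .plain 6059 19609667 false]))))))))
(.node 31 (.node 15 (.node 7 (.node 3 (.node 1 (.leaf (.mov 280 29904967 true [.edge 5321 0 false, .plain 7167 25768023 false])) (.node 1 (.leaf (.mov 280 13310023 true [.edge 4756 0 false, .plain 4762 17043521 false])) (.leaf (.mov 280 13510735 true [.edge 4726 0 false, .plain 6655 16918603 false, .plain 6672 27928659 false, .plain 6731 17512527 false, .plain 7009 29503557 false]))))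
(.node 2 (.node 1 (.leaf (.mov 280 17059919 true [.edge 5333 0 false, .plain 6549 17043521 false])) (.leaf (.mov 280 19085399 true [.edge 5895 0 false, .plain 6227 4991055 false, .plain 6558 26157131 false]))) (.node 1 (.leaf (.mov 280 31801425 true [.edge 5345 0 false, .plain 6472 17043521 false])) (.leaf (.mov 280 25385043 true [.edge 6400 0 false, .plain 6278 17586271 false, .plain 6495 25497675 false, .plain 6505 25448531 false])))))
(.node 4 (.node 2 (.node 1 (.leaf (.mov 280 32131155 true [.edge 5344 0 false, .plain 6407 17043521 false, .plain 6422 19738701 false])) (.leaf (.mov 280 11495495 true [.edge 5358 0 false, .plain 6412 17043521 false]))) (.node 1 (.leaf (.mov 280 4544593 true [.edge 5315 0 false, .plain 7169 17043521 false])) (.leaf (.mov 374 17043521 false [.edge 2050 0 false, .plain 2840 21979225 false]))))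
(.node 2 (.node 1 (.leaf (.mov 374 32125001 false [.edge 6509 0 false, .plain 5528 16935001 false, .plain 6391 4808799 false])) (.leaf (.mov 374 10971209 false [.edge 6506 0 false, .plain 6869 6975567 false]))) (.node 1 (.leaf (.mov 374 4808797 false [.edge 5735 0 false, .plain 6589 17262665 false])) (.leaf (.mov 374 23928925 false [.edge 6473 0 false, .plain 6598 17700941 false]))))))
(.node 8 (.node 4 (.node 2 (.node 1 (.leaf (.mov 374 29904967 false [.edge 5737 0 false, .plain 6586 17109075 false])) (.leaf (.mov 374 13310023 false [.edge 6103 0 false, .plain 6072 17190979 false, .plain 6601 17193031 false]))) (.node 1 (.leaf (.mov 374 13510735 false [.edge 6020 0 false, .plain 6360 17764427 false])) (.leaf (.mov 374 7292999 false [.edge 6024 0 false, .plain 6059 17002591 false]))))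
(.node 2 (.node 1 (.leaf (.mov 374 27529303 false [.edge 6159 0 false, .plain 6430 16922715 false])) (.leaf (.mov 374 19085399 false [.edge 5736 0 false, .plain 6512 17526869 false]))) (.node 1 (.leaf (.mov 374 31801425 false [.edge 6019 0 false, .plain 6128 17242205 false, .plain 6495 5191757 false, .plain 6505 5134409 false])) (.leaf (.mov 374 9056345 false [.edge 6157 0 false, .plain 6345 17440847 false, .plain 6481 23492691 false])))))
(.node 4 (.node 2 (.node 1 (.leaf (.mov 374 6776923 false [.edge 6158 0 false, .plain 6479 17780803 false])) (.leaf (.mov 374 17043521 true [.edge 6285 0 false, .plain 6443 11302985 false]))) (.node 1 (.leaf (.mov 374 32125001 true [.edge 6286 0 false, .plain 5804 8927323 false, .plain 6495 27818063 false, .plain 6505 27875413 false])) (.leaf (.mov 374 10971209 true [.edge 6034 0 false, .plain 6514 8603723 false]))))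
(.node 2 (.node 1 (.leaf (.mov 374 4808797 true [.edge 6023 0 false, .plain 5022 9252953 false, .plain 5750 11104343 false, .plain 6017 8876119 false])) (.leaf (.mov 374 29904967 true [.edge 6465 0 false, .plain 6501 11098187 false]))) (.node 1 (.leaf (.mov 374 13310023 true [.edge 5934 0 false, .plain 5925 9048149 false, .plain 6281 8876123 false, .plain 6391 32256095 false])) (.leaf (.mov 374 13510735 true [.edge 6018 0 false, .plain 3386 19224641 false])))))))
(.node 15 (.node 7 (.node 3 (.node 1 (.leaf (.mov 374 19085399 true [.edge 5733 0 false, .plain 6098 17784919 false, .plain 6391 17705025 false])) (.node 1 (.leaf (.mov 374 31801425 true [.edge 6021 0 false, .plain 5767 15274061 false])) (.leaf (.mov 374 32131155 true [.edge 5738 0 false, .plain 6027 27928665 false, .plain 6139 17125449 false]))))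
(.node 2 (.node 1 (.leaf (.mov 374 11495495 true [.edge 5734 0 false, .plain 5633 25315423 false, .plain 5991 25694299 false, .plain 6041 6971461 false])) (.leaf (.mov 374 4544593 true [.edge 6507 0 false, .plain 6284 17244253 false]))) (.node 1 (.leaf (.mov 579 17043521 false [.edge 2609 0 false, .plain 6915 23685197 false])) (.leaf (.mov 579 32125001 false [.edge 6922 0 false, .plain 6644 17059919 false])))))
(.node 4 (.node 2 (.node 1 (.leaf (.mov 579 10971209 false [.edge 6925 0 false, .plain 6196 17635421 false, .plain 6441 17522765 false])) (.leaf (.mov 579 4808797 false [.edge 6941 0 false, .plain 6644 16988233 false]))) (.node 1 (.leaf (.mov 579 23928925 false [.edge 6939 0 false, .plain 6196 17510487 false, .plain 6441 17715271 false])) (.leaf (.mov 579 29904967 false [.edge 6938 0 false, .plain 6196 17528903 false, .plain 6441 17256535 false]))))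
(.node 2 (.node 1 (.leaf (.mov 579 13310023 false [.edge 6942 0 false, .plain 6644 17244243 false])) (.leaf (.mov 579 13510735 false [.edge 6937 0 false, .plain 6441 17569871 false]))) (.node 1 (.leaf (.mov 579 7292999 false [.edge 6944 0 false, .plain 6644 17061961 false])) (.leaf (.mov 579 31801425 false [.edge 6924 0 false, .plain 6441 17442903 false]))))))
(.node 8 (.node 4 (.node 2 (.node 1 (.leaf (.mov 579 9056345 false [.edge 6943 0 false, .plain 6644 16916565 false])) (.leaf (.mov 579 6776923 false [.edge 6940 0 false, .plain 6196 17176641 false, .plain 6441 17512529 false]))) (.node 1 (.leaf (.mov 579 17043521 true [.edge 6932 0 false, .plain 3758 17641555 false])) (.leaf (.mov 579 32125001 true [.edge 6928 0 false, .plain 6354 27529295 false, .plain 6391 4745307 false]))))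
(.node 2 (.node 1 (.leaf (.mov 579 10971209 true [.edge 6923 0 false, .plain 3758 11030617 false])) (.leaf (.mov 579 4808797 true [.edge 6935 0 false, .plain 3758 17109083 false]))) (.node 1 (.leaf (.mov 579 29904967 true [.edge 6934 0 false, .plain 3758 25448539 false])) (.leaf (.mov 579 13310023 true [.edge 6933 0 false, .plain 3758 11079747 false])))))
(.node 4 (.node 2 (.node 1 (.leaf (.mov 579 13510735 true [.edge 6926 0 false, .plain 6175 25376859 false])) (.leaf (.mov 579 17059919 true [.edge 6927 0 false, .plain 6354 17657927 false, .plain 6391 29638739 false]))) (.node 1 (.leaf (.mov 579 19085399 true [.edge 6921 0 false, .plain 4841 27539545 false])) (.leaf (.mov 579 31801425 true [.edge 6930 0 false, .plain 6354 27793501 false, .plain 6391 6580307 false]))))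
(.node 2 (.node 1 (.leaf (.mov 579 25385043 true [.edge 6936 0 false, .plain 3758 17045569 false])) (.leaf (.mov 579 32131155 true [.edge 6931 0 false, .plain 6354 11292759 false, .plain 6391 21506131 false]))) (.node 1 (.leaf (.mov 579 11495495 true [.edge 6920 0 false, .plain 3574 17109057 false, .plain 5584 29843521 false, .plain 6391 4991043 false])) (.leaf (.mov 579 4544593 true [.edge 6929 0 false, .plain 6354 17068109 false, .plain 6391 30228555 false]))))))))))

/-- The reasons. -/
def caseCFullSrcRRRR : Tab Src := .node 244 caseCFullSrcRRRRL caseCFullSrcRRRRR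

/-- The reasons. -/
def caseCFullSrcRRR : Tab Src := .node 488 caseCFullSrcRRRL caseCFullSrcRRRR

/-- The reasons. -/
def caseCFullSrcRR : Tab Src := .node 977 caseCFullSrcRRL caseCFullSrcRRR

/-- The reasons. -/
def caseCFullSrcR : Tab Src := .node 1954 caseCFullSrcRL caseCFullSrcRR

/-- The reasons. -/
def caseCFullSrc : Tab Src := .node 3907 caseCFullSrcL caseCFullSrcR

/-- The definitions. -/
def caseCFullDefsLLL : Tab (ℕ × ℕ × Bool) :=
(.node 110 (.node 55 (.node 27 (.node 13 (.node 6 (.node 3 (.node 1 (.leaf (0, 17043521, false)) (.node 1 (.leaf (0, 31801425, false)) (.leaf (1, 19085399, false)))) (.node 1 (.leaf (2, 19085399, false)) (.node 1 (.leaf (0, 11495495, true)) (.leaf (4, 17059919, true)))))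
(.node 3 (.node 1 (.leaf (5, 17059919, true)) (.node 1 (.leaf (4, 4808797, false)) (.leaf (7, 11495495, true))))
(.node 2 (.node 1 (.leaf (8, 13510735, false)) (.leaf (7, 19085399, false))) (.node 1 (.leaf (10, 17043521, true)) (.leaf (11, 19085399, false))))))
(.node 7 (.node 3 (.node 1 (.leaf (7, 19085399, true)) (.node 1 (.leaf (13, 19085399, true)) (.leaf (14, 11495495, true))))
(.node 2 (.node 1 (.leaf (1, 6776923, false)) (.leaf (16, 19085399, false))) (.node 1 (.leaf (17, 19085399, false)) (.leaf (7, 10971209, true)))))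
(.node 3 (.node 1 (.leaf (19, 17059919, true)) (.node 1 (.leaf (1, 4544593, true)) (.leaf (21, 13510735, false))))
(.node 2 (.node 1 (.leaf (22, 17043521, true)) (.leaf (23, 17043521, false))) (.node 1 (.leaf (22, 19085399, false)) (.leaf (25, 10971209, true)))))))
(.node 14 (.node 7 (.node 3 (.node 1 (.leaf (26, 27529303, false)) (.node 1 (.leaf (22, 25385043, true)) (.leaf (28, 4544593, true))))
(.node 2 (.node 1 (.leaf (29, 32125001, true)) (.leaf (22, 19085399, true))) (.node 1 (.leaf (31, 25385043, true)) (.leaf (32, 4808797, true)))))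
(.node 3 (.node 1 (.leaf (4, 6776923, false)) (.node 1 (.leaf (34, 19085399, false)) (.leaf (35, 19085399, false))))
(.node 2 (.node 1 (.leaf (13, 25385043, true)) (.leaf (37, 17059919, true))) (.node 1 (.leaf (13, 9056345, false)) (.leaf (13, 17043521, false))))))
(.node 7 (.node 3 (.node 1 (.leaf (40, 17059919, true)) (.node 1 (.leaf (41, 17043521, false)) (.leaf (39, 19085399, true))))
(.node 2 (.node 1 (.leaf (43, 19085399, false)) (.leaf (39, 19085399, false))) (.node 1 (.leaf (45, 25385043, true)) (.leaf (46, 29904967, false)))))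
(.node 3 (.node 1 (.leaf (13, 11495495, true)) (.node 1 (.leaf (48, 13310023, true)) (.leaf (39, 11495495, true))))
(.node 2 (.node 1 (.leaf (50, 13510735, true)) (.leaf (51, 10971209, true))) (.node 1 (.leaf (7, 23928925, false)) (.leaf (53, 19085399, false))))))))
(.node 27 (.node 13 (.node 6 (.node 3 (.node 1 (.leaf (54, 19085399, false)) (.node 1 (.leaf (31, 17043521, false)) (.leaf (13, 27529303, false)))) (.node 1 (.leaf (57, 19085399, true)) (.node 1 (.leaf (58, 19085399, false)) (.leaf (16, 11495495, true)))))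
(.node 3 (.node 1 (.leaf (60, 13510735, false)) (.node 1 (.leaf (31, 13310023, false)) (.leaf (62, 11495495, true))))
(.node 2 (.node 1 (.leaf (63, 32125001, true)) (.leaf (64, 32125001, true))) (.node 1 (.leaf (57, 19085399, false)) (.leaf (66, 19085399, false))))))
(.node 7 (.node 3 (.node 1 (.leaf (50, 32131155, true)) (.node 1 (.leaf (68, 17059919, true)) (.leaf (50, 13510735, false))))
(.node 2 (.node 1 (.leaf (50, 31801425, false)) (.leaf (70, 25385043, true))) (.node 1 (.leaf (72, 4808797, false)) (.leaf (71, 19085399, false)))))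
(.node 3 (.node 1 (.leaf (74, 17043521, true)) (.node 1 (.leaf (75, 19085399, false)) (.leaf (71, 17043521, true))))
(.node 2 (.node 1 (.leaf (77, 19085399, true)) (.leaf (78, 25385043, true))) (.node 1 (.leaf (71, 25385043, true)) (.leaf (80, 4808797, true)))))))
(.node 14 (.node 7 (.node 3 (.node 1 (.leaf (81, 19085399, true)) (.node 1 (.leaf (16, 32125001, false)) (.leaf (83, 19085399, false))))
(.node 2 (.node 1 (.leaf (84, 19085399, false)) (.leaf (16, 29904967, false))) (.node 1 (.leaf (86, 19085399, false)) (.leaf (87, 19085399, false)))))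
(.node 3 (.node 1 (.leaf (16, 4808797, true)) (.node 1 (.leaf (89, 17059919, true)) (.leaf (90, 17059919, true))))
(.node 2 (.node 1 (.leaf (89, 17043521, false)) (.leaf (22, 4808797, false))) (.node 1 (.leaf (93, 11495495, true)) (.leaf (94, 13510735, false))))))
(.node 7 (.node 3 (.node 1 (.leaf (93, 19085399, false)) (.node 1 (.leaf (96, 17043521, true)) (.leaf (97, 19085399, false))))
(.node 2 (.node 1 (.leaf (93, 17059919, true)) (.leaf (99, 11495495, true))) (.node 1 (.leaf (100, 32131155, true)) (.leaf (92, 11495495, true)))))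
(.node 3 (.node 1 (.leaf (102, 13310023, true)) (.node 1 (.leaf (103, 31801425, true)) (.leaf (21, 7292999, false))))
(.node 2 (.node 1 (.leaf (105, 19085399, false)) (.leaf (106, 19085399, false))) (.node 1 (.leaf (28, 29904967, true)) (.leaf (108, 17059919, true)))))))))
(.node 55 (.node 27 (.node 13 (.node 6 (.node 3 (.node 1 (.leaf (21, 17059919, true)) (.node 1 (.leaf (110, 17059919, true)) (.leaf (111, 17059919, true)))) (.node 1 (.leaf (28, 32125001, false)) (.node 1 (.leaf (28, 4808797, false)) (.leaf (114, 17043521, true)))))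
(.node 3 (.node 1 (.leaf (115, 17043521, false)) (.node 1 (.leaf (113, 19085399, false)) (.leaf (117, 17043521, true))))
(.node 2 (.node 1 (.leaf (118, 19085399, false)) (.leaf (113, 17059919, true))) (.node 1 (.leaf (120, 11495495, true)) (.leaf (121, 32131155, true))))))
(.node 7 (.node 3 (.node 1 (.leaf (22, 6776923, false)) (.node 1 (.leaf (123, 19085399, false)) (.leaf (124, 19085399, false))))
(.node 2 (.node 1 (.leaf (22, 32131155, true)) (.leaf (126, 17059919, true))) (.node 1 (.leaf (127, 17059919, true)) (.leaf (126, 19085399, false)))))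
(.node 3 (.node 1 (.leaf (22, 17059919, true)) (.node 1 (.leaf (130, 13510735, false)) (.leaf (129, 10971209, true))))
(.node 2 (.node 1 (.leaf (132, 13510735, false)) (.leaf (31, 27529303, false))) (.node 1 (.leaf (134, 19085399, true)) (.leaf (135, 19085399, false)))))))
(.node 14 (.node 7 (.node 3 (.node 1 (.leaf (126, 13510735, false)) (.node 1 (.leaf (137, 19085399, false)) (.leaf (138, 10971209, true))))
(.node 2 (.node 1 (.leaf (139, 27529303, false)) (.leaf (56, 19085399, false))) (.node 1 (.leaf (141, 17043521, true)) (.leaf (142, 19085399, false)))))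
(.node 3 (.node 1 (.leaf (28, 27529303, false)) (.node 1 (.leaf (144, 11495495, true)) (.leaf (145, 13510735, true))))
(.node 2 (.node 1 (.leaf (146, 10971209, true)) (.leaf (144, 19085399, false))) (.node 1 (.leaf (148, 19085399, false)) (.leaf (120, 10971209, true))))))
(.node 7 (.node 3 (.node 1 (.leaf (150, 17059919, true)) (.node 1 (.leaf (28, 4808797, true)) (.leaf (152, 29904967, false))))
(.node 2 (.node 1 (.leaf (152, 19085399, false)) (.leaf (154, 10971209, true))) (.node 1 (.leaf (155, 13510735, false)) (.leaf (28, 17059919, true)))))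
(.node 3 (.node 1 (.leaf (157, 4808797, false)) (.node 1 (.leaf (158, 11495495, true)) (.leaf (159, 13510735, false))))
(.node 2 (.node 1 (.leaf (120, 31801425, false)) (.leaf (28, 31801425, true))) (.node 1 (.leaf (162, 13510735, false)) (.leaf (161, 19085399, false))))))))
(.node 28 (.node 14 (.node 7 (.node 3 (.node 1 (.leaf (164, 11495495, true)) (.node 1 (.leaf (165, 27529303, false)) (.leaf (120, 19085399, false))))
(.node 2 (.node 1 (.leaf (167, 19085399, false)) (.leaf (168, 10971209, true))) (.node 1 (.leaf (169, 27529303, false)) (.leaf (120, 19085399, true)))))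
(.node 3 (.node 1 (.leaf (171, 25385043, true)) (.node 1 (.leaf (161, 25385043, true)) (.leaf (173, 31801425, true))))
(.node 2 (.node 1 (.leaf (174, 13310023, true)) (.leaf (134, 19085399, false))) (.node 1 (.leaf (176, 19085399, false)) (.leaf (62, 19085399, false))))))
(.node 7 (.node 3 (.node 1 (.leaf (178, 19085399, false)) (.node 1 (.leaf (31, 19085399, true)) (.leaf (180, 17059919, true))))
(.node 2 (.node 1 (.leaf (181, 17059919, true)) (.leaf (173, 7292999, false))) (.node 1 (.leaf (183, 17059919, true)) (.leaf (184, 17043521, false)))))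
(.node 3 (.node 1 (.leaf (62, 17043521, true)) (.node 1 (.leaf (186, 17043521, false)) (.leaf (173, 23928925, false))))
(.node 2 (.node 1 (.leaf (188, 11495495, true)) (.leaf (189, 13510735, true))) (.node 1 (.leaf (190, 10971209, true)) (.leaf (188, 17059919, true)))))))
(.node 14 (.node 7 (.node 3 (.node 1 (.leaf (192, 25385043, true)) (.node 1 (.leaf (193, 4544593, true)) (.leaf (34, 29904967, false))))
(.node 2 (.node 1 (.leaf (195, 19085399, false)) (.leaf (196, 19085399, false))) (.node 1 (.leaf (39, 25385043, true)) (.leaf (198, 17059919, true)))))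
(.node 3 (.node 1 (.leaf (34, 4544593, true)) (.node 1 (.leaf (200, 17059919, true)) (.leaf (201, 17059919, true))))
(.node 2 (.node 1 (.leaf (200, 29904967, false)) (.leaf (203, 17059919, true))) (.node 1 (.leaf (204, 17043521, false)) (.leaf (39, 23928925, false))))))
(.node 7 (.node 3 (.node 1 (.leaf (206, 19085399, false)) (.node 1 (.leaf (207, 17059919, true)) (.leaf (208, 19085399, false))))
(.node 2 (.node 1 (.leaf (39, 13310023, false)) (.leaf (210, 19085399, true))) (.node 1 (.leaf (211, 25385043, true)) (.leaf (212, 4808797, true)))))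
(.node 3 (.node 1 (.leaf (206, 25385043, true)) (.node 1 (.leaf (214, 29904967, true)) (.leaf (215, 11495495, true))))
(.node 2 (.node 1 (.leaf (39, 32125001, false)) (.leaf (217, 19085399, false))) (.node 1 (.leaf (218, 19085399, false)) (.leaf (39, 29904967, true))))))))))

/-- The definitions. -/
def caseCFullDefsLLR : Tab (ℕ × ℕ × Bool) :=
(.node 111 (.node 55 (.node 27 (.node 13 (.node 6 (.node 3 (.node 1 (.leaf (220, 17059919, true)) (.node 1 (.leaf (221, 17059919, true)) (.leaf (220, 19085399, false)))) (.node 1 (.leaf (223, 10971209, true)) (.node 1 (.leaf (224, 13510735, false)) (.leaf (220, 4808797, false)))))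
(.node 3 (.node 1 (.leaf (226, 11495495, true)) (.node 1 (.leaf (227, 13510735, false)) (.leaf (50, 29904967, false))))
(.node 2 (.node 1 (.leaf (229, 19085399, false)) (.leaf (230, 11495495, true))) (.node 1 (.leaf (231, 27529303, false)) (.leaf (223, 19085399, false))))))
(.node 7 (.node 3 (.node 1 (.leaf (233, 17059919, true)) (.node 1 (.leaf (234, 19085399, false)) (.leaf (223, 19085399, true))))
(.node 2 (.node 1 (.leaf (236, 11495495, true)) (.leaf (237, 13310023, true))) (.node 1 (.leaf (223, 17059919, true)) (.leaf (239, 19085399, true)))))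
(.node 3 (.node 1 (.leaf (240, 25385043, true)) (.node 1 (.leaf (230, 19085399, false)) (.leaf (74, 19085399, false))))
(.node 2 (.node 1 (.leaf (71, 19085399, true)) (.leaf (244, 17059919, true))) (.node 1 (.leaf (50, 13310023, true)) (.leaf (246, 29904967, false)))))))
(.node 14 (.node 7 (.node 3 (.node 1 (.leaf (62, 10971209, false)) (.node 1 (.leaf (246, 4808797, false)) (.leaf (249, 11495495, true))))
(.node 2 (.node 1 (.leaf (250, 13510735, false)) (.leaf (71, 23928925, false))) (.node 1 (.leaf (248, 19085399, false)) (.leaf (253, 25385043, true)))))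
(.node 3 (.node 1 (.leaf (254, 29904967, false)) (.node 1 (.leaf (53, 4808797, false)) (.leaf (256, 19085399, false))))
(.node 2 (.node 1 (.leaf (257, 19085399, false)) (.leaf (53, 17059919, true))) (.node 1 (.leaf (259, 17059919, true)) (.leaf (260, 17059919, true))))))
(.node 7 (.node 3 (.node 1 (.leaf (53, 13310023, true)) (.node 1 (.leaf (262, 17059919, true)) (.leaf (263, 17059919, true))))
(.node 2 (.node 1 (.leaf (57, 6776923, false)) (.leaf (262, 17043521, false))) (.node 1 (.leaf (259, 27529303, false)) (.leaf (267, 19085399, true)))))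
(.node 3 (.node 1 (.leaf (268, 19085399, false)) (.node 1 (.leaf (266, 25385043, true)) (.leaf (270, 4808797, false))))
(.node 2 (.node 1 (.leaf (262, 13510735, false)) (.leaf (262, 27529303, false))) (.node 1 (.leaf (273, 19085399, false)) (.leaf (274, 25385043, true))))))))
(.node 28 (.node 14 (.node 7 (.node 3 (.node 1 (.leaf (275, 29904967, false)) (.node 1 (.leaf (266, 11495495, true)) (.leaf (277, 13310023, true))))
(.node 2 (.node 1 (.leaf (278, 31801425, true)) (.leaf (266, 10971209, true))) (.node 1 (.leaf (280, 32125001, true)) (.leaf (281, 32125001, true)))))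
(.node 3 (.node 1 (.leaf (57, 4808797, false)) (.node 1 (.leaf (283, 19085399, false)) (.leaf (284, 19085399, false))))
(.node 2 (.node 1 (.leaf (57, 13510735, true)) (.leaf (286, 17059919, true))) (.node 1 (.leaf (287, 17059919, true)) (.leaf (57, 25385043, true))))))
(.node 7 (.node 3 (.node 1 (.leaf (289, 17059919, true)) (.node 1 (.leaf (290, 17059919, true)) (.leaf (286, 17043521, false))))
(.node 2 (.node 1 (.leaf (71, 10971209, false)) (.leaf (293, 19085399, true))) (.node 1 (.leaf (294, 19085399, false)) (.leaf (53, 32125001, false)))))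
(.node 3 (.node 1 (.leaf (296, 17043521, true)) (.node 1 (.leaf (297, 17043521, false)) (.leaf (71, 7292999, false))))
(.node 2 (.node 1 (.leaf (292, 19085399, false)) (.leaf (300, 19085399, true))) (.node 1 (.leaf (301, 17043521, false)) (.leaf (57, 23928925, false)))))))
(.node 14 (.node 7 (.node 3 (.node 1 (.leaf (303, 19085399, true)) (.node 1 (.leaf (304, 19085399, true)) (.leaf (305, 11495495, true))))
(.node 2 (.node 1 (.leaf (57, 31801425, true)) (.leaf (307, 17043521, false))) (.node 1 (.leaf (308, 17059919, true)) (.leaf (309, 10971209, true)))))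
(.node 3 (.node 1 (.leaf (310, 13310023, true)) (.node 1 (.leaf (153, 19085399, false)) (.leaf (312, 19085399, false))))
(.node 2 (.node 1 (.leaf (60, 19085399, false)) (.leaf (314, 19085399, false))) (.node 1 (.leaf (315, 19085399, false)) (.leaf (60, 17059919, true))))))
(.node 7 (.node 3 (.node 1 (.leaf (317, 17059919, true)) (.node 1 (.leaf (318, 17059919, true)) (.leaf (60, 11495495, true))))
(.node 2 (.node 1 (.leaf (320, 17059919, true)) (.leaf (321, 17059919, true))) (.node 1 (.leaf (28, 13310023, false)) (.leaf (60, 29904967, false)))))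
(.node 3 (.node 1 (.leaf (324, 17043521, true)) (.node 1 (.leaf (325, 17043521, false)) (.leaf (60, 4544593, true))))
(.node 2 (.node 1 (.leaf (327, 17043521, false)) (.leaf (320, 29904967, false))) (.node 1 (.leaf (329, 19085399, false)) (.leaf (330, 11495495, true)))))))))
(.node 55 (.node 27 (.node 13 (.node 6 (.node 3 (.node 1 (.leaf (331, 27529303, false)) (.node 1 (.leaf (327, 27529303, false)) (.leaf (333, 19085399, false)))) (.node 1 (.leaf (334, 25385043, true)) (.node 1 (.leaf (335, 29904967, false)) (.leaf (328, 10971209, true)))))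
(.node 3 (.node 1 (.leaf (337, 32125001, true)) (.node 1 (.leaf (338, 32125001, true)) (.leaf (328, 17059919, true))))
(.node 2 (.node 1 (.leaf (340, 10971209, true)) (.leaf (341, 13310023, true))) (.node 1 (.leaf (253, 19085399, false)) (.leaf (62, 13510735, false))))))
(.node 7 (.node 3 (.node 1 (.leaf (344, 19085399, false)) (.node 1 (.leaf (345, 19085399, false)) (.leaf (62, 17059919, true))))
(.node 2 (.node 1 (.leaf (347, 17059919, true)) (.leaf (348, 17059919, true))) (.node 1 (.leaf (223, 25385043, true)) (.leaf (350, 17059919, true)))))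
(.node 3 (.node 1 (.leaf (223, 9056345, false)) (.node 1 (.leaf (352, 19085399, true)) (.leaf (353, 19085399, false))))
(.node 2 (.node 1 (.leaf (223, 13310023, false)) (.leaf (223, 6776923, false))) (.node 1 (.leaf (220, 19085399, true)) (.leaf (357, 19085399, false)))))))
(.node 14 (.node 7 (.node 3 (.node 1 (.leaf (347, 27529303, false)) (.node 1 (.leaf (359, 19085399, false)) (.leaf (360, 25385043, true))))
(.node 2 (.node 1 (.leaf (361, 29904967, false)) (.leaf (356, 19085399, true))) (.node 1 (.leaf (363, 11495495, true)) (.leaf (364, 13310023, true)))))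
(.node 3 (.node 1 (.leaf (248, 10971209, true)) (.node 1 (.leaf (252, 19085399, false)) (.leaf (367, 19085399, false))))
(.node 2 (.node 1 (.leaf (299, 19085399, false)) (.leaf (369, 19085399, false))) (.node 1 (.leaf (71, 10971209, true)) (.leaf (371, 17059919, true))))))
(.node 7 (.node 3 (.node 1 (.leaf (372, 17059919, true)) (.node 1 (.leaf (161, 6776923, false)) (.leaf (223, 29904967, false))))
(.node 2 (.node 1 (.leaf (375, 17043521, true)) (.leaf (376, 17043521, false))) (.node 1 (.leaf (299, 10971209, true)) (.leaf (378, 13510735, false)))))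
(.node 3 (.node 1 (.leaf (223, 4808797, false)) (.node 1 (.leaf (380, 19085399, false)) (.leaf (381, 17059919, true))))
(.node 2 (.node 1 (.leaf (382, 19085399, false)) (.leaf (83, 13510735, false))) (.node 1 (.leaf (384, 19085399, false)) (.leaf (385, 19085399, false))))))))
(.node 28 (.node 14 (.node 7 (.node 3 (.node 1 (.leaf (83, 6776923, false)) (.node 1 (.leaf (387, 19085399, false)) (.leaf (388, 19085399, false))))
(.node 2 (.node 1 (.leaf (83, 25385043, true)) (.leaf (390, 17059919, true))) (.node 1 (.leaf (391, 17059919, true)) (.leaf (83, 17043521, true)))))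
(.node 3 (.node 1 (.leaf (393, 17059919, true)) (.node 1 (.leaf (394, 17059919, true)) (.leaf (390, 4808797, false))))
(.node 2 (.node 1 (.leaf (390, 27529303, false)) (.leaf (83, 4544593, true))) (.node 1 (.leaf (398, 19085399, false)) (.leaf (399, 10971209, true))))))
(.node 7 (.node 3 (.node 1 (.leaf (400, 13510735, false)) (.node 1 (.leaf (398, 13510735, false)) (.leaf (83, 13510735, true))))
(.node 2 (.node 1 (.leaf (403, 29904967, false)) (.leaf (393, 13510735, false))) (.node 1 (.leaf (405, 19085399, false)) (.leaf (406, 10971209, true)))))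
(.node 3 (.node 1 (.leaf (407, 27529303, false)) (.node 1 (.leaf (404, 19085399, false)) (.leaf (409, 11495495, true))))
(.node 2 (.node 1 (.leaf (410, 27529303, false)) (.leaf (397, 11495495, true))) (.node 1 (.leaf (412, 13510735, true)) (.leaf (413, 10971209, true)))))))
(.node 14 (.node 7 (.node 3 (.node 1 (.leaf (404, 10971209, true)) (.node 1 (.leaf (415, 13510735, true)) (.leaf (416, 10971209, true))))
(.node 2 (.node 1 (.leaf (84, 9056345, false)) (.leaf (418, 19085399, false))) (.node 1 (.leaf (419, 19085399, false)) (.leaf (84, 10971209, true)))))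
(.node 3 (.node 1 (.leaf (421, 17059919, true)) (.node 1 (.leaf (422, 17059919, true)) (.leaf (84, 32125001, true))))
(.node 2 (.node 1 (.leaf (424, 17059919, true)) (.leaf (425, 17059919, true))) (.node 1 (.leaf (84, 25385043, true)) (.leaf (427, 13510735, false))))))
(.node 7 (.node 3 (.node 1 (.leaf (424, 13510735, false)) (.node 1 (.leaf (84, 32131155, true)) (.leaf (430, 19085399, false))))
(.node 2 (.node 1 (.leaf (431, 10971209, true)) (.leaf (432, 13510735, false))) (.node 1 (.leaf (422, 4808797, false)) (.leaf (434, 10971209, true)))))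
(.node 3 (.node 1 (.leaf (435, 13510735, false)) (.node 1 (.leaf (430, 29904967, false)) (.leaf (437, 19085399, false))))
(.node 2 (.node 1 (.leaf (438, 11495495, true)) (.leaf (439, 27529303, false))) (.node 1 (.leaf (429, 19085399, false)) (.leaf (441, 10971209, true))))))))))

/-- The definitions. -/
def caseCFullDefsLL : Tab (ℕ × ℕ × Bool) := .node 221 caseCFullDefsLLL caseCFullDefsLLR

/-- The definitions. -/
def caseCFullDefsLRL : Tab (ℕ × ℕ × Bool) :=
(.node 111 (.node 55 (.node 27 (.node 13 (.node 6 (.node 3 (.node 1 (.leaf (442, 27529303, false)) (.node 1 (.leaf (428, 25385043, true)) (.leaf (444, 4544593, true)))) (.node 1 (.leaf (445, 32125001, true)) (.node 1 (.leaf (422, 27529303, false)) (.leaf (447, 17043521, true)))))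
(.node 3 (.node 1 (.leaf (448, 10971209, true)) (.node 1 (.leaf (449, 13310023, true)) (.leaf (86, 23928925, false))))
(.node 2 (.node 1 (.leaf (451, 19085399, false)) (.leaf (452, 19085399, false))) (.node 1 (.leaf (93, 10971209, true)) (.leaf (454, 17059919, true))))))
(.node 7 (.node 3 (.node 1 (.leaf (86, 25385043, true)) (.node 1 (.leaf (456, 17059919, true)) (.leaf (457, 17059919, true))))
(.node 2 (.node 1 (.leaf (93, 32125001, false)) (.leaf (93, 10971209, false))) (.node 1 (.leaf (460, 19085399, true)) (.leaf (461, 19085399, false)))))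
(.node 3 (.node 1 (.leaf (456, 4808797, false)) (.node 1 (.leaf (463, 11495495, true)) (.leaf (464, 13510735, false))))
(.node 2 (.node 1 (.leaf (86, 29904967, true)) (.leaf (466, 4808797, false))) (.node 1 (.leaf (466, 27529303, false)) (.leaf (93, 31801425, false)))))))
(.node 14 (.node 7 (.node 3 (.node 1 (.leaf (467, 19085399, false)) (.node 1 (.leaf (470, 17043521, true)) (.leaf (471, 19085399, false))))
(.node 2 (.node 1 (.leaf (92, 23928925, false)) (.leaf (473, 19085399, false))) (.node 1 (.leaf (474, 17043521, true)) (.leaf (475, 19085399, false)))))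
(.node 3 (.node 1 (.leaf (468, 17059919, true)) (.node 1 (.leaf (477, 25385043, true)) (.leaf (478, 4544593, true))))
(.node 2 (.node 1 (.leaf (467, 17043521, true)) (.leaf (480, 19085399, true))) (.node 1 (.leaf (481, 25385043, true)) (.leaf (89, 7292999, false))))))
(.node 7 (.node 3 (.node 1 (.leaf (483, 19085399, false)) (.node 1 (.leaf (484, 19085399, false)) (.leaf (89, 9056345, false))))
(.node 2 (.node 1 (.leaf (486, 19085399, false)) (.leaf (487, 19085399, false))) (.node 1 (.leaf (99, 10971209, true)) (.leaf (489, 17059919, true)))))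
(.node 3 (.node 1 (.leaf (89, 4808797, true)) (.node 1 (.leaf (491, 17059919, true)) (.leaf (492, 17059919, true))))
(.node 2 (.node 1 (.leaf (99, 31801425, false)) (.leaf (492, 4808797, false))) (.node 1 (.leaf (495, 10971209, true)) (.leaf (496, 13510735, false))))))))
(.node 28 (.node 14 (.node 7 (.node 3 (.node 1 (.leaf (137, 19085399, true)) (.node 1 (.leaf (498, 17043521, false)) (.leaf (89, 29904967, true))))
(.node 2 (.node 1 (.leaf (500, 13510735, false)) (.leaf (495, 19085399, false))) (.node 1 (.leaf (502, 17059919, true)) (.leaf (503, 19085399, false)))))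
(.node 3 (.node 1 (.leaf (89, 29904967, false)) (.node 1 (.leaf (505, 11495495, true)) (.leaf (506, 32131155, true))))
(.node 2 (.node 1 (.leaf (507, 32131155, true)) (.leaf (92, 4808797, false))) (.node 1 (.leaf (509, 19085399, false)) (.leaf (510, 19085399, false))))))
(.node 7 (.node 3 (.node 1 (.leaf (92, 19085399, false)) (.node 1 (.leaf (99, 19085399, true)) (.leaf (513, 17059919, true))))
(.node 2 (.node 1 (.leaf (92, 13310023, true)) (.leaf (515, 17059919, true))) (.node 1 (.leaf (516, 17059919, true)) (.leaf (477, 17043521, false)))))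
(.node 3 (.node 1 (.leaf (513, 27529303, false)) (.node 1 (.leaf (519, 25385043, true)) (.leaf (520, 4808797, false))))
(.node 2 (.node 1 (.leaf (99, 13310023, false)) (.leaf (522, 17059919, true))) (.node 1 (.leaf (523, 17043521, false)) (.leaf (477, 23928925, false)))))))
(.node 14 (.node 7 (.node 3 (.node 1 (.leaf (477, 13310023, false)) (.node 1 (.leaf (99, 9056345, false)) (.leaf (527, 19085399, false))))
(.node 2 (.node 1 (.leaf (528, 19085399, true)) (.leaf (529, 17043521, false))) (.node 1 (.leaf (515, 27529303, false)) (.leaf (531, 19085399, false)))))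
(.node 3 (.node 1 (.leaf (532, 25385043, true)) (.node 1 (.leaf (533, 29904967, false)) (.leaf (519, 11495495, true))))
(.node 2 (.node 1 (.leaf (535, 13310023, true)) (.leaf (536, 31801425, true))) (.node 1 (.leaf (513, 13510735, false)) (.leaf (538, 19085399, true))))))
(.node 7 (.node 3 (.node 1 (.leaf (539, 10971209, true)) (.node 1 (.leaf (540, 32131155, true)) (.leaf (93, 7292999, false))))
(.node 2 (.node 1 (.leaf (542, 19085399, false)) (.leaf (543, 19085399, false))) (.node 1 (.leaf (99, 17059919, true)) (.leaf (545, 17059919, true)))))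
(.node 3 (.node 1 (.leaf (99, 13510735, false)) (.node 1 (.leaf (93, 29904967, true)) (.leaf (548, 19085399, false))))
(.node 2 (.node 1 (.leaf (460, 25385043, true)) (.leaf (550, 4808797, false))) (.node 1 (.leaf (93, 31801425, true)) (.leaf (552, 13510735, false)))))))))
(.node 55 (.node 27 (.node 13 (.node 6 (.node 3 (.node 1 (.leaf (548, 17043521, false)) (.node 1 (.leaf (99, 4808797, false)) (.leaf (555, 19085399, false)))) (.node 1 (.leaf (556, 17043521, true)) (.node 1 (.leaf (557, 19085399, false)) (.leaf (548, 13510735, false)))))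
(.node 3 (.node 1 (.leaf (559, 19085399, false)) (.node 1 (.leaf (560, 10971209, true)) (.leaf (561, 27529303, false))))
(.node 2 (.node 1 (.leaf (555, 19085399, true)) (.leaf (563, 19085399, true))) (.node 1 (.leaf (564, 11495495, true)) (.leaf (553, 10971209, true))))))
(.node 7 (.node 3 (.node 1 (.leaf (566, 13310023, true)) (.node 1 (.leaf (567, 31801425, true)) (.leaf (556, 19085399, false))))
(.node 2 (.node 1 (.leaf (99, 29904967, true)) (.leaf (570, 17043521, false))) (.node 1 (.leaf (570, 19085399, false)) (.leaf (555, 10971209, true)))))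
(.node 3 (.node 1 (.leaf (573, 13510735, false)) (.node 1 (.leaf (99, 4544593, true)) (.leaf (575, 4808797, false))))
(.node 2 (.node 1 (.leaf (576, 11495495, true)) (.leaf (577, 13510735, false))) (.node 1 (.leaf (570, 4808797, false)) (.leaf (575, 13510735, false)))))))
(.node 14 (.node 7 (.node 3 (.node 1 (.leaf (580, 19085399, false)) (.node 1 (.leaf (581, 10971209, true)) (.leaf (582, 27529303, false))))
(.node 2 (.node 1 (.leaf (494, 19085399, false)) (.leaf (584, 10971209, true))) (.node 1 (.leaf (585, 27529303, false)) (.leaf (571, 11495495, true)))))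
(.node 3 (.node 1 (.leaf (587, 13310023, true)) (.node 1 (.leaf (588, 31801425, true)) (.leaf (99, 32131155, true))))
(.node 2 (.node 1 (.leaf (590, 4808797, false)) (.leaf (591, 19085399, true))) (.node 1 (.leaf (592, 19085399, true)) (.leaf (593, 11495495, true))))))
(.node 7 (.node 3 (.node 1 (.leaf (105, 9056345, false)) (.node 1 (.leaf (595, 19085399, false)) (.leaf (596, 19085399, false))))
(.node 2 (.node 1 (.leaf (105, 23928925, false)) (.leaf (598, 19085399, false))) (.node 1 (.leaf (599, 19085399, false)) (.leaf (105, 4808797, true)))))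
(.node 3 (.node 1 (.leaf (601, 17059919, true)) (.node 1 (.leaf (602, 17059919, true)) (.leaf (117, 17059919, true))))
(.node 2 (.node 1 (.leaf (604, 17059919, true)) (.leaf (117, 27529303, false))) (.node 1 (.leaf (601, 19085399, false)) (.leaf (601, 13510735, false))))))))
(.node 28 (.node 14 (.node 7 (.node 3 (.node 1 (.leaf (608, 17043521, true)) (.node 1 (.leaf (609, 17043521, false)) (.leaf (607, 10971209, true))))
(.node 2 (.node 1 (.leaf (611, 13510735, false)) (.leaf (117, 19085399, false))) (.node 1 (.leaf (117, 29904967, false)) (.leaf (607, 19085399, false)))))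
(.node 3 (.node 1 (.leaf (615, 17059919, true)) (.node 1 (.leaf (616, 19085399, false)) (.leaf (606, 19085399, false))))
(.node 2 (.node 1 (.leaf (618, 25385043, true)) (.leaf (619, 29904967, false))) (.node 1 (.leaf (113, 11495495, true)) (.leaf (113, 29904967, false))))))
(.node 7 (.node 3 (.node 1 (.leaf (622, 19085399, false)) (.node 1 (.leaf (623, 19085399, false)) (.leaf (113, 6776923, false))))
(.node 2 (.node 1 (.leaf (625, 19085399, false)) (.leaf (626, 19085399, false))) (.node 1 (.leaf (113, 13310023, true)) (.leaf (628, 17059919, true)))))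
(.node 3 (.node 1 (.leaf (629, 17059919, true)) (.node 1 (.leaf (113, 13510735, true)) (.leaf (631, 27529303, false))))
(.node 2 (.node 1 (.leaf (113, 32131155, true)) (.leaf (633, 4808797, false))) (.node 1 (.leaf (628, 4808797, false)) (.leaf (635, 11495495, true)))))))
(.node 14 (.node 7 (.node 3 (.node 1 (.leaf (636, 13510735, false)) (.node 1 (.leaf (120, 13510735, false)) (.leaf (638, 17043521, true))))
(.node 2 (.node 1 (.leaf (639, 17043521, false)) (.leaf (628, 17043521, false))) (.node 1 (.leaf (113, 31801425, true)) (.leaf (642, 27529303, false)))))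
(.node 3 (.node 1 (.leaf (643, 19085399, false)) (.node 1 (.leaf (644, 25385043, true)) (.leaf (645, 29904967, false))))
(.node 2 (.node 1 (.leaf (641, 19085399, false)) (.leaf (647, 19085399, true))) (.node 1 (.leaf (648, 17043521, false)) (.leaf (631, 4808797, false))))))
(.node 7 (.node 3 (.node 1 (.leaf (650, 17043521, true)) (.node 1 (.leaf (651, 19085399, true)) (.leaf (652, 25385043, true))))
(.node 2 (.node 1 (.leaf (628, 29904967, false)) (.leaf (654, 25385043, true))) (.node 1 (.leaf (655, 31801425, true)) (.leaf (656, 13310023, true)))))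
(.node 3 (.node 1 (.leaf (145, 13510735, false)) (.node 1 (.leaf (120, 29904967, false)) (.leaf (659, 19085399, false))))
(.node 2 (.node 1 (.leaf (660, 19085399, false)) (.leaf (188, 17043521, true))) (.node 1 (.leaf (662, 17059919, true)) (.leaf (120, 32125001, true))))))))))

/-- The definitions. -/
def caseCFullDefsLRR : Tab (ℕ × ℕ × Bool) :=
(.node 111 (.node 55 (.node 27 (.node 13 (.node 6 (.node 3 (.node 1 (.leaf (664, 17043521, false)) (.node 1 (.leaf (188, 19085399, false)) (.leaf (666, 11495495, true)))) (.node 1 (.leaf (667, 13510735, false)) (.node 1 (.leaf (660, 10971209, true)) (.leaf (669, 27529303, false)))))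
(.node 3 (.node 1 (.leaf (664, 4808797, false)) (.node 1 (.leaf (664, 29904967, false)) (.leaf (120, 27529303, false))))
(.node 2 (.node 1 (.leaf (188, 13510735, false)) (.leaf (120, 4544593, true))) (.node 1 (.leaf (675, 29904967, false)) (.leaf (676, 19085399, true))))))
(.node 7 (.node 3 (.node 1 (.leaf (677, 10971209, true)) (.node 1 (.leaf (678, 32131155, true)) (.leaf (123, 13310023, false))))
(.node 2 (.node 1 (.leaf (680, 19085399, false)) (.leaf (681, 19085399, false))) (.node 1 (.leaf (123, 4544593, true)) (.leaf (683, 17059919, true)))))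
(.node 3 (.node 1 (.leaf (684, 17059919, true)) (.node 1 (.leaf (123, 4808797, true)) (.leaf (686, 19085399, false))))
(.node 2 (.node 1 (.leaf (134, 13310023, false)) (.leaf (688, 17043521, true))) (.node 1 (.leaf (689, 17043521, false)) (.leaf (129, 32125001, false)))))))
(.node 14 (.node 7 (.node 3 (.node 1 (.leaf (691, 17059919, true)) (.node 1 (.leaf (692, 17043521, false)) (.leaf (134, 23928925, false))))
(.node 2 (.node 1 (.leaf (123, 32131155, true)) (.leaf (695, 17043521, false))) (.node 1 (.leaf (129, 7292999, false)) (.leaf (683, 17043521, false)))))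
(.node 3 (.node 1 (.leaf (698, 19085399, false)) (.node 1 (.leaf (699, 19085399, true)) (.leaf (700, 17043521, false))))
(.node 2 (.node 1 (.leaf (697, 19085399, false)) (.leaf (702, 17059919, true))) (.node 1 (.leaf (703, 19085399, false)) (.leaf (683, 29904967, false))))))
(.node 7 (.node 3 (.node 1 (.leaf (705, 19085399, true)) (.node 1 (.leaf (706, 10971209, true)) (.leaf (707, 32131155, true))))
(.node 2 (.node 1 (.leaf (129, 31801425, false)) (.leaf (709, 19085399, true))) (.node 1 (.leaf (710, 25385043, true)) (.leaf (711, 4808797, true)))))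
(.node 3 (.node 1 (.leaf (129, 19085399, false)) (.node 1 (.leaf (713, 19085399, false)) (.leaf (126, 13510735, true))))
(.node 2 (.node 1 (.leaf (715, 17059919, true)) (.leaf (716, 17059919, true))) (.node 1 (.leaf (126, 29904967, true)) (.leaf (718, 17059919, true))))))))
(.node 28 (.node 14 (.node 7 (.node 3 (.node 1 (.leaf (719, 17059919, true)) (.node 1 (.leaf (716, 19085399, false)) (.leaf (145, 31801425, false))))
(.node 2 (.node 1 (.leaf (716, 27529303, false)) (.leaf (723, 25385043, true))) (.node 1 (.leaf (724, 4808797, false)) (.leaf (188, 31801425, false)))))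
(.node 3 (.node 1 (.leaf (726, 17043521, true)) (.node 1 (.leaf (727, 17043521, false)) (.leaf (715, 19085399, false))))
(.node 2 (.node 1 (.leaf (715, 13510735, false)) (.leaf (655, 7292999, false))) (.node 1 (.leaf (145, 32125001, true)) (.leaf (732, 27529303, false))))))
(.node 7 (.node 3 (.node 1 (.leaf (726, 11495495, true)) (.node 1 (.leaf (734, 32131155, true)) (.leaf (735, 32131155, true))))
(.node 2 (.node 1 (.leaf (145, 6776923, false)) (.leaf (737, 10971209, true))) (.node 1 (.leaf (738, 32131155, true)) (.leaf (739, 32131155, true)))))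
(.node 3 (.node 1 (.leaf (129, 27529303, false)) (.node 1 (.leaf (741, 19085399, false)) (.leaf (742, 19085399, false))))
(.node 2 (.node 1 (.leaf (129, 29904967, false)) (.leaf (744, 19085399, false))) (.node 1 (.leaf (745, 19085399, false)) (.leaf (129, 11495495, true)))))))
(.node 14 (.node 7 (.node 3 (.node 1 (.leaf (747, 17059919, true)) (.node 1 (.leaf (748, 17059919, true)) (.leaf (129, 4808797, true))))
(.node 2 (.node 1 (.leaf (750, 17059919, true)) (.leaf (751, 17059919, true))) (.node 1 (.leaf (129, 29904967, true)) (.leaf (753, 4808797, false)))))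
(.node 3 (.node 1 (.leaf (753, 27529303, false)) (.node 1 (.leaf (660, 17043521, true)) (.leaf (756, 19085399, false))))
(.node 2 (.node 1 (.leaf (750, 29904967, false)) (.leaf (129, 10971209, false))) (.node 1 (.leaf (758, 19085399, false)) (.leaf (760, 11495495, true))))))
(.node 7 (.node 3 (.node 1 (.leaf (761, 27529303, false)) (.node 1 (.leaf (751, 4808797, false)) (.leaf (763, 17043521, true))))
(.node 2 (.node 1 (.leaf (764, 11495495, true)) (.leaf (765, 32131155, true))) (.node 1 (.leaf (750, 13510735, false)) (.leaf (767, 25385043, true)))))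
(.node 3 (.node 1 (.leaf (768, 4544593, true)) (.node 1 (.leaf (769, 32125001, true)) (.leaf (131, 19085399, false))))
(.node 2 (.node 1 (.leaf (771, 19085399, false)) (.leaf (130, 25385043, true))) (.node 1 (.leaf (773, 17059919, true)) (.leaf (774, 17059919, true)))))))))
(.node 55 (.node 27 (.node 13 (.node 6 (.node 3 (.node 1 (.leaf (130, 32125001, true)) (.node 1 (.leaf (776, 17059919, true)) (.leaf (777, 17059919, true)))) (.node 1 (.leaf (774, 4808797, false)) (.node 1 (.leaf (776, 29904967, false)) (.leaf (776, 13510735, false)))))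
(.node 3 (.node 1 (.leaf (781, 17043521, true)) (.node 1 (.leaf (782, 17043521, false)) (.leaf (780, 17059919, true))))
(.node 2 (.node 1 (.leaf (784, 17043521, false)) (.leaf (780, 19085399, false))) (.node 1 (.leaf (786, 11495495, true)) (.leaf (787, 27529303, false))))))
(.node 7 (.node 3 (.node 1 (.leaf (162, 13510735, true)) (.node 1 (.leaf (779, 17059919, true)) (.leaf (790, 19085399, true))))
(.node 2 (.node 1 (.leaf (791, 25385043, true)) (.leaf (131, 10971209, false))) (.node 1 (.leaf (793, 19085399, false)) (.leaf (794, 19085399, false)))))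
(.node 3 (.node 1 (.leaf (131, 4544593, true)) (.node 1 (.leaf (796, 17059919, true)) (.leaf (797, 17059919, true))))
(.node 2 (.node 1 (.leaf (131, 32131155, true)) (.leaf (799, 17043521, false))) (.node 1 (.leaf (799, 19085399, false)) (.leaf (801, 10971209, true)))))))
(.node 14 (.node 7 (.node 3 (.node 1 (.leaf (802, 13510735, false)) (.node 1 (.leaf (131, 17059919, true)) (.leaf (804, 27529303, false))))
(.node 2 (.node 1 (.leaf (805, 19085399, true)) (.leaf (806, 19085399, false))) (.node 1 (.leaf (781, 29904967, false)) (.leaf (796, 29904967, false)))))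
(.node 3 (.node 1 (.leaf (799, 13510735, false)) (.node 1 (.leaf (796, 13510735, false)) (.leaf (811, 19085399, false))))
(.node 2 (.node 1 (.leaf (812, 10971209, true)) (.leaf (813, 27529303, false))) (.node 1 (.leaf (808, 25385043, true)) (.leaf (815, 31801425, true))))))
(.node 7 (.node 3 (.node 1 (.leaf (816, 13310023, true)) (.node 1 (.leaf (801, 17043521, true)) (.leaf (818, 11495495, true))))
(.node 2 (.node 1 (.leaf (819, 32131155, true)) (.leaf (134, 6776923, false))) (.node 1 (.leaf (821, 19085399, false)) (.leaf (822, 19085399, false)))))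
(.node 3 (.node 1 (.leaf (144, 19085399, true)) (.node 1 (.leaf (824, 17059919, true)) (.leaf (134, 4808797, true))))
(.node 2 (.node 1 (.leaf (826, 17059919, true)) (.leaf (827, 17059919, true))) (.node 1 (.leaf (134, 10971209, true)) (.leaf (829, 27529303, false))))))))
(.node 28 (.node 14 (.node 7 (.node 3 (.node 1 (.leaf (134, 32125001, true)) (.node 1 (.leaf (831, 4808797, false)) (.leaf (829, 13510735, false))))
(.node 2 (.node 1 (.leaf (833, 17043521, true)) (.leaf (834, 17043521, false))) (.node 1 (.leaf (188, 6776923, false)) (.leaf (836, 10971209, true)))))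
(.node 3 (.node 1 (.leaf (837, 13510735, false)) (.node 1 (.leaf (188, 13310023, false)) (.leaf (134, 4544593, true))))
(.node 2 (.node 1 (.leaf (840, 17043521, false)) (.leaf (827, 19085399, false))) (.node 1 (.leaf (144, 13310023, false)) (.leaf (831, 17043521, false))))))
(.node 7 (.node 3 (.node 1 (.leaf (844, 17059919, true)) (.node 1 (.leaf (845, 10971209, true)) (.leaf (846, 13310023, true))))
(.node 2 (.node 1 (.leaf (836, 19085399, true)) (.leaf (848, 11495495, true))) (.node 1 (.leaf (849, 13310023, true)) (.leaf (144, 7292999, false)))))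
(.node 3 (.node 1 (.leaf (851, 19085399, false)) (.node 1 (.leaf (852, 19085399, false)) (.leaf (144, 32125001, true))))
(.node 2 (.node 1 (.leaf (854, 17059919, true)) (.leaf (855, 17059919, true))) (.node 1 (.leaf (144, 29904967, true)) (.leaf (857, 17059919, true)))))))
(.node 14 (.node 7 (.node 3 (.node 1 (.leaf (858, 17059919, true)) (.node 1 (.leaf (145, 29904967, false)) (.leaf (145, 17043521, false))))
(.node 2 (.node 1 (.leaf (861, 25385043, true)) (.leaf (862, 4808797, false))) (.node 1 (.leaf (145, 4808797, false)) (.leaf (864, 11495495, true)))))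
(.node 3 (.node 1 (.leaf (865, 13510735, false)) (.node 1 (.leaf (857, 27529303, false)) (.leaf (145, 19085399, false))))
(.node 2 (.node 1 (.leaf (868, 19085399, false)) (.leaf (869, 17059919, true))) (.node 1 (.leaf (870, 19085399, false)) (.leaf (867, 19085399, false))))))
(.node 7 (.node 3 (.node 1 (.leaf (872, 25385043, true)) (.node 1 (.leaf (873, 29904967, false)) (.leaf (854, 4808797, false))))
(.node 2 (.node 1 (.leaf (875, 17043521, true)) (.leaf (876, 19085399, true))) (.node 1 (.leaf (877, 25385043, true)) (.leaf (861, 11495495, true)))))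
(.node 3 (.node 1 (.leaf (879, 13310023, true)) (.node 1 (.leaf (880, 31801425, true)) (.leaf (145, 10971209, false))))
(.node 2 (.node 1 (.leaf (882, 19085399, false)) (.leaf (883, 19085399, false))) (.node 1 (.leaf (145, 7292999, false)) (.leaf (885, 19085399, false))))))))))

/-- The definitions. -/
def caseCFullDefsLR : Tab (ℕ × ℕ × Bool) := .node 222 caseCFullDefsLRL caseCFullDefsLRR

/-- The definitions. -/
def caseCFullDefsL : Tab (ℕ × ℕ × Bool) := .node 443 caseCFullDefsLL caseCFullDefsLR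

/-- The definitions. -/
def caseCFullDefsRLL : Tab (ℕ × ℕ × Bool) :=
(.node 111 (.node 55 (.node 27 (.node 13 (.node 6 (.node 3 (.node 1 (.leaf (886, 19085399, false)) (.node 1 (.leaf (223, 17043521, true)) (.leaf (145, 4808797, true)))) (.node 1 (.leaf (889, 17059919, true)) (.node 1 (.leaf (890, 17059919, true)) (.leaf (145, 11495495, true)))))
(.node 3 (.node 1 (.leaf (892, 29904967, false)) (.node 1 (.leaf (188, 10971209, false)) (.leaf (894, 19085399, true))))
(.node 2 (.node 1 (.leaf (895, 19085399, false)) (.leaf (145, 29904967, true))) (.node 1 (.leaf (897, 4808797, false)) (.leaf (889, 17043521, false))))))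
(.node 7 (.node 3 (.node 1 (.leaf (897, 17043521, false)) (.node 1 (.leaf (900, 19085399, false)) (.leaf (901, 19085399, true))))
(.node 2 (.node 1 (.leaf (902, 17043521, false)) (.leaf (145, 17059919, true))) (.node 1 (.leaf (904, 13510735, false)) (.leaf (905, 11495495, true)))))
(.node 3 (.node 1 (.leaf (906, 32131155, true)) (.node 1 (.leaf (907, 32131155, true)) (.leaf (734, 7292999, false))))
(.node 2 (.node 1 (.leaf (909, 10971209, true)) (.leaf (910, 32131155, true))) (.node 1 (.leaf (911, 32131155, true)) (.leaf (153, 13510735, false)))))))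
(.node 14 (.node 7 (.node 3 (.node 1 (.leaf (913, 19085399, false)) (.node 1 (.leaf (914, 19085399, false)) (.leaf (153, 13310023, true))))
(.node 2 (.node 1 (.leaf (916, 17059919, true)) (.leaf (917, 17059919, true))) (.node 1 (.leaf (153, 10971209, true)) (.leaf (919, 19085399, false)))))
(.node 3 (.node 1 (.leaf (916, 13510735, false)) (.node 1 (.leaf (916, 29904967, false)) (.leaf (922, 17059919, true))))
(.node 2 (.node 1 (.leaf (923, 17043521, false)) (.leaf (916, 4808797, false))) (.node 1 (.leaf (925, 11495495, true)) (.leaf (926, 13510735, false))))))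
(.node 7 (.node 3 (.node 1 (.leaf (919, 29904967, false)) (.node 1 (.leaf (916, 27529303, false)) (.leaf (153, 17059919, true))))
(.node 2 (.node 1 (.leaf (930, 17043521, false)) (.leaf (916, 17043521, false))) (.node 1 (.leaf (932, 19085399, false)) (.leaf (933, 19085399, true)))))
(.node 3 (.node 1 (.leaf (934, 17043521, false)) (.node 1 (.leaf (930, 4808797, false)) (.leaf (936, 19085399, false))))
(.node 2 (.node 1 (.leaf (937, 17043521, true)) (.leaf (938, 19085399, false))) (.node 1 (.leaf (330, 32125001, false)) (.leaf (940, 10971209, true))))))))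
(.node 28 (.node 14 (.node 7 (.node 3 (.node 1 (.leaf (941, 13310023, true)) (.node 1 (.leaf (942, 31801425, true)) (.leaf (929, 17043521, true))))
(.node 2 (.node 1 (.leaf (944, 25385043, true)) (.leaf (945, 4544593, true))) (.node 1 (.leaf (162, 31801425, false)) (.leaf (947, 19085399, false)))))
(.node 3 (.node 1 (.leaf (948, 19085399, false)) (.node 1 (.leaf (162, 31801425, true)) (.leaf (950, 17059919, true))))
(.node 2 (.node 1 (.leaf (951, 17059919, true)) (.leaf (950, 4808797, false))) (.node 1 (.leaf (953, 11495495, true)) (.leaf (954, 13510735, false))))))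
(.node 7 (.node 3 (.node 1 (.leaf (950, 13510735, false)) (.node 1 (.leaf (956, 17043521, true)) (.leaf (957, 17043521, false))))
(.node 2 (.node 1 (.leaf (950, 27529303, false)) (.leaf (162, 13310023, true))) (.node 1 (.leaf (960, 27529303, false)) (.leaf (162, 17059919, true)))))
(.node 3 (.node 1 (.leaf (962, 17043521, false)) (.node 1 (.leaf (323, 19085399, false)) (.leaf (964, 17059919, true))))
(.node 2 (.node 1 (.leaf (965, 19085399, false)) (.leaf (953, 19085399, false))) (.node 1 (.leaf (967, 17043521, true)) (.leaf (968, 19085399, false)))))))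
(.node 14 (.node 7 (.node 3 (.node 1 (.leaf (959, 10971209, true)) (.node 1 (.leaf (970, 32131155, true)) (.leaf (971, 32131155, true))))
(.node 2 (.node 1 (.leaf (665, 29904967, false)) (.leaf (973, 25385043, true))) (.node 1 (.leaf (974, 4544593, true)) (.leaf (975, 32125001, true)))))
(.node 3 (.node 1 (.leaf (163, 19085399, false)) (.node 1 (.leaf (977, 19085399, false)) (.leaf (978, 19085399, false))))
(.node 2 (.node 1 (.leaf (163, 13510735, false)) (.leaf (980, 19085399, false))) (.node 1 (.leaf (981, 19085399, false)) (.leaf (163, 13510735, true))))))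
(.node 7 (.node 3 (.node 1 (.leaf (983, 17059919, true)) (.node 1 (.leaf (984, 17059919, true)) (.leaf (163, 11495495, true))))
(.node 2 (.node 1 (.leaf (986, 4808797, false)) (.leaf (983, 29904967, false))) (.node 1 (.leaf (163, 25385043, true)) (.leaf (989, 27529303, false)))))
(.node 3 (.node 1 (.leaf (990, 19085399, true)) (.node 1 (.leaf (991, 19085399, false)) (.leaf (983, 17043521, false))))
(.node 2 (.node 1 (.leaf (993, 25385043, true)) (.leaf (994, 4808797, false))) (.node 1 (.leaf (983, 27529303, false)) (.leaf (163, 10971209, true)))))))))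
(.node 55 (.node 27 (.node 13 (.node 6 (.node 3 (.node 1 (.leaf (997, 27529303, false)) (.node 1 (.leaf (989, 4808797, false)) (.leaf (999, 19085399, false)))) (.node 1 (.leaf (1000, 17043521, true)) (.node 1 (.leaf (1001, 19085399, false)) (.leaf (988, 19085399, false)))))
(.node 3 (.node 1 (.leaf (1003, 11495495, true)) (.node 1 (.leaf (1004, 27529303, false)) (.leaf (993, 10971209, true))))
(.node 2 (.node 1 (.leaf (1006, 32125001, true)) (.leaf (1007, 32125001, true))) (.node 1 (.leaf (163, 19085399, true)) (.leaf (1009, 13510735, false))))))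
(.node 7 (.node 3 (.node 1 (.leaf (1010, 25385043, true)) (.node 1 (.leaf (1011, 4544593, true)) (.leaf (1012, 32125001, true))))
(.node 2 (.node 1 (.leaf (188, 4808797, false)) (.leaf (1014, 19085399, false))) (.node 1 (.leaf (1015, 19085399, false)) (.leaf (726, 19085399, false)))))
(.node 3 (.node 1 (.leaf (1017, 19085399, false)) (.node 1 (.leaf (188, 4808797, true)) (.leaf (1019, 17059919, true))))
(.node 2 (.node 1 (.leaf (1020, 17059919, true)) (.leaf (1020, 19085399, false))) (.node 1 (.leaf (1020, 27529303, false)) (.leaf (1023, 25385043, true)))))))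
(.node 14 (.node 7 (.node 3 (.node 1 (.leaf (1024, 4808797, false)) (.node 1 (.leaf (845, 17043521, false)) (.leaf (1026, 10971209, true))))
(.node 2 (.node 1 (.leaf (1027, 13510735, false)) (.leaf (188, 25385043, true))) (.node 1 (.leaf (1029, 17043521, false)) (.leaf (1029, 4808797, false)))))
(.node 3 (.node 1 (.leaf (1029, 27529303, false)) (.node 1 (.leaf (188, 29904967, true)) (.leaf (1033, 4808797, false))))
(.node 2 (.node 1 (.leaf (1034, 19085399, false)) (.leaf (1035, 17043521, true))) (.node 1 (.leaf (1036, 19085399, false)) (.leaf (1029, 29904967, false))))))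
(.node 7 (.node 3 (.node 1 (.leaf (1038, 19085399, false)) (.node 1 (.leaf (1039, 11495495, true)) (.leaf (1040, 27529303, false))))
(.node 2 (.node 1 (.leaf (845, 32125001, false)) (.leaf (1042, 19085399, true))) (.node 1 (.leaf (1043, 10971209, true)) (.leaf (1044, 32131155, true)))))
(.node 3 (.node 1 (.leaf (741, 17043521, true)) (.node 1 (.leaf (1046, 25385043, true)) (.leaf (1047, 4544593, true))))
(.node 2 (.node 1 (.leaf (195, 31801425, false)) (.leaf (1049, 19085399, false))) (.node 1 (.leaf (1050, 19085399, false)) (.leaf (195, 17059919, true))))))))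
(.node 28 (.node 14 (.node 7 (.node 3 (.node 1 (.leaf (1052, 17059919, true)) (.node 1 (.leaf (1053, 17059919, true)) (.leaf (195, 13510735, true))))
(.node 2 (.node 1 (.leaf (1055, 17059919, true)) (.leaf (1056, 17059919, true))) (.node 1 (.leaf (1055, 19085399, false)) (.leaf (203, 4808797, false)))))
(.node 3 (.node 1 (.leaf (195, 29904967, true)) (.node 1 (.leaf (1060, 17043521, false)) (.leaf (1061, 25385043, true))))
(.node 2 (.node 1 (.leaf (1062, 4808797, false)) (.leaf (1060, 29904967, false))) (.node 1 (.leaf (1064, 17059919, true)) (.leaf (1065, 17043521, false))))))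
(.node 7 (.node 3 (.node 1 (.leaf (1052, 4808797, false)) (.node 1 (.leaf (1055, 29904967, false)) (.leaf (1059, 19085399, false))))
(.node 2 (.node 1 (.leaf (1069, 17059919, true)) (.leaf (1070, 19085399, false))) (.node 1 (.leaf (1061, 19085399, false)) (.leaf (1072, 19085399, true)))))
(.node 3 (.node 1 (.leaf (1073, 17043521, false)) (.node 1 (.leaf (1068, 11495495, true)) (.leaf (1075, 32125001, true))))
(.node 2 (.node 1 (.leaf (1076, 32125001, true)) (.leaf (1055, 4808797, false))) (.node 1 (.leaf (1078, 17059919, true)) (.leaf (1079, 11495495, true)))))))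
(.node 14 (.node 7 (.node 3 (.node 1 (.leaf (1080, 32131155, true)) (.node 1 (.leaf (200, 7292999, false)) (.leaf (1082, 19085399, false))))
(.node 2 (.node 1 (.leaf (1083, 19085399, false)) (.leaf (203, 19085399, false))) (.node 1 (.leaf (1085, 19085399, false)) (.leaf (211, 19085399, true)))))
(.node 3 (.node 1 (.leaf (1087, 17059919, true)) (.node 1 (.leaf (214, 4544593, true)) (.leaf (1089, 17059919, true))))
(.node 2 (.node 1 (.leaf (214, 29904967, false)) (.leaf (203, 17043521, true))) (.node 1 (.leaf (1092, 17043521, false)) (.leaf (1091, 25385043, true))))))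
(.node 7 (.node 3 (.node 1 (.leaf (1094, 4808797, false)) (.node 1 (.leaf (214, 32125001, false)) (.leaf (211, 9056345, false))))
(.node 2 (.node 1 (.leaf (214, 4808797, false)) (.leaf (1096, 19085399, false))) (.node 1 (.leaf (1099, 17059919, true)) (.leaf (1100, 19085399, false)))))
(.node 3 (.node 1 (.leaf (689, 10971209, true)) (.node 1 (.leaf (1102, 27529303, false)) (.leaf (1098, 25385043, true))))
(.node 2 (.node 1 (.leaf (1104, 31801425, true)) (.leaf (1105, 13310023, true))) (.node 1 (.leaf (1069, 19085399, false)) (.leaf (203, 10971209, true))))))))))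

/-- The definitions. -/
def caseCFullDefsRLR : Tab (ℕ × ℕ × Bool) :=
(.node 111 (.node 55 (.node 27 (.node 13 (.node 6 (.node 3 (.node 1 (.leaf (1108, 13510735, false)) (.node 1 (.leaf (1075, 13310023, false)) (.leaf (1075, 13510735, false)))) (.node 1 (.leaf (1111, 11495495, true)) (.node 1 (.leaf (1112, 13510735, false)) (.leaf (203, 13310023, true)))))
(.node 3 (.node 1 (.leaf (1114, 4808797, false)) (.node 1 (.leaf (1115, 11495495, true)) (.leaf (1116, 13510735, false))))
(.node 2 (.node 1 (.leaf (689, 10971209, false)) (.leaf (1114, 27529303, false))) (.node 1 (.leaf (1075, 27529303, false)) (.leaf (1075, 23928925, false))))))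
(.node 7 (.node 3 (.node 1 (.leaf (1121, 19085399, false)) (.node 1 (.leaf (1122, 10971209, true)) (.leaf (1123, 27529303, false))))
(.node 2 (.node 1 (.leaf (1064, 10971209, true)) (.leaf (1125, 13510735, true))) (.node 1 (.leaf (1114, 17043521, false)) (.leaf (1127, 17043521, true)))))
(.node 3 (.node 1 (.leaf (1128, 10971209, true)) (.node 1 (.leaf (1129, 13310023, true)) (.leaf (210, 19085399, false))))
(.node 2 (.node 1 (.leaf (206, 7292999, false)) (.leaf (1132, 19085399, false))) (.node 1 (.leaf (1133, 19085399, false)) (.leaf (206, 32131155, true)))))))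
(.node 14 (.node 7 (.node 3 (.node 1 (.leaf (1135, 17059919, true)) (.node 1 (.leaf (1136, 17059919, true)) (.leaf (206, 29904967, true))))
(.node 2 (.node 1 (.leaf (1138, 17059919, true)) (.leaf (1139, 17059919, true))) (.node 1 (.leaf (1138, 19085399, false)) (.leaf (1135, 4808797, false)))))
(.node 3 (.node 1 (.leaf (214, 17043521, false)) (.node 1 (.leaf (1143, 25385043, true)) (.leaf (1144, 4808797, false))))
(.node 2 (.node 1 (.leaf (1141, 10971209, true)) (.leaf (1146, 13510735, false))) (.node 1 (.leaf (1138, 29904967, false)) (.leaf (206, 11495495, true))))))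
(.node 7 (.node 3 (.node 1 (.leaf (1149, 27529303, false)) (.node 1 (.leaf (1149, 4808797, false)) (.leaf (1151, 19085399, false))))
(.node 2 (.node 1 (.leaf (1152, 17043521, true)) (.leaf (1153, 19085399, false))) (.node 1 (.leaf (1150, 19085399, false)) (.leaf (1155, 25385043, true)))))
(.node 3 (.node 1 (.leaf (1156, 29904967, false)) (.node 1 (.leaf (1142, 19085399, true)) (.leaf (1158, 19085399, true))))
(.node 2 (.node 1 (.leaf (1159, 11495495, true)) (.leaf (1142, 25385043, true))) (.node 1 (.leaf (1161, 4808797, true)) (.leaf (1162, 19085399, true))))))))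
(.node 28 (.node 14 (.node 7 (.node 3 (.node 1 (.leaf (207, 32125001, false)) (.node 1 (.leaf (1164, 19085399, false)) (.leaf (1165, 19085399, false))))
(.node 2 (.node 1 (.leaf (207, 32125001, true)) (.leaf (1167, 17059919, true))) (.node 1 (.leaf (1168, 17059919, true)) (.leaf (211, 17059919, true)))))
(.node 3 (.node 1 (.leaf (1170, 17059919, true)) (.node 1 (.leaf (1167, 17043521, false)) (.leaf (1167, 13510735, false))))
(.node 2 (.node 1 (.leaf (1173, 17043521, true)) (.leaf (1174, 17043521, false))) (.node 1 (.leaf (1167, 29904967, false)) (.leaf (1176, 17059919, true))))))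
(.node 7 (.node 3 (.node 1 (.leaf (1177, 17043521, false)) (.node 1 (.leaf (211, 4808797, false)) (.leaf (211, 17043521, false))))
(.node 2 (.node 1 (.leaf (1180, 19085399, false)) (.leaf (1181, 19085399, true))) (.node 1 (.leaf (1182, 17043521, false)) (.leaf (1179, 19085399, false)))))
(.node 3 (.node 1 (.leaf (1184, 17043521, true)) (.node 1 (.leaf (1185, 19085399, false)) (.leaf (688, 11495495, true))))
(.node 2 (.node 1 (.leaf (1187, 13310023, true)) (.leaf (207, 4544593, true))) (.node 1 (.leaf (1189, 4808797, false)) (.leaf (1190, 19085399, true)))))))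
(.node 14 (.node 7 (.node 3 (.node 1 (.leaf (1191, 19085399, true)) (.node 1 (.leaf (1192, 11495495, true)) (.leaf (1143, 19085399, false))))
(.node 2 (.node 1 (.leaf (1194, 19085399, false)) (.leaf (214, 25385043, true))) (.node 1 (.leaf (1196, 17059919, true)) (.leaf (1197, 17059919, true)))))
(.node 3 (.node 1 (.leaf (1161, 23928925, false)) (.node 1 (.leaf (1161, 29904967, false)) (.leaf (214, 17059919, true))))
(.node 2 (.node 1 (.leaf (1201, 4808797, false)) (.leaf (1202, 11495495, true))) (.node 1 (.leaf (1203, 13510735, false)) (.leaf (134, 7292999, false))))))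
(.node 7 (.node 3 (.node 1 (.leaf (1205, 17043521, true)) (.node 1 (.leaf (1206, 17043521, false)) (.leaf (1161, 31801425, false))))
(.node 2 (.node 1 (.leaf (1196, 17043521, false)) (.leaf (1208, 19085399, false))) (.node 1 (.leaf (1210, 25385043, true)) (.leaf (1211, 29904967, false)))))
(.node 3 (.node 1 (.leaf (1161, 13310023, false)) (.node 1 (.leaf (1213, 19085399, false)) (.leaf (1214, 17043521, true))))
(.node 2 (.node 1 (.leaf (1215, 19085399, false)) (.leaf (1100, 25385043, true))) (.node 1 (.leaf (1217, 4808797, true)) (.leaf (1218, 10971209, true)))))))))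
(.node 55 (.node 27 (.node 13 (.node 6 (.node 3 (.node 1 (.leaf (1209, 10971209, true)) (.node 1 (.leaf (1220, 32125001, true)) (.leaf (1221, 32125001, true)))) (.node 1 (.leaf (217, 10971209, false)) (.node 1 (.leaf (1223, 19085399, false)) (.leaf (1224, 19085399, false)))))
(.node 3 (.node 1 (.leaf (229, 17043521, true)) (.node 1 (.leaf (1226, 17059919, true)) (.leaf (217, 4808797, true))))
(.node 2 (.node 1 (.leaf (1228, 17059919, true)) (.leaf (1229, 17059919, true))) (.node 1 (.leaf (1228, 13510735, false)) (.leaf (1229, 27529303, false))))))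
(.node 7 (.node 3 (.node 1 (.leaf (697, 19085399, true)) (.node 1 (.leaf (1233, 19085399, false)) (.leaf (1229, 4808797, false))))
(.node 2 (.node 1 (.leaf (1235, 10971209, true)) (.leaf (1236, 13510735, false))) (.node 1 (.leaf (1229, 29904967, false)) (.leaf (1229, 13510735, false)))))
(.node 3 (.node 1 (.leaf (229, 13510735, false)) (.node 1 (.leaf (1228, 29904967, false)) (.leaf (1241, 19085399, false))))
(.node 2 (.node 1 (.leaf (1242, 11495495, true)) (.leaf (1243, 27529303, false))) (.node 1 (.leaf (1228, 4808797, false)) (.leaf (1245, 19085399, false)))))))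
(.node 14 (.node 7 (.node 3 (.node 1 (.leaf (1246, 17043521, true)) (.node 1 (.leaf (1247, 19085399, false)) (.leaf (1228, 17043521, false))))
(.node 2 (.node 1 (.leaf (1249, 17059919, true)) (.leaf (1250, 10971209, true))) (.node 1 (.leaf (1251, 13310023, true)) (.leaf (1228, 19085399, false)))))
(.node 3 (.node 1 (.leaf (1253, 19085399, true)) (.node 1 (.leaf (1254, 11495495, true)) (.leaf (1255, 13310023, true))))
(.node 2 (.node 1 (.leaf (1240, 19085399, false)) (.leaf (1257, 19085399, false))) (.node 1 (.leaf (229, 29904967, false)) (.leaf (1259, 19085399, false))))))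
(.node 7 (.node 3 (.node 1 (.leaf (1260, 19085399, false)) (.node 1 (.leaf (229, 29904967, true)) (.leaf (1262, 17059919, true))))
(.node 2 (.node 1 (.leaf (1263, 17059919, true)) (.leaf (229, 13510735, true))) (.node 1 (.leaf (1265, 27529303, false)) (.leaf (1266, 19085399, true)))))
(.node 3 (.node 1 (.leaf (1267, 19085399, false)) (.node 1 (.leaf (229, 32125001, true)) (.leaf (1269, 27529303, false))))
(.node 2 (.node 1 (.leaf (1270, 19085399, true)) (.leaf (1271, 19085399, false))) (.node 1 (.leaf (229, 19085399, true)) (.leaf (1273, 27529303, false))))))))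
(.node 28 (.node 14 (.node 7 (.node 3 (.node 1 (.leaf (229, 4808797, true)) (.node 1 (.leaf (1275, 13510735, false)) (.leaf (1273, 19085399, false))))
(.node 2 (.node 1 (.leaf (1265, 19085399, false)) (.leaf (1278, 19085399, false))) (.node 1 (.leaf (1279, 17059919, true)) (.leaf (1280, 19085399, false)))))
(.node 3 (.node 1 (.leaf (1262, 17043521, false)) (.node 1 (.leaf (1282, 19085399, false)) (.leaf (1283, 19085399, true))))
(.node 2 (.node 1 (.leaf (1284, 17043521, false)) (.leaf (1273, 4808797, false))) (.node 1 (.leaf (1286, 17059919, true)) (.leaf (1287, 11495495, true))))))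
(.node 7 (.node 3 (.node 1 (.leaf (1288, 32131155, true)) (.node 1 (.leaf (217, 29904967, false)) (.leaf (1290, 10971209, true))))
(.node 2 (.node 1 (.leaf (1291, 13310023, true)) (.leaf (1292, 31801425, true))) (.node 1 (.leaf (256, 10971209, false)) (.leaf (1294, 19085399, false)))))
(.node 3 (.node 1 (.leaf (1295, 19085399, false)) (.node 1 (.leaf (256, 13310023, true)) (.leaf (1297, 17059919, true))))
(.node 2 (.node 1 (.leaf (1298, 17059919, true)) (.leaf (266, 19085399, true))) (.node 1 (.leaf (1300, 17059919, true)) (.leaf (1297, 13510735, false)))))))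
(.node 14 (.node 7 (.node 3 (.node 1 (.leaf (1297, 27529303, false)) (.node 1 (.leaf (256, 13510735, true)) (.leaf (1304, 4808797, false))))
(.node 2 (.node 1 (.leaf (1305, 11495495, true)) (.leaf (1306, 13510735, false))) (.node 1 (.leaf (256, 4808797, true)) (.leaf (1308, 17043521, false)))))
(.node 3 (.node 1 (.leaf (1309, 25385043, true)) (.node 1 (.leaf (1310, 4808797, false)) (.leaf (1304, 29904967, false))))
(.node 2 (.node 1 (.leaf (266, 23928925, false)) (.leaf (266, 19085399, false))) (.node 1 (.leaf (1314, 19085399, false)) (.leaf (1315, 25385043, true))))))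
(.node 7 (.node 3 (.node 1 (.leaf (1316, 29904967, false)) (.node 1 (.leaf (1312, 10971209, true)) (.leaf (1318, 13510735, true))))
(.node 2 (.node 1 (.leaf (1319, 10971209, true)) (.leaf (267, 19085399, false))) (.node 1 (.leaf (1321, 10971209, true)) (.leaf (1322, 32125001, true)))))
(.node 3 (.node 1 (.leaf (1323, 32125001, true)) (.node 1 (.leaf (259, 19085399, false)) (.leaf (1325, 19085399, false))))
(.node 2 (.node 1 (.leaf (1326, 19085399, false)) (.leaf (259, 31801425, false))) (.node 1 (.leaf (1328, 19085399, false)) (.leaf (1329, 19085399, false))))))))))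

/-- The definitions. -/
def caseCFullDefsRL : Tab (ℕ × ℕ × Bool) := .node 222 caseCFullDefsRLL caseCFullDefsRLR

/-- The definitions. -/
def caseCFullDefsRRL : Tab (ℕ × ℕ × Bool) :=
(.node 111 (.node 55 (.node 27 (.node 13 (.node 6 (.node 3 (.node 1 (.leaf (277, 32125001, true)) (.node 1 (.leaf (1331, 17059919, true)) (.leaf (277, 27529303, false)))) (.node 1 (.leaf (259, 10971209, true)) (.node 1 (.leaf (1334, 13510735, false)) (.leaf (259, 11495495, true)))))
(.node 3 (.node 1 (.leaf (1336, 17043521, false)) (.node 1 (.leaf (1337, 25385043, true)) (.leaf (1338, 4808797, false))))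
(.node 2 (.node 1 (.leaf (277, 23928925, false)) (.leaf (1340, 17059919, true))) (.node 1 (.leaf (1341, 17043521, false)) (.leaf (259, 13510735, false))))))
(.node 7 (.node 3 (.node 1 (.leaf (277, 10971209, false)) (.node 1 (.leaf (277, 13310023, false)) (.leaf (1337, 19085399, false))))
(.node 2 (.node 1 (.leaf (1346, 19085399, true)) (.leaf (1347, 17043521, false))) (.node 1 (.leaf (1333, 19085399, false)) (.leaf (1349, 10971209, true)))))
(.node 3 (.node 1 (.leaf (1350, 27529303, false)) (.node 1 (.leaf (1340, 19085399, true)) (.leaf (1352, 10971209, true))))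
(.node 2 (.node 1 (.leaf (1353, 32131155, true)) (.leaf (1343, 25385043, true))) (.node 1 (.leaf (1355, 31801425, true)) (.leaf (1356, 13310023, true)))))))
(.node 14 (.node 7 (.node 3 (.node 1 (.leaf (274, 19085399, false)) (.node 1 (.leaf (262, 23928925, false)) (.leaf (1359, 19085399, false))))
(.node 2 (.node 1 (.leaf (1360, 19085399, false)) (.leaf (280, 13310023, true))) (.node 1 (.leaf (1362, 17059919, true)) (.leaf (280, 27529303, false)))))
(.node 3 (.node 1 (.leaf (262, 13510735, true)) (.node 1 (.leaf (1365, 13510735, false)) (.leaf (262, 32125001, true))))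
(.node 2 (.node 1 (.leaf (1367, 27529303, false)) (.leaf (1368, 19085399, true))) (.node 1 (.leaf (1369, 19085399, false)) (.leaf (262, 32131155, true))))))
(.node 7 (.node 3 (.node 1 (.leaf (1371, 4808797, false)) (.node 1 (.leaf (1372, 11495495, true)) (.leaf (1373, 13510735, false))))
(.node 2 (.node 1 (.leaf (262, 13310023, true)) (.leaf (1375, 27529303, false))) (.node 1 (.leaf (262, 11495495, true)) (.leaf (1377, 4808797, false)))))
(.node 3 (.node 1 (.leaf (1366, 19085399, false)) (.node 1 (.leaf (1379, 10971209, true)) (.leaf (1380, 27529303, false))))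
(.node 2 (.node 1 (.leaf (1375, 17043521, false)) (.leaf (1382, 19085399, false))) (.node 1 (.leaf (1383, 19085399, true)) (.leaf (1384, 17043521, false))))))))
(.node 28 (.node 14 (.node 7 (.node 3 (.node 1 (.leaf (1378, 17059919, true)) (.node 1 (.leaf (1386, 11495495, true)) (.leaf (1387, 32131155, true))))
(.node 2 (.node 1 (.leaf (265, 29904967, false)) (.leaf (1389, 19085399, false))) (.node 1 (.leaf (1390, 19085399, false)) (.leaf (265, 32125001, true)))))
(.node 3 (.node 1 (.leaf (1392, 17059919, true)) (.node 1 (.leaf (1393, 17059919, true)) (.leaf (265, 25385043, true))))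
(.node 2 (.node 1 (.leaf (1395, 17059919, true)) (.leaf (1396, 17059919, true))) (.node 1 (.leaf (265, 31801425, true)) (.leaf (1398, 17043521, false))))))
(.node 7 (.node 3 (.node 1 (.leaf (1398, 29904967, false)) (.node 1 (.leaf (1392, 13510735, false)) (.leaf (1401, 17043521, true))))
(.node 2 (.node 1 (.leaf (1402, 17043521, false)) (.leaf (1395, 4808797, false))) (.node 1 (.leaf (1404, 11495495, true)) (.leaf (1405, 13510735, false)))))
(.node 3 (.node 1 (.leaf (1395, 19085399, false)) (.node 1 (.leaf (265, 10971209, true)) (.leaf (1408, 4808797, false))))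
(.node 2 (.node 1 (.leaf (1398, 19085399, false)) (.leaf (286, 29904967, false))) (.node 1 (.leaf (1411, 17059919, true)) (.leaf (1412, 19085399, false)))))))
(.node 14 (.node 7 (.node 3 (.node 1 (.leaf (1400, 19085399, false)) (.node 1 (.leaf (1414, 11495495, true)) (.leaf (1415, 27529303, false))))
(.node 2 (.node 1 (.leaf (265, 11495495, true)) (.leaf (1417, 29904967, false))) (.node 1 (.leaf (1418, 25385043, true)) (.leaf (1419, 31801425, true)))))
(.node 3 (.node 1 (.leaf (1420, 13310023, true)) (.node 1 (.leaf (304, 10971209, true)) (.leaf (1422, 13310023, true))))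
(.node 2 (.node 1 (.leaf (266, 32125001, false)) (.leaf (1424, 19085399, false))) (.node 1 (.leaf (1425, 19085399, false)) (.leaf (1313, 19085399, false))))))
(.node 7 (.node 3 (.node 1 (.leaf (1427, 19085399, false)) (.node 1 (.leaf (266, 32125001, true)) (.leaf (1429, 17059919, true))))
(.node 2 (.node 1 (.leaf (1430, 17059919, true)) (.leaf (266, 17059919, true))) (.node 1 (.leaf (1432, 17043521, false)) (.leaf (266, 29904967, true)))))
(.node 3 (.node 1 (.leaf (1434, 19085399, false)) (.node 1 (.leaf (266, 31801425, true)) (.leaf (1436, 19085399, false))))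
(.node 2 (.node 1 (.leaf (1437, 10971209, true)) (.leaf (1438, 13510735, false))) (.node 1 (.leaf (266, 32131155, true)) (.leaf (1440, 19085399, false)))))))))
(.node 55 (.node 27 (.node 13 (.node 6 (.node 3 (.node 1 (.leaf (1441, 10971209, true)) (.node 1 (.leaf (1442, 13510735, false)) (.leaf (277, 19085399, false)))) (.node 1 (.leaf (1444, 19085399, false)) (.node 1 (.leaf (1445, 17059919, true)) (.leaf (1446, 19085399, false)))))
(.node 3 (.node 1 (.leaf (266, 6776923, false)) (.node 1 (.leaf (1448, 19085399, false)) (.leaf (1449, 17059919, true))))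
(.node 2 (.node 1 (.leaf (1450, 19085399, false)) (.leaf (266, 4544593, true))) (.node 1 (.leaf (1452, 13510735, false)) (.leaf (1453, 25385043, true))))))
(.node 7 (.node 3 (.node 1 (.leaf (1454, 4544593, true)) (.node 1 (.leaf (1455, 32125001, true)) (.leaf (280, 19085399, false))))
(.node 2 (.node 1 (.leaf (1457, 19085399, true)) (.leaf (1458, 11495495, true))) (.node 1 (.leaf (1459, 13310023, true)) (.leaf (267, 4808797, false)))))
(.node 3 (.node 1 (.leaf (1461, 19085399, false)) (.node 1 (.leaf (1462, 19085399, false)) (.leaf (267, 13510735, false))))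
(.node 2 (.node 1 (.leaf (1464, 19085399, false)) (.leaf (1465, 19085399, false))) (.node 1 (.leaf (1349, 11495495, true)) (.leaf (1467, 17059919, true)))))))
(.node 14 (.node 7 (.node 3 (.node 1 (.leaf (267, 4808797, true)) (.node 1 (.leaf (1469, 17059919, true)) (.leaf (1470, 17059919, true))))
(.node 2 (.node 1 (.leaf (267, 32131155, true)) (.leaf (1472, 4808797, false))) (.node 1 (.leaf (1349, 7292999, false)) (.leaf (1469, 19085399, false)))))
(.node 3 (.node 1 (.leaf (1475, 10971209, true)) (.node 1 (.leaf (1476, 13510735, false)) (.leaf (1349, 19085399, false))))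
(.node 2 (.node 1 (.leaf (1478, 17059919, true)) (.leaf (1479, 17043521, false))) (.node 1 (.leaf (1349, 32125001, false)) (.leaf (1469, 13510735, false))))))
(.node 7 (.node 3 (.node 1 (.leaf (1472, 29904967, false)) (.node 1 (.leaf (267, 25385043, true)) (.leaf (1484, 19085399, false))))
(.node 2 (.node 1 (.leaf (267, 4544593, true)) (.leaf (1486, 27529303, false))) (.node 1 (.leaf (1487, 19085399, false)) (.leaf (1488, 25385043, true)))))
(.node 3 (.node 1 (.leaf (1489, 29904967, false)) (.node 1 (.leaf (1482, 19085399, false)) (.leaf (1491, 10971209, true))))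
(.node 2 (.node 1 (.leaf (1492, 27529303, false)) (.leaf (1295, 11495495, true))) (.node 1 (.leaf (1494, 32131155, true)) (.leaf (1495, 13310023, true))))))))
(.node 28 (.node 14 (.node 7 (.node 3 (.node 1 (.leaf (1333, 25385043, true)) (.node 1 (.leaf (1497, 4808797, true)) (.leaf (1498, 10971209, true))))
(.node 2 (.node 1 (.leaf (272, 23928925, false)) (.leaf (1500, 19085399, false))) (.node 1 (.leaf (1501, 19085399, false)) (.leaf (272, 25385043, true)))))
(.node 3 (.node 1 (.leaf (1503, 17059919, true)) (.node 1 (.leaf (1504, 17059919, true)) (.leaf (272, 29904967, true))))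
(.node 2 (.node 1 (.leaf (1506, 17059919, true)) (.leaf (1507, 17059919, true))) (.node 1 (.leaf (272, 4808797, true)) (.leaf (1509, 13510735, false))))))
(.node 7 (.node 3 (.node 1 (.leaf (1503, 17043521, false)) (.node 1 (.leaf (1511, 25385043, true)) (.leaf (1512, 4808797, false))))
(.node 2 (.node 1 (.leaf (1509, 19085399, false)) (.leaf (1514, 10971209, true))) (.node 1 (.leaf (1515, 13510735, false)) (.leaf (1504, 4808797, false)))))
(.node 3 (.node 1 (.leaf (1506, 17043521, false)) (.node 1 (.leaf (272, 17059919, true)) (.leaf (1519, 29904967, false))))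
(.node 2 (.node 1 (.leaf (272, 10971209, true)) (.leaf (1521, 13510735, false))) (.node 1 (.leaf (1522, 19085399, false)) (.leaf (1523, 10971209, true)))))))
(.node 14 (.node 7 (.node 3 (.node 1 (.leaf (1524, 27529303, false)) (.node 1 (.leaf (1510, 19085399, false)) (.leaf (1526, 10971209, true))))
(.node 2 (.node 1 (.leaf (1527, 27529303, false)) (.leaf (275, 13510735, false))) (.node 1 (.leaf (1529, 25385043, true)) (.leaf (1530, 4544593, true)))))
(.node 3 (.node 1 (.leaf (1531, 32125001, true)) (.node 1 (.leaf (1514, 17043521, true)) (.leaf (1533, 11495495, true))))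
(.node 2 (.node 1 (.leaf (1534, 32131155, true)) (.leaf (273, 29904967, false))) (.node 1 (.leaf (1536, 19085399, false)) (.leaf (1537, 19085399, false))))))
(.node 7 (.node 3 (.node 1 (.leaf (273, 25385043, true)) (.node 1 (.leaf (1539, 17059919, true)) (.leaf (1540, 17059919, true))))
(.node 2 (.node 1 (.leaf (273, 10971209, true)) (.leaf (1542, 17059919, true))) (.node 1 (.leaf (1543, 17059919, true)) (.leaf (1368, 19085399, false)))))
(.node 3 (.node 1 (.leaf (273, 13510735, true)) (.node 1 (.leaf (1546, 4808797, false)) (.leaf (1543, 17043521, false))))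
(.node 2 (.node 1 (.leaf (1548, 19085399, true)) (.leaf (1549, 19085399, false))) (.node 1 (.leaf (1540, 4808797, false)) (.leaf (1551, 10971209, true))))))))))

/-- The definitions. -/
def caseCFullDefsRRR : Tab (ℕ × ℕ × Bool) :=
(.node 111 (.node 55 (.node 27 (.node 13 (.node 6 (.node 3 (.node 1 (.leaf (1552, 13510735, false)) (.node 1 (.leaf (273, 31801425, true)) (.leaf (1554, 4808797, false)))) (.node 1 (.leaf (1546, 27529303, false)) (.node 1 (.leaf (1554, 19085399, false)) (.leaf (1546, 17043521, false)))))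
(.node 3 (.node 1 (.leaf (1368, 13310023, false)) (.node 1 (.leaf (1559, 19085399, false)) (.leaf (1560, 10971209, true))))
(.node 2 (.node 1 (.leaf (1561, 27529303, false)) (.leaf (1554, 13510735, false))) (.node 1 (.leaf (1563, 19085399, false)) (.leaf (1564, 10971209, true))))))
(.node 7 (.node 3 (.node 1 (.leaf (1565, 27529303, false)) (.node 1 (.leaf (1557, 19085399, true)) (.leaf (1567, 11495495, true))))
(.node 2 (.node 1 (.leaf (1568, 13310023, true)) (.leaf (1546, 29904967, false))) (.node 1 (.leaf (1570, 19085399, true)) (.leaf (1571, 10971209, true)))))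
(.node 3 (.node 1 (.leaf (1572, 32131155, true)) (.node 1 (.leaf (1529, 19085399, false)) (.leaf (1574, 19085399, false))))
(.node 2 (.node 1 (.leaf (275, 4808797, true)) (.leaf (1576, 17059919, true))) (.node 1 (.leaf (1577, 17059919, true)) (.leaf (1519, 17059919, true)))))))
(.node 14 (.node 7 (.node 3 (.node 1 (.leaf (275, 19085399, true)) (.node 1 (.leaf (1580, 17043521, false)) (.leaf (275, 32131155, true))))
(.node 2 (.node 1 (.leaf (1582, 29904967, false)) (.leaf (1577, 19085399, false))) (.node 1 (.leaf (1584, 11495495, true)) (.leaf (1585, 13510735, false)))))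
(.node 3 (.node 1 (.leaf (1581, 25385043, true)) (.node 1 (.leaf (1587, 4808797, false)) (.leaf (1582, 17043521, false))))
(.node 2 (.node 1 (.leaf (1582, 4808797, false)) (.leaf (1576, 27529303, false))) (.node 1 (.leaf (1580, 13510735, false)) (.leaf (1592, 19085399, false))))))
(.node 7 (.node 3 (.node 1 (.leaf (1593, 10971209, true)) (.node 1 (.leaf (1594, 27529303, false)) (.leaf (1589, 19085399, false))))
(.node 2 (.node 1 (.leaf (1596, 19085399, true)) (.leaf (1597, 17043521, false))) (.node 1 (.leaf (1581, 17043521, true)) (.leaf (1599, 10971209, true)))))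
(.node 3 (.node 1 (.leaf (1600, 13310023, true)) (.node 1 (.leaf (1589, 17059919, true)) (.leaf (1602, 10971209, true))))
(.node 2 (.node 1 (.leaf (1603, 13310023, true)) (.leaf (277, 4808797, false))) (.node 1 (.leaf (1605, 19085399, false)) (.leaf (1606, 19085399, false))))))))
(.node 28 (.node 14 (.node 7 (.node 3 (.node 1 (.leaf (277, 29904967, true)) (.node 1 (.leaf (1608, 17059919, true)) (.leaf (1609, 17059919, true))))
(.node 2 (.node 1 (.leaf (277, 19085399, true)) (.leaf (1611, 17059919, true))) (.node 1 (.leaf (1612, 17059919, true)) (.leaf (277, 10971209, true)))))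
(.node 3 (.node 1 (.leaf (1614, 29904967, false)) (.node 1 (.leaf (1611, 17043521, false)) (.leaf (1616, 25385043, true))))
(.node 2 (.node 1 (.leaf (1617, 4808797, false)) (.leaf (277, 32131155, true))) (.node 1 (.leaf (1619, 29904967, false)) (.leaf (1355, 4808797, false))))))
(.node 7 (.node 3 (.node 1 (.leaf (1619, 19085399, false)) (.node 1 (.leaf (1622, 19085399, false)) (.leaf (1623, 17059919, true))))
(.node 2 (.node 1 (.leaf (1624, 19085399, false)) (.leaf (1622, 19085399, true))) (.node 1 (.leaf (1626, 11495495, true)) (.leaf (1627, 13310023, true)))))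
(.node 3 (.node 1 (.leaf (277, 4808797, true)) (.node 1 (.leaf (1629, 27529303, false)) (.leaf (1630, 17059919, true))))
(.node 2 (.node 1 (.leaf (1631, 25385043, true)) (.leaf (1632, 4544593, true))) (.node 1 (.leaf (280, 32125001, false)) (.leaf (1634, 19085399, false)))))))
(.node 14 (.node 7 (.node 3 (.node 1 (.leaf (1635, 19085399, false)) (.node 1 (.leaf (280, 4544593, true)) (.leaf (1637, 17059919, true))))
(.node 2 (.node 1 (.leaf (1638, 17059919, true)) (.leaf (280, 13310023, false))) (.node 1 (.leaf (1321, 10971209, false)) (.leaf (1641, 25385043, true)))))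
(.node 3 (.node 1 (.leaf (1642, 4808797, false)) (.node 1 (.leaf (280, 17059919, true)) (.leaf (1644, 29904967, false))))
(.node 2 (.node 1 (.leaf (1645, 17059919, true)) (.leaf (1646, 17043521, false))) (.node 1 (.leaf (1386, 19085399, false)) (.leaf (280, 32131155, true))))))
(.node 7 (.node 3 (.node 1 (.leaf (1649, 27529303, false)) (.node 1 (.leaf (280, 31801425, true)) (.leaf (1651, 4808797, false))))
(.node 2 (.node 1 (.leaf (1652, 19085399, false)) (.leaf (1653, 17043521, true))) (.node 1 (.leaf (1654, 19085399, false)) (.leaf (280, 11495495, true)))))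
(.node 3 (.node 1 (.leaf (1656, 17043521, false)) (.node 1 (.leaf (1657, 19085399, false)) (.leaf (1658, 19085399, true))))
(.node 2 (.node 1 (.leaf (1659, 17043521, false)) (.leaf (1657, 10971209, true))) (.node 1 (.leaf (1661, 32125001, true)) (.leaf (1662, 32125001, true)))))))))
(.node 55 (.node 27 (.node 13 (.node 6 (.node 3 (.node 1 (.leaf (1649, 17043521, false)) (.node 1 (.leaf (1664, 11495495, true)) (.leaf (1665, 13310023, true)))) (.node 1 (.leaf (1666, 31801425, true)) (.node 1 (.leaf (283, 6776923, false)) (.leaf (1668, 19085399, false)))))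
(.node 3 (.node 1 (.leaf (1669, 19085399, false)) (.node 1 (.leaf (300, 25385043, true)) (.leaf (1671, 17059919, true))))
(.node 2 (.node 1 (.leaf (283, 19085399, true)) (.leaf (1673, 17059919, true))) (.node 1 (.leaf (1674, 17059919, true)) (.leaf (283, 29904967, true))))))
(.node 7 (.node 3 (.node 1 (.leaf (1676, 13510735, false)) (.node 1 (.leaf (283, 4808797, true)) (.leaf (1678, 27529303, false))))
(.node 2 (.node 1 (.leaf (283, 11495495, true)) (.leaf (1680, 27529303, false))) (.node 1 (.leaf (1681, 19085399, true)) (.leaf (1682, 19085399, false)))))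
(.node 3 (.node 1 (.leaf (1673, 29904967, false)) (.node 1 (.leaf (1684, 17059919, true)) (.leaf (1685, 17043521, false))))
(.node 2 (.node 1 (.leaf (1678, 29904967, false)) (.leaf (1678, 19085399, false))) (.node 1 (.leaf (300, 23928925, false)) (.leaf (283, 4544593, true)))))))
(.node 14 (.node 7 (.node 3 (.node 1 (.leaf (1690, 17043521, false)) (.node 1 (.leaf (1684, 19085399, false)) (.leaf (1692, 11495495, true))))
(.node 2 (.node 1 (.leaf (1693, 27529303, false)) (.leaf (1673, 27529303, false))) (.node 1 (.leaf (1695, 19085399, false)) (.leaf (1696, 25385043, true)))))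
(.node 3 (.node 1 (.leaf (1697, 29904967, false)) (.node 1 (.leaf (293, 23928925, false)) (.leaf (1699, 17059919, true))))
(.node 2 (.node 1 (.leaf (1700, 19085399, true)) (.leaf (1701, 25385043, true))) (.node 1 (.leaf (1676, 19085399, false)) (.leaf (1703, 17059919, true))))))
(.node 7 (.node 3 (.node 1 (.leaf (1704, 19085399, true)) (.node 1 (.leaf (1705, 25385043, true)) (.leaf (300, 19085399, false))))
(.node 2 (.node 1 (.leaf (286, 6776923, false)) (.leaf (1708, 19085399, false))) (.node 1 (.leaf (1709, 19085399, false)) (.leaf (304, 25385043, true)))))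
(.node 3 (.node 1 (.leaf (1711, 17059919, true)) (.node 1 (.leaf (286, 31801425, true)) (.leaf (1713, 13510735, false))))
(.node 2 (.node 1 (.leaf (286, 32125001, true)) (.leaf (1715, 27529303, false))) (.node 1 (.leaf (1715, 13510735, false)) (.leaf (1717, 17043521, true))))))))
(.node 28 (.node 14 (.node 7 (.node 3 (.node 1 (.leaf (1718, 17043521, false)) (.node 1 (.leaf (1711, 27529303, false)) (.leaf (286, 25385043, true))))
(.node 2 (.node 1 (.leaf (1721, 27529303, false)) (.leaf (1721, 17043521, false))) (.node 1 (.leaf (1711, 4808797, false)) (.leaf (1724, 19085399, false)))))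
(.node 3 (.node 1 (.leaf (1725, 17059919, true)) (.node 1 (.leaf (1726, 19085399, false)) (.leaf (1711, 29904967, false))))
(.node 2 (.node 1 (.leaf (1728, 10971209, true)) (.leaf (1729, 13310023, true))) (.node 1 (.leaf (1730, 31801425, true)) (.leaf (1722, 11495495, true))))))
(.node 7 (.node 3 (.node 1 (.leaf (1732, 13510735, true)) (.node 1 (.leaf (1733, 10971209, true)) (.leaf (292, 29904967, false))))
(.node 2 (.node 1 (.leaf (1735, 19085399, false)) (.leaf (1736, 19085399, false))) (.node 1 (.leaf (292, 31801425, false)) (.leaf (1738, 19085399, false)))))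
(.node 3 (.node 1 (.leaf (1739, 19085399, false)) (.node 1 (.leaf (1704, 25385043, true)) (.leaf (1741, 17059919, true))))
(.node 2 (.node 1 (.leaf (292, 32125001, true)) (.leaf (1743, 17059919, true))) (.node 1 (.leaf (1744, 17059919, true)) (.leaf (1704, 23928925, false)))))))
(.node 14 (.node 7 (.node 3 (.node 1 (.leaf (292, 17059919, true)) (.node 1 (.leaf (1747, 13510735, false)) (.leaf (292, 31801425, true))))
(.node 2 (.node 1 (.leaf (1749, 29904967, false)) (.leaf (1750, 17059919, true))) (.node 1 (.leaf (1751, 17043521, false)) (.leaf (292, 13510735, true)))))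
(.node 3 (.node 1 (.leaf (1753, 29904967, false)) (.node 1 (.leaf (1754, 17059919, true)) (.leaf (1755, 17043521, false))))
(.node 2 (.node 1 (.leaf (1717, 27529303, false)) (.leaf (292, 17043521, true))) (.node 1 (.leaf (1758, 17043521, false)) (.leaf (1753, 19085399, false))))))
(.node 7 (.node 3 (.node 1 (.leaf (292, 10971209, true)) (.node 1 (.leaf (1761, 13510735, false)) (.leaf (1761, 17043521, false))))
(.node 2 (.node 1 (.leaf (1763, 19085399, false)) (.leaf (1764, 19085399, true))) (.node 1 (.leaf (1765, 17043521, false)) (.leaf (283, 4808797, false)))))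
(.node 3 (.node 1 (.leaf (1767, 19085399, false)) (.node 1 (.leaf (1768, 17043521, true)) (.leaf (1769, 19085399, false))))
(.node 2 (.node 1 (.leaf (1704, 17043521, false)) (.leaf (1771, 25385043, true))) (.node 1 (.leaf (1772, 31801425, true)) (.leaf (1773, 13310023, true))))))))))

/-- The definitions. -/
def caseCFullDefsRR : Tab (ℕ × ℕ × Bool) := .node 222 caseCFullDefsRRL caseCFullDefsRRR

/-- The definitions. -/
def caseCFullDefsR : Tab (ℕ × ℕ × Bool) := .node 444 caseCFullDefsRL caseCFullDefsRR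

/-- The definitions. -/
def caseCFullDefs : Tab (ℕ × ℕ × Bool) := .node 887 caseCFullDefsL caseCFullDefsR

/-- The relators. -/
def caseCFullRels : List (List Let) :=
  [[.t false, .h 19140673, .t false, .h 19140673, .t false, .h 19140673, .h 17764419],
  [.t true, .h 17043525, .t true, .h 17043525, .t true, .h 17043525, .h 17633361],
  [.t true, .t false, .h 17698889, .t false, .h 16920641, .t true, .h 17133643],
  [.t true, .t false, .h 11155547, .t true, .h 11360321, .t false, .h 17446987],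
  [.t true, .t false, .h 17764425, .t false, .h 16920641, .t true, .h 17643609],
  [.t true, .h 19609681, .t false, .h 17641549, .t false, .h 17127489, .t true, .h 19681363],
  [.t true, .t false, .h 19877981, .t false, .h 19863639, .t true, .t false, .h 19083329],
  [.t true, .t false, .t true, .h 19341393, .t true, .h 17174597, .t true, .h 16998487]]

/-- The enumeration. -/
def caseCFull : EnumD := ⟨1775, caseCFullDefs, 7815, caseCFullFacts, caseCFullSrc, caseCFullRels⟩

/-- The origin of the relators. -/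
def caseCFullFrom : List (Bool × ℕ) := [(true, 1), (true, 2), (true, 3), (false, 1), (false, 2), (false, 3)]

/-- The stabiliser. -/
def caseCFullN0Els : Tab ℕ :=
(.leaf 17043521)

/-- Its index. -/
def caseCFullN0Ix : BT ℕ :=
(.node 17043521 0 .tip .tip)

/-- The reasons. -/
def caseCFullN0How : Tab (ℕ × ℕ) :=
(.leaf (0, 0))

/-- The node. -/
def caseCFullN0Node : NodeD := ⟨0, 1, caseCFullN0Els, caseCFullN0Ix, caseCFullN0How, fun b => bif b then (.node 7 (.node 3 (.node 1 (.leaf 33) (.node 1 (.leaf 39) (.leaf 44)))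
(.node 2 (.node 1 (.leaf 30) (.leaf 37)) (.node 1 (.leaf 43) (.leaf 41))))
(.node 3 (.node 1 (.leaf 35) (.node 1 (.leaf 32) (.leaf 38)))
(.node 2 (.node 1 (.leaf 42) (.leaf 36)) (.node 1 (.leaf 34) (.leaf 40))))) else (.node 7 (.node 3 (.node 1 (.leaf 2) (.node 1 (.leaf 10) (.leaf 14)))
(.node 2 (.node 1 (.leaf 7) (.leaf 9)) (.node 1 (.leaf 16) (.leaf 5))))
(.node 3 (.node 1 (.leaf 12) (.node 1 (.leaf 13) (.leaf 6)))
(.node 2 (.node 1 (.leaf 8) (.leaf 15)) (.node 1 (.leaf 11) (.leaf 4)))))⟩

/-- The stabiliser. -/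
def caseCFullN1ElsLL : Tab ℕ :=
(.node 192 (.node 96 (.node 48 (.node 24 (.node 12 (.node 6 (.node 3 (.node 1 (.leaf 17043521) (.node 1 (.leaf 16935001) (.leaf 17117269))) (.node 1 (.leaf 17768543) (.node 1 (.leaf 17651789) (.leaf 17004627))))
(.node 3 (.node 1 (.leaf 17174613) (.node 1 (.leaf 17195087) (.leaf 17045577))) (.node 1 (.leaf 17442881) (.node 1 (.leaf 17051729) (.leaf 17717319)))))
(.node 6 (.node 3 (.node 1 (.leaf 16939099) (.node 1 (.leaf 17506375) (.leaf 17576011))) (.node 1 (.leaf 17786963) (.node 1 (.leaf 17780805) (.leaf 16932957))))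
(.node 3 (.node 1 (.leaf 17111129) (.node 1 (.leaf 16939081) (.leaf 17244225))) (.node 1 (.leaf 17641551) (.node 1 (.leaf 17594451) (.leaf 17256519))))))
(.node 12 (.node 6 (.node 3 (.node 1 (.leaf 16986185) (.node 1 (.leaf 17000529) (.leaf 17119327))) (.node 1 (.leaf 17702997) (.node 1 (.leaf 17111109) (.leaf 17528923))))
(.node 3 (.node 1 (.leaf 17190989) (.node 1 (.leaf 17197129) (.leaf 17109069))) (.node 1 (.leaf 17512523) (.node 1 (.leaf 17770561) (.leaf 17592415)))))
(.node 6 (.node 3 (.node 1 (.leaf 17782863) (.node 1 (.leaf 17000533) (.leaf 17043539))) (.node 1 (.leaf 17463391) (.node 1 (.leaf 17193035) (.leaf 17180739))))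
(.node 3 (.node 1 (.leaf 17649751) (.node 1 (.leaf 16998477) (.leaf 17641565))) (.node 1 (.leaf 17698905) (.node 1 (.leaf 17528901) (.leaf 17444939)))))))
(.node 24 (.node 12 (.node 6 (.node 3 (.node 1 (.leaf 17705025) (.node 1 (.leaf 17594461) (.leaf 17586249))) (.node 1 (.leaf 17002581) (.node 1 (.leaf 17240147) (.leaf 16998467))))
(.node 3 (.node 1 (.leaf 17051727) (.node 1 (.leaf 17770567) (.leaf 17782877))) (.node 1 (.leaf 17000519) (.node 1 (.leaf 17068127) (.leaf 17176665)))))
(.node 6 (.node 3 (.node 1 (.leaf 17446997) (.node 1 (.leaf 17178693) (.leaf 17586259))) (.node 1 (.leaf 16934987) (.node 1 (.leaf 17770587) (.leaf 17635421))))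
(.node 3 (.node 1 (.leaf 17457223) (.node 1 (.leaf 17461337) (.leaf 17197123))) (.node 1 (.leaf 17053775) (.node 1 (.leaf 17191007) (.leaf 16918613))))))
(.node 12 (.node 6 (.node 3 (.node 1 (.leaf 17569873) (.node 1 (.leaf 17649735) (.leaf 16937051))) (.node 1 (.leaf 17242207) (.node 1 (.leaf 17260613) (.leaf 17508425))))
(.node 3 (.node 1 (.leaf 17053785) (.node 1 (.leaf 17780813) (.leaf 17002579))) (.node 1 (.leaf 16998495) (.node 1 (.leaf 17051731) (.leaf 17764445)))))
(.node 6 (.node 3 (.node 1 (.leaf 17440853) (.node 1 (.leaf 17651777) (.leaf 17463377))) (.node 1 (.leaf 17260617) (.node 1 (.leaf 17117255) (.leaf 17659989))))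
(.node 3 (.node 1 (.leaf 17258563) (.node 1 (.leaf 16920653) (.leaf 16932951))) (.node 1 (.leaf 17705041) (.node 1 (.leaf 17240141) (.leaf 17457237))))))))
(.node 48 (.node 24 (.node 12 (.node 6 (.node 3 (.node 1 (.leaf 17127489) (.node 1 (.leaf 17117263) (.leaf 17715291))) (.node 1 (.leaf 17004615) (.node 1 (.leaf 17705047) (.leaf 17633363))))
(.node 3 (.node 1 (.leaf 17522761) (.node 1 (.leaf 17510465) (.leaf 17702985))) (.node 1 (.leaf 17649731) (.node 1 (.leaf 16937055) (.leaf 17242203)))))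
(.node 6 (.node 3 (.node 1 (.leaf 17768525) (.node 1 (.leaf 17766491) (.leaf 17508433))) (.node 1 (.leaf 17584199) (.node 1 (.leaf 17528919) (.leaf 17262669))))
(.node 3 (.node 1 (.leaf 17051715) (.node 1 (.leaf 17135711) (.leaf 17242201))) (.node 1 (.leaf 17444951) (.node 1 (.leaf 17440861) (.leaf 17578067))))))
(.node 12 (.node 6 (.node 3 (.node 1 (.leaf 17721419) (.node 1 (.leaf 17584219) (.leaf 16939077))) (.node 1 (.leaf 17176641) (.node 1 (.leaf 17178711) (.leaf 17586241))))
(.node 3 (.node 1 (.leaf 16922709) (.node 1 (.leaf 17784909) (.leaf 17133651))) (.node 1 (.leaf 17764419) (.node 1 (.leaf 17440843) (.leaf 17651807)))))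
(.node 6 (.node 3 (.node 1 (.leaf 17176655) (.node 1 (.leaf 17522775) (.leaf 17125441))) (.node 1 (.leaf 17119309) (.node 1 (.leaf 17782875) (.leaf 16937029))))
(.node 3 (.node 1 (.leaf 17770581) (.node 1 (.leaf 17635411) (.leaf 17457225))) (.node 1 (.leaf 17508417) (.node 1 (.leaf 17643599) (.leaf 17719381)))))))
(.node 24 (.node 12 (.node 6 (.node 3 (.node 1 (.leaf 17715267) (.node 1 (.leaf 17045597) (.leaf 16937037))) (.node 1 (.leaf 17180743) (.node 1 (.leaf 17578059) (.leaf 17584213))))
(.node 3 (.node 1 (.leaf 16939083) (.node 1 (.leaf 17197143) (.leaf 17109075))) (.node 1 (.leaf 17506393) (.node 1 (.leaf 17117257) (.leaf 17715293)))))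
(.node 6 (.node 3 (.node 1 (.leaf 17004609) (.node 1 (.leaf 17510483) (.leaf 17703003))) (.node 1 (.leaf 17659975) (.node 1 (.leaf 17649745) (.leaf 17242185))))
(.node 3 (.node 1 (.leaf 17721415) (.node 1 (.leaf 17125459) (.leaf 16982105))) (.node 1 (.leaf 17004613) (.node 1 (.leaf 17246287) (.leaf 17576001))))))
(.node 12 (.node 6 (.node 3 (.node 1 (.leaf 17242193) (.node 1 (.leaf 17524811) (.leaf 17059933))) (.node 1 (.leaf 17070169) (.node 1 (.leaf 17240157) (.leaf 17508443))))
(.node 3 (.node 1 (.leaf 17643605) (.node 1 (.leaf 17719375) (.leaf 17174599))) (.node 1 (.leaf 17715265) (.node 1 (.leaf 17004637) (.leaf 16982103)))))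
(.node 6 (.node 3 (.node 1 (.leaf 17592395) (.node 1 (.leaf 17262675) (.leaf 17569859))) (.node 1 (.leaf 17510479) (.node 1 (.leaf 17780825) (.leaf 17700957))))
(.node 3 (.node 1 (.leaf 17506389) (.node 1 (.leaf 17659999) (.leaf 17258569))) (.node 1 (.leaf 16920647) (.node 1 (.leaf 17262679) (.leaf 17111121)))))))))
(.node 96 (.node 48 (.node 24 (.node 12 (.node 6 (.node 3 (.node 1 (.leaf 17440859) (.node 1 (.leaf 17463363) (.leaf 17260635))) (.node 1 (.leaf 16988239) (.node 1 (.leaf 17698889) (.leaf 16984153))))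
(.node 3 (.node 1 (.leaf 17195101) (.node 1 (.leaf 17440845) (.leaf 17578051))) (.node 1 (.leaf 17721435) (.node 1 (.leaf 17717327) (.leaf 16998487)))))
(.node 6 (.node 3 (.node 1 (.leaf 17109073) (.node 1 (.leaf 17002561) (.leaf 17178697))) (.node 1 (.leaf 17643589) (.node 1 (.leaf 17592411) (.leaf 17193037))))
(.node 3 (.node 1 (.leaf 16922689) (.node 1 (.leaf 17109071) (.leaf 17461331))) (.node 1 (.leaf 17258567) (.node 1 (.leaf 17262657) (.leaf 17111111))))))
(.node 12 (.node 6 (.node 3 (.node 1 (.leaf 17444931) (.node 1 (.leaf 17705033) (.leaf 17594453))) (.node 1 (.leaf 17715269) (.node 1 (.leaf 16935007) (.leaf 17045595))))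
(.node 3 (.node 1 (.leaf 17584201) (.node 1 (.leaf 16939095) (.leaf 17176659))) (.node 1 (.leaf 17197131) (.node 1 (.leaf 17506373) (.leaf 16920659)))))
(.node 6 (.node 3 (.node 1 (.leaf 17721417) (.node 1 (.leaf 17070165) (.leaf 17045585))) (.node 1 (.leaf 17526861) (.node 1 (.leaf 17256539) (.leaf 17506379))))
(.node 3 (.node 1 (.leaf 17576007) (.node 1 (.leaf 17786975) (.leaf 17766485))) (.node 1 (.leaf 17508447) (.node 1 (.leaf 17592407) (.leaf 17193025)))))))
(.node 24 (.node 12 (.node 6 (.node 3 (.node 1 (.leaf 16922701) (.node 1 (.leaf 17442899) (.leaf 17567835))) (.node 1 (.leaf 17524803) (.node 1 (.leaf 17526877) (.leaf 17195077))))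
(.node 3 (.node 1 (.leaf 17119305) (.node 1 (.leaf 17193049) (.leaf 16982097))) (.node 1 (.leaf 17633367) (.node 1 (.leaf 17586243) (.leaf 17002591)))))
(.node 6 (.node 3 (.node 1 (.leaf 17240153) (.node 1 (.leaf 17119325) (.leaf 17782859))) (.node 1 (.leaf 16937045) (.node 1 (.leaf 16937043) (.leaf 17180761))))
(.node 3 (.node 1 (.leaf 17578069) (.node 1 (.leaf 17510493) (.leaf 17780811))) (.node 1 (.leaf 17522779) (.node 1 (.leaf 17068103) (.leaf 17195093))))))
(.node 12 (.node 6 (.node 3 (.node 1 (.leaf 17045587) (.node 1 (.leaf 17442907) (.leaf 17446999))) (.node 1 (.leaf 17657921) (.node 1 (.leaf 17780817) (.leaf 16932937))))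
(.node 3 (.node 1 (.leaf 17111117) (.node 1 (.leaf 17119323) (.leaf 17782861))) (.node 1 (.leaf 16916569) (.node 1 (.leaf 17594439) (.leaf 17197151)))))
(.node 6 (.node 3 (.node 1 (.leaf 17567823) (.node 1 (.leaf 17446977) (.leaf 17717333))) (.node 1 (.leaf 17459293) (.node 1 (.leaf 17061961) (.leaf 17053765))))
(.node 3 (.node 1 (.leaf 17002575) (.node 1 (.leaf 17440841) (.leaf 17578055))) (.node 1 (.leaf 17721439) (.node 1 (.leaf 17717323) (.leaf 16998483))))))))
(.node 48 (.node 24 (.node 12 (.node 6 (.node 3 (.node 1 (.leaf 17109077) (.node 1 (.leaf 17002565) (.leaf 17178701))) (.node 1 (.leaf 17643585) (.node 1 (.leaf 16986197) (.leaf 17719373))))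
(.node 3 (.node 1 (.leaf 17135697) (.node 1 (.leaf 17109079) (.leaf 17461323))) (.node 1 (.leaf 17258591) (.node 1 (.leaf 17442895) (.leaf 17641539)))))
(.node 6 (.node 3 (.node 1 (.leaf 17784921) (.node 1 (.leaf 17764433) (.leaf 17440857))) (.node 1 (.leaf 17657939) (.node 1 (.leaf 17190983) (.leaf 16988235))))
(.node 3 (.node 1 (.leaf 17197147) (.node 1 (.leaf 17109087) (.leaf 17784901))) (.node 1 (.leaf 17059921) (.node 1 (.leaf 17002567) (.leaf 17178703))))))
(.node 12 (.node 6 (.node 3 (.node 1 (.leaf 17643587) (.node 1 (.leaf 17522763) (.leaf 17125469))) (.node 1 (.leaf 17045593) (.node 1 (.leaf 17526853) (.leaf 17256531))))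
(.node 3 (.node 1 (.leaf 17246299) (.node 1 (.leaf 17643591) (.leaf 17766465))) (.node 1 (.leaf 17461343) (.node 1 (.leaf 17641567) (.leaf 17782865)))))
(.node 6 (.node 3 (.node 1 (.leaf 17000523) (.node 1 (.leaf 17043533) (.leaf 17246295))) (.node 1 (.leaf 17576025) (.node 1 (.leaf 17070155) (.leaf 17240143))))
(.node 3 (.node 1 (.leaf 17719389) (.node 1 (.leaf 17258561) (.leaf 16984139))) (.node 1 (.leaf 17567821) (.node 1 (.leaf 17576003) (.leaf 17700933)))))))
(.node 24 (.node 12 (.node 6 (.node 3 (.node 1 (.leaf 17463385) (.node 1 (.leaf 17719369) (.leaf 17061983))) (.node 1 (.leaf 16918615) (.node 1 (.leaf 17721431) (.leaf 17045583))))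
(.node 3 (.node 1 (.leaf 17526867) (.node 1 (.leaf 17256517) (.leaf 17786945))) (.node 1 (.leaf 17246297) (.node 1 (.leaf 17576023) (.leaf 17567825)))))
(.node 6 (.node 3 (.node 1 (.leaf 17447007) (.node 1 (.leaf 17457243) (.leaf 17070149))) (.node 1 (.leaf 17180749) (.node 1 (.leaf 17260631) (.leaf 17510485))))
(.node 3 (.node 1 (.leaf 17703005) (.node 1 (.leaf 17659969) (.leaf 17717329))) (.node 1 (.leaf 16998473) (.node 1 (.leaf 17117275) (.leaf 17715279))))))
(.node 12 (.node 6 (.node 3 (.node 1 (.leaf 17592389) (.node 1 (.leaf 17262685) (.leaf 17569869))) (.node 1 (.leaf 17780823) (.node 1 (.leaf 17109063) (.leaf 17461339))))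
(.node 3 (.node 1 (.leaf 17258575) (.node 1 (.leaf 17244229) (.leaf 17584209))) (.node 1 (.leaf 17000521) (.node 1 (.leaf 17578073) (.leaf 17526851)))))
(.node 6 (.node 3 (.node 1 (.leaf 17446991) (.node 1 (.leaf 17768519) (.leaf 17657945))) (.node 1 (.leaf 17000517) (.node 1 (.leaf 17119307) (.leaf 17702977))))
(.node 3 (.node 1 (.leaf 17717337) (.node 1 (.leaf 16998465) (.leaf 17135707))) (.node 1 (.leaf 17242205) (.node 1 (.leaf 17444947) (.leaf 17246275))))))))))

/-- The stabiliser. -/
def caseCFullN1ElsLR : Tab ℕ :=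
(.node 192 (.node 96 (.node 48 (.node 24 (.node 12 (.node 6 (.node 3 (.node 1 (.leaf 17651797) (.node 1 (.leaf 16932943) (.leaf 17442909))) (.node 1 (.leaf 17641553) (.node 1 (.leaf 17784907) (.leaf 17782879))))
(.node 3 (.node 1 (.leaf 17043523) (.node 1 (.leaf 17659979) (.leaf 17258589))) (.node 1 (.leaf 17053767) (.node 1 (.leaf 17705039) (.leaf 17043551)))))
(.node 6 (.node 3 (.node 1 (.leaf 17463361) (.node 1 (.leaf 17193045) (.leaf 17195091))) (.node 1 (.leaf 17045589) (.node 1 (.leaf 17446993) (.leaf 17768537))))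
(.node 3 (.node 1 (.leaf 17657927) (.node 1 (.leaf 17111115) (.leaf 17459279))) (.node 1 (.leaf 17061979) (.node 1 (.leaf 17053783) (.leaf 17780803))))))
(.node 12 (.node 6 (.node 3 (.node 1 (.leaf 17002589) (.node 1 (.leaf 17567817) (.leaf 17524817))) (.node 1 (.leaf 17721421) (.node 1 (.leaf 17002583) (.leaf 17178719))))
(.node 3 (.node 1 (.leaf 17643603) (.node 1 (.leaf 17643595) (.leaf 17766477))) (.node 1 (.leaf 17070167) (.node 1 (.leaf 17180767) (.leaf 17059919)))))
(.node 6 (.node 3 (.node 1 (.leaf 17780819) (.node 1 (.leaf 16932939) (.leaf 17111119))) (.node 1 (.leaf 17133649) (.node 1 (.leaf 17512537) (.leaf 17180745))))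
(.node 3 (.node 1 (.leaf 17649757) (.node 1 (.leaf 16998471) (.leaf 17178695))) (.node 1 (.leaf 17633357) (.node 1 (.leaf 17444929) (.leaf 17782869)))))))
(.node 24 (.node 12 (.node 6 (.node 3 (.node 1 (.leaf 17459269) (.node 1 (.leaf 17133657) (.leaf 17244243))) (.node 1 (.leaf 17127511) (.node 1 (.leaf 16916573) (.leaf 16937027))))
(.node 3 (.node 1 (.leaf 17578053) (.node 1 (.leaf 17109085) (.leaf 17461313))) (.node 1 (.leaf 17258581) (.node 1 (.leaf 17244255) (.leaf 17584203)))))
(.node 6 (.node 3 (.node 1 (.leaf 17000531) (.node 1 (.leaf 17764423) (.leaf 17526873))) (.node 1 (.leaf 17446989) (.node 1 (.leaf 17768517) (.leaf 17657947))))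
(.node 3 (.node 1 (.leaf 16932947) (.node 1 (.leaf 17111127) (.leaf 17059905))) (.node 1 (.leaf 16922703) (.node 1 (.leaf 17700939) (.leaf 17705027))))))
(.node 12 (.node 6 (.node 3 (.node 1 (.leaf 17633351) (.node 1 (.leaf 17522781) (.leaf 17657933))) (.node 1 (.leaf 17191001) (.node 1 (.leaf 16988245) (.leaf 17174601))))
(.node 3 (.node 1 (.leaf 17459283) (.node 1 (.leaf 17061959) (.leaf 17705053))) (.node 1 (.leaf 17594433) (.node 1 (.leaf 16988241) (.leaf 17786955)))))
(.node 6 (.node 3 (.node 1 (.leaf 17068117) (.node 1 (.leaf 17463373) (.leaf 17768533))) (.node 1 (.leaf 17524809) (.node 1 (.leaf 17526871) (.leaf 17119299))))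
(.node 3 (.node 1 (.leaf 17193043) (.node 1 (.leaf 16982107) (.leaf 17633373))) (.node 1 (.leaf 17657929) (.node 1 (.leaf 17191005) (.leaf 16998475))))))))
(.node 48 (.node 24 (.node 12 (.node 6 (.node 3 (.node 1 (.leaf 17051719) (.node 1 (.leaf 17770575) (.leaf 17045599))) (.node 1 (.leaf 17256533) (.node 1 (.leaf 17766471) (.leaf 17508429))))
(.node 3 (.node 1 (.leaf 16922719) (.node 1 (.leaf 17256537) (.leaf 16916561))) (.node 1 (.leaf 17635413) (.node 1 (.leaf 16922693) (.leaf 17784925)))))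
(.node 6 (.node 3 (.node 1 (.leaf 17133635) (.node 1 (.leaf 17125455) (.leaf 16920643))) (.node 1 (.leaf 16986203) (.node 1 (.leaf 17526869) (.leaf 17256515))))
(.node 3 (.node 1 (.leaf 17246283) (.node 1 (.leaf 17651805) (.leaf 16932935))) (.node 1 (.leaf 17643607) (.node 1 (.leaf 17766481) (.leaf 17461327))))))
(.node 12 (.node 6 (.node 3 (.node 1 (.leaf 17512515) (.node 1 (.leaf 17770569) (.leaf 17584193))) (.node 1 (.leaf 16939103) (.node 1 (.leaf 17176667) (.leaf 17705037))))
(.node 3 (.node 1 (.leaf 17715287) (.node 1 (.leaf 16934989) (.leaf 17240145))) (.node 1 (.leaf 17510495) (.node 1 (.leaf 17244239) (.leaf 17000515)))))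
(.node 6 (.node 3 (.node 1 (.leaf 17705043) (.node 1 (.leaf 17522765) (.leaf 17528913))) (.node 1 (.leaf 17262667) (.node 1 (.leaf 17051717) (.leaf 16984159))))
(.node 3 (.node 1 (.leaf 17567833) (.node 1 (.leaf 16932949) (.leaf 17053787))) (.node 1 (.leaf 17700951) (.node 1 (.leaf 17506399) (.leaf 17649737)))))))
(.node 24 (.node 12 (.node 6 (.node 3 (.node 1 (.leaf 17195073) (.node 1 (.leaf 17657951) (.leaf 17190987))) (.node 1 (.leaf 16988231) (.node 1 (.leaf 16998493) (.leaf 17770585))))
(.node 3 (.node 1 (.leaf 17176647) (.node 1 (.leaf 17522783) (.leaf 17125449))) (.node 1 (.leaf 17119301) (.node 1 (.leaf 17782867) (.leaf 17770589)))))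
(.node 6 (.node 3 (.node 1 (.leaf 17635419) (.node 1 (.leaf 17457217) (.leaf 17446985))) (.node 1 (.leaf 17768513) (.node 1 (.leaf 17651787) (.leaf 17004629))))
(.node 3 (.node 1 (.leaf 17174611) (.node 1 (.leaf 17702983) (.leaf 17641549))) (.node 1 (.leaf 17784919) (.node 1 (.leaf 17782851) (.leaf 17000537))))))
(.node 12 (.node 6 (.node 3 (.node 1 (.leaf 17004623) (.node 1 (.leaf 17246277) (.leaf 17659991))) (.node 1 (.leaf 16920655) (.node 1 (.leaf 17463389) (.leaf 17193033))))
(.node 3 (.node 1 (.leaf 17193031) (.node 1 (.leaf 16982095) (.leaf 17633353))) (.node 1 (.leaf 17766467) (.node 1 (.leaf 17461341) (.leaf 17786957)))))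
(.node 6 (.node 3 (.node 1 (.leaf 17127515) (.node 1 (.leaf 17119303) (.leaf 17702989))) (.node 1 (.leaf 17698891) (.node 1 (.leaf 17586261) (.leaf 17461317))))
(.node 3 (.node 1 (.leaf 17053779) (.node 1 (.leaf 17463379) (.leaf 17180751))) (.node 1 (.leaf 17649755) (.node 1 (.leaf 17698901) (.leaf 17528905)))))))))
(.node 96 (.node 48 (.node 24 (.node 12 (.node 6 (.node 3 (.node 1 (.leaf 17719363) (.node 1 (.leaf 17109081) (.leaf 17258577))) (.node 1 (.leaf 17705055) (.node 1 (.leaf 17633371) (.leaf 17522753))))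
(.node 3 (.node 1 (.leaf 17528925) (.node 1 (.leaf 17262663) (.leaf 17051721))) (.node 1 (.leaf 17258585) (.node 1 (.leaf 16984147) (.leaf 17567829)))))
(.node 6 (.node 3 (.node 1 (.leaf 16918611) (.node 1 (.leaf 17657935) (.leaf 17260629))) (.node 1 (.leaf 17633349) (.node 1 (.leaf 17444937) (.leaf 17698907))))
(.node 3 (.node 1 (.leaf 17442897) (.node 1 (.leaf 17586245) (.leaf 17594457))) (.node 1 (.leaf 17256525) (.node 1 (.leaf 16986179) (.leaf 17260627))))))
(.node 12 (.node 6 (.node 3 (.node 1 (.leaf 17043543) (.node 1 (.leaf 17262687) (.leaf 17059911))) (.node 1 (.leaf 16922697) (.node 1 (.leaf 17700941) (.leaf 17594435))))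
(.node 3 (.node 1 (.leaf 17508427) (.node 1 (.leaf 17719391) (.leaf 17715273))) (.node 1 (.leaf 16934995) (.node 1 (.leaf 17045591) (.leaf 16937031)))))
(.node 6 (.node 3 (.node 1 (.leaf 17578049) (.node 1 (.leaf 17260615) (.leaf 17510469))) (.node 1 (.leaf 17659985) (.node 1 (.leaf 17717313) (.leaf 16998489))))
(.node 3 (.node 1 (.leaf 17135685) (.node 1 (.leaf 17242179) (.leaf 17444941))) (.node 1 (.leaf 17246301) (.node 1 (.leaf 16932945) (.leaf 17174619)))))))
(.node 24 (.node 12 (.node 6 (.node 3 (.node 1 (.leaf 17459265) (.node 1 (.leaf 17061973) (.leaf 17444933))) (.node 1 (.leaf 17567837) (.node 1 (.leaf 17446995) (.leaf 17125451))))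
(.node 3 (.node 1 (.leaf 16982081) (.node 1 (.leaf 17594441) (.leaf 17256541))) (.node 1 (.leaf 16986195) (.node 1 (.leaf 17702991) (.leaf 17111135)))))
(.node 6 (.node 3 (.node 1 (.leaf 17528897) (.node 1 (.leaf 17190999) (.leaf 17242195))) (.node 1 (.leaf 17059935) (.node 1 (.leaf 17702987) (.leaf 17459285))))
(.node 3 (.node 1 (.leaf 17444959) (.node 1 (.leaf 17705045) (.leaf 17586269))) (.node 1 (.leaf 17240135) (.node 1 (.leaf 17051739) (.leaf 17770579))))))
(.node 12 (.node 6 (.node 3 (.node 1 (.leaf 17260609) (.node 1 (.leaf 17043525) (.leaf 17510467))) (.node 1 (.leaf 17061965) (.node 1 (.leaf 16986177) (.leaf 17635401))))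
(.node 3 (.node 1 (.leaf 17457235) (.node 1 (.leaf 17659971) (.leaf 16920667))) (.node 1 (.leaf 16918599) (.node 1 (.leaf 17242181) (.leaf 17524831)))))
(.node 6 (.node 3 (.node 1 (.leaf 17059913) (.node 1 (.leaf 17592397) (.leaf 17635417))) (.node 1 (.leaf 17512535) (.node 1 (.leaf 17135695) (.leaf 17111131))))
(.node 3 (.node 1 (.leaf 17440849) (.node 1 (.leaf 17715289) (.leaf 16934979))) (.node 1 (.leaf 17045575) (.node 1 (.leaf 17045581) (.leaf 17526865))))))))
(.node 48 (.node 24 (.node 12 (.node 6 (.node 3 (.node 1 (.leaf 17651801) (.node 1 (.leaf 16932931) (.leaf 17512519))) (.node 1 (.leaf 17770573) (.node 1 (.leaf 17592403) (.leaf 17584197))))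
(.node 3 (.node 1 (.leaf 17176671) (.node 1 (.leaf 17053761) (.leaf 17715283))) (.node 1 (.leaf 16934985) (.node 1 (.leaf 17070161) (.leaf 17240149)))))
(.node 6 (.node 3 (.node 1 (.leaf 17510491) (.node 1 (.leaf 17244235) (.leaf 17584223))) (.node 1 (.leaf 17190979) (.node 1 (.leaf 16918601) (.leaf 17764421))))
(.node 3 (.node 1 (.leaf 17526875) (.node 1 (.leaf 16984151) (.leaf 16932941))) (.node 1 (.leaf 17053763) (.node 1 (.leaf 17705035) (.leaf 17700943))))))
(.node 12 (.node 6 (.node 3 (.node 1 (.leaf 17526849) (.node 1 (.leaf 17195097) (.leaf 17119317))) (.node 1 (.leaf 17528917) (.node 1 (.leaf 17586271) (.leaf 16934983))))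
(.node 3 (.node 1 (.leaf 17700945) (.node 1 (.leaf 16920671) (.leaf 17721413))) (.node 1 (.leaf 17256535) (.node 1 (.leaf 17703001) (.leaf 17569887)))))
(.node 6 (.node 3 (.node 1 (.leaf 17459271) (.node 1 (.leaf 17463387) (.leaf 17260611))) (.node 1 (.leaf 17117261) (.node 1 (.leaf 16916565) (.leaf 17635409))))
(.node 3 (.node 1 (.leaf 16932933) (.node 1 (.leaf 17053771) (.leaf 17459273))) (.node 1 (.leaf 17133653) (.node 1 (.leaf 17715281) (.leaf 17070163)))))))
(.node 24 (.node 12 (.node 6 (.node 3 (.node 1 (.leaf 17240151) (.node 1 (.leaf 17510489) (.leaf 17244233))) (.node 1 (.leaf 17584221) (.node 1 (.leaf 17446979) (.leaf 17717335))))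
(.node 3 (.node 1 (.leaf 17180753) (.node 1 (.leaf 17000513) (.leaf 17119311))) (.node 1 (.leaf 17702981) (.node 1 (.leaf 17698883) (.leaf 17442889)))))
(.node 6 (.node 3 (.node 1 (.leaf 17461325) (.node 1 (.leaf 17133637) (.leaf 17174593))) (.node 1 (.leaf 17512525) (.node 1 (.leaf 17244237) (.leaf 17584217))))
(.node 3 (.node 1 (.leaf 16986191) (.node 1 (.leaf 17719383) (.leaf 17135691))) (.node 1 (.leaf 17700955) (.node 1 (.leaf 17506387) (.leaf 17649733))))))
(.node 12 (.node 6 (.node 3 (.node 1 (.leaf 17178709) (.node 1 (.leaf 16935003) (.leaf 17702999))) (.node 1 (.leaf 16937025) (.node 1 (.leaf 16934997) (.leaf 17117273))))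
(.node 3 (.node 1 (.leaf 17768531) (.node 1 (.leaf 17133641) (.leaf 17174605))) (.node 1 (.leaf 17512513) (.node 1 (.leaf 17127493) (.leaf 16916559)))))
(.node 6 (.node 3 (.node 1 (.leaf 16937041) (.node 1 (.leaf 17180763) (.leaf 17578071))) (.node 1 (.leaf 17578065) (.node 1 (.leaf 17764437) (.leaf 17526859))))
(.node 3 (.node 1 (.leaf 17526879) (.node 1 (.leaf 17195079) (.leaf 16920657))) (.node 1 (.leaf 16918597) (.node 1 (.leaf 17180747) (.leaf 17649759))))))))))

/-- The stabiliser. -/
def caseCFullN1ElsL : Tab ℕ := .node 384 caseCFullN1ElsLL caseCFullN1ElsLR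

/-- The stabiliser. -/
def caseCFullN1ElsRL : Tab ℕ :=
(.node 192 (.node 96 (.node 48 (.node 24 (.node 12 (.node 6 (.node 3 (.node 1 (.leaf 16998469) (.node 1 (.leaf 16988233) (.leaf 17068109))) (.node 1 (.leaf 17766493) (.node 1 (.leaf 17508439) (.leaf 17764417))))
(.node 3 (.node 1 (.leaf 17524807) (.node 1 (.leaf 17135705) (.leaf 17178707))) (.node 1 (.leaf 17127491) (.node 1 (.leaf 16988237) (.leaf 17643611)))))
(.node 6 (.node 3 (.node 1 (.leaf 17461315) (.node 1 (.leaf 17000535) (.leaf 17119321))) (.node 1 (.leaf 17702995) (.node 1 (.leaf 17442911) (.leaf 17586251))))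
(.node 3 (.node 1 (.leaf 17197121) (.node 1 (.leaf 17053773) (.leaf 17133639))) (.node 1 (.leaf 17174595) (.node 1 (.leaf 17512527) (.leaf 17649739))))))
(.node 12 (.node 6 (.node 3 (.node 1 (.leaf 16998481) (.node 1 (.leaf 16918617) (.leaf 17657925))) (.node 1 (.leaf 17260639) (.node 1 (.leaf 17524801) (.leaf 17059927))))
(.node 3 (.node 1 (.leaf 17786973) (.node 1 (.leaf 17127499) (.leaf 16916545))) (.node 1 (.leaf 17242199) (.node 1 (.leaf 17444953) (.leaf 17592393)))))
(.node 6 (.node 3 (.node 1 (.leaf 17193055) (.node 1 (.leaf 16922707) (.leaf 17061981))) (.node 1 (.leaf 17053777) (.node 1 (.leaf 17002587) (.leaf 17768523))))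
(.node 3 (.node 1 (.leaf 17524823) (.node 1 (.leaf 17512541) (.leaf 17770583))) (.node 1 (.leaf 16939073) (.node 1 (.leaf 17176645) (.leaf 17657941)))))))
(.node 24 (.node 12 (.node 6 (.node 3 (.node 1 (.leaf 17522771) (.node 1 (.leaf 17657923) (.leaf 16988251))) (.node 1 (.leaf 16984133) (.node 1 (.leaf 17659995) (.leaf 17594447))))
(.node 3 (.node 1 (.leaf 17705051) (.node 1 (.leaf 17700959) (.leaf 17506391))) (.node 1 (.leaf 17649729) (.node 1 (.leaf 17195081) (.leaf 17068123)))))
(.node 6 (.node 3 (.node 1 (.leaf 17176669) (.node 1 (.leaf 17442905) (.leaf 17641557))) (.node 1 (.leaf 17784911) (.node 1 (.leaf 17242183) (.leaf 17246289))))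
(.node 3 (.node 1 (.leaf 17651783) (.node 1 (.leaf 17698885) (.leaf 17586267))) (.node 1 (.leaf 17242187) (.node 1 (.leaf 17717343) (.leaf 16939075))))))
(.node 12 (.node 6 (.node 3 (.node 1 (.leaf 17569877) (.node 1 (.leaf 17459277) (.leaf 17649747))) (.node 1 (.leaf 16937039) (.node 1 (.leaf 17260625) (.leaf 17043541))))
(.node 3 (.node 1 (.leaf 17508445) (.node 1 (.leaf 17512533) (.leaf 17770591))) (.node 1 (.leaf 17592385) (.node 1 (.leaf 17584215) (.leaf 17176653)))))
(.node 6 (.node 3 (.node 1 (.leaf 17784897) (.node 1 (.leaf 17059925) (.leaf 16984157))) (.node 1 (.leaf 17002563) (.node 1 (.leaf 17178699) (.leaf 17176663))))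
(.node 3 (.node 1 (.leaf 17522767) (.node 1 (.leaf 17125465) (.leaf 17133661))) (.node 1 (.leaf 17174617) (.node 1 (.leaf 17576019) (.leaf 17240129))))))))
(.node 48 (.node 24 (.node 12 (.node 6 (.node 3 (.node 1 (.leaf 17528903) (.node 1 (.leaf 17190993) (.leaf 17178715))) (.node 1 (.leaf 17586253) (.node 1 (.leaf 17576005) (.leaf 17700931))))
(.node 3 (.node 1 (.leaf 17510481) (.node 1 (.leaf 17659973) (.leaf 17117271))) (.node 1 (.leaf 17768541) (.node 1 (.leaf 17567813) (.leaf 17524829)))))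
(.node 6 (.node 3 (.node 1 (.leaf 17195099) (.node 1 (.leaf 17119319) (.leaf 17440851))) (.node 1 (.leaf 16937035) (.node 1 (.leaf 17117259) (.leaf 17766469))))
(.node 3 (.node 1 (.leaf 17508431) (.node 1 (.leaf 17051741) (.leaf 17000525))) (.node 1 (.leaf 17242197) (.node 1 (.leaf 17524815) (.leaf 17059929))))))
(.node 12 (.node 6 (.node 3 (.node 1 (.leaf 17051735) (.node 1 (.leaf 16939101) (.leaf 17569867))) (.node 1 (.leaf 17635403) (.node 1 (.leaf 17512517) (.leaf 17135709))))
(.node 3 (.node 1 (.leaf 17262671) (.node 1 (.leaf 17111113) (.leaf 17440835))) (.node 1 (.leaf 17705031) (.node 1 (.leaf 17594459) (.leaf 17715275)))))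
(.node 6 (.node 3 (.node 1 (.leaf 16934993) (.node 1 (.leaf 16918593) (.leaf 17657949))) (.node 1 (.leaf 17444955) (.node 1 (.leaf 17070147) (.leaf 17510473))))
(.node 3 (.node 1 (.leaf 17244249) (.node 1 (.leaf 17584205) (.leaf 17719387))) (.node 1 (.leaf 17135687) (.node 1 (.leaf 17786959) (.leaf 17127513)))))))
(.node 24 (.node 12 (.node 6 (.node 3 (.node 1 (.leaf 16916563) (.node 1 (.leaf 17135683) (.leaf 17459287))) (.node 1 (.leaf 17133643) (.node 1 (.leaf 17444957) (.leaf 17594443))))
(.node 3 (.node 1 (.leaf 17240133) (.node 1 (.leaf 16998485) (.leaf 17051737))) (.node 1 (.leaf 17770577) (.node 1 (.leaf 17719371) (.leaf 17240159)))))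
(.node 6 (.node 3 (.node 1 (.leaf 17127507) (.node 1 (.leaf 17135701) (.leaf 17440855))) (.node 1 (.leaf 17721409) (.node 1 (.leaf 16939087) (.leaf 17176651))))
(.node 3 (.node 1 (.leaf 17070171) (.node 1 (.leaf 16916551) (.leaf 17659983))) (.node 1 (.leaf 17635393) (.node 1 (.leaf 16918621) (.leaf 17446983))))))
(.node 12 (.node 6 (.node 3 (.node 1 (.leaf 17068113) (.node 1 (.leaf 16986181) (.leaf 16998479))) (.node 1 (.leaf 17109065) (.node 1 (.leaf 17246285) (.leaf 17651803))))
(.node 3 (.node 1 (.leaf 16932929) (.node 1 (.leaf 17053769) (.leaf 17506381))) (.node 1 (.leaf 17068097) (.node 1 (.leaf 17446987) (.leaf 17442883)))))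
(.node 6 (.node 3 (.node 1 (.leaf 17784917) (.node 1 (.leaf 16937049) (.leaf 16920649))) (.node 1 (.leaf 17721427) (.node 1 (.leaf 17070159) (.leaf 17698911))))
(.node 3 (.node 1 (.leaf 17442901) (.node 1 (.leaf 17524819) (.leaf 17059909))) (.node 1 (.leaf 17051723) (.node 1 (.leaf 17717341) (.leaf 17702993)))))))))
(.node 96 (.node 48 (.node 24 (.node 12 (.node 6 (.node 3 (.node 1 (.leaf 17569879) (.node 1 (.leaf 17586247) (.leaf 17051713))) (.node 1 (.leaf 17459289) (.node 1 (.leaf 17258587) (.leaf 16984145))))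
(.node 3 (.node 1 (.leaf 17567831) (.node 1 (.leaf 17068099) (.leaf 17782873))) (.node 1 (.leaf 16916557) (.node 1 (.leaf 17569857) (.leaf 17463365)))))
(.node 6 (.node 3 (.node 1 (.leaf 17260637) (.node 1 (.leaf 17117267) (.leaf 16916555))) (.node 1 (.leaf 17635407) (.node 1 (.leaf 16939093) (.leaf 17244253))))
(.node 3 (.node 1 (.leaf 17641555) (.node 1 (.leaf 17635415) (.leaf 17135681))) (.node 1 (.leaf 17119313) (.node 1 (.leaf 17782855) (.leaf 17641541))))))
(.node 12 (.node 6 (.node 3 (.node 1 (.leaf 17698881) (.node 1 (.leaf 16982099) (.leaf 17766473))) (.node 1 (.leaf 17508419) (.node 1 (.leaf 17717325) (.leaf 16939089))))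
(.node 3 (.node 1 (.leaf 17633359) (.node 1 (.leaf 17782871) (.leaf 17698897))) (.node 1 (.leaf 17586255) (.node 1 (.leaf 17260633) (.leaf 17043549)))))
(.node 6 (.node 3 (.node 1 (.leaf 17508437) (.node 1 (.leaf 17528911) (.leaf 17262677))) (.node 1 (.leaf 17059917) (.node 1 (.leaf 16922691) (.leaf 17700935))))
(.node 3 (.node 1 (.leaf 16916567) (.node 1 (.leaf 17197137) (.leaf 17702979))) (.node 1 (.leaf 17569861) (.node 1 (.leaf 17109083) (.leaf 17506385)))))))
(.node 24 (.node 12 (.node 6 (.node 3 (.node 1 (.leaf 17117249) (.node 1 (.leaf 17715285) (.leaf 17004617))) (.node 1 (.leaf 17053789) (.node 1 (.leaf 17719377) (.leaf 17135693))))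
(.node 3 (.node 1 (.leaf 17109067) (.node 1 (.leaf 17461335) (.leaf 17258571))) (.node 1 (.leaf 16984129) (.node 1 (.leaf 17567815) (.leaf 17461319)))))
(.node 6 (.node 3 (.node 1 (.leaf 17197149) (.node 1 (.leaf 17061957) (.leaf 17764431))) (.node 1 (.leaf 16982111) (.node 1 (.leaf 17592387) (.leaf 17262683))))
(.node 3 (.node 1 (.leaf 16984155) (.node 1 (.leaf 17700949) (.leaf 17463369))) (.node 1 (.leaf 17719385) (.node 1 (.leaf 17061967) (.leaf 17193047))))))
(.node 12 (.node 6 (.node 3 (.node 1 (.leaf 17633369) (.node 1 (.leaf 17698899) (.leaf 17197127))) (.node 1 (.leaf 17174609) (.node 1 (.leaf 17576027) (.leaf 17786947))))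
(.node 3 (.node 1 (.leaf 17240137) (.node 1 (.leaf 16986207) (.leaf 17719367))) (.node 1 (.leaf 17506371) (.node 1 (.leaf 17649749) (.leaf 17457245)))))
(.node 6 (.node 3 (.node 1 (.leaf 17127497) (.node 1 (.leaf 17784927) (.leaf 17119297))) (.node 1 (.leaf 16937033) (.node 1 (.leaf 17447003) (.leaf 17180741))))
(.node 3 (.node 1 (.leaf 17578057) (.node 1 (.leaf 17459267) (.leaf 17061975))) (.node 1 (.leaf 17242189) (.node 1 (.leaf 17782857) (.leaf 16937047))))))))
(.node 48 (.node 24 (.node 12 (.node 6 (.node 3 (.node 1 (.leaf 17567819) (.node 1 (.leaf 17446981) (.leaf 17764439))) (.node 1 (.leaf 17440863) (.node 1 (.leaf 17190977) (.leaf 16920645))))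
(.node 3 (.node 1 (.leaf 16918609) (.node 1 (.leaf 17240155) (.leaf 17262659))) (.node 1 (.leaf 17440847) (.node 1 (.leaf 17043545) (.leaf 17463367)))))
(.node 6 (.node 3 (.node 1 (.leaf 17578061) (.node 1 (.leaf 17721429) (.leaf 17256521))) (.node 1 (.leaf 16986183) (.node 1 (.leaf 17569875) (.leaf 17459275))))
(.node 3 (.node 1 (.leaf 17463383) (.node 1 (.leaf 17260623) (.leaf 17256529))) (.node 1 (.leaf 17176657) (.node 1 (.leaf 17004639) (.leaf 17004635))))))
(.node 12 (.node 6 (.node 3 (.node 1 (.leaf 17576031) (.node 1 (.leaf 17717315) (.leaf 17070157))) (.node 1 (.leaf 17043547) (.node 1 (.leaf 17508435) (.leaf 17659977))))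
(.node 3 (.node 1 (.leaf 17715271) (.node 1 (.leaf 17780831) (.leaf 17506369))) (.node 1 (.leaf 17576013) (.node 1 (.leaf 17786965) (.leaf 16932955)))))
(.node 6 (.node 3 (.node 1 (.leaf 17244231) (.node 1 (.leaf 17641545) (.leaf 17586257))) (.node 1 (.leaf 17510477) (.node 1 (.leaf 17659993) (.leaf 17649743))))
(.node 3 (.node 1 (.leaf 17133659) (.node 1 (.leaf 17174623) (.leaf 17512531))) (.node 1 (.leaf 17193051) (.node 1 (.leaf 17633365) (.leaf 17766489)))))))
(.node 24 (.node 12 (.node 6 (.node 3 (.node 1 (.leaf 16922711) (.node 1 (.leaf 17700947) (.leaf 16916547))) (.node 1 (.leaf 17197125) (.node 1 (.leaf 16986189) (.leaf 17135689))))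
(.node 3 (.node 1 (.leaf 17700953) (.node 1 (.leaf 17698887) (.leaf 17068125))) (.node 1 (.leaf 17246293) (.node 1 (.leaf 17780821) (.leaf 17002571)))))
(.node 6 (.node 3 (.node 1 (.leaf 16922695) (.node 1 (.leaf 17133633) (.leaf 17700929))) (.node 1 (.leaf 17506377) (.node 1 (.leaf 17440839) (.leaf 17766487))))
(.node 3 (.node 1 (.leaf 17135699) (.node 1 (.leaf 17578079) (.leaf 16922713))) (.node 1 (.leaf 17133663) (.node 1 (.leaf 17651795) (.leaf 17578063))))))
(.node 12 (.node 6 (.node 3 (.node 1 (.leaf 17764427) (.node 1 (.leaf 17705029) (.leaf 17526863))) (.node 1 (.leaf 17195095) (.node 1 (.leaf 17119315) (.leaf 17782853))))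
(.node 3 (.node 1 (.leaf 17764443) (.node 1 (.leaf 16988225) (.leaf 17526855))) (.node 1 (.leaf 17195103) (.node 1 (.leaf 17125445) (.leaf 17127495)))))
(.node 6 (.node 3 (.node 1 (.leaf 17698895) (.node 1 (.leaf 17459291) (.leaf 17193053))) (.node 1 (.leaf 16922705) (.node 1 (.leaf 17594449) (.leaf 17522773))))
(.node 3 (.node 1 (.leaf 17125443) (.node 1 (.leaf 17111125) (.leaf 17528907))) (.node 1 (.leaf 17457229) (.node 1 (.leaf 17190997) (.leaf 16918623))))))))))

/-- The stabiliser. -/
def caseCFullN1ElsRR : Tab ℕ :=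
(.node 192 (.node 96 (.node 48 (.node 24 (.node 12 (.node 6 (.node 3 (.node 1 (.leaf 17569883) (.node 1 (.leaf 16934991) (.leaf 17117251))) (.node 1 (.leaf 17768521) (.node 1 (.leaf 16988249) (.leaf 17459295))))
(.node 3 (.node 1 (.leaf 17786971) (.node 1 (.leaf 17068101) (.leaf 17770571))) (.node 1 (.leaf 17635405) (.node 1 (.leaf 17457239) (.leaf 17461329)))))
(.node 6 (.node 3 (.node 1 (.leaf 17258565) (.node 1 (.leaf 17526857) (.leaf 17004633))) (.node 1 (.leaf 17000527) (.node 1 (.leaf 17717331) (.leaf 17246281))))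
(.node 3 (.node 1 (.leaf 17592409) (.node 1 (.leaf 17193039) (.leaf 17768539))) (.node 1 (.leaf 17567839) (.node 1 (.leaf 17584207) (.leaf 17176661))))))
(.node 12 (.node 6 (.node 3 (.node 1 (.leaf 17059915) (.node 1 (.leaf 16984131) (.leaf 17643609))) (.node 1 (.leaf 17176649) (.node 1 (.leaf 17522769) (.leaf 17125447))))
(.node 3 (.node 1 (.leaf 17002585) (.node 1 (.leaf 16939079) (.leaf 17641537))) (.node 1 (.leaf 17635397) (.node 1 (.leaf 17524813) (.leaf 17178713)))))
(.node 6 (.node 3 (.node 1 (.leaf 17522777) (.node 1 (.leaf 17059931) (.leaf 17457233))) (.node 1 (.leaf 17635399) (.node 1 (.leaf 17197145) (.leaf 17053781))))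
(.node 3 (.node 1 (.leaf 17190981) (.node 1 (.leaf 16918607) (.leaf 17002569))) (.node 1 (.leaf 17463371) (.node 1 (.leaf 17117277) (.leaf 17002573)))))))
(.node 24 (.node 12 (.node 6 (.node 3 (.node 1 (.leaf 17643593) (.node 1 (.leaf 17244241) (.leaf 17512543))) (.node 1 (.leaf 17522755) (.node 1 (.leaf 17125461) (.leaf 17719361))))
(.node 3 (.node 1 (.leaf 17180755) (.node 1 (.leaf 16935005) (.leaf 17117265))) (.node 1 (.leaf 17174597) (.node 1 (.leaf 17061963) (.leaf 17524821)))))
(.node 6 (.node 3 (.node 1 (.leaf 17178689) (.node 1 (.leaf 17569881) (.leaf 16982083))) (.node 1 (.leaf 16982087) (.node 1 (.leaf 17633345) (.leaf 16988253))))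
(.node 3 (.node 1 (.leaf 17643615) (.node 1 (.leaf 17444949) (.leaf 17782849))) (.node 1 (.leaf 17459281) (.node 1 (.leaf 17133645) (.leaf 17592399))))))
(.node 12 (.node 6 (.node 3 (.node 1 (.leaf 17127517) (.node 1 (.leaf 16984137) (.leaf 17051725))) (.node 1 (.leaf 17770565) (.node 1 (.leaf 17256543) (.leaf 17651799))))
(.node 3 (.node 1 (.leaf 17174607) (.node 1 (.leaf 17000543) (.leaf 17698903))) (.node 1 (.leaf 17786951) (.node 1 (.leaf 17586263) (.leaf 17457241)))))
(.node 6 (.node 3 (.node 1 (.leaf 17127501) (.node 1 (.leaf 17004619) (.leaf 17633375))) (.node 1 (.leaf 17522757) (.node 1 (.leaf 17442893) (.leaf 17784923))))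
(.node 3 (.node 1 (.leaf 17004611) (.node 1 (.leaf 17262681) (.leaf 17768535))) (.node 1 (.leaf 17786953) (.node 1 (.leaf 17127519) (.leaf 17180737))))))))
(.node 48 (.node 24 (.node 12 (.node 6 (.node 3 (.node 1 (.leaf 17174621) (.node 1 (.leaf 17061971) (.leaf 17442903))) (.node 1 (.leaf 17641563) (.node 1 (.leaf 16988243) (.leaf 16920651))))
(.node 3 (.node 1 (.leaf 17721425) (.node 1 (.leaf 17698909) (.leaf 17586265))) (.node 1 (.leaf 17240131) (.node 1 (.leaf 17111133) (.leaf 16988227)))))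
(.node 6 (.node 3 (.node 1 (.leaf 17786969) (.node 1 (.leaf 17594437) (.leaf 17043531))) (.node 1 (.leaf 17764435) (.node 1 (.leaf 17651791) (.leaf 17004621))))
(.node 3 (.node 1 (.leaf 17174603) (.node 1 (.leaf 17068121) (.leaf 17766479))) (.node 1 (.leaf 17461321) (.node 1 (.leaf 17197139) (.leaf 17053791))))))
(.node 12 (.node 6 (.node 3 (.node 1 (.leaf 17780801) (.node 1 (.leaf 17635395) (.leaf 17766495))) (.node 1 (.leaf 17584195) (.node 1 (.leaf 17592413) (.leaf 17061953))))
(.node 3 (.node 1 (.leaf 17592391) (.node 1 (.leaf 17240139) (.leaf 17061977))) (.node 1 (.leaf 17447005) (.node 1 (.leaf 17657931) (.leaf 17061969)))))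
(.node 6 (.node 3 (.node 1 (.leaf 17068119) (.node 1 (.leaf 17641561) (.leaf 17784899))) (.node 1 (.leaf 17512539) (.node 1 (.leaf 17242191) (.leaf 17043537))))
(.node 3 (.node 1 (.leaf 17508441) (.node 1 (.leaf 17780829) (.leaf 17528915))) (.node 1 (.leaf 17700937) (.node 1 (.leaf 17244245) (.leaf 17068115)))))))
(.node 24 (.node 12 (.node 6 (.node 3 (.node 1 (.leaf 17447001) (.node 1 (.leaf 17784903) (.leaf 17578075))) (.node 1 (.leaf 17764447) (.node 1 (.leaf 17784913) (.leaf 16984141))))
(.node 3 (.node 1 (.leaf 16988247) (.node 1 (.leaf 17721433) (.leaf 17070153))) (.node 1 (.leaf 17004625) (.node 1 (.leaf 17174615) (.leaf 17780815)))))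
(.node 6 (.node 3 (.node 1 (.leaf 17002577) (.node 1 (.leaf 17195075) (.leaf 17045573))) (.node 1 (.leaf 17719379) (.node 1 (.leaf 16918605) (.leaf 17641559))))
(.node 3 (.node 1 (.leaf 17457247) (.node 1 (.leaf 16986199) (.leaf 17717317))) (.node 1 (.leaf 17242177) (.node 1 (.leaf 17444943) (.leaf 17246303))))))
(.node 12 (.node 6 (.node 3 (.node 1 (.leaf 17651785) (.node 1 (.leaf 17070173) (.leaf 17698893))) (.node 1 (.leaf 17442887) (.node 1 (.leaf 17256527) (.leaf 17193029))))
(.node 3 (.node 1 (.leaf 16982093) (.node 1 (.leaf 17633355) (.leaf 17127505))) (.node 1 (.leaf 16988255) (.node 1 (.leaf 17135703) (.leaf 17721411)))))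
(.node 6 (.node 3 (.node 1 (.leaf 17584211) (.node 1 (.leaf 16939085) (.leaf 16982091))) (.node 1 (.leaf 17000541) (.node 1 (.leaf 17506383) (.leaf 17649753))))
(.node 3 (.node 1 (.leaf 16937053) (.node 1 (.leaf 17043527) (.leaf 17190995))) (.node 1 (.leaf 17643597) (.node 1 (.leaf 17659997) (.leaf 17111123)))))))))
(.node 96 (.node 48 (.node 24 (.node 12 (.node 6 (.node 3 (.node 1 (.leaf 16918595) (.node 1 (.leaf 17244247) (.leaf 17440833))) (.node 1 (.leaf 16939097) (.node 1 (.leaf 17569865) (.leaf 16922715))))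
(.node 3 (.node 1 (.leaf 16986201) (.node 1 (.leaf 17528899) (.leaf 17524805))) (.node 1 (.leaf 17178705) (.node 1 (.leaf 17262665) (.leaf 17440837)))))
(.node 6 (.node 3 (.node 1 (.leaf 17715277) (.node 1 (.leaf 16934999) (.leaf 17633361))) (.node 1 (.leaf 17457219) (.node 1 (.leaf 17043529) (.leaf 17246291))))
(.node 3 (.node 1 (.leaf 17576029) (.node 1 (.leaf 17703007) (.leaf 17569871))) (.node 1 (.leaf 16916549) (.node 1 (.leaf 17768529) (.leaf 17463375))))))
(.node 12 (.node 6 (.node 3 (.node 1 (.leaf 17721437) (.node 1 (.leaf 17256513) (.leaf 17125463))) (.node 1 (.leaf 16982109) (.node 1 (.leaf 17643613) (.leaf 17133647))))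
(.node 3 (.node 1 (.leaf 17178717) (.node 1 (.leaf 17643601) (.leaf 17721423))) (.node 1 (.leaf 17717339) (.node 1 (.leaf 17109061) (.leaf 17258579)))))
(.node 6 (.node 3 (.node 1 (.leaf 17457227) (.node 1 (.leaf 17784905) (.leaf 17576021))) (.node 1 (.leaf 17576015) (.node 1 (.leaf 17463381) (.leaf 17244251))))
(.node 3 (.node 1 (.leaf 17045579) (.node 1 (.leaf 17246273) (.leaf 17180757))) (.node 1 (.leaf 17070151) (.node 1 (.leaf 17508421) (.leaf 17068107)))))))
(.node 24 (.node 12 (.node 6 (.node 3 (.node 1 (.leaf 17768527) (.node 1 (.leaf 17195085) (.leaf 17657937))) (.node 1 (.leaf 17260619) (.node 1 (.leaf 16986205) (.leaf 17260621))))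
(.node 3 (.node 1 (.leaf 17109057) (.node 1 (.leaf 17195089) (.leaf 16986187))) (.node 1 (.leaf 17461333) (.node 1 (.leaf 17178691) (.leaf 17197135)))))
(.node 6 (.node 3 (.node 1 (.leaf 17262661) (.node 1 (.leaf 17127503) (.leaf 17059923))) (.node 1 (.leaf 17051743) (.node 1 (.leaf 17457231) (.leaf 17651781))))
(.node 3 (.node 1 (.leaf 17127509) (.node 1 (.leaf 17522759) (.leaf 17125457))) (.node 1 (.leaf 17442885) (.node 1 (.leaf 17784915) (.leaf 17528921))))))
(.node 12 (.node 6 (.node 3 (.node 1 (.leaf 17764429) (.node 1 (.leaf 17770563) (.leaf 17578077))) (.node 1 (.leaf 17117279) (.node 1 (.leaf 17004631) (.leaf 17766475))))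
(.node 3 (.node 1 (.leaf 16916575) (.node 1 (.leaf 17764441) (.leaf 17567809))) (.node 1 (.leaf 17524825) (.node 1 (.leaf 17569885) (.leaf 17176643)))))
(.node 6 (.node 3 (.node 1 (.leaf 17786949) (.node 1 (.leaf 17262673) (.leaf 17125453))) (.node 1 (.leaf 17059907) (.node 1 (.leaf 17190991) (.leaf 16982101))))
(.node 3 (.node 1 (.leaf 17786967) (.node 1 (.leaf 17506397) (.leaf 17512529))) (.node 1 (.leaf 17780809) (.node 1 (.leaf 16982085) (.leaf 17510487))))))))
(.node 48 (.node 24 (.node 12 (.node 6 (.node 3 (.node 1 (.leaf 17000539) (.node 1 (.leaf 16984135) (.leaf 17043535))) (.node 1 (.leaf 17508423) (.node 1 (.leaf 16934977) (.leaf 16922699))))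
(.node 3 (.node 1 (.leaf 17258573) (.node 1 (.leaf 17592405) (.leaf 17659981))) (.node 1 (.leaf 16922717) (.node 1 (.leaf 17193041) (.leaf 16934981)))))
(.node 6 (.node 3 (.node 1 (.leaf 17768515) (.node 1 (.leaf 17764425) (.leaf 17244227))) (.node 1 (.leaf 17258583) (.node 1 (.leaf 17786961) (.leaf 17068111))))
(.node 3 (.node 1 (.leaf 17061955) (.node 1 (.leaf 16920661) (.leaf 17780827))) (.node 1 (.leaf 17659987) (.node 1 (.leaf 17111107) (.leaf 17506395))))))
(.node 12 (.node 6 (.node 3 (.node 1 (.leaf 17649741) (.node 1 (.leaf 16920665) (.leaf 16920641))) (.node 1 (.leaf 17594445) (.node 1 (.leaf 17197141) (.leaf 17641547))))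
(.node 3 (.node 1 (.leaf 17180765) (.node 1 (.leaf 17190985) (.leaf 17569863))) (.node 1 (.leaf 17246279) (.node 1 (.leaf 17576017) (.leaf 17109059)))))
(.node 6 (.node 3 (.node 1 (.leaf 17444945) (.node 1 (.leaf 17512521) (.leaf 17715295))) (.node 1 (.leaf 17510471) (.node 1 (.leaf 16998491) (.leaf 17524827))))
(.node 3 (.node 1 (.leaf 17070175) (.node 1 (.leaf 16988229) (.leaf 17197133))) (.node 1 (.leaf 16918619) (.node 1 (.leaf 17766483) (.leaf 17592401)))))))
(.node 24 (.node 12 (.node 6 (.node 3 (.node 1 (.leaf 17576009) (.node 1 (.leaf 17180759) (.leaf 16916553))) (.node 1 (.leaf 17191003) (.node 1 (.leaf 16984143) (.leaf 17045571))))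
(.node 3 (.node 1 (.leaf 17068105) (.node 1 (.leaf 16984149) (.leaf 17719365))) (.node 1 (.leaf 17651793) (.node 1 (.leaf 16986193) (.leaf 17510475)))))
(.node 6 (.node 3 (.node 1 (.leaf 17442891) (.node 1 (.leaf 17070145) (.leaf 17635423))) (.node 1 (.leaf 17051733) (.node 1 (.leaf 17457221) (.leaf 17567827))))
(.node 3 (.node 1 (.leaf 17717321) (.node 1 (.leaf 17528909) (.leaf 17117253))) (.node 1 (.leaf 17133655) (.node 1 (.leaf 17444935) (.leaf 16920669))))))
(.node 12 (.node 6 (.node 3 (.node 1 (.leaf 17045569) (.node 1 (.leaf 17195083) (.leaf 17256523))) (.node 1 (.leaf 17125471) (.node 1 (.leaf 17633347) (.leaf 16939091))))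
(.node 3 (.node 1 (.leaf 17780807) (.node 1 (.leaf 17111105) (.leaf 17567811))) (.node 1 (.leaf 17641543) (.node 1 (.leaf 17528927) (.leaf 16920663)))))
(.node 6 (.node 3 (.node 1 (.leaf 16982089) (.node 1 (.leaf 17125467) (.leaf 17705049))) (.node 1 (.leaf 16932959) (.node 1 (.leaf 17594455) (.leaf 17594463))))
(.node 3 (.node 1 (.leaf 16918603) (.node 1 (.leaf 17193027) (.leaf 17657943))) (.node 1 (.leaf 17651779) (.node 1 (.leaf 16916571) (.leaf 16932953))))))))))

/-- The stabiliser. -/
def caseCFullN1ElsR : Tab ℕ := .node 384 caseCFullN1ElsRL caseCFullN1ElsRR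

/-- The stabiliser. -/
def caseCFullN1Els : Tab ℕ := .node 768 caseCFullN1ElsL caseCFullN1ElsR

/-- Its index. -/
def caseCFullN1Ix : BT ℕ :=
(.node 17440833 1346
(.node 17109057 1398
(.node 16998465 379
(.node 16937025 747
(.node 16922689 210
(.node 16918609 1062
(.node 16916569 273
(.node 16916557 969
(.node 16916551 931 (.node 16916547 1106 (.node 16916545 800 .tip .tip) (.node 16916549 1365 .tip .tip)) (.node 16916555 974 (.node 16916553 1490 .tip .tip) .tip))
(.node 16916563 912 (.node 16916561 488 (.node 16916559 755 .tip .tip) .tip) (.node 16916567 1002 (.node 16916565 712 .tip .tip) .tip)))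
(.node 16918597 765
(.node 16916575 1422 (.node 16916573 436 (.node 16916571 1534 .tip .tip) .tip) (.node 16918595 1344 (.node 16918593 901 .tip .tip) .tip))
(.node 16918603 1530 (.node 16918601 688 (.node 16918599 657 .tip .tip) .tip) (.node 16918607 1195 (.node 16918605 1312 .tip .tip) .tip))))
(.node 16920649 950
(.node 16918621 934
(.node 16918615 339 (.node 16918613 71 (.node 16918611 588 .tip .tip) .tip) (.node 16918619 1485 (.node 16918617 793 .tip .tip) .tip))
(.node 16920643 494 (.node 16920641 1466 (.node 16918623 1151 .tip .tip) .tip) (.node 16920647 189 (.node 16920645 1061 .tip .tip) .tip)))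
(.node 16920661 1459
(.node 16920655 555 (.node 16920653 91 (.node 16920651 1253 .tip .tip) .tip) (.node 16920659 227 (.node 16920657 764 .tip .tip) .tip))
(.node 16920667 656 (.node 16920665 1465 (.node 16920663 1523 .tip .tip) .tip) (.node 16920671 703 (.node 16920669 1511 .tip .tip) .tip)))))
(.node 16932945 622
(.node 16922713 1124
(.node 16922701 240
(.node 16922695 1116 (.node 16922693 490 (.node 16922691 1000 .tip .tip) .tip) (.node 16922699 1445 (.node 16922697 603 .tip .tip) .tip))
(.node 16922707 805 (.node 16922705 1143 (.node 16922703 453 .tip .tip) .tip) (.node 16922711 1104 (.node 16922709 126 .tip .tip) .tip)))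
(.node 16932933 714
(.node 16922719 486 (.node 16922717 1449 (.node 16922715 1349 .tip .tip) .tip) (.node 16932931 673 (.node 16932929 942 .tip .tip) .tip))
(.node 16932939 421 (.node 16932937 269 (.node 16932935 500 .tip .tip) .tip) (.node 16932943 385 (.node 16932941 692 .tip .tip) .tip))))
(.node 16934985 681
(.node 16932957 17
(.node 16932951 92 (.node 16932949 523 (.node 16932947 450 .tip .tip) .tip) (.node 16932955 1091 (.node 16932953 1535 .tip .tip) .tip))
(.node 16934979 668 (.node 16934977 1444 (.node 16932959 1527 .tip .tip) .tip) (.node 16934983 701 (.node 16934981 1451 .tip .tip) .tip)))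
(.node 16934997 748
(.node 16934991 1153 (.node 16934989 511 (.node 16934987 63 .tip .tip) .tip) (.node 16934995 609 (.node 16934993 900 .tip .tip) .tip))
(.node 16935003 745 (.node 16935001 1 (.node 16934999 1357 .tip .tip) .tip) (.node 16935007 220 (.node 16935005 1207 .tip .tip) .tip))))))
(.node 16984129 1017
(.node 16939089 989
(.node 16937049 949
(.node 16937037 146
(.node 16937031 611 (.node 16937029 137 (.node 16937027 437 .tip .tip) .tip) (.node 16937035 879 (.node 16937033 1047 .tip .tip) .tip))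
(.node 16937043 256 (.node 16937041 756 (.node 16937039 843 .tip .tip) .tip) (.node 16937047 1055 (.node 16937045 255 .tip .tip) .tip)))
(.node 16939077 122
(.node 16937055 106 (.node 16937053 1338 (.node 16937051 74 .tip .tip) .tip) (.node 16939075 839 (.node 16939073 813 .tip .tip) .tip))
(.node 16939083 150 (.node 16939081 19 (.node 16939079 1183 .tip .tip) .tip) (.node 16939087 928 (.node 16939085 1333 .tip .tip) .tip))))
(.node 16982089 1524
(.node 16939101 889
(.node 16939095 223 (.node 16939093 976 (.node 16939091 1517 .tip .tip) .tip) (.node 16939099 12 (.node 16939097 1347 .tip .tip) .tip))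
(.node 16982083 1214 (.node 16982081 630 (.node 16939103 507 .tip .tip) .tip) (.node 16982087 1215 (.node 16982085 1438 .tip .tip) .tip)))
(.node 16982101 1433
(.node 16982095 559 (.node 16982093 1326 (.node 16982091 1334 .tip .tip) .tip) (.node 16982099 985 (.node 16982097 248 .tip .tip) .tip))
(.node 16982107 475 (.node 16982105 164 (.node 16982103 179 .tip .tip) .tip) (.node 16982111 1023 (.node 16982109 1371 .tip .tip) .tip)))))
(.node 16986193 1498
(.node 16984153 197
(.node 16984141 1301
(.node 16984135 1441 (.node 16984133 819 (.node 16984131 1177 .tip .tip) .tip) (.node 16984139 332 (.node 16984137 1225 .tip .tip) .tip))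
(.node 16984147 586 (.node 16984145 965 (.node 16984143 1492 .tip .tip) .tip) (.node 16984151 691 (.node 16984149 1495 .tip .tip) .tip)))
(.node 16986181 937
(.node 16984159 521 (.node 16984157 854 (.node 16984155 1026 .tip .tip) .tip) (.node 16986179 598 (.node 16986177 652 .tip .tip) .tip))
(.node 16986187 1400 (.node 16986185 24 (.node 16986183 1071 .tip .tip) .tip) (.node 16986191 738 (.node 16986189 1108 .tip .tip) .tip))))
(.node 16988233 769
(.node 16986205 1396
(.node 16986199 1315 (.node 16986197 292 (.node 16986195 633 .tip .tip) .tip) (.node 16986203 495 (.node 16986201 1350 .tip .tip) .tip))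
(.node 16988227 1259 (.node 16988225 1135 (.node 16986207 1039 .tip .tip) .tip) (.node 16988231 531 (.node 16988229 1483 .tip .tip) .tip)))
(.node 16988245 460
(.node 16988239 195 (.node 16988237 778 (.node 16988235 305 .tip .tip) .tip) (.node 16988243 1252 (.node 16988241 466 .tip .tip) .tip))
(.node 16988251 818 (.node 16988249 1156 (.node 16988247 1302 .tip .tip) .tip) (.node 16988255 1329 (.node 16988253 1217 .tip .tip) .tip)))))))
(.node 17051713 962
(.node 17004609 156
(.node 17000529 25
(.node 16998489 617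
(.node 16998477 43
(.node 16998471 427 (.node 16998469 768 (.node 16998467 53 .tip .tip) .tip) (.node 16998475 479 (.node 16998473 357 .tip .tip) .tip))
(.node 16998483 287 (.node 16998481 792 (.node 16998479 938 .tip .tip) .tip) (.node 16998487 203 (.node 16998485 919 .tip .tip) .tip)))
(.node 17000517 375
(.node 16998495 81 (.node 16998493 532 (.node 16998491 1480 .tip .tip) .tip) (.node 17000515 515 (.node 17000513 727 .tip .tip) .tip))
(.node 17000523 324 (.node 17000521 369 (.node 17000519 57 .tip .tip) .tip) (.node 17000527 1167 (.node 17000525 884 .tip .tip) .tip))))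
(.node 17002569 1196
(.node 17000541 1335
(.node 17000535 781 (.node 17000533 37 (.node 17000531 444 .tip .tip) .tip) (.node 17000539 1440 (.node 17000537 551 .tip .tip) .tip))
(.node 17002563 855 (.node 17002561 205 (.node 17000543 1231 .tip .tip) .tip) (.node 17002567 310 (.node 17002565 289 .tip .tip) .tip)))
(.node 17002581 51
(.node 17002575 282 (.node 17002573 1199 (.node 17002571 1115 .tip .tip) .tip) (.node 17002579 80 (.node 17002577 1308 .tip .tip) .tip))
(.node 17002587 808 (.node 17002585 1182 (.node 17002583 412 .tip .tip) .tip) (.node 17002591 251 (.node 17002589 408 .tip .tip) .tip)))))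
(.node 17043537 1289
(.node 17004633 1166
(.node 17004621 1265
(.node 17004615 99 (.node 17004613 165 (.node 17004611 1242 .tip .tip) .tip) (.node 17004619 1237 (.node 17004617 1010 .tip .tip) .tip))
(.node 17004627 5 (.node 17004625 1305 (.node 17004623 552 .tip .tip) .tip) (.node 17004631 1420 (.node 17004629 545 .tip .tip) .tip)))
(.node 17043525 649
(.node 17004639 1078 (.node 17004637 178 (.node 17004635 1079 .tip .tip) .tip) (.node 17043523 390 (.node 17043521 0 .tip .tip) .tip))
(.node 17043531 1262 (.node 17043529 1360 (.node 17043527 1339 .tip .tip) .tip) (.node 17043535 1442 (.node 17043533 325 .tip .tip) .tip))))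
(.node 17045577 8
(.node 17043549 995
(.node 17043543 600 (.node 17043541 845 (.node 17043539 38 .tip .tip) .tip) (.node 17043547 1083 (.node 17043545 1066 .tip .tip) .tip))
(.node 17045571 1493 (.node 17045569 1512 (.node 17043551 395 .tip .tip) .tip) (.node 17045575 669 (.node 17045573 1310 .tip .tip) .tip)))
(.node 17045589 399
(.node 17045583 341 (.node 17045581 670 (.node 17045579 1386 .tip .tip) .tip) (.node 17045587 264 (.node 17045585 230 .tip .tip) .tip))
(.node 17045595 221 (.node 17045593 315 (.node 17045591 610 .tip .tip) .tip) (.node 17045599 482 (.node 17045597 145 .tip .tip) .tip))))))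
(.node 17061953 1277
(.node 17053777 807
(.node 17051737 920
(.node 17051725 1226
(.node 17051719 480 (.node 17051717 520 (.node 17051715 114 .tip .tip) .tip) (.node 17051723 957 (.node 17051721 584 .tip .tip) .tip))
(.node 17051731 82 (.node 17051729 10 (.node 17051727 54 .tip .tip) .tip) (.node 17051735 888 (.node 17051733 1503 .tip .tip) .tip)))
(.node 17053765 281
(.node 17051743 1407 (.node 17051741 883 (.node 17051739 646 .tip .tip) .tip) (.node 17053763 693 (.node 17053761 679 .tip .tip) .tip))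
(.node 17053771 715 (.node 17053769 943 (.node 17053767 393 .tip .tip) .tip) (.node 17053775 69 (.node 17053773 787 .tip .tip) .tip))))
(.node 17059913 660
(.node 17053789 1011
(.node 17053783 406 (.node 17053781 1193 (.node 17053779 570 .tip .tip) .tip) (.node 17053787 524 (.node 17053785 78 .tip .tip) .tip))
(.node 17059907 1431 (.node 17059905 452 (.node 17053791 1271 .tip .tip) .tip) (.node 17059911 602 (.node 17059909 956 .tip .tip) .tip)))
(.node 17059925 853
(.node 17059919 419 (.node 17059917 999 (.node 17059915 1176 .tip .tip) .tip) (.node 17059923 1406 (.node 17059921 309 .tip .tip) .tip))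
(.node 17059931 1189 (.node 17059929 887 (.node 17059927 797 .tip .tip) .tip) (.node 17059935 639 (.node 17059933 170 .tip .tip) .tip)))))
(.node 17068113 936
(.node 17061977 1280
(.node 17061965 651
(.node 17061959 463 (.node 17061957 1021 (.node 17061955 1458 .tip .tip) .tip) (.node 17061963 1210 (.node 17061961 280 .tip .tip) .tip))
(.node 17061971 1249 (.node 17061969 1283 (.node 17061967 1030 .tip .tip) .tip) (.node 17061975 1052 (.node 17061973 625 .tip .tip) .tip)))
(.node 17068101 1159
(.node 17061983 338 (.node 17061981 806 (.node 17061979 405 .tip .tip) .tip) (.node 17068099 967 (.node 17068097 945 .tip .tip) .tip))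
(.node 17068107 1391 (.node 17068105 1494 (.node 17068103 262 .tip .tip) .tip) (.node 17068111 1457 (.node 17068109 770 .tip .tip) .tip))))
(.node 17070153 1304
(.node 17068125 1112
(.node 17068119 1284 (.node 17068117 468 (.node 17068115 1295 .tip .tip) .tip) (.node 17068123 827 (.node 17068121 1267 .tip .tip) .tip))
(.node 17070147 904 (.node 17070145 1501 (.node 17068127 58 .tip .tip) .tip) (.node 17070151 1389 (.node 17070149 350 .tip .tip) .tip)))
(.node 17070165 229
(.node 17070159 952 (.node 17070157 1082 (.node 17070155 328 .tip .tip) .tip) (.node 17070163 719 (.node 17070161 682 .tip .tip) .tip))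
(.node 17070171 930 (.node 17070169 171 (.node 17070167 417 .tip .tip) .tip) (.node 17070175 1482 (.node 17070173 1321 .tip .tip) .tip))))))))
(.node 17190977 1060
(.node 17133633 1117
(.node 17119297 1046
(.node 17111121 191
(.node 17109081 577
(.node 17109069 32
(.node 17109063 364 (.node 17109061 1378 (.node 17109059 1475 .tip .tip) .tip) (.node 17109067 1014 (.node 17109065 939 .tip .tip) .tip))
(.node 17109075 152 (.node 17109073 204 (.node 17109071 211 .tip .tip) .tip) (.node 17109079 295 (.node 17109077 288 .tip .tip) .tip)))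
(.node 17111109 28
(.node 17109087 307 (.node 17109085 439 (.node 17109083 1006 .tip .tip) .tip) (.node 17111107 1462 (.node 17111105 1519 .tip .tip) .tip))
(.node 17111115 403 (.node 17111113 895 (.node 17111111 215 .tip .tip) .tip) (.node 17111119 422 (.node 17111117 270 .tip .tip) .tip))))
(.node 17117257 154
(.node 17111133 1258
(.node 17111127 451 (.node 17111125 1147 (.node 17111123 1343 .tip .tip) .tip) (.node 17111131 665 (.node 17111129 18 .tip .tip) .tip))
(.node 17117251 1154 (.node 17117249 1008 (.node 17111135 635 .tip .tip) .tip) (.node 17117255 88 (.node 17117253 1508 .tip .tip) .tip)))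
(.node 17117269 2
(.node 17117263 97 (.node 17117261 711 (.node 17117259 880 .tip .tip) .tip) (.node 17117267 973 (.node 17117265 1208 .tip .tip) .tip))
(.node 17117275 358 (.node 17117273 749 (.node 17117271 872 .tip .tip) .tip) (.node 17117279 1419 (.node 17117277 1198 .tip .tip) .tip)))))
(.node 17125457 1412
(.node 17119321 782
(.node 17119309 135
(.node 17119303 565 (.node 17119301 537 (.node 17119299 473 .tip .tip) .tip) (.node 17119307 376 (.node 17119305 246 .tip .tip) .tip))
(.node 17119315 1132 (.node 17119313 981 (.node 17119311 728 .tip .tip) .tip) (.node 17119319 877 (.node 17119317 698 .tip .tip) .tip)))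
(.node 17125445 1138
(.node 17119327 26 (.node 17119325 253 (.node 17119323 271 .tip .tip) .tip) (.node 17125443 1146 (.node 17125441 134 .tip .tip) .tip))
(.node 17125451 629 (.node 17125449 536 (.node 17125447 1181 .tip .tip) .tip) (.node 17125455 493 (.node 17125453 1430 .tip .tip) .tip))))
(.node 17127497 1044
(.node 17125469 314
(.node 17125463 1370 (.node 17125461 1204 (.node 17125459 163 .tip .tip) .tip) (.node 17125467 1525 (.node 17125465 859 .tip .tip) .tip))
(.node 17127491 777 (.node 17127489 96 (.node 17125471 1515 .tip .tip) .tip) (.node 17127495 1139 (.node 17127493 754 .tip .tip) .tip)))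
(.node 17127509 1410
(.node 17127503 1405 (.node 17127501 1236 (.node 17127499 799 .tip .tip) .tip) (.node 17127507 924 (.node 17127505 1328 .tip .tip) .tip))
(.node 17127515 564 (.node 17127513 911 (.node 17127511 435 .tip .tip) .tip) (.node 17127519 1246 (.node 17127517 1224 .tip .tip) .tip))))))
(.node 17176641 123
(.node 17135697 294
(.node 17133657 433
(.node 17133645 1222
(.node 17133639 788 (.node 17133637 733 (.node 17133635 492 .tip .tip) .tip) (.node 17133643 915 (.node 17133641 751 .tip .tip) .tip))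
(.node 17133651 128 (.node 17133649 423 (.node 17133647 1373 .tip .tip) .tip) (.node 17133655 1509 (.node 17133653 717 .tip .tip) .tip)))
(.node 17135685 618
(.node 17133663 1125 (.node 17133661 860 (.node 17133659 1098 .tip .tip) .tip) (.node 17135683 913 (.node 17135681 980 .tip .tip) .tip))
(.node 17135691 740 (.node 17135689 1109 (.node 17135687 909 .tip .tip) .tip) (.node 17135695 664 (.node 17135693 1013 .tip .tip) .tip))))
(.node 17174601 461
(.node 17135709 893
(.node 17135703 1330 (.node 17135701 925 (.node 17135699 1122 .tip .tip) .tip) (.node 17135707 380 (.node 17135705 775 .tip .tip) .tip))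
(.node 17174595 789 (.node 17174593 734 (.node 17135711 115 .tip .tip) .tip) (.node 17174599 176 (.node 17174597 1209 .tip .tip) .tip)))
(.node 17174613 6
(.node 17174607 1230 (.node 17174605 752 (.node 17174603 1266 .tip .tip) .tip) (.node 17174611 546 (.node 17174609 1035 .tip .tip) .tip))
(.node 17174619 623 (.node 17174617 861 (.node 17174615 1306 .tip .tip) .tip) (.node 17174623 1099 (.node 17174621 1248 .tip .tip) .tip)))))
(.node 17178705 1353
(.node 17176665 59
(.node 17176653 851
(.node 17176647 534 (.node 17176645 814 (.node 17176643 1427 .tip .tip) .tip) (.node 17176651 929 (.node 17176649 1179 .tip .tip) .tip))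
(.node 17176659 224 (.node 17176657 1077 (.node 17176655 132 .tip .tip) .tip) (.node 17176663 857 (.node 17176661 1175 .tip .tip) .tip)))
(.node 17178693 61
(.node 17176671 678 (.node 17176669 828 (.node 17176667 508 .tip .tip) .tip) (.node 17178691 1402 (.node 17178689 1212 .tip .tip) .tip))
(.node 17178699 856 (.node 17178697 206 (.node 17178695 428 .tip .tip) .tip) (.node 17178703 311 (.node 17178701 290 .tip .tip) .tip))))
(.node 17180745 425
(.node 17178717 1374
(.node 17178711 124 (.node 17178709 744 (.node 17178707 776 .tip .tip) .tip) (.node 17178715 866 (.node 17178713 1187 .tip .tip) .tip))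
(.node 17180739 41 (.node 17180737 1247 (.node 17178719 413 .tip .tip) .tip) (.node 17180743 147 (.node 17180741 1049 .tip .tip) .tip)))
(.node 17180757 1388
(.node 17180751 572 (.node 17180749 351 (.node 17180747 766 .tip .tip) .tip) (.node 17180755 1206 (.node 17180753 726 .tip .tip) .tip))
(.node 17180763 757 (.node 17180761 257 (.node 17180759 1489 .tip .tip) .tip) (.node 17180767 418 (.node 17180765 1470 .tip .tip) .tip)))))))
(.node 17244225 20
(.node 17197121 786
(.node 17193041 1450
(.node 17191001 459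
(.node 17190989 30
(.node 17190983 304 (.node 17190981 1194 (.node 17190979 687 .tip .tip) .tip) (.node 17190987 530 (.node 17190985 1471 .tip .tip) .tip))
(.node 17190995 1340 (.node 17190993 865 (.node 17190991 1432 .tip .tip) .tip) (.node 17190999 637 (.node 17190997 1150 .tip .tip) .tip)))
(.node 17193029 1325
(.node 17191007 70 (.node 17191005 478 (.node 17191003 1491 .tip .tip) .tip) (.node 17193027 1531 (.node 17193025 239 .tip .tip) .tip))
(.node 17193035 40 (.node 17193033 557 (.node 17193031 558 .tip .tip) .tip) (.node 17193039 1171 (.node 17193037 209 .tip .tip) .tip))))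
(.node 17195081 826
(.node 17193053 1142
(.node 17193047 1031 (.node 17193045 397 (.node 17193043 474 .tip .tip) .tip) (.node 17193051 1101 (.node 17193049 247 .tip .tip) .tip))
(.node 17195075 1309 (.node 17195073 528 (.node 17193055 804 .tip .tip) .tip) (.node 17195079 763 (.node 17195077 245 .tip .tip) .tip)))
(.node 17195093 263
(.node 17195087 7 (.node 17195085 1393 (.node 17195083 1513 .tip .tip) .tip) (.node 17195091 398 (.node 17195089 1399 .tip .tip) .tip))
(.node 17195099 876 (.node 17195097 697 (.node 17195095 1131 .tip .tip) .tip) (.node 17195103 1137 (.node 17195101 198 .tip .tip) .tip)))))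
(.node 17240145 512
(.node 17197145 1192
(.node 17197133 1484
(.node 17197127 1034 (.node 17197125 1107 (.node 17197123 68 .tip .tip) .tip) (.node 17197131 225 (.node 17197129 31 .tip .tip) .tip))
(.node 17197139 1270 (.node 17197137 1003 (.node 17197135 1403 .tip .tip) .tip) (.node 17197143 151 (.node 17197141 1468 .tip .tip) .tip)))
(.node 17240133 918
(.node 17197151 275 (.node 17197149 1020 (.node 17197147 306 .tip .tip) .tip) (.node 17240131 1257 (.node 17240129 863 .tip .tip) .tip))
(.node 17240139 1279 (.node 17240137 1038 (.node 17240135 645 .tip .tip) .tip) (.node 17240143 329 (.node 17240141 94 .tip .tip) .tip))))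
(.node 17242185 161
(.node 17240157 172
(.node 17240151 720 (.node 17240149 683 (.node 17240147 52 .tip .tip) .tip) (.node 17240155 1063 (.node 17240153 252 .tip .tip) .tip))
(.node 17242179 619 (.node 17242177 1317 (.node 17240159 923 .tip .tip) .tip) (.node 17242183 832 (.node 17242181 658 .tip .tip) .tip)))
(.node 17242197 885
(.node 17242191 1288 (.node 17242189 1053 (.node 17242187 837 .tip .tip) .tip) (.node 17242195 638 (.node 17242193 168 .tip .tip) .tip))
(.node 17242203 107 (.node 17242201 116 (.node 17242199 801 .tip .tip) .tip) (.node 17242207 75 (.node 17242205 381 .tip .tip) .tip))))))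
(.node 17258561 331
(.node 17246289 833
(.node 17244249 906
(.node 17244237 736
(.node 17244231 1092 (.node 17244229 367 (.node 17244227 1454 .tip .tip) .tip) (.node 17244235 685 (.node 17244233 722 .tip .tip) .tip))
(.node 17244243 434 (.node 17244241 1201 (.node 17244239 514 .tip .tip) .tip) (.node 17244247 1345 (.node 17244245 1294 .tip .tip) .tip)))
(.node 17246277 553
(.node 17244255 442 (.node 17244253 977 (.node 17244251 1385 .tip .tip) .tip) (.node 17246275 383 (.node 17246273 1387 .tip .tip) .tip))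
(.node 17246283 498 (.node 17246281 1169 (.node 17246279 1473 .tip .tip) .tip) (.node 17246287 166 (.node 17246285 940 .tip .tip) .tip))))
(.node 17256521 1070
(.node 17246301 621
(.node 17246295 326 (.node 17246293 1113 (.node 17246291 1361 .tip .tip) .tip) (.node 17246299 318 (.node 17246297 345 .tip .tip) .tip))
(.node 17256515 497 (.node 17256513 1369 (.node 17246303 1319 .tip .tip) .tip) (.node 17256519 23 (.node 17256517 343 .tip .tip) .tip)))
(.node 17256533 483
(.node 17256527 1324 (.node 17256525 597 (.node 17256523 1514 .tip .tip) .tip) (.node 17256531 317 (.node 17256529 1076 .tip .tip) .tip))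
(.node 17256539 232 (.node 17256537 487 (.node 17256535 705 .tip .tip) .tip) (.node 17256543 1228 (.node 17256541 632 .tip .tip) .tip)))))
(.node 17260625 844
(.node 17258585 585
(.node 17258573 1446
(.node 17258567 213 (.node 17258565 1164 (.node 17258563 90 .tip .tip) .tip) (.node 17258571 1016 (.node 17258569 188 .tip .tip) .tip))
(.node 17258579 1379 (.node 17258577 578 (.node 17258575 366 .tip .tip) .tip) (.node 17258583 1455 (.node 17258581 441 .tip .tip) .tip)))
(.node 17260613 76
(.node 17258591 297 (.node 17258589 392 (.node 17258587 964 .tip .tip) .tip) (.node 17260611 710 (.node 17260609 648 .tip .tip) .tip))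
(.node 17260619 1395 (.node 17260617 87 (.node 17260615 613 .tip .tip) .tip) (.node 17260623 1075 (.node 17260621 1397 .tip .tip) .tip))))
(.node 17262665 1354
(.node 17260637 972
(.node 17260631 352 (.node 17260629 590 (.node 17260627 599 .tip .tip) .tip) (.node 17260635 194 (.node 17260633 994 .tip .tip) .tip))
(.node 17262659 1064 (.node 17262657 214 (.node 17260639 795 .tip .tip) .tip) (.node 17262663 583 (.node 17262661 1404 .tip .tip) .tip)))
(.node 17262677 998
(.node 17262671 894 (.node 17262669 113 (.node 17262667 519 .tip .tip) .tip) (.node 17262675 181 (.node 17262673 1429 .tip .tip) .tip))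
(.node 17262683 1025 (.node 17262681 1243 (.node 17262679 190 .tip .tip) .tip) (.node 17262687 601 (.node 17262685 361 .tip .tip) .tip)))))))))
(.node 17633345 1216
(.node 17522753 581
(.node 17461313 440
(.node 17446977 277
(.node 17442897 594
(.node 17440857 302
(.node 17440845 199
(.node 17440839 1120 (.node 17440837 1355 (.node 17440835 896 .tip .tip) .tip) (.node 17440843 130 (.node 17440841 283 .tip .tip) .tip))
(.node 17440851 878 (.node 17440849 666 (.node 17440847 1065 .tip .tip) .tip) (.node 17440855 926 (.node 17440853 84 .tip .tip) .tip)))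
(.node 17442885 1413
(.node 17440863 1059 (.node 17440861 118 (.node 17440859 192 .tip .tip) .tip) (.node 17442883 947 (.node 17442881 9 .tip .tip) .tip))
(.node 17442891 1500 (.node 17442889 731 (.node 17442887 1323 .tip .tip) .tip) (.node 17442895 298 (.node 17442893 1240 .tip .tip) .tip))))
(.node 17444937 592
(.node 17442909 386
(.node 17442903 1250 (.node 17442901 954 (.node 17442899 241 .tip .tip) .tip) (.node 17442907 265 (.node 17442905 829 .tip .tip) .tip))
(.node 17444931 216 (.node 17444929 430 (.node 17442911 784 .tip .tip) .tip) (.node 17444935 1510 (.node 17444933 626 .tip .tip) .tip)))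
(.node 17444949 1219
(.node 17444943 1318 (.node 17444941 620 (.node 17444939 47 .tip .tip) .tip) (.node 17444947 382 (.node 17444945 1476 .tip .tip) .tip))
(.node 17444955 903 (.node 17444953 802 (.node 17444951 117 .tip .tip) .tip) (.node 17444959 642 (.node 17444957 916 .tip .tip) .tip)))))
(.node 17457233 1190
(.node 17447001 1296
(.node 17446989 447
(.node 17446983 935 (.node 17446981 1057 (.node 17446979 724 .tip .tip) .tip) (.node 17446987 946 (.node 17446985 542 .tip .tip) .tip))
(.node 17446995 628 (.node 17446993 400 (.node 17446991 372 .tip .tip) .tip) (.node 17446999 266 (.node 17446997 60 .tip .tip) .tip)))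
(.node 17457221 1504
(.node 17447007 348 (.node 17447005 1281 (.node 17447003 1048 .tip .tip) .tip) (.node 17457219 1359 (.node 17457217 541 .tip .tip) .tip))
(.node 17457227 1380 (.node 17457225 140 (.node 17457223 66 .tip .tip) .tip) (.node 17457231 1408 (.node 17457229 1149 .tip .tip) .tip))))
(.node 17459273 716
(.node 17457245 1043
(.node 17457239 1162 (.node 17457237 95 (.node 17457235 654 .tip .tip) .tip) (.node 17457243 349 (.node 17457241 1235 .tip .tip) .tip))
(.node 17459267 1051 (.node 17459265 624 (.node 17457247 1314 .tip .tip) .tip) (.node 17459271 708 (.node 17459269 432 .tip .tip) .tip)))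
(.node 17459285 641
(.node 17459279 404 (.node 17459277 841 (.node 17459275 1073 .tip .tip) .tip) (.node 17459283 462 (.node 17459281 1221 .tip .tip) .tip))
(.node 17459291 1141 (.node 17459289 963 (.node 17459287 914 .tip .tip) .tip) (.node 17459295 1157 (.node 17459293 279 .tip .tip) .tip))))))
(.node 17508417 141
(.node 17463377 86
(.node 17461337 67
(.node 17461325 732
(.node 17461319 1019 (.node 17461317 569 (.node 17461315 780 .tip .tip) .tip) (.node 17461323 296 (.node 17461321 1269 .tip .tip) .tip))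
(.node 17461331 212 (.node 17461329 1163 (.node 17461327 503 .tip .tip) .tip) (.node 17461335 1015 (.node 17461333 1401 .tip .tip) .tip)))
(.node 17463365 971
(.node 17461343 321 (.node 17461341 562 (.node 17461339 365 .tip .tip) .tip) (.node 17463363 193 (.node 17463361 396 .tip .tip) .tip))
(.node 17463371 1197 (.node 17463369 1028 (.node 17463367 1067 .tip .tip) .tip) (.node 17463375 1367 (.node 17463373 469 .tip .tip) .tip))))
(.node 17506377 1119
(.node 17463389 556
(.node 17463383 1074 (.node 17463381 1384 (.node 17463379 571 .tip .tip) .tip) (.node 17463387 709 (.node 17463385 336 .tip .tip) .tip))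
(.node 17506371 1041 (.node 17506369 1088 (.node 17463391 39 .tip .tip) .tip) (.node 17506375 13 (.node 17506373 226 .tip .tip) .tip)))
(.node 17506389 186
(.node 17506383 1336 (.node 17506381 944 (.node 17506379 233 .tip .tip) .tip) (.node 17506387 742 (.node 17506385 1007 .tip .tip) .tip))
(.node 17506395 1463 (.node 17506393 153 (.node 17506391 824 .tip .tip) .tip) (.node 17506399 526 (.node 17506397 1435 .tip .tip) .tip)))))
(.node 17510481 870
(.node 17508441 1290
(.node 17508429 485
(.node 17508423 1443 (.node 17508421 1390 (.node 17508419 987 .tip .tip) .tip) (.node 17508427 606 (.node 17508425 77 .tip .tip) .tip))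
(.node 17508435 1084 (.node 17508433 110 (.node 17508431 882 .tip .tip) .tip) (.node 17508439 772 (.node 17508437 996 .tip .tip) .tip)))
(.node 17510469 614
(.node 17508447 237 (.node 17508445 846 (.node 17508443 173 .tip .tip) .tip) (.node 17510467 650 (.node 17510465 103 .tip .tip) .tip))
(.node 17510475 1499 (.node 17510473 905 (.node 17510471 1479 .tip .tip) .tip) (.node 17510479 183 (.node 17510477 1095 .tip .tip) .tip))))
(.node 17512521 1477
(.node 17510493 259
(.node 17510487 1439 (.node 17510485 353 (.node 17510483 157 .tip .tip) .tip) (.node 17510491 684 (.node 17510489 721 .tip .tip) .tip))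
(.node 17512515 504 (.node 17512513 753 (.node 17510495 513 .tip .tip) .tip) (.node 17512519 674 (.node 17512517 892 .tip .tip) .tip)))
(.node 17512533 847
(.node 17512527 790 (.node 17512525 735 (.node 17512523 33 .tip .tip) .tip) (.node 17512531 1100 (.node 17512529 1436 .tip .tip) .tip))
(.node 17512539 1287 (.node 17512537 424 (.node 17512535 663 .tip .tip) .tip) (.node 17512543 1202 (.node 17512541 811 .tip .tip) .tip)))))))
(.node 17576001 167
(.node 17528897 636
(.node 17524817 410
(.node 17522777 1188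
(.node 17522765 517
(.node 17522759 1411 (.node 17522757 1239 (.node 17522755 1203 .tip .tip) .tip) (.node 17522763 313 (.node 17522761 102 .tip .tip) .tip))
(.node 17522771 816 (.node 17522769 1180 (.node 17522767 858 .tip .tip) .tip) (.node 17522775 133 (.node 17522773 1145 .tip .tip) .tip)))
(.node 17524805 1352
(.node 17522783 535 (.node 17522781 457 (.node 17522779 261 .tip .tip) .tip) (.node 17524803 243 (.node 17524801 796 .tip .tip) .tip))
(.node 17524811 169 (.node 17524809 471 (.node 17524807 774 .tip .tip) .tip) (.node 17524815 886 (.node 17524813 1186 .tip .tip) .tip))))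
(.node 17526857 1165
(.node 17524829 875
(.node 17524823 810 (.node 17524821 1211 (.node 17524819 955 .tip .tip) .tip) (.node 17524827 1481 (.node 17524825 1425 .tip .tip) .tip))
(.node 17526851 371 (.node 17526849 696 (.node 17524831 659 .tip .tip) .tip) (.node 17526855 1136 (.node 17526853 316 .tip .tip) .tip)))
(.node 17526869 496
(.node 17526863 1130 (.node 17526861 231 (.node 17526859 761 .tip .tip) .tip) (.node 17526867 342 (.node 17526865 671 .tip .tip) .tip))
(.node 17526875 690 (.node 17526873 446 (.node 17526871 472 .tip .tip) .tip) (.node 17526879 762 (.node 17526877 244 .tip .tip) .tip)))))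
(.node 17567825 347
(.node 17528921 1415
(.node 17528909 1507
(.node 17528903 864 (.node 17528901 46 (.node 17528899 1351 .tip .tip) .tip) (.node 17528907 1148 (.node 17528905 575 .tip .tip) .tip))
(.node 17528915 1292 (.node 17528913 518 (.node 17528911 997 .tip .tip) .tip) (.node 17528919 112 (.node 17528917 699 .tip .tip) .tip)))
(.node 17567813 874
(.node 17528927 1522 (.node 17528925 582 (.node 17528923 29 .tip .tip) .tip) (.node 17567811 1520 (.node 17567809 1424 .tip .tip) .tip))
(.node 17567819 1056 (.node 17567817 409 (.node 17567815 1018 .tip .tip) .tip) (.node 17567823 276 (.node 17567821 333 .tip .tip) .tip))))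
(.node 17569865 1348
(.node 17567837 627
(.node 17567831 966 (.node 17567829 587 (.node 17567827 1505 .tip .tip) .tip) (.node 17567835 242 (.node 17567833 522 .tip .tip) .tip))
(.node 17569859 182 (.node 17569857 970 (.node 17567839 1173 .tip .tip) .tip) (.node 17569863 1472 (.node 17569861 1005 .tip .tip) .tip)))
(.node 17569877 840
(.node 17569871 1364 (.node 17569869 362 (.node 17569867 890 .tip .tip) .tip) (.node 17569875 1072 (.node 17569873 72 .tip .tip) .tip))
(.node 17569883 1152 (.node 17569881 1213 (.node 17569879 960 .tip .tip) .tip) (.node 17569887 707 (.node 17569885 1426 .tip .tip) .tip))))))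
(.node 17586241 125
(.node 17578065 759
(.node 17576025 327
(.node 17576013 1089
(.node 17576007 234 (.node 17576005 868 (.node 17576003 334 .tip .tip) .tip) (.node 17576011 14 (.node 17576009 1488 .tip .tip) .tip))
(.node 17576019 862 (.node 17576017 1474 (.node 17576015 1383 .tip .tip) .tip) (.node 17576023 346 (.node 17576021 1382 .tip .tip) .tip)))
(.node 17578053 438
(.node 17576031 1080 (.node 17576029 1362 (.node 17576027 1036 .tip .tip) .tip) (.node 17578051 200 (.node 17578049 612 .tip .tip) .tip))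
(.node 17578059 148 (.node 17578057 1050 (.node 17578055 284 .tip .tip) .tip) (.node 17578063 1127 (.node 17578061 1068 .tip .tip) .tip))))
(.node 17584201 222
(.node 17578077 1418
(.node 17578071 758 (.node 17578069 258 (.node 17578067 119 .tip .tip) .tip) (.node 17578075 1298 (.node 17578073 370 .tip .tip) .tip))
(.node 17584195 1275 (.node 17584193 506 (.node 17578079 1123 .tip .tip) .tip) (.node 17584199 111 (.node 17584197 677 .tip .tip) .tip)))
(.node 17584213 149
(.node 17584207 1174 (.node 17584205 907 (.node 17584203 443 .tip .tip) .tip) (.node 17584211 1332 (.node 17584209 368 .tip .tip) .tip))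
(.node 17584219 121 (.node 17584217 737 (.node 17584215 850 .tip .tip) .tip) (.node 17584223 686 (.node 17584221 723 .tip .tip) .tip)))))
(.node 17592401 1487
(.node 17586265 1256
(.node 17586253 867
(.node 17586247 961 (.node 17586245 595 (.node 17586243 250 .tip .tip) .tip) (.node 17586251 785 (.node 17586249 50 .tip .tip) .tip))
(.node 17586259 62 (.node 17586257 1094 (.node 17586255 993 .tip .tip) .tip) (.node 17586263 1234 (.node 17586261 568 .tip .tip) .tip)))
(.node 17592389 360
(.node 17586271 700 (.node 17586269 644 (.node 17586267 836 .tip .tip) .tip) (.node 17592387 1024 (.node 17592385 849 .tip .tip) .tip))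
(.node 17592395 180 (.node 17592393 803 (.node 17592391 1278 .tip .tip) .tip) (.node 17592399 1223 (.node 17592397 661 .tip .tip) .tip))))
(.node 17594441 631
(.node 17592413 1276
(.node 17592407 238 (.node 17592405 1447 (.node 17592403 676 .tip .tip) .tip) (.node 17592411 208 (.node 17592409 1170 .tip .tip) .tip))
(.node 17594435 605 (.node 17594433 465 (.node 17592415 35 .tip .tip) .tip) (.node 17594439 274 (.node 17594437 1261 .tip .tip) .tip)))
(.node 17594453 218
(.node 17594447 821 (.node 17594445 1467 (.node 17594443 917 .tip .tip) .tip) (.node 17594451 22 (.node 17594449 1144 .tip .tip) .tip))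
(.node 17594459 898 (.node 17594457 596 (.node 17594455 1528 .tip .tip) .tip) (.node 17594463 1529 (.node 17594461 49 .tip .tip) .tip))))))))
(.node 17715265 177
(.node 17657921 267
(.node 17643585 291
(.node 17635409 713
(.node 17633369 1032
(.node 17633357 429
(.node 17633351 456 (.node 17633349 591 (.node 17633347 1516 .tip .tip) .tip) (.node 17633355 1327 (.node 17633353 560 .tip .tip) .tip))
(.node 17633363 101 (.node 17633361 1358 (.node 17633359 990 .tip .tip) .tip) (.node 17633367 249 (.node 17633365 1102 .tip .tip) .tip)))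
(.node 17635397 1185
(.node 17633375 1238 (.node 17633373 476 (.node 17633371 580 .tip .tip) .tip) (.node 17635395 1273 (.node 17635393 933 .tip .tip) .tip))
(.node 17635403 891 (.node 17635401 653 (.node 17635399 1191 .tip .tip) .tip) (.node 17635407 975 (.node 17635405 1161 .tip .tip) .tip))))
(.node 17641545 1093
(.node 17635421 65
(.node 17635415 979 (.node 17635413 489 (.node 17635411 139 .tip .tip) .tip) (.node 17635419 540 (.node 17635417 662 .tip .tip) .tip))
(.node 17641539 299 (.node 17641537 1184 (.node 17635423 1502 .tip .tip) .tip) (.node 17641543 1521 (.node 17641541 983 .tip .tip) .tip)))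
(.node 17641557 830
(.node 17641551 21 (.node 17641549 548 (.node 17641547 1469 .tip .tip) .tip) (.node 17641555 978 (.node 17641553 387 .tip .tip) .tip))
(.node 17641563 1251 (.node 17641561 1285 (.node 17641559 1313 .tip .tip) .tip) (.node 17641567 322 (.node 17641565 44 .tip .tip) .tip)))))
(.node 17649745 160
(.node 17643609 1178
(.node 17643597 1341
(.node 17643591 319 (.node 17643589 207 (.node 17643587 312 .tip .tip) .tip) (.node 17643595 415 (.node 17643593 1200 .tip .tip) .tip))
(.node 17643603 414 (.node 17643601 1375 (.node 17643599 142 .tip .tip) .tip) (.node 17643607 501 (.node 17643605 174 .tip .tip) .tip)))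
(.node 17649733 743
(.node 17643615 1218 (.node 17643613 1372 (.node 17643611 779 .tip .tip) .tip) (.node 17649731 105 (.node 17649729 825 .tip .tip) .tip))
(.node 17649739 791 (.node 17649737 527 (.node 17649735 73 .tip .tip) .tip) (.node 17649743 1097 (.node 17649741 1464 .tip .tip) .tip))))
(.node 17651785 1320
(.node 17649757 426
(.node 17649751 42 (.node 17649749 1042 (.node 17649747 842 .tip .tip) .tip) (.node 17649755 573 (.node 17649753 1337 .tip .tip) .tip))
(.node 17651779 1533 (.node 17651777 85 (.node 17649759 767 .tip .tip) .tip) (.node 17651783 834 (.node 17651781 1409 .tip .tip) .tip)))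
(.node 17651797 384
(.node 17651791 1264 (.node 17651789 4 (.node 17651787 544 .tip .tip) .tip) (.node 17651795 1126 (.node 17651793 1497 .tip .tip) .tip))
(.node 17651803 941 (.node 17651801 672 (.node 17651799 1229 .tip .tip) .tip) (.node 17651807 131 (.node 17651805 499 .tip .tip) .tip))))))
(.node 17700929 1118
(.node 17659985 615
(.node 17657945 374
(.node 17657933 458
(.node 17657927 402 (.node 17657925 794 (.node 17657923 817 .tip .tip) .tip) (.node 17657931 1282 (.node 17657929 477 .tip .tip) .tip))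
(.node 17657939 303 (.node 17657937 1394 (.node 17657935 589 .tip .tip) .tip) (.node 17657943 1532 (.node 17657941 815 .tip .tip) .tip)))
(.node 17659973 871
(.node 17657951 529 (.node 17657949 902 (.node 17657947 449 .tip .tip) .tip) (.node 17659971 655 (.node 17659969 355 .tip .tip) .tip))
(.node 17659979 391 (.node 17659977 1085 (.node 17659975 159 .tip .tip) .tip) (.node 17659983 932 (.node 17659981 1448 .tip .tip) .tip))))
(.node 17698889 196
(.node 17659997 1342
(.node 17659991 554 (.node 17659989 89 (.node 17659987 1461 .tip .tip) .tip) (.node 17659995 820 (.node 17659993 1096 .tip .tip) .tip))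
(.node 17698883 730 (.node 17698881 984 (.node 17659999 187 .tip .tip) .tip) (.node 17698887 1111 (.node 17698885 835 .tip .tip) .tip)))
(.node 17698901 574
(.node 17698895 1140 (.node 17698893 1322 (.node 17698891 567 .tip .tip) .tip) (.node 17698899 1033 (.node 17698897 992 .tip .tip) .tip))
(.node 17698907 593 (.node 17698905 45 (.node 17698903 1232 .tip .tip) .tip) (.node 17698911 953 (.node 17698909 1255 .tip .tip) .tip)))))
(.node 17702993 959
(.node 17700953 1110
(.node 17700941 604
(.node 17700935 1001 (.node 17700933 335 (.node 17700931 869 .tip .tip) .tip) (.node 17700939 454 (.node 17700937 1293 .tip .tip) .tip))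
(.node 17700947 1105 (.node 17700945 702 (.node 17700943 695 .tip .tip) .tip) (.node 17700951 525 (.node 17700949 1027 .tip .tip) .tip)))
(.node 17702981 729
(.node 17700959 823 (.node 17700957 185 (.node 17700955 741 .tip .tip) .tip) (.node 17702979 1004 (.node 17702977 377 .tip .tip) .tip))
(.node 17702987 640 (.node 17702985 104 (.node 17702983 547 .tip .tip) .tip) (.node 17702991 634 (.node 17702989 566 .tip .tip) .tip))))
(.node 17705033 217
(.node 17703005 354
(.node 17702999 746 (.node 17702997 27 (.node 17702995 783 .tip .tip) .tip) (.node 17703003 158 (.node 17703001 706 .tip .tip) .tip))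
(.node 17705027 455 (.node 17705025 48 (.node 17703007 1363 .tip .tip) .tip) (.node 17705031 897 (.node 17705029 1129 .tip .tip) .tip)))
(.node 17705045 643
(.node 17705039 394 (.node 17705037 509 (.node 17705035 694 .tip .tip) .tip) (.node 17705043 516 (.node 17705041 93 .tip .tip) .tip))
(.node 17705051 822 (.node 17705049 1526 (.node 17705047 100 .tip .tip) .tip) (.node 17705055 579 (.node 17705053 464 .tip .tip) .tip)))))))
(.node 17768513 543
(.node 17721409 927
(.node 17717329 356
(.node 17715289 667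
(.node 17715277 1356
(.node 17715271 1086 (.node 17715269 219 (.node 17715267 144 .tip .tip) .tip) (.node 17715275 899 (.node 17715273 608 .tip .tip) .tip))
(.node 17715283 680 (.node 17715281 718 (.node 17715279 359 .tip .tip) .tip) (.node 17715287 510 (.node 17715285 1009 .tip .tip) .tip)))
(.node 17717317 1316
(.node 17715295 1478 (.node 17715293 155 (.node 17715291 98 .tip .tip) .tip) (.node 17717315 1081 (.node 17717313 616 .tip .tip) .tip))
(.node 17717323 286 (.node 17717321 1506 (.node 17717319 11 .tip .tip) .tip) (.node 17717327 202 (.node 17717325 988 .tip .tip) .tip))))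
(.node 17719369 337
(.node 17717341 958
(.node 17717335 725 (.node 17717333 278 (.node 17717331 1168 .tip .tip) .tip) (.node 17717339 1377 (.node 17717337 378 .tip .tip) .tip))
(.node 17719363 576 (.node 17719361 1205 (.node 17717343 838 .tip .tip) .tip) (.node 17719367 1040 (.node 17719365 1496 .tip .tip) .tip)))
(.node 17719381 143
(.node 17719375 175 (.node 17719373 293 (.node 17719371 922 .tip .tip) .tip) (.node 17719379 1311 (.node 17719377 1012 .tip .tip) .tip))
(.node 17719387 908 (.node 17719385 1029 (.node 17719383 739 .tip .tip) .tip) (.node 17719391 607 (.node 17719389 330 .tip .tip) .tip)))))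
(.node 17764433 301
(.node 17721433 1303
(.node 17721421 411
(.node 17721415 162 (.node 17721413 704 (.node 17721411 1331 .tip .tip) .tip) (.node 17721419 120 (.node 17721417 228 .tip .tip) .tip))
(.node 17721427 951 (.node 17721425 1254 (.node 17721423 1376 .tip .tip) .tip) (.node 17721431 340 (.node 17721429 1069 .tip .tip) .tip)))
(.node 17764421 689
(.node 17721439 285 (.node 17721437 1368 (.node 17721435 201 .tip .tip) .tip) (.node 17764419 129 (.node 17764417 773 .tip .tip) .tip))
(.node 17764427 1128 (.node 17764425 1453 (.node 17764423 445 .tip .tip) .tip) (.node 17764431 1022 (.node 17764429 1416 .tip .tip) .tip))))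
(.node 17766473 986
(.node 17764445 83
(.node 17764439 1058 (.node 17764437 760 (.node 17764435 1263 .tip .tip) .tip) (.node 17764443 1134 (.node 17764441 1423 .tip .tip) .tip))
(.node 17766467 561 (.node 17766465 320 (.node 17764447 1299 .tip .tip) .tip) (.node 17766471 484 (.node 17766469 881 .tip .tip) .tip)))
(.node 17766485 236
(.node 17766479 1268 (.node 17766477 416 (.node 17766475 1421 .tip .tip) .tip) (.node 17766483 1486 (.node 17766481 502 .tip .tip) .tip))
(.node 17766491 109 (.node 17766489 1103 (.node 17766487 1121 .tip .tip) .tip) (.node 17766495 1274 (.node 17766493 771 .tip .tip) .tip))))))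
(.node 17782849 1220
(.node 17770577 921
(.node 17768537 401
(.node 17768525 108
(.node 17768519 373 (.node 17768517 448 (.node 17768515 1452 .tip .tip) .tip) (.node 17768523 809 (.node 17768521 1155 .tip .tip) .tip))
(.node 17768531 750 (.node 17768529 1366 (.node 17768527 1392 .tip .tip) .tip) (.node 17768535 1244 (.node 17768533 470 .tip .tip) .tip)))
(.node 17770565 1227
(.node 17768543 3 (.node 17768541 873 (.node 17768539 1172 .tip .tip) .tip) (.node 17770563 1417 (.node 17770561 34 .tip .tip) .tip))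
(.node 17770571 1160 (.node 17770569 505 (.node 17770567 55 .tip .tip) .tip) (.node 17770575 481 (.node 17770573 675 .tip .tip) .tip))))
(.node 17780809 1437
(.node 17770589 539
(.node 17770583 812 (.node 17770581 138 (.node 17770579 647 .tip .tip) .tip) (.node 17770587 64 (.node 17770585 533 .tip .tip) .tip))
(.node 17780803 407 (.node 17780801 1272 (.node 17770591 848 .tip .tip) .tip) (.node 17780807 1518 (.node 17780805 16 .tip .tip) .tip)))
(.node 17780821 1114
(.node 17780815 1307 (.node 17780813 79 (.node 17780811 260 .tip .tip) .tip) (.node 17780819 420 (.node 17780817 268 .tip .tip) .tip))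
(.node 17780827 1460 (.node 17780825 184 (.node 17780823 363 .tip .tip) .tip) (.node 17780831 1087 (.node 17780829 1291 .tip .tip) .tip)))))
(.node 17784913 1300
(.node 17782873 968
(.node 17782861 272
(.node 17782855 982 (.node 17782853 1133 (.node 17782851 550 .tip .tip) .tip) (.node 17782859 254 (.node 17782857 1054 .tip .tip) .tip))
(.node 17782867 538 (.node 17782865 323 (.node 17782863 36 .tip .tip) .tip) (.node 17782871 991 (.node 17782869 431 .tip .tip) .tip)))
(.node 17784901 308
(.node 17782879 389 (.node 17782877 56 (.node 17782875 136 .tip .tip) .tip) (.node 17784899 1286 (.node 17784897 852 .tip .tip) .tip))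
(.node 17784907 388 (.node 17784905 1381 (.node 17784903 1297 .tip .tip) .tip) (.node 17784911 831 (.node 17784909 127 .tip .tip) .tip))))
(.node 17786953 1245
(.node 17784925 491
(.node 17784919 549 (.node 17784917 948 (.node 17784915 1414 .tip .tip) .tip) (.node 17784923 1241 (.node 17784921 300 .tip .tip) .tip))
(.node 17786947 1037 (.node 17786945 344 (.node 17784927 1045 .tip .tip) .tip) (.node 17786951 1233 (.node 17786949 1428 .tip .tip) .tip)))
(.node 17786965 1090
(.node 17786959 910 (.node 17786957 563 (.node 17786955 467 .tip .tip) .tip) (.node 17786963 15 (.node 17786961 1456 .tip .tip) .tip))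
(.node 17786971 1158 (.node 17786969 1260 (.node 17786967 1434 .tip .tip) .tip) (.node 17786975 235 (.node 17786973 798 .tip .tip) .tip))))))))))

/-- The reasons. -/
def caseCFullN1HowLL : Tab (ℕ × ℕ) :=
(.node 192 (.node 96 (.node 48 (.node 24 (.node 12 (.node 6 (.node 3 (.node 1 (.leaf (0, 0)) (.node 1 (.leaf (20, 0)) (.leaf (21, 0)))) (.node 1 (.leaf (22, 0)) (.node 1 (.leaf (20, 1)) (.leaf (21, 1)))))
(.node 3 (.node 1 (.leaf (22, 1)) (.node 1 (.leaf (20, 2)) (.leaf (21, 2)))) (.node 1 (.leaf (22, 2)) (.node 1 (.leaf (20, 3)) (.leaf (21, 3))))))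
(.node 6 (.node 3 (.node 1 (.leaf (22, 3)) (.node 1 (.leaf (20, 4)) (.leaf (21, 4)))) (.node 1 (.leaf (22, 4)) (.node 1 (.leaf (20, 5)) (.leaf (21, 5)))))
(.node 3 (.node 1 (.leaf (22, 5)) (.node 1 (.leaf (20, 6)) (.leaf (21, 6)))) (.node 1 (.leaf (22, 6)) (.node 1 (.leaf (20, 7)) (.leaf (21, 7)))))))
(.node 12 (.node 6 (.node 3 (.node 1 (.leaf (22, 7)) (.node 1 (.leaf (20, 8)) (.leaf (21, 8)))) (.node 1 (.leaf (22, 8)) (.node 1 (.leaf (20, 9)) (.leaf (21, 9)))))
(.node 3 (.node 1 (.leaf (22, 9)) (.node 1 (.leaf (20, 10)) (.leaf (21, 10)))) (.node 1 (.leaf (20, 11)) (.node 1 (.leaf (21, 11)) (.leaf (22, 11))))))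
(.node 6 (.node 3 (.node 1 (.leaf (20, 12)) (.node 1 (.leaf (21, 12)) (.leaf (22, 12)))) (.node 1 (.leaf (21, 13)) (.node 1 (.leaf (22, 13)) (.leaf (20, 14)))))
(.node 3 (.node 1 (.leaf (21, 14)) (.node 1 (.leaf (22, 14)) (.leaf (20, 15)))) (.node 1 (.leaf (21, 15)) (.node 1 (.leaf (22, 15)) (.leaf (20, 16))))))))
(.node 24 (.node 12 (.node 6 (.node 3 (.node 1 (.leaf (21, 16)) (.node 1 (.leaf (22, 16)) (.leaf (20, 17)))) (.node 1 (.leaf (21, 17)) (.node 1 (.leaf (22, 17)) (.leaf (20, 18)))))
(.node 3 (.node 1 (.leaf (21, 18)) (.node 1 (.leaf (22, 18)) (.leaf (20, 19)))) (.node 1 (.leaf (21, 19)) (.node 1 (.leaf (20, 20)) (.leaf (21, 20))))))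
(.node 6 (.node 3 (.node 1 (.leaf (22, 20)) (.node 1 (.leaf (20, 21)) (.leaf (21, 21)))) (.node 1 (.leaf (22, 21)) (.node 1 (.leaf (20, 22)) (.leaf (21, 22)))))
(.node 3 (.node 1 (.leaf (22, 22)) (.node 1 (.leaf (20, 23)) (.leaf (21, 23)))) (.node 1 (.leaf (22, 23)) (.node 1 (.leaf (20, 24)) (.leaf (21, 24)))))))
(.node 12 (.node 6 (.node 3 (.node 1 (.leaf (22, 24)) (.node 1 (.leaf (20, 25)) (.leaf (21, 25)))) (.node 1 (.leaf (22, 25)) (.node 1 (.leaf (20, 26)) (.leaf (22, 26)))))
(.node 3 (.node 1 (.leaf (20, 27)) (.node 1 (.leaf (21, 27)) (.leaf (22, 27)))) (.node 1 (.leaf (20, 28)) (.node 1 (.leaf (21, 28)) (.leaf (20, 29))))))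
(.node 6 (.node 3 (.node 1 (.leaf (21, 29)) (.node 1 (.leaf (22, 29)) (.leaf (20, 30)))) (.node 1 (.leaf (21, 30)) (.node 1 (.leaf (22, 30)) (.leaf (20, 31)))))
(.node 3 (.node 1 (.leaf (21, 31)) (.node 1 (.leaf (22, 31)) (.leaf (20, 32)))) (.node 1 (.leaf (22, 32)) (.node 1 (.leaf (20, 33)) (.leaf (21, 33)))))))))
(.node 48 (.node 24 (.node 12 (.node 6 (.node 3 (.node 1 (.leaf (22, 33)) (.node 1 (.leaf (20, 34)) (.leaf (21, 34)))) (.node 1 (.leaf (22, 34)) (.node 1 (.leaf (20, 35)) (.leaf (21, 35)))))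
(.node 3 (.node 1 (.leaf (22, 35)) (.node 1 (.leaf (20, 36)) (.leaf (21, 36)))) (.node 1 (.leaf (20, 37)) (.node 1 (.leaf (21, 37)) (.leaf (22, 37))))))
(.node 6 (.node 3 (.node 1 (.leaf (22, 38)) (.node 1 (.leaf (20, 39)) (.leaf (21, 39)))) (.node 1 (.leaf (22, 39)) (.node 1 (.leaf (20, 40)) (.leaf (21, 40)))))
(.node 3 (.node 1 (.leaf (22, 40)) (.node 1 (.leaf (20, 41)) (.leaf (21, 41)))) (.node 1 (.leaf (22, 41)) (.node 1 (.leaf (20, 42)) (.leaf (21, 42)))))))
(.node 12 (.node 6 (.node 3 (.node 1 (.leaf (22, 42)) (.node 1 (.leaf (20, 43)) (.leaf (21, 43)))) (.node 1 (.leaf (22, 43)) (.node 1 (.leaf (20, 44)) (.leaf (21, 44)))))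
(.node 3 (.node 1 (.leaf (20, 45)) (.node 1 (.leaf (21, 45)) (.leaf (22, 45)))) (.node 1 (.leaf (20, 46)) (.node 1 (.leaf (21, 46)) (.leaf (22, 46))))))
(.node 6 (.node 3 (.node 1 (.leaf (20, 47)) (.node 1 (.leaf (21, 47)) (.leaf (22, 47)))) (.node 1 (.leaf (20, 48)) (.node 1 (.leaf (21, 48)) (.leaf (22, 48)))))
(.node 3 (.node 1 (.leaf (20, 49)) (.node 1 (.leaf (21, 49)) (.leaf (22, 49)))) (.node 1 (.leaf (20, 50)) (.node 1 (.leaf (21, 50)) (.leaf (22, 50))))))))
(.node 24 (.node 12 (.node 6 (.node 3 (.node 1 (.leaf (20, 51)) (.node 1 (.leaf (22, 51)) (.leaf (20, 52)))) (.node 1 (.leaf (21, 52)) (.node 1 (.leaf (22, 52)) (.leaf (20, 53)))))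
(.node 3 (.node 1 (.leaf (21, 53)) (.node 1 (.leaf (20, 54)) (.leaf (21, 54)))) (.node 1 (.leaf (22, 54)) (.node 1 (.leaf (20, 55)) (.leaf (21, 55))))))
(.node 6 (.node 3 (.node 1 (.leaf (22, 55)) (.node 1 (.leaf (20, 56)) (.leaf (21, 56)))) (.node 1 (.leaf (22, 56)) (.node 1 (.leaf (20, 57)) (.leaf (22, 57)))))
(.node 3 (.node 1 (.leaf (20, 58)) (.node 1 (.leaf (21, 58)) (.leaf (22, 58)))) (.node 1 (.leaf (20, 59)) (.node 1 (.leaf (21, 59)) (.leaf (22, 59)))))))
(.node 12 (.node 6 (.node 3 (.node 1 (.leaf (20, 60)) (.node 1 (.leaf (21, 60)) (.leaf (22, 60)))) (.node 1 (.leaf (20, 61)) (.node 1 (.leaf (21, 61)) (.leaf (20, 62)))))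
(.node 3 (.node 1 (.leaf (21, 62)) (.node 1 (.leaf (22, 62)) (.leaf (22, 63)))) (.node 1 (.leaf (21, 64)) (.node 1 (.leaf (22, 64)) (.leaf (20, 65))))))
(.node 6 (.node 3 (.node 1 (.leaf (21, 65)) (.node 1 (.leaf (22, 65)) (.leaf (20, 66)))) (.node 1 (.leaf (21, 66)) (.node 1 (.leaf (22, 66)) (.leaf (20, 67)))))
(.node 3 (.node 1 (.leaf (21, 67)) (.node 1 (.leaf (20, 68)) (.leaf (21, 68)))) (.node 1 (.leaf (22, 68)) (.node 1 (.leaf (20, 69)) (.leaf (21, 69))))))))))
(.node 96 (.node 48 (.node 24 (.node 12 (.node 6 (.node 3 (.node 1 (.leaf (22, 69)) (.node 1 (.leaf (20, 70)) (.leaf (21, 70)))) (.node 1 (.leaf (21, 71)) (.node 1 (.leaf (22, 71)) (.leaf (20, 72)))))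
(.node 3 (.node 1 (.leaf (22, 72)) (.node 1 (.leaf (20, 73)) (.leaf (21, 73)))) (.node 1 (.leaf (22, 73)) (.node 1 (.leaf (20, 74)) (.leaf (21, 74))))))
(.node 6 (.node 3 (.node 1 (.leaf (22, 74)) (.node 1 (.leaf (20, 75)) (.leaf (21, 75)))) (.node 1 (.leaf (22, 75)) (.node 1 (.leaf (20, 76)) (.leaf (21, 76)))))
(.node 3 (.node 1 (.leaf (22, 76)) (.node 1 (.leaf (20, 77)) (.leaf (21, 77)))) (.node 1 (.leaf (22, 77)) (.node 1 (.leaf (20, 78)) (.leaf (21, 78)))))))
(.node 12 (.node 6 (.node 3 (.node 1 (.leaf (20, 79)) (.node 1 (.leaf (21, 79)) (.leaf (22, 79)))) (.node 1 (.leaf (20, 80)) (.node 1 (.leaf (21, 80)) (.leaf (22, 80)))))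
(.node 3 (.node 1 (.leaf (20, 81)) (.node 1 (.leaf (21, 81)) (.leaf (22, 81)))) (.node 1 (.leaf (20, 82)) (.node 1 (.leaf (22, 82)) (.leaf (20, 83))))))
(.node 6 (.node 3 (.node 1 (.leaf (21, 83)) (.node 1 (.leaf (22, 83)) (.leaf (20, 84)))) (.node 1 (.leaf (21, 84)) (.node 1 (.leaf (22, 84)) (.leaf (20, 85)))))
(.node 3 (.node 1 (.leaf (21, 85)) (.node 1 (.leaf (22, 85)) (.leaf (20, 86)))) (.node 1 (.leaf (21, 86)) (.node 1 (.leaf (20, 87)) (.leaf (21, 87))))))))
(.node 24 (.node 12 (.node 6 (.node 3 (.node 1 (.leaf (22, 87)) (.node 1 (.leaf (22, 88)) (.leaf (21, 89)))) (.node 1 (.leaf (22, 89)) (.node 1 (.leaf (20, 90)) (.leaf (21, 90)))))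
(.node 3 (.node 1 (.leaf (22, 90)) (.node 1 (.leaf (20, 91)) (.leaf (21, 91)))) (.node 1 (.leaf (22, 91)) (.node 1 (.leaf (20, 92)) (.leaf (21, 92))))))
(.node 6 (.node 3 (.node 1 (.leaf (22, 92)) (.node 1 (.leaf (20, 93)) (.leaf (21, 93)))) (.node 1 (.leaf (22, 93)) (.node 1 (.leaf (20, 94)) (.leaf (21, 94)))))
(.node 3 (.node 1 (.leaf (22, 94)) (.node 1 (.leaf (21, 95)) (.leaf (22, 95)))) (.node 1 (.leaf (20, 96)) (.node 1 (.leaf (21, 96)) (.leaf (20, 97)))))))
(.node 12 (.node 6 (.node 3 (.node 1 (.leaf (21, 97)) (.node 1 (.leaf (22, 97)) (.leaf (20, 98)))) (.node 1 (.leaf (22, 98)) (.node 1 (.leaf (20, 99)) (.leaf (21, 99)))))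
(.node 3 (.node 1 (.leaf (22, 99)) (.node 1 (.leaf (20, 100)) (.leaf (21, 100)))) (.node 1 (.leaf (20, 101)) (.node 1 (.leaf (21, 101)) (.leaf (22, 101))))))
(.node 6 (.node 3 (.node 1 (.leaf (20, 102)) (.node 1 (.leaf (21, 102)) (.leaf (22, 102)))) (.node 1 (.leaf (21, 103)) (.node 1 (.leaf (22, 103)) (.leaf (20, 104)))))
(.node 3 (.node 1 (.leaf (22, 104)) (.node 1 (.leaf (20, 105)) (.leaf (21, 105)))) (.node 1 (.leaf (22, 105)) (.node 1 (.leaf (20, 106)) (.leaf (21, 106)))))))))
(.node 48 (.node 24 (.node 12 (.node 6 (.node 3 (.node 1 (.leaf (22, 106)) (.node 1 (.leaf (20, 107)) (.leaf (21, 107)))) (.node 1 (.leaf (22, 107)) (.node 1 (.leaf (20, 109)) (.leaf (21, 109)))))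
(.node 3 (.node 1 (.leaf (22, 109)) (.node 1 (.leaf (20, 110)) (.leaf (21, 110)))) (.node 1 (.leaf (22, 110)) (.node 1 (.leaf (20, 111)) (.leaf (21, 111))))))
(.node 6 (.node 3 (.node 1 (.leaf (22, 111)) (.node 1 (.leaf (20, 112)) (.leaf (21, 112)))) (.node 1 (.leaf (20, 113)) (.node 1 (.leaf (21, 113)) (.leaf (22, 113)))))
(.node 3 (.node 1 (.leaf (20, 114)) (.node 1 (.leaf (21, 114)) (.leaf (20, 115)))) (.node 1 (.leaf (21, 115)) (.node 1 (.leaf (20, 116)) (.leaf (21, 116)))))))
(.node 12 (.node 6 (.node 3 (.node 1 (.leaf (22, 116)) (.node 1 (.leaf (21, 117)) (.leaf (22, 117)))) (.node 1 (.leaf (20, 118)) (.node 1 (.leaf (21, 118)) (.leaf (22, 118)))))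
(.node 3 (.node 1 (.leaf (20, 119)) (.node 1 (.leaf (20, 120)) (.leaf (21, 120)))) (.node 1 (.leaf (22, 120)) (.node 1 (.leaf (21, 121)) (.leaf (20, 122))))))
(.node 6 (.node 3 (.node 1 (.leaf (21, 122)) (.node 1 (.leaf (22, 122)) (.leaf (21, 123)))) (.node 1 (.leaf (22, 123)) (.node 1 (.leaf (20, 124)) (.leaf (21, 124)))))
(.node 3 (.node 1 (.leaf (22, 125)) (.node 1 (.leaf (20, 126)) (.leaf (21, 126)))) (.node 1 (.leaf (22, 126)) (.node 1 (.leaf (20, 127)) (.leaf (21, 127))))))))
(.node 24 (.node 12 (.node 6 (.node 3 (.node 1 (.leaf (22, 127)) (.node 1 (.leaf (20, 128)) (.leaf (21, 128)))) (.node 1 (.leaf (22, 128)) (.node 1 (.leaf (21, 129)) (.leaf (20, 130)))))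
(.node 3 (.node 1 (.leaf (21, 130)) (.node 1 (.leaf (22, 130)) (.leaf (22, 131)))) (.node 1 (.leaf (21, 132)) (.node 1 (.leaf (22, 132)) (.leaf (20, 133))))))
(.node 6 (.node 3 (.node 1 (.leaf (21, 133)) (.node 1 (.leaf (20, 134)) (.leaf (21, 134)))) (.node 1 (.leaf (22, 134)) (.node 1 (.leaf (20, 135)) (.leaf (20, 136)))))
(.node 3 (.node 1 (.leaf (21, 136)) (.node 1 (.leaf (22, 136)) (.leaf (20, 137)))) (.node 1 (.leaf (21, 137)) (.node 1 (.leaf (20, 138)) (.leaf (21, 138)))))))
(.node 12 (.node 6 (.node 3 (.node 1 (.leaf (21, 139)) (.node 1 (.leaf (22, 139)) (.leaf (20, 140)))) (.node 1 (.leaf (22, 140)) (.node 1 (.leaf (20, 141)) (.leaf (21, 141)))))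
(.node 3 (.node 1 (.leaf (22, 141)) (.node 1 (.leaf (20, 142)) (.leaf (21, 142)))) (.node 1 (.leaf (22, 142)) (.node 1 (.leaf (20, 143)) (.leaf (22, 143))))))
(.node 6 (.node 3 (.node 1 (.leaf (20, 144)) (.node 1 (.leaf (21, 144)) (.leaf (22, 144)))) (.node 1 (.leaf (20, 145)) (.node 1 (.leaf (21, 145)) (.leaf (22, 145)))))
(.node 3 (.node 1 (.leaf (20, 146)) (.node 1 (.leaf (21, 146)) (.leaf (20, 147)))) (.node 1 (.leaf (21, 147)) (.node 1 (.leaf (22, 147)) (.leaf (20, 148)))))))))))

/-- The reasons. -/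
def caseCFullN1HowLR : Tab (ℕ × ℕ) :=
(.node 192 (.node 96 (.node 48 (.node 24 (.node 12 (.node 6 (.node 3 (.node 1 (.leaf (21, 148)) (.node 1 (.leaf (22, 148)) (.leaf (20, 149)))) (.node 1 (.leaf (21, 149)) (.node 1 (.leaf (22, 149)) (.leaf (20, 150)))))
(.node 3 (.node 1 (.leaf (22, 150)) (.node 1 (.leaf (20, 151)) (.leaf (21, 151)))) (.node 1 (.leaf (21, 152)) (.node 1 (.leaf (22, 152)) (.leaf (20, 153))))))
(.node 6 (.node 3 (.node 1 (.leaf (21, 153)) (.node 1 (.leaf (22, 153)) (.leaf (20, 154)))) (.node 1 (.leaf (21, 154)) (.node 1 (.leaf (20, 155)) (.leaf (21, 155)))))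
(.node 3 (.node 1 (.leaf (22, 155)) (.node 1 (.leaf (22, 156)) (.leaf (21, 157)))) (.node 1 (.leaf (22, 157)) (.node 1 (.leaf (20, 158)) (.leaf (21, 158)))))))
(.node 12 (.node 6 (.node 3 (.node 1 (.leaf (22, 158)) (.node 1 (.leaf (21, 159)) (.leaf (22, 159)))) (.node 1 (.leaf (22, 160)) (.node 1 (.leaf (20, 161)) (.leaf (21, 161)))))
(.node 3 (.node 1 (.leaf (22, 161)) (.node 1 (.leaf (20, 162)) (.leaf (21, 162)))) (.node 1 (.leaf (21, 163)) (.node 1 (.leaf (22, 163)) (.leaf (20, 164))))))
(.node 6 (.node 3 (.node 1 (.leaf (20, 165)) (.node 1 (.leaf (21, 165)) (.leaf (22, 165)))) (.node 1 (.leaf (20, 166)) (.node 1 (.leaf (22, 166)) (.leaf (20, 167)))))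
(.node 3 (.node 1 (.leaf (21, 167)) (.node 1 (.leaf (22, 167)) (.leaf (21, 168)))) (.node 1 (.leaf (20, 169)) (.node 1 (.leaf (21, 169)) (.leaf (22, 169))))))))
(.node 24 (.node 12 (.node 6 (.node 3 (.node 1 (.leaf (20, 170)) (.node 1 (.leaf (21, 170)) (.leaf (22, 170)))) (.node 1 (.leaf (21, 171)) (.node 1 (.leaf (22, 171)) (.leaf (20, 172)))))
(.node 3 (.node 1 (.leaf (22, 172)) (.node 1 (.leaf (20, 173)) (.leaf (21, 173)))) (.node 1 (.leaf (22, 173)) (.node 1 (.leaf (20, 174)) (.leaf (21, 174))))))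
(.node 6 (.node 3 (.node 1 (.leaf (22, 174)) (.node 1 (.leaf (21, 175)) (.leaf (22, 175)))) (.node 1 (.leaf (20, 177)) (.node 1 (.leaf (21, 177)) (.leaf (22, 177)))))
(.node 3 (.node 1 (.leaf (21, 178)) (.node 1 (.leaf (22, 178)) (.leaf (20, 179)))) (.node 1 (.leaf (21, 179)) (.node 1 (.leaf (22, 179)) (.leaf (20, 180)))))))
(.node 12 (.node 6 (.node 3 (.node 1 (.leaf (21, 180)) (.node 1 (.leaf (22, 180)) (.leaf (20, 181)))) (.node 1 (.leaf (21, 181)) (.node 1 (.leaf (22, 181)) (.leaf (20, 183)))))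
(.node 3 (.node 1 (.leaf (21, 183)) (.node 1 (.leaf (22, 183)) (.leaf (21, 184)))) (.node 1 (.leaf (22, 184)) (.node 1 (.leaf (20, 185)) (.leaf (21, 185))))))
(.node 6 (.node 3 (.node 1 (.leaf (22, 185)) (.node 1 (.leaf (21, 186)) (.leaf (20, 187)))) (.node 1 (.leaf (22, 187)) (.node 1 (.leaf (20, 188)) (.leaf (22, 188)))))
(.node 3 (.node 1 (.leaf (20, 189)) (.node 1 (.leaf (21, 189)) (.leaf (22, 189)))) (.node 1 (.leaf (20, 190)) (.node 1 (.leaf (21, 190)) (.leaf (20, 191)))))))))
(.node 48 (.node 24 (.node 12 (.node 6 (.node 3 (.node 1 (.leaf (21, 191)) (.node 1 (.leaf (22, 191)) (.leaf (20, 192)))) (.node 1 (.leaf (22, 192)) (.node 1 (.leaf (20, 193)) (.leaf (21, 193)))))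
(.node 3 (.node 1 (.leaf (22, 194)) (.node 1 (.leaf (20, 195)) (.leaf (21, 195)))) (.node 1 (.leaf (22, 195)) (.node 1 (.leaf (20, 196)) (.leaf (21, 196))))))
(.node 6 (.node 3 (.node 1 (.leaf (22, 196)) (.node 1 (.leaf (20, 197)) (.leaf (21, 197)))) (.node 1 (.leaf (22, 198)) (.node 1 (.leaf (21, 199)) (.leaf (22, 199)))))
(.node 3 (.node 1 (.leaf (20, 200)) (.node 1 (.leaf (21, 200)) (.leaf (22, 200)))) (.node 1 (.leaf (20, 201)) (.node 1 (.leaf (21, 201)) (.leaf (22, 201)))))))
(.node 12 (.node 6 (.node 3 (.node 1 (.leaf (20, 202)) (.node 1 (.leaf (21, 202)) (.leaf (20, 203)))) (.node 1 (.leaf (21, 203)) (.node 1 (.leaf (22, 203)) (.leaf (22, 204)))))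
(.node 3 (.node 1 (.leaf (20, 205)) (.node 1 (.leaf (21, 205)) (.leaf (21, 206)))) (.node 1 (.leaf (22, 206)) (.node 1 (.leaf (20, 207)) (.leaf (22, 207))))))
(.node 6 (.node 3 (.node 1 (.leaf (20, 208)) (.node 1 (.leaf (22, 208)) (.leaf (20, 209)))) (.node 1 (.leaf (21, 209)) (.node 1 (.leaf (22, 209)) (.leaf (21, 210)))))
(.node 3 (.node 1 (.leaf (22, 210)) (.node 1 (.leaf (20, 211)) (.leaf (21, 211)))) (.node 1 (.leaf (20, 212)) (.node 1 (.leaf (21, 212)) (.leaf (22, 212))))))))
(.node 24 (.node 12 (.node 6 (.node 3 (.node 1 (.leaf (21, 213)) (.node 1 (.leaf (20, 214)) (.leaf (21, 214)))) (.node 1 (.leaf (22, 214)) (.node 1 (.leaf (20, 215)) (.leaf (22, 215)))))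
(.node 3 (.node 1 (.leaf (20, 216)) (.node 1 (.leaf (21, 216)) (.leaf (22, 216)))) (.node 1 (.leaf (20, 217)) (.node 1 (.leaf (21, 217)) (.leaf (20, 218))))))
(.node 6 (.node 3 (.node 1 (.leaf (21, 218)) (.node 1 (.leaf (22, 218)) (.leaf (20, 219)))) (.node 1 (.leaf (21, 219)) (.node 1 (.leaf (20, 220)) (.leaf (21, 220)))))
(.node 3 (.node 1 (.leaf (22, 220)) (.node 1 (.leaf (22, 221)) (.leaf (21, 222)))) (.node 1 (.leaf (22, 222)) (.node 1 (.leaf (20, 223)) (.leaf (21, 223)))))))
(.node 12 (.node 6 (.node 3 (.node 1 (.leaf (20, 224)) (.node 1 (.leaf (21, 224)) (.leaf (20, 225)))) (.node 1 (.leaf (22, 225)) (.node 1 (.leaf (21, 226)) (.leaf (22, 226)))))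
(.node 3 (.node 1 (.leaf (20, 227)) (.node 1 (.leaf (21, 227)) (.leaf (22, 227)))) (.node 1 (.leaf (21, 228)) (.node 1 (.leaf (22, 228)) (.leaf (20, 229))))))
(.node 6 (.node 3 (.node 1 (.leaf (21, 229)) (.node 1 (.leaf (21, 230)) (.leaf (22, 230)))) (.node 1 (.leaf (20, 231)) (.node 1 (.leaf (22, 231)) (.leaf (20, 232)))))
(.node 3 (.node 1 (.leaf (22, 232)) (.node 1 (.leaf (21, 233)) (.leaf (20, 234)))) (.node 1 (.leaf (21, 234)) (.node 1 (.leaf (21, 235)) (.leaf (22, 235))))))))))
(.node 96 (.node 48 (.node 24 (.node 12 (.node 6 (.node 3 (.node 1 (.leaf (21, 236)) (.node 1 (.leaf (20, 237)) (.leaf (22, 237)))) (.node 1 (.leaf (20, 238)) (.node 1 (.leaf (21, 238)) (.leaf (22, 238)))))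
(.node 3 (.node 1 (.leaf (20, 239)) (.node 1 (.leaf (21, 239)) (.leaf (22, 239)))) (.node 1 (.leaf (20, 240)) (.node 1 (.leaf (21, 240)) (.leaf (22, 240))))))
(.node 6 (.node 3 (.node 1 (.leaf (20, 242)) (.node 1 (.leaf (21, 242)) (.leaf (22, 242)))) (.node 1 (.leaf (20, 243)) (.node 1 (.leaf (21, 243)) (.leaf (20, 244)))))
(.node 3 (.node 1 (.leaf (21, 244)) (.node 1 (.leaf (22, 244)) (.leaf (20, 245)))) (.node 1 (.leaf (21, 245)) (.node 1 (.leaf (22, 245)) (.leaf (20, 246)))))))
(.node 12 (.node 6 (.node 3 (.node 1 (.leaf (21, 246)) (.node 1 (.leaf (21, 247)) (.leaf (20, 248)))) (.node 1 (.leaf (21, 248)) (.node 1 (.leaf (22, 248)) (.leaf (21, 249)))))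
(.node 3 (.node 1 (.leaf (20, 250)) (.node 1 (.leaf (22, 250)) (.leaf (20, 251)))) (.node 1 (.leaf (21, 251)) (.node 1 (.leaf (22, 251)) (.leaf (20, 252))))))
(.node 6 (.node 3 (.node 1 (.leaf (22, 252)) (.node 1 (.leaf (20, 253)) (.leaf (20, 254)))) (.node 1 (.leaf (22, 254)) (.node 1 (.leaf (20, 255)) (.leaf (21, 255)))))
(.node 3 (.node 1 (.leaf (20, 257)) (.node 1 (.leaf (21, 257)) (.leaf (22, 257)))) (.node 1 (.leaf (20, 258)) (.node 1 (.leaf (22, 258)) (.leaf (20, 259))))))))
(.node 24 (.node 12 (.node 6 (.node 3 (.node 1 (.leaf (21, 259)) (.node 1 (.leaf (22, 259)) (.leaf (20, 260)))) (.node 1 (.leaf (20, 261)) (.node 1 (.leaf (21, 261)) (.leaf (21, 262)))))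
(.node 3 (.node 1 (.leaf (22, 262)) (.node 1 (.leaf (20, 263)) (.leaf (21, 263)))) (.node 1 (.leaf (22, 263)) (.node 1 (.leaf (22, 264)) (.leaf (20, 265))))))
(.node 6 (.node 3 (.node 1 (.leaf (21, 265)) (.node 1 (.leaf (22, 265)) (.leaf (20, 266)))) (.node 1 (.leaf (22, 266)) (.node 1 (.leaf (20, 267)) (.leaf (22, 267)))))
(.node 3 (.node 1 (.leaf (20, 268)) (.node 1 (.leaf (21, 268)) (.leaf (20, 269)))) (.node 1 (.leaf (22, 269)) (.node 1 (.leaf (21, 270)) (.leaf (22, 270)))))))
(.node 12 (.node 6 (.node 3 (.node 1 (.leaf (20, 271)) (.node 1 (.leaf (21, 271)) (.leaf (20, 272)))) (.node 1 (.leaf (20, 273)) (.node 1 (.leaf (21, 273)) (.leaf (21, 274)))))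
(.node 3 (.node 1 (.leaf (22, 274)) (.node 1 (.leaf (20, 275)) (.leaf (22, 275)))) (.node 1 (.leaf (20, 276)) (.node 1 (.leaf (20, 277)) (.leaf (21, 277))))))
(.node 6 (.node 3 (.node 1 (.leaf (22, 277)) (.node 1 (.leaf (22, 278)) (.leaf (20, 279)))) (.node 1 (.leaf (21, 279)) (.node 1 (.leaf (21, 280)) (.leaf (21, 281)))))
(.node 3 (.node 1 (.leaf (22, 281)) (.node 1 (.leaf (20, 282)) (.leaf (21, 282)))) (.node 1 (.leaf (22, 282)) (.node 1 (.leaf (20, 283)) (.leaf (21, 283)))))))))
(.node 48 (.node 24 (.node 12 (.node 6 (.node 3 (.node 1 (.leaf (21, 284)) (.node 1 (.leaf (22, 284)) (.leaf (20, 286)))) (.node 1 (.leaf (21, 286)) (.node 1 (.leaf (22, 286)) (.leaf (20, 287)))))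
(.node 3 (.node 1 (.leaf (22, 287)) (.node 1 (.leaf (21, 288)) (.leaf (20, 289)))) (.node 1 (.leaf (21, 289)) (.node 1 (.leaf (20, 290)) (.leaf (21, 290))))))
(.node 6 (.node 3 (.node 1 (.leaf (22, 290)) (.node 1 (.leaf (20, 291)) (.leaf (21, 291)))) (.node 1 (.leaf (20, 292)) (.node 1 (.leaf (21, 292)) (.leaf (21, 293)))))
(.node 3 (.node 1 (.leaf (22, 293)) (.node 1 (.leaf (22, 294)) (.leaf (20, 295)))) (.node 1 (.leaf (21, 295)) (.node 1 (.leaf (22, 295)) (.leaf (20, 296)))))))
(.node 12 (.node 6 (.node 3 (.node 1 (.leaf (20, 297)) (.node 1 (.leaf (21, 297)) (.leaf (22, 297)))) (.node 1 (.leaf (21, 298)) (.node 1 (.leaf (21, 299)) (.leaf (22, 299)))))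
(.node 3 (.node 1 (.leaf (21, 300)) (.node 1 (.leaf (20, 301)) (.leaf (21, 301)))) (.node 1 (.leaf (22, 302)) (.node 1 (.leaf (20, 303)) (.leaf (21, 303))))))
(.node 6 (.node 3 (.node 1 (.leaf (22, 303)) (.node 1 (.leaf (20, 304)) (.leaf (21, 304)))) (.node 1 (.leaf (22, 304)) (.node 1 (.leaf (21, 305)) (.leaf (22, 305)))))
(.node 3 (.node 1 (.leaf (20, 307)) (.node 1 (.leaf (21, 307)) (.leaf (20, 309)))) (.node 1 (.leaf (21, 309)) (.node 1 (.leaf (20, 310)) (.leaf (20, 311))))))))
(.node 24 (.node 12 (.node 6 (.node 3 (.node 1 (.leaf (21, 311)) (.node 1 (.leaf (22, 311)) (.leaf (20, 312)))) (.node 1 (.leaf (21, 312)) (.node 1 (.leaf (21, 313)) (.leaf (22, 313)))))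
(.node 3 (.node 1 (.leaf (22, 314)) (.node 1 (.leaf (20, 315)) (.leaf (21, 315)))) (.node 1 (.leaf (22, 315)) (.node 1 (.leaf (20, 316)) (.leaf (21, 316))))))
(.node 6 (.node 3 (.node 1 (.leaf (20, 317)) (.node 1 (.leaf (20, 318)) (.leaf (21, 318)))) (.node 1 (.leaf (22, 318)) (.node 1 (.leaf (20, 319)) (.leaf (21, 319)))))
(.node 3 (.node 1 (.leaf (20, 320)) (.node 1 (.leaf (21, 320)) (.leaf (22, 320)))) (.node 1 (.leaf (20, 321)) (.node 1 (.leaf (21, 321)) (.leaf (22, 321)))))))
(.node 12 (.node 6 (.node 3 (.node 1 (.leaf (20, 322)) (.node 1 (.leaf (22, 322)) (.leaf (21, 323)))) (.node 1 (.leaf (21, 324)) (.node 1 (.leaf (20, 325)) (.leaf (21, 325)))))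
(.node 3 (.node 1 (.leaf (22, 325)) (.node 1 (.leaf (20, 326)) (.leaf (21, 326)))) (.node 1 (.leaf (22, 326)) (.node 1 (.leaf (21, 328)) (.leaf (22, 328))))))
(.node 6 (.node 3 (.node 1 (.leaf (20, 329)) (.node 1 (.leaf (21, 329)) (.leaf (22, 329)))) (.node 1 (.leaf (20, 330)) (.node 1 (.leaf (21, 330)) (.leaf (22, 330)))))
(.node 3 (.node 1 (.leaf (20, 331)) (.node 1 (.leaf (21, 331)) (.leaf (21, 332)))) (.node 1 (.leaf (20, 333)) (.node 1 (.leaf (20, 334)) (.leaf (21, 334)))))))))))

/-- The reasons. -/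
def caseCFullN1HowL : Tab (ℕ × ℕ) := .node 384 caseCFullN1HowLL caseCFullN1HowLR

/-- The reasons. -/
def caseCFullN1HowRL : Tab (ℕ × ℕ) :=
(.node 192 (.node 96 (.node 48 (.node 24 (.node 12 (.node 6 (.node 3 (.node 1 (.leaf (22, 334)) (.node 1 (.leaf (20, 335)) (.leaf (22, 335)))) (.node 1 (.leaf (20, 336)) (.node 1 (.leaf (21, 336)) (.leaf (21, 337)))))
(.node 3 (.node 1 (.leaf (20, 338)) (.node 1 (.leaf (21, 338)) (.leaf (22, 338)))) (.node 1 (.leaf (20, 339)) (.node 1 (.leaf (21, 339)) (.leaf (20, 340))))))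
(.node 6 (.node 3 (.node 1 (.leaf (22, 340)) (.node 1 (.leaf (20, 341)) (.leaf (21, 341)))) (.node 1 (.leaf (22, 341)) (.node 1 (.leaf (21, 342)) (.leaf (22, 342)))))
(.node 3 (.node 1 (.leaf (21, 343)) (.node 1 (.leaf (22, 343)) (.leaf (20, 345)))) (.node 1 (.leaf (21, 345)) (.node 1 (.leaf (22, 345)) (.leaf (21, 346)))))))
(.node 12 (.node 6 (.node 3 (.node 1 (.leaf (22, 346)) (.node 1 (.leaf (20, 347)) (.leaf (21, 347)))) (.node 1 (.leaf (22, 347)) (.node 1 (.leaf (21, 348)) (.leaf (22, 348)))))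
(.node 3 (.node 1 (.leaf (20, 350)) (.node 1 (.leaf (21, 350)) (.leaf (22, 350)))) (.node 1 (.leaf (21, 351)) (.node 1 (.leaf (22, 351)) (.leaf (20, 352))))))
(.node 6 (.node 3 (.node 1 (.leaf (21, 352)) (.node 1 (.leaf (22, 352)) (.leaf (22, 353)))) (.node 1 (.leaf (20, 354)) (.node 1 (.leaf (22, 354)) (.leaf (20, 355)))))
(.node 3 (.node 1 (.leaf (22, 355)) (.node 1 (.leaf (20, 356)) (.leaf (21, 356)))) (.node 1 (.leaf (21, 357)) (.node 1 (.leaf (22, 357)) (.leaf (22, 359))))))))
(.node 24 (.node 12 (.node 6 (.node 3 (.node 1 (.leaf (22, 360)) (.node 1 (.leaf (20, 361)) (.leaf (22, 361)))) (.node 1 (.leaf (20, 362)) (.node 1 (.leaf (21, 362)) (.leaf (22, 363)))))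
(.node 3 (.node 1 (.leaf (22, 364)) (.node 1 (.leaf (20, 365)) (.leaf (21, 365)))) (.node 1 (.leaf (22, 365)) (.node 1 (.leaf (21, 366)) (.leaf (20, 367))))))
(.node 6 (.node 3 (.node 1 (.leaf (21, 367)) (.node 1 (.leaf (20, 368)) (.leaf (21, 368)))) (.node 1 (.leaf (22, 368)) (.node 1 (.leaf (22, 369)) (.leaf (20, 370)))))
(.node 3 (.node 1 (.leaf (21, 370)) (.node 1 (.leaf (20, 371)) (.leaf (22, 371)))) (.node 1 (.leaf (20, 372)) (.node 1 (.leaf (21, 373)) (.leaf (22, 373)))))))
(.node 12 (.node 6 (.node 3 (.node 1 (.leaf (21, 374)) (.node 1 (.leaf (22, 374)) (.leaf (20, 375)))) (.node 1 (.leaf (21, 375)) (.node 1 (.leaf (20, 376)) (.leaf (21, 376)))))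
(.node 3 (.node 1 (.leaf (22, 376)) (.node 1 (.leaf (20, 378)) (.leaf (21, 378)))) (.node 1 (.leaf (22, 378)) (.node 1 (.leaf (20, 379)) (.leaf (22, 379))))))
(.node 6 (.node 3 (.node 1 (.leaf (20, 380)) (.node 1 (.leaf (21, 380)) (.leaf (22, 380)))) (.node 1 (.leaf (20, 381)) (.node 1 (.leaf (21, 381)) (.leaf (20, 382)))))
(.node 3 (.node 1 (.leaf (21, 382)) (.node 1 (.leaf (22, 382)) (.leaf (20, 383)))) (.node 1 (.leaf (21, 383)) (.node 1 (.leaf (21, 384)) (.leaf (22, 385)))))))))
(.node 48 (.node 24 (.node 12 (.node 6 (.node 3 (.node 1 (.leaf (21, 386)) (.node 1 (.leaf (22, 386)) (.leaf (20, 387)))) (.node 1 (.leaf (21, 387)) (.node 1 (.leaf (20, 388)) (.leaf (21, 388)))))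
(.node 3 (.node 1 (.leaf (20, 389)) (.node 1 (.leaf (22, 389)) (.leaf (21, 390)))) (.node 1 (.leaf (22, 390)) (.node 1 (.leaf (21, 391)) (.leaf (22, 391))))))
(.node 6 (.node 3 (.node 1 (.leaf (21, 392)) (.node 1 (.leaf (22, 392)) (.leaf (22, 393)))) (.node 1 (.leaf (22, 394)) (.node 1 (.leaf (21, 395)) (.leaf (20, 396)))))
(.node 3 (.node 1 (.leaf (21, 396)) (.node 1 (.leaf (22, 397)) (.leaf (20, 399)))) (.node 1 (.leaf (20, 400)) (.node 1 (.leaf (21, 400)) (.leaf (22, 400)))))))
(.node 12 (.node 6 (.node 3 (.node 1 (.leaf (20, 401)) (.node 1 (.leaf (22, 401)) (.leaf (21, 402)))) (.node 1 (.leaf (20, 404)) (.node 1 (.leaf (21, 404)) (.leaf (21, 405)))))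
(.node 3 (.node 1 (.leaf (20, 406)) (.node 1 (.leaf (21, 406)) (.leaf (22, 406)))) (.node 1 (.leaf (21, 407)) (.node 1 (.leaf (22, 407)) (.leaf (20, 408))))))
(.node 6 (.node 3 (.node 1 (.leaf (21, 408)) (.node 1 (.leaf (20, 409)) (.leaf (21, 409)))) (.node 1 (.leaf (21, 410)) (.node 1 (.leaf (20, 413)) (.leaf (22, 413)))))
(.node 3 (.node 1 (.leaf (20, 414)) (.node 1 (.leaf (21, 414)) (.leaf (21, 416)))) (.node 1 (.leaf (22, 416)) (.node 1 (.leaf (20, 417)) (.leaf (21, 417))))))))
(.node 24 (.node 12 (.node 6 (.node 3 (.node 1 (.leaf (22, 417)) (.node 1 (.leaf (20, 418)) (.leaf (20, 419)))) (.node 1 (.leaf (21, 419)) (.node 1 (.leaf (20, 420)) (.leaf (22, 420)))))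
(.node 3 (.node 1 (.leaf (22, 421)) (.node 1 (.leaf (20, 422)) (.leaf (21, 422)))) (.node 1 (.leaf (22, 422)) (.node 1 (.leaf (20, 423)) (.leaf (20, 424))))))
(.node 6 (.node 3 (.node 1 (.leaf (22, 424)) (.node 1 (.leaf (20, 425)) (.leaf (20, 426)))) (.node 1 (.leaf (22, 426)) (.node 1 (.leaf (21, 427)) (.leaf (22, 427)))))
(.node 3 (.node 1 (.leaf (20, 428)) (.node 1 (.leaf (20, 429)) (.leaf (22, 431)))) (.node 1 (.leaf (20, 432)) (.node 1 (.leaf (22, 433)) (.leaf (22, 434)))))))
(.node 12 (.node 6 (.node 3 (.node 1 (.leaf (21, 435)) (.node 1 (.leaf (21, 436)) (.leaf (21, 437)))) (.node 1 (.leaf (22, 437)) (.node 1 (.leaf (20, 438)) (.leaf (21, 438)))))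
(.node 3 (.node 1 (.leaf (22, 438)) (.node 1 (.leaf (21, 439)) (.leaf (21, 440)))) (.node 1 (.leaf (20, 442)) (.node 1 (.leaf (22, 442)) (.leaf (20, 443))))))
(.node 6 (.node 3 (.node 1 (.leaf (22, 443)) (.node 1 (.leaf (21, 444)) (.leaf (20, 445)))) (.node 1 (.leaf (21, 445)) (.node 1 (.leaf (22, 445)) (.leaf (20, 446)))))
(.node 3 (.node 1 (.leaf (21, 446)) (.node 1 (.leaf (21, 447)) (.leaf (22, 447)))) (.node 1 (.leaf (20, 448)) (.node 1 (.leaf (21, 448)) (.leaf (20, 449))))))))))
(.node 96 (.node 48 (.node 24 (.node 12 (.node 6 (.node 3 (.node 1 (.leaf (21, 449)) (.node 1 (.leaf (20, 450)) (.leaf (21, 451)))) (.node 1 (.leaf (20, 452)) (.node 1 (.leaf (20, 453)) (.leaf (21, 453)))))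
(.node 3 (.node 1 (.leaf (22, 453)) (.node 1 (.leaf (22, 454)) (.leaf (21, 455)))) (.node 1 (.leaf (20, 456)) (.node 1 (.leaf (21, 458)) (.leaf (20, 459))))))
(.node 6 (.node 3 (.node 1 (.leaf (21, 459)) (.node 1 (.leaf (22, 459)) (.leaf (21, 460)))) (.node 1 (.leaf (22, 460)) (.node 1 (.leaf (20, 461)) (.leaf (21, 461)))))
(.node 3 (.node 1 (.leaf (22, 461)) (.node 1 (.leaf (20, 462)) (.leaf (21, 463)))) (.node 1 (.leaf (20, 464)) (.node 1 (.leaf (21, 464)) (.leaf (20, 467)))))))
(.node 12 (.node 6 (.node 3 (.node 1 (.leaf (21, 467)) (.node 1 (.leaf (22, 468)) (.leaf (20, 469)))) (.node 1 (.leaf (21, 469)) (.node 1 (.leaf (21, 470)) (.leaf (22, 470)))))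
(.node 3 (.node 1 (.leaf (20, 471)) (.node 1 (.leaf (22, 471)) (.leaf (20, 472)))) (.node 1 (.leaf (22, 472)) (.node 1 (.leaf (20, 473)) (.leaf (21, 473))))))
(.node 6 (.node 3 (.node 1 (.leaf (22, 473)) (.node 1 (.leaf (20, 474)) (.leaf (21, 474)))) (.node 1 (.leaf (20, 475)) (.node 1 (.leaf (21, 475)) (.leaf (22, 475)))))
(.node 3 (.node 1 (.leaf (20, 476)) (.node 1 (.leaf (22, 476)) (.leaf (20, 477)))) (.node 1 (.leaf (21, 477)) (.node 1 (.leaf (21, 480)) (.leaf (22, 480))))))))
(.node 24 (.node 12 (.node 6 (.node 3 (.node 1 (.leaf (20, 481)) (.node 1 (.leaf (21, 481)) (.leaf (22, 481)))) (.node 1 (.leaf (22, 483)) (.node 1 (.leaf (21, 484)) (.leaf (22, 484)))))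
(.node 3 (.node 1 (.leaf (20, 485)) (.node 1 (.leaf (21, 485)) (.leaf (20, 486)))) (.node 1 (.leaf (21, 486)) (.node 1 (.leaf (22, 486)) (.leaf (20, 487))))))
(.node 6 (.node 3 (.node 1 (.leaf (21, 487)) (.node 1 (.leaf (20, 488)) (.leaf (22, 488)))) (.node 1 (.leaf (20, 489)) (.node 1 (.leaf (21, 489)) (.leaf (22, 489)))))
(.node 3 (.node 1 (.leaf (21, 490)) (.node 1 (.leaf (21, 491)) (.leaf (22, 491)))) (.node 1 (.leaf (20, 492)) (.node 1 (.leaf (21, 492)) (.leaf (20, 494)))))))
(.node 12 (.node 6 (.node 3 (.node 1 (.leaf (22, 494)) (.node 1 (.leaf (20, 496)) (.leaf (21, 497)))) (.node 1 (.leaf (21, 498)) (.node 1 (.leaf (21, 499)) (.leaf (22, 499)))))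
(.node 3 (.node 1 (.leaf (22, 500)) (.node 1 (.leaf (20, 502)) (.leaf (21, 502)))) (.node 1 (.leaf (21, 503)) (.node 1 (.leaf (22, 503)) (.leaf (21, 504))))))
(.node 6 (.node 3 (.node 1 (.leaf (22, 504)) (.node 1 (.leaf (22, 506)) (.leaf (20, 509)))) (.node 1 (.leaf (22, 509)) (.node 1 (.leaf (20, 510)) (.leaf (21, 512)))))
(.node 3 (.node 1 (.leaf (22, 512)) (.node 1 (.leaf (21, 513)) (.leaf (22, 513)))) (.node 1 (.leaf (22, 515)) (.node 1 (.leaf (21, 516)) (.leaf (22, 516)))))))))
(.node 48 (.node 24 (.node 12 (.node 6 (.node 3 (.node 1 (.leaf (20, 517)) (.node 1 (.leaf (21, 517)) (.leaf (20, 518)))) (.node 1 (.leaf (21, 518)) (.node 1 (.leaf (21, 519)) (.leaf (21, 521)))))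
(.node 3 (.node 1 (.leaf (20, 522)) (.node 1 (.leaf (22, 523)) (.leaf (20, 524)))) (.node 1 (.leaf (22, 524)) (.node 1 (.leaf (20, 526)) (.leaf (21, 526))))))
(.node 6 (.node 3 (.node 1 (.leaf (21, 527)) (.node 1 (.leaf (22, 527)) (.leaf (21, 528)))) (.node 1 (.leaf (22, 528)) (.node 1 (.leaf (21, 529)) (.leaf (22, 529)))))
(.node 3 (.node 1 (.leaf (20, 530)) (.node 1 (.leaf (21, 530)) (.leaf (20, 531)))) (.node 1 (.leaf (22, 532)) (.node 1 (.leaf (22, 533)) (.leaf (20, 534)))))))
(.node 12 (.node 6 (.node 3 (.node 1 (.leaf (22, 534)) (.node 1 (.leaf (22, 535)) (.leaf (21, 536)))) (.node 1 (.leaf (21, 537)) (.node 1 (.leaf (22, 537)) (.leaf (22, 538)))))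
(.node 3 (.node 1 (.leaf (21, 539)) (.node 1 (.leaf (22, 541)) (.leaf (20, 544)))) (.node 1 (.leaf (21, 544)) (.node 1 (.leaf (22, 544)) (.leaf (21, 545))))))
(.node 6 (.node 3 (.node 1 (.leaf (21, 546)) (.node 1 (.leaf (22, 546)) (.leaf (21, 548)))) (.node 1 (.leaf (20, 550)) (.node 1 (.leaf (22, 550)) (.leaf (20, 551)))))
(.node 3 (.node 1 (.leaf (20, 553)) (.node 1 (.leaf (21, 553)) (.leaf (22, 553)))) (.node 1 (.leaf (20, 555)) (.node 1 (.leaf (22, 555)) (.leaf (20, 556))))))))
(.node 24 (.node 12 (.node 6 (.node 3 (.node 1 (.leaf (21, 559)) (.node 1 (.leaf (22, 559)) (.leaf (20, 560)))) (.node 1 (.leaf (22, 560)) (.node 1 (.leaf (20, 561)) (.leaf (22, 561)))))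
(.node 3 (.node 1 (.leaf (20, 562)) (.node 1 (.leaf (21, 563)) (.leaf (21, 564)))) (.node 1 (.leaf (22, 564)) (.node 1 (.leaf (21, 566)) (.leaf (22, 566))))))
(.node 6 (.node 3 (.node 1 (.leaf (20, 567)) (.node 1 (.leaf (22, 567)) (.leaf (20, 569)))) (.node 1 (.leaf (21, 569)) (.node 1 (.leaf (22, 570)) (.leaf (20, 571)))))
(.node 3 (.node 1 (.leaf (20, 572)) (.node 1 (.leaf (21, 573)) (.leaf (20, 574)))) (.node 1 (.leaf (22, 574)) (.node 1 (.leaf (22, 575)) (.leaf (20, 576)))))))
(.node 12 (.node 6 (.node 3 (.node 1 (.leaf (21, 576)) (.node 1 (.leaf (22, 577)) (.leaf (20, 578)))) (.node 1 (.leaf (21, 578)) (.node 1 (.leaf (20, 579)) (.leaf (21, 579)))))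
(.node 3 (.node 1 (.leaf (20, 582)) (.node 1 (.leaf (22, 583)) (.leaf (20, 585)))) (.node 1 (.leaf (21, 585)) (.node 1 (.leaf (20, 586)) (.leaf (20, 588))))))
(.node 6 (.node 3 (.node 1 (.leaf (22, 588)) (.node 1 (.leaf (22, 589)) (.leaf (21, 590)))) (.node 1 (.leaf (22, 590)) (.node 1 (.leaf (21, 591)) (.leaf (21, 592)))))
(.node 3 (.node 1 (.leaf (22, 592)) (.node 1 (.leaf (20, 594)) (.leaf (21, 594)))) (.node 1 (.leaf (22, 596)) (.node 1 (.leaf (20, 598)) (.leaf (21, 598)))))))))))

/-- The reasons. -/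
def caseCFullN1HowRR : Tab (ℕ × ℕ) :=
(.node 192 (.node 96 (.node 48 (.node 24 (.node 12 (.node 6 (.node 3 (.node 1 (.leaf (22, 598)) (.node 1 (.leaf (20, 600)) (.leaf (21, 600)))) (.node 1 (.leaf (22, 600)) (.node 1 (.leaf (22, 601)) (.leaf (20, 602)))))
(.node 3 (.node 1 (.leaf (21, 604)) (.node 1 (.leaf (22, 604)) (.leaf (20, 605)))) (.node 1 (.leaf (21, 605)) (.node 1 (.leaf (22, 605)) (.leaf (21, 606))))))
(.node 6 (.node 3 (.node 1 (.leaf (22, 606)) (.node 1 (.leaf (22, 607)) (.leaf (21, 609)))) (.node 1 (.leaf (20, 610)) (.node 1 (.leaf (20, 611)) (.leaf (20, 612)))))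
(.node 3 (.node 1 (.leaf (20, 613)) (.node 1 (.leaf (21, 613)) (.leaf (20, 615)))) (.node 1 (.leaf (21, 615)) (.node 1 (.leaf (20, 617)) (.leaf (22, 617)))))))
(.node 12 (.node 6 (.node 3 (.node 1 (.leaf (21, 618)) (.node 1 (.leaf (22, 618)) (.leaf (22, 619)))) (.node 1 (.leaf (20, 620)) (.node 1 (.leaf (21, 620)) (.leaf (22, 620)))))
(.node 3 (.node 1 (.leaf (21, 622)) (.node 1 (.leaf (20, 623)) (.leaf (22, 623)))) (.node 1 (.leaf (20, 624)) (.node 1 (.leaf (20, 625)) (.leaf (22, 625))))))
(.node 6 (.node 3 (.node 1 (.leaf (21, 626)) (.node 1 (.leaf (22, 628)) (.leaf (20, 629)))) (.node 1 (.leaf (21, 631)) (.node 1 (.leaf (21, 632)) (.leaf (22, 632)))))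
(.node 3 (.node 1 (.leaf (20, 633)) (.node 1 (.leaf (21, 633)) (.leaf (22, 634)))) (.node 1 (.leaf (20, 637)) (.node 1 (.leaf (22, 637)) (.leaf (20, 638))))))))
(.node 24 (.node 12 (.node 6 (.node 3 (.node 1 (.leaf (22, 638)) (.node 1 (.leaf (22, 639)) (.leaf (21, 641)))) (.node 1 (.leaf (21, 642)) (.node 1 (.leaf (22, 642)) (.leaf (22, 644)))))
(.node 3 (.node 1 (.leaf (21, 645)) (.node 1 (.leaf (20, 649)) (.leaf (21, 649)))) (.node 1 (.leaf (20, 650)) (.node 1 (.leaf (22, 650)) (.leaf (20, 651))))))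
(.node 6 (.node 3 (.node 1 (.leaf (22, 651)) (.node 1 (.leaf (22, 652)) (.leaf (20, 653)))) (.node 1 (.leaf (21, 656)) (.node 1 (.leaf (22, 656)) (.leaf (21, 657)))))
(.node 3 (.node 1 (.leaf (22, 658)) (.node 1 (.leaf (21, 659)) (.leaf (22, 659)))) (.node 1 (.leaf (20, 660)) (.node 1 (.leaf (21, 660)) (.leaf (21, 662)))))))
(.node 12 (.node 6 (.node 3 (.node 1 (.leaf (22, 663)) (.node 1 (.leaf (22, 664)) (.leaf (21, 665)))) (.node 1 (.leaf (22, 665)) (.node 1 (.leaf (22, 666)) (.leaf (20, 668)))))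
(.node 3 (.node 1 (.leaf (22, 668)) (.node 1 (.leaf (20, 669)) (.leaf (20, 671)))) (.node 1 (.leaf (22, 672)) (.node 1 (.leaf (20, 673)) (.leaf (21, 674))))))
(.node 6 (.node 3 (.node 1 (.leaf (22, 674)) (.node 1 (.leaf (22, 675)) (.leaf (21, 676)))) (.node 1 (.leaf (22, 676)) (.node 1 (.leaf (20, 677)) (.leaf (22, 677)))))
(.node 3 (.node 1 (.leaf (20, 678)) (.node 1 (.leaf (20, 679)) (.leaf (21, 680)))) (.node 1 (.leaf (20, 682)) (.node 1 (.leaf (21, 682)) (.leaf (21, 683)))))))))
(.node 48 (.node 24 (.node 12 (.node 6 (.node 3 (.node 1 (.leaf (20, 684)) (.node 1 (.leaf (22, 684)) (.leaf (20, 686)))) (.node 1 (.leaf (21, 686)) (.node 1 (.leaf (21, 688)) (.leaf (20, 689)))))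
(.node 3 (.node 1 (.leaf (21, 689)) (.node 1 (.leaf (20, 690)) (.leaf (20, 692)))) (.node 1 (.leaf (22, 692)) (.node 1 (.leaf (21, 693)) (.leaf (20, 695))))))
(.node 6 (.node 3 (.node 1 (.leaf (21, 695)) (.node 1 (.leaf (20, 697)) (.leaf (21, 698)))) (.node 1 (.leaf (20, 699)) (.node 1 (.leaf (22, 699)) (.leaf (21, 701)))))
(.node 3 (.node 1 (.leaf (22, 701)) (.node 1 (.leaf (22, 702)) (.leaf (21, 704)))) (.node 1 (.leaf (20, 705)) (.node 1 (.leaf (21, 705)) (.leaf (22, 705)))))))
(.node 12 (.node 6 (.node 3 (.node 1 (.leaf (21, 706)) (.node 1 (.leaf (20, 708)) (.leaf (20, 709)))) (.node 1 (.leaf (22, 709)) (.node 1 (.leaf (20, 710)) (.leaf (20, 712)))))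
(.node 3 (.node 1 (.leaf (21, 713)) (.node 1 (.leaf (22, 714)) (.leaf (21, 717)))) (.node 1 (.leaf (20, 718)) (.node 1 (.leaf (22, 718)) (.leaf (22, 721))))))
(.node 6 (.node 3 (.node 1 (.leaf (20, 722)) (.node 1 (.leaf (21, 723)) (.leaf (22, 723)))) (.node 1 (.leaf (20, 725)) (.node 1 (.leaf (22, 727)) (.leaf (21, 728)))))
(.node 3 (.node 1 (.leaf (22, 728)) (.node 1 (.leaf (21, 729)) (.leaf (21, 731)))) (.node 1 (.leaf (20, 732)) (.node 1 (.leaf (21, 734)) (.leaf (20, 736))))))))
(.node 24 (.node 12 (.node 6 (.node 3 (.node 1 (.leaf (22, 736)) (.node 1 (.leaf (22, 737)) (.leaf (20, 739)))) (.node 1 (.leaf (21, 739)) (.node 1 (.leaf (20, 740)) (.leaf (22, 740)))))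
(.node 3 (.node 1 (.leaf (20, 741)) (.node 1 (.leaf (22, 743)) (.leaf (20, 744)))) (.node 1 (.leaf (21, 745)) (.node 1 (.leaf (22, 745)) (.leaf (21, 746))))))
(.node 6 (.node 3 (.node 1 (.leaf (22, 746)) (.node 1 (.leaf (20, 749)) (.leaf (21, 749)))) (.node 1 (.leaf (20, 751)) (.node 1 (.leaf (22, 751)) (.leaf (22, 752)))))
(.node 3 (.node 1 (.leaf (21, 753)) (.node 1 (.leaf (21, 755)) (.leaf (20, 756)))) (.node 1 (.leaf (21, 757)) (.node 1 (.leaf (22, 757)) (.leaf (20, 758)))))))
(.node 12 (.node 6 (.node 3 (.node 1 (.leaf (21, 758)) (.node 1 (.leaf (22, 760)) (.leaf (20, 761)))) (.node 1 (.leaf (21, 761)) (.node 1 (.leaf (21, 763)) (.leaf (20, 764)))))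
(.node 3 (.node 1 (.leaf (21, 764)) (.node 1 (.leaf (22, 764)) (.leaf (20, 765)))) (.node 1 (.leaf (21, 765)) (.node 1 (.leaf (20, 766)) (.leaf (22, 767))))))
(.node 6 (.node 3 (.node 1 (.leaf (20, 768)) (.node 1 (.leaf (21, 768)) (.leaf (22, 770)))) (.node 1 (.leaf (22, 779)) (.node 1 (.leaf (21, 780)) (.leaf (22, 780)))))
(.node 3 (.node 1 (.leaf (21, 781)) (.node 1 (.leaf (21, 782)) (.leaf (22, 784)))) (.node 1 (.leaf (21, 785)) (.node 1 (.leaf (20, 786)) (.leaf (21, 787))))))))))
(.node 96 (.node 48 (.node 24 (.node 12 (.node 6 (.node 3 (.node 1 (.leaf (22, 788)) (.node 1 (.leaf (21, 789)) (.leaf (20, 791)))) (.node 1 (.leaf (21, 792)) (.node 1 (.leaf (21, 794)) (.leaf (22, 795)))))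
(.node 3 (.node 1 (.leaf (21, 800)) (.node 1 (.leaf (20, 804)) (.leaf (20, 806)))) (.node 1 (.leaf (22, 806)) (.node 1 (.leaf (20, 807)) (.leaf (22, 807))))))
(.node 6 (.node 3 (.node 1 (.leaf (20, 808)) (.node 1 (.leaf (21, 808)) (.leaf (20, 810)))) (.node 1 (.leaf (21, 811)) (.node 1 (.leaf (22, 813)) (.leaf (21, 814)))))
(.node 3 (.node 1 (.leaf (22, 814)) (.node 1 (.leaf (20, 815)) (.leaf (21, 817)))) (.node 1 (.leaf (21, 818)) (.node 1 (.leaf (20, 820)) (.leaf (21, 824)))))))
(.node 12 (.node 6 (.node 3 (.node 1 (.leaf (22, 825)) (.node 1 (.leaf (21, 826)) (.leaf (21, 827)))) (.node 1 (.leaf (22, 827)) (.node 1 (.leaf (22, 832)) (.leaf (20, 833)))))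
(.node 3 (.node 1 (.leaf (21, 837)) (.node 1 (.leaf (22, 837)) (.leaf (22, 842)))) (.node 1 (.leaf (20, 843)) (.node 1 (.leaf (22, 843)) (.leaf (22, 846))))))
(.node 6 (.node 3 (.node 1 (.leaf (21, 847)) (.node 1 (.leaf (22, 850)) (.leaf (22, 851)))) (.node 1 (.leaf (20, 852)) (.node 1 (.leaf (22, 852)) (.leaf (22, 853)))))
(.node 3 (.node 1 (.leaf (22, 855)) (.node 1 (.leaf (21, 857)) (.leaf (22, 859)))) (.node 1 (.leaf (20, 866)) (.node 1 (.leaf (20, 867)) (.leaf (22, 869))))))))
(.node 24 (.node 12 (.node 6 (.node 3 (.node 1 (.leaf (20, 871)) (.node 1 (.leaf (20, 872)) (.leaf (21, 874)))) (.node 1 (.leaf (22, 874)) (.node 1 (.leaf (22, 876)) (.leaf (20, 877)))))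
(.node 3 (.node 1 (.leaf (22, 879)) (.node 1 (.leaf (20, 880)) (.leaf (20, 881)))) (.node 1 (.leaf (21, 882)) (.node 1 (.leaf (21, 885)) (.leaf (20, 888))))))
(.node 6 (.node 3 (.node 1 (.leaf (22, 891)) (.node 1 (.leaf (22, 892)) (.leaf (21, 893)))) (.node 1 (.leaf (21, 895)) (.node 1 (.leaf (22, 898)) (.leaf (20, 900)))))
(.node 3 (.node 1 (.leaf (20, 901)) (.node 1 (.leaf (21, 903)) (.leaf (22, 903)))) (.node 1 (.leaf (20, 907)) (.node 1 (.leaf (22, 907)) (.leaf (22, 910)))))))
(.node 12 (.node 6 (.node 3 (.node 1 (.leaf (22, 912)) (.node 1 (.leaf (20, 917)) (.leaf (22, 918)))) (.node 1 (.leaf (20, 921)) (.node 1 (.leaf (22, 921)) (.leaf (21, 927)))))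
(.node 3 (.node 1 (.leaf (22, 930)) (.node 1 (.leaf (22, 931)) (.leaf (21, 932)))) (.node 1 (.leaf (22, 932)) (.node 1 (.leaf (22, 937)) (.leaf (22, 938))))))
(.node 6 (.node 3 (.node 1 (.leaf (22, 941)) (.node 1 (.leaf (20, 943)) (.leaf (21, 945)))) (.node 1 (.leaf (22, 946)) (.node 1 (.leaf (22, 947)) (.leaf (21, 950)))))
(.node 3 (.node 1 (.leaf (20, 952)) (.node 1 (.leaf (22, 957)) (.leaf (20, 958)))) (.node 1 (.leaf (21, 959)) (.node 1 (.leaf (22, 967)) (.leaf (20, 968)))))))))
(.node 48 (.node 24 (.node 12 (.node 6 (.node 3 (.node 1 (.leaf (21, 976)) (.node 1 (.leaf (22, 980)) (.leaf (21, 981)))) (.node 1 (.leaf (22, 981)) (.node 1 (.leaf (22, 983)) (.leaf (21, 985)))))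
(.node 3 (.node 1 (.leaf (22, 987)) (.node 1 (.leaf (22, 988)) (.leaf (22, 991)))) (.node 1 (.leaf (20, 992)) (.node 1 (.leaf (21, 994)) (.leaf (20, 995))))))
(.node 6 (.node 3 (.node 1 (.leaf (22, 995)) (.node 1 (.leaf (20, 997)) (.leaf (22, 999)))) (.node 1 (.leaf (20, 1000)) (.node 1 (.leaf (21, 1001)) (.leaf (22, 1001)))))
(.node 3 (.node 1 (.leaf (20, 1002)) (.node 1 (.leaf (22, 1003)) (.leaf (21, 1004)))) (.node 1 (.leaf (21, 1005)) (.node 1 (.leaf (22, 1010)) (.leaf (21, 1015)))))))
(.node 12 (.node 6 (.node 3 (.node 1 (.leaf (22, 1015)) (.node 1 (.leaf (22, 1020)) (.leaf (20, 1022)))) (.node 1 (.leaf (21, 1032)) (.node 1 (.leaf (22, 1032)) (.leaf (22, 1035)))))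
(.node 3 (.node 1 (.leaf (21, 1038)) (.node 1 (.leaf (20, 1039)) (.leaf (22, 1039)))) (.node 1 (.leaf (22, 1044)) (.node 1 (.leaf (20, 1045)) (.leaf (22, 1047))))))
(.node 6 (.node 3 (.node 1 (.leaf (22, 1049)) (.node 1 (.leaf (21, 1051)) (.leaf (22, 1051)))) (.node 1 (.leaf (20, 1054)) (.node 1 (.leaf (21, 1055)) (.leaf (21, 1057)))))
(.node 3 (.node 1 (.leaf (22, 1058)) (.node 1 (.leaf (22, 1064)) (.leaf (21, 1070)))) (.node 1 (.leaf (21, 1071)) (.node 1 (.leaf (20, 1074)) (.leaf (20, 1075))))))))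
(.node 24 (.node 12 (.node 6 (.node 3 (.node 1 (.leaf (22, 1077)) (.node 1 (.leaf (20, 1080)) (.leaf (22, 1082)))) (.node 1 (.leaf (20, 1108)) (.node 1 (.leaf (22, 1109)) (.leaf (22, 1115)))))
(.node 3 (.node 1 (.leaf (22, 1118)) (.node 1 (.leaf (22, 1122)) (.leaf (20, 1125)))) (.node 1 (.leaf (21, 1127)) (.node 1 (.leaf (22, 1131)) (.leaf (20, 1133))))))
(.node 6 (.node 3 (.node 1 (.leaf (21, 1136)) (.node 1 (.leaf (21, 1138)) (.leaf (20, 1141)))) (.node 1 (.leaf (22, 1142)) (.node 1 (.leaf (22, 1144)) (.leaf (20, 1145)))))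
(.node 3 (.node 1 (.leaf (22, 1145)) (.node 1 (.leaf (22, 1158)) (.leaf (20, 1160)))) (.node 1 (.leaf (20, 1169)) (.node 1 (.leaf (21, 1186)) (.leaf (22, 1192)))))))
(.node 12 (.node 6 (.node 3 (.node 1 (.leaf (22, 1196)) (.node 1 (.leaf (20, 1208)) (.leaf (20, 1217)))) (.node 1 (.leaf (22, 1219)) (.node 1 (.leaf (21, 1223)) (.leaf (20, 1230)))))
(.node 3 (.node 1 (.leaf (22, 1235)) (.node 1 (.leaf (22, 1237)) (.leaf (20, 1239)))) (.node 1 (.leaf (20, 1245)) (.node 1 (.leaf (22, 1245)) (.leaf (22, 1270))))))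
(.node 6 (.node 3 (.node 1 (.leaf (20, 1273)) (.node 1 (.leaf (21, 1284)) (.leaf (21, 1291)))) (.node 1 (.leaf (22, 1298)) (.node 1 (.leaf (22, 1307)) (.leaf (20, 1309)))))
(.node 3 (.node 1 (.leaf (21, 1315)) (.node 1 (.leaf (22, 1336)) (.leaf (20, 1354)))) (.node 1 (.leaf (20, 1357)) (.node 1 (.leaf (20, 1358)) (.leaf (22, 1418)))))))))))

/-- The reasons. -/
def caseCFullN1HowR : Tab (ℕ × ℕ) := .node 384 caseCFullN1HowRL caseCFullN1HowRR

/-- The reasons. -/
def caseCFullN1How : Tab (ℕ × ℕ) := .node 768 caseCFullN1HowL caseCFullN1HowR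

/-- The node. -/
def caseCFullN1Node : NodeD := ⟨1, 1536, caseCFullN1Els, caseCFullN1Ix, caseCFullN1How, fun b => bif b then (.node 7 (.node 3 (.node 1 (.leaf 82) (.node 1 (.leaf 84) (.leaf 83)))
(.node 2 (.node 1 (.leaf 81) (.leaf 85)) (.node 1 (.leaf 86) (.leaf 180))))
(.node 3 (.node 1 (.leaf 179) (.node 1 (.leaf 175) (.leaf 181)))
(.node 2 (.node 1 (.leaf 183) (.leaf 178)) (.node 1 (.leaf 182) (.leaf 177))))) else (.node 7 (.node 3 (.node 1 (.leaf 141) (.node 1 (.leaf 146) (.leaf 142)))
(.node 2 (.node 1 (.leaf 147) (.leaf 140)) (.node 1 (.leaf 149) (.leaf 3))))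
(.node 3 (.node 1 (.leaf 7170) (.node 1 (.leaf 148) (.leaf 143)))
(.node 2 (.node 1 (.leaf 145) (.leaf 144)) (.node 1 (.leaf 150) (.leaf 138)))))⟩

/-- The stabiliser. -/
def caseCFullN4ElsLL : Tab ℕ :=
(.node 192 (.node 96 (.node 48 (.node 24 (.node 12 (.node 6 (.node 3 (.node 1 (.leaf 17043521) (.node 1 (.leaf 19730499) (.leaf 17659985))) (.node 1 (.leaf 25497667) (.node 1 (.leaf 17109057) (.leaf 19216465))))
(.node 3 (.node 1 (.leaf 9179201) (.node 1 (.leaf 19167315) (.leaf 17061953))) (.node 1 (.leaf 11302995) (.node 1 (.leaf 27791425) (.leaf 25710683)))))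
(.node 6 (.node 3 (.node 1 (.leaf 19140673) (.node 1 (.leaf 19664963) (.leaf 17592401))) (.node 1 (.leaf 27529283) (.node 1 (.leaf 17643603) (.leaf 19746883))))
(.node 3 (.node 1 (.leaf 25442387) (.node 1 (.leaf 11079747) (.leaf 9001033))) (.node 1 (.leaf 17633347) (.node 1 (.leaf 17594449) (.leaf 19667009))))))
(.node 12 (.node 6 (.node 3 (.node 1 (.leaf 27621457) (.node 1 (.leaf 19748931) (.leaf 17641553))) (.node 1 (.leaf 25516099) (.node 1 (.leaf 8943697) (.leaf 11024473))))
(.node 3 (.node 1 (.leaf 19757137) (.node 1 (.leaf 25432131) (.leaf 27537499))) (.node 1 (.leaf 27611225) (.node 1 (.leaf 25524291) (.leaf 8999001)))))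
(.node 6 (.node 3 (.node 1 (.leaf 17567811) (.node 1 (.leaf 19689555) (.leaf 27594819))) (.node 1 (.leaf 19148881) (.node 1 (.leaf 11341889) (.leaf 19230803))))
(.node 3 (.node 1 (.leaf 17127489) (.node 1 (.leaf 9269331) (.leaf 25694273))) (.node 1 (.leaf 27807833) (.node 1 (.leaf 19206209) (.leaf 19150929)))))))
(.node 24 (.node 12 (.node 6 (.node 3 (.node 1 (.leaf 17045571) (.node 1 (.leaf 11286609) (.leaf 17125441))) (.node 1 (.leaf 19232849) (.node 1 (.leaf 9195585) (.leaf 27867217))))
(.node 3 (.node 1 (.leaf 25784395) (.node 1 (.leaf 17119313) (.leaf 9244737))) (.node 1 (.leaf 11368521) (.node 1 (.leaf 11294795) (.leaf 9189441)))))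
(.node 6 (.node 3 (.node 1 (.leaf 27809867) (.node 1 (.leaf 17051731) (.leaf 11276353))) (.node 1 (.leaf 19232851) (.node 1 (.leaf 9271379) (.leaf 19150931))))
(.node 3 (.node 1 (.leaf 11343939) (.node 1 (.leaf 25786451) (.leaf 27865163))) (.node 1 (.leaf 17070163) (.node 1 (.leaf 19230801) (.leaf 9197633))))))
(.node 12 (.node 6 (.node 3 (.node 1 (.leaf 19148883) (.node 1 (.leaf 11284563) (.leaf 27809857))) (.node 1 (.leaf 25696347) (.node 1 (.leaf 19159105) (.leaf 11368531))))
(.node 3 (.node 1 (.leaf 9244761) (.node 1 (.leaf 9189467) (.leaf 11294803))) (.node 1 (.leaf 27867227) (.node 1 (.leaf 17135699) (.leaf 19222595)))))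
(.node 6 (.node 3 (.node 1 (.leaf 9205843) (.node 1 (.leaf 27856961) (.leaf 25778267))) (.node 1 (.leaf 25702489) (.node 1 (.leaf 27816001) (.leaf 19214425))))
(.node 3 (.node 1 (.leaf 25776219) (.node 1 (.leaf 27859011) (.leaf 17059931))) (.node 1 (.leaf 27818049) (.node 1 (.leaf 25704539) (.leaf 19167297))))))))
(.node 48 (.node 24 (.node 12 (.node 6 (.node 3 (.node 1 (.leaf 11292763) (.node 1 (.leaf 9187409) (.leaf 27807835))) (.node 1 (.leaf 17119315) (.node 1 (.leaf 17068113) (.leaf 19157057))))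
(.node 3 (.node 1 (.leaf 11366481) (.node 1 (.leaf 25759809) (.leaf 27875417))) (.node 1 (.leaf 17576019) (.node 1 (.leaf 19681347) (.leaf 27603027)))))
(.node 6 (.node 3 (.node 1 (.leaf 8982595) (.node 1 (.leaf 11098187) (.leaf 17657937))) (.node 1 (.leaf 19732545) (.node 1 (.leaf 25456721) (.leaf 19683395))))
(.node 3 (.node 1 (.leaf 17578065) (.node 1 (.leaf 27547715) (.leaf 11038801))) (.node 1 (.leaf 8925275) (.node 1 (.leaf 19689553) (.leaf 25507929))))))
(.node 12 (.node 6 (.node 3 (.node 1 (.leaf 25448539) (.node 1 (.leaf 27553859) (.leaf 11096155))) (.node 1 (.leaf 19757139) (.node 1 (.leaf 17578067) (.leaf 27605075))))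
(.node 3 (.node 1 (.leaf 17657939) (.node 1 (.leaf 25499713) (.leaf 8927315))) (.node 1 (.leaf 11040859) (.node 1 (.leaf 19740755) (.leaf 17576017)))))
(.node 6 (.node 3 (.node 1 (.leaf 27545667) (.node 1 (.leaf 17659987) (.leaf 25458771))) (.node 1 (.leaf 11096131) (.node 1 (.leaf 8984649) (.leaf 17649731))))
(.node 3 (.node 1 (.leaf 25507923) (.node 1 (.leaf 27594827) (.leaf 27553865))) (.node 1 (.leaf 25448531) (.node 1 (.leaf 11038793) (.leaf 19675219)))))))
(.node 24 (.node 12 (.node 6 (.node 3 (.node 1 (.leaf 17586241) (.node 1 (.leaf 27539539) (.leaf 11014211))) (.node 1 (.leaf 8933449) (.node 1 (.leaf 9009227) (.leaf 11087939))))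
(.node 3 (.node 1 (.leaf 17594443) (.node 1 (.leaf 8935497) (.leaf 11016257))) (.node 1 (.leaf 19748937) (.node 1 (.leaf 11089987) (.leaf 9007177)))))
(.node 6 (.node 3 (.node 1 (.leaf 17643587) (.node 1 (.leaf 25450569) (.leaf 27555921))) (.node 1 (.leaf 11098185) (.node 1 (.leaf 19738705) (.leaf 17651779))))
(.node 3 (.node 1 (.leaf 25505873) (.node 1 (.leaf 8917059) (.leaf 11030603))) (.node 1 (.leaf 19730497) (.node 1 (.leaf 25458769) (.leaf 11040849))))))
(.node 12 (.node 6 (.node 3 (.node 1 (.leaf 8927323) (.node 1 (.leaf 19691601) (.leaf 19683393))) (.node 1 (.leaf 27605073) (.node 1 (.leaf 8984641) (.leaf 11096137))))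
(.node 3 (.node 1 (.leaf 17569857) (.node 1 (.leaf 25450571) (.leaf 25505865))) (.node 1 (.leaf 27596881) (.node 1 (.leaf 8925257) (.leaf 25524305)))))
(.node 6 (.node 3 (.node 1 (.leaf 19732547) (.node 1 (.leaf 25456723) (.leaf 11098179))) (.node 1 (.leaf 8982601) (.node 1 (.leaf 19681345) (.leaf 27603025))))
(.node 3 (.node 1 (.leaf 8925265) (.node 1 (.leaf 11038809) (.leaf 25450563))) (.node 1 (.leaf 27555931) (.node 1 (.leaf 27596889) (.leaf 25505859)))))))))
(.node 96 (.node 48 (.node 24 (.node 12 (.node 6 (.node 3 (.node 1 (.leaf 8984665) (.node 1 (.leaf 17586243) (.leaf 27613251))) (.node 1 (.leaf 9009233) (.node 1 (.leaf 11087961) (.leaf 11014235))))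
(.node 3 (.node 1 (.leaf 8933457) (.node 1 (.leaf 19664987) (.leaf 11090009))) (.node 1 (.leaf 9007187) (.node 1 (.leaf 17643609) (.leaf 8935505)))))
(.node 6 (.node 3 (.node 1 (.leaf 11016281) (.node 1 (.leaf 19748945) (.leaf 27594817))) (.node 1 (.leaf 8927321) (.node 1 (.leaf 17569859) (.leaf 17649729))))
(.node 3 (.node 1 (.leaf 19740753) (.node 1 (.leaf 25448513) (.leaf 11106385))) (.node 1 (.leaf 8990811) (.node 1 (.leaf 27605083) (.leaf 27547737))))))
(.node 12 (.node 6 (.node 3 (.node 1 (.leaf 25458755) (.node 1 (.leaf 11032665) (.leaf 27603035))) (.node 1 (.leaf 25456707) (.node 1 (.leaf 27545691) (.leaf 11104323))))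
(.node 3 (.node 1 (.leaf 17641563) (.node 1 (.leaf 19748939) (.leaf 25440347))) (.node 1 (.leaf 27545689) (.node 1 (.leaf 11030617) (.leaf 27603033)))))
(.node 6 (.node 3 (.node 1 (.leaf 8919105) (.node 1 (.leaf 19746905) (.leaf 17643595))) (.node 1 (.leaf 25514073) (.node 1 (.leaf 27547739) (.leaf 11106371))))
(.node 3 (.node 1 (.leaf 27605081) (.node 1 (.leaf 8992857) (.leaf 17594435))) (.node 1 (.leaf 19667027) (.node 1 (.leaf 27621443) (.leaf 8933465)))))))
(.node 24 (.node 12 (.node 6 (.node 3 (.node 1 (.leaf 11014225) (.node 1 (.leaf 11087955) (.leaf 9009241))) (.node 1 (.leaf 17641555) (.node 1 (.leaf 25448537) (.leaf 27553857))))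
(.node 3 (.node 1 (.leaf 11096153) (.node 1 (.leaf 19675217) (.leaf 27539537))) (.node 1 (.leaf 19755091) (.node 1 (.leaf 17635393) (.leaf 25522259)))))
(.node 6 (.node 3 (.node 1 (.leaf 17584195) (.node 1 (.leaf 19673171) (.leaf 27611203))) (.node 1 (.leaf 11090011) (.node 1 (.leaf 17592403) (.leaf 25440345))))
(.node 3 (.node 1 (.leaf 25516123) (.node 1 (.leaf 27619395) (.leaf 8935515))) (.node 1 (.leaf 19214417) (.node 1 (.leaf 17111107) (.leaf 9252945))))))
(.node 12 (.node 6 (.node 3 (.node 1 (.leaf 17059905) (.node 1 (.leaf 19165265) (.leaf 11358273))) (.node 1 (.leaf 25768017) (.node 1 (.leaf 27883593) (.leaf 17051729))))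
(.node 3 (.node 1 (.leaf 9203787) (.node 1 (.leaf 9263177) (.leaf 11350081))) (.node 1 (.leaf 25712713) (.node 1 (.leaf 19165267) (.leaf 11300947)))))
(.node 6 (.node 3 (.node 1 (.leaf 19214419) (.node 1 (.leaf 9181251) (.leaf 27881555))) (.node 1 (.leaf 25770057) (.node 1 (.leaf 17133651) (.leaf 19167313))))
(.node 3 (.node 1 (.leaf 11360321) (.node 1 (.leaf 19216467) (.leaf 9254995))) (.node 1 (.leaf 25712705) (.node 1 (.leaf 27793497) (.leaf 19224641))))))))
(.node 48 (.node 24 (.node 12 (.node 6 (.node 3 (.node 1 (.leaf 9203795) (.node 1 (.leaf 11276379) (.leaf 11350105))) (.node 1 (.leaf 9263187) (.node 1 (.leaf 25768025) (.leaf 17068115))))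
(.node 3 (.node 1 (.leaf 19157059) (.node 1 (.leaf 11366483) (.leaf 27801691))) (.node 1 (.leaf 25720897) (.node 1 (.leaf 19150939) (.leaf 27873369)))))
(.node 6 (.node 3 (.node 1 (.leaf 25761859) (.node 1 (.leaf 17125465) (.leaf 25718849))) (.node 1 (.leaf 27799641) (.node 1 (.leaf 19230785) (.leaf 9261145))))
(.node 3 (.node 1 (.leaf 11352145) (.node 1 (.leaf 25710681) (.leaf 17135697))) (.node 1 (.leaf 19222593) (.node 1 (.leaf 9205841) (.leaf 17109059))))))
(.node 12 (.node 6 (.node 3 (.node 1 (.leaf 9254993) (.node 1 (.leaf 25770065) (.leaf 27881545))) (.node 1 (.leaf 17053777) (.node 1 (.leaf 17059907) (.leaf 11300945))))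
(.node 3 (.node 1 (.leaf 27793475) (.node 1 (.leaf 25712729) (.leaf 19142723))) (.node 1 (.leaf 9261147) (.node 1 (.leaf 9205849) (.leaf 11278417)))))
(.node 6 (.node 3 (.node 1 (.leaf 27883609) (.node 1 (.leaf 9189457) (.leaf 17111105))) (.node 1 (.leaf 9252947) (.node 1 (.leaf 25710657) (.leaf 27791449))))
(.node 3 (.node 1 (.leaf 17061955) (.node 1 (.leaf 11302993) (.leaf 27883601))) (.node 1 (.leaf 25768011) (.node 1 (.leaf 9261121) (.leaf 11352137)))))))
(.node 24 (.node 12 (.node 6 (.node 3 (.node 1 (.leaf 11278411) (.node 1 (.leaf 9205825) (.leaf 27793483))) (.node 1 (.leaf 11292737) (.node 1 (.leaf 27801681) (.leaf 25720907))))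
(.node 3 (.node 1 (.leaf 25759817) (.node 1 (.leaf 27875409) (.leaf 17043529))) (.node 1 (.leaf 25718859) (.node 1 (.leaf 27799635) (.leaf 19230795)))))
(.node 6 (.node 3 (.node 1 (.leaf 27873361) (.node 1 (.leaf 25761867) (.leaf 17125457))) (.node 1 (.leaf 11276355) (.node 1 (.leaf 27881547) (.leaf 19142721))))
(.node 3 (.node 1 (.leaf 19224643) (.node 1 (.leaf 17133649) (.leaf 9263171))) (.node 1 (.leaf 25704529) (.node 1 (.leaf 27818057) (.leaf 11300937))))))
(.node 12 (.node 6 (.node 3 (.node 1 (.leaf 11358283) (.node 1 (.leaf 9254977) (.leaf 25776203))) (.node 1 (.leaf 11302985) (.node 1 (.leaf 9252929) (.leaf 11360329))))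
(.node 3 (.node 1 (.leaf 25702465) (.node 1 (.leaf 19232841) (.leaf 17125467))) (.node 1 (.leaf 9271369) (.node 1 (.leaf 11360331) (.leaf 25778251)))))
(.node 6 (.node 3 (.node 1 (.leaf 11302987) (.node 1 (.leaf 17127499) (.leaf 19230811))) (.node 1 (.leaf 9197643) (.node 1 (.leaf 11358281) (.leaf 25704513))))
(.node 3 (.node 1 (.leaf 11300939) (.node 1 (.leaf 27816011) (.leaf 19150913))) (.node 1 (.leaf 17045587) (.node 1 (.leaf 11286593) (.leaf 27875403))))))))))

/-- The stabiliser. -/
def caseCFullN4ElsLR : Tab ℕ :=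
(.node 192 (.node 96 (.node 48 (.node 24 (.node 12 (.node 6 (.node 3 (.node 1 (.leaf 25759825) (.node 1 (.leaf 25720915) (.leaf 27801675))) (.node 1 (.leaf 9263179) (.node 1 (.leaf 11350083) (.leaf 25712715))))
(.node 3 (.node 1 (.leaf 17117267) (.node 1 (.leaf 19208259) (.leaf 9187411))) (.node 1 (.leaf 11294785) (.node 1 (.leaf 25718857) (.leaf 9271371)))))
(.node 6 (.node 3 (.node 1 (.leaf 9195593) (.node 1 (.leaf 11284545) (.leaf 27873353))) (.node 1 (.leaf 9179203) (.node 1 (.leaf 27883603) (.leaf 25768009))))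
(.node 3 (.node 1 (.leaf 11278427) (.node 1 (.leaf 11352153) (.leaf 9261139))) (.node 1 (.leaf 25770073) (.node 1 (.leaf 19159107) (.leaf 11360323))))))
(.node 12 (.node 6 (.node 3 (.node 1 (.leaf 25770067) (.node 1 (.leaf 17053779) (.leaf 11278403))) (.node 1 (.leaf 9205833) (.node 1 (.leaf 9261131) (.leaf 11352131))))
(.node 3 (.node 1 (.leaf 25710667) (.node 1 (.leaf 17117265) (.leaf 9246787))) (.node 1 (.leaf 27875401) (.node 1 (.leaf 25759827) (.leaf 17127497)))))
(.node 6 (.node 3 (.node 1 (.leaf 27799627) (.node 1 (.leaf 25718865) (.leaf 19148875))) (.node 1 (.leaf 25761875) (.node 1 (.leaf 27873355) (.leaf 11350091))))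
(.node 3 (.node 1 (.leaf 9263169) (.node 1 (.leaf 27818067) (.leaf 25704521))) (.node 1 (.leaf 9181249) (.node 1 (.leaf 27881553) (.leaf 25770059)))))))
(.node 24 (.node 12 (.node 6 (.node 3 (.node 1 (.leaf 11350089) (.node 1 (.leaf 11276363) (.leaf 9203777))) (.node 1 (.leaf 27791435) (.node 1 (.leaf 11358275) (.leaf 25768019))))
(.node 3 (.node 1 (.leaf 27883595) (.node 1 (.leaf 11350099) (.leaf 9263193))) (.node 1 (.leaf 9203803) (.node 1 (.leaf 11276371) (.leaf 27881563)))))
(.node 6 (.node 3 (.node 1 (.leaf 27875393) (.node 1 (.leaf 25759835) (.leaf 25720921))) (.node 1 (.leaf 27801665) (.node 1 (.leaf 19232857) (.leaf 25761883))))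
(.node 3 (.node 1 (.leaf 27873347) (.node 1 (.leaf 17045595) (.leaf 27799617))) (.node 1 (.leaf 25718875) (.node 1 (.leaf 19148865) (.leaf 27793499))))))
(.node 12 (.node 6 (.node 3 (.node 1 (.leaf 25778241) (.node 1 (.leaf 27856985) (.leaf 9181273))) (.node 1 (.leaf 9252955) (.node 1 (.leaf 11360339) (.leaf 25702491))))
(.node 3 (.node 1 (.leaf 9179225) (.node 1 (.leaf 11358291) (.leaf 9255001))) (.node 1 (.leaf 25776211) (.node 1 (.leaf 17043545) (.leaf 19148873)))))
(.node 6 (.node 3 (.node 1 (.leaf 11341913) (.node 1 (.leaf 9255003) (.leaf 9179227))) (.node 1 (.leaf 27816017) (.node 1 (.leaf 17045577) (.leaf 11286619))))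
(.node 3 (.node 1 (.leaf 9252953) (.node 1 (.leaf 25778259) (.leaf 9181275))) (.node 1 (.leaf 27859035) (.node 1 (.leaf 17127507) (.leaf 19230787))))))))
(.node 48 (.node 24 (.node 12 (.node 6 (.node 3 (.node 1 (.leaf 9197651) (.node 1 (.leaf 25759811) (.leaf 27875419))) (.node 1 (.leaf 17043523) (.node 1 (.leaf 11352155) (.leaf 9261137))))
(.node 3 (.node 1 (.leaf 25770075) (.node 1 (.leaf 19208257) (.leaf 9246785))) (.node 1 (.leaf 11292739) (.node 1 (.leaf 19206211) (.leaf 9189459)))))
(.node 6 (.node 3 (.node 1 (.leaf 25761881) (.node 1 (.leaf 17125443) (.leaf 11341915))) (.node 1 (.leaf 11284569) (.node 1 (.leaf 9195603) (.leaf 27881537))))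
(.node 3 (.node 1 (.leaf 17053785) (.node 1 (.leaf 25712731) (.leaf 19224667))) (.node 1 (.leaf 27883585) (.node 1 (.leaf 25768027) (.leaf 17135681))))))
(.node 12 (.node 6 (.node 3 (.node 1 (.leaf 9197659) (.node 1 (.leaf 11286611) (.leaf 17051737))) (.node 1 (.leaf 17133633) (.node 1 (.leaf 19222617) (.leaf 9269313))))
(.node 3 (.node 1 (.leaf 11343945) (.node 1 (.leaf 19148889) (.leaf 17043531))) (.node 1 (.leaf 19230809) (.node 1 (.leaf 9197641) (.leaf 27865177)))))
(.node 6 (.node 3 (.node 1 (.leaf 25786435) (.node 1 (.leaf 17117273) (.leaf 27791427))) (.node 1 (.leaf 19222619) (.node 1 (.leaf 9195611) (.leaf 27873371))))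
(.node 3 (.node 1 (.leaf 27883587) (.node 1 (.leaf 17051739) (.leaf 9269321))) (.node 1 (.leaf 19232843) (.node 1 (.leaf 19150921) (.leaf 11286601)))))))
(.node 24 (.node 12 (.node 6 (.node 3 (.node 1 (.leaf 19157083) (.node 1 (.leaf 27793473) (.leaf 19224665))) (.node 1 (.leaf 9271361) (.node 1 (.leaf 11341897) (.leaf 27881539))))
(.node 3 (.node 1 (.leaf 17053787) (.node 1 (.leaf 9197649) (.leaf 19232833))) (.node 1 (.leaf 17125459) (.node 1 (.leaf 17045585) (.leaf 11343953)))))
(.node 6 (.node 3 (.node 1 (.leaf 25786433) (.node 1 (.leaf 17070145) (.leaf 11358299))) (.node 1 (.leaf 9179219) (.node 1 (.leaf 11300955) (.leaf 27856979))))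
(.node 3 (.node 1 (.leaf 11360345) (.node 1 (.leaf 25702481) (.leaf 11303003))) (.node 1 (.leaf 9181265) (.node 1 (.leaf 27818075) (.leaf 11284561))))))
(.node 12 (.node 6 (.node 3 (.node 1 (.leaf 25761857) (.node 1 (.leaf 25718851) (.leaf 27799643))) (.node 1 (.leaf 11352147) (.node 1 (.leaf 25704531) (.leaf 27818059))))
(.node 3 (.node 1 (.leaf 9203793) (.node 1 (.leaf 25702475) (.leaf 11350097))) (.node 1 (.leaf 25776193) (.node 1 (.leaf 27859033) (.leaf 11358289)))))
(.node 6 (.node 3 (.node 1 (.leaf 25704537) (.node 1 (.leaf 17127491) (.leaf 9269329))) (.node 1 (.leaf 27865179) (.node 1 (.leaf 17117275) (.leaf 27809881))))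
(.node 3 (.node 1 (.leaf 25696323) (.node 1 (.leaf 19159129) (.leaf 25784385))) (.node 1 (.leaf 27867225) (.node 1 (.leaf 17068097) (.leaf 25778265)))))))))
(.node 96 (.node 48 (.node 24 (.node 12 (.node 6 (.node 3 (.node 1 (.leaf 25440339) (.node 1 (.leaf 17594451) (.leaf 27531329))) (.node 1 (.leaf 11022419) (.node 1 (.leaf 8941657) (.leaf 17643601))))
(.node 3 (.node 1 (.leaf 25514051) (.node 1 (.leaf 27619411) (.leaf 8998979))) (.node 1 (.leaf 11081803) (.node 1 (.leaf 27537491) (.leaf 25432137)))))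
(.node 6 (.node 3 (.node 1 (.leaf 25524299) (.node 1 (.leaf 27611219) (.leaf 8943691))) (.node 1 (.leaf 19738707) (.node 1 (.leaf 17651777) (.leaf 25505875))))
(.node 3 (.node 1 (.leaf 11104329) (.node 1 (.leaf 8992835) (.leaf 17657929))) (.node 1 (.leaf 11032651) (.node 1 (.leaf 19683403) (.leaf 8990787))))))
(.node 12 (.node 6 (.node 3 (.node 1 (.leaf 11106379) (.node 1 (.leaf 17576003) (.leaf 27613259))) (.node 1 (.leaf 25522257) (.node 1 (.leaf 9001035) (.leaf 19664961))))
(.node 3 (.node 1 (.leaf 27619409) (.node 1 (.leaf 8941649) (.leaf 11022425))) (.node 1 (.leaf 19755089) (.node 1 (.leaf 19748929) (.leaf 25440337)))))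
(.node 6 (.node 3 (.node 1 (.leaf 11081793) (.node 1 (.leaf 8998987) (.leaf 27613257))) (.node 1 (.leaf 27539531) (.node 1 (.leaf 25434193) (.leaf 11024459))))
(.node 3 (.node 1 (.leaf 27553873) (.node 1 (.leaf 19667011) (.leaf 27621459))) (.node 1 (.leaf 9001027) (.node 1 (.leaf 11079755) (.leaf 19746881)))))))
(.node 24 (.node 12 (.node 6 (.node 3 (.node 1 (.leaf 25442385) (.node 1 (.leaf 11024465) (.leaf 8943707))) (.node 1 (.leaf 25522265) (.node 1 (.leaf 25434203) (.leaf 27539523))))
(.node 3 (.node 1 (.leaf 11081819) (.node 1 (.leaf 11104337) (.leaf 8992859))) (.node 1 (.leaf 8917081) (.node 1 (.leaf 11030609) (.leaf 19730521)))))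
(.node 6 (.node 3 (.node 1 (.leaf 11106387) (.node 1 (.leaf 17576027) (.leaf 11032657))) (.node 1 (.leaf 8919131) (.node 1 (.leaf 19683409) (.leaf 25432129))))
(.node 3 (.node 1 (.leaf 11022427) (.node 1 (.leaf 17635395) (.leaf 17584193))) (.node 1 (.leaf 19673169) (.node 1 (.leaf 27611201) (.leaf 9007185))))))
(.node 12 (.node 6 (.node 3 (.node 1 (.leaf 25442393) (.node 1 (.leaf 9009219) (.leaf 17578073))) (.node 1 (.leaf 19683401) (.node 1 (.leaf 25514075) (.leaf 8933467))))
(.node 3 (.node 1 (.leaf 25442395) (.node 1 (.leaf 19681371) (.leaf 17576009))) (.node 1 (.leaf 25516121) (.node 1 (.leaf 9007171) (.leaf 11087963)))))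
(.node 6 (.node 3 (.node 1 (.leaf 17657923) (.node 1 (.leaf 19732563) (.leaf 11030619))) (.node 1 (.leaf 8917073) (.node 1 (.leaf 8992851) (.leaf 11104347))))
(.node 3 (.node 1 (.leaf 27611227) (.node 1 (.leaf 25524289) (.leaf 8999003))) (.node 1 (.leaf 19691603) (.node 1 (.leaf 27555923) (.leaf 25448515))))))))
(.node 48 (.node 24 (.node 12 (.node 6 (.node 3 (.node 1 (.leaf 8990809) (.node 1 (.leaf 27529281) (.leaf 11024467))) (.node 1 (.leaf 8943705) (.node 1 (.leaf 25434185) (.leaf 25522251))))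
(.node 3 (.node 1 (.leaf 27613267) (.node 1 (.leaf 8941643) (.leaf 25514049))) (.node 1 (.leaf 8941651) (.node 1 (.leaf 25434177) (.leaf 27539545)))))
(.node 6 (.node 3 (.node 1 (.leaf 27613275) (.node 1 (.leaf 25522241) (.leaf 9001051))) (.node 1 (.leaf 27596865) (.node 1 (.leaf 8917075) (.leaf 19681369))))
(.node 3 (.node 1 (.leaf 11106395) (.node 1 (.leaf 8990801) (.leaf 17659995))) (.node 1 (.leaf 8919123) (.node 1 (.leaf 11032667) (.leaf 25524315))))))
(.node 12 (.node 6 (.node 3 (.node 1 (.leaf 11090003) (.node 1 (.leaf 9007193) (.leaf 27531331))) (.node 1 (.leaf 11022417) (.node 1 (.leaf 8941659) (.leaf 25524313))))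
(.node 3 (.node 1 (.leaf 25432155) (.node 1 (.leaf 27537475) (.leaf 11079771))) (.node 1 (.leaf 25516097) (.node 1 (.leaf 8943699) (.leaf 11024475)))))
(.node 6 (.node 3 (.node 1 (.leaf 25524307) (.node 1 (.leaf 27611211) (.leaf 27537481))) (.node 1 (.leaf 25432147) (.node 1 (.leaf 11022409) (.leaf 11030595))))
(.node 3 (.node 1 (.leaf 8917065) (.node 1 (.leaf 8992843) (.leaf 17578059))) (.node 1 (.leaf 8919113) (.node 1 (.leaf 11032641) (.leaf 19732553)))))))
(.node 24 (.node 12 (.node 6 (.node 3 (.node 1 (.leaf 8990793) (.node 1 (.leaf 17659971) (.leaf 11081801))) (.node 1 (.leaf 8933443) (.node 1 (.leaf 11014219) (.leaf 27531339))))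
(.node 3 (.node 1 (.leaf 27621449) (.node 1 (.leaf 25514067) (.leaf 9009225))) (.node 1 (.leaf 27529291) (.node 1 (.leaf 25516115) (.leaf 27619403)))))
(.node 6 (.node 3 (.node 1 (.leaf 8935507) (.node 1 (.leaf 19730507) (.leaf 17659993))) (.node 1 (.leaf 25497675) (.node 1 (.leaf 27619401) (.leaf 27529289))))
(.node 3 (.node 1 (.leaf 11087953) (.node 1 (.leaf 19732569) (.leaf 25456713))) (.node 1 (.leaf 27621451) (.node 1 (.leaf 8933459) (.leaf 27531337))))))
(.node 12 (.node 6 (.node 3 (.node 1 (.leaf 11016265) (.node 1 (.leaf 19681363) (.leaf 17576001))) (.node 1 (.leaf 27545683) (.node 1 (.leaf 8917057) (.leaf 11030601))))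
(.node 3 (.node 1 (.leaf 25522249) (.node 1 (.leaf 27613265) (.leaf 8941641))) (.node 1 (.leaf 27596867) (.node 1 (.leaf 25450561) (.leaf 17567809)))))
(.node 6 (.node 3 (.node 1 (.leaf 27553875) (.node 1 (.leaf 8919115) (.leaf 25497673))) (.node 1 (.leaf 25458763) (.node 1 (.leaf 27547731) (.leaf 11022403))))
(.node 3 (.node 1 (.leaf 19755083) (.node 1 (.leaf 8998985) (.leaf 17584201))) (.node 1 (.leaf 11024451) (.node 1 (.leaf 8943689) (.leaf 19675203))))))))))

/-- The stabiliser. -/
def caseCFullN4ElsL : Tab ℕ := .node 384 caseCFullN4ElsLL caseCFullN4ElsLR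

/-- The stabiliser. -/
def caseCFullN4ElsRL : Tab ℕ :=
(.node 192 (.node 96 (.node 48 (.node 24 (.node 12 (.node 6 (.node 3 (.node 1 (.leaf 27545673) (.node 1 (.leaf 19757131) (.leaf 19673155))) (.node 1 (.leaf 17586251) (.node 1 (.leaf 27603011) (.leaf 25499737))))
(.node 3 (.node 1 (.leaf 17659979) (.node 1 (.leaf 19730523) (.leaf 17576011))) (.node 1 (.leaf 11040843) (.node 1 (.leaf 8927297) (.leaf 19691595)))))
(.node 6 (.node 3 (.node 1 (.leaf 11079745) (.node 1 (.leaf 17586249) (.leaf 27547721))) (.node 1 (.leaf 11032649) (.node 1 (.leaf 11024449) (.leaf 19757129))))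
(.node 3 (.node 1 (.leaf 17578075) (.node 1 (.leaf 17657945) (.leaf 25456729))) (.node 1 (.leaf 17651785) (.node 1 (.leaf 11081795) (.leaf 17584203))))))
(.node 12 (.node 6 (.node 3 (.node 1 (.leaf 27605059) (.node 1 (.leaf 25497689) (.leaf 11022401))) (.node 1 (.leaf 19755081) (.node 1 (.leaf 27545681) (.leaf 17578051))))
(.node 3 (.node 1 (.leaf 19683411) (.node 1 (.leaf 19732561) (.leaf 25499729))) (.node 1 (.leaf 8927299) (.node 1 (.leaf 19740739) (.leaf 25516105)))))
(.node 6 (.node 3 (.node 1 (.leaf 27529299) (.node 1 (.leaf 25440329) (.leaf 11014227))) (.node 1 (.leaf 25514059) (.node 1 (.leaf 25442377) (.leaf 27531345))))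
(.node 3 (.node 1 (.leaf 11089993) (.node 1 (.leaf 8919107) (.leaf 8990785))) (.node 1 (.leaf 11106377) (.node 1 (.leaf 27537489) (.leaf 9009243)))))))
(.node 24 (.node 12 (.node 6 (.node 3 (.node 1 (.leaf 8935491) (.node 1 (.leaf 11016267) (.leaf 25516113))) (.node 1 (.leaf 9007179) (.node 1 (.leaf 11040841) (.leaf 19691593))))
(.node 3 (.node 1 (.leaf 11096139) (.node 1 (.leaf 17649739) (.leaf 8925251))) (.node 1 (.leaf 11038795) (.node 1 (.leaf 19738691) (.leaf 8933451)))))
(.node 6 (.node 3 (.node 1 (.leaf 17633345) (.node 1 (.leaf 27611209) (.leaf 27537483))) (.node 1 (.leaf 25432145) (.node 1 (.leaf 11022411) (.leaf 8919129))))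
(.node 3 (.node 1 (.leaf 11104339) (.node 1 (.leaf 8917083) (.leaf 19681361))) (.node 1 (.leaf 27539547) (.node 1 (.leaf 27613249) (.leaf 9001025))))))
(.node 12 (.node 6 (.node 3 (.node 1 (.leaf 11079753) (.node 1 (.leaf 25434187) (.leaf 25507921))) (.node 1 (.leaf 19681353) (.node 1 (.leaf 8992833) (.leaf 17578049))))
(.node 3 (.node 1 (.leaf 8935499) (.node 1 (.leaf 25516107) (.leaf 27529297))) (.node 1 (.leaf 25440331) (.node 1 (.leaf 27547723) (.leaf 11087945)))))
(.node 6 (.node 3 (.node 1 (.leaf 27603017) (.node 1 (.leaf 25442379) (.leaf 11016273))) (.node 1 (.leaf 25514057) (.node 1 (.leaf 11106369) (.leaf 11032643))))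
(.node 3 (.node 1 (.leaf 27605067) (.node 1 (.leaf 25497681) (.leaf 27539529))) (.node 1 (.leaf 25434195) (.node 1 (.leaf 11024457) (.leaf 8990795))))))))
(.node 48 (.node 24 (.node 12 (.node 6 (.node 3 (.node 1 (.leaf 11030593) (.node 1 (.leaf 19730505) (.leaf 8992841))) (.node 1 (.leaf 8998977) (.node 1 (.leaf 25432139) (.leaf 25524297))))
(.node 3 (.node 1 (.leaf 27611217) (.node 1 (.leaf 11106393) (.leaf 8919121))) (.node 1 (.leaf 19683419) (.node 1 (.leaf 11104345) (.leaf 19730513)))))
(.node 6 (.node 3 (.node 1 (.leaf 27619419) (.node 1 (.leaf 27529305) (.leaf 25440323))) (.node 1 (.leaf 11014233) (.node 1 (.leaf 27621467) (.leaf 25442371))))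
(.node 3 (.node 1 (.leaf 27531355) (.node 1 (.leaf 25458779) (.leaf 27531353))) (.node 1 (.leaf 27621465) (.node 1 (.leaf 8933441) (.leaf 17657931))))))
(.node 12 (.node 6 (.node 3 (.node 1 (.leaf 27529307) (.node 1 (.leaf 27619417) (.leaf 25434201))) (.node 1 (.leaf 27539521) (.node 1 (.leaf 11081817) (.leaf 25458777))))
(.node 3 (.node 1 (.leaf 25497691) (.node 1 (.leaf 8998993) (.leaf 17635419))) (.node 1 (.leaf 19673177) (.node 1 (.leaf 9001041) (.leaf 11079769)))))
(.node 6 (.node 3 (.node 1 (.leaf 17586257) (.node 1 (.leaf 25499715) (.leaf 17633371))) (.node 1 (.leaf 17584209) (.node 1 (.leaf 19675227) (.leaf 25456715))))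
(.node 3 (.node 1 (.leaf 17659977) (.node 1 (.leaf 27603019) (.leaf 8982619))) (.node 1 (.leaf 11098195) (.node 1 (.leaf 17567835) (.leaf 19675225)))))))
(.node 24 (.node 12 (.node 6 (.node 3 (.node 1 (.leaf 9001043) (.node 1 (.leaf 17633369) (.leaf 27545675))) (.node 1 (.leaf 19732555) (.node 1 (.leaf 25499723) (.leaf 19740761))))
(.node 3 (.node 1 (.leaf 19673179) (.node 1 (.leaf 27547729) (.leaf 8998995))) (.node 1 (.leaf 17635417) (.node 1 (.leaf 27603009) (.leaf 17657921)))))
(.node 6 (.node 3 (.node 1 (.leaf 25456705) (.node 1 (.leaf 11098193) (.leaf 17651793))) (.node 1 (.leaf 11014209) (.node 1 (.leaf 27619393) (.leaf 8935513))))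
(.node 3 (.node 1 (.leaf 25497665) (.node 1 (.leaf 11030611) (.leaf 25434179))) (.node 1 (.leaf 11016259) (.node 1 (.leaf 11014217) (.leaf 11090001))))))
(.node 12 (.node 6 (.node 3 (.node 1 (.leaf 9007195) (.node 1 (.leaf 25442369) (.leaf 11016283))) (.node 1 (.leaf 27545665) (.node 1 (.leaf 8982617) (.leaf 17567833))))
(.node 3 (.node 1 (.leaf 11038803) (.node 1 (.leaf 19738715) (.leaf 11096145))) (.node 1 (.leaf 8984667) (.node 1 (.leaf 17649745) (.leaf 25522243)))))
(.node 6 (.node 3 (.node 1 (.leaf 8941635) (.node 1 (.leaf 19740763) (.leaf 17649737))) (.node 1 (.leaf 25507931) (.node 1 (.leaf 27613273) (.leaf 9001049))))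
(.node 3 (.node 1 (.leaf 17651801) (.node 1 (.leaf 19738697) (.leaf 25450585))) (.node 1 (.leaf 8943683) (.node 1 (.leaf 27537497) (.leaf 19691587)))))))))
(.node 96 (.node 48 (.node 24 (.node 12 (.node 6 (.node 3 (.node 1 (.leaf 17569873) (.node 1 (.leaf 27555907) (.leaf 11098201))) (.node 1 (.leaf 8982611) (.node 1 (.leaf 8927313) (.leaf 11040857))))
(.node 3 (.node 1 (.leaf 25505883) (.node 1 (.leaf 19689539) (.leaf 17567825))) (.node 1 (.leaf 17649755) (.node 1 (.leaf 19740747) (.leaf 11038787)))))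
(.node 6 (.node 3 (.node 1 (.leaf 8984651) (.node 1 (.leaf 17569867) (.leaf 19681355))) (.node 1 (.leaf 17657947) (.node 1 (.leaf 25456731) (.leaf 8982593))))
(.node 3 (.node 1 (.leaf 17651787) (.node 1 (.leaf 27555905) (.leaf 25450587))) (.node 1 (.leaf 11040833) (.node 1 (.leaf 17649753) (.leaf 19740745))))))
(.node 12 (.node 6 (.node 3 (.node 1 (.leaf 8984659) (.node 1 (.leaf 27621441) (.leaf 8943681))) (.node 1 (.leaf 19738713) (.node 1 (.leaf 25505881) (.leaf 8925249))))
(.node 3 (.node 1 (.leaf 19689547) (.node 1 (.leaf 25458761) (.leaf 8927307))) (.node 1 (.leaf 11040835) (.node 1 (.leaf 17584217) (.leaf 19673161)))))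
(.node 6 (.node 3 (.node 1 (.leaf 17651803) (.node 1 (.leaf 19738699) (.leaf 8927305))) (.node 1 (.leaf 8982603) (.node 1 (.leaf 17567819) (.leaf 8941633))))
(.node 3 (.node 1 (.leaf 17651795) (.node 1 (.leaf 19730515) (.leaf 25499731))) (.node 1 (.leaf 17569875) (.node 1 (.leaf 19757123) (.leaf 17633361)))))))
(.node 24 (.node 12 (.node 6 (.node 3 (.node 1 (.leaf 11081809) (.node 1 (.leaf 11079761) (.leaf 19755097))) (.node 1 (.leaf 27605065) (.node 1 (.leaf 11079763) (.leaf 17586267))))
(.node 3 (.node 1 (.leaf 25499721) (.node 1 (.leaf 8990803) (.leaf 19757145))) (.node 1 (.leaf 11081811) (.node 1 (.leaf 17635411) (.leaf 27547713)))))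
(.node 6 (.node 3 (.node 1 (.leaf 8925267) (.node 1 (.leaf 11038811) (.leaf 9007169))) (.node 1 (.leaf 8992849) (.node 1 (.leaf 25499739) (.leaf 17584211))))
(.node 3 (.node 1 (.leaf 8925273) (.node 1 (.leaf 11098203) (.leaf 19675211))) (.node 1 (.leaf 19755075) (.node 1 (.leaf 17635409) (.leaf 25458753))))))
(.node 12 (.node 6 (.node 3 (.node 1 (.leaf 27865169) (.node 1 (.leaf 25786443) (.leaf 9271377))) (.node 1 (.leaf 27809883) (.node 1 (.leaf 11292761) (.leaf 11366491))))
(.node 3 (.node 1 (.leaf 9246801) (.node 1 (.leaf 25784411) (.leaf 17045569))) (.node 1 (.leaf 27807809) (.node 1 (.leaf 25694299) (.leaf 25784401)))))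
(.node 6 (.node 3 (.node 1 (.leaf 27867209) (.node 1 (.leaf 9187403) (.leaf 9246793))) (.node 1 (.leaf 11366465) (.node 1 (.leaf 25696329) (.leaf 27816009))))
(.node 3 (.node 1 (.leaf 27856971) (.node 1 (.leaf 25778257) (.leaf 17109067))) (.node 1 (.leaf 19167305) (.node 1 (.leaf 25776209) (.leaf 27859017))))))))
(.node 48 (.node 24 (.node 12 (.node 6 (.node 3 (.node 1 (.leaf 17059921) (.node 1 (.leaf 9244739) (.leaf 25786441))) (.node 1 (.leaf 17070161) (.node 1 (.leaf 11294787) (.leaf 27799633))))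
(.node 3 (.node 1 (.leaf 9269323) (.node 1 (.leaf 19165259) (.leaf 17059929))) (.node 1 (.leaf 17061961) (.node 1 (.leaf 19167321) (.leaf 9195595)))))
(.node 6 (.node 3 (.node 1 (.leaf 25720905) (.node 1 (.leaf 19214401) (.leaf 17111123))) (.node 1 (.leaf 25778249) (.node 1 (.leaf 27856977) (.leaf 27816019))))
(.node 3 (.node 1 (.leaf 25702473) (.node 1 (.leaf 11294793) (.leaf 9189443))) (.node 1 (.leaf 27809865) (.node 1 (.leaf 11341891) (.leaf 25784403))))))
(.node 12 (.node 6 (.node 3 (.node 1 (.leaf 27867211) (.node 1 (.leaf 9246809) (.leaf 9187419))) (.node 1 (.leaf 11292755) (.node 1 (.leaf 9197635) (.leaf 27865171))))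
(.node 3 (.node 1 (.leaf 11366475) (.node 1 (.leaf 11292745) (.leaf 9187395))) (.node 1 (.leaf 27807817) (.node 1 (.leaf 17061963) (.leaf 27818065)))))
(.node 6 (.node 3 (.node 1 (.leaf 19216457) (.node 1 (.leaf 27859027) (.leaf 25776201))) (.node 1 (.leaf 9189449) (.node 1 (.leaf 25718867) (.leaf 11343937))))
(.node 3 (.node 1 (.leaf 25786449) (.node 1 (.leaf 27865161) (.leaf 9189451))) (.node 1 (.leaf 9244745) (.node 1 (.leaf 11368513) (.leaf 25694281)))))))
(.node 24 (.node 12 (.node 6 (.node 3 (.node 1 (.leaf 9195587) (.node 1 (.leaf 27867219) (.leaf 25784393))) (.node 1 (.leaf 11294811) (.node 1 (.leaf 11368537) (.leaf 9244755))))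
(.node 3 (.node 1 (.leaf 25786457) (.node 1 (.leaf 27816027) (.leaf 19165275))) (.node 1 (.leaf 25776195) (.node 1 (.leaf 17111129) (.leaf 27818073)))))
(.node 6 (.node 3 (.node 1 (.leaf 19216449) (.node 1 (.leaf 25696345) (.leaf 11343963))) (.node 1 (.leaf 11286617) (.node 1 (.leaf 27801689) (.leaf 11284571))))
(.node 3 (.node 1 (.leaf 27873363) (.node 1 (.leaf 17109083) (.leaf 19216459))) (.node 1 (.leaf 25720913) (.node 1 (.leaf 17111115) (.leaf 27875411))))))
(.node 12 (.node 6 (.node 3 (.node 1 (.leaf 11343961) (.node 1 (.leaf 17061971) (.leaf 19167299))) (.node 1 (.leaf 27856963) (.node 1 (.leaf 9187417) (.leaf 11292753))))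
(.node 3 (.node 1 (.leaf 11278401) (.node 1 (.leaf 9261123) (.leaf 19140675))) (.node 1 (.leaf 17119323) (.node 1 (.leaf 11302977) (.leaf 9181259)))))
(.node 6 (.node 3 (.node 1 (.leaf 19216475) (.node 1 (.leaf 17109065) (.leaf 19167323))) (.node 1 (.leaf 25694275) (.node 1 (.leaf 19157081) (.leaf 11358297))))
(.node 3 (.node 1 (.leaf 25776217) (.node 1 (.leaf 25784387) (.leaf 17119321))) (.node 1 (.leaf 19165257) (.node 1 (.leaf 19214411) (.leaf 9252939))))))))))

/-- The stabiliser. -/
def caseCFullN4ElsRR : Tab ℕ :=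
(.node 192 (.node 96 (.node 48 (.node 24 (.node 12 (.node 6 (.node 3 (.node 1 (.leaf 25696321) (.node 1 (.leaf 19159131) (.leaf 11300929))) (.node 1 (.leaf 9179211) (.node 1 (.leaf 11360337) (.leaf 19165249))))
(.node 3 (.node 1 (.leaf 17059923) (.node 1 (.leaf 17111121) (.leaf 9195609))) (.node 1 (.leaf 11341907) (.node 1 (.leaf 9271385) (.leaf 9269337)))))
(.node 6 (.node 3 (.node 1 (.leaf 25718873) (.node 1 (.leaf 27859009) (.leaf 27818051))) (.node 1 (.leaf 11368529) (.node 1 (.leaf 27801673) (.leaf 27873345))))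
(.node 3 (.node 1 (.leaf 9195601) (.node 1 (.leaf 11294809) (.leaf 11368539))) (.node 1 (.leaf 9244753) (.node 1 (.leaf 25786459) (.leaf 27859019))))))
(.node 12 (.node 6 (.node 3 (.node 1 (.leaf 25702483) (.node 1 (.leaf 27856969) (.leaf 17061969))) (.node 1 (.leaf 11366473) (.node 1 (.leaf 27807811) (.leaf 25694297))))
(.node 3 (.node 1 (.leaf 9246811) (.node 1 (.leaf 17061977) (.leaf 27816003))) (.node 1 (.leaf 19165251) (.node 1 (.leaf 11341905) (.leaf 9271387)))))
(.node 6 (.node 3 (.node 1 (.leaf 11303001) (.node 1 (.leaf 9269339) (.leaf 25761873))) (.node 1 (.leaf 9197657) (.node 1 (.leaf 25704515) (.leaf 9179217))))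
(.node 3 (.node 1 (.leaf 11366489) (.node 1 (.leaf 9246803) (.leaf 25784409))) (.node 1 (.leaf 25778243) (.node 1 (.leaf 17109081) (.leaf 27816025)))))))
(.node 24 (.node 12 (.node 6 (.node 3 (.node 1 (.leaf 27809859) (.node 1 (.leaf 9244763) (.leaf 9189465))) (.node 1 (.leaf 11294801) (.node 1 (.leaf 25704523) (.leaf 27859025))))
(.node 3 (.node 1 (.leaf 17059913) (.node 1 (.leaf 17109073) (.leaf 11284553))) (.node 1 (.leaf 11341899) (.node 1 (.leaf 25759819) (.leaf 9254985)))))
(.node 6 (.node 3 (.node 1 (.leaf 11343947) (.node 1 (.leaf 11286603) (.leaf 27875395))) (.node 1 (.leaf 19214427) (.node 1 (.leaf 11284555) (.leaf 9246795))))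
(.node 3 (.node 1 (.leaf 11366467) (.node 1 (.leaf 25696331) (.leaf 9254987))) (.node 1 (.leaf 9179209) (.node 1 (.leaf 27809873) (.leaf 19208265))))))
(.node 12 (.node 6 (.node 3 (.node 1 (.leaf 17070155) (.node 1 (.leaf 27807825) (.leaf 25694283))) (.node 1 (.leaf 19157073) (.node 1 (.leaf 19206217) (.leaf 19159121))))
(.node 3 (.node 1 (.leaf 17068105) (.node 1 (.leaf 19216473) (.leaf 27791433))) (.node 1 (.leaf 25710675) (.node 1 (.leaf 19140681) (.leaf 17068107)))))
(.node 6 (.node 3 (.node 1 (.leaf 27807827) (.node 1 (.leaf 19206219) (.leaf 11360347))) (.node 1 (.leaf 17111131) (.node 1 (.leaf 17133643) (.leaf 17070153))))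
(.node 3 (.node 1 (.leaf 27809875) (.node 1 (.leaf 19208267) (.leaf 11302979))) (.node 1 (.leaf 19214403) (.node 1 (.leaf 9252931) (.leaf 25710673))))))))
(.node 48 (.node 24 (.node 12 (.node 6 (.node 3 (.node 1 (.leaf 19222609) (.node 1 (.leaf 11284547) (.leaf 25759833))) (.node 1 (.leaf 27799625) (.node 1 (.leaf 9269315) (.leaf 25761865))))
(.node 3 (.node 1 (.leaf 19140683) (.node 1 (.leaf 17135689) (.leaf 25712721))) (.node 1 (.leaf 27793481) (.node 1 (.leaf 19224657) (.leaf 9187393)))))
(.node 6 (.node 3 (.node 1 (.leaf 27865153) (.node 1 (.leaf 17133641) (.leaf 9203785))) (.node 1 (.leaf 11292747) (.node 1 (.leaf 27807819) (.leaf 19222603))))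
(.node 3 (.node 1 (.leaf 17135705) (.node 1 (.leaf 27867201) (.leaf 11368523))) (.node 1 (.leaf 17053761) (.node 1 (.leaf 19142737) (.leaf 11352129))))))
(.node 12 (.node 6 (.node 3 (.node 1 (.leaf 27791443) (.node 1 (.leaf 17051713) (.leaf 19140689))) (.node 1 (.leaf 19224649) (.node 1 (.leaf 17133659) (.leaf 25768001))))
(.node 3 (.node 1 (.leaf 19142747) (.node 1 (.leaf 17061979) (.leaf 19214409))) (.node 1 (.leaf 9252937) (.node 1 (.leaf 9261129) (.leaf 25770051)))))
(.node 6 (.node 3 (.node 1 (.leaf 19224651) (.node 1 (.leaf 17133657) (.leaf 27793491))) (.node 1 (.leaf 11286595) (.node 1 (.leaf 27867203) (.leaf 17135691))))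
(.node 3 (.node 1 (.leaf 9205835) (.node 1 (.leaf 25770049) (.leaf 19159115))) (.node 1 (.leaf 17070169) (.node 1 (.leaf 19222601) (.leaf 17135707)))))))
(.node 24 (.node 12 (.node 6 (.node 3 (.node 1 (.leaf 27881561) (.node 1 (.leaf 27791451) (.leaf 19140699))) (.node 1 (.leaf 27865155) (.node 1 (.leaf 19222611) (.leaf 17109075))))
(.node 3 (.node 1 (.leaf 9181267) (.node 1 (.leaf 19142739) (.leaf 17119297))) (.node 1 (.leaf 19206225) (.node 1 (.leaf 25696337) (.leaf 25694289)))))
(.node 6 (.node 3 (.node 1 (.leaf 17117259) (.node 1 (.leaf 11300953) (.leaf 25694291))) (.node 1 (.leaf 19157065) (.node 1 (.leaf 17119307) (.leaf 25696339))))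
(.node 3 (.node 1 (.leaf 19208275) (.node 1 (.leaf 27799619) (.leaf 9181257))) (.node 1 (.leaf 19159123) (.node 1 (.leaf 25710665) (.leaf 17068123))))))
(.node 12 (.node 6 (.node 3 (.node 1 (.leaf 17117249) (.node 1 (.leaf 19208273) (.leaf 9254979))) (.node 1 (.leaf 17059915) (.node 1 (.leaf 9187401) (.leaf 27856987))))
(.node 3 (.node 1 (.leaf 9244747) (.node 1 (.leaf 11368515) (.leaf 17111113))) (.node 1 (.leaf 27801683) (.node 1 (.leaf 27801667) (.leaf 19216451)))))
(.node 6 (.node 3 (.node 1 (.leaf 19159113) (.node 1 (.leaf 19206227) (.leaf 17117257))) (.node 1 (.leaf 27793489) (.node 1 (.leaf 17051723) (.leaf 17119305))))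
(.node 3 (.node 1 (.leaf 19157067) (.node 1 (.leaf 9271363) (.leaf 25720899))) (.node 1 (.leaf 17053769) (.node 1 (.leaf 19140691) (.leaf 19167307)))))))))
(.node 96 (.node 48 (.node 24 (.node 12 (.node 6 (.node 3 (.node 1 (.leaf 25720923) (.node 1 (.leaf 11343955) (.leaf 17068121))) (.node 1 (.leaf 19206235) (.node 1 (.leaf 19208281) (.leaf 25768003))))
(.node 3 (.node 1 (.leaf 19208283) (.node 1 (.leaf 17070171) (.leaf 19206233))) (.node 1 (.leaf 27883611) (.node 1 (.leaf 25710659) (.leaf 19140697)))))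
(.node 6 (.node 3 (.node 1 (.leaf 19142745) (.node 1 (.leaf 17053771) (.leaf 11278425))) (.node 1 (.leaf 11350107) (.node 1 (.leaf 19224659) (.leaf 11276377))))
(.node 3 (.node 1 (.leaf 19142729) (.node 1 (.leaf 17051721) (.leaf 9263185))) (.node 1 (.leaf 19142731) (.node 1 (.leaf 27791441) (.leaf 25712723))))))
(.node 12 (.node 6 (.node 3 (.node 1 (.leaf 17051715) (.node 1 (.leaf 11300931) (.leaf 17133635))) (.node 1 (.leaf 17068099) (.node 1 (.leaf 17119299) (.leaf 19157075))))
(.node 3 (.node 1 (.leaf 19150937) (.node 1 (.leaf 17127515) (.leaf 9263195))) (.node 1 (.leaf 11276369) (.node 1 (.leaf 9205851) (.leaf 11278419)))))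
(.node 6 (.node 3 (.node 1 (.leaf 11276361) (.node 1 (.leaf 11278409) (.leaf 9205827))) (.node 1 (.leaf 19165273) (.node 1 (.leaf 19232835) (.leaf 17127513))))
(.node 3 (.node 1 (.leaf 17070147) (.node 1 (.leaf 19148891) (.leaf 11352139))) (.node 1 (.leaf 9203779) (.node 1 (.leaf 17117251) (.leaf 17053763)))))))
(.node 24 (.node 12 (.node 6 (.node 3 (.node 1 (.leaf 25712707) (.node 1 (.leaf 9203801) (.leaf 17135683))) (.node 1 (.leaf 27596875) (.node 1 (.leaf 27555913) (.leaf 25450579))))
(.node 3 (.node 1 (.leaf 11040851) (.node 1 (.leaf 19746907) (.leaf 17592409))) (.node 1 (.leaf 11016275) (.node 1 (.leaf 27553881) (.leaf 27553883)))))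
(.node 6 (.node 3 (.node 1 (.leaf 27594841) (.node 1 (.leaf 25507907) (.leaf 25448521))) (.node 1 (.leaf 25507915) (.node 1 (.leaf 27594835) (.leaf 17641545))))
(.node 3 (.node 1 (.leaf 8935489) (.node 1 (.leaf 19667019) (.leaf 11089995))) (.node 1 (.leaf 17592387) (.node 1 (.leaf 11104331) (.leaf 11032659))))))
(.node 12 (.node 6 (.node 3 (.node 1 (.leaf 19664969) (.node 1 (.leaf 17592411) (.leaf 19667035))) (.node 1 (.leaf 19746899) (.node 1 (.leaf 17643585) (.leaf 27555915))))
(.node 3 (.node 1 (.leaf 25450577) (.node 1 (.leaf 19689545) (.leaf 17592393))) (.node 1 (.leaf 19664985) (.node 1 (.leaf 17643593) (.leaf 17641561)))))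
(.node 6 (.node 3 (.node 1 (.leaf 17594459) (.node 1 (.leaf 8984643) (.leaf 25514065))) (.node 1 (.leaf 17641539) (.node 1 (.leaf 19748947) (.leaf 19667025))))
(.node 3 (.node 1 (.leaf 25497683) (.node 1 (.leaf 11089985) (.leaf 25448523))) (.node 1 (.leaf 25507913) (.node 1 (.leaf 27594833) (.leaf 9009235))))))))
(.node 48 (.node 24 (.node 12 (.node 6 (.node 3 (.node 1 (.leaf 19746897) (.node 1 (.leaf 11098177) (.leaf 27596873))) (.node 1 (.leaf 19746891) (.node 1 (.leaf 11087937) (.leaf 17641537))))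
(.node 3 (.node 1 (.leaf 25505867) (.node 1 (.leaf 27596883) (.leaf 8925259))) (.node 1 (.leaf 19664971) (.node 1 (.leaf 11087947) (.leaf 11096129)))))
(.node 6 (.node 3 (.node 1 (.leaf 27594825) (.node 1 (.leaf 27553867) (.leaf 25448529))) (.node 1 (.leaf 19748953) (.node 1 (.leaf 19664977) (.leaf 17594441))))
(.node 3 (.node 1 (.leaf 27596891) (.node 1 (.leaf 25505857) (.leaf 17569881))) (.node 1 (.leaf 17592395) (.node 1 (.leaf 19667017) (.leaf 11096147))))))
(.node 12 (.node 6 (.node 3 (.node 1 (.leaf 17569883) (.node 1 (.leaf 17594433) (.leaf 8917067))) (.node 1 (.leaf 17635401) (.node 1 (.leaf 19746889) (.leaf 17594457))))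
(.node 3 (.node 1 (.leaf 17584219) (.node 1 (.leaf 19673163) (.leaf 11038785))) (.node 1 (.leaf 17586265) (.node 1 (.leaf 19675209) (.leaf 17633353)))))
(.node 6 (.node 3 (.node 1 (.leaf 17586259) (.node 1 (.leaf 19664979) (.leaf 27531347))) (.node 1 (.leaf 8984657) (.node 1 (.leaf 8982609) (.leaf 19691611))))
(.node 3 (.node 1 (.leaf 19689563) (.node 1 (.leaf 17649747) (.leaf 19748955))) (.node 1 (.leaf 27555929) (.node 1 (.leaf 27594843) (.leaf 25507905)))))))
(.node 24 (.node 12 (.node 6 (.node 3 (.node 1 (.leaf 19667033) (.node 1 (.leaf 11104321) (.leaf 17592385))) (.node 1 (.leaf 17567827) (.node 1 (.leaf 19691609) (.leaf 19757147))))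
(.node 3 (.node 1 (.leaf 19689561) (.node 1 (.leaf 27605057) (.leaf 17633363))) (.node 1 (.leaf 17643611) (.node 1 (.leaf 17567817) (.leaf 17569865)))))
(.node 6 (.node 3 (.node 1 (.leaf 17633355) (.node 1 (.leaf 17635403) (.leaf 19755099))) (.node 1 (.leaf 19757121) (.node 1 (.leaf 25440321) (.leaf 19673153))))
(.node 3 (.node 1 (.leaf 19738689) (.node 1 (.leaf 19689537) (.leaf 25432153))) (.node 1 (.leaf 17641547) (.node 1 (.leaf 19740737) (.leaf 25522267))))))
(.node 12 (.node 6 (.node 3 (.node 1 (.leaf 27537473) (.node 1 (.leaf 19691585) (.leaf 19755073))) (.node 1 (.leaf 19675201) (.node 1 (.leaf 9009217) (.leaf 19732571))))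
(.node 3 (.node 1 (.leaf 17576025) (.node 1 (.leaf 19683417) (.leaf 17659969))) (.node 1 (.leaf 17578057) (.node 1 (.leaf 17127505) (.leaf 17043547)))))
(.node 6 (.node 3 (.node 1 (.leaf 17125451) (.node 1 (.leaf 17043537) (.leaf 17045593))) (.node 1 (.leaf 19150915) (.node 1 (.leaf 19150923) (.leaf 17043539))))
(.node 3 (.node 1 (.leaf 17125449) (.node 1 (.leaf 17045579) (.leaf 25702467))) (.node 1 (.leaf 19148867) (.node 1 (.leaf 19230793) (.leaf 19232859))))))))))

/-- The stabiliser. -/
def caseCFullN4ElsR : Tab ℕ := .node 384 caseCFullN4ElsRL caseCFullN4ElsRR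

/-- The stabiliser. -/
def caseCFullN4Els : Tab ℕ := .node 768 caseCFullN4ElsL caseCFullN4ElsR

/-- Its index. -/
def caseCFullN4Ix : BT ℕ :=
(.node 19140673 12
(.node 11276353 62
(.node 9244737 56
(.node 8998977 867
(.node 8941633 1001
(.node 8927297 778
(.node 8919121 872
(.node 8917081 633
(.node 8917067 1466 (.node 8917059 163 (.node 8917057 748 .tip .tip) (.node 8917065 714 .tip .tip)) (.node 8917075 688 (.node 8917073 663 .tip .tip) .tip))
(.node 8919107 811 (.node 8919105 228 (.node 8917083 835 .tip .tip) .tip) (.node 8919115 757 (.node 8919113 717 .tip .tip) .tip)))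
(.node 8925257 178
(.node 8919131 639 (.node 8919129 833 (.node 8919123 693 .tip .tip) .tip) (.node 8925251 824 (.node 8925249 989 .tip .tip) .tip))
(.node 8925267 1020 (.node 8925265 186 (.node 8925259 1448 .tip .tip) .tip) (.node 8925275 117 (.node 8925273 1026 .tip .tip) .tip))))
(.node 8933457 198
(.node 8927321 207
(.node 8927307 992 (.node 8927305 998 (.node 8927299 801 .tip .tip) .tip) (.node 8927315 128 (.node 8927313 964 .tip .tip) .tip))
(.node 8933443 723 (.node 8933441 886 (.node 8927323 168 .tip .tip) .tip) (.node 8933451 827 (.node 8933449 147 .tip .tip) .tip)))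
(.node 8935497 151
(.node 8933467 653 (.node 8933465 239 (.node 8933459 742 .tip .tip) .tip) (.node 8935491 816 (.node 8935489 1410 .tip .tip) .tip))
(.node 8935507 732 (.node 8935505 203 (.node 8935499 846 .tip .tip) .tip) (.node 8935515 260 (.node 8935513 929 .tip .tip) .tip)))))
(.node 8984641 172
(.node 8943697 28
(.node 8941657 580
(.node 8941643 679 (.node 8941641 752 (.node 8941635 948 .tip .tip) .tip) (.node 8941651 681 (.node 8941649 607 .tip .tip) .tip))
(.node 8943683 957 (.node 8943681 986 (.node 8941659 700 .tip .tip) .tip) (.node 8943691 590 (.node 8943689 766 .tip .tip) .tip)))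
(.node 8982601 183
(.node 8943707 626 (.node 8943705 675 (.node 8943699 706 .tip .tip) .tip) (.node 8982595 108 (.node 8982593 977 .tip .tip) .tip))
(.node 8982611 963 (.node 8982609 1480 (.node 8982603 999 .tip .tip) .tip) (.node 8982619 908 (.node 8982617 940 .tip .tip) .tip))))
(.node 8990801 691
(.node 8984665 192
(.node 8984651 972 (.node 8984649 136 (.node 8984643 1429 .tip .tip) .tip) (.node 8984659 984 (.node 8984657 1479 .tip .tip) .tip))
(.node 8990787 599 (.node 8990785 812 (.node 8984667 945 .tip .tip) .tip) (.node 8990795 863 (.node 8990793 720 .tip .tip) .tip)))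
(.node 8992841 866
(.node 8990811 213 (.node 8990809 672 (.node 8990803 1015 .tip .tip) .tip) (.node 8992835 595 (.node 8992833 844 .tip .tip) .tip))
(.node 8992851 664 (.node 8992849 1023 (.node 8992843 715 .tip .tip) .tip) (.node 8992859 632 (.node 8992857 235 .tip .tip) .tip))))))
(.node 9187393 1259
(.node 9009217 1516
(.node 9001041 898
(.node 8999001 35
(.node 8998987 613 (.node 8998985 763 (.node 8998979 584 .tip .tip) .tip) (.node 8998995 920 (.node 8998993 895 .tip .tip) .tip))
(.node 9001027 621 (.node 9001025 839 (.node 8999003 668 .tip .tip) .tip) (.node 9001035 604 (.node 9001033 20 .tip .tip) .tip)))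
(.node 9007177 155
(.node 9001051 686 (.node 9001049 953 (.node 9001043 912 .tip .tip) .tip) (.node 9007171 658 (.node 9007169 1022 .tip .tip) .tip))
(.node 9007187 201 (.node 9007185 647 (.node 9007179 819 .tip .tip) .tip) (.node 9007195 936 (.node 9007193 697 .tip .tip) .tip))))
(.node 9179217 1193
(.node 9009241 242
(.node 9009227 148 (.node 9009225 728 (.node 9009219 649 .tip .tip) .tip) (.node 9009235 1439 (.node 9009233 195 .tip .tip) .tip))
(.node 9179203 399 (.node 9179201 6 (.node 9009243 815 .tip .tip) .tip) (.node 9179211 1155 (.node 9179209 1221 .tip .tip) .tip)))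
(.node 9181257 1316
(.node 9179227 470 (.node 9179225 462 (.node 9179219 543 .tip .tip) .tip) (.node 9181251 277 (.node 9181249 429 .tip .tip) .tip))
(.node 9181267 1302 (.node 9181265 549 (.node 9181259 1139 .tip .tip) .tip) (.node 9181275 476 (.node 9181273 458 .tip .tip) .tip)))))
(.node 9197633 71
(.node 9189457 325
(.node 9187417 1132
(.node 9187403 1045 (.node 9187401 1324 (.node 9187395 1088 .tip .tip) .tip) (.node 9187411 392 (.node 9187409 97 .tip .tip) .tip))
(.node 9189443 1076 (.node 9189441 59 (.node 9187419 1082 .tip .tip) .tip) (.node 9189451 1100 (.node 9189449 1095 .tip .tip) .tip)))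
(.node 9195593 396
(.node 9189467 79 (.node 9189465 1202 (.node 9189459 491 .tip .tip) .tip) (.node 9195587 1104 (.node 9195585 52 .tip .tip) .tip))
(.node 9195603 496 (.node 9195601 1170 (.node 9195595 1067 .tip .tip) .tip) (.node 9195611 520 (.node 9195609 1160 .tip .tip) .tip))))
(.node 9203793 558
(.node 9197657 1191
(.node 9197643 375 (.node 9197641 514 (.node 9197635 1084 .tip .tip) .tip) (.node 9197651 480 (.node 9197649 535 .tip .tip) .tip))
(.node 9203779 1389 (.node 9203777 434 (.node 9197659 504 .tip .tip) .tip) (.node 9203787 270 (.node 9203785 1262 .tip .tip) .tip)))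
(.node 9205833 411
(.node 9203803 441 (.node 9203801 1393 (.node 9203795 288 .tip .tip) .tip) (.node 9205827 1382 (.node 9205825 337 .tip .tip) .tip))
(.node 9205843 84 (.node 9205841 310 (.node 9205835 1290 .tip .tip) .tip) (.node 9205851 1378 (.node 9205849 322 .tip .tip) .tip)))))))
(.node 11030593 864
(.node 9269313 509
(.node 9254977 361
(.node 9246801 1038
(.node 9244761 78
(.node 9244747 1326 (.node 9244745 1101 (.node 9244739 1057 .tip .tip) .tip) (.node 9244755 1109 (.node 9244753 1173 .tip .tip) .tip))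
(.node 9246787 416 (.node 9246785 488 (.node 9244763 1201 .tip .tip) .tip) (.node 9246795 1217 (.node 9246793 1046 .tip .tip) .tip)))
(.node 9252937 1281
(.node 9246811 1182 (.node 9246809 1081 (.node 9246803 1195 .tip .tip) .tip) (.node 9252931 1246 (.node 9252929 364 .tip .tip) .tip))
(.node 9252947 327 (.node 9252945 263 (.node 9252939 1151 .tip .tip) .tip) (.node 9252955 459 (.node 9252953 474 .tip .tip) .tip))))
(.node 9261137 485
(.node 9255001 464
(.node 9254987 1220 (.node 9254985 1211 (.node 9254979 1322 .tip .tip) .tip) (.node 9254995 284 (.node 9254993 312 .tip .tip) .tip))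
(.node 9261123 1135 (.node 9261121 334 (.node 9255003 469 .tip .tip) .tip) (.node 9261131 412 (.node 9261129 1282 .tip .tip) .tip)))
(.node 9263177 271
(.node 9261147 321 (.node 9261145 305 (.node 9261139 404 .tip .tip) .tip) (.node 9263171 356 (.node 9263169 426 .tip .tip) .tip))
(.node 9263187 291 (.node 9263185 1364 (.node 9263179 387 .tip .tip) .tip) (.node 9263195 1376 (.node 9263193 440 .tip .tip) .tip)))))
(.node 11016257 152
(.node 9271377 1034
(.node 9269337 1163
(.node 9269323 1062 (.node 9269321 524 (.node 9269315 1252 .tip .tip) .tip) (.node 9269331 43 (.node 9269329 566 .tip .tip) .tip))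
(.node 9271363 1339 (.node 9271361 531 (.node 9269339 1189 .tip .tip) .tip) (.node 9271371 395 (.node 9271369 369 .tip .tip) .tip)))
(.node 11014217 934
(.node 9271387 1187 (.node 9271385 1162 (.node 9271379 64 .tip .tip) .tip) (.node 11014211 146 (.node 11014209 927 .tip .tip) .tip))
(.node 11014227 806 (.node 11014225 240 (.node 11014219 724 .tip .tip) .tip) (.node 11014235 197 (.node 11014233 879 .tip .tip) .tip))))
(.node 11022417 699
(.node 11016281 204
(.node 11016267 817 (.node 11016265 744 (.node 11016259 933 .tip .tip) .tip) (.node 11016275 1401 (.node 11016273 854 .tip .tip) .tip))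
(.node 11022403 761 (.node 11022401 794 (.node 11016283 938 .tip .tip) .tip) (.node 11022411 832 (.node 11022409 712 .tip .tip) .tip)))
(.node 11024457 862
(.node 11022427 642 (.node 11022425 608 (.node 11022419 579 .tip .tip) .tip) (.node 11024451 765 (.node 11024449 784 .tip .tip) .tip))
(.node 11024467 674 (.node 11024465 625 (.node 11024459 617 .tip .tip) .tip) (.node 11024475 707 (.node 11024473 29 .tip .tip) .tip))))))
(.node 11087937 1444
(.node 11040833 981
(.node 11032657 638
(.node 11030617 226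
(.node 11030603 164 (.node 11030601 749 (.node 11030595 713 .tip .tip) .tip) (.node 11030611 931 (.node 11030609 634 .tip .tip) .tip))
(.node 11032643 857 (.node 11032641 718 (.node 11030619 662 .tip .tip) .tip) (.node 11032651 597 (.node 11032649 783 .tip .tip) .tip)))
(.node 11038793 142
(.node 11032667 694 (.node 11032665 217 (.node 11032659 1415 .tip .tip) .tip) (.node 11038787 971 (.node 11038785 1472 .tip .tip) .tip))
(.node 11038803 942 (.node 11038801 116 (.node 11038795 825 .tip .tip) .tip) (.node 11038811 1021 (.node 11038809 187 .tip .tip) .tip))))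
(.node 11079761 1009
(.node 11040857 965
(.node 11040843 777 (.node 11040841 820 (.node 11040835 993 .tip .tip) .tip) (.node 11040851 1398 (.node 11040849 167 .tip .tip) .tip))
(.node 11079747 19 (.node 11079745 780 (.node 11040859 129 .tip .tip) .tip) (.node 11079755 622 (.node 11079753 840 .tip .tip) .tip)))
(.node 11081801 722
(.node 11079771 704 (.node 11079769 899 (.node 11079763 1012 .tip .tip) .tip) (.node 11081795 790 (.node 11081793 612 .tip .tip) .tip))
(.node 11081811 1017 (.node 11081809 1008 (.node 11081803 585 .tip .tip) .tip) (.node 11081819 630 (.node 11081817 892 .tip .tip) .tip)))))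
(.node 11098177 1441
(.node 11090001 935
(.node 11087961 196
(.node 11087947 1450 (.node 11087945 851 (.node 11087939 149 .tip .tip) .tip) (.node 11087955 241 (.node 11087953 738 .tip .tip) .tip))
(.node 11089987 154 (.node 11089985 1435 (.node 11087963 659 .tip .tip) .tip) (.node 11089995 1412 (.node 11089993 810 .tip .tip) .tip)))
(.node 11096137 173
(.node 11090011 255 (.node 11090009 200 (.node 11090003 696 .tip .tip) .tip) (.node 11096131 135 (.node 11096129 1451 .tip .tip) .tip))
(.node 11096147 1463 (.node 11096145 944 (.node 11096139 822 .tip .tip) .tip) (.node 11096155 122 (.node 11096153 246 .tip .tip) .tip))))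
(.node 11104337 631
(.node 11098201 962
(.node 11098187 109 (.node 11098185 159 (.node 11098179 182 .tip .tip) .tip) (.node 11098195 909 (.node 11098193 925 .tip .tip) .tip))
(.node 11104323 221 (.node 11104321 1489 (.node 11098203 1027 .tip .tip) .tip) (.node 11104331 1414 (.node 11104329 594 .tip .tip) .tip)))
(.node 11106377 813
(.node 11104347 665 (.node 11104345 874 (.node 11104339 834 .tip .tip) .tip) (.node 11106371 233 (.node 11106369 856 .tip .tip) .tip))
(.node 11106387 636 (.node 11106385 212 (.node 11106379 600 .tip .tip) .tip) (.node 11106395 690 (.node 11106393 871 .tip .tip) .tip))))))))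
(.node 17109057 4
(.node 11358273 266
(.node 11300929 1154
(.node 11286593 382
(.node 11278417 323
(.node 11276377 1361
(.node 11276363 433 (.node 11276361 1380 (.node 11276355 351 .tip .tip) .tip) (.node 11276371 442 (.node 11276369 1377 .tip .tip) .tip))
(.node 11278403 410 (.node 11278401 1134 (.node 11276379 289 .tip .tip) .tip) (.node 11278411 336 (.node 11278409 1381 .tip .tip) .tip)))
(.node 11284553 1208
(.node 11278427 402 (.node 11278425 1358 (.node 11278419 1379 .tip .tip) .tip) (.node 11284547 1249 (.node 11284545 397 .tip .tip) .tip))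
(.node 11284563 73 (.node 11284561 551 (.node 11284555 1216 .tip .tip) .tip) (.node 11284571 1121 (.node 11284569 495 .tip .tip) .tip))))
(.node 11292753 1133
(.node 11286617 1119
(.node 11286603 1213 (.node 11286601 527 (.node 11286595 1287 .tip .tip) .tip) (.node 11286611 505 (.node 11286609 49 .tip .tip) .tip))
(.node 11292739 489 (.node 11292737 339 (.node 11286619 473 .tip .tip) .tip) (.node 11292747 1263 (.node 11292745 1087 .tip .tip) .tip)))
(.node 11294793 1075
(.node 11292763 96 (.node 11292761 1036 (.node 11292755 1083 .tip .tip) .tip) (.node 11294787 1060 (.node 11294785 393 .tip .tip) .tip))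
(.node 11294803 80 (.node 11294801 1203 (.node 11294795 58 .tip .tip) .tip) (.node 11294811 1107 (.node 11294809 1171 .tip .tip) .tip)))))
(.node 11343937 1097
(.node 11302993 331
(.node 11300953 1309
(.node 11300939 378 (.node 11300937 359 (.node 11300931 1369 .tip .tip) .tip) (.node 11300947 275 (.node 11300945 317 .tip .tip) .tip))
(.node 11302979 1244 (.node 11302977 1138 (.node 11300955 544 .tip .tip) .tip) (.node 11302987 372 (.node 11302985 363 .tip .tip) .tip)))
(.node 11341897 532
(.node 11303003 548 (.node 11303001 1188 (.node 11302995 9 .tip .tip) .tip) (.node 11341891 1078 (.node 11341889 40 .tip .tip) .tip))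
(.node 11341907 1161 (.node 11341905 1186 (.node 11341899 1209 .tip .tip) .tip) (.node 11341915 494 (.node 11341913 468 .tip .tip) .tip))))
(.node 11350097 560
(.node 11343961 1128
(.node 11343947 1212 (.node 11343945 510 (.node 11343939 66 .tip .tip) .tip) (.node 11343955 1345 (.node 11343953 539 .tip .tip) .tip))
(.node 11350083 388 (.node 11350081 272 (.node 11343963 1118 .tip .tip) .tip) (.node 11350091 425 (.node 11350089 432 .tip .tip) .tip)))
(.node 11352137 335
(.node 11350107 1359 (.node 11350105 290 (.node 11350099 439 .tip .tip) .tip) (.node 11352131 413 (.node 11352129 1271 .tip .tip) .tip))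
(.node 11352147 555 (.node 11352145 306 (.node 11352139 1388 .tip .tip) .tip) (.node 11352155 484 (.node 11352153 403 .tip .tip) .tip))))))
(.node 17051713 1273
(.node 11368513 1102
(.node 11360337 1156
(.node 11358297 1145
(.node 11358283 360 (.node 11358281 376 (.node 11358275 436 .tip .tip) .tip) (.node 11358291 463 (.node 11358289 563 .tip .tip) .tip))
(.node 11360323 407 (.node 11360321 282 (.node 11358299 542 .tip .tip) .tip) (.node 11360331 370 (.node 11360329 365 .tip .tip) .tip)))
(.node 11366473 1179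
(.node 11360347 1238 (.node 11360345 546 (.node 11360339 460 .tip .tip) .tip) (.node 11366467 1218 (.node 11366465 1047 .tip .tip) .tip))
(.node 11366483 295 (.node 11366481 102 (.node 11366475 1086 .tip .tip) .tip) (.node 11366491 1037 (.node 11366489 1194 .tip .tip) .tip))))
(.node 17043537 1525
(.node 11368537 1108
(.node 11368523 1268 (.node 11368521 57 (.node 11368515 1327 .tip .tip) .tip) (.node 11368531 77 (.node 11368529 1167 .tip .tip) .tip))
(.node 17043523 483 (.node 17043521 0 (.node 11368539 1172 .tip .tip) .tip) (.node 17043531 512 (.node 17043529 344 .tip .tip) .tip)))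
(.node 17045577 472
(.node 17043547 1523 (.node 17043545 466 (.node 17043539 1529 .tip .tip) .tip) (.node 17045571 48 (.node 17045569 1040 .tip .tip) .tip))
(.node 17045587 381 (.node 17045585 538 (.node 17045579 1531 .tip .tip) .tip) (.node 17045595 451 (.node 17045593 1526 .tip .tip) .tip)))))
(.node 17061953 8
(.node 17053777 315
(.node 17051737 506
(.node 17051723 1336 (.node 17051721 1363 (.node 17051715 1368 .tip .tip) .tip) (.node 17051731 61 (.node 17051729 269 .tip .tip) .tip))
(.node 17053763 1391 (.node 17053761 1269 (.node 17051739 523 .tip .tip) .tip) (.node 17053771 1357 (.node 17053769 1341 .tip .tip) .tip)))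
(.node 17059913 1206
(.node 17053787 534 (.node 17053785 498 (.node 17053779 409 .tip .tip) .tip) (.node 17059907 316 (.node 17059905 264 .tip .tip) .tip))
(.node 17059923 1158 (.node 17059921 1056 (.node 17059915 1323 .tip .tip) .tip) (.node 17059931 92 (.node 17059929 1064 .tip .tip) .tip))))
(.node 17068113 100
(.node 17061977 1183
(.node 17061963 1090 (.node 17061961 1065 (.node 17061955 330 .tip .tip) .tip) (.node 17061971 1129 (.node 17061969 1178 .tip .tip) .tip))
(.node 17068099 1371 (.node 17068097 574 (.node 17061979 1279 .tip .tip) .tip) (.node 17068107 1235 (.node 17068105 1230 .tip .tip) .tip)))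
(.node 17070153 1241
(.node 17068123 1319 (.node 17068121 1346 (.node 17068115 293 .tip .tip) .tip) (.node 17070147 1386 (.node 17070145 541 .tip .tip) .tip))
(.node 17070163 69 (.node 17070161 1059 (.node 17070155 1224 .tip .tip) .tip) (.node 17070171 1351 (.node 17070169 1293 .tip .tip) .tip)))))))
(.node 17584193 644
(.node 17133633 507
(.node 17119297 1304
(.node 17111121 1159
(.node 17109081 1198
(.node 17109067 1052 (.node 17109065 1141 (.node 17109059 311 .tip .tip) .tip) (.node 17109075 1301 (.node 17109073 1207 .tip .tip) .tip))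
(.node 17111107 262 (.node 17111105 326 (.node 17109083 1123 .tip .tip) .tip) (.node 17111115 1126 (.node 17111113 1328 .tip .tip) .tip)))
(.node 17117257 1334
(.node 17111131 1239 (.node 17111129 1114 (.node 17111123 1070 .tip .tip) .tip) (.node 17117251 1390 (.node 17117249 1320 .tip .tip) .tip))
(.node 17117267 390 (.node 17117265 415 (.node 17117259 1308 .tip .tip) .tip) (.node 17117275 568 (.node 17117273 517 .tip .tip) .tip))))
(.node 17125457 350
(.node 17119321 1148
(.node 17119307 1312 (.node 17119305 1337 (.node 17119299 1372 .tip .tip) .tip) (.node 17119315 99 (.node 17119313 55 .tip .tip) .tip))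
(.node 17125443 493 (.node 17125441 50 (.node 17119323 1137 .tip .tip) .tip) (.node 17125451 1524 (.node 17125449 1530 .tip .tip) .tip)))
(.node 17127497 419
(.node 17125467 368 (.node 17125465 301 (.node 17125459 537 .tip .tip) .tip) (.node 17127491 565 (.node 17127489 42 .tip .tip) .tip))
(.node 17127507 478 (.node 17127505 1522 (.node 17127499 373 .tip .tip) .tip) (.node 17127515 1375 (.node 17127513 1385 .tip .tip) .tip)))))
(.node 17569857 174
(.node 17135697 308
(.node 17133657 1285
(.node 17133643 1240 (.node 17133641 1261 (.node 17133635 1370 .tip .tip) .tip) (.node 17133651 280 (.node 17133649 355 .tip .tip) .tip))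
(.node 17135683 1394 (.node 17135681 503 (.node 17133659 1276 .tip .tip) .tip) (.node 17135691 1289 (.node 17135689 1255 .tip .tip) .tip)))
(.node 17567817 1498
(.node 17135707 1295 (.node 17135705 1266 (.node 17135699 82 .tip .tip) .tip) (.node 17567811 36 (.node 17567809 755 .tip .tip) .tip))
(.node 17567827 1491 (.node 17567825 968 (.node 17567819 1000 .tip .tip) .tip) (.node 17567835 910 (.node 17567833 941 .tip .tip) .tip))))
(.node 17576017 131
(.node 17569881 1460
(.node 17569867 973 (.node 17569865 1499 (.node 17569859 208 .tip .tip) .tip) (.node 17569875 1005 (.node 17569873 960 .tip .tip) .tip))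
(.node 17576003 601 (.node 17576001 746 (.node 17569883 1464 .tip .tip) .tip) (.node 17576011 776 (.node 17576009 656 .tip .tip) .tip)))
(.node 17578057 1521
(.node 17576027 637 (.node 17576025 1518 (.node 17576019 105 .tip .tip) .tip) (.node 17578051 797 (.node 17578049 845 .tip .tip) .tip))
(.node 17578067 124 (.node 17578065 114 (.node 17578059 716 .tip .tip) .tip) (.node 17578075 786 (.node 17578073 650 .tip .tip) .tip))))))
(.node 17641537 1445
(.node 17594433 1465
(.node 17586257 900
(.node 17584217 994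
(.node 17584203 791 (.node 17584201 764 (.node 17584195 252 .tip .tip) .tip) (.node 17584211 1025 (.node 17584209 903 .tip .tip) .tip))
(.node 17586243 193 (.node 17586241 144 (.node 17584219 1470 .tip .tip) .tip) (.node 17586251 771 (.node 17586249 781 .tip .tip) .tip)))
(.node 17592393 1424
(.node 17586267 1013 (.node 17586265 1473 (.node 17586259 1476 .tip .tip) .tip) (.node 17592387 1413 (.node 17592385 1490 .tip .tip) .tip))
(.node 17592403 256 (.node 17592401 14 (.node 17592395 1461 .tip .tip) .tip) (.node 17592411 1417 (.node 17592409 1400 .tip .tip) .tip))))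
(.node 17633361 1007
(.node 17594457 1469
(.node 17594443 150 (.node 17594441 1457 (.node 17594435 236 .tip .tip) .tip) (.node 17594451 577 (.node 17594449 22 .tip .tip) .tip))
(.node 17633347 21 (.node 17633345 828 (.node 17594459 1428 .tip .tip) .tip) (.node 17633355 1500 (.node 17633353 1475 .tip .tip) .tip)))
(.node 17635401 1467
(.node 17633371 902 (.node 17633369 913 (.node 17633363 1496 .tip .tip) .tip) (.node 17635395 643 (.node 17635393 250 .tip .tip) .tip))
(.node 17635411 1018 (.node 17635409 1030 (.node 17635403 1501 .tip .tip) .tip) (.node 17635419 896 (.node 17635417 921 .tip .tip) .tip)))))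
(.node 17651777 592
(.node 17643601 581
(.node 17641561 1427
(.node 17641547 1509 (.node 17641545 1409 (.node 17641539 1431 .tip .tip) .tip) (.node 17641555 243 (.node 17641553 26 .tip .tip) .tip))
(.node 17643587 156 (.node 17643585 1420 (.node 17641563 222 .tip .tip) .tip) (.node 17643595 230 (.node 17643593 1426 .tip .tip) .tip)))
(.node 17649737 950
(.node 17643611 1497 (.node 17643609 202 (.node 17643603 16 .tip .tip) .tip) (.node 17649731 137 (.node 17649729 209 .tip .tip) .tip))
(.node 17649747 1483 (.node 17649745 946 (.node 17649739 823 .tip .tip) .tip) (.node 17649755 969 (.node 17649753 982 .tip .tip) .tip))))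
(.node 17657937 110
(.node 17651801 954
(.node 17651787 978 (.node 17651785 789 (.node 17651779 161 .tip .tip) .tip) (.node 17651795 1002 (.node 17651793 926 .tip .tip) .tip))
(.node 17657923 660 (.node 17657921 923 (.node 17651803 996 .tip .tip) .tip) (.node 17657931 887 (.node 17657929 596 .tip .tip) .tip)))
(.node 17659977 906
(.node 17657947 975 (.node 17657945 787 (.node 17657939 126 .tip .tip) .tip) (.node 17659971 721 (.node 17659969 1520 .tip .tip) .tip))
(.node 17659987 133 (.node 17659985 2 (.node 17659979 774 .tip .tip) .tip) (.node 17659995 692 (.node 17659993 734 .tip .tip) .tip)))))))))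
(.node 25694273 44
(.node 19730497 165
(.node 19222593 309
(.node 19165249 1157
(.node 19150913 380
(.node 19142737 1270
(.node 19140697 1355
(.node 19140683 1254 (.node 19140681 1234 (.node 19140675 1136 .tip .tip) .tip) (.node 19140691 1342 (.node 19140689 1274 .tip .tip) .tip))
(.node 19142723 320 (.node 19142721 353 (.node 19140699 1298 .tip .tip) .tip) (.node 19142731 1365 (.node 19142729 1362 .tip .tip) .tip)))
(.node 19148873 467
(.node 19142747 1278 (.node 19142745 1356 (.node 19142739 1303 .tip .tip) .tip) (.node 19148867 1533 (.node 19148865 454 .tip .tip) .tip))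
(.node 19148883 72 (.node 19148881 39 (.node 19148875 422 .tip .tip) .tip) (.node 19148891 1387 (.node 19148889 511 .tip .tip) .tip))))
(.node 19157073 1227
(.node 19150937 1374
(.node 19150923 1528 (.node 19150921 526 (.node 19150915 1527 .tip .tip) .tip) (.node 19150931 65 (.node 19150929 47 .tip .tip) .tip))
(.node 19157059 294 (.node 19157057 101 (.node 19150939 298 .tip .tip) .tip) (.node 19157067 1338 (.node 19157065 1311 .tip .tip) .tip)))
(.node 19159113 1332
(.node 19157083 528 (.node 19157081 1144 (.node 19157075 1373 .tip .tip) .tip) (.node 19159107 406 (.node 19159105 76 .tip .tip) .tip))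
(.node 19159123 1317 (.node 19159121 1229 (.node 19159115 1292 .tip .tip) .tip) (.node 19159131 1153 (.node 19159129 571 .tip .tip) .tip)))))
(.node 19208257 487
(.node 19167313 281
(.node 19165273 1383
(.node 19165259 1063 (.node 19165257 1149 (.node 19165251 1185 .tip .tip) .tip) (.node 19165267 274 (.node 19165265 265 .tip .tip) .tip))
(.node 19167299 1130 (.node 19167297 95 (.node 19165275 1112 .tip .tip) .tip) (.node 19167307 1343 (.node 19167305 1053 .tip .tip) .tip)))
(.node 19206217 1228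
(.node 19167323 1142 (.node 19167321 1066 (.node 19167315 7 .tip .tip) .tip) (.node 19206211 490 (.node 19206209 46 .tip .tip) .tip))
(.node 19206227 1333 (.node 19206225 1305 (.node 19206219 1237 .tip .tip) .tip) (.node 19206235 1347 (.node 19206233 1352 .tip .tip) .tip))))
(.node 19214417 261
(.node 19208281 1348
(.node 19208267 1243 (.node 19208265 1223 (.node 19208259 391 .tip .tip) .tip) (.node 19208275 1314 (.node 19208273 1321 .tip .tip) .tip))
(.node 19214403 1245 (.node 19214401 1069 (.node 19208283 1350 .tip .tip) .tip) (.node 19214411 1150 (.node 19214409 1280 .tip .tip) .tip)))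
(.node 19216457 1092
(.node 19214427 1215 (.node 19214425 89 (.node 19214419 276 .tip .tip) .tip) (.node 19216451 1331 (.node 19216449 1116 .tip .tip) .tip))
(.node 19216467 283 (.node 19216465 5 (.node 19216459 1124 .tip .tip) .tip) (.node 19216475 1140 (.node 19216473 1231 .tip .tip) .tip))))))
(.node 19673153 1505
(.node 19232833 536
(.node 19224657 1258
(.node 19222617 508
(.node 19222603 1265 (.node 19222601 1294 (.node 19222595 83 .tip .tip) .tip) (.node 19222611 1300 (.node 19222609 1248 .tip .tip) .tip))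
(.node 19224643 354 (.node 19224641 287 (.node 19222619 519 .tip .tip) .tip) (.node 19224651 1284 (.node 19224649 1275 .tip .tip) .tip)))
(.node 19230793 1534
(.node 19224667 500 (.node 19224665 530 (.node 19224659 1360 .tip .tip) .tip) (.node 19230787 479 (.node 19230785 304 .tip .tip) .tip))
(.node 19230803 41 (.node 19230801 70 (.node 19230795 347 .tip .tip) .tip) (.node 19230811 374 (.node 19230809 513 .tip .tip) .tip))))
(.node 19664977 1456
(.node 19232857 448
(.node 19232843 525 (.node 19232841 367 (.node 19232835 1384 .tip .tip) .tip) (.node 19232851 63 (.node 19232849 51 .tip .tip) .tip))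
(.node 19664963 13 (.node 19664961 605 (.node 19232859 1535 .tip .tip) .tip) (.node 19664971 1449 (.node 19664969 1416 .tip .tip) .tip)))
(.node 19667017 1462
(.node 19664987 199 (.node 19664985 1425 (.node 19664979 1477 .tip .tip) .tip) (.node 19667011 619 (.node 19667009 23 .tip .tip) .tip))
(.node 19667027 237 (.node 19667025 1433 (.node 19667019 1411 .tip .tip) .tip) (.node 19667035 1418 (.node 19667033 1488 .tip .tip) .tip)))))
(.node 19683393 170
(.node 19675217 247
(.node 19673177 897
(.node 19673163 1471 (.node 19673161 995 (.node 19673155 770 .tip .tip) .tip) (.node 19673171 253 (.node 19673169 645 .tip .tip) .tip))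
(.node 19675203 767 (.node 19675201 1515 (.node 19673179 918 .tip .tip) .tip) (.node 19675211 1028 (.node 19675209 1474 .tip .tip) .tip)))
(.node 19681353 843
(.node 19675227 904 (.node 19675225 911 (.node 19675219 143 .tip .tip) .tip) (.node 19681347 106 (.node 19681345 184 .tip .tip) .tip))
(.node 19681363 745 (.node 19681361 836 (.node 19681355 974 .tip .tip) .tip) (.node 19681371 655 (.node 19681369 689 .tip .tip) .tip))))
(.node 19689553 118
(.node 19683417 1519
(.node 19683403 598 (.node 19683401 651 (.node 19683395 113 .tip .tip) .tip) (.node 19683411 798 (.node 19683409 640 .tip .tip) .tip))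
(.node 19689539 967 (.node 19689537 1507 (.node 19683419 873 .tip .tip) .tip) (.node 19689547 990 (.node 19689545 1423 .tip .tip) .tip)))
(.node 19691593 821
(.node 19689563 1482 (.node 19689561 1494 (.node 19689555 37 .tip .tip) .tip) (.node 19691587 959 (.node 19691585 1513 .tip .tip) .tip))
(.node 19691603 669 (.node 19691601 169 (.node 19691595 779 .tip .tip) .tip) (.node 19691611 1481 (.node 19691609 1492 .tip .tip) .tip)))))))
(.node 25448513 211
(.node 19755073 1514
(.node 19740737 1510
(.node 19732561 799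
(.node 19730521 635
(.node 19730507 733 (.node 19730505 865 (.node 19730499 1 .tip .tip) .tip) (.node 19730515 1003 (.node 19730513 875 .tip .tip) .tip))
(.node 19732547 180 (.node 19732545 111 (.node 19730523 775 .tip .tip) .tip) (.node 19732555 915 (.node 19732553 719 .tip .tip) .tip)))
(.node 19738697 955
(.node 19732571 1517 (.node 19732569 739 (.node 19732563 661 .tip .tip) .tip) (.node 19738691 826 (.node 19738689 1506 .tip .tip) .tip))
(.node 19738707 591 (.node 19738705 160 (.node 19738699 997 .tip .tip) .tip) (.node 19738715 943 (.node 19738713 987 .tip .tip) .tip))))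
(.node 19746897 1440
(.node 19740761 917
(.node 19740747 970 (.node 19740745 983 (.node 19740739 802 .tip .tip) .tip) (.node 19740755 130 (.node 19740753 210 .tip .tip) .tip))
(.node 19746883 17 (.node 19746881 623 (.node 19740763 949 .tip .tip) .tip) (.node 19746891 1443 (.node 19746889 1468 .tip .tip) .tip)))
(.node 19748937 153
(.node 19746907 1399 (.node 19746905 229 (.node 19746899 1419 .tip .tip) .tip) (.node 19748931 25 (.node 19748929 610 .tip .tip) .tip))
(.node 19748947 1432 (.node 19748945 205 (.node 19748939 223 .tip .tip) .tip) (.node 19748955 1484 (.node 19748953 1455 .tip .tip) .tip)))))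
(.node 25434177 682
(.node 19757137 30
(.node 19755097 1010
(.node 19755083 762 (.node 19755081 795 (.node 19755075 1029 .tip .tip) .tip) (.node 19755091 249 (.node 19755089 609 .tip .tip) .tip))
(.node 19757123 1006 (.node 19757121 1503 (.node 19755099 1502 .tip .tip) .tip) (.node 19757131 769 (.node 19757129 785 .tip .tip) .tip)))
(.node 25432137 587
(.node 19757147 1493 (.node 19757145 1016 (.node 19757139 123 .tip .tip) .tip) (.node 25432131 31 (.node 25432129 641 .tip .tip) .tip))
(.node 25432147 711 (.node 25432145 831 (.node 25432139 868 .tip .tip) .tip) (.node 25432155 702 (.node 25432153 1508 .tip .tip) .tip))))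
(.node 25440337 611
(.node 25434201 890
(.node 25434187 841 (.node 25434185 676 (.node 25434179 932 .tip .tip) .tip) (.node 25434195 861 (.node 25434193 616 .tip .tip) .tip))
(.node 25440323 878 (.node 25440321 1504 (.node 25434203 628 .tip .tip) .tip) (.node 25440331 849 (.node 25440329 805 .tip .tip) .tip)))
(.node 25442377 808
(.node 25440347 224 (.node 25440345 257 (.node 25440339 576 .tip .tip) .tip) (.node 25442371 881 (.node 25442369 937 .tip .tip) .tip))
(.node 25442387 18 (.node 25442385 624 (.node 25442379 853 .tip .tip) .tip) (.node 25442395 654 (.node 25442393 648 .tip .tip) .tip))))))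
(.node 25505857 1459
(.node 25458753 1031
(.node 25450577 1422
(.node 25448537 244
(.node 25448523 1436 (.node 25448521 1406 (.node 25448515 671 .tip .tip) .tip) (.node 25448531 141 (.node 25448529 1454 .tip .tip) .tip))
(.node 25450563 188 (.node 25450561 754 (.node 25448539 120 .tip .tip) .tip) (.node 25450571 175 (.node 25450569 157 .tip .tip) .tip)))
(.node 25456713 740
(.node 25450587 980 (.node 25450585 956 (.node 25450579 1397 .tip .tip) .tip) (.node 25456707 219 (.node 25456705 924 .tip .tip) .tip))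
(.node 25456723 181 (.node 25456721 112 (.node 25456715 905 .tip .tip) .tip) (.node 25456731 976 (.node 25456729 788 .tip .tip) .tip))))
(.node 25497681 859
(.node 25458777 893
(.node 25458763 759 (.node 25458761 991 (.node 25458755 216 .tip .tip) .tip) (.node 25458771 134 (.node 25458769 166 .tip .tip) .tip))
(.node 25497667 3 (.node 25497665 930 (.node 25458779 883 .tip .tip) .tip) (.node 25497675 735 (.node 25497673 758 .tip .tip) .tip)))
(.node 25499721 1014
(.node 25497691 894 (.node 25497689 793 (.node 25497683 1434 .tip .tip) .tip) (.node 25499715 901 (.node 25499713 127 .tip .tip) .tip))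
(.node 25499731 1004 (.node 25499729 800 (.node 25499723 916 .tip .tip) .tip) (.node 25499739 1024 (.node 25499737 773 .tip .tip) .tip)))))
(.node 25516097 705
(.node 25507921 842
(.node 25505881 988
(.node 25505867 1446 (.node 25505865 176 (.node 25505859 191 .tip .tip) .tip) (.node 25505875 593 (.node 25505873 162 .tip .tip) .tip))
(.node 25507907 1405 (.node 25507905 1487 (.node 25505883 966 .tip .tip) .tip) (.node 25507915 1407 (.node 25507913 1437 .tip .tip) .tip)))
(.node 25514057 855
(.node 25507931 951 (.node 25507929 119 (.node 25507923 138 .tip .tip) .tip) (.node 25514051 582 (.node 25514049 680 .tip .tip) .tip))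
(.node 25514067 727 (.node 25514065 1430 (.node 25514059 807 .tip .tip) .tip) (.node 25514075 652 (.node 25514073 231 .tip .tip) .tip))))
(.node 25522257 603
(.node 25516121 657
(.node 25516107 847 (.node 25516105 803 (.node 25516099 27 .tip .tip) .tip) (.node 25516115 730 (.node 25516113 818 .tip .tip) .tip))
(.node 25522243 947 (.node 25522241 685 (.node 25516123 258 .tip .tip) .tip) (.node 25522251 677 (.node 25522249 750 .tip .tip) .tip)))
(.node 25524297 869
(.node 25522267 1511 (.node 25522265 627 (.node 25522259 251 .tip .tip) .tip) (.node 25524291 34 (.node 25524289 667 .tip .tip) .tip))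
(.node 25524307 708 (.node 25524305 179 (.node 25524299 588 .tip .tip) .tip) (.node 25524315 695 (.node 25524313 701 .tip .tip) .tip))))))))
(.node 27594817 206
(.node 25776193 561
(.node 25718849 302
(.node 25704513 377
(.node 25696337 1306
(.node 25694297 1181
(.node 25694283 1226 (.node 25694281 1103 (.node 25694275 1143 .tip .tip) .tip) (.node 25694291 1310 (.node 25694289 1307 .tip .tip) .tip))
(.node 25696323 570 (.node 25696321 1152 (.node 25694299 1042 .tip .tip) .tip) (.node 25696331 1219 (.node 25696329 1048 .tip .tip) .tip)))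
(.node 25702473 1074
(.node 25696347 75 (.node 25696345 1117 (.node 25696339 1313 .tip .tip) .tip) (.node 25702467 1532 (.node 25702465 366 .tip .tip) .tip))
(.node 25702483 1176 (.node 25702481 547 (.node 25702475 559 .tip .tip) .tip) (.node 25702491 461 (.node 25702489 87 .tip .tip) .tip))))
(.node 25710673 1247
(.node 25704537 564
(.node 25704523 1204 (.node 25704521 428 (.node 25704515 1192 .tip .tip) .tip) (.node 25704531 556 (.node 25704529 357 .tip .tip) .tip))
(.node 25710659 1354 (.node 25710657 328 (.node 25704539 94 .tip .tip) .tip) (.node 25710667 414 (.node 25710665 1318 .tip .tip) .tip)))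
(.node 25712713 273
(.node 25710683 11 (.node 25710681 307 (.node 25710675 1233 .tip .tip) .tip) (.node 25712707 1392 (.node 25712705 285 .tip .tip) .tip))
(.node 25712723 1367 (.node 25712721 1256 (.node 25712715 389 .tip .tip) .tip) (.node 25712731 499 (.node 25712729 319 .tip .tip) .tip)))))
(.node 25761857 552
(.node 25720913 1125
(.node 25718873 1164
(.node 25718859 345 (.node 25718857 394 (.node 25718851 553 .tip .tip) .tip) (.node 25718867 1096 (.node 25718865 421 .tip .tip) .tip))
(.node 25720899 1340 (.node 25720897 297 (.node 25718875 453 .tip .tip) .tip) (.node 25720907 341 (.node 25720905 1068 .tip .tip) .tip)))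
(.node 25759817 342
(.node 25720923 1344 (.node 25720921 446 (.node 25720915 385 .tip .tip) .tip) (.node 25759811 481 (.node 25759809 103 .tip .tip) .tip))
(.node 25759827 418 (.node 25759825 384 (.node 25759819 1210 .tip .tip) .tip) (.node 25759835 445 (.node 25759833 1250 .tip .tip) .tip))))
(.node 25768017 267
(.node 25761881 492
(.node 25761867 349 (.node 25761865 1253 (.node 25761859 300 .tip .tip) .tip) (.node 25761875 423 (.node 25761873 1190 .tip .tip) .tip))
(.node 25768003 1349 (.node 25768001 1277 (.node 25761883 449 .tip .tip) .tip) (.node 25768011 333 (.node 25768009 401 .tip .tip) .tip)))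
(.node 25770057 279
(.node 25768027 502 (.node 25768025 292 (.node 25768019 437 .tip .tip) .tip) (.node 25770051 1283 (.node 25770049 1291 .tip .tip) .tip))
(.node 25770067 408 (.node 25770065 313 (.node 25770059 431 .tip .tip) .tip) (.node 25770075 486 (.node 25770073 405 .tip .tip) .tip))))))
(.node 27537473 1512
(.node 25786433 540
(.node 25778257 1051
(.node 25776217 1146
(.node 25776203 362 (.node 25776201 1094 (.node 25776195 1113 .tip .tip) .tip) (.node 25776211 465 (.node 25776209 1054 .tip .tip) .tip))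
(.node 25778243 1197 (.node 25778241 456 (.node 25776219 90 .tip .tip) .tip) (.node 25778251 371 (.node 25778249 1071 .tip .tip) .tip)))
(.node 25784393 1106
(.node 25778267 86 (.node 25778265 575 (.node 25778259 475 .tip .tip) .tip) (.node 25784387 1147 (.node 25784385 572 .tip .tip) .tip))
(.node 25784403 1079 (.node 25784401 1043 (.node 25784395 54 .tip .tip) .tip) (.node 25784411 1039 (.node 25784409 1196 .tip .tip) .tip))))
(.node 27529297 848
(.node 25786457 1110
(.node 25786443 1033 (.node 25786441 1058 (.node 25786435 516 .tip .tip) .tip) (.node 25786451 67 (.node 25786449 1098 .tip .tip) .tip))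
(.node 27529283 15 (.node 27529281 673 (.node 25786459 1174 .tip .tip) .tip) (.node 27529291 729 (.node 27529289 737 .tip .tip) .tip)))
(.node 27531337 743
(.node 27529307 888 (.node 27529305 877 (.node 27529299 804 .tip .tip) .tip) (.node 27531331 698 (.node 27531329 578 .tip .tip) .tip))
(.node 27531347 1478 (.node 27531345 809 (.node 27531339 725 .tip .tip) .tip) (.node 27531355 882 (.node 27531353 884 .tip .tip) .tip)))))
(.node 27547713 1019
(.node 27539537 248
(.node 27537497 958
(.node 27537483 830 (.node 27537481 710 (.node 27537475 703 .tip .tip) .tip) (.node 27537491 586 (.node 27537489 814 .tip .tip) .tip))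
(.node 27539523 629 (.node 27539521 891 (.node 27537499 32 .tip .tip) .tip) (.node 27539531 615 (.node 27539529 860 .tip .tip) .tip)))
(.node 27545673 768
(.node 27539547 837 (.node 27539545 683 (.node 27539539 145 .tip .tip) .tip) (.node 27545667 132 (.node 27545665 939 .tip .tip) .tip))
(.node 27545683 747 (.node 27545681 796 (.node 27545675 914 .tip .tip) .tip) (.node 27545691 220 (.node 27545689 225 .tip .tip) .tip))))
(.node 27553873 618
(.node 27547737 215
(.node 27547723 850 (.node 27547721 782 (.node 27547715 115 .tip .tip) .tip) (.node 27547731 760 (.node 27547729 919 .tip .tip) .tip))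
(.node 27553859 121 (.node 27553857 245 (.node 27547739 232 .tip .tip) .tip) (.node 27553867 1453 (.node 27553865 140 .tip .tip) .tip)))
(.node 27555913 1396
(.node 27553883 1403 (.node 27553881 1402 (.node 27553875 756 .tip .tip) .tip) (.node 27555907 961 (.node 27555905 979 .tip .tip) .tip))
(.node 27555923 670 (.node 27555921 158 (.node 27555915 1421 .tip .tip) .tip) (.node 27555931 189 (.node 27555929 1485 .tip .tip) .tip)))))))
(.node 27807809 1041
(.node 27619393 928
(.node 27605057 1495
(.node 27596881 177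
(.node 27594841 1404
(.node 27594827 139 (.node 27594825 1452 (.node 27594819 38 .tip .tip) .tip) (.node 27594835 1408 (.node 27594833 1438 .tip .tip) .tip))
(.node 27596867 753 (.node 27596865 687 (.node 27594843 1486 .tip .tip) .tip) (.node 27596875 1395 (.node 27596873 1442 .tip .tip) .tip)))
(.node 27603017 852
(.node 27596891 1458 (.node 27596889 190 (.node 27596883 1447 .tip .tip) .tip) (.node 27603011 772 (.node 27603009 922 .tip .tip) .tip))
(.node 27603027 107 (.node 27603025 185 (.node 27603019 907 .tip .tip) .tip) (.node 27603035 218 (.node 27603033 227 .tip .tip) .tip))))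
(.node 27611217 870
(.node 27605081 234
(.node 27605067 858 (.node 27605065 1011 (.node 27605059 792 .tip .tip) .tip) (.node 27605075 125 (.node 27605073 171 .tip .tip) .tip))
(.node 27611203 254 (.node 27611201 646 (.node 27605083 214 .tip .tip) .tip) (.node 27611211 709 (.node 27611209 829 .tip .tip) .tip)))
(.node 27613257 614
(.node 27611227 666 (.node 27611225 33 (.node 27611219 589 .tip .tip) .tip) (.node 27613251 194 (.node 27613249 838 .tip .tip) .tip))
(.node 27613267 678 (.node 27613265 751 (.node 27613259 602 .tip .tip) .tip) (.node 27613275 684 (.node 27613273 952 .tip .tip) .tip)))))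
(.node 27793473 529
(.node 27621457 24
(.node 27619417 889
(.node 27619403 731 (.node 27619401 736 (.node 27619395 259 .tip .tip) .tip) (.node 27619411 583 (.node 27619409 606 .tip .tip) .tip))
(.node 27621443 238 (.node 27621441 985 (.node 27619419 876 .tip .tip) .tip) (.node 27621451 741 (.node 27621449 726 .tip .tip) .tip)))
(.node 27791433 1232
(.node 27621467 880 (.node 27621465 885 (.node 27621459 620 .tip .tip) .tip) (.node 27791427 518 (.node 27791425 10 .tip .tip) .tip))
(.node 27791443 1272 (.node 27791441 1366 (.node 27791435 435 .tip .tip) .tip) (.node 27791451 1297 (.node 27791449 329 .tip .tip) .tip))))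
(.node 27799633 1061
(.node 27793497 286
(.node 27793483 338 (.node 27793481 1257 (.node 27793475 318 .tip .tip) .tip) (.node 27793491 1286 (.node 27793489 1335 .tip .tip) .tip))
(.node 27799619 1315 (.node 27799617 452 (.node 27793499 455 .tip .tip) .tip) (.node 27799627 420 (.node 27799625 1251 .tip .tip) .tip)))
(.node 27801673 1168
(.node 27799643 554 (.node 27799641 303 (.node 27799635 346 .tip .tip) .tip) (.node 27801667 1330 (.node 27801665 447 .tip .tip) .tip))
(.node 27801683 1329 (.node 27801681 340 (.node 27801675 386 .tip .tip) .tip) (.node 27801691 296 (.node 27801689 1120 .tip .tip) .tip))))))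
(.node 27865153 1260
(.node 27818049 93
(.node 27809873 1222
(.node 27807833 45
(.node 27807819 1264 (.node 27807817 1089 (.node 27807811 1180 .tip .tip) .tip) (.node 27807827 1236 (.node 27807825 1225 .tip .tip) .tip))
(.node 27809859 1200 (.node 27809857 74 (.node 27807835 98 .tip .tip) .tip) (.node 27809867 60 (.node 27809865 1077 .tip .tip) .tip)))
(.node 27816009 1049
(.node 27809883 1035 (.node 27809881 569 (.node 27809875 1242 .tip .tip) .tip) (.node 27816003 1184 (.node 27816001 88 .tip .tip) .tip))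
(.node 27816019 1073 (.node 27816017 471 (.node 27816011 379 .tip .tip) .tip) (.node 27816027 1111 (.node 27816025 1199 .tip .tip) .tip))))
(.node 27856977 1072
(.node 27818073 1115
(.node 27818059 557 (.node 27818057 358 (.node 27818051 1166 .tip .tip) .tip) (.node 27818067 427 (.node 27818065 1091 .tip .tip) .tip))
(.node 27856963 1131 (.node 27856961 85 (.node 27818075 550 .tip .tip) .tip) (.node 27856971 1050 (.node 27856969 1177 .tip .tip) .tip)))
(.node 27859017 1055
(.node 27856987 1325 (.node 27856985 457 (.node 27856979 545 .tip .tip) .tip) (.node 27859011 91 (.node 27859009 1165 .tip .tip) .tip))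
(.node 27859027 1093 (.node 27859025 1205 (.node 27859019 1175 .tip .tip) .tip) (.node 27859035 477 (.node 27859033 562 .tip .tip) .tip)))))
(.node 27875393 444
(.node 27867217 53
(.node 27865177 515
(.node 27865163 68 (.node 27865161 1099 (.node 27865155 1299 .tip .tip) .tip) (.node 27865171 1085 (.node 27865169 1032 .tip .tip) .tip))
(.node 27867203 1288 (.node 27867201 1267 (.node 27865179 567 .tip .tip) .tip) (.node 27867211 1080 (.node 27867209 1044 .tip .tip) .tip)))
(.node 27873353 398
(.node 27867227 81 (.node 27867225 573 (.node 27867219 1105 .tip .tip) .tip) (.node 27873347 450 (.node 27873345 1169 .tip .tip) .tip))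
(.node 27873363 1122 (.node 27873361 348 (.node 27873355 424 .tip .tip) .tip) (.node 27873371 521 (.node 27873369 299 .tip .tip) .tip))))
(.node 27881553 430
(.node 27875417 104
(.node 27875403 383 (.node 27875401 417 (.node 27875395 1214 .tip .tip) .tip) (.node 27875411 1127 (.node 27875409 343 .tip .tip) .tip))
(.node 27881539 533 (.node 27881537 497 (.node 27875419 482 .tip .tip) .tip) (.node 27881547 352 (.node 27881545 314 .tip .tip) .tip)))
(.node 27883593 268
(.node 27881563 443 (.node 27881561 1296 (.node 27881555 278 .tip .tip) .tip) (.node 27883587 522 (.node 27883585 501 .tip .tip) .tip))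
(.node 27883603 400 (.node 27883601 332 (.node 27883595 438 .tip .tip) .tip) (.node 27883611 1353 (.node 27883609 324 .tip .tip) .tip))))))))))

/-- The reasons. -/
def caseCFullN4HowLL : Tab (ℕ × ℕ) :=
(.node 192 (.node 96 (.node 48 (.node 24 (.node 12 (.node 6 (.node 3 (.node 1 (.leaf (0, 0)) (.node 1 (.leaf (48, 0)) (.leaf (49, 0)))) (.node 1 (.leaf (50, 0)) (.node 1 (.leaf (48, 1)) (.leaf (49, 1)))))
(.node 3 (.node 1 (.leaf (50, 1)) (.node 1 (.leaf (48, 2)) (.leaf (49, 2)))) (.node 1 (.leaf (50, 2)) (.node 1 (.leaf (48, 3)) (.leaf (49, 3))))))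
(.node 6 (.node 3 (.node 1 (.leaf (50, 3)) (.node 1 (.leaf (48, 4)) (.leaf (49, 4)))) (.node 1 (.leaf (50, 4)) (.node 1 (.leaf (48, 5)) (.leaf (49, 5)))))
(.node 3 (.node 1 (.leaf (50, 5)) (.node 1 (.leaf (48, 6)) (.leaf (49, 6)))) (.node 1 (.leaf (50, 6)) (.node 1 (.leaf (48, 7)) (.leaf (49, 7)))))))
(.node 12 (.node 6 (.node 3 (.node 1 (.leaf (50, 7)) (.node 1 (.leaf (48, 8)) (.leaf (49, 8)))) (.node 1 (.leaf (50, 8)) (.node 1 (.leaf (48, 9)) (.leaf (49, 9)))))
(.node 3 (.node 1 (.leaf (50, 9)) (.node 1 (.leaf (48, 10)) (.leaf (49, 10)))) (.node 1 (.leaf (48, 11)) (.node 1 (.leaf (49, 11)) (.leaf (50, 11))))))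
(.node 6 (.node 3 (.node 1 (.leaf (48, 12)) (.node 1 (.leaf (49, 12)) (.leaf (50, 12)))) (.node 1 (.leaf (49, 13)) (.node 1 (.leaf (50, 13)) (.leaf (48, 14)))))
(.node 3 (.node 1 (.leaf (49, 14)) (.node 1 (.leaf (50, 14)) (.leaf (48, 15)))) (.node 1 (.leaf (49, 15)) (.node 1 (.leaf (50, 15)) (.leaf (48, 16))))))))
(.node 24 (.node 12 (.node 6 (.node 3 (.node 1 (.leaf (49, 16)) (.node 1 (.leaf (50, 16)) (.leaf (48, 17)))) (.node 1 (.leaf (49, 17)) (.node 1 (.leaf (50, 17)) (.leaf (48, 18)))))
(.node 3 (.node 1 (.leaf (49, 18)) (.node 1 (.leaf (50, 18)) (.leaf (48, 19)))) (.node 1 (.leaf (49, 19)) (.node 1 (.leaf (48, 20)) (.leaf (49, 20))))))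
(.node 6 (.node 3 (.node 1 (.leaf (50, 20)) (.node 1 (.leaf (49, 21)) (.leaf (50, 21)))) (.node 1 (.leaf (48, 22)) (.node 1 (.leaf (50, 22)) (.leaf (49, 23)))))
(.node 3 (.node 1 (.leaf (50, 23)) (.node 1 (.leaf (48, 24)) (.leaf (49, 24)))) (.node 1 (.leaf (50, 24)) (.node 1 (.leaf (49, 25)) (.leaf (50, 25)))))))
(.node 12 (.node 6 (.node 3 (.node 1 (.leaf (48, 26)) (.node 1 (.leaf (50, 26)) (.leaf (48, 27)))) (.node 1 (.leaf (49, 27)) (.node 1 (.leaf (50, 27)) (.leaf (48, 28)))))
(.node 3 (.node 1 (.leaf (49, 28)) (.node 1 (.leaf (48, 29)) (.leaf (49, 29)))) (.node 1 (.leaf (50, 29)) (.node 1 (.leaf (48, 30)) (.leaf (49, 30))))))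
(.node 6 (.node 3 (.node 1 (.leaf (50, 30)) (.node 1 (.leaf (48, 31)) (.leaf (49, 31)))) (.node 1 (.leaf (48, 32)) (.node 1 (.leaf (49, 32)) (.leaf (50, 32)))))
(.node 3 (.node 1 (.leaf (48, 33)) (.node 1 (.leaf (49, 33)) (.leaf (50, 33)))) (.node 1 (.leaf (48, 34)) (.node 1 (.leaf (49, 34)) (.leaf (50, 34)))))))))
(.node 48 (.node 24 (.node 12 (.node 6 (.node 3 (.node 1 (.leaf (48, 35)) (.node 1 (.leaf (49, 35)) (.leaf (50, 35)))) (.node 1 (.leaf (49, 36)) (.node 1 (.leaf (48, 37)) (.leaf (49, 37)))))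
(.node 3 (.node 1 (.leaf (50, 37)) (.node 1 (.leaf (48, 38)) (.leaf (49, 38)))) (.node 1 (.leaf (48, 39)) (.node 1 (.leaf (49, 39)) (.leaf (50, 39))))))
(.node 6 (.node 3 (.node 1 (.leaf (48, 40)) (.node 1 (.leaf (49, 40)) (.leaf (48, 41)))) (.node 1 (.leaf (49, 41)) (.node 1 (.leaf (50, 41)) (.leaf (48, 42)))))
(.node 3 (.node 1 (.leaf (49, 42)) (.node 1 (.leaf (50, 42)) (.leaf (48, 43)))) (.node 1 (.leaf (49, 43)) (.node 1 (.leaf (50, 43)) (.leaf (49, 44)))))))
(.node 12 (.node 6 (.node 3 (.node 1 (.leaf (48, 45)) (.node 1 (.leaf (49, 45)) (.leaf (50, 45)))) (.node 1 (.leaf (49, 46)) (.node 1 (.leaf (48, 47)) (.leaf (50, 47)))))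
(.node 3 (.node 1 (.leaf (49, 48)) (.node 1 (.leaf (50, 48)) (.leaf (48, 49)))) (.node 1 (.leaf (49, 49)) (.node 1 (.leaf (50, 49)) (.leaf (49, 50))))))
(.node 6 (.node 3 (.node 1 (.leaf (50, 50)) (.node 1 (.leaf (48, 51)) (.leaf (50, 51)))) (.node 1 (.leaf (48, 52)) (.node 1 (.leaf (49, 52)) (.leaf (50, 52)))))
(.node 3 (.node 1 (.leaf (48, 53)) (.node 1 (.leaf (49, 53)) (.leaf (48, 54)))) (.node 1 (.leaf (49, 54)) (.node 1 (.leaf (50, 54)) (.leaf (48, 55))))))))
(.node 24 (.node 12 (.node 6 (.node 3 (.node 1 (.leaf (49, 55)) (.node 1 (.leaf (50, 55)) (.leaf (48, 56)))) (.node 1 (.leaf (49, 56)) (.node 1 (.leaf (48, 57)) (.leaf (49, 57)))))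
(.node 3 (.node 1 (.leaf (50, 57)) (.node 1 (.leaf (48, 58)) (.leaf (49, 58)))) (.node 1 (.leaf (50, 58)) (.node 1 (.leaf (48, 59)) (.leaf (49, 59))))))
(.node 6 (.node 3 (.node 1 (.leaf (50, 59)) (.node 1 (.leaf (48, 60)) (.leaf (49, 60)))) (.node 1 (.leaf (50, 60)) (.node 1 (.leaf (48, 61)) (.leaf (49, 61)))))
(.node 3 (.node 1 (.leaf (50, 61)) (.node 1 (.leaf (48, 62)) (.leaf (49, 62)))) (.node 1 (.leaf (49, 63)) (.node 1 (.leaf (50, 63)) (.leaf (48, 64)))))))
(.node 12 (.node 6 (.node 3 (.node 1 (.leaf (49, 64)) (.node 1 (.leaf (50, 64)) (.leaf (49, 65)))) (.node 1 (.leaf (50, 65)) (.node 1 (.leaf (48, 66)) (.leaf (49, 66)))))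
(.node 3 (.node 1 (.leaf (50, 66)) (.node 1 (.leaf (49, 67)) (.leaf (48, 68)))) (.node 1 (.leaf (49, 68)) (.node 1 (.leaf (50, 68)) (.leaf (50, 69))))))
(.node 6 (.node 3 (.node 1 (.leaf (49, 70)) (.node 1 (.leaf (50, 70)) (.leaf (48, 71)))) (.node 1 (.leaf (49, 71)) (.node 1 (.leaf (49, 72)) (.leaf (50, 72)))))
(.node 3 (.node 1 (.leaf (48, 73)) (.node 1 (.leaf (49, 73)) (.leaf (48, 74)))) (.node 1 (.leaf (49, 74)) (.node 1 (.leaf (48, 75)) (.leaf (49, 75))))))))))
(.node 96 (.node 48 (.node 24 (.node 12 (.node 6 (.node 3 (.node 1 (.leaf (50, 75)) (.node 1 (.leaf (48, 76)) (.leaf (50, 76)))) (.node 1 (.leaf (48, 77)) (.node 1 (.leaf (49, 77)) (.leaf (48, 78)))))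
(.node 3 (.node 1 (.leaf (49, 78)) (.node 1 (.leaf (50, 78)) (.leaf (48, 79)))) (.node 1 (.leaf (49, 79)) (.node 1 (.leaf (50, 79)) (.leaf (48, 80))))))
(.node 6 (.node 3 (.node 1 (.leaf (49, 80)) (.node 1 (.leaf (50, 80)) (.leaf (49, 81)))) (.node 1 (.leaf (50, 81)) (.node 1 (.leaf (49, 82)) (.leaf (48, 83)))))
(.node 3 (.node 1 (.leaf (49, 83)) (.node 1 (.leaf (50, 83)) (.leaf (48, 84)))) (.node 1 (.leaf (49, 84)) (.node 1 (.leaf (49, 85)) (.leaf (48, 86)))))))
(.node 12 (.node 6 (.node 3 (.node 1 (.leaf (49, 86)) (.node 1 (.leaf (50, 86)) (.leaf (48, 87)))) (.node 1 (.leaf (48, 88)) (.node 1 (.leaf (49, 88)) (.leaf (50, 88)))))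
(.node 3 (.node 1 (.leaf (48, 89)) (.node 1 (.leaf (49, 89)) (.leaf (50, 89)))) (.node 1 (.leaf (48, 90)) (.node 1 (.leaf (50, 90)) (.leaf (49, 91))))))
(.node 6 (.node 3 (.node 1 (.leaf (50, 91)) (.node 1 (.leaf (48, 92)) (.leaf (49, 92)))) (.node 1 (.leaf (50, 92)) (.node 1 (.leaf (49, 93)) (.leaf (50, 93)))))
(.node 3 (.node 1 (.leaf (48, 94)) (.node 1 (.leaf (50, 94)) (.leaf (48, 95)))) (.node 1 (.leaf (49, 95)) (.node 1 (.leaf (50, 95)) (.leaf (48, 96))))))))
(.node 24 (.node 12 (.node 6 (.node 3 (.node 1 (.leaf (49, 96)) (.node 1 (.leaf (48, 97)) (.leaf (49, 97)))) (.node 1 (.leaf (50, 97)) (.node 1 (.leaf (48, 98)) (.leaf (49, 98)))))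
(.node 3 (.node 1 (.leaf (50, 98)) (.node 1 (.leaf (48, 99)) (.leaf (50, 99)))) (.node 1 (.leaf (48, 100)) (.node 1 (.leaf (49, 100)) (.leaf (50, 100))))))
(.node 6 (.node 3 (.node 1 (.leaf (48, 101)) (.node 1 (.leaf (49, 101)) (.leaf (50, 101)))) (.node 1 (.leaf (49, 102)) (.node 1 (.leaf (50, 102)) (.leaf (49, 103)))))
(.node 3 (.node 1 (.leaf (48, 104)) (.node 1 (.leaf (49, 104)) (.leaf (50, 104)))) (.node 1 (.leaf (48, 105)) (.node 1 (.leaf (49, 105)) (.leaf (50, 105)))))))
(.node 12 (.node 6 (.node 3 (.node 1 (.leaf (48, 106)) (.node 1 (.leaf (49, 106)) (.leaf (50, 106)))) (.node 1 (.leaf (48, 107)) (.node 1 (.leaf (49, 107)) (.leaf (50, 107)))))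
(.node 3 (.node 1 (.leaf (49, 108)) (.node 1 (.leaf (48, 109)) (.leaf (49, 109)))) (.node 1 (.leaf (50, 109)) (.node 1 (.leaf (48, 110)) (.leaf (50, 110))))))
(.node 6 (.node 3 (.node 1 (.leaf (49, 111)) (.node 1 (.leaf (50, 111)) (.leaf (48, 112)))) (.node 1 (.leaf (49, 112)) (.node 1 (.leaf (50, 112)) (.leaf (49, 113)))))
(.node 3 (.node 1 (.leaf (50, 113)) (.node 1 (.leaf (48, 114)) (.leaf (50, 114)))) (.node 1 (.leaf (48, 115)) (.node 1 (.leaf (49, 115)) (.leaf (50, 115)))))))))
(.node 48 (.node 24 (.node 12 (.node 6 (.node 3 (.node 1 (.leaf (48, 116)) (.node 1 (.leaf (49, 116)) (.leaf (48, 117)))) (.node 1 (.leaf (49, 117)) (.node 1 (.leaf (50, 117)) (.leaf (48, 118)))))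
(.node 3 (.node 1 (.leaf (49, 118)) (.node 1 (.leaf (50, 118)) (.leaf (48, 119)))) (.node 1 (.leaf (49, 119)) (.node 1 (.leaf (50, 119)) (.leaf (48, 120))))))
(.node 6 (.node 3 (.node 1 (.leaf (49, 120)) (.node 1 (.leaf (50, 120)) (.leaf (48, 121)))) (.node 1 (.leaf (49, 121)) (.node 1 (.leaf (50, 121)) (.leaf (48, 122)))))
(.node 3 (.node 1 (.leaf (49, 122)) (.node 1 (.leaf (50, 122)) (.leaf (48, 123)))) (.node 1 (.leaf (49, 123)) (.node 1 (.leaf (50, 123)) (.leaf (49, 124)))))))
(.node 12 (.node 6 (.node 3 (.node 1 (.leaf (50, 124)) (.node 1 (.leaf (48, 125)) (.leaf (49, 125)))) (.node 1 (.leaf (50, 125)) (.node 1 (.leaf (49, 126)) (.leaf (50, 126)))))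
(.node 3 (.node 1 (.leaf (48, 127)) (.node 1 (.leaf (49, 127)) (.leaf (50, 127)))) (.node 1 (.leaf (49, 128)) (.node 1 (.leaf (48, 129)) (.leaf (49, 129))))))
(.node 6 (.node 3 (.node 1 (.leaf (50, 129)) (.node 1 (.leaf (50, 130)) (.leaf (49, 131)))) (.node 1 (.leaf (50, 131)) (.node 1 (.leaf (48, 132)) (.leaf (49, 132)))))
(.node 3 (.node 1 (.leaf (49, 133)) (.node 1 (.leaf (50, 133)) (.leaf (48, 134)))) (.node 1 (.leaf (49, 134)) (.node 1 (.leaf (48, 135)) (.leaf (49, 135))))))))
(.node 24 (.node 12 (.node 6 (.node 3 (.node 1 (.leaf (48, 136)) (.node 1 (.leaf (49, 136)) (.leaf (50, 136)))) (.node 1 (.leaf (50, 137)) (.node 1 (.leaf (48, 138)) (.leaf (49, 138)))))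
(.node 3 (.node 1 (.leaf (48, 139)) (.node 1 (.leaf (49, 139)) (.leaf (50, 139)))) (.node 1 (.leaf (48, 140)) (.node 1 (.leaf (49, 140)) (.leaf (50, 140))))))
(.node 6 (.node 3 (.node 1 (.leaf (48, 141)) (.node 1 (.leaf (49, 141)) (.leaf (50, 141)))) (.node 1 (.leaf (49, 142)) (.node 1 (.leaf (50, 142)) (.leaf (49, 143)))))
(.node 3 (.node 1 (.leaf (48, 144)) (.node 1 (.leaf (49, 144)) (.leaf (50, 144)))) (.node 1 (.leaf (48, 145)) (.node 1 (.leaf (49, 145)) (.leaf (49, 146)))))))
(.node 12 (.node 6 (.node 3 (.node 1 (.leaf (48, 147)) (.node 1 (.leaf (49, 147)) (.leaf (50, 147)))) (.node 1 (.leaf (48, 148)) (.node 1 (.leaf (48, 149)) (.leaf (49, 149)))))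
(.node 3 (.node 1 (.leaf (50, 149)) (.node 1 (.leaf (48, 150)) (.leaf (49, 150)))) (.node 1 (.leaf (50, 150)) (.node 1 (.leaf (48, 151)) (.leaf (50, 151))))))
(.node 6 (.node 3 (.node 1 (.leaf (49, 152)) (.node 1 (.leaf (48, 153)) (.leaf (49, 153)))) (.node 1 (.leaf (50, 153)) (.node 1 (.leaf (49, 154)) (.leaf (50, 154)))))
(.node 3 (.node 1 (.leaf (48, 155)) (.node 1 (.leaf (50, 155)) (.leaf (48, 156)))) (.node 1 (.leaf (49, 156)) (.node 1 (.leaf (50, 156)) (.leaf (48, 157)))))))))))

/-- The reasons. -/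
def caseCFullN4HowLR : Tab (ℕ × ℕ) :=
(.node 192 (.node 96 (.node 48 (.node 24 (.node 12 (.node 6 (.node 3 (.node 1 (.leaf (49, 157)) (.node 1 (.leaf (48, 158)) (.leaf (49, 158)))) (.node 1 (.leaf (48, 159)) (.node 1 (.leaf (49, 159)) (.leaf (50, 159)))))
(.node 3 (.node 1 (.leaf (48, 160)) (.node 1 (.leaf (49, 160)) (.leaf (50, 160)))) (.node 1 (.leaf (50, 161)) (.node 1 (.leaf (49, 162)) (.leaf (49, 163))))))
(.node 6 (.node 3 (.node 1 (.leaf (48, 164)) (.node 1 (.leaf (49, 164)) (.leaf (50, 164)))) (.node 1 (.leaf (50, 165)) (.node 1 (.leaf (48, 166)) (.leaf (49, 166)))))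
(.node 3 (.node 1 (.leaf (49, 167)) (.node 1 (.leaf (48, 168)) (.leaf (49, 168)))) (.node 1 (.leaf (50, 168)) (.node 1 (.leaf (49, 169)) (.leaf (50, 170)))))))
(.node 12 (.node 6 (.node 3 (.node 1 (.leaf (48, 171)) (.node 1 (.leaf (50, 171)) (.leaf (48, 172)))) (.node 1 (.leaf (49, 172)) (.node 1 (.leaf (48, 173)) (.leaf (49, 173)))))
(.node 3 (.node 1 (.leaf (50, 173)) (.node 1 (.leaf (49, 174)) (.leaf (50, 174)))) (.node 1 (.leaf (48, 175)) (.node 1 (.leaf (49, 175)) (.leaf (50, 175))))))
(.node 6 (.node 3 (.node 1 (.leaf (48, 176)) (.node 1 (.leaf (49, 176)) (.leaf (50, 176)))) (.node 1 (.leaf (48, 177)) (.node 1 (.leaf (49, 177)) (.leaf (48, 178)))))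
(.node 3 (.node 1 (.leaf (49, 178)) (.node 1 (.leaf (48, 179)) (.leaf (49, 179)))) (.node 1 (.leaf (50, 180)) (.node 1 (.leaf (48, 181)) (.leaf (49, 181))))))))
(.node 24 (.node 12 (.node 6 (.node 3 (.node 1 (.leaf (49, 182)) (.node 1 (.leaf (48, 183)) (.leaf (49, 183)))) (.node 1 (.leaf (50, 183)) (.node 1 (.leaf (50, 184)) (.leaf (48, 185)))))
(.node 3 (.node 1 (.leaf (49, 185)) (.node 1 (.leaf (48, 186)) (.leaf (49, 186)))) (.node 1 (.leaf (48, 187)) (.node 1 (.leaf (49, 187)) (.leaf (50, 187))))))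
(.node 6 (.node 3 (.node 1 (.leaf (48, 188)) (.node 1 (.leaf (49, 188)) (.leaf (48, 189)))) (.node 1 (.leaf (49, 189)) (.node 1 (.leaf (50, 189)) (.leaf (48, 190)))))
(.node 3 (.node 1 (.leaf (49, 190)) (.node 1 (.leaf (50, 190)) (.leaf (48, 191)))) (.node 1 (.leaf (49, 191)) (.node 1 (.leaf (50, 191)) (.leaf (50, 192)))))))
(.node 12 (.node 6 (.node 3 (.node 1 (.leaf (48, 194)) (.node 1 (.leaf (49, 194)) (.leaf (49, 195)))) (.node 1 (.leaf (48, 196)) (.node 1 (.leaf (49, 196)) (.leaf (50, 196)))))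
(.node 3 (.node 1 (.leaf (48, 197)) (.node 1 (.leaf (48, 198)) (.leaf (49, 198)))) (.node 1 (.leaf (50, 198)) (.node 1 (.leaf (48, 199)) (.leaf (49, 199))))))
(.node 6 (.node 3 (.node 1 (.leaf (50, 199)) (.node 1 (.leaf (48, 200)) (.leaf (49, 201)))) (.node 1 (.leaf (50, 201)) (.node 1 (.leaf (49, 202)) (.leaf (50, 202)))))
(.node 3 (.node 1 (.leaf (49, 203)) (.node 1 (.leaf (50, 203)) (.leaf (48, 204)))) (.node 1 (.leaf (50, 204)) (.node 1 (.leaf (48, 205)) (.leaf (49, 205)))))))))
(.node 48 (.node 24 (.node 12 (.node 6 (.node 3 (.node 1 (.leaf (50, 205)) (.node 1 (.leaf (48, 206)) (.leaf (49, 206)))) (.node 1 (.leaf (50, 206)) (.node 1 (.leaf (48, 207)) (.leaf (49, 207)))))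
(.node 3 (.node 1 (.leaf (50, 207)) (.node 1 (.leaf (48, 208)) (.leaf (50, 208)))) (.node 1 (.leaf (50, 209)) (.node 1 (.leaf (49, 210)) (.leaf (50, 210))))))
(.node 6 (.node 3 (.node 1 (.leaf (49, 211)) (.node 1 (.leaf (50, 211)) (.leaf (49, 212)))) (.node 1 (.leaf (48, 213)) (.node 1 (.leaf (49, 213)) (.leaf (49, 214)))))
(.node 3 (.node 1 (.leaf (50, 214)) (.node 1 (.leaf (48, 215)) (.leaf (50, 215)))) (.node 1 (.leaf (48, 216)) (.node 1 (.leaf (49, 216)) (.leaf (50, 216)))))))
(.node 12 (.node 6 (.node 3 (.node 1 (.leaf (48, 217)) (.node 1 (.leaf (49, 217)) (.leaf (50, 218)))) (.node 1 (.leaf (50, 219)) (.node 1 (.leaf (50, 220)) (.leaf (48, 221)))))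
(.node 3 (.node 1 (.leaf (49, 221)) (.node 1 (.leaf (48, 222)) (.leaf (49, 222)))) (.node 1 (.leaf (49, 223)) (.node 1 (.leaf (50, 223)) (.leaf (48, 224))))))
(.node 6 (.node 3 (.node 1 (.leaf (49, 224)) (.node 1 (.leaf (50, 224)) (.leaf (49, 225)))) (.node 1 (.leaf (50, 225)) (.node 1 (.leaf (48, 226)) (.leaf (50, 226)))))
(.node 3 (.node 1 (.leaf (49, 227)) (.node 1 (.leaf (50, 227)) (.leaf (49, 228)))) (.node 1 (.leaf (49, 229)) (.node 1 (.leaf (48, 230)) (.leaf (50, 230))))))))
(.node 24 (.node 12 (.node 6 (.node 3 (.node 1 (.leaf (50, 231)) (.node 1 (.leaf (49, 232)) (.leaf (50, 232)))) (.node 1 (.leaf (48, 233)) (.node 1 (.leaf (49, 233)) (.leaf (49, 234)))))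
(.node 3 (.node 1 (.leaf (50, 234)) (.node 1 (.leaf (49, 235)) (.leaf (48, 236)))) (.node 1 (.leaf (49, 236)) (.node 1 (.leaf (48, 237)) (.leaf (50, 237))))))
(.node 6 (.node 3 (.node 1 (.leaf (48, 238)) (.node 1 (.leaf (50, 238)) (.leaf (48, 239)))) (.node 1 (.leaf (48, 240)) (.node 1 (.leaf (49, 240)) (.leaf (50, 240)))))
(.node 3 (.node 1 (.leaf (49, 241)) (.node 1 (.leaf (50, 241)) (.leaf (48, 242)))) (.node 1 (.leaf (49, 242)) (.node 1 (.leaf (50, 242)) (.leaf (50, 243)))))))
(.node 12 (.node 6 (.node 3 (.node 1 (.leaf (49, 244)) (.node 1 (.leaf (48, 245)) (.leaf (49, 245)))) (.node 1 (.leaf (49, 246)) (.node 1 (.leaf (48, 248)) (.leaf (49, 248)))))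
(.node 3 (.node 1 (.leaf (50, 249)) (.node 1 (.leaf (49, 251)) (.leaf (50, 253)))) (.node 1 (.leaf (48, 254)) (.node 1 (.leaf (49, 254)) (.leaf (49, 255))))))
(.node 6 (.node 3 (.node 1 (.leaf (50, 255)) (.node 1 (.leaf (49, 256)) (.leaf (50, 256)))) (.node 1 (.leaf (48, 257)) (.node 1 (.leaf (50, 257)) (.leaf (48, 258)))))
(.node 3 (.node 1 (.leaf (49, 258)) (.node 1 (.leaf (50, 258)) (.leaf (48, 259)))) (.node 1 (.leaf (49, 259)) (.node 1 (.leaf (50, 259)) (.leaf (50, 260))))))))))
(.node 96 (.node 48 (.node 24 (.node 12 (.node 6 (.node 3 (.node 1 (.leaf (50, 261)) (.node 1 (.leaf (49, 262)) (.leaf (50, 262)))) (.node 1 (.leaf (48, 263)) (.node 1 (.leaf (49, 263)) (.leaf (49, 264)))))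
(.node 3 (.node 1 (.leaf (50, 264)) (.node 1 (.leaf (50, 265)) (.leaf (48, 266)))) (.node 1 (.leaf (49, 266)) (.node 1 (.leaf (48, 267)) (.leaf (49, 267))))))
(.node 6 (.node 3 (.node 1 (.leaf (48, 268)) (.node 1 (.leaf (49, 268)) (.leaf (50, 268)))) (.node 1 (.leaf (48, 269)) (.node 1 (.leaf (49, 269)) (.leaf (50, 269)))))
(.node 3 (.node 1 (.leaf (48, 270)) (.node 1 (.leaf (49, 270)) (.leaf (50, 270)))) (.node 1 (.leaf (48, 271)) (.node 1 (.leaf (50, 271)) (.leaf (48, 272)))))))
(.node 12 (.node 6 (.node 3 (.node 1 (.leaf (49, 272)) (.node 1 (.leaf (50, 272)) (.leaf (48, 273)))) (.node 1 (.leaf (49, 273)) (.node 1 (.leaf (50, 273)) (.leaf (49, 274)))))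
(.node 3 (.node 1 (.leaf (50, 274)) (.node 1 (.leaf (48, 275)) (.leaf (49, 275)))) (.node 1 (.leaf (50, 275)) (.node 1 (.leaf (49, 276)) (.leaf (50, 276))))))
(.node 6 (.node 3 (.node 1 (.leaf (48, 277)) (.node 1 (.leaf (49, 277)) (.leaf (49, 278)))) (.node 1 (.leaf (48, 279)) (.node 1 (.leaf (49, 279)) (.leaf (50, 279)))))
(.node 3 (.node 1 (.leaf (50, 280)) (.node 1 (.leaf (49, 281)) (.leaf (50, 281)))) (.node 1 (.leaf (48, 282)) (.node 1 (.leaf (49, 282)) (.leaf (49, 283))))))))
(.node 24 (.node 12 (.node 6 (.node 3 (.node 1 (.leaf (50, 283)) (.node 1 (.leaf (48, 284)) (.leaf (49, 284)))) (.node 1 (.leaf (49, 285)) (.node 1 (.leaf (48, 286)) (.leaf (49, 286)))))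
(.node 3 (.node 1 (.leaf (50, 286)) (.node 1 (.leaf (48, 288)) (.leaf (49, 288)))) (.node 1 (.leaf (48, 289)) (.node 1 (.leaf (49, 289)) (.leaf (50, 289))))))
(.node 6 (.node 3 (.node 1 (.leaf (49, 290)) (.node 1 (.leaf (50, 290)) (.leaf (48, 291)))) (.node 1 (.leaf (49, 291)) (.node 1 (.leaf (50, 291)) (.leaf (49, 292)))))
(.node 3 (.node 1 (.leaf (50, 292)) (.node 1 (.leaf (49, 293)) (.leaf (48, 294)))) (.node 1 (.leaf (49, 294)) (.node 1 (.leaf (50, 294)) (.leaf (48, 295)))))))
(.node 12 (.node 6 (.node 3 (.node 1 (.leaf (48, 296)) (.node 1 (.leaf (50, 297)) (.leaf (48, 298)))) (.node 1 (.leaf (49, 298)) (.node 1 (.leaf (48, 299)) (.leaf (50, 299)))))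
(.node 3 (.node 1 (.leaf (49, 300)) (.node 1 (.leaf (48, 301)) (.leaf (49, 301)))) (.node 1 (.leaf (49, 302)) (.node 1 (.leaf (50, 302)) (.leaf (50, 303))))))
(.node 6 (.node 3 (.node 1 (.leaf (48, 304)) (.node 1 (.leaf (49, 304)) (.leaf (48, 305)))) (.node 1 (.leaf (49, 305)) (.node 1 (.leaf (48, 306)) (.leaf (49, 306)))))
(.node 3 (.node 1 (.leaf (48, 307)) (.node 1 (.leaf (49, 307)) (.leaf (50, 307)))) (.node 1 (.leaf (48, 308)) (.node 1 (.leaf (50, 308)) (.leaf (50, 309)))))))))
(.node 48 (.node 24 (.node 12 (.node 6 (.node 3 (.node 1 (.leaf (49, 310)) (.node 1 (.leaf (50, 311)) (.leaf (48, 312)))) (.node 1 (.leaf (49, 312)) (.node 1 (.leaf (49, 313)) (.leaf (48, 314)))))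
(.node 3 (.node 1 (.leaf (49, 314)) (.node 1 (.leaf (50, 314)) (.leaf (50, 316)))) (.node 1 (.leaf (48, 317)) (.node 1 (.leaf (48, 318)) (.leaf (49, 318))))))
(.node 6 (.node 3 (.node 1 (.leaf (48, 319)) (.node 1 (.leaf (49, 319)) (.leaf (50, 319)))) (.node 1 (.leaf (50, 320)) (.node 1 (.leaf (49, 321)) (.leaf (50, 321)))))
(.node 3 (.node 1 (.leaf (48, 322)) (.node 1 (.leaf (49, 322)) (.leaf (50, 322)))) (.node 1 (.leaf (48, 323)) (.node 1 (.leaf (49, 323)) (.leaf (48, 324)))))))
(.node 12 (.node 6 (.node 3 (.node 1 (.leaf (48, 325)) (.node 1 (.leaf (49, 325)) (.leaf (50, 326)))) (.node 1 (.leaf (48, 327)) (.node 1 (.leaf (49, 327)) (.leaf (49, 328)))))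
(.node 3 (.node 1 (.leaf (48, 329)) (.node 1 (.leaf (49, 329)) (.leaf (50, 329)))) (.node 1 (.leaf (50, 330)) (.node 1 (.leaf (48, 331)) (.leaf (49, 331))))))
(.node 6 (.node 3 (.node 1 (.leaf (48, 332)) (.node 1 (.leaf (49, 332)) (.leaf (48, 333)))) (.node 1 (.leaf (49, 333)) (.node 1 (.leaf (50, 333)) (.leaf (48, 334)))))
(.node 3 (.node 1 (.leaf (49, 334)) (.node 1 (.leaf (48, 335)) (.leaf (50, 335)))) (.node 1 (.leaf (48, 336)) (.node 1 (.leaf (49, 336)) (.leaf (50, 336))))))))
(.node 24 (.node 12 (.node 6 (.node 3 (.node 1 (.leaf (49, 337)) (.node 1 (.leaf (50, 337)) (.leaf (50, 338)))) (.node 1 (.leaf (48, 339)) (.node 1 (.leaf (49, 339)) (.leaf (49, 340)))))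
(.node 3 (.node 1 (.leaf (48, 341)) (.node 1 (.leaf (49, 341)) (.leaf (50, 341)))) (.node 1 (.leaf (48, 342)) (.node 1 (.leaf (48, 343)) (.leaf (49, 343))))))
(.node 6 (.node 3 (.node 1 (.leaf (50, 343)) (.node 1 (.leaf (48, 344)) (.leaf (49, 344)))) (.node 1 (.leaf (50, 344)) (.node 1 (.leaf (48, 345)) (.leaf (49, 346)))))
(.node 3 (.node 1 (.leaf (50, 346)) (.node 1 (.leaf (49, 347)) (.leaf (50, 347)))) (.node 1 (.leaf (49, 348)) (.node 1 (.leaf (50, 348)) (.leaf (48, 349)))))))
(.node 12 (.node 6 (.node 3 (.node 1 (.leaf (50, 349)) (.node 1 (.leaf (48, 350)) (.leaf (49, 350)))) (.node 1 (.leaf (50, 350)) (.node 1 (.leaf (48, 351)) (.leaf (49, 351)))))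
(.node 3 (.node 1 (.leaf (48, 352)) (.node 1 (.leaf (49, 352)) (.leaf (50, 352)))) (.node 1 (.leaf (50, 353)) (.node 1 (.leaf (50, 354)) (.leaf (49, 355))))))
(.node 6 (.node 3 (.node 1 (.leaf (50, 355)) (.node 1 (.leaf (49, 356)) (.leaf (49, 357)))) (.node 1 (.leaf (48, 358)) (.node 1 (.leaf (49, 358)) (.leaf (49, 359)))))
(.node 3 (.node 1 (.leaf (50, 359)) (.node 1 (.leaf (48, 360)) (.leaf (50, 360)))) (.node 1 (.leaf (48, 361)) (.node 1 (.leaf (49, 361)) (.leaf (50, 361)))))))))))

/-- The reasons. -/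
def caseCFullN4HowL : Tab (ℕ × ℕ) := .node 384 caseCFullN4HowLL caseCFullN4HowLR

/-- The reasons. -/
def caseCFullN4HowRL : Tab (ℕ × ℕ) :=
(.node 192 (.node 96 (.node 48 (.node 24 (.node 12 (.node 6 (.node 3 (.node 1 (.leaf (48, 362)) (.node 1 (.leaf (50, 363)) (.leaf (50, 364)))) (.node 1 (.leaf (50, 365)) (.node 1 (.leaf (48, 366)) (.leaf (49, 366)))))
(.node 3 (.node 1 (.leaf (48, 367)) (.node 1 (.leaf (49, 367)) (.leaf (49, 368)))) (.node 1 (.leaf (48, 369)) (.node 1 (.leaf (49, 369)) (.leaf (50, 369))))))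
(.node 6 (.node 3 (.node 1 (.leaf (49, 370)) (.node 1 (.leaf (50, 370)) (.leaf (48, 371)))) (.node 1 (.leaf (50, 371)) (.node 1 (.leaf (49, 372)) (.leaf (50, 372)))))
(.node 3 (.node 1 (.leaf (49, 373)) (.node 1 (.leaf (48, 374)) (.leaf (50, 374)))) (.node 1 (.leaf (50, 375)) (.node 1 (.leaf (49, 376)) (.leaf (50, 376)))))))
(.node 12 (.node 6 (.node 3 (.node 1 (.leaf (48, 377)) (.node 1 (.leaf (49, 377)) (.leaf (49, 378)))) (.node 1 (.leaf (50, 378)) (.node 1 (.leaf (49, 379)) (.leaf (48, 380)))))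
(.node 3 (.node 1 (.leaf (49, 380)) (.node 1 (.leaf (48, 381)) (.leaf (50, 381)))) (.node 1 (.leaf (48, 382)) (.node 1 (.leaf (50, 382)) (.leaf (48, 383))))))
(.node 6 (.node 3 (.node 1 (.leaf (48, 384)) (.node 1 (.leaf (49, 384)) (.leaf (50, 384)))) (.node 1 (.leaf (49, 385)) (.node 1 (.leaf (48, 386)) (.leaf (49, 386)))))
(.node 3 (.node 1 (.leaf (50, 386)) (.node 1 (.leaf (49, 387)) (.leaf (48, 388)))) (.node 1 (.leaf (49, 388)) (.node 1 (.leaf (50, 390)) (.leaf (49, 392))))))))
(.node 24 (.node 12 (.node 6 (.node 3 (.node 1 (.leaf (48, 393)) (.node 1 (.leaf (49, 393)) (.leaf (49, 394)))) (.node 1 (.leaf (50, 394)) (.node 1 (.leaf (48, 395)) (.leaf (50, 395)))))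
(.node 3 (.node 1 (.leaf (48, 396)) (.node 1 (.leaf (50, 396)) (.leaf (48, 397)))) (.node 1 (.leaf (49, 397)) (.node 1 (.leaf (50, 397)) (.leaf (50, 398))))))
(.node 6 (.node 3 (.node 1 (.leaf (50, 399)) (.node 1 (.leaf (49, 400)) (.leaf (48, 401)))) (.node 1 (.leaf (49, 401)) (.node 1 (.leaf (50, 401)) (.leaf (48, 402)))))
(.node 3 (.node 1 (.leaf (49, 403)) (.node 1 (.leaf (49, 404)) (.leaf (50, 404)))) (.node 1 (.leaf (48, 405)) (.node 1 (.leaf (50, 406)) (.leaf (48, 407)))))))
(.node 12 (.node 6 (.node 3 (.node 1 (.leaf (49, 407)) (.node 1 (.leaf (49, 408)) (.leaf (50, 409)))) (.node 1 (.leaf (50, 412)) (.node 1 (.leaf (48, 413)) (.leaf (50, 413)))))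
(.node 3 (.node 1 (.leaf (49, 416)) (.node 1 (.leaf (48, 417)) (.leaf (48, 418)))) (.node 1 (.leaf (49, 418)) (.node 1 (.leaf (50, 419)) (.leaf (50, 420))))))
(.node 6 (.node 3 (.node 1 (.leaf (50, 422)) (.node 1 (.leaf (49, 423)) (.leaf (50, 423)))) (.node 1 (.leaf (48, 424)) (.node 1 (.leaf (49, 425)) (.leaf (48, 426)))))
(.node 3 (.node 1 (.leaf (48, 428)) (.node 1 (.leaf (49, 428)) (.leaf (48, 431)))) (.node 1 (.leaf (49, 431)) (.node 1 (.leaf (50, 431)) (.leaf (48, 432)))))))))
(.node 48 (.node 24 (.node 12 (.node 6 (.node 3 (.node 1 (.leaf (49, 433)) (.node 1 (.leaf (50, 433)) (.leaf (49, 434)))) (.node 1 (.leaf (48, 436)) (.node 1 (.leaf (49, 437)) (.leaf (48, 438)))))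
(.node 3 (.node 1 (.leaf (49, 438)) (.node 1 (.leaf (49, 439)) (.leaf (49, 440)))) (.node 1 (.leaf (50, 440)) (.node 1 (.leaf (48, 441)) (.leaf (50, 442))))))
(.node 6 (.node 3 (.node 1 (.leaf (49, 444)) (.node 1 (.leaf (48, 445)) (.leaf (49, 445)))) (.node 1 (.leaf (50, 445)) (.node 1 (.leaf (48, 446)) (.leaf (48, 447)))))
(.node 3 (.node 1 (.leaf (49, 447)) (.node 1 (.leaf (50, 448)) (.leaf (48, 449)))) (.node 1 (.leaf (49, 450)) (.node 1 (.leaf (50, 450)) (.leaf (49, 451)))))))
(.node 12 (.node 6 (.node 3 (.node 1 (.leaf (49, 452)) (.node 1 (.leaf (48, 453)) (.leaf (48, 455)))) (.node 1 (.leaf (49, 455)) (.node 1 (.leaf (50, 455)) (.leaf (49, 456)))))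
(.node 3 (.node 1 (.leaf (48, 457)) (.node 1 (.leaf (49, 458)) (.leaf (50, 458)))) (.node 1 (.leaf (50, 459)) (.node 1 (.leaf (48, 460)) (.leaf (49, 460))))))
(.node 6 (.node 3 (.node 1 (.leaf (50, 460)) (.node 1 (.leaf (49, 461)) (.leaf (50, 462)))) (.node 1 (.leaf (50, 463)) (.node 1 (.leaf (50, 464)) (.leaf (49, 465)))))
(.node 3 (.node 1 (.leaf (49, 466)) (.node 1 (.leaf (50, 467)) (.leaf (48, 468)))) (.node 1 (.leaf (49, 468)) (.node 1 (.leaf (50, 468)) (.leaf (50, 469))))))))
(.node 24 (.node 12 (.node 6 (.node 3 (.node 1 (.leaf (49, 470)) (.node 1 (.leaf (50, 470)) (.leaf (49, 471)))) (.node 1 (.leaf (48, 472)) (.node 1 (.leaf (50, 472)) (.leaf (50, 473)))))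
(.node 3 (.node 1 (.leaf (50, 474)) (.node 1 (.leaf (48, 475)) (.leaf (49, 476)))) (.node 1 (.leaf (50, 476)) (.node 1 (.leaf (49, 477)) (.leaf (48, 479))))))
(.node 6 (.node 3 (.node 1 (.leaf (50, 479)) (.node 1 (.leaf (48, 480)) (.leaf (50, 480)))) (.node 1 (.leaf (50, 481)) (.node 1 (.leaf (49, 482)) (.leaf (50, 482)))))
(.node 3 (.node 1 (.leaf (50, 483)) (.node 1 (.leaf (48, 485)) (.leaf (49, 486)))) (.node 1 (.leaf (48, 488)) (.node 1 (.leaf (49, 489)) (.leaf (48, 491)))))))
(.node 12 (.node 6 (.node 3 (.node 1 (.leaf (49, 491)) (.node 1 (.leaf (49, 492)) (.leaf (50, 492)))) (.node 1 (.leaf (50, 493)) (.node 1 (.leaf (48, 494)) (.leaf (50, 494)))))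
(.node 3 (.node 1 (.leaf (49, 495)) (.node 1 (.leaf (50, 495)) (.leaf (48, 496)))) (.node 1 (.leaf (49, 496)) (.node 1 (.leaf (50, 496)) (.leaf (48, 497))))))
(.node 6 (.node 3 (.node 1 (.leaf (50, 497)) (.node 1 (.leaf (48, 498)) (.leaf (49, 498)))) (.node 1 (.leaf (50, 498)) (.node 1 (.leaf (48, 499)) (.leaf (50, 499)))))
(.node 3 (.node 1 (.leaf (48, 500)) (.node 1 (.leaf (49, 500)) (.leaf (50, 500)))) (.node 1 (.leaf (50, 501)) (.node 1 (.leaf (48, 502)) (.leaf (48, 503))))))))))
(.node 96 (.node 48 (.node 24 (.node 12 (.node 6 (.node 3 (.node 1 (.leaf (49, 503)) (.node 1 (.leaf (50, 503)) (.leaf (48, 504)))) (.node 1 (.leaf (49, 504)) (.node 1 (.leaf (48, 505)) (.leaf (49, 505)))))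
(.node 3 (.node 1 (.leaf (50, 506)) (.node 1 (.leaf (48, 507)) (.leaf (49, 507)))) (.node 1 (.leaf (48, 508)) (.node 1 (.leaf (49, 508)) (.leaf (48, 509))))))
(.node 6 (.node 3 (.node 1 (.leaf (48, 510)) (.node 1 (.leaf (50, 510)) (.leaf (49, 511)))) (.node 1 (.leaf (48, 513)) (.node 1 (.leaf (50, 513)) (.leaf (49, 514)))))
(.node 3 (.node 1 (.leaf (50, 514)) (.node 1 (.leaf (48, 516)) (.leaf (49, 516)))) (.node 1 (.leaf (50, 516)) (.node 1 (.leaf (48, 519)) (.leaf (49, 519)))))))
(.node 12 (.node 6 (.node 3 (.node 1 (.leaf (49, 520)) (.node 1 (.leaf (49, 521)) (.leaf (50, 522)))) (.node 1 (.leaf (48, 523)) (.node 1 (.leaf (50, 523)) (.leaf (49, 524)))))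
(.node 3 (.node 1 (.leaf (50, 524)) (.node 1 (.leaf (50, 525)) (.leaf (48, 527)))) (.node 1 (.leaf (49, 527)) (.node 1 (.leaf (48, 528)) (.leaf (49, 528))))))
(.node 6 (.node 3 (.node 1 (.leaf (48, 530)) (.node 1 (.leaf (49, 530)) (.leaf (49, 531)))) (.node 1 (.leaf (48, 532)) (.node 1 (.leaf (50, 532)) (.leaf (50, 533)))))
(.node 3 (.node 1 (.leaf (50, 535)) (.node 1 (.leaf (49, 536)) (.leaf (50, 538)))) (.node 1 (.leaf (50, 539)) (.node 1 (.leaf (48, 541)) (.leaf (49, 541))))))))
(.node 24 (.node 12 (.node 6 (.node 3 (.node 1 (.leaf (49, 542)) (.node 1 (.leaf (48, 543)) (.leaf (50, 544)))) (.node 1 (.leaf (49, 545)) (.node 1 (.leaf (49, 546)) (.leaf (50, 546)))))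
(.node 3 (.node 1 (.leaf (49, 547)) (.node 1 (.leaf (50, 547)) (.leaf (50, 548)))) (.node 1 (.leaf (48, 549)) (.node 1 (.leaf (50, 549)) (.leaf (49, 550))))))
(.node 6 (.node 3 (.node 1 (.leaf (48, 551)) (.node 1 (.leaf (49, 551)) (.leaf (50, 553)))) (.node 1 (.leaf (48, 555)) (.node 1 (.leaf (48, 562)) (.leaf (50, 563)))))
(.node 3 (.node 1 (.leaf (49, 566)) (.node 1 (.leaf (50, 569)) (.leaf (49, 571)))) (.node 1 (.leaf (48, 574)) (.node 1 (.leaf (49, 574)) (.leaf (49, 575)))))))
(.node 12 (.node 6 (.node 3 (.node 1 (.leaf (48, 576)) (.node 1 (.leaf (49, 576)) (.leaf (50, 577)))) (.node 1 (.leaf (49, 578)) (.node 1 (.leaf (49, 579)) (.leaf (48, 580)))))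
(.node 3 (.node 1 (.leaf (49, 580)) (.node 1 (.leaf (50, 580)) (.leaf (49, 581)))) (.node 1 (.leaf (48, 582)) (.node 1 (.leaf (49, 582)) (.leaf (48, 583))))))
(.node 6 (.node 3 (.node 1 (.leaf (49, 583)) (.node 1 (.leaf (49, 584)) (.leaf (48, 585)))) (.node 1 (.leaf (49, 585)) (.node 1 (.leaf (50, 585)) (.leaf (49, 586)))))
(.node 3 (.node 1 (.leaf (48, 587)) (.node 1 (.leaf (49, 587)) (.leaf (50, 587)))) (.node 1 (.leaf (50, 588)) (.node 1 (.leaf (48, 589)) (.leaf (49, 589)))))))))
(.node 48 (.node 24 (.node 12 (.node 6 (.node 3 (.node 1 (.leaf (50, 589)) (.node 1 (.leaf (49, 590)) (.leaf (50, 590)))) (.node 1 (.leaf (49, 592)) (.node 1 (.leaf (50, 592)) (.leaf (48, 593)))))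
(.node 3 (.node 1 (.leaf (48, 594)) (.node 1 (.leaf (48, 596)) (.leaf (49, 596)))) (.node 1 (.leaf (48, 598)) (.node 1 (.leaf (49, 598)) (.leaf (49, 599))))))
(.node 6 (.node 3 (.node 1 (.leaf (50, 600)) (.node 1 (.leaf (48, 601)) (.leaf (49, 601)))) (.node 1 (.leaf (48, 602)) (.node 1 (.leaf (49, 602)) (.leaf (48, 603)))))
(.node 3 (.node 1 (.leaf (49, 603)) (.node 1 (.leaf (48, 604)) (.leaf (49, 604)))) (.node 1 (.leaf (50, 604)) (.node 1 (.leaf (50, 605)) (.leaf (48, 606)))))))
(.node 12 (.node 6 (.node 3 (.node 1 (.leaf (49, 606)) (.node 1 (.leaf (49, 607)) (.leaf (48, 608)))) (.node 1 (.leaf (49, 608)) (.node 1 (.leaf (50, 610)) (.leaf (48, 611)))))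
(.node 3 (.node 1 (.leaf (49, 612)) (.node 1 (.leaf (48, 613)) (.leaf (49, 613)))) (.node 1 (.leaf (50, 613)) (.node 1 (.leaf (50, 614)) (.leaf (49, 615))))))
(.node 6 (.node 3 (.node 1 (.leaf (50, 615)) (.node 1 (.leaf (48, 616)) (.leaf (49, 616)))) (.node 1 (.leaf (48, 617)) (.node 1 (.leaf (48, 618)) (.leaf (50, 619)))))
(.node 3 (.node 1 (.leaf (48, 620)) (.node 1 (.leaf (49, 620)) (.leaf (49, 621)))) (.node 1 (.leaf (48, 622)) (.node 1 (.leaf (49, 622)) (.leaf (50, 622))))))))
(.node 24 (.node 12 (.node 6 (.node 3 (.node 1 (.leaf (50, 623)) (.node 1 (.leaf (48, 624)) (.leaf (49, 624)))) (.node 1 (.leaf (49, 625)) (.node 1 (.leaf (48, 626)) (.leaf (49, 626)))))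
(.node 3 (.node 1 (.leaf (50, 626)) (.node 1 (.leaf (48, 627)) (.leaf (50, 627)))) (.node 1 (.leaf (49, 628)) (.node 1 (.leaf (50, 628)) (.leaf (49, 629))))))
(.node 6 (.node 3 (.node 1 (.leaf (50, 629)) (.node 1 (.leaf (50, 630)) (.leaf (49, 631)))) (.node 1 (.leaf (48, 632)) (.node 1 (.leaf (50, 632)) (.leaf (49, 634)))))
(.node 3 (.node 1 (.leaf (50, 634)) (.node 1 (.leaf (48, 635)) (.leaf (49, 635)))) (.node 1 (.leaf (50, 636)) (.node 1 (.leaf (49, 637)) (.leaf (50, 638)))))))
(.node 12 (.node 6 (.node 3 (.node 1 (.leaf (48, 639)) (.node 1 (.leaf (48, 640)) (.leaf (49, 640)))) (.node 1 (.leaf (48, 641)) (.node 1 (.leaf (48, 642)) (.leaf (49, 642)))))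
(.node 3 (.node 1 (.leaf (50, 643)) (.node 1 (.leaf (50, 644)) (.leaf (49, 645)))) (.node 1 (.leaf (50, 648)) (.node 1 (.leaf (48, 649)) (.leaf (49, 649))))))
(.node 6 (.node 3 (.node 1 (.leaf (48, 650)) (.node 1 (.leaf (49, 650)) (.leaf (49, 651)))) (.node 1 (.leaf (49, 652)) (.node 1 (.leaf (50, 652)) (.leaf (48, 653)))))
(.node 3 (.node 1 (.leaf (50, 653)) (.node 1 (.leaf (49, 654)) (.leaf (50, 654)))) (.node 1 (.leaf (49, 655)) (.node 1 (.leaf (48, 656)) (.leaf (50, 656)))))))))))

/-- The reasons. -/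
def caseCFullN4HowRR : Tab (ℕ × ℕ) :=
(.node 192 (.node 96 (.node 48 (.node 24 (.node 12 (.node 6 (.node 3 (.node 1 (.leaf (49, 657)) (.node 1 (.leaf (50, 657)) (.leaf (48, 658)))) (.node 1 (.leaf (49, 658)) (.node 1 (.leaf (49, 659)) (.leaf (48, 660)))))
(.node 3 (.node 1 (.leaf (49, 660)) (.node 1 (.leaf (48, 661)) (.leaf (48, 662)))) (.node 1 (.leaf (48, 663)) (.node 1 (.leaf (49, 663)) (.leaf (48, 665))))))
(.node 6 (.node 3 (.node 1 (.leaf (50, 665)) (.node 1 (.leaf (49, 666)) (.leaf (48, 667)))) (.node 1 (.leaf (50, 669)) (.node 1 (.leaf (49, 670)) (.leaf (48, 671)))))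
(.node 3 (.node 1 (.leaf (49, 672)) (.node 1 (.leaf (49, 674)) (.leaf (48, 675)))) (.node 1 (.leaf (49, 675)) (.node 1 (.leaf (50, 675)) (.leaf (48, 676)))))))
(.node 12 (.node 6 (.node 3 (.node 1 (.leaf (49, 677)) (.node 1 (.leaf (49, 678)) (.leaf (50, 678)))) (.node 1 (.leaf (48, 679)) (.node 1 (.leaf (48, 680)) (.leaf (49, 680)))))
(.node 3 (.node 1 (.leaf (49, 681)) (.node 1 (.leaf (50, 684)) (.leaf (48, 685)))) (.node 1 (.leaf (50, 685)) (.node 1 (.leaf (48, 688)) (.leaf (49, 688))))))
(.node 6 (.node 3 (.node 1 (.leaf (50, 692)) (.node 1 (.leaf (49, 693)) (.leaf (50, 693)))) (.node 1 (.leaf (48, 694)) (.node 1 (.leaf (49, 695)) (.leaf (49, 697)))))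
(.node 3 (.node 1 (.leaf (48, 700)) (.node 1 (.leaf (49, 700)) (.leaf (50, 700)))) (.node 1 (.leaf (49, 702)) (.node 1 (.leaf (50, 702)) (.leaf (49, 703))))))))
(.node 24 (.node 12 (.node 6 (.node 3 (.node 1 (.leaf (48, 705)) (.node 1 (.leaf (49, 706)) (.leaf (48, 707)))) (.node 1 (.leaf (49, 707)) (.node 1 (.leaf (49, 708)) (.leaf (49, 709)))))
(.node 3 (.node 1 (.leaf (50, 709)) (.node 1 (.leaf (50, 711)) (.leaf (49, 713)))) (.node 1 (.leaf (48, 714)) (.node 1 (.leaf (50, 714)) (.leaf (50, 716))))))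
(.node 6 (.node 3 (.node 1 (.leaf (48, 717)) (.node 1 (.leaf (49, 718)) (.leaf (50, 718)))) (.node 1 (.leaf (49, 719)) (.node 1 (.leaf (48, 720)) (.leaf (48, 722)))))
(.node 3 (.node 1 (.leaf (49, 722)) (.node 1 (.leaf (50, 722)) (.leaf (49, 723)))) (.node 1 (.leaf (48, 724)) (.node 1 (.leaf (49, 725)) (.leaf (50, 725)))))))
(.node 12 (.node 6 (.node 3 (.node 1 (.leaf (50, 726)) (.node 1 (.leaf (48, 727)) (.leaf (49, 727)))) (.node 1 (.leaf (50, 727)) (.node 1 (.leaf (50, 729)) (.leaf (50, 730)))))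
(.node 3 (.node 1 (.leaf (50, 731)) (.node 1 (.leaf (49, 733)) (.leaf (48, 735)))) (.node 1 (.leaf (49, 735)) (.node 1 (.leaf (50, 735)) (.leaf (50, 736))))))
(.node 6 (.node 3 (.node 1 (.leaf (49, 737)) (.node 1 (.leaf (50, 737)) (.leaf (49, 738)))) (.node 1 (.leaf (48, 739)) (.node 1 (.leaf (50, 740)) (.leaf (50, 741)))))
(.node 3 (.node 1 (.leaf (49, 743)) (.node 1 (.leaf (50, 743)) (.leaf (49, 744)))) (.node 1 (.leaf (48, 746)) (.node 1 (.leaf (50, 746)) (.leaf (48, 747)))))))))
(.node 48 (.node 24 (.node 12 (.node 6 (.node 3 (.node 1 (.leaf (50, 747)) (.node 1 (.leaf (49, 749)) (.leaf (49, 754)))) (.node 1 (.leaf (49, 756)) (.node 1 (.leaf (49, 757)) (.leaf (50, 757)))))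
(.node 3 (.node 1 (.leaf (50, 758)) (.node 1 (.leaf (50, 759)) (.leaf (48, 760)))) (.node 1 (.leaf (49, 760)) (.node 1 (.leaf (50, 760)) (.leaf (48, 761))))))
(.node 6 (.node 3 (.node 1 (.leaf (50, 761)) (.node 1 (.leaf (48, 762)) (.leaf (50, 762)))) (.node 1 (.leaf (48, 763)) (.node 1 (.leaf (50, 763)) (.leaf (48, 764)))))
(.node 3 (.node 1 (.leaf (49, 764)) (.node 1 (.leaf (50, 765)) (.leaf (48, 766)))) (.node 1 (.leaf (48, 767)) (.node 1 (.leaf (49, 767)) (.leaf (50, 767)))))))
(.node 12 (.node 6 (.node 3 (.node 1 (.leaf (49, 768)) (.node 1 (.leaf (48, 770)) (.leaf (49, 770)))) (.node 1 (.leaf (48, 771)) (.node 1 (.leaf (49, 771)) (.leaf (48, 772)))))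
(.node 3 (.node 1 (.leaf (50, 773)) (.node 1 (.leaf (49, 774)) (.leaf (48, 776)))) (.node 1 (.leaf (50, 776)) (.node 1 (.leaf (49, 778)) (.leaf (50, 778))))))
(.node 6 (.node 3 (.node 1 (.leaf (48, 781)) (.node 1 (.leaf (49, 781)) (.leaf (49, 782)))) (.node 1 (.leaf (49, 783)) (.node 1 (.leaf (50, 784)) (.leaf (48, 785)))))
(.node 3 (.node 1 (.leaf (50, 785)) (.node 1 (.leaf (49, 788)) (.leaf (48, 789)))) (.node 1 (.leaf (49, 789)) (.node 1 (.leaf (48, 791)) (.leaf (49, 791))))))))
(.node 24 (.node 12 (.node 6 (.node 3 (.node 1 (.leaf (49, 792)) (.node 1 (.leaf (48, 793)) (.leaf (50, 793)))) (.node 1 (.leaf (50, 794)) (.node 1 (.leaf (50, 796)) (.leaf (49, 797)))))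
(.node 3 (.node 1 (.leaf (50, 799)) (.node 1 (.leaf (50, 800)) (.leaf (48, 802)))) (.node 1 (.leaf (49, 802)) (.node 1 (.leaf (49, 803)) (.leaf (48, 804))))))
(.node 6 (.node 3 (.node 1 (.leaf (50, 805)) (.node 1 (.leaf (49, 806)) (.leaf (49, 807)))) (.node 1 (.leaf (50, 807)) (.node 1 (.leaf (50, 808)) (.leaf (48, 809)))))
(.node 3 (.node 1 (.leaf (50, 809)) (.node 1 (.leaf (50, 812)) (.leaf (48, 817)))) (.node 1 (.leaf (50, 818)) (.node 1 (.leaf (50, 822)) (.leaf (49, 823)))))))
(.node 12 (.node 6 (.node 3 (.node 1 (.leaf (48, 826)) (.node 1 (.leaf (49, 826)) (.leaf (49, 827)))) (.node 1 (.leaf (50, 829)) (.node 1 (.leaf (48, 832)) (.leaf (49, 838)))))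
(.node 3 (.node 1 (.leaf (48, 840)) (.node 1 (.leaf (49, 840)) (.leaf (50, 841)))) (.node 1 (.leaf (48, 842)) (.node 1 (.leaf (50, 844)) (.leaf (48, 845))))))
(.node 6 (.node 3 (.node 1 (.leaf (50, 847)) (.node 1 (.leaf (50, 848)) (.leaf (50, 849)))) (.node 1 (.leaf (49, 850)) (.node 1 (.leaf (50, 852)) (.leaf (50, 853)))))
(.node 3 (.node 1 (.leaf (50, 855)) (.node 1 (.leaf (48, 856)) (.leaf (50, 856)))) (.node 1 (.leaf (50, 858)) (.node 1 (.leaf (50, 859)) (.leaf (50, 869))))))))))
(.node 96 (.node 48 (.node 24 (.node 12 (.node 6 (.node 3 (.node 1 (.leaf (50, 871)) (.node 1 (.leaf (48, 872)) (.leaf (50, 876)))) (.node 1 (.leaf (50, 877)) (.node 1 (.leaf (50, 882)) (.leaf (49, 883)))))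
(.node 3 (.node 1 (.leaf (50, 884)) (.node 1 (.leaf (50, 885)) (.leaf (50, 888)))) (.node 1 (.leaf (48, 893)) (.node 1 (.leaf (49, 894)) (.leaf (50, 894))))))
(.node 6 (.node 3 (.node 1 (.leaf (48, 896)) (.node 1 (.leaf (49, 896)) (.leaf (50, 896)))) (.node 1 (.leaf (50, 897)) (.node 1 (.leaf (48, 900)) (.leaf (50, 902)))))
(.node 3 (.node 1 (.leaf (49, 904)) (.node 1 (.leaf (50, 907)) (.leaf (48, 909)))) (.node 1 (.leaf (49, 911)) (.node 1 (.leaf (49, 914)) (.leaf (49, 916)))))))
(.node 12 (.node 6 (.node 3 (.node 1 (.leaf (50, 922)) (.node 1 (.leaf (50, 923)) (.leaf (50, 924)))) (.node 1 (.leaf (50, 928)) (.node 1 (.leaf (50, 937)) (.leaf (48, 946)))))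
(.node 3 (.node 1 (.leaf (50, 951)) (.node 1 (.leaf (50, 956)) (.leaf (48, 962)))) (.node 1 (.leaf (48, 963)) (.node 1 (.leaf (48, 965)) (.leaf (49, 965))))))
(.node 6 (.node 3 (.node 1 (.leaf (49, 971)) (.node 1 (.leaf (48, 972)) (.leaf (49, 972)))) (.node 1 (.leaf (49, 974)) (.node 1 (.leaf (50, 979)) (.leaf (50, 980)))))
(.node 3 (.node 1 (.leaf (50, 985)) (.node 1 (.leaf (50, 988)) (.leaf (48, 998)))) (.node 1 (.leaf (49, 999)) (.node 1 (.leaf (49, 1005)) (.leaf (49, 1018))))))))
(.node 24 (.node 12 (.node 6 (.node 3 (.node 1 (.leaf (48, 1019)) (.node 1 (.leaf (48, 1021)) (.leaf (49, 1025)))) (.node 1 (.leaf (49, 1032)) (.node 1 (.leaf (48, 1033)) (.leaf (49, 1033)))))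
(.node 3 (.node 1 (.leaf (48, 1034)) (.node 1 (.leaf (50, 1036)) (.leaf (50, 1037)))) (.node 1 (.leaf (48, 1038)) (.node 1 (.leaf (48, 1039)) (.leaf (49, 1041))))))
(.node 6 (.node 3 (.node 1 (.leaf (48, 1042)) (.node 1 (.leaf (49, 1042)) (.leaf (49, 1043)))) (.node 1 (.leaf (48, 1044)) (.node 1 (.leaf (49, 1044)) (.leaf (50, 1045)))))
(.node 3 (.node 1 (.leaf (49, 1046)) (.node 1 (.leaf (50, 1046)) (.leaf (49, 1047)))) (.node 1 (.leaf (50, 1047)) (.node 1 (.leaf (50, 1049)) (.leaf (50, 1051)))))))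
(.node 12 (.node 6 (.node 3 (.node 1 (.leaf (48, 1052)) (.node 1 (.leaf (49, 1052)) (.leaf (49, 1053)))) (.node 1 (.leaf (48, 1056)) (.node 1 (.leaf (49, 1056)) (.leaf (48, 1058)))))
(.node 3 (.node 1 (.leaf (49, 1058)) (.node 1 (.leaf (50, 1062)) (.leaf (48, 1063)))) (.node 1 (.leaf (49, 1063)) (.node 1 (.leaf (49, 1064)) (.leaf (49, 1065))))))
(.node 6 (.node 3 (.node 1 (.leaf (48, 1066)) (.node 1 (.leaf (49, 1067)) (.leaf (49, 1068)))) (.node 1 (.leaf (48, 1069)) (.node 1 (.leaf (49, 1069)) (.leaf (48, 1070)))))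
(.node 3 (.node 1 (.leaf (48, 1072)) (.node 1 (.leaf (48, 1076)) (.leaf (49, 1079)))) (.node 1 (.leaf (48, 1080)) (.node 1 (.leaf (49, 1080)) (.leaf (49, 1082)))))))))
(.node 48 (.node 24 (.node 12 (.node 6 (.node 3 (.node 1 (.leaf (50, 1083)) (.node 1 (.leaf (48, 1084)) (.leaf (49, 1085)))) (.node 1 (.leaf (50, 1087)) (.node 1 (.leaf (48, 1088)) (.leaf (50, 1088)))))
(.node 3 (.node 1 (.leaf (48, 1099)) (.node 1 (.leaf (49, 1099)) (.leaf (50, 1099)))) (.node 1 (.leaf (50, 1101)) (.node 1 (.leaf (49, 1102)) (.leaf (48, 1104))))))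
(.node 6 (.node 3 (.node 1 (.leaf (49, 1105)) (.node 1 (.leaf (48, 1106)) (.leaf (49, 1106)))) (.node 1 (.leaf (50, 1107)) (.node 1 (.leaf (50, 1109)) (.leaf (49, 1114)))))
(.node 3 (.node 1 (.leaf (48, 1117)) (.node 1 (.leaf (49, 1117)) (.leaf (50, 1118)))) (.node 1 (.leaf (49, 1123)) (.node 1 (.leaf (48, 1126)) (.leaf (49, 1128)))))))
(.node 12 (.node 6 (.node 3 (.node 1 (.leaf (50, 1128)) (.node 1 (.leaf (48, 1130)) (.leaf (49, 1135)))) (.node 1 (.leaf (50, 1139)) (.node 1 (.leaf (49, 1140)) (.leaf (48, 1142)))))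
(.node 3 (.node 1 (.leaf (48, 1144)) (.node 1 (.leaf (49, 1144)) (.leaf (50, 1147)))) (.node 1 (.leaf (48, 1153)) (.node 1 (.leaf (49, 1153)) (.leaf (50, 1155))))))
(.node 6 (.node 3 (.node 1 (.leaf (50, 1156)) (.node 1 (.leaf (49, 1157)) (.leaf (50, 1159)))) (.node 1 (.leaf (49, 1160)) (.node 1 (.leaf (48, 1161)) (.leaf (50, 1162)))))
(.node 3 (.node 1 (.leaf (50, 1163)) (.node 1 (.leaf (50, 1170)) (.leaf (50, 1171)))) (.node 1 (.leaf (48, 1174)) (.node 1 (.leaf (48, 1181)) (.leaf (49, 1181))))))))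
(.node 24 (.node 12 (.node 6 (.node 3 (.node 1 (.leaf (50, 1182)) (.node 1 (.leaf (50, 1184)) (.leaf (48, 1185)))) (.node 1 (.leaf (50, 1186)) (.node 1 (.leaf (50, 1187)) (.leaf (50, 1188)))))
(.node 3 (.node 1 (.leaf (50, 1189)) (.node 1 (.leaf (48, 1192)) (.leaf (50, 1193)))) (.node 1 (.leaf (50, 1202)) (.node 1 (.leaf (50, 1209)) (.leaf (50, 1212))))))
(.node 6 (.node 3 (.node 1 (.leaf (50, 1221)) (.node 1 (.leaf (48, 1223)) (.leaf (49, 1223)))) (.node 1 (.leaf (50, 1244)) (.node 1 (.leaf (50, 1245)) (.leaf (50, 1246)))))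
(.node 3 (.node 1 (.leaf (50, 1249)) (.node 1 (.leaf (50, 1252)) (.leaf (49, 1277)))) (.node 1 (.leaf (49, 1279)) (.node 1 (.leaf (50, 1287)) (.leaf (48, 1296)))))))
(.node 12 (.node 6 (.node 3 (.node 1 (.leaf (49, 1297)) (.node 1 (.leaf (49, 1303)) (.leaf (49, 1314)))) (.node 1 (.leaf (49, 1317)) (.node 1 (.leaf (49, 1324)) (.leaf (50, 1358)))))
(.node 3 (.node 1 (.leaf (50, 1359)) (.node 1 (.leaf (48, 1375)) (.leaf (50, 1382)))) (.node 1 (.leaf (49, 1385)) (.node 1 (.leaf (50, 1397)) (.leaf (50, 1404))))))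
(.node 6 (.node 3 (.node 1 (.leaf (50, 1406)) (.node 1 (.leaf (50, 1408)) (.leaf (48, 1418)))) (.node 1 (.leaf (48, 1420)) (.node 1 (.leaf (48, 1426)) (.leaf (49, 1431)))))
(.node 3 (.node 1 (.leaf (50, 1436)) (.node 1 (.leaf (50, 1442)) (.leaf (50, 1444)))) (.node 1 (.leaf (48, 1445)) (.node 1 (.leaf (50, 1453)) (.leaf (49, 1468)))))))))))

/-- The reasons. -/
def caseCFullN4HowR : Tab (ℕ × ℕ) := .node 384 caseCFullN4HowRL caseCFullN4HowRR

/-- The reasons. -/
def caseCFullN4How : Tab (ℕ × ℕ) := .node 768 caseCFullN4HowL caseCFullN4HowR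

/-- The node. -/
def caseCFullN4Node : NodeD := ⟨4, 1536, caseCFullN4Els, caseCFullN4Ix, caseCFullN4How, fun b => bif b then (.node 7 (.node 3 (.node 1 (.leaf 31) (.node 1 (.leaf 7171) (.leaf 129)))
(.node 2 (.node 1 (.leaf 134) (.leaf 130)) (.node 1 (.leaf 133) (.leaf 127))))
(.node 3 (.node 1 (.leaf 126) (.node 1 (.leaf 124) (.leaf 132)))
(.node 2 (.node 1 (.leaf 128) (.leaf 125)) (.node 1 (.leaf 123) (.leaf 131))))) else (.node 7 (.node 3 (.node 1 (.leaf 293) (.node 1 (.leaf 292) (.leaf 61)))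
(.node 2 (.node 1 (.leaf 58) (.leaf 287)) (.node 1 (.leaf 289) (.leaf 63))))
(.node 3 (.node 1 (.leaf 64) (.node 1 (.leaf 290) (.leaf 291)))
(.node 2 (.node 1 (.leaf 62) (.leaf 60)) (.node 1 (.leaf 288) (.leaf 285)))))⟩

/-- The stabiliser. -/
def caseCFullN7Els : Tab ℕ :=
(.node 128 (.node 64 (.node 32 (.node 16 (.node 8 (.node 4 (.node 2 (.node 1 (.leaf 17043521) (.leaf 17651779)) (.node 1 (.leaf 17715281) (.leaf 17111123)))
(.node 2 (.node 1 (.leaf 17059911) (.leaf 17700947)) (.node 1 (.leaf 17584209) (.leaf 17635415))))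
(.node 4 (.node 2 (.node 1 (.leaf 17242195) (.leaf 17567809)) (.node 1 (.leaf 17782851) (.leaf 17698887)))
(.node 2 (.node 1 (.leaf 17717315) (.leaf 17127511)) (.node 1 (.leaf 17635397) (.leaf 17174615)))))
(.node 8 (.node 4 (.node 2 (.node 1 (.leaf 17127509) (.leaf 17043537)) (.node 1 (.leaf 17256529) (.leaf 17127491)))
(.node 2 (.node 1 (.leaf 17764417) (.leaf 17717335)) (.node 1 (.leaf 17698881) (.leaf 17567815))))
(.node 4 (.node 2 (.node 1 (.leaf 17059925) (.leaf 17193031)) (.node 1 (.leaf 17567813) (.leaf 17651795)))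
(.node 2 (.node 1 (.leaf 17586243) (.leaf 17174593)) (.node 1 (.leaf 17258583) (.leaf 17190993))))))
(.node 16 (.node 8 (.node 4 (.node 2 (.node 1 (.leaf 17635411) (.leaf 17584199)) (.node 1 (.leaf 17569875) (.leaf 17766487)))
(.node 2 (.node 1 (.leaf 17258565) (.leaf 17059927)) (.node 1 (.leaf 17766485) (.leaf 17715265))))
(.node 4 (.node 2 (.node 1 (.leaf 17240129) (.leaf 17780817)) (.node 1 (.leaf 17700951) (.leaf 17567829)))
(.node 2 (.node 1 (.leaf 17176647) (.leaf 17059909)) (.node 1 (.leaf 17111107) (.leaf 17193045)))))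
(.node 8 (.node 4 (.node 2 (.node 1 (.leaf 17567831) (.leaf 17651777)) (.node 1 (.leaf 17782869) (.leaf 17242181)))
(.node 2 (.node 1 (.leaf 17176645) (.leaf 17111105)) (.node 1 (.leaf 17109057) (.leaf 17193027))))
(.node 4 (.node 2 (.node 1 (.leaf 17240135) (.leaf 17176659)) (.node 1 (.leaf 17059921) (.leaf 17111127)))
(.node 2 (.node 1 (.leaf 17125457) (.leaf 17780807)) (.node 1 (.leaf 17240149) (.leaf 17635399)))))))
(.node 32 (.node 16 (.node 8 (.node 4 (.node 2 (.node 1 (.leaf 17780805) (.leaf 17700931)) (.node 1 (.leaf 17258563) (.leaf 17766483)))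
(.node 2 (.node 1 (.leaf 17715271) (.leaf 17127493)) (.node 1 (.leaf 17190999) (.leaf 17635413))))
(.node 4 (.node 2 (.node 1 (.leaf 17584193) (.leaf 17174597)) (.node 1 (.leaf 17127495) (.leaf 17043523)))
(.node 2 (.node 1 (.leaf 17764421) (.leaf 17256533)) (.node 1 (.leaf 17190997) (.leaf 17584195)))))
(.node 8 (.node 4 (.node 2 (.node 1 (.leaf 17649745) (.leaf 17569879)) (.node 1 (.leaf 17190983) (.leaf 17698901)))
(.node 2 (.node 1 (.leaf 17045575) (.leaf 17190981)) (.node 1 (.leaf 17242179) (.leaf 17174599))))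
(.node 4 (.node 2 (.node 1 (.leaf 17651799) (.leaf 17111109)) (.node 1 (.leaf 17698903) (.leaf 17651797)))
(.node 2 (.node 1 (.leaf 17567825) (.leaf 17633345)) (.node 1 (.leaf 17586263) (.leaf 17061959))))))
(.node 16 (.node 8 (.node 4 (.node 2 (.node 1 (.leaf 17698885) (.leaf 17782867)) (.node 1 (.leaf 17045589) (.leaf 17242193)))
(.node 2 (.node 1 (.leaf 17061957) (.leaf 17782865)) (.node 1 (.leaf 17256519) (.leaf 17764423))))
(.node 4 (.node 2 (.node 1 (.leaf 17717331) (.leaf 17584211)) (.node 1 (.leaf 17174613) (.leaf 17043539)))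
(.node 2 (.node 1 (.leaf 17764439) (.leaf 17176641)) (.node 1 (.leaf 17700945) (.leaf 17569861)))))
(.node 8 (.node 4 (.node 2 (.node 1 (.leaf 17766465) (.leaf 17586261)) (.node 1 (.leaf 17258561) (.leaf 17240151)))
(.node 2 (.node 1 (.leaf 17193025) (.leaf 17717329)) (.node 1 (.leaf 17045587) (.leaf 17125447))))
(.node 4 (.node 2 (.node 1 (.leaf 17176663) (.leaf 17717317)) (.node 1 (.leaf 17649751) (.leaf 17176661)))
(.node 2 (.node 1 (.leaf 17256513) (.leaf 17193047)) (.node 1 (.leaf 17043527) (.leaf 17584213))))))))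
(.node 64 (.node 32 (.node 16 (.node 8 (.node 4 (.node 2 (.node 1 (.leaf 17717319) (.leaf 17043525)) (.node 1 (.leaf 17127507) (.leaf 17061955)))
(.node 2 (.node 1 (.leaf 17109063) (.leaf 17633367)) (.node 1 (.leaf 17717333) (.leaf 17764433))))
(.node 4 (.node 2 (.node 1 (.leaf 17649733) (.leaf 17256531)) (.node 1 (.leaf 17633365) (.leaf 17764435)))
(.node 2 (.node 1 (.leaf 17242199) (.leaf 17782871)) (.node 1 (.leaf 17698897) (.leaf 17111121)))))
(.node 8 (.node 4 (.node 2 (.node 1 (.leaf 17193029) (.leaf 17651793)) (.node 1 (.leaf 17782855) (.leaf 17190979)))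
(.node 2 (.node 1 (.leaf 17715283) (.leaf 17125461)) (.node 1 (.leaf 17780803) (.leaf 17109061))))
(.node 4 (.node 2 (.node 1 (.leaf 17240131) (.leaf 17258567)) (.node 1 (.leaf 17174595) (.leaf 17698899)))
(.node 2 (.node 1 (.leaf 17633351) (.leaf 17633349)) (.node 1 (.leaf 17586259) (.leaf 17766469))))))
(.node 16 (.node 8 (.node 4 (.node 2 (.node 1 (.leaf 17043543) (.leaf 17258581)) (.node 1 (.leaf 17174609) (.leaf 17766471)))
(.node 2 (.node 1 (.leaf 17109077) (.leaf 17043541)) (.node 1 (.leaf 17174611) (.leaf 17782853))))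
(.node 4 (.node 2 (.node 1 (.leaf 17584215) (.leaf 17242197)) (.node 1 (.leaf 17190977) (.leaf 17700935)))
(.node 2 (.node 1 (.leaf 17584197) (.leaf 17635395)) (.node 1 (.leaf 17127489) (.leaf 17700933)))))
(.node 8 (.node 4 (.node 2 (.node 1 (.leaf 17635393) (.leaf 17649735)) (.node 1 (.leaf 17569859) (.leaf 17715267)))
(.node 2 (.node 1 (.leaf 17061969) (.leaf 17586241)) (.node 1 (.leaf 17125463) (.leaf 17045585))))
(.node 4 (.node 2 (.node 1 (.leaf 17569857) (.leaf 17109079)) (.node 1 (.leaf 17240145) (.leaf 17700949)))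
(.node 2 (.node 1 (.leaf 17780801) (.leaf 17698883)) (.node 1 (.leaf 17242183) (.leaf 17190995)))))))
(.node 32 (.node 16 (.node 8 (.node 4 (.node 2 (.node 1 (.leaf 17240147) (.leaf 17764419)) (.node 1 (.leaf 17061975) (.leaf 17061973)))
(.node 2 (.node 1 (.leaf 17109073) (.leaf 17780821)) (.node 1 (.leaf 17651783) (.leaf 17240133))))
(.node 4 (.node 2 (.node 1 (.leaf 17193043) (.leaf 17780823)) (.node 1 (.leaf 17586245) (.leaf 17651781)))
(.node 2 (.node 1 (.leaf 17193041) (.leaf 17764437)) (.node 1 (.leaf 17111111) (.leaf 17256517)))))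
(.node 8 (.node 4 (.node 2 (.node 1 (.leaf 17176643) (.leaf 17715287)) (.node 1 (.leaf 17111125) (.leaf 17059905)))
(.node 2 (.node 1 (.leaf 17567811) (.leaf 17715285)) (.node 1 (.leaf 17059907) (.leaf 17045591))))
(.node 4 (.node 2 (.node 1 (.leaf 17125441) (.leaf 17700929)) (.node 1 (.leaf 17633363) (.leaf 17109059)))
(.node 2 (.node 1 (.leaf 17569863) (.leaf 17649747)) (.node 1 (.leaf 17125443) (.leaf 17586247))))))
(.node 16 (.node 8 (.node 4 (.node 2 (.node 1 (.leaf 17258579) (.leaf 17715269)) (.node 1 (.leaf 17766467) (.leaf 17717313)))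
(.node 2 (.node 1 (.leaf 17256535) (.leaf 17176657)) (.node 1 (.leaf 17258577) (.leaf 17782849))))
(.node 4 (.node 2 (.node 1 (.leaf 17569877) (.leaf 17649729)) (.node 1 (.leaf 17649731) (.leaf 17045573)))
(.node 2 (.node 1 (.leaf 17242177) (.leaf 17125459)) (.node 1 (.leaf 17059923) (.leaf 17766481)))))
(.node 8 (.node 4 (.node 2 (.node 1 (.leaf 17567827) (.leaf 17633361)) (.node 1 (.leaf 17125445) (.leaf 17045571)))
(.node 2 (.node 1 (.leaf 17045569) (.leaf 17649749)) (.node 1 (.leaf 17256515) (.leaf 17569873))))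
(.node 4 (.node 2 (.node 1 (.leaf 17635409) (.leaf 17780819)) (.node 1 (.leaf 17127505) (.leaf 17061971)))
(.node 2 (.node 1 (.leaf 17586257) (.leaf 17061953)) (.node 1 (.leaf 17109075) (.leaf 17633347)))))))))

/-- Its index. -/
def caseCFullN7Ix : BT ℕ :=
(.node 17567809 9
(.node 17174593 29
(.node 17109057 54
(.node 17059905 211
(.node 17045569 244
(.node 17043537 17
(.node 17043525 129 (.node 17043523 75 (.node 17043521 0 .tip .tip) .tip) (.node 17043527 126 .tip .tip))
(.node 17043541 165 (.node 17043539 107 .tip .tip) (.node 17043543 160 .tip .tip)))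
(.node 17045585 183
(.node 17045573 235 (.node 17045571 243 .tip .tip) (.node 17045575 84 .tip .tip))
(.node 17045589 98 (.node 17045587 118 .tip .tip) (.node 17045591 215 .tip .tip))))
(.node 17061953 253
(.node 17059921 58
(.node 17059909 45 (.node 17059907 214 .tip .tip) (.node 17059911 4 .tip .tip))
(.node 17059925 24 (.node 17059923 238 .tip .tip) (.node 17059927 37 .tip .tip)))
(.node 17061969 180
(.node 17061957 100 (.node 17061955 131 .tip .tip) (.node 17061959 95 .tip .tip))
(.node 17061973 195 (.node 17061971 251 .tip .tip) (.node 17061975 194 .tip .tip)))))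
(.node 17125441 216
(.node 17111105 53
(.node 17109073 196
(.node 17109061 151 (.node 17109059 219 .tip .tip) (.node 17109063 132 .tip .tip))
(.node 17109077 164 (.node 17109075 254 .tip .tip) (.node 17109079 185 .tip .tip)))
(.node 17111121 143
(.node 17111109 89 (.node 17111107 46 .tip .tip) (.node 17111111 206 .tip .tip))
(.node 17111125 210 (.node 17111123 3 .tip .tip) (.node 17111127 59 .tip .tip))))
(.node 17127489 174
(.node 17125457 60
(.node 17125445 242 (.node 17125443 222 .tip .tip) (.node 17125447 119 .tip .tip))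
(.node 17125461 149 (.node 17125459 237 .tip .tip) (.node 17125463 182 .tip .tip)))
(.node 17127505 250
(.node 17127493 69 (.node 17127491 19 .tip .tip) (.node 17127495 74 .tip .tip))
(.node 17127509 16 (.node 17127507 130 .tip .tip) (.node 17127511 13 .tip .tip))))))
(.node 17240129 40
(.node 17190977 170
(.node 17176641 109
(.node 17174609 162
(.node 17174597 73 (.node 17174595 154 .tip .tip) (.node 17174599 87 .tip .tip))
(.node 17174613 106 (.node 17174611 166 .tip .tip) (.node 17174615 15 .tip .tip)))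
(.node 17176657 229
(.node 17176645 52 (.node 17176643 208 .tip .tip) (.node 17176647 44 .tip .tip))
(.node 17176661 123 (.node 17176659 57 .tip .tip) (.node 17176663 120 .tip .tip))))
(.node 17193025 116
(.node 17190993 31
(.node 17190981 85 (.node 17190979 147 .tip .tip) (.node 17190983 82 .tip .tip))
(.node 17190997 78 (.node 17190995 191 .tip .tip) (.node 17190999 70 .tip .tip)))
(.node 17193041 204
(.node 17193029 144 (.node 17193027 55 .tip .tip) (.node 17193031 25 .tip .tip))
(.node 17193045 47 (.node 17193043 200 .tip .tip) (.node 17193047 125 .tip .tip)))))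
(.node 17256513 124
(.node 17242177 236
(.node 17240145 186
(.node 17240133 199 (.node 17240131 152 .tip .tip) (.node 17240135 56 .tip .tip))
(.node 17240149 62 (.node 17240147 192 .tip .tip) (.node 17240151 115 .tip .tip)))
(.node 17242193 99
(.node 17242181 51 (.node 17242179 86 .tip .tip) (.node 17242183 190 .tip .tip))
(.node 17242197 169 (.node 17242195 8 .tip .tip) (.node 17242199 140 .tip .tip))))
(.node 17258561 114
(.node 17256529 18
(.node 17256517 207 (.node 17256515 246 .tip .tip) (.node 17256519 102 .tip .tip))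
(.node 17256533 77 (.node 17256531 137 .tip .tip) (.node 17256535 228 .tip .tip)))
(.node 17258577 230
(.node 17258565 36 (.node 17258563 66 .tip .tip) (.node 17258567 153 .tip .tip))
(.node 17258581 161 (.node 17258579 224 .tip .tip) (.node 17258583 30 .tip .tip)))))))
(.node 17698881 22
(.node 17633345 93
(.node 17584193 72
(.node 17569857 184
(.node 17567825 92
(.node 17567813 26 (.node 17567811 212 .tip .tip) (.node 17567815 23 .tip .tip))
(.node 17567829 43 (.node 17567827 240 .tip .tip) (.node 17567831 48 .tip .tip)))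
(.node 17569873 247
(.node 17569861 111 (.node 17569859 178 .tip .tip) (.node 17569863 220 .tip .tip))
(.node 17569877 232 (.node 17569875 34 .tip .tip) (.node 17569879 81 .tip .tip))))
(.node 17586241 181
(.node 17584209 6
(.node 17584197 172 (.node 17584195 79 .tip .tip) (.node 17584199 33 .tip .tip))
(.node 17584213 127 (.node 17584211 105 .tip .tip) (.node 17584215 168 .tip .tip)))
(.node 17586257 252
(.node 17586245 202 (.node 17586243 28 .tip .tip) (.node 17586247 223 .tip .tip))
(.node 17586261 113 (.node 17586259 158 .tip .tip) (.node 17586263 94 .tip .tip)))))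
(.node 17649729 233
(.node 17635393 176
(.node 17633361 241
(.node 17633349 157 (.node 17633347 255 .tip .tip) (.node 17633351 156 .tip .tip))
(.node 17633365 138 (.node 17633363 218 .tip .tip) (.node 17633367 133 .tip .tip)))
(.node 17635409 248
(.node 17635397 14 (.node 17635395 173 .tip .tip) (.node 17635399 63 .tip .tip))
(.node 17635413 71 (.node 17635411 32 .tip .tip) (.node 17635415 7 .tip .tip))))
(.node 17651777 49
(.node 17649745 80
(.node 17649733 136 (.node 17649731 234 .tip .tip) (.node 17649735 177 .tip .tip))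
(.node 17649749 245 (.node 17649747 221 .tip .tip) (.node 17649751 122 .tip .tip)))
(.node 17651793 145
(.node 17651781 203 (.node 17651779 1 .tip .tip) (.node 17651783 198 .tip .tip))
(.node 17651797 91 (.node 17651795 27 .tip .tip) (.node 17651799 88 .tip .tip))))))
(.node 17764417 20
(.node 17715265 39
(.node 17700929 217
(.node 17698897 142
(.node 17698885 96 (.node 17698883 189 .tip .tip) (.node 17698887 11 .tip .tip))
(.node 17698901 83 (.node 17698899 155 .tip .tip) (.node 17698903 90 .tip .tip)))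
(.node 17700945 110
(.node 17700933 175 (.node 17700931 65 .tip .tip) (.node 17700935 171 .tip .tip))
(.node 17700949 187 (.node 17700947 5 .tip .tip) (.node 17700951 42 .tip .tip))))
(.node 17717313 227
(.node 17715281 2
(.node 17715269 225 (.node 17715267 179 .tip .tip) (.node 17715271 68 .tip .tip))
(.node 17715285 213 (.node 17715283 148 .tip .tip) (.node 17715287 209 .tip .tip)))
(.node 17717329 117
(.node 17717317 121 (.node 17717315 12 .tip .tip) (.node 17717319 128 .tip .tip))
(.node 17717333 134 (.node 17717331 104 .tip .tip) (.node 17717335 21 .tip .tip)))))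
(.node 17780801 188
(.node 17766465 112
(.node 17764433 135
(.node 17764421 76 (.node 17764419 193 .tip .tip) (.node 17764423 103 .tip .tip))
(.node 17764437 205 (.node 17764435 139 .tip .tip) (.node 17764439 108 .tip .tip)))
(.node 17766481 239
(.node 17766469 159 (.node 17766467 226 .tip .tip) (.node 17766471 163 .tip .tip))
(.node 17766485 38 (.node 17766483 67 .tip .tip) (.node 17766487 35 .tip .tip))))
(.node 17782849 231
(.node 17780817 41
(.node 17780805 64 (.node 17780803 150 .tip .tip) (.node 17780807 61 .tip .tip))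
(.node 17780821 197 (.node 17780819 249 .tip .tip) (.node 17780823 201 .tip .tip)))
(.node 17782865 101
(.node 17782853 167 (.node 17782851 10 .tip .tip) (.node 17782855 146 .tip .tip))
(.node 17782869 50 (.node 17782867 97 .tip .tip) (.node 17782871 141 .tip .tip))))))))

/-- The reasons. -/
def caseCFullN7How : Tab (ℕ × ℕ) :=
(.node 128 (.node 64 (.node 32 (.node 16 (.node 8 (.node 4 (.node 2 (.node 1 (.leaf (0, 0)) (.leaf (69, 0))) (.node 1 (.leaf (70, 0)) (.leaf (71, 0))))
(.node 2 (.node 1 (.leaf (72, 0)) (.leaf (70, 1))) (.node 1 (.leaf (71, 1)) (.leaf (72, 1)))))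
(.node 4 (.node 2 (.node 1 (.leaf (69, 2)) (.leaf (70, 2))) (.node 1 (.leaf (71, 2)) (.leaf (72, 2))))
(.node 2 (.node 1 (.leaf (70, 3)) (.leaf (72, 3))) (.node 1 (.leaf (69, 4)) (.leaf (70, 4))))))
(.node 8 (.node 4 (.node 2 (.node 1 (.leaf (71, 4)) (.leaf (72, 4))) (.node 1 (.leaf (69, 5)) (.leaf (70, 5))))
(.node 2 (.node 1 (.leaf (71, 5)) (.leaf (72, 5))) (.node 1 (.leaf (70, 6)) (.leaf (72, 6)))))
(.node 4 (.node 2 (.node 1 (.leaf (69, 7)) (.leaf (70, 7))) (.node 1 (.leaf (71, 7)) (.leaf (72, 7))))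
(.node 2 (.node 1 (.leaf (70, 8)) (.leaf (71, 8))) (.node 1 (.leaf (72, 8)) (.leaf (70, 9)))))))
(.node 16 (.node 8 (.node 4 (.node 2 (.node 1 (.leaf (71, 9)) (.leaf (72, 9))) (.node 1 (.leaf (70, 10)) (.leaf (72, 10))))
(.node 2 (.node 1 (.leaf (69, 11)) (.leaf (70, 11))) (.node 1 (.leaf (71, 11)) (.leaf (72, 11)))))
(.node 4 (.node 2 (.node 1 (.leaf (69, 12)) (.leaf (71, 12))) (.node 1 (.leaf (72, 12)) (.leaf (69, 13))))
(.node 2 (.node 1 (.leaf (70, 13)) (.leaf (71, 13))) (.node 1 (.leaf (72, 13)) (.leaf (70, 14))))))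
(.node 8 (.node 4 (.node 2 (.node 1 (.leaf (71, 14)) (.leaf (72, 14))) (.node 1 (.leaf (69, 15)) (.leaf (71, 15))))
(.node 2 (.node 1 (.leaf (70, 16)) (.leaf (72, 16))) (.node 1 (.leaf (70, 18)) (.leaf (71, 18)))))
(.node 4 (.node 2 (.node 1 (.leaf (72, 18)) (.leaf (70, 19))) (.node 1 (.leaf (71, 19)) (.leaf (72, 19))))
(.node 2 (.node 1 (.leaf (70, 20)) (.leaf (72, 20))) (.node 1 (.leaf (69, 21)) (.leaf (70, 21))))))))
(.node 32 (.node 16 (.node 8 (.node 4 (.node 2 (.node 1 (.leaf (71, 21)) (.leaf (72, 21))) (.node 1 (.leaf (69, 22)) (.leaf (71, 22))))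
(.node 2 (.node 1 (.leaf (72, 22)) (.leaf (69, 23))) (.node 1 (.leaf (70, 23)) (.leaf (71, 23)))))
(.node 4 (.node 2 (.node 1 (.leaf (72, 23)) (.leaf (70, 24))) (.node 1 (.leaf (71, 24)) (.leaf (72, 24))))
(.node 2 (.node 1 (.leaf (69, 25)) (.leaf (71, 25))) (.node 1 (.leaf (70, 26)) (.leaf (72, 26))))))
(.node 8 (.node 4 (.node 2 (.node 1 (.leaf (71, 28)) (.leaf (72, 28))) (.node 1 (.leaf (72, 29)) (.leaf (69, 30))))
(.node 2 (.node 1 (.leaf (70, 30)) (.leaf (71, 30))) (.node 1 (.leaf (72, 30)) (.leaf (72, 31)))))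
(.node 4 (.node 2 (.node 1 (.leaf (72, 32)) (.leaf (69, 33))) (.node 1 (.leaf (70, 33)) (.leaf (71, 33))))
(.node 2 (.node 1 (.leaf (72, 33)) (.leaf (71, 34))) (.node 1 (.leaf (72, 34)) (.leaf (70, 35)))))))
(.node 16 (.node 8 (.node 4 (.node 2 (.node 1 (.leaf (71, 35)) (.leaf (72, 35))) (.node 1 (.leaf (70, 36)) (.leaf (72, 36))))
(.node 2 (.node 1 (.leaf (70, 38)) (.leaf (72, 38))) (.node 1 (.leaf (72, 40)) (.leaf (72, 41)))))
(.node 4 (.node 2 (.node 1 (.leaf (72, 42)) (.leaf (72, 43))) (.node 1 (.leaf (70, 45)) (.leaf (72, 45))))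
(.node 2 (.node 1 (.leaf (69, 47)) (.leaf (72, 47))) (.node 1 (.leaf (70, 49)) (.leaf (70, 50))))))
(.node 8 (.node 4 (.node 2 (.node 1 (.leaf (72, 50)) (.leaf (70, 51))) (.node 1 (.leaf (72, 51)) (.leaf (71, 52))))
(.node 2 (.node 1 (.leaf (72, 52)) (.leaf (70, 53))) (.node 1 (.leaf (71, 54)) (.leaf (72, 54)))))
(.node 4 (.node 2 (.node 1 (.leaf (72, 55)) (.leaf (69, 56))) (.node 1 (.leaf (70, 56)) (.leaf (71, 56))))
(.node 2 (.node 1 (.leaf (72, 56)) (.leaf (72, 57))) (.node 1 (.leaf (72, 58)) (.leaf (69, 59)))))))))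
(.node 64 (.node 32 (.node 16 (.node 8 (.node 4 (.node 2 (.node 1 (.leaf (70, 59)) (.leaf (71, 59))) (.node 1 (.leaf (72, 59)) (.leaf (71, 60))))
(.node 2 (.node 1 (.leaf (72, 60)) (.leaf (70, 61))) (.node 1 (.leaf (71, 61)) (.leaf (72, 61)))))
(.node 4 (.node 2 (.node 1 (.leaf (70, 62)) (.leaf (72, 62))) (.node 1 (.leaf (70, 64)) (.leaf (72, 64))))
(.node 2 (.node 1 (.leaf (72, 66)) (.leaf (72, 67))) (.node 1 (.leaf (72, 68)) (.leaf (72, 69))))))
(.node 8 (.node 4 (.node 2 (.node 1 (.leaf (70, 71)) (.leaf (72, 71))) (.node 1 (.leaf (69, 73)) (.leaf (72, 73))))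
(.node 2 (.node 1 (.leaf (70, 75)) (.leaf (70, 76))) (.node 1 (.leaf (72, 76)) (.leaf (70, 77)))))
(.node 4 (.node 2 (.node 1 (.leaf (72, 77)) (.leaf (71, 78))) (.node 1 (.leaf (72, 78)) (.leaf (70, 79))))
(.node 2 (.node 1 (.leaf (72, 80)) (.leaf (71, 81))) (.node 1 (.leaf (72, 81)) (.leaf (69, 82)))))))
(.node 16 (.node 8 (.node 4 (.node 2 (.node 1 (.leaf (70, 82)) (.leaf (71, 82))) (.node 1 (.leaf (72, 82)) (.leaf (71, 83))))
(.node 2 (.node 1 (.leaf (71, 84)) (.leaf (70, 85))) (.node 1 (.leaf (72, 85)) (.leaf (69, 87)))))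
(.node 4 (.node 2 (.node 1 (.leaf (70, 87)) (.leaf (71, 87))) (.node 1 (.leaf (72, 87)) (.leaf (70, 88))))
(.node 2 (.node 1 (.leaf (71, 88)) (.leaf (72, 88))) (.node 1 (.leaf (72, 89)) (.leaf (70, 91))))))
(.node 8 (.node 4 (.node 2 (.node 1 (.leaf (72, 91)) (.leaf (72, 93))) (.node 1 (.leaf (72, 94)) (.leaf (72, 96))))
(.node 2 (.node 1 (.leaf (72, 98)) (.leaf (70, 99))) (.node 1 (.leaf (71, 100)) (.leaf (72, 100)))))
(.node 4 (.node 2 (.node 1 (.leaf (70, 101)) (.leaf (70, 102))) (.node 1 (.leaf (72, 102)) (.leaf (71, 103))))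
(.node 2 (.node 1 (.leaf (72, 103)) (.leaf (70, 105))) (.node 1 (.leaf (71, 106)) (.leaf (72, 106))))))))
(.node 32 (.node 16 (.node 8 (.node 4 (.node 2 (.node 1 (.leaf (71, 109)) (.leaf (71, 110))) (.node 1 (.leaf (72, 118)) (.leaf (71, 119))))
(.node 2 (.node 1 (.leaf (72, 119)) (.leaf (69, 120))) (.node 1 (.leaf (70, 120)) (.leaf (71, 120)))))
(.node 4 (.node 2 (.node 1 (.leaf (72, 120)) (.leaf (71, 121))) (.node 1 (.leaf (71, 122)) (.leaf (70, 123))))
(.node 2 (.node 1 (.leaf (72, 123)) (.leaf (69, 125))) (.node 1 (.leaf (70, 125)) (.leaf (71, 125))))))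
(.node 8 (.node 4 (.node 2 (.node 1 (.leaf (72, 125)) (.leaf (70, 126))) (.node 1 (.leaf (71, 126)) (.leaf (72, 126))))
(.node 2 (.node 1 (.leaf (72, 127)) (.leaf (70, 129))) (.node 1 (.leaf (72, 129)) (.leaf (72, 131)))))
(.node 4 (.node 2 (.node 1 (.leaf (72, 132)) (.leaf (72, 134))) (.node 1 (.leaf (72, 136)) (.leaf (70, 137))))
(.node 2 (.node 1 (.leaf (71, 138)) (.leaf (72, 138))) (.node 1 (.leaf (70, 139)) (.leaf (70, 140)))))))
(.node 16 (.node 8 (.node 4 (.node 2 (.node 1 (.leaf (72, 140)) (.leaf (71, 141))) (.node 1 (.leaf (72, 141)) (.leaf (70, 143))))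
(.node 2 (.node 1 (.leaf (71, 144)) (.leaf (72, 144))) (.node 1 (.leaf (71, 147)) (.leaf (71, 148)))))
(.node 4 (.node 2 (.node 1 (.leaf (71, 156)) (.leaf (72, 156))) (.node 1 (.leaf (72, 157)) (.leaf (70, 161))))
(.node 2 (.node 1 (.leaf (72, 161)) (.leaf (72, 164))) (.node 1 (.leaf (72, 165)) (.leaf (72, 167))))))
(.node 8 (.node 4 (.node 2 (.node 1 (.leaf (72, 172)) (.leaf (72, 177))) (.node 1 (.leaf (71, 194)) (.leaf (72, 194))))
(.node 2 (.node 1 (.leaf (72, 195)) (.leaf (70, 199))) (.node 1 (.leaf (72, 199)) (.leaf (72, 202)))))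
(.node 4 (.node 2 (.node 1 (.leaf (72, 203)) (.leaf (72, 205))) (.node 1 (.leaf (72, 210)) (.leaf (72, 215))))
(.node 2 (.node 1 (.leaf (72, 232)) (.leaf (72, 235))) (.node 1 (.leaf (72, 242)) (.leaf (72, 245))))))))))

/-- The node. -/
def caseCFullN7Node : NodeD := ⟨7, 256, caseCFullN7Els, caseCFullN7Ix, caseCFullN7How, fun b => bif b then (.node 7 (.node 3 (.node 1 (.leaf 101) (.node 1 (.leaf 100) (.leaf 7177)))
(.node 2 (.node 1 (.leaf 7178) (.leaf 102)) (.node 1 (.leaf 98) (.leaf 279))))
(.node 3 (.node 1 (.leaf 281) (.node 1 (.leaf 276) (.leaf 274)))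
(.node 2 (.node 1 (.leaf 277) (.leaf 275)) (.node 1 (.leaf 278) (.leaf 280))))) else (.node 7 (.node 3 (.node 1 (.leaf 7176) (.node 1 (.leaf 7174) (.leaf 405)))
(.node 2 (.node 1 (.leaf 408) (.leaf 406)) (.node 1 (.leaf 402) (.leaf 59))))
(.node 3 (.node 1 (.leaf 7175) (.node 1 (.leaf 7173) (.leaf 7172)))
(.node 2 (.node 1 (.leaf 407) (.leaf 404)) (.node 1 (.leaf 409) (.leaf 410)))))⟩

/-- The stabiliser. -/
def caseCFullN13Els : Tab ℕ :=
(.node 64 (.node 32 (.node 16 (.node 8 (.node 4 (.node 2 (.node 1 (.leaf 17043521) (.leaf 17061953)) (.node 1 (.leaf 17061955) (.leaf 17109075)))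
(.node 2 (.node 1 (.leaf 17059907) (.leaf 17635395)) (.node 1 (.leaf 17045585) (.leaf 19097683))))
(.node 4 (.node 2 (.node 1 (.leaf 17043523) (.leaf 17127507)) (.node 1 (.leaf 17045571) (.leaf 17649731)))
(.node 2 (.node 1 (.leaf 17059921) (.leaf 19556435)) (.node 1 (.leaf 17127505) (.leaf 17045569)))))
(.node 8 (.node 4 (.node 2 (.node 1 (.leaf 17649729) (.leaf 17059923)) (.node 1 (.leaf 19556433) (.leaf 17125457)))
(.node 2 (.node 1 (.leaf 17569873) (.leaf 17111107)) (.node 1 (.leaf 19095617) (.leaf 17651777))))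
(.node 4 (.node 2 (.node 1 (.leaf 17061971) (.leaf 19621969)) (.node 1 (.leaf 17633363) (.leaf 19013713)))
(.node 2 (.node 1 (.leaf 19032131) (.leaf 19081299)) (.node 1 (.leaf 19081297) (.leaf 19079249))))))
(.node 16 (.node 8 (.node 4 (.node 2 (.node 1 (.leaf 19619921) (.leaf 17586243)) (.node 1 (.leaf 17109073) (.leaf 17059905)))
(.node 2 (.node 1 (.leaf 17635393) (.leaf 17045587)) (.node 1 (.leaf 19097681) (.leaf 17111121))))
(.node 4 (.node 2 (.node 1 (.leaf 17584209) (.leaf 17125443)) (.node 1 (.leaf 19554369) (.leaf 17633345)))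
(.node 2 (.node 1 (.leaf 17043539) (.leaf 19032145)) (.node 1 (.leaf 17651795) (.leaf 19603537)))))
(.node 8 (.node 4 (.node 2 (.node 1 (.leaf 19621955) (.leaf 19540051)) (.node 1 (.leaf 19540049) (.leaf 19538001)))
(.node 2 (.node 1 (.leaf 19030097) (.leaf 17567811)) (.node 1 (.leaf 17111123) (.leaf 17584211))))
(.node 4 (.node 2 (.node 1 (.leaf 17125441) (.leaf 19554371)) (.node 1 (.leaf 17633347) (.leaf 17043537)))
(.node 2 (.node 1 (.leaf 19032147) (.leaf 17651793)) (.node 1 (.leaf 19603539) (.leaf 19621953)))))))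
(.node 32 (.node 16 (.node 8 (.node 4 (.node 2 (.node 1 (.leaf 19538003) (.leaf 19030099)) (.node 1 (.leaf 17567809) (.leaf 17586259)))
(.node 2 (.node 1 (.leaf 17127489) (.leaf 19619907)) (.node 1 (.leaf 19015747) (.leaf 19079233))))
(.node 4 (.node 2 (.node 1 (.leaf 19079235) (.leaf 19081283)) (.node 1 (.leaf 17649745) (.leaf 19556417)))
(.node 2 (.node 1 (.leaf 19605585) (.leaf 19605587)) (.node 1 (.leaf 19095635) (.leaf 17569857)))))
(.node 8 (.node 4 (.node 2 (.node 1 (.leaf 19015745) (.leaf 19013697)) (.node 1 (.leaf 19095633) (.leaf 17125459)))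
(.node 2 (.node 1 (.leaf 17569875) (.leaf 17111105)) (.node 1 (.leaf 19095619) (.leaf 17651779))))
(.node 4 (.node 2 (.node 1 (.leaf 17061969) (.leaf 19621971)) (.node 1 (.leaf 17633361) (.leaf 19013715)))
(.node 2 (.node 1 (.leaf 19032129) (.leaf 19079251)) (.node 1 (.leaf 19619923) (.leaf 17586241))))))
(.node 16 (.node 8 (.node 4 (.node 2 (.node 1 (.leaf 17567827) (.leaf 17109057)) (.node 1 (.leaf 19030083) (.leaf 19605571)))
(.node 2 (.node 1 (.leaf 19537985) (.leaf 19537987)) (.node 1 (.leaf 19540035) (.leaf 17635409))))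
(.node 4 (.node 2 (.node 1 (.leaf 19097665) (.leaf 19015761)) (.node 1 (.leaf 19015763) (.leaf 19554387)))
(.node 2 (.node 1 (.leaf 17584193) (.leaf 19605569)) (.node 1 (.leaf 19603521) (.leaf 19554385)))))
(.node 8 (.node 4 (.node 2 (.node 1 (.leaf 17567825) (.leaf 17109059)) (.node 1 (.leaf 19030081) (.leaf 19540033)))
(.node 2 (.node 1 (.leaf 17635411) (.leaf 19097667)) (.node 1 (.leaf 17584195) (.leaf 19603523))))
(.node 4 (.node 2 (.node 1 (.leaf 17586257) (.leaf 17127491)) (.node 1 (.leaf 19619905) (.leaf 19081281)))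
(.node 2 (.node 1 (.leaf 17649747) (.leaf 19556419)) (.node 1 (.leaf 17569859) (.leaf 19013699))))))))

/-- Its index. -/
def caseCFullN13Ix : BT ℕ :=
(.node 19013697 81
(.node 17567809 66
(.node 17109057 97
(.node 17059905 35
(.node 17045569 15
(.node 17043537 59 (.node 17043523 8 (.node 17043521 0 .tip .tip) .tip) (.node 17043539 44 .tip .tip))
(.node 17045585 6 (.node 17045571 10 .tip .tip) (.node 17045587 37 .tip .tip)))
(.node 17061953 1
(.node 17059921 12 (.node 17059907 4 .tip .tip) (.node 17059923 17 .tip .tip))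
(.node 17061969 88 (.node 17061955 2 .tip .tip) (.node 17061971 24 .tip .tip))))
(.node 17125441 56
(.node 17111105 85
(.node 17109073 34 (.node 17109059 113 .tip .tip) (.node 17109075 3 .tip .tip))
(.node 17111121 39 (.node 17111107 21 .tip .tip) (.node 17111123 54 .tip .tip)))
(.node 17127489 68
(.node 17125457 19 (.node 17125443 41 .tip .tip) (.node 17125459 83 .tip .tip))
(.node 17127505 14 (.node 17127491 121 .tip .tip) (.node 17127507 9 .tip .tip)))))
(.node 17633345 43
(.node 17584193 108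
(.node 17569857 79
(.node 17567825 112 (.node 17567811 53 .tip .tip) (.node 17567827 96 .tip .tip))
(.node 17569873 20 (.node 17569859 126 .tip .tip) (.node 17569875 84 .tip .tip)))
(.node 17586241 95
(.node 17584209 40 (.node 17584195 118 .tip .tip) (.node 17584211 55 .tip .tip))
(.node 17586257 120 (.node 17586243 33 .tip .tip) (.node 17586259 67 .tip .tip))))
(.node 17649729 16
(.node 17635393 36
(.node 17633361 90 (.node 17633347 58 .tip .tip) (.node 17633363 26 .tip .tip))
(.node 17635409 103 (.node 17635395 5 .tip .tip) (.node 17635411 116 .tip .tip)))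
(.node 17651777 23
(.node 17649745 74 (.node 17649731 11 .tip .tip) (.node 17649747 124 .tip .tip))
(.node 17651793 61 (.node 17651779 87 .tip .tip) (.node 17651795 46 .tip .tip))))))
(.node 19537985 100
(.node 19079233 71
(.node 19030081 114
(.node 19015745 80
(.node 19013713 27 (.node 19013699 127 .tip .tip) (.node 19013715 91 .tip .tip))
(.node 19015761 105 (.node 19015747 70 .tip .tip) (.node 19015763 106 .tip .tip)))
(.node 19032129 92
(.node 19030097 52 (.node 19030083 98 .tip .tip) (.node 19030099 65 .tip .tip))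
(.node 19032145 45 (.node 19032131 28 .tip .tip) (.node 19032147 60 .tip .tip))))
(.node 19095617 22
(.node 19081281 123
(.node 19079249 31 (.node 19079235 72 .tip .tip) (.node 19079251 93 .tip .tip))
(.node 19081297 30 (.node 19081283 73 .tip .tip) (.node 19081299 29 .tip .tip)))
(.node 19097665 104
(.node 19095633 82 (.node 19095619 86 .tip .tip) (.node 19095635 78 .tip .tip))
(.node 19097681 38 (.node 19097667 117 .tip .tip) (.node 19097683 7 .tip .tip)))))
(.node 19603521 110
(.node 19554369 42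
(.node 19540033 115
(.node 19538001 51 (.node 19537987 101 .tip .tip) (.node 19538003 64 .tip .tip))
(.node 19540049 50 (.node 19540035 102 .tip .tip) (.node 19540051 49 .tip .tip)))
(.node 19556417 75
(.node 19554385 111 (.node 19554371 57 .tip .tip) (.node 19554387 107 .tip .tip))
(.node 19556433 18 (.node 19556419 125 .tip .tip) (.node 19556435 13 .tip .tip))))
(.node 19619905 122
(.node 19605569 109
(.node 19603537 47 (.node 19603523 119 .tip .tip) (.node 19603539 62 .tip .tip))
(.node 19605585 76 (.node 19605571 99 .tip .tip) (.node 19605587 77 .tip .tip)))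
(.node 19621953 63
(.node 19619921 32 (.node 19619907 69 .tip .tip) (.node 19619923 94 .tip .tip))
(.node 19621969 25 (.node 19621955 48 .tip .tip) (.node 19621971 89 .tip .tip)))))))

/-- The reasons. -/
def caseCFullN13How : Tab (ℕ × ℕ) :=
(.node 64 (.node 32 (.node 16 (.node 8 (.node 4 (.node 2 (.node 1 (.leaf (0, 0)) (.leaf (109, 0))) (.node 1 (.leaf (110, 0)) (.leaf (111, 0))))
(.node 2 (.node 1 (.leaf (112, 0)) (.leaf (113, 0))) (.node 1 (.leaf (114, 0)) (.leaf (136, 0)))))
(.node 4 (.node 2 (.node 1 (.leaf (110, 1)) (.leaf (111, 1))) (.node 1 (.leaf (112, 1)) (.leaf (113, 1))))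
(.node 2 (.node 1 (.leaf (114, 1)) (.leaf (136, 1))) (.node 1 (.leaf (111, 2)) (.leaf (112, 2))))))
(.node 8 (.node 4 (.node 2 (.node 1 (.leaf (113, 2)) (.leaf (114, 2))) (.node 1 (.leaf (136, 2)) (.leaf (112, 3))))
(.node 2 (.node 1 (.leaf (113, 3)) (.leaf (114, 3))) (.node 1 (.leaf (136, 3)) (.leaf (113, 4)))))
(.node 4 (.node 2 (.node 1 (.leaf (114, 4)) (.leaf (136, 4))) (.node 1 (.leaf (114, 5)) (.leaf (136, 5))))
(.node 2 (.node 1 (.leaf (136, 6)) (.leaf (109, 7))) (.node 1 (.leaf (110, 7)) (.leaf (112, 7)))))))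
(.node 16 (.node 8 (.node 4 (.node 2 (.node 1 (.leaf (113, 7)) (.leaf (136, 7))) (.node 1 (.leaf (111, 8)) (.leaf (112, 8))))
(.node 2 (.node 1 (.leaf (113, 8)) (.leaf (114, 8))) (.node 1 (.leaf (136, 8)) (.leaf (112, 9)))))
(.node 4 (.node 2 (.node 1 (.leaf (113, 9)) (.leaf (114, 9))) (.node 1 (.leaf (136, 9)) (.leaf (113, 10))))
(.node 2 (.node 1 (.leaf (114, 10)) (.leaf (136, 10))) (.node 1 (.leaf (114, 11)) (.leaf (136, 11))))))
(.node 8 (.node 4 (.node 2 (.node 1 (.leaf (136, 12)) (.leaf (109, 13))) (.node 1 (.leaf (110, 13)) (.leaf (112, 13))))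
(.node 2 (.node 1 (.leaf (113, 13)) (.leaf (136, 13))) (.node 1 (.leaf (112, 14)) (.leaf (113, 14)))))
(.node 4 (.node 2 (.node 1 (.leaf (114, 14)) (.leaf (136, 14))) (.node 1 (.leaf (113, 15)) (.leaf (114, 15))))
(.node 2 (.node 1 (.leaf (136, 15)) (.leaf (114, 16))) (.node 1 (.leaf (136, 16)) (.leaf (136, 17))))))))
(.node 32 (.node 16 (.node 8 (.node 4 (.node 2 (.node 1 (.leaf (112, 18)) (.leaf (113, 18))) (.node 1 (.leaf (136, 18)) (.leaf (113, 19))))
(.node 2 (.node 1 (.leaf (114, 19)) (.leaf (136, 19))) (.node 1 (.leaf (136, 20)) (.leaf (109, 22)))))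
(.node 4 (.node 2 (.node 1 (.leaf (110, 22)) (.leaf (112, 22))) (.node 1 (.leaf (114, 23)) (.leaf (136, 24))))
(.node 2 (.node 1 (.leaf (109, 25)) (.leaf (110, 25))) (.node 1 (.leaf (113, 25)) (.leaf (136, 25))))))
(.node 8 (.node 4 (.node 2 (.node 1 (.leaf (110, 28)) (.leaf (112, 28))) (.node 1 (.leaf (112, 29)) (.leaf (112, 34))))
(.node 2 (.node 1 (.leaf (113, 34)) (.leaf (114, 34))) (.node 1 (.leaf (136, 34)) (.leaf (113, 35)))))
(.node 4 (.node 2 (.node 1 (.leaf (114, 35)) (.leaf (136, 35))) (.node 1 (.leaf (114, 36)) (.leaf (136, 36))))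
(.node 2 (.node 1 (.leaf (136, 37)) (.leaf (112, 38))) (.node 1 (.leaf (113, 38)) (.leaf (136, 38)))))))
(.node 16 (.node 8 (.node 4 (.node 2 (.node 1 (.leaf (113, 39)) (.leaf (114, 39))) (.node 1 (.leaf (136, 39)) (.leaf (136, 40))))
(.node 2 (.node 1 (.leaf (109, 42)) (.leaf (110, 42))) (.node 1 (.leaf (112, 42)) (.leaf (114, 43)))))
(.node 4 (.node 2 (.node 1 (.leaf (136, 44)) (.leaf (109, 45))) (.node 1 (.leaf (110, 45)) (.leaf (113, 45))))
(.node 2 (.node 1 (.leaf (136, 45)) (.leaf (110, 48))) (.node 1 (.leaf (112, 48)) (.leaf (112, 49))))))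
(.node 8 (.node 4 (.node 2 (.node 1 (.leaf (113, 54)) (.leaf (114, 54))) (.node 1 (.leaf (136, 54)) (.leaf (112, 57))))
(.node 2 (.node 1 (.leaf (114, 58)) (.leaf (136, 59))) (.node 1 (.leaf (136, 60)) (.leaf (112, 63)))))
(.node 4 (.node 2 (.node 1 (.leaf (113, 83)) (.leaf (114, 83))) (.node 1 (.leaf (136, 83)) (.leaf (112, 86))))
(.node 2 (.node 1 (.leaf (114, 87)) (.leaf (136, 88))) (.node 1 (.leaf (136, 89)) (.leaf (112, 92)))))))))

/-- The node. -/
def caseCFullN13Node : NodeD := ⟨13, 128, caseCFullN13Els, caseCFullN13Ix, caseCFullN13How, fun b => bif b then (.node 7 (.node 3 (.node 1 (.leaf 99) (.node 1 (.leaf 7181) (.leaf 137)))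
(.node 2 (.node 1 (.leaf 7184) (.leaf 7183)) (.node 1 (.leaf 7182) (.leaf 394))))
(.node 3 (.node 1 (.leaf 391) (.node 1 (.leaf 393) (.leaf 392)))
(.node 2 (.node 1 (.leaf 395) (.leaf 398)) (.node 1 (.leaf 396) (.leaf 397))))) else (.node 7 (.node 3 (.node 1 (.leaf 435) (.node 1 (.leaf 433) (.leaf 431)))
(.node 2 (.node 1 (.leaf 430) (.leaf 317)) (.node 1 (.leaf 316) (.leaf 7179))))
(.node 3 (.node 1 (.leaf 7180) (.node 1 (.leaf 432) (.leaf 434)))
(.node 2 (.node 1 (.leaf 429) (.leaf 427)) (.node 1 (.leaf 314) (.leaf 318)))))⟩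

/-- The stabiliser. -/
def caseCFullN16Els : Tab ℕ :=
(.node 64 (.node 32 (.node 16 (.node 8 (.node 4 (.node 2 (.node 1 (.leaf 17043521) (.leaf 17061981)) (.node 1 (.leaf 17109059) (.leaf 17061979)))
(.node 2 (.node 1 (.leaf 17567813) (.leaf 17698901)) (.node 1 (.leaf 17043539) (.leaf 17127519))))
(.node 4 (.node 2 (.node 1 (.leaf 17043527) (.leaf 17586251)) (.node 1 (.leaf 17258587) (.leaf 17127517)))
(.node 2 (.node 1 (.leaf 17127515) (.leaf 17633351)) (.node 1 (.leaf 17764439) (.leaf 17043541)))))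
(.node 8 (.node 4 (.node 2 (.node 1 (.leaf 17127513) (.leaf 17586253)) (.node 1 (.leaf 17258589) (.leaf 17586249)))
(.node 2 (.node 1 (.leaf 17586255) (.leaf 17174609)) (.node 1 (.leaf 17717341) (.leaf 17717339))))
(.node 4 (.node 2 (.node 1 (.leaf 17061967) (.leaf 17109073)) (.node 1 (.leaf 17061961) (.leaf 17567831)))
(.node 2 (.node 1 (.leaf 17698887) (.leaf 17109075)) (.node 1 (.leaf 17109063) (.leaf 17651785))))))
(.node 16 (.node 8 (.node 4 (.node 2 (.node 1 (.leaf 17193049) (.leaf 17109061)) (.node 1 (.leaf 17567811) (.leaf 17698899)))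
(.node 2 (.node 1 (.leaf 17567829) (.leaf 17567809)) (.node 1 (.leaf 17782861) (.leaf 17240147))))
(.node 4 (.node 2 (.node 1 (.leaf 17240135) (.leaf 17061983)) (.node 1 (.leaf 17651787) (.leaf 17193051)))
(.node 2 (.node 1 (.leaf 17109079) (.leaf 17061977)) (.node 1 (.leaf 17651789) (.leaf 17193053)))))
(.node 8 (.node 4 (.node 2 (.node 1 (.leaf 17651791) (.leaf 17782877)) (.node 1 (.leaf 17782875) (.leaf 17567825)))
(.node 2 (.node 1 (.leaf 17698881) (.leaf 17109077)) (.node 1 (.leaf 17109057) (.leaf 17193055))))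
(.node 4 (.node 2 (.node 1 (.leaf 17567827) (.leaf 17567815)) (.node 1 (.leaf 17782859) (.leaf 17240149)))
(.node 2 (.node 1 (.leaf 17240129) (.leaf 17782863)) (.node 1 (.leaf 17782857) (.leaf 17193033)))))))
(.node 32 (.node 16 (.node 8 (.node 4 (.node 2 (.node 1 (.leaf 17193039) (.leaf 17782879)) (.node 1 (.leaf 17193035) (.leaf 17651803)))
(.node 2 (.node 1 (.leaf 17782873) (.leaf 17193037)) (.node 1 (.leaf 17651805) (.leaf 17127501))))
(.node 4 (.node 2 (.node 1 (.leaf 17586265) (.leaf 17258569)) (.node 1 (.leaf 17127503) (.leaf 17127497)))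
(.node 2 (.node 1 (.leaf 17633365) (.leaf 17764421)) (.node 1 (.leaf 17127499) (.leaf 17586271)))))
(.node 8 (.node 4 (.node 2 (.node 1 (.leaf 17258575) (.leaf 17586267)) (.node 1 (.leaf 17586269) (.leaf 17174595)))
(.node 2 (.node 1 (.leaf 17717327) (.leaf 17717321)) (.node 1 (.leaf 17043537) (.leaf 17633367))))
(.node 4 (.node 2 (.node 1 (.leaf 17764423) (.leaf 17043525)) (.node 1 (.leaf 17633347) (.leaf 17764435)))
(.node 2 (.node 1 (.leaf 17633345) (.leaf 17174611)) (.node 1 (.leaf 17174599) (.leaf 17764433))))))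
(.node 16 (.node 8 (.node 4 (.node 2 (.node 1 (.leaf 17174615) (.leaf 17174593)) (.node 1 (.leaf 17174613) (.leaf 17764437)))
(.node 2 (.node 1 (.leaf 17764417) (.leaf 17174597)) (.node 1 (.leaf 17764419) (.leaf 17633363))))
(.node 4 (.node 2 (.node 1 (.leaf 17258585) (.leaf 17717325)) (.node 1 (.leaf 17043543) (.leaf 17043523)))
(.node 2 (.node 1 (.leaf 17258591) (.leaf 17633361)) (.node 1 (.leaf 17633349) (.leaf 17717323)))))
(.node 8 (.node 4 (.node 2 (.node 1 (.leaf 17717343) (.leaf 17258571)) (.node 1 (.leaf 17717337) (.leaf 17258573)))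
(.node 2 (.node 1 (.leaf 17061965) (.leaf 17651801)) (.node 1 (.leaf 17061963) (.leaf 17651807))))
(.node 4 (.node 2 (.node 1 (.leaf 17698885) (.leaf 17240131)) (.node 1 (.leaf 17698897) (.leaf 17240151)))
(.node 2 (.node 1 (.leaf 17240145) (.leaf 17698903)) (.node 1 (.leaf 17240133) (.leaf 17698883))))))))

/-- Its index. -/
def caseCFullN16Ix : BT ℕ :=
(.node 17567809 37
(.node 17174593 97
(.node 17109057 54
(.node 17061961 26
(.node 17043537 86
(.node 17043525 89 (.node 17043523 107 (.node 17043521 0 .tip .tip) .tip) (.node 17043527 8 .tip .tip))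
(.node 17043541 15 (.node 17043539 6 .tip .tip) (.node 17043543 106 .tip .tip)))
(.node 17061977 45
(.node 17061965 116 (.node 17061963 118 .tip .tip) (.node 17061967 24 .tip .tip))
(.node 17061981 1 (.node 17061979 3 .tip .tip) (.node 17061983 41 .tip .tip))))
(.node 17127497 75
(.node 17109073 25
(.node 17109061 33 (.node 17109059 2 .tip .tip) (.node 17109063 30 .tip .tip))
(.node 17109077 53 (.node 17109075 29 .tip .tip) (.node 17109079 44 .tip .tip)))
(.node 17127513 16
(.node 17127501 71 (.node 17127499 78 .tip .tip) (.node 17127503 74 .tip .tip))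
(.node 17127517 11 (.node 17127515 12 .tip .tip) (.node 17127519 7 .tip .tip)))))
(.node 17240129 60
(.node 17193033 63
(.node 17174609 21
(.node 17174597 101 (.node 17174595 83 .tip .tip) (.node 17174599 94 .tip .tip))
(.node 17174613 98 (.node 17174611 93 .tip .tip) (.node 17174615 96 .tip .tip)))
(.node 17193049 32
(.node 17193037 69 (.node 17193035 66 .tip .tip) (.node 17193039 64 .tip .tip))
(.node 17193053 47 (.node 17193051 43 .tip .tip) (.node 17193055 55 .tip .tip))))
(.node 17258569 73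
(.node 17240145 124
(.node 17240133 126 (.node 17240131 121 .tip .tip) (.node 17240135 40 .tip .tip))
(.node 17240149 59 (.node 17240147 39 .tip .tip) (.node 17240151 123 .tip .tip)))
(.node 17258585 104
(.node 17258573 115 (.node 17258571 113 .tip .tip) (.node 17258575 80 .tip .tip))
(.node 17258589 18 (.node 17258587 10 .tip .tip) (.node 17258591 108 .tip .tip))))))
(.node 17698881 52
(.node 17633345 92
(.node 17586249 19
(.node 17567825 51
(.node 17567813 4 (.node 17567811 34 .tip .tip) (.node 17567815 57 .tip .tip))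
(.node 17567829 36 (.node 17567827 56 .tip .tip) (.node 17567831 27 .tip .tip)))
(.node 17586265 72
(.node 17586253 17 (.node 17586251 9 .tip .tip) (.node 17586255 20 .tip .tip))
(.node 17586269 82 (.node 17586267 81 .tip .tip) (.node 17586271 79 .tip .tip))))
(.node 17651785 31
(.node 17633361 109
(.node 17633349 110 (.node 17633347 90 .tip .tip) (.node 17633351 13 .tip .tip))
(.node 17633365 76 (.node 17633363 103 .tip .tip) (.node 17633367 87 .tip .tip)))
(.node 17651801 117
(.node 17651789 46 (.node 17651787 42 .tip .tip) (.node 17651791 48 .tip .tip))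
(.node 17651805 70 (.node 17651803 67 .tip .tip) (.node 17651807 119 .tip .tip)))))
(.node 17764417 100
(.node 17717321 85
(.node 17698897 122
(.node 17698885 120 (.node 17698883 127 .tip .tip) (.node 17698887 28 .tip .tip))
(.node 17698901 5 (.node 17698899 35 .tip .tip) (.node 17698903 125 .tip .tip)))
(.node 17717337 114
(.node 17717325 105 (.node 17717323 111 .tip .tip) (.node 17717327 84 .tip .tip))
(.node 17717341 22 (.node 17717339 23 .tip .tip) (.node 17717343 112 .tip .tip))))
(.node 17782857 62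
(.node 17764433 95
(.node 17764421 77 (.node 17764419 102 .tip .tip) (.node 17764423 88 .tip .tip))
(.node 17764437 99 (.node 17764435 91 .tip .tip) (.node 17764439 14 .tip .tip)))
(.node 17782873 68
(.node 17782861 38 (.node 17782859 58 .tip .tip) (.node 17782863 61 .tip .tip))
(.node 17782877 49 (.node 17782875 50 .tip .tip) (.node 17782879 65 .tip .tip)))))))

/-- The reasons. -/
def caseCFullN16How : Tab (ℕ × ℕ) :=
(.node 64 (.node 32 (.node 16 (.node 8 (.node 4 (.node 2 (.node 1 (.leaf (0, 0)) (.leaf (156, 0))) (.node 1 (.leaf (157, 0)) (.leaf (158, 0))))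
(.node 2 (.node 1 (.leaf (159, 0)) (.leaf (160, 0))) (.node 1 (.leaf (156, 1)) (.leaf (157, 1)))))
(.node 4 (.node 2 (.node 1 (.leaf (158, 1)) (.leaf (159, 1))) (.node 1 (.leaf (160, 1)) (.leaf (156, 2))))
(.node 2 (.node 1 (.leaf (158, 2)) (.leaf (159, 2))) (.node 1 (.leaf (160, 2)) (.leaf (156, 3))))))
(.node 8 (.node 4 (.node 2 (.node 1 (.leaf (157, 3)) (.leaf (159, 3))) (.node 1 (.leaf (160, 3)) (.leaf (156, 4))))
(.node 2 (.node 1 (.leaf (158, 4)) (.leaf (160, 4))) (.node 1 (.leaf (156, 5)) (.leaf (158, 5)))))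
(.node 4 (.node 2 (.node 1 (.leaf (156, 6)) (.leaf (157, 6))) (.node 1 (.leaf (158, 6)) (.leaf (159, 6))))
(.node 2 (.node 1 (.leaf (160, 6)) (.leaf (156, 7))) (.node 1 (.leaf (158, 7)) (.leaf (159, 7)))))))
(.node 16 (.node 8 (.node 4 (.node 2 (.node 1 (.leaf (160, 7)) (.leaf (157, 8))) (.node 1 (.leaf (159, 8)) (.leaf (160, 8))))
(.node 2 (.node 1 (.leaf (156, 9)) (.leaf (158, 9))) (.node 1 (.leaf (160, 9)) (.leaf (156, 10)))))
(.node 4 (.node 2 (.node 1 (.leaf (158, 10)) (.leaf (157, 11))) (.node 1 (.leaf (159, 11)) (.leaf (160, 11))))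
(.node 2 (.node 1 (.leaf (156, 12)) (.leaf (157, 12))) (.node 1 (.leaf (159, 12)) (.leaf (160, 12))))))
(.node 8 (.node 4 (.node 2 (.node 1 (.leaf (158, 13)) (.leaf (156, 14))) (.node 1 (.leaf (158, 14)) (.leaf (159, 15))))
(.node 2 (.node 1 (.leaf (160, 15)) (.leaf (156, 16))) (.node 1 (.leaf (158, 16)) (.leaf (160, 16)))))
(.node 4 (.node 2 (.node 1 (.leaf (156, 17)) (.leaf (158, 17))) (.node 1 (.leaf (160, 17)) (.leaf (156, 18))))
(.node 2 (.node 1 (.leaf (158, 18)) (.leaf (160, 19))) (.node 1 (.leaf (160, 20)) (.leaf (156, 21))))))))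
(.node 32 (.node 16 (.node 8 (.node 4 (.node 2 (.node 1 (.leaf (158, 21)) (.leaf (157, 22))) (.node 1 (.leaf (159, 22)) (.leaf (160, 22))))
(.node 2 (.node 1 (.leaf (157, 23)) (.leaf (159, 23))) (.node 1 (.leaf (160, 23)) (.leaf (157, 24)))))
(.node 4 (.node 2 (.node 1 (.leaf (159, 24)) (.leaf (160, 24))) (.node 1 (.leaf (156, 25)) (.leaf (158, 25))))
(.node 2 (.node 1 (.leaf (159, 25)) (.leaf (160, 25))) (.node 1 (.leaf (157, 26)) (.leaf (159, 26))))))
(.node 8 (.node 4 (.node 2 (.node 1 (.leaf (160, 26)) (.leaf (156, 27))) (.node 1 (.leaf (158, 27)) (.leaf (160, 27))))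
(.node 2 (.node 1 (.leaf (156, 28)) (.leaf (158, 28))) (.node 1 (.leaf (157, 29)) (.leaf (159, 29)))))
(.node 4 (.node 2 (.node 1 (.leaf (160, 29)) (.leaf (157, 30))) (.node 1 (.leaf (159, 30)) (.leaf (160, 30))))
(.node 2 (.node 1 (.leaf (158, 31)) (.leaf (156, 32))) (.node 1 (.leaf (158, 32)) (.leaf (160, 33)))))))
(.node 16 (.node 8 (.node 4 (.node 2 (.node 1 (.leaf (160, 34)) (.leaf (160, 36))) (.node 1 (.leaf (160, 37)) (.leaf (156, 38))))
(.node 2 (.node 1 (.leaf (158, 38)) (.leaf (157, 40))) (.node 1 (.leaf (159, 40)) (.leaf (160, 40)))))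
(.node 4 (.node 2 (.node 1 (.leaf (160, 41)) (.leaf (160, 42))) (.node 1 (.leaf (156, 45)) (.leaf (158, 45))))
(.node 2 (.node 1 (.leaf (160, 45)) (.leaf (156, 46))) (.node 1 (.leaf (158, 46)) (.leaf (160, 46))))))
(.node 8 (.node 4 (.node 2 (.node 1 (.leaf (157, 49)) (.leaf (159, 49))) (.node 1 (.leaf (157, 50)) (.leaf (159, 50))))
(.node 2 (.node 1 (.leaf (157, 74)) (.leaf (159, 74))) (.node 1 (.leaf (157, 75)) (.leaf (159, 75)))))
(.node 4 (.node 2 (.node 1 (.leaf (160, 86)) (.leaf (160, 87))) (.node 1 (.leaf (160, 89)) (.leaf (160, 90))))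
(.node 2 (.node 1 (.leaf (157, 93)) (.leaf (159, 93))) (.node 1 (.leaf (157, 94)) (.leaf (159, 94)))))))))

/-- The node. -/
def caseCFullN16Node : NodeD := ⟨16, 128, caseCFullN16Els, caseCFullN16Ix, caseCFullN16How, fun b => bif b then (.node 7 (.node 3 (.node 1 (.leaf 210) (.node 1 (.leaf 209) (.leaf 7191)))
(.node 2 (.node 1 (.leaf 7198) (.leaf 212)) (.node 1 (.leaf 211) (.leaf 7196))))
(.node 3 (.node 1 (.leaf 7192) (.node 1 (.leaf 7199) (.leaf 7193)))
(.node 2 (.node 1 (.leaf 7197) (.leaf 7195)) (.node 1 (.leaf 7190) (.leaf 7194))))) else (.node 7 (.node 3 (.node 1 (.leaf 7189) (.node 1 (.leaf 7187) (.leaf 609)))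
(.node 2 (.node 1 (.leaf 611) (.leaf 614)) (.node 1 (.leaf 617) (.leaf 139))))
(.node 3 (.node 1 (.leaf 7188) (.node 1 (.leaf 7186) (.leaf 7185)))
(.node 2 (.node 1 (.leaf 613) (.leaf 612)) (.node 1 (.leaf 616) (.leaf 615)))))⟩

/-- The stabiliser. -/
def caseCFullN21Els : Tab ℕ :=
(.node 96 (.node 48 (.node 24 (.node 12 (.node 6 (.node 3 (.node 1 (.leaf 17043521) (.node 1 (.leaf 11286619) (.leaf 9009225))) (.node 1 (.leaf 27873355) (.node 1 (.leaf 25458755) (.leaf 17643601))))
(.node 3 (.node 1 (.leaf 19208283) (.node 1 (.leaf 19691609) (.leaf 11030609))) (.node 1 (.leaf 9252939) (.node 1 (.leaf 25516121) (.leaf 27859019)))))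
(.node 6 (.node 3 (.node 1 (.leaf 9189441) (.node 1 (.leaf 11038801) (.leaf 27594833))) (.node 1 (.leaf 25712705) (.node 1 (.leaf 19732553) (.leaf 17051713))))
(.node 3 (.node 1 (.leaf 25776219) (.node 1 (.leaf 27619409) (.leaf 11343955))) (.node 1 (.leaf 17061953) (.node 1 (.leaf 19673177) (.leaf 27807827))))))
(.node 12 (.node 6 (.node 3 (.node 1 (.leaf 25522265) (.node 1 (.leaf 19740745) (.leaf 8925251))) (.node 1 (.leaf 11294811) (.node 1 (.leaf 19140683) (.leaf 17657937))))
(.node 3 (.node 1 (.leaf 27799635) (.node 1 (.leaf 11278427) (.leaf 9001033))) (.node 1 (.leaf 17109075) (.node 1 (.leaf 19755081) (.leaf 8933443)))))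
(.node 6 (.node 3 (.node 1 (.leaf 25720897) (.node 1 (.leaf 27545673) (.leaf 11300955))) (.node 1 (.leaf 8990793) (.node 1 (.leaf 27613265) (.leaf 25694273))))
(.node 3 (.node 1 (.leaf 17592387) (.node 1 (.leaf 8998985) (.leaf 11350099))) (.node 1 (.leaf 25450563) (.node 1 (.leaf 27791443) (.leaf 17127507)))))))
(.node 24 (.node 12 (.node 6 (.node 3 (.node 1 (.leaf 27865163) (.node 1 (.leaf 25434179) (.leaf 11352147))) (.node 1 (.leaf 8941635) (.node 1 (.leaf 25497689) (.leaf 19232859))))
(.node 3 (.node 1 (.leaf 17567811) (.node 1 (.leaf 27881547) (.leaf 17635409))) (.node 1 (.leaf 19216475) (.node 1 (.leaf 11104345) (.leaf 25432131)))))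
(.node 6 (.node 3 (.node 1 (.leaf 27809875) (.node 1 (.leaf 19667033) (.leaf 17119315))) (.node 1 (.leaf 19148875) (.node 1 (.leaf 17649745) (.leaf 11106393))))
(.node 3 (.node 1 (.leaf 9179201) (.node 1 (.leaf 25440323) (.leaf 19222619))) (.node 1 (.leaf 8943683) (.node 1 (.leaf 11276379) (.leaf 19159115))))))
(.node 12 (.node 6 (.node 3 (.node 1 (.leaf 27531337) (.node 1 (.leaf 25778267) (.leaf 17633361))) (.node 1 (.leaf 19214427) (.node 1 (.leaf 25710657) (.leaf 27555913))))
(.node 3 (.node 1 (.leaf 9244747) (.node 1 (.leaf 19224667) (.leaf 17576003))) (.node 1 (.leaf 9271371) (.node 1 (.leaf 11090009) (.leaf 17068097)))))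
(.node 6 (.node 3 (.node 1 (.leaf 11022417) (.node 1 (.leaf 9261131) (.leaf 27553865))) (.node 1 (.leaf 19675225) (.node 1 (.leaf 17111123) (.leaf 11358291))))
(.node 3 (.node 1 (.leaf 9197633) (.node 1 (.leaf 11014225) (.leaf 25770075))) (.node 1 (.leaf 19683417) (.node 1 (.leaf 25524313) (.leaf 27867211))))))))
(.node 48 (.node 24 (.node 12 (.node 6 (.node 3 (.node 1 (.leaf 9181249) (.node 1 (.leaf 19142731) (.leaf 11024465))) (.node 1 (.leaf 9263179) (.node 1 (.leaf 19206235) (.leaf 17594435))))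
(.node 3 (.node 1 (.leaf 25704513) (.node 1 (.leaf 9246795) (.leaf 11098201))) (.node 1 (.leaf 25505881) (.node 1 (.leaf 17578051) (.leaf 27818067)))))
(.node 6 (.node 3 (.node 1 (.leaf 11016273) (.node 1 (.leaf 9203777) (.leaf 27883595))) (.node 1 (.leaf 25448515) (.node 1 (.leaf 11366483) (.leaf 8927299))))
(.node 3 (.node 1 (.leaf 11087961) (.node 1 (.leaf 19757129) (.leaf 11032657))) (.node 1 (.leaf 17659985) (.node 1 (.leaf 11096153) (.leaf 25784411))))))
(.node 12 (.node 6 (.node 3 (.node 1 (.leaf 27611217) (.node 1 (.leaf 9205825) (.leaf 27547721))) (.node 1 (.leaf 25761883) (.node 1 (.leaf 27605073) (.leaf 19157067))))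
(.node 3 (.node 1 (.leaf 8984649) (.node 1 (.leaf 17059905) (.leaf 25768027))) (.node 1 (.leaf 9187393) (.node 1 (.leaf 25696321) (.leaf 9254987)))))
(.node 6 (.node 3 (.node 1 (.leaf 25702465) (.node 1 (.leaf 19748937) (.leaf 17135699))) (.node 1 (.leaf 27603025) (.node 1 (.leaf 17070145) (.leaf 19664985))))
(.node 3 (.node 1 (.leaf 27816019) (.node 1 (.leaf 25514073) (.leaf 27596881))) (.node 1 (.leaf 11040849) (.node 1 (.leaf 27529289) (.leaf 19165259)))))))
(.node 24 (.node 12 (.node 6 (.node 3 (.node 1 (.leaf 25786459) (.node 1 (.leaf 17569859) (.leaf 8982601))) (.node 1 (.leaf 25759835) (.node 1 (.leaf 17586243) (.leaf 19746889))))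
(.node 3 (.node 1 (.leaf 27793491) (.node 1 (.leaf 25507929) (.leaf 17053761))) (.node 1 (.leaf 19681369) (.node 1 (.leaf 27539529) (.leaf 19689561)))))
(.node 6 (.node 3 (.node 1 (.leaf 17125459) (.node 1 (.leaf 19730505) (.leaf 25499737))) (.node 1 (.leaf 27875403) (.node 1 (.leaf 19150923) (.leaf 17117267))))
(.node 3 (.node 1 (.leaf 8919107) (.node 1 (.leaf 11368531) (.leaf 17651793))) (.node 1 (.leaf 11303003) (.node 1 (.leaf 8992841) (.leaf 17133651))))))
(.node 12 (.node 6 (.node 3 (.node 1 (.leaf 17641553) (.node 1 (.leaf 27621457) (.leaf 19167307))) (.node 1 (.leaf 25442371) (.node 1 (.leaf 11081817) (.leaf 8917059))))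
(.node 3 (.node 1 (.leaf 11292763) (.node 1 (.leaf 17584195) (.leaf 9007177))) (.node 1 (.leaf 11341907) (.node 1 (.leaf 19738697) (.leaf 17045569)))))
(.node 6 (.node 3 (.node 1 (.leaf 9195585) (.node 1 (.leaf 11360339) (.leaf 19230811))) (.node 1 (.leaf 27537481) (.node 1 (.leaf 25718849) (.leaf 11079769))))
(.node 3 (.node 1 (.leaf 9269323) (.node 1 (.leaf 25456707) (.leaf 27801683))) (.node 1 (.leaf 8935491) (.node 1 (.leaf 27856971) (.leaf 11284571)))))))))

/-- Its index. -/
def caseCFullN21Ix : BT ℕ :=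
(.node 19140683 28
(.node 11276379 70
(.node 9244747 78
(.node 8998985 43
(.node 8941635 51
(.node 8927299 113 (.node 8919107 162 (.node 8917059 173 .tip .tip) (.node 8925251 26 .tip .tip)) (.node 8935491 189 (.node 8933443 35 .tip .tip) .tip))
(.node 8984649 126 (.node 8982601 146 (.node 8943683 69 .tip .tip) .tip) (.node 8992841 166 (.node 8990793 39 .tip .tip) .tip)))
(.node 9187393 129
(.node 9009225 2 (.node 9007177 176 (.node 9001033 32 .tip .tip) .tip) (.node 9181249 96 (.node 9179201 66 .tip .tip) .tip))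
(.node 9197633 90 (.node 9195585 180 (.node 9189441 12 .tip .tip) .tip) (.node 9205825 121 (.node 9203777 109 .tip .tip) .tip))))
(.node 11030609 8
(.node 9269323 186
(.node 9254987 131 (.node 9252939 9 (.node 9246795 103 .tip .tip) .tip) (.node 9263179 99 (.node 9261131 85 .tip .tip) .tip))
(.node 11016273 108 (.node 11014225 91 (.node 9271371 81 .tip .tip) .tip) (.node 11024465 98 (.node 11022417 84 .tip .tip) .tip)))
(.node 11087961 114
(.node 11040849 141 (.node 11038801 13 (.node 11032657 116 .tip .tip) .tip) (.node 11081817 172 (.node 11079769 185 .tip .tip) .tip))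
(.node 11098201 104 (.node 11096153 118 (.node 11090009 82 .tip .tip) .tip) (.node 11106393 65 (.node 11104345 58 .tip .tip) .tip)))))
(.node 17109075 33
(.node 11358291 89
(.node 11300955 38
(.node 11286619 1 (.node 11284571 191 (.node 11278427 31 .tip .tip) .tip) (.node 11294811 27 (.node 11292763 174 .tip .tip) .tip))
(.node 11343955 20 (.node 11341907 177 (.node 11303003 165 .tip .tip) .tip) (.node 11352147 50 (.node 11350099 44 .tip .tip) .tip)))
(.node 17051713 17
(.node 11368531 163 (.node 11366483 112 (.node 11360339 181 .tip .tip) .tip) (.node 17045569 179 (.node 17043521 0 .tip .tip) .tip))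
(.node 17061953 21 (.node 17059905 127 (.node 17053761 152 .tip .tip) .tip) (.node 17070145 136 (.node 17068097 83 .tip .tip) .tip))))
(.node 17584195 175
(.node 17133651 167
(.node 17119315 62 (.node 17117267 161 (.node 17111123 88 .tip .tip) .tip) (.node 17127507 47 (.node 17125459 156 .tip .tip) .tip))
(.node 17569859 145 (.node 17567811 54 (.node 17135699 134 .tip .tip) .tip) (.node 17578051 106 (.node 17576003 80 .tip .tip) .tip)))
(.node 17641553 168
(.node 17594435 101 (.node 17592387 42 (.node 17586243 148 .tip .tip) .tip) (.node 17635409 56 (.node 17633361 74 .tip .tip) .tip))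
(.node 17651793 164 (.node 17649745 64 (.node 17643601 5 .tip .tip) .tip) (.node 17659985 117 (.node 17657937 29 .tip .tip) .tip))))))
(.node 25694273 41
(.node 19730505 157
(.node 19222619 68
(.node 19165259 143
(.node 19150923 160 (.node 19148875 63 (.node 19142731 97 .tip .tip) .tip) (.node 19159115 71 (.node 19157067 125 .tip .tip) .tip))
(.node 19208283 6 (.node 19206235 100 (.node 19167307 170 .tip .tip) .tip) (.node 19216475 57 (.node 19214427 75 .tip .tip) .tip)))
(.node 19673177 22
(.node 19232859 53 (.node 19230811 182 (.node 19224667 79 .tip .tip) .tip) (.node 19667033 61 (.node 19664985 137 .tip .tip) .tip))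
(.node 19683417 93 (.node 19681369 153 (.node 19675225 87 .tip .tip) .tip) (.node 19691609 7 (.node 19689561 155 .tip .tip) .tip))))
(.node 25448515 111
(.node 19755081 34
(.node 19740745 25 (.node 19738697 178 (.node 19732553 16 .tip .tip) .tip) (.node 19748937 133 (.node 19746889 149 .tip .tip) .tip))
(.node 25434179 49 (.node 25432131 59 (.node 19757129 115 .tip .tip) .tip) (.node 25442371 171 (.node 25440323 67 .tip .tip) .tip)))
(.node 25505881 105
(.node 25458755 4 (.node 25456707 187 (.node 25450563 45 .tip .tip) .tip) (.node 25499737 158 (.node 25497689 52 .tip .tip) .tip))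
(.node 25516121 10 (.node 25514073 139 (.node 25507929 151 .tip .tip) .tip) (.node 25524313 94 (.node 25522265 24 .tip .tip) .tip)))))
(.node 27594833 14
(.node 25776219 18
(.node 25718849 184
(.node 25704513 102 (.node 25702465 132 (.node 25696321 130 .tip .tip) .tip) (.node 25712705 15 (.node 25710657 76 .tip .tip) .tip))
(.node 25761883 123 (.node 25759835 147 (.node 25720897 36 .tip .tip) .tip) (.node 25770075 92 (.node 25768027 128 .tip .tip) .tip)))
(.node 27537481 183
(.node 25786459 144 (.node 25784411 119 (.node 25778267 73 .tip .tip) .tip) (.node 27531337 72 (.node 27529289 142 .tip .tip) .tip))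
(.node 27547721 122 (.node 27545673 37 (.node 27539529 154 .tip .tip) .tip) (.node 27555913 77 (.node 27553865 86 .tip .tip) .tip))))
(.node 27807827 23
(.node 27619409 19
(.node 27605073 124 (.node 27603025 135 (.node 27596881 140 .tip .tip) .tip) (.node 27613265 40 (.node 27611217 120 .tip .tip) .tip))
(.node 27793491 150 (.node 27791443 46 (.node 27621457 169 .tip .tip) .tip) (.node 27801683 188 (.node 27799635 30 .tip .tip) .tip)))
(.node 27865163 48
(.node 27818067 107 (.node 27816019 138 (.node 27809875 60 .tip .tip) .tip) (.node 27859019 11 (.node 27856971 190 .tip .tip) .tip))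
(.node 27875403 159 (.node 27873355 3 (.node 27867211 95 .tip .tip) .tip) (.node 27883595 110 (.node 27881547 55 .tip .tip) .tip)))))))

/-- The reasons. -/
def caseCFullN21How : Tab (ℕ × ℕ) :=
(.node 96 (.node 48 (.node 24 (.node 12 (.node 6 (.node 3 (.node 1 (.leaf (0, 0)) (.node 1 (.leaf (186, 0)) (.leaf (187, 0)))) (.node 1 (.leaf (186, 1)) (.node 1 (.leaf (187, 1)) (.leaf (186, 2)))))
(.node 3 (.node 1 (.leaf (187, 2)) (.node 1 (.leaf (187, 3)) (.leaf (186, 4)))) (.node 1 (.leaf (187, 4)) (.node 1 (.leaf (186, 5)) (.leaf (187, 5))))))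
(.node 6 (.node 3 (.node 1 (.leaf (186, 6)) (.node 1 (.leaf (187, 6)) (.leaf (186, 7)))) (.node 1 (.leaf (187, 7)) (.node 1 (.leaf (186, 8)) (.leaf (187, 8)))))
(.node 3 (.node 1 (.leaf (186, 9)) (.node 1 (.leaf (187, 9)) (.leaf (187, 10)))) (.node 1 (.leaf (186, 11)) (.node 1 (.leaf (187, 11)) (.leaf (186, 12)))))))
(.node 12 (.node 6 (.node 3 (.node 1 (.leaf (187, 12)) (.node 1 (.leaf (186, 13)) (.leaf (186, 14)))) (.node 1 (.leaf (187, 14)) (.node 1 (.leaf (186, 15)) (.leaf (187, 15)))))
(.node 3 (.node 1 (.leaf (187, 16)) (.node 1 (.leaf (186, 17)) (.leaf (187, 17)))) (.node 1 (.leaf (186, 18)) (.node 1 (.leaf (187, 18)) (.leaf (186, 19))))))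
(.node 6 (.node 3 (.node 1 (.leaf (186, 20)) (.node 1 (.leaf (187, 20)) (.leaf (186, 21)))) (.node 1 (.leaf (187, 21)) (.node 1 (.leaf (186, 22)) (.leaf (187, 22)))))
(.node 3 (.node 1 (.leaf (187, 23)) (.node 1 (.leaf (186, 24)) (.leaf (187, 24)))) (.node 1 (.leaf (186, 25)) (.node 1 (.leaf (187, 25)) (.leaf (187, 26))))))))
(.node 24 (.node 12 (.node 6 (.node 3 (.node 1 (.leaf (186, 27)) (.node 1 (.leaf (187, 27)) (.leaf (186, 28)))) (.node 1 (.leaf (187, 28)) (.node 1 (.leaf (186, 29)) (.leaf (186, 30)))))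
(.node 3 (.node 1 (.leaf (187, 30)) (.node 1 (.leaf (186, 31)) (.leaf (186, 32)))) (.node 1 (.leaf (187, 32)) (.node 1 (.leaf (187, 33)) (.leaf (186, 34))))))
(.node 6 (.node 3 (.node 1 (.leaf (187, 34)) (.node 1 (.leaf (186, 35)) (.leaf (187, 35)))) (.node 1 (.leaf (186, 36)) (.node 1 (.leaf (187, 36)) (.leaf (186, 37)))))
(.node 3 (.node 1 (.leaf (187, 37)) (.node 1 (.leaf (187, 38)) (.leaf (187, 39)))) (.node 1 (.leaf (186, 40)) (.node 1 (.leaf (187, 40)) (.leaf (186, 41)))))))
(.node 12 (.node 6 (.node 3 (.node 1 (.leaf (186, 42)) (.node 1 (.leaf (187, 42)) (.leaf (186, 43)))) (.node 1 (.leaf (187, 43)) (.node 1 (.leaf (186, 44)) (.leaf (187, 44)))))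
(.node 3 (.node 1 (.leaf (187, 45)) (.node 1 (.leaf (186, 46)) (.leaf (187, 46)))) (.node 1 (.leaf (186, 47)) (.node 1 (.leaf (187, 47)) (.leaf (186, 48))))))
(.node 6 (.node 3 (.node 1 (.leaf (186, 49)) (.node 1 (.leaf (187, 49)) (.leaf (187, 50)))) (.node 1 (.leaf (186, 51)) (.node 1 (.leaf (187, 51)) (.leaf (187, 52)))))
(.node 3 (.node 1 (.leaf (186, 53)) (.node 1 (.leaf (187, 53)) (.leaf (187, 54)))) (.node 1 (.leaf (187, 55)) (.node 1 (.leaf (186, 56)) (.leaf (187, 56)))))))))
(.node 48 (.node 24 (.node 12 (.node 6 (.node 3 (.node 1 (.leaf (186, 57)) (.node 1 (.leaf (187, 58)) (.leaf (186, 59)))) (.node 1 (.leaf (187, 59)) (.node 1 (.leaf (186, 60)) (.leaf (187, 60)))))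
(.node 3 (.node 1 (.leaf (187, 61)) (.node 1 (.leaf (186, 62)) (.leaf (187, 62)))) (.node 1 (.leaf (186, 64)) (.node 1 (.leaf (186, 65)) (.leaf (186, 66))))))
(.node 6 (.node 3 (.node 1 (.leaf (186, 67)) (.node 1 (.leaf (186, 68)) (.leaf (186, 70)))) (.node 1 (.leaf (187, 70)) (.node 1 (.leaf (186, 71)) (.leaf (187, 71)))))
(.node 3 (.node 1 (.leaf (186, 72)) (.node 1 (.leaf (187, 73)) (.leaf (187, 75)))) (.node 1 (.leaf (187, 76)) (.node 1 (.leaf (186, 77)) (.leaf (186, 78)))))))
(.node 12 (.node 6 (.node 3 (.node 1 (.leaf (187, 78)) (.node 1 (.leaf (186, 79)) (.leaf (186, 80)))) (.node 1 (.leaf (187, 80)) (.node 1 (.leaf (187, 81)) (.leaf (187, 82)))))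
(.node 3 (.node 1 (.leaf (187, 83)) (.node 1 (.leaf (187, 84)) (.leaf (186, 85)))) (.node 1 (.leaf (187, 86)) (.node 1 (.leaf (187, 87)) (.leaf (186, 88))))))
(.node 6 (.node 3 (.node 1 (.leaf (186, 89)) (.node 1 (.leaf (186, 91)) (.leaf (186, 92)))) (.node 1 (.leaf (186, 93)) (.node 1 (.leaf (186, 95)) (.leaf (187, 95)))))
(.node 3 (.node 1 (.leaf (186, 96)) (.node 1 (.leaf (187, 96)) (.leaf (187, 99)))) (.node 1 (.leaf (187, 100)) (.node 1 (.leaf (186, 101)) (.leaf (186, 102))))))))
(.node 24 (.node 12 (.node 6 (.node 3 (.node 1 (.leaf (186, 103)) (.node 1 (.leaf (186, 104)) (.leaf (186, 105)))) (.node 1 (.leaf (187, 106)) (.node 1 (.leaf (187, 107)) (.leaf (186, 108)))))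
(.node 3 (.node 1 (.leaf (186, 109)) (.node 1 (.leaf (187, 109)) (.leaf (186, 110)))) (.node 1 (.leaf (187, 110)) (.node 1 (.leaf (187, 112)) (.leaf (186, 113))))))
(.node 6 (.node 3 (.node 1 (.leaf (187, 113)) (.node 1 (.leaf (186, 116)) (.leaf (186, 117)))) (.node 1 (.leaf (187, 117)) (.node 1 (.leaf (187, 118)) (.leaf (186, 119)))))
(.node 3 (.node 1 (.leaf (186, 124)) (.node 1 (.leaf (186, 125)) (.leaf (186, 126)))) (.node 1 (.leaf (186, 127)) (.node 1 (.leaf (187, 127)) (.leaf (186, 128)))))))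
(.node 12 (.node 6 (.node 3 (.node 1 (.leaf (187, 130)) (.node 1 (.leaf (187, 131)) (.leaf (186, 132)))) (.node 1 (.leaf (186, 133)) (.node 1 (.leaf (187, 134)) (.leaf (186, 135)))))
(.node 3 (.node 1 (.leaf (186, 136)) (.node 1 (.leaf (187, 138)) (.leaf (186, 139)))) (.node 1 (.leaf (187, 139)) (.node 1 (.leaf (186, 141)) (.leaf (187, 141))))))
(.node 6 (.node 3 (.node 1 (.leaf (187, 142)) (.node 1 (.leaf (186, 143)) (.leaf (187, 146)))) (.node 1 (.leaf (186, 148)) (.node 1 (.leaf (187, 153)) (.leaf (186, 154)))))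
(.node 3 (.node 1 (.leaf (186, 156)) (.node 1 (.leaf (186, 157)) (.leaf (187, 157)))) (.node 1 (.leaf (187, 160)) (.node 1 (.leaf (186, 165)) (.leaf (187, 169))))))))))

/-- The node. -/
def caseCFullN21Node : NodeD := ⟨21, 192, caseCFullN21Els, caseCFullN21Ix, caseCFullN21How, fun b => bif b then (.node 7 (.node 3 (.node 1 (.leaf 176) (.node 1 (.leaf 7200) (.leaf 245)))
(.node 2 (.node 1 (.leaf 253) (.leaf 247)) (.node 1 (.leaf 251) (.leaf 252))))
(.node 3 (.node 1 (.leaf 244) (.node 1 (.leaf 250) (.leaf 246)))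
(.node 2 (.node 1 (.leaf 249) (.leaf 248)) (.node 1 (.leaf 254) (.leaf 243))))) else (.node 7 (.node 3 (.node 1 (.leaf 730) (.node 1 (.leaf 724) (.leaf 190)))
(.node 2 (.node 1 (.leaf 194) (.leaf 727)) (.node 1 (.leaf 729) (.leaf 192))))
(.node 3 (.node 1 (.leaf 191) (.node 1 (.leaf 728) (.leaf 726)))
(.node 2 (.node 1 (.leaf 188) (.leaf 193)) (.node 1 (.leaf 731) (.leaf 733)))))⟩

/-- The stabiliser. -/
def caseCFullN22Els : Tab ℕ :=
(.node 16 (.node 8 (.node 4 (.node 2 (.node 1 (.leaf 17043521) (.leaf 17578065)) (.node 1 (.leaf 17657923) (.leaf 17070163)))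
(.node 2 (.node 1 (.leaf 17059905) (.leaf 17111123)) (.node 1 (.leaf 17567811) (.leaf 17109075))))
(.node 4 (.node 2 (.node 1 (.leaf 17061953) (.leaf 17649745)) (.node 1 (.leaf 17584195) (.leaf 17635409)))
(.node 2 (.node 1 (.leaf 17594449) (.leaf 17641539)) (.node 1 (.leaf 17053779) (.leaf 17643587)))))
(.node 8 (.node 4 (.node 2 (.node 1 (.leaf 17592401) (.leaf 17135681)) (.node 1 (.leaf 17117249) (.leaf 17133633)))
(.node 2 (.node 1 (.leaf 17051731) (.leaf 17127507)) (.node 1 (.leaf 17125459) (.leaf 17045569))))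
(.node 4 (.node 2 (.node 1 (.leaf 17633361) (.leaf 17651793)) (.node 1 (.leaf 17586243) (.leaf 17569859)))
(.node 2 (.node 1 (.leaf 17659971) (.leaf 17576017)) (.node 1 (.leaf 17119297) (.leaf 17068115))))))

/-- Its index. -/
def caseCFullN22Ix : BT ℕ :=
(.node 17567811 6
(.node 17109075 7
(.node 17059905 4
(.node 17051731 20 (.node 17045569 23 (.node 17043521 0 .tip .tip) .tip) (.node 17053779 14 .tip .tip))
(.node 17068115 31 (.node 17061953 8 .tip .tip) (.node 17070163 3 .tip .tip)))
(.node 17125459 22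
(.node 17117249 18 (.node 17111123 5 .tip .tip) (.node 17119297 30 .tip .tip))
(.node 17133633 19 (.node 17127507 21 .tip .tip) (.node 17135681 17 .tip .tip))))
(.node 17633361 24
(.node 17584195 10
(.node 17576017 29 (.node 17569859 27 .tip .tip) (.node 17578065 1 .tip .tip))
(.node 17592401 16 (.node 17586243 26 .tip .tip) (.node 17594449 12 .tip .tip)))
(.node 17649745 9
(.node 17641539 13 (.node 17635409 11 .tip .tip) (.node 17643587 15 .tip .tip))
(.node 17657923 2 (.node 17651793 25 .tip .tip) (.node 17659971 28 .tip .tip)))))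

/-- The reasons. -/
def caseCFullN22How : Tab (ℕ × ℕ) :=
(.node 16 (.node 8 (.node 4 (.node 2 (.node 1 (.leaf (0, 0)) (.leaf (198, 0))) (.node 1 (.leaf (199, 0)) (.leaf (200, 0))))
(.node 2 (.node 1 (.leaf (198, 1)) (.leaf (199, 1))) (.node 1 (.leaf (200, 1)) (.leaf (198, 2)))))
(.node 4 (.node 2 (.node 1 (.leaf (199, 2)) (.leaf (200, 2))) (.node 1 (.leaf (198, 3)) (.leaf (199, 3))))
(.node 2 (.node 1 (.leaf (198, 4)) (.leaf (199, 4))) (.node 1 (.leaf (200, 4)) (.leaf (198, 5))))))
(.node 8 (.node 4 (.node 2 (.node 1 (.leaf (199, 5)) (.leaf (200, 5))) (.node 1 (.leaf (199, 6)) (.leaf (200, 7))))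
(.node 2 (.node 1 (.leaf (200, 8)) (.leaf (199, 12))) (.node 1 (.leaf (198, 13)) (.leaf (199, 13)))))
(.node 4 (.node 2 (.node 1 (.leaf (200, 13)) (.leaf (199, 14))) (.node 1 (.leaf (200, 16)) (.leaf (199, 19))))
(.node 2 (.node 1 (.leaf (198, 21)) (.leaf (199, 21))) (.node 1 (.leaf (200, 21)) (.leaf (200, 23)))))))

/-- The node. -/
def caseCFullN22Node : NodeD := ⟨22, 32, caseCFullN22Els, caseCFullN22Ix, caseCFullN22How, fun b => bif b then (.node 7 (.node 3 (.node 1 (.leaf 7206) (.node 1 (.leaf 7207) (.leaf 226)))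
(.node 2 (.node 1 (.leaf 257) (.leaf 224)) (.node 1 (.leaf 255) (.leaf 850))))
(.node 3 (.node 1 (.leaf 848) (.node 1 (.leaf 852) (.leaf 846)))
(.node 2 (.node 1 (.leaf 844) (.leaf 851)) (.node 1 (.leaf 847) (.leaf 849))))) else (.node 7 (.node 3 (.node 1 (.leaf 828) (.node 1 (.leaf 831) (.leaf 7202)))
(.node 2 (.node 1 (.leaf 7201) (.leaf 830)) (.node 1 (.leaf 827) (.leaf 189))))
(.node 3 (.node 1 (.leaf 7205) (.node 1 (.leaf 826) (.leaf 829)))
(.node 2 (.node 1 (.leaf 7203) (.leaf 7204)) (.node 1 (.leaf 832) (.leaf 824)))))⟩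

/-- The stabiliser. -/
def caseCFullN28Els : Tab ℕ :=
(.node 8 (.node 4 (.node 2 (.node 1 (.leaf 17043521) (.leaf 27539523)) (.node 1 (.leaf 25442369) (.leaf 17051715)))
(.node 2 (.node 1 (.leaf 27537481) (.leaf 19140675)) (.node 1 (.leaf 27531329) (.leaf 17045579))))
(.node 4 (.node 2 (.node 1 (.leaf 25434179) (.leaf 19142729)) (.node 1 (.leaf 27529291) (.leaf 19148865)))
(.node 2 (.node 1 (.leaf 25440331) (.leaf 17053769)) (.node 1 (.leaf 19150923) (.leaf 25432137)))))

/-- Its index. -/
def caseCFullN28Ix : BT ℕ :=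
(.node 25432137 15
(.node 19140675 5
(.node 17051715 3 (.node 17045579 7 (.node 17043521 0 .tip .tip) .tip) (.node 17053769 13 .tip .tip))
(.node 19148865 11 (.node 19142729 9 .tip .tip) (.node 19150923 14 .tip .tip)))
(.node 27529291 10
(.node 25440331 12 (.node 25434179 8 .tip .tip) (.node 25442369 2 .tip .tip))
(.node 27537481 4 (.node 27531329 6 .tip .tip) (.node 27539523 1 .tip .tip))))

/-- The reasons. -/
def caseCFullN28How : Tab (ℕ × ℕ) :=
(.node 8 (.node 4 (.node 2 (.node 1 (.leaf (0, 0)) (.leaf (231, 0))) (.node 1 (.leaf (232, 0)) (.leaf (233, 0))))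
(.node 2 (.node 1 (.leaf (234, 0)) (.leaf (232, 1))) (.node 1 (.leaf (233, 1)) (.leaf (234, 1)))))
(.node 4 (.node 2 (.node 1 (.leaf (233, 2)) (.leaf (234, 2))) (.node 1 (.leaf (234, 3)) (.leaf (233, 5))))
(.node 2 (.node 1 (.leaf (234, 5)) (.leaf (234, 6))) (.node 1 (.leaf (234, 8)) (.leaf (234, 11))))))

/-- The node. -/
def caseCFullN28Node : NodeD := ⟨28, 16, caseCFullN28Els, caseCFullN28Ix, caseCFullN28How, fun b => bif b then (.node 7 (.node 3 (.node 1 (.leaf 225) (.node 1 (.leaf 7219) (.leaf 7214)))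
(.node 2 (.node 1 (.leaf 7224) (.leaf 7222)) (.node 1 (.leaf 7220) (.leaf 7221))))
(.node 3 (.node 1 (.leaf 7215) (.node 1 (.leaf 7225) (.leaf 7216)))
(.node 2 (.node 1 (.leaf 7223) (.leaf 7218)) (.node 1 (.leaf 7213) (.leaf 7217))))) else (.node 7 (.node 3 (.node 1 (.leaf 7212) (.node 1 (.leaf 7211) (.leaf 952)))
(.node 2 (.node 1 (.leaf 7208) (.leaf 7210)) (.node 1 (.leaf 7209) (.leaf 955))))
(.node 3 (.node 1 (.leaf 957) (.node 1 (.leaf 766) (.leaf 764)))
(.node 2 (.node 1 (.leaf 956) (.leaf 953)) (.node 1 (.leaf 767) (.leaf 768)))))⟩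

/-- The stabiliser. -/
def caseCFullN31Els : Tab ℕ :=
(.node 16 (.node 8 (.node 4 (.node 2 (.node 1 (.leaf 17043521) (.leaf 17633347)) (.node 1 (.leaf 17584193) (.leaf 17061955)))
(.node 2 (.node 1 (.leaf 17649745) (.leaf 19097679)) (.node 1 (.leaf 17125443) (.leaf 17651777))))
(.node 4 (.node 2 (.node 1 (.leaf 17059923) (.leaf 19079263)) (.node 1 (.leaf 17569859) (.leaf 17109073)))
(.node 2 (.node 1 (.leaf 19605583) (.leaf 17635411)) (.node 1 (.leaf 19556447) (.leaf 19603549)))))
(.node 8 (.node 4 (.node 2 (.node 1 (.leaf 19621965) (.leaf 19537999)) (.node 1 (.leaf 19081293) (.leaf 17586257)))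
(.node 2 (.node 1 (.leaf 17111105) (.leaf 17567827)) (.node 1 (.leaf 19619935) (.leaf 17045585))))
(.node 4 (.node 2 (.node 1 (.leaf 19095645) (.leaf 17127507)) (.node 1 (.leaf 19015775) (.leaf 19030095)))
(.node 2 (.node 1 (.leaf 19013709) (.leaf 19032157)) (.node 1 (.leaf 19540061) (.leaf 19554381))))))

/-- Its index. -/
def caseCFullN31Ix : BT ℕ :=
(.node 19013709 28
(.node 17567827 21
(.node 17109073 11
(.node 17059923 8 (.node 17045585 23 (.node 17043521 0 .tip .tip) .tip) (.node 17061955 3 .tip .tip))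
(.node 17125443 6 (.node 17111105 20 .tip .tip) (.node 17127507 25 .tip .tip)))
(.node 17633347 1
(.node 17584193 2 (.node 17569859 10 .tip .tip) (.node 17586257 19 .tip .tip))
(.node 17649745 4 (.node 17635411 13 .tip .tip) (.node 17651777 7 .tip .tip))))
(.node 19537999 17
(.node 19079263 9
(.node 19030095 27 (.node 19015775 26 .tip .tip) (.node 19032157 29 .tip .tip))
(.node 19095645 24 (.node 19081293 18 .tip .tip) (.node 19097679 5 .tip .tip)))
(.node 19603549 15
(.node 19554381 31 (.node 19540061 30 .tip .tip) (.node 19556447 14 .tip .tip))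
(.node 19619935 22 (.node 19605583 12 .tip .tip) (.node 19621965 16 .tip .tip)))))

/-- The reasons. -/
def caseCFullN31How : Tab (ℕ × ℕ) :=
(.node 16 (.node 8 (.node 4 (.node 2 (.node 1 (.leaf (0, 0)) (.leaf (262, 0))) (.node 1 (.leaf (263, 0)) (.leaf (264, 0))))
(.node 2 (.node 1 (.leaf (265, 0)) (.leaf (283, 0))) (.node 1 (.leaf (263, 1)) (.leaf (264, 1)))))
(.node 4 (.node 2 (.node 1 (.leaf (265, 1)) (.leaf (283, 1))) (.node 1 (.leaf (264, 2)) (.leaf (265, 2))))
(.node 2 (.node 1 (.leaf (283, 2)) (.leaf (265, 3))) (.node 1 (.leaf (283, 3)) (.leaf (283, 4))))))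
(.node 8 (.node 4 (.node 2 (.node 1 (.leaf (262, 5)) (.leaf (263, 5))) (.node 1 (.leaf (264, 5)) (.leaf (283, 5))))
(.node 2 (.node 1 (.leaf (264, 6)) (.leaf (265, 6))) (.node 1 (.leaf (283, 6)) (.leaf (265, 7)))))
(.node 4 (.node 2 (.node 1 (.leaf (264, 9)) (.leaf (283, 9))) (.node 1 (.leaf (283, 10)) (.leaf (263, 12))))
(.node 2 (.node 1 (.leaf (283, 13)) (.leaf (262, 14))) (.node 1 (.leaf (264, 14)) (.leaf (264, 17)))))))

/-- The node. -/
def caseCFullN31Node : NodeD := ⟨31, 32, caseCFullN31Els, caseCFullN31Ix, caseCFullN31How, fun b => bif b then (.node 7 (.node 3 (.node 1 (.leaf 256) (.node 1 (.leaf 1130) (.leaf 1129)))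
(.node 2 (.node 1 (.leaf 284) (.leaf 7235)) (.node 1 (.leaf 7233) (.leaf 7234))))
(.node 3 (.node 1 (.leaf 7229) (.node 1 (.leaf 7237) (.leaf 7230)))
(.node 2 (.node 1 (.leaf 7236) (.leaf 7232)) (.node 1 (.leaf 7228) (.leaf 7231))))) else (.node 7 (.node 3 (.node 1 (.leaf 906) (.node 1 (.leaf 904) (.leaf 900)))
(.node 2 (.node 1 (.leaf 902) (.leaf 477)) (.node 1 (.leaf 481) (.leaf 7226))))
(.node 3 (.node 1 (.leaf 7227) (.node 1 (.leaf 905) (.leaf 903)))
(.node 2 (.node 1 (.leaf 901) (.leaf 898)) (.node 1 (.leaf 480) (.leaf 479)))))⟩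

/-- The stabiliser. -/
def caseCFullN34Els : Tab ℕ :=
(.node 96 (.node 48 (.node 24 (.node 12 (.node 6 (.node 3 (.node 1 (.leaf 17043521) (.node 1 (.leaf 17463371) (.leaf 16932943))) (.node 1 (.leaf 17190999) (.node 1 (.leaf 17260637) (.leaf 17764419))))
(.node 3 (.node 1 (.leaf 17119303) (.node 1 (.leaf 17053769) (.leaf 17584209))) (.node 1 (.leaf 17702981) (.node 1 (.leaf 16918617) (.leaf 17461325)))))
(.node 6 (.node 3 (.node 1 (.leaf 17567825) (.node 1 (.leaf 17043537) (.leaf 17594441))) (.node 1 (.leaf 17506391) (.node 1 (.leaf 17440863) (.leaf 16922715))))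
(.node 3 (.node 1 (.leaf 17649749) (.node 1 (.leaf 17782863) (.leaf 17262657))) (.node 1 (.leaf 16939099) (.node 1 (.leaf 17780803) (.leaf 17260621))))))
(.node 12 (.node 6 (.node 3 (.node 1 (.leaf 17004629) (.node 1 (.leaf 16939083) (.leaf 17174615))) (.node 1 (.leaf 17569883) (.node 1 (.leaf 17051731) (.leaf 17457247))))
(.node 3 (.node 1 (.leaf 17657951) (.node 1 (.leaf 17125461) (.leaf 17197147))) (.node 1 (.leaf 17698887) (.node 1 (.leaf 17051715) (.leaf 17446987)))))
(.node 6 (.node 3 (.node 1 (.leaf 16916559) (.node 1 (.leaf 17715271) (.leaf 17463387))) (.node 1 (.leaf 16932959) (.node 1 (.leaf 17190983) (.leaf 17256531))))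
(.node 3 (.node 1 (.leaf 17768525) (.node 1 (.leaf 16988229) (.leaf 17576003))) (.node 1 (.leaf 17045579) (.node 1 (.leaf 17784909) (.leaf 17578057)))))))
(.node 24 (.node 12 (.node 6 (.node 3 (.node 1 (.leaf 17719365) (.node 1 (.leaf 17784925) (.leaf 17135687))) (.node 1 (.leaf 16937037) (.node 1 (.leaf 17442905) (.leaf 17240147))))
(.node 3 (.node 1 (.leaf 17000531) (.node 1 (.leaf 17512517) (.leaf 17111117))) (.node 1 (.leaf 17659991) (.node 1 (.leaf 17442889) (.leaf 17244253)))))
(.node 6 (.node 3 (.node 1 (.leaf 17643607) (.node 1 (.leaf 17109061) (.leaf 17594457))) (.node 1 (.leaf 17506375) (.node 1 (.leaf 17246289) (.leaf 17578073))))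
(.node 3 (.node 1 (.leaf 17244237) (.node 1 (.leaf 17780819) (.leaf 17643591))) (.node 1 (.leaf 17459289) (.node 1 (.leaf 16937053) (.leaf 17059905))))))
(.node 12 (.node 6 (.node 3 (.node 1 (.leaf 17510465) (.node 1 (.leaf 16982087) (.leaf 17717337))) (.node 1 (.leaf 17195093) (.node 1 (.leaf 17070153) (.leaf 17178709))))
(.node 3 (.node 1 (.leaf 17705051) (.node 1 (.leaf 16986193) (.leaf 16920669))) (.node 1 (.leaf 17459273) (.node 1 (.leaf 17764435) (.leaf 17109077)))))
(.node 6 (.node 3 (.node 1 (.leaf 17657935) (.node 1 (.leaf 17508435) (.leaf 17717321))) (.node 1 (.leaf 17195077) (.node 1 (.leaf 17768541) (.leaf 16935001))))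
(.node 3 (.node 1 (.leaf 17444941) (.node 1 (.leaf 17119319) (.leaf 17053785))) (.node 1 (.leaf 17584193) (.node 1 (.leaf 17702997) (.leaf 16918601))))))))
(.node 48 (.node 24 (.node 12 (.node 6 (.node 3 (.node 1 (.leaf 17461341) (.node 1 (.leaf 17567809) (.leaf 16916575))) (.node 1 (.leaf 17633365) (.node 1 (.leaf 17522775) (.leaf 17786945))))
(.node 3 (.node 1 (.leaf 17258575) (.node 1 (.leaf 17070169) (.leaf 17700953))) (.node 1 (.leaf 17526849) (.node 1 (.leaf 16998471) (.leaf 17258591)))))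
(.node 6 (.node 3 (.node 1 (.leaf 17059921) (.node 1 (.leaf 17528917) (.leaf 17061979))) (.node 1 (.leaf 16982103) (.node 1 (.leaf 17242191) (.leaf 17786961))))
(.node 3 (.node 1 (.leaf 17180747) (.node 1 (.leaf 17715287) (.leaf 17641551))) (.node 1 (.leaf 17125445) (.node 1 (.leaf 17651789) (.leaf 17770577))))))
(.node 12 (.node 6 (.node 3 (.node 1 (.leaf 17242207) (.node 1 (.leaf 17528901) (.leaf 17000515))) (.node 1 (.leaf 17193049) (.node 1 (.leaf 17641567) (.leaf 17766479))))
(.node 3 (.node 1 (.leaf 17246273) (.node 1 (.leaf 16934985) (.leaf 17256515))) (.node 1 (.leaf 16988245) (.node 1 (.leaf 17576019) (.leaf 17045595)))))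
(.node 6 (.node 3 (.node 1 (.leaf 17651805) (.node 1 (.leaf 17135703) (.leaf 16998487))) (.node 1 (.leaf 17447003) (.node 1 (.leaf 17766495) (.leaf 17133647))))
(.node 3 (.node 1 (.leaf 17180763) (.node 1 (.leaf 16922699) (.leaf 17176665))) (.node 1 (.leaf 17592387) (.node 1 (.leaf 17061963) (.leaf 17510481)))))))
(.node 24 (.node 12 (.node 6 (.node 3 (.node 1 (.leaf 17111133) (.node 1 (.leaf 17240131) (.leaf 17586267))) (.node 1 (.leaf 17068115) (.node 1 (.leaf 17633349) (.leaf 17117263))))
(.node 3 (.node 1 (.leaf 17524803) (.node 1 (.leaf 17719381) (.leaf 17721435))) (.node 1 (.leaf 17068099) (.node 1 (.leaf 17133663) (.leaf 17440847)))))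
(.node 6 (.node 3 (.node 1 (.leaf 17649733) (.node 1 (.leaf 17705035) (.leaf 16986177))) (.node 1 (.leaf 17721419) (.node 1 (.leaf 17592403) (.leaf 17522759))))
(.node 3 (.node 1 (.leaf 17117279) (.node 1 (.leaf 17782879) (.leaf 17262673))) (.node 1 (.leaf 17004613) (.node 1 (.leaf 17174599) (.leaf 17569867))))))
(.node 12 (.node 6 (.node 3 (.node 1 (.leaf 17457231) (.node 1 (.leaf 17197131) (.leaf 17698903))) (.node 1 (.leaf 17127517) (.node 1 (.leaf 16984131) (.leaf 17512533))))
(.node 3 (.node 1 (.leaf 17700937) (.node 1 (.leaf 16984147) (.leaf 17127501))) (.node 1 (.leaf 17444957) (.node 1 (.leaf 17526865) (.leaf 16920653)))))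
(.node 6 (.node 3 (.node 1 (.leaf 17508419) (.node 1 (.leaf 17176649) (.leaf 17635405))) (.node 1 (.leaf 17524819) (.node 1 (.leaf 17635421) (.leaf 17770561))))
(.node 3 (.node 1 (.leaf 17178693) (.node 1 (.leaf 17586251) (.leaf 17659975))) (.node 1 (.leaf 17002577) (.node 1 (.leaf 17193033) (.leaf 17002561)))))))))

/-- Its index. -/
def caseCFullN34Ix : BT ℕ :=
(.node 17440847 155
(.node 17109061 61
(.node 16998471 106
(.node 16937037 51
(.node 16922699 139
(.node 16918617 10 (.node 16916575 98 (.node 16916559 36 .tip .tip) (.node 16918601 95 .tip .tip)) (.node 16920669 80 (.node 16920653 179 .tip .tip) .tip))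
(.node 16932959 39 (.node 16932943 2 (.node 16922715 17 .tip .tip) .tip) (.node 16935001 89 (.node 16934985 127 .tip .tip) .tip)))
(.node 16984131 172
(.node 16939099 21 (.node 16939083 25 (.node 16937053 70 .tip .tip) .tip) (.node 16982103 111 (.node 16982087 73 .tip .tip) .tip))
(.node 16986193 79 (.node 16986177 158 (.node 16984147 175 .tip .tip) .tip) (.node 16988245 129 (.node 16988229 43 .tip .tip) .tip))))
(.node 17051715 34
(.node 17004613 165
(.node 17000531 54 (.node 17000515 122 (.node 16998487 134 .tip .tip) .tip) (.node 17002577 189 (.node 17002561 191 .tip .tip) .tip))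
(.node 17043537 13 (.node 17043521 0 (.node 17004629 24 .tip .tip) .tip) (.node 17045595 131 (.node 17045579 45 .tip .tip) .tip)))
(.node 17061963 142
(.node 17053785 92 (.node 17053769 7 (.node 17051731 28 .tip .tip) .tip) (.node 17059921 108 (.node 17059905 71 .tip .tip) .tip))
(.node 17068115 147 (.node 17068099 153 (.node 17061979 110 .tip .tip) .tip) (.node 17070169 103 (.node 17070153 76 .tip .tip) .tip)))))
(.node 17190983 40
(.node 17133647 137
(.node 17119303 6
(.node 17111133 144 (.node 17111117 56 (.node 17109077 83 .tip .tip) .tip) (.node 17117279 162 (.node 17117263 149 .tip .tip) .tip))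
(.node 17125461 31 (.node 17125445 117 (.node 17119319 91 .tip .tip) .tip) (.node 17127517 171 (.node 17127501 176 .tip .tip) .tip)))
(.node 17176649 181
(.node 17135703 133 (.node 17135687 50 (.node 17133663 154 .tip .tip) .tip) (.node 17174615 26 (.node 17174599 166 .tip .tip) .tip))
(.node 17178709 77 (.node 17178693 186 (.node 17176665 140 .tip .tip) .tip) (.node 17180763 138 (.node 17180747 114 .tip .tip) .tip))))
(.node 17244237 66
(.node 17197131 169
(.node 17193049 123 (.node 17193033 190 (.node 17190999 3 .tip .tip) .tip) (.node 17195093 75 (.node 17195077 87 .tip .tip) .tip))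
(.node 17240147 53 (.node 17240131 145 (.node 17197147 32 .tip .tip) .tip) (.node 17242207 120 (.node 17242191 112 .tip .tip) .tip)))
(.node 17258575 102
(.node 17246289 64 (.node 17246273 126 (.node 17244253 59 .tip .tip) .tip) (.node 17256531 41 (.node 17256515 128 .tip .tip) .tip))
(.node 17260637 4 (.node 17260621 23 (.node 17258591 107 .tip .tip) .tip) (.node 17262673 164 (.node 17262657 20 .tip .tip) .tip))))))
(.node 17633349 148
(.node 17522759 161
(.node 17461325 11
(.node 17446987 35
(.node 17442905 52 (.node 17442889 58 (.node 17440863 16 .tip .tip) .tip) (.node 17444957 177 (.node 17444941 90 .tip .tip) .tip))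
(.node 17457247 29 (.node 17457231 168 (.node 17447003 135 .tip .tip) .tip) (.node 17459289 69 (.node 17459273 81 .tip .tip) .tip)))
(.node 17508419 180
(.node 17463387 38 (.node 17463371 1 (.node 17461341 96 .tip .tip) .tip) (.node 17506391 15 (.node 17506375 63 .tip .tip) .tip))
(.node 17510481 143 (.node 17510465 72 (.node 17508435 85 .tip .tip) .tip) (.node 17512533 173 (.node 17512517 55 .tip .tip) .tip))))
(.node 17576003 44
(.node 17528901 121
(.node 17524819 183 (.node 17524803 150 (.node 17522775 100 .tip .tip) .tip) (.node 17526865 178 (.node 17526849 105 .tip .tip) .tip))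
(.node 17567825 12 (.node 17567809 97 (.node 17528917 109 .tip .tip) .tip) (.node 17569883 27 (.node 17569867 167 .tip .tip) .tip)))
(.node 17586251 187
(.node 17578073 65 (.node 17578057 47 (.node 17576019 130 .tip .tip) .tip) (.node 17584209 8 (.node 17584193 93 .tip .tip) .tip))
(.node 17592403 160 (.node 17592387 141 (.node 17586267 146 .tip .tip) .tip) (.node 17594457 62 (.node 17594441 14 .tip .tip) .tip)))))
(.node 17715271 37
(.node 17657935 84
(.node 17643591 68
(.node 17635421 184 (.node 17635405 182 (.node 17633365 99 .tip .tip) .tip) (.node 17641567 124 (.node 17641551 116 .tip .tip) .tip))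
(.node 17649749 18 (.node 17649733 156 (.node 17643607 60 .tip .tip) .tip) (.node 17651805 132 (.node 17651789 118 .tip .tip) .tip)))
(.node 17700937 174
(.node 17659991 57 (.node 17659975 188 (.node 17657951 30 .tip .tip) .tip) (.node 17698903 170 (.node 17698887 33 .tip .tip) .tip))
(.node 17702997 94 (.node 17702981 9 (.node 17700953 104 .tip .tip) .tip) (.node 17705051 78 (.node 17705035 157 .tip .tip) .tip))))
(.node 17768525 42
(.node 17721419 159
(.node 17717337 74 (.node 17717321 86 (.node 17715287 115 .tip .tip) .tip) (.node 17719381 151 (.node 17719365 48 .tip .tip) .tip))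
(.node 17764435 82 (.node 17764419 5 (.node 17721435 152 .tip .tip) .tip) (.node 17766495 136 (.node 17766479 125 .tip .tip) .tip)))
(.node 17782863 19
(.node 17770577 119 (.node 17770561 185 (.node 17768541 88 .tip .tip) .tip) (.node 17780819 67 (.node 17780803 22 .tip .tip) .tip))
(.node 17784925 49 (.node 17784909 46 (.node 17782879 163 .tip .tip) .tip) (.node 17786961 113 (.node 17786945 101 .tip .tip) .tip)))))))

/-- The reasons. -/
def caseCFullN34How : Tab (ℕ × ℕ) :=
(.node 96 (.node 48 (.node 24 (.node 12 (.node 6 (.node 3 (.node 1 (.leaf (0, 0)) (.node 1 (.leaf (297, 0)) (.leaf (298, 0)))) (.node 1 (.leaf (299, 0)) (.node 1 (.leaf (297, 1)) (.leaf (298, 1)))))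
(.node 3 (.node 1 (.leaf (299, 1)) (.node 1 (.leaf (297, 2)) (.leaf (298, 2)))) (.node 1 (.leaf (299, 2)) (.node 1 (.leaf (297, 3)) (.leaf (298, 3))))))
(.node 6 (.node 3 (.node 1 (.leaf (299, 3)) (.node 1 (.leaf (297, 4)) (.leaf (298, 4)))) (.node 1 (.leaf (299, 4)) (.node 1 (.leaf (297, 5)) (.leaf (298, 5)))))
(.node 3 (.node 1 (.leaf (299, 5)) (.node 1 (.leaf (297, 6)) (.leaf (298, 6)))) (.node 1 (.leaf (299, 6)) (.node 1 (.leaf (297, 7)) (.leaf (298, 7)))))))
(.node 12 (.node 6 (.node 3 (.node 1 (.leaf (299, 7)) (.node 1 (.leaf (297, 8)) (.leaf (299, 8)))) (.node 1 (.leaf (297, 9)) (.node 1 (.leaf (298, 9)) (.leaf (299, 9)))))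
(.node 3 (.node 1 (.leaf (297, 10)) (.node 1 (.leaf (298, 10)) (.leaf (297, 11)))) (.node 1 (.leaf (298, 11)) (.node 1 (.leaf (299, 11)) (.leaf (297, 12))))))
(.node 6 (.node 3 (.node 1 (.leaf (298, 12)) (.node 1 (.leaf (299, 12)) (.leaf (297, 13)))) (.node 1 (.leaf (298, 13)) (.node 1 (.leaf (299, 13)) (.leaf (297, 14)))))
(.node 3 (.node 1 (.leaf (298, 14)) (.node 1 (.leaf (299, 14)) (.leaf (297, 15)))) (.node 1 (.leaf (298, 15)) (.node 1 (.leaf (299, 15)) (.leaf (297, 16))))))))
(.node 24 (.node 12 (.node 6 (.node 3 (.node 1 (.leaf (299, 16)) (.node 1 (.leaf (297, 17)) (.leaf (299, 17)))) (.node 1 (.leaf (297, 18)) (.node 1 (.leaf (298, 18)) (.leaf (299, 18)))))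
(.node 3 (.node 1 (.leaf (297, 19)) (.node 1 (.leaf (298, 19)) (.leaf (297, 20)))) (.node 1 (.leaf (298, 20)) (.node 1 (.leaf (299, 20)) (.leaf (297, 21))))))
(.node 6 (.node 3 (.node 1 (.leaf (299, 21)) (.node 1 (.leaf (299, 22)) (.leaf (298, 23)))) (.node 1 (.leaf (299, 23)) (.node 1 (.leaf (297, 24)) (.leaf (299, 24)))))
(.node 3 (.node 1 (.leaf (297, 25)) (.node 1 (.leaf (298, 25)) (.leaf (299, 25)))) (.node 1 (.leaf (297, 26)) (.node 1 (.leaf (298, 26)) (.leaf (299, 26)))))))
(.node 12 (.node 6 (.node 3 (.node 1 (.leaf (297, 27)) (.node 1 (.leaf (298, 27)) (.leaf (297, 28)))) (.node 1 (.leaf (298, 28)) (.node 1 (.leaf (297, 29)) (.leaf (299, 29)))))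
(.node 3 (.node 1 (.leaf (298, 30)) (.node 1 (.leaf (299, 30)) (.leaf (297, 31)))) (.node 1 (.leaf (298, 31)) (.node 1 (.leaf (299, 31)) (.leaf (297, 32))))))
(.node 6 (.node 3 (.node 1 (.leaf (298, 32)) (.node 1 (.leaf (299, 32)) (.leaf (297, 34)))) (.node 1 (.leaf (298, 34)) (.node 1 (.leaf (297, 35)) (.leaf (297, 37)))))
(.node 3 (.node 1 (.leaf (298, 37)) (.node 1 (.leaf (299, 38)) (.leaf (297, 39)))) (.node 1 (.leaf (298, 39)) (.node 1 (.leaf (299, 39)) (.leaf (297, 40)))))))))
(.node 48 (.node 24 (.node 12 (.node 6 (.node 3 (.node 1 (.leaf (298, 40)) (.node 1 (.leaf (299, 40)) (.leaf (297, 41)))) (.node 1 (.leaf (299, 41)) (.node 1 (.leaf (299, 42)) (.leaf (297, 43)))))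
(.node 3 (.node 1 (.leaf (298, 43)) (.node 1 (.leaf (299, 43)) (.leaf (297, 44)))) (.node 1 (.leaf (297, 45)) (.node 1 (.leaf (298, 45)) (.leaf (299, 45))))))
(.node 6 (.node 3 (.node 1 (.leaf (297, 46)) (.node 1 (.leaf (299, 47)) (.leaf (297, 48)))) (.node 1 (.leaf (299, 49)) (.node 1 (.leaf (297, 50)) (.leaf (298, 50)))))
(.node 3 (.node 1 (.leaf (297, 51)) (.node 1 (.leaf (298, 51)) (.leaf (297, 52)))) (.node 1 (.leaf (299, 53)) (.node 1 (.leaf (298, 54)) (.leaf (297, 55)))))))
(.node 12 (.node 6 (.node 3 (.node 1 (.leaf (298, 55)) (.node 1 (.leaf (297, 56)) (.leaf (298, 56)))) (.node 1 (.leaf (299, 56)) (.node 1 (.leaf (297, 58)) (.leaf (297, 60)))))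
(.node 3 (.node 1 (.leaf (298, 60)) (.node 1 (.leaf (298, 61)) (.leaf (297, 62)))) (.node 1 (.leaf (299, 62)) (.node 1 (.leaf (297, 63)) (.leaf (298, 63))))))
(.node 6 (.node 3 (.node 1 (.leaf (297, 64)) (.node 1 (.leaf (298, 64)) (.leaf (299, 66)))) (.node 1 (.leaf (298, 67)) (.node 1 (.leaf (297, 68)) (.leaf (297, 69)))))
(.node 3 (.node 1 (.leaf (297, 70)) (.node 1 (.leaf (297, 71)) (.leaf (298, 72)))) (.node 1 (.leaf (297, 73)) (.node 1 (.leaf (298, 73)) (.leaf (298, 74))))))))
(.node 24 (.node 12 (.node 6 (.node 3 (.node 1 (.leaf (299, 74)) (.node 1 (.leaf (297, 76)) (.leaf (297, 77)))) (.node 1 (.leaf (298, 77)) (.node 1 (.leaf (297, 78)) (.leaf (298, 78)))))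
(.node 3 (.node 1 (.leaf (299, 78)) (.node 1 (.leaf (297, 79)) (.leaf (297, 80)))) (.node 1 (.leaf (299, 80)) (.node 1 (.leaf (297, 81)) (.leaf (297, 82))))))
(.node 6 (.node 3 (.node 1 (.leaf (299, 82)) (.node 1 (.leaf (298, 84)) (.leaf (299, 84)))) (.node 1 (.leaf (299, 85)) (.node 1 (.leaf (298, 87)) (.leaf (299, 88)))))
(.node 3 (.node 1 (.leaf (297, 89)) (.node 1 (.leaf (297, 91)) (.leaf (298, 91)))) (.node 1 (.leaf (299, 92)) (.node 1 (.leaf (299, 93)) (.leaf (297, 94)))))))
(.node 12 (.node 6 (.node 3 (.node 1 (.leaf (299, 94)) (.node 1 (.leaf (297, 96)) (.leaf (298, 96)))) (.node 1 (.leaf (297, 101)) (.node 1 (.leaf (297, 102)) (.leaf (299, 103)))))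
(.node 3 (.node 1 (.leaf (298, 105)) (.node 1 (.leaf (297, 107)) (.leaf (297, 113)))) (.node 1 (.leaf (298, 115)) (.node 1 (.leaf (299, 116)) (.leaf (297, 117))))))
(.node 6 (.node 3 (.node 1 (.leaf (298, 118)) (.node 1 (.leaf (299, 118)) (.leaf (297, 119)))) (.node 1 (.leaf (297, 120)) (.node 1 (.leaf (299, 123)) (.leaf (299, 127)))))
(.node 3 (.node 1 (.leaf (298, 130)) (.node 1 (.leaf (298, 134)) (.leaf (299, 135)))) (.node 1 (.leaf (298, 140)) (.node 1 (.leaf (299, 144)) (.leaf (297, 146))))))))))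

/-- The node. -/
def caseCFullN34Node : NodeD := ⟨34, 192, caseCFullN34Els, caseCFullN34Ix, caseCFullN34How, fun b => bif b then (.node 7 (.node 3 (.node 1 (.leaf 352) (.node 1 (.leaf 349) (.leaf 348)))
(.node 2 (.node 1 (.leaf 351) (.leaf 350)) (.node 1 (.leaf 347) (.leaf 7256))))
(.node 3 (.node 1 (.leaf 7252) (.node 1 (.leaf 7258) (.leaf 7253)))
(.node 2 (.node 1 (.leaf 7257) (.leaf 7255)) (.node 1 (.leaf 7251) (.leaf 7254))))) else (.node 7 (.node 3 (.node 1 (.leaf 7248) (.node 1 (.leaf 7245) (.leaf 7242)))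
(.node 2 (.node 1 (.leaf 7240) (.leaf 7243)) (.node 1 (.leaf 7241) (.leaf 286))))
(.node 3 (.node 1 (.leaf 7247) (.node 1 (.leaf 7239) (.leaf 7238)))
(.node 2 (.node 1 (.leaf 7244) (.leaf 7246)) (.node 1 (.leaf 7249) (.leaf 7250)))))⟩

/-- The stabiliser. -/
def caseCFullN39Els : Tab ℕ :=
(.node 16 (.node 8 (.node 4 (.node 2 (.node 1 (.leaf 17043521) (.leaf 16932947)) (.node 1 (.leaf 17584209) (.leaf 16916575)))
(.node 2 (.node 1 (.leaf 17111117) (.leaf 17584193)) (.node 1 (.leaf 17440835) (.leaf 17567837))))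
(.node 4 (.node 2 (.node 1 (.leaf 17000527) (.leaf 17457231)) (.node 1 (.leaf 17651805) (.leaf 17059917)))
(.node 2 (.node 1 (.leaf 16984147) (.leaf 17000543)) (.node 1 (.leaf 17440851) (.leaf 17043537)))))
(.node 8 (.node 4 (.node 2 (.node 1 (.leaf 17457247) (.leaf 17651789)) (.node 1 (.leaf 17508447) (.leaf 16916559)))
(.node 2 (.node 1 (.leaf 17635393) (.leaf 17524803)) (.node 1 (.leaf 17508431) (.leaf 17127505))))
(.node 4 (.node 2 (.node 1 (.leaf 17127489) (.leaf 17635409)) (.node 1 (.leaf 16932931) (.leaf 17059933)))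
(.node 2 (.node 1 (.leaf 17111133) (.leaf 17567821)) (.node 1 (.leaf 17524819) (.leaf 16984131))))))

/-- Its index. -/
def caseCFullN39Ix : BT ℕ :=
(.node 17440835 6
(.node 17043521 0
(.node 16984131 31
(.node 16932931 26 (.node 16916575 3 (.node 16916559 19 .tip .tip) .tip) (.node 16932947 1 .tip .tip))
(.node 17000527 8 (.node 16984147 12 .tip .tip) (.node 17000543 13 .tip .tip)))
(.node 17111117 4
(.node 17059917 11 (.node 17043537 15 .tip .tip) (.node 17059933 27 .tip .tip))
(.node 17127489 24 (.node 17111133 28 .tip .tip) (.node 17127505 23 .tip .tip))))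
(.node 17567821 29
(.node 17508431 22
(.node 17457231 9 (.node 17440851 14 .tip .tip) (.node 17457247 16 .tip .tip))
(.node 17524803 21 (.node 17508447 18 .tip .tip) (.node 17524819 30 .tip .tip)))
(.node 17635393 20
(.node 17584193 5 (.node 17567837 7 .tip .tip) (.node 17584209 2 .tip .tip))
(.node 17651789 17 (.node 17635409 25 .tip .tip) (.node 17651805 10 .tip .tip)))))

/-- The reasons. -/
def caseCFullN39How : Tab (ℕ × ℕ) :=
(.node 16 (.node 8 (.node 4 (.node 2 (.node 1 (.leaf (0, 0)) (.leaf (323, 0))) (.node 1 (.leaf (324, 0)) (.leaf (325, 0))))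
(.node 2 (.node 1 (.leaf (326, 0)) (.leaf (323, 1))) (.node 1 (.leaf (324, 1)) (.leaf (325, 1)))))
(.node 4 (.node 2 (.node 1 (.leaf (326, 1)) (.leaf (325, 2))) (.node 1 (.leaf (326, 2)) (.leaf (323, 3))))
(.node 2 (.node 1 (.leaf (326, 3)) (.leaf (323, 4))) (.node 1 (.leaf (323, 5)) (.leaf (324, 5))))))
(.node 8 (.node 4 (.node 2 (.node 1 (.leaf (325, 5)) (.leaf (326, 5))) (.node 1 (.leaf (326, 6)) (.leaf (323, 7))))
(.node 2 (.node 1 (.leaf (326, 7)) (.leaf (326, 9))) (.node 1 (.leaf (323, 10)) (.leaf (326, 11)))))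
(.node 4 (.node 2 (.node 1 (.leaf (323, 12)) (.leaf (325, 13))) (.node 1 (.leaf (326, 13)) (.leaf (325, 14))))
(.node 2 (.node 1 (.leaf (326, 15)) (.leaf (323, 16))) (.node 1 (.leaf (326, 16)) (.leaf (326, 19)))))))

/-- The node. -/
def caseCFullN39Node : NodeD := ⟨39, 32, caseCFullN39Els, caseCFullN39Ix, caseCFullN39How, fun b => bif b then (.node 7 (.node 3 (.node 1 (.leaf 376) (.node 1 (.leaf 374) (.leaf 375)))
(.node 2 (.node 1 (.leaf 372) (.leaf 7271)) (.node 1 (.leaf 7269) (.leaf 7270))))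
(.node 3 (.node 1 (.leaf 7265) (.node 1 (.leaf 7273) (.leaf 7266)))
(.node 2 (.node 1 (.leaf 7272) (.leaf 7268)) (.node 1 (.leaf 7264) (.leaf 7267))))) else (.node 7 (.node 3 (.node 1 (.leaf 1356) (.node 1 (.leaf 1351) (.leaf 1353)))
(.node 2 (.node 1 (.leaf 1352) (.leaf 7260)) (.node 1 (.leaf 7259) (.leaf 315))))
(.node 3 (.node 1 (.leaf 7261) (.node 1 (.leaf 1354) (.leaf 1348)))
(.node 2 (.node 1 (.leaf 1355) (.leaf 1350)) (.node 1 (.leaf 7262) (.leaf 7263)))))⟩

/-- The stabiliser. -/
def caseCFullN50Els : Tab ℕ :=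
(.node 8 (.node 4 (.node 2 (.node 1 (.leaf 17043521) (.leaf 19206211)) (.node 1 (.leaf 17068097) (.leaf 8919107)))
(.node 2 (.node 1 (.leaf 23492675) (.leaf 19230787)) (.node 1 (.leaf 11081793) (.leaf 21461057))))
(.node 4 (.node 2 (.node 1 (.leaf 8943683) (.leaf 15341635)) (.node 1 (.leaf 13332545) (.leaf 23466051)))
(.node 2 (.node 1 (.leaf 11106369) (.leaf 13310017)) (.node 1 (.leaf 15364163) (.leaf 21434433)))))

/-- Its index. -/
def caseCFullN50Ix : BT ℕ :=
(.node 17043521 0
(.node 13310017 13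
(.node 11081793 6 (.node 8943683 8 (.node 8919107 3 .tip .tip) .tip) (.node 11106369 12 .tip .tip))
(.node 15341635 9 (.node 13332545 10 .tip .tip) (.node 15364163 14 .tip .tip)))
(.node 21434433 15
(.node 19206211 1 (.node 17068097 2 .tip .tip) (.node 19230787 5 .tip .tip))
(.node 23466051 11 (.node 21461057 7 .tip .tip) (.node 23492675 4 .tip .tip))))

/-- The reasons. -/
def caseCFullN50How : Tab (ℕ × ℕ) :=
(.node 8 (.node 4 (.node 2 (.node 1 (.leaf (0, 0)) (.leaf (380, 0))) (.node 1 (.leaf (381, 0)) (.leaf (382, 0))))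
(.node 2 (.node 1 (.leaf (400, 0)) (.leaf (381, 1))) (.node 1 (.leaf (382, 1)) (.leaf (400, 1)))))
(.node 4 (.node 2 (.node 1 (.leaf (382, 2)) (.leaf (400, 2))) (.node 1 (.leaf (400, 3)) (.leaf (381, 4))))
(.node 2 (.node 1 (.leaf (382, 5)) (.leaf (400, 5))) (.node 1 (.leaf (400, 6)) (.leaf (381, 7))))))

/-- The node. -/
def caseCFullN50Node : NodeD := ⟨50, 16, caseCFullN50Els, caseCFullN50Ix, caseCFullN50How, fun b => bif b then (.node 7 (.node 3 (.node 1 (.leaf 373) (.node 1 (.leaf 7279) (.leaf 7276)))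
(.node 2 (.node 1 (.leaf 501) (.leaf 7281)) (.node 1 (.leaf 502) (.leaf 7280))))
(.node 3 (.node 1 (.leaf 500) (.node 1 (.leaf 7283) (.leaf 499)))
(.node 2 (.node 1 (.leaf 7282) (.leaf 7278)) (.node 1 (.leaf 401) (.leaf 7277))))) else (.node 7 (.node 3 (.node 1 (.leaf 519) (.node 1 (.leaf 523) (.leaf 1418)))
(.node 2 (.node 1 (.leaf 1420) (.leaf 1424)) (.node 1 (.leaf 1423) (.leaf 1422))))
(.node 3 (.node 1 (.leaf 1421) (.node 1 (.leaf 1425) (.leaf 1426)))
(.node 2 (.node 1 (.leaf 7274) (.leaf 7275)) (.node 1 (.leaf 521) (.leaf 522)))))⟩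

/-- The stabiliser. -/
def caseCFullN53Els : Tab ℕ :=
(.node 16 (.node 8 (.node 4 (.node 2 (.node 1 (.leaf 17043521) (.leaf 17258587)) (.node 1 (.leaf 17109063) (.leaf 17698899)))
(.node 2 (.node 1 (.leaf 17633351) (.leaf 17193039)) (.node 1 (.leaf 17061961) (.leaf 17193055))))
(.node 4 (.node 2 (.node 1 (.leaf 17764437) (.leaf 17651805)) (.node 1 (.leaf 17717327) (.leaf 17567809)))
(.node 2 (.node 1 (.leaf 17240149) (.leaf 17567825)) (.node 1 (.leaf 17127517) (.leaf 17258571)))))
(.node 8 (.node 4 (.node 2 (.node 1 (.leaf 17127501) (.leaf 17586265)) (.node 1 (.leaf 17586249) (.leaf 17782875)))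
(.node 2 (.node 1 (.leaf 17782859) (.leaf 17174611)) (.node 1 (.leaf 17633367) (.leaf 17174595))))
(.node 4 (.node 2 (.node 1 (.leaf 17764421) (.leaf 17061977)) (.node 1 (.leaf 17651789) (.leaf 17109079)))
(.node 2 (.node 1 (.leaf 17717343) (.leaf 17240133)) (.node 1 (.leaf 17698883) (.leaf 17043537))))))

/-- Its index. -/
def caseCFullN53Ix : BT ℕ :=
(.node 17567809 11
(.node 17174595 23
(.node 17109063 2
(.node 17061961 6 (.node 17043537 31 (.node 17043521 0 .tip .tip) .tip) (.node 17061977 25 .tip .tip))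
(.node 17127501 16 (.node 17109079 27 .tip .tip) (.node 17127517 14 .tip .tip)))
(.node 17240133 29
(.node 17193039 5 (.node 17174611 21 .tip .tip) (.node 17193055 7 .tip .tip))
(.node 17258571 15 (.node 17240149 12 .tip .tip) (.node 17258587 1 .tip .tip))))
(.node 17698883 30
(.node 17633351 4
(.node 17586249 18 (.node 17567825 13 .tip .tip) (.node 17586265 17 .tip .tip))
(.node 17651789 26 (.node 17633367 22 .tip .tip) (.node 17651805 9 .tip .tip)))
(.node 17764421 24
(.node 17717327 10 (.node 17698899 3 .tip .tip) (.node 17717343 28 .tip .tip))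
(.node 17782859 20 (.node 17764437 8 .tip .tip) (.node 17782875 19 .tip .tip)))))

/-- The reasons. -/
def caseCFullN53How : Tab (ℕ × ℕ) :=
(.node 16 (.node 8 (.node 4 (.node 2 (.node 1 (.leaf (0, 0)) (.leaf (414, 0))) (.node 1 (.leaf (415, 0)) (.leaf (416, 0))))
(.node 2 (.node 1 (.leaf (414, 1)) (.leaf (415, 1))) (.node 1 (.leaf (416, 1)) (.leaf (414, 2)))))
(.node 4 (.node 2 (.node 1 (.leaf (416, 2)) (.leaf (414, 3))) (.node 1 (.leaf (414, 4)) (.leaf (415, 4))))
(.node 2 (.node 1 (.leaf (416, 4)) (.leaf (414, 5))) (.node 1 (.leaf (416, 5)) (.leaf (415, 7))))))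
(.node 8 (.node 4 (.node 2 (.node 1 (.leaf (416, 7)) (.leaf (414, 8))) (.node 1 (.leaf (415, 9)) (.leaf (415, 10))))
(.node 2 (.node 1 (.leaf (414, 11)) (.leaf (416, 11))) (.node 1 (.leaf (415, 13)) (.leaf (416, 13)))))
(.node 4 (.node 2 (.node 1 (.leaf (414, 14)) (.leaf (416, 15))) (.node 1 (.leaf (415, 17)) (.leaf (414, 19))))
(.node 2 (.node 1 (.leaf (415, 20)) (.leaf (416, 22))) (.node 1 (.leaf (415, 24)) (.leaf (415, 27)))))))

/-- The node. -/
def caseCFullN53Node : NodeD := ⟨53, 32, caseCFullN53Els, caseCFullN53Ix, caseCFullN53How, fun b => bif b then (.node 7 (.node 3 (.node 1 (.leaf 7297) (.node 1 (.leaf 7303) (.leaf 453)))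
(.node 2 (.node 1 (.leaf 452) (.leaf 7306)) (.node 1 (.leaf 7304) (.leaf 7305))))
(.node 3 (.node 1 (.leaf 7299) (.node 1 (.leaf 7308) (.leaf 7300)))
(.node 2 (.node 1 (.leaf 7307) (.leaf 7302)) (.node 1 (.leaf 7298) (.leaf 7301))))) else (.node 7 (.node 3 (.node 1 (.leaf 7294) (.node 1 (.leaf 7291) (.leaf 7288)))
(.node 2 (.node 1 (.leaf 7286) (.leaf 7289)) (.node 1 (.leaf 7287) (.leaf 403))))
(.node 3 (.node 1 (.leaf 7293) (.node 1 (.leaf 7285) (.leaf 7284)))
(.node 2 (.node 1 (.leaf 7290) (.leaf 7292)) (.node 1 (.leaf 7295) (.leaf 7296)))))⟩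

/-- The stabiliser. -/
def caseCFullN57Els : Tab ℕ :=
(.node 8 (.node 4 (.node 2 (.node 1 (.leaf 17043521) (.leaf 17584209)) (.node 1 (.leaf 17111119) (.leaf 17524829)))
(.node 2 (.node 1 (.leaf 17524813) (.leaf 17651807)) (.node 1 (.leaf 16984141) (.leaf 16984157))))
(.node 4 (.node 2 (.node 1 (.leaf 17457235) (.leaf 17457219)) (.node 1 (.leaf 17043537) (.leaf 16916547)))
(.node 2 (.node 1 (.leaf 16916563) (.leaf 17584193)) (.node 1 (.leaf 17111135) (.leaf 17651791)))))

/-- Its index. -/
def caseCFullN57Ix : BT ℕ :=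
(.node 17457219 9
(.node 17043521 0
(.node 16984141 6 (.node 16916563 12 (.node 16916547 11 .tip .tip) .tip) (.node 16984157 7 .tip .tip))
(.node 17111119 2 (.node 17043537 10 .tip .tip) (.node 17111135 14 .tip .tip)))
(.node 17584193 13
(.node 17524813 4 (.node 17457235 8 .tip .tip) (.node 17524829 3 .tip .tip))
(.node 17651791 15 (.node 17584209 1 .tip .tip) (.node 17651807 5 .tip .tip))))

/-- The reasons. -/
def caseCFullN57How : Tab (ℕ × ℕ) :=
(.node 8 (.node 4 (.node 2 (.node 1 (.leaf (0, 0)) (.leaf (440, 0))) (.node 1 (.leaf (441, 0)) (.leaf (442, 0))))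
(.node 2 (.node 1 (.leaf (443, 0)) (.leaf (441, 1))) (.node 1 (.leaf (442, 1)) (.leaf (443, 1)))))
(.node 4 (.node 2 (.node 1 (.leaf (442, 2)) (.leaf (443, 2))) (.node 1 (.leaf (443, 3)) (.leaf (442, 5))))
(.node 2 (.node 1 (.leaf (443, 5)) (.leaf (443, 6))) (.node 1 (.leaf (443, 8)) (.leaf (443, 11))))))

/-- The node. -/
def caseCFullN57Node : NodeD := ⟨57, 16, caseCFullN57Els, caseCFullN57Ix, caseCFullN57How, fun b => bif b then (.node 7 (.node 3 (.node 1 (.leaf 7322) (.node 1 (.leaf 7329) (.leaf 7324)))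
(.node 2 (.node 1 (.leaf 7334) (.leaf 7332)) (.node 1 (.leaf 7330) (.leaf 7331))))
(.node 3 (.node 1 (.leaf 7325) (.node 1 (.leaf 7335) (.leaf 7326)))
(.node 2 (.node 1 (.leaf 7333) (.leaf 7328)) (.node 1 (.leaf 7323) (.leaf 7327))))) else (.node 7 (.node 3 (.node 1 (.leaf 7319) (.node 1 (.leaf 7316) (.leaf 7313)))
(.node 2 (.node 1 (.leaf 7311) (.leaf 7314)) (.node 1 (.leaf 7312) (.leaf 428))))
(.node 3 (.node 1 (.leaf 7318) (.node 1 (.leaf 7310) (.leaf 7309)))
(.node 2 (.node 1 (.leaf 7315) (.leaf 7317)) (.node 1 (.leaf 7320) (.leaf 7321)))))⟩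

/-- The stabiliser. -/
def caseCFullN62Els : Tab ℕ :=
(.node 4 (.node 2 (.node 1 (.leaf 17043521) (.leaf 17592393)) (.node 1 (.leaf 17070153) (.leaf 17059921)))
(.node 2 (.node 1 (.leaf 17586257) (.leaf 17569857)) (.node 1 (.leaf 17576025) (.leaf 17053785))))

/-- Its index. -/
def caseCFullN62Ix : BT ℕ :=
(.node 17569857 5
(.node 17059921 3 (.node 17053785 7 (.node 17043521 0 .tip .tip) .tip) (.node 17070153 2 .tip .tip))
(.node 17586257 4 (.node 17576025 6 .tip .tip) (.node 17592393 1 .tip .tip)))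

/-- The reasons. -/
def caseCFullN62How : Tab (ℕ × ℕ) :=
(.node 4 (.node 2 (.node 1 (.leaf (0, 0)) (.leaf (484, 0))) (.node 1 (.leaf (485, 0)) (.leaf (484, 1))))
(.node 2 (.node 1 (.leaf (485, 1)) (.leaf (484, 2))) (.node 1 (.leaf (484, 3)) (.leaf (485, 3)))))

/-- The node. -/
def caseCFullN62Node : NodeD := ⟨62, 8, caseCFullN62Els, caseCFullN62Ix, caseCFullN62How, fun b => bif b then (.node 7 (.node 3 (.node 1 (.leaf 7349) (.node 1 (.leaf 7356) (.leaf 7351)))
(.node 2 (.node 1 (.leaf 7361) (.leaf 7359)) (.node 1 (.leaf 7357) (.leaf 7358))))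
(.node 3 (.node 1 (.leaf 7352) (.node 1 (.leaf 7362) (.leaf 7353)))
(.node 2 (.node 1 (.leaf 7360) (.leaf 7355)) (.node 1 (.leaf 7350) (.leaf 7354))))) else (.node 7 (.node 3 (.node 1 (.leaf 7346) (.node 1 (.leaf 7343) (.leaf 7340)))
(.node 2 (.node 1 (.leaf 7338) (.leaf 7341)) (.node 1 (.leaf 7339) (.leaf 478))))
(.node 3 (.node 1 (.leaf 7345) (.node 1 (.leaf 7337) (.leaf 7336)))
(.node 2 (.node 1 (.leaf 7342) (.leaf 7344)) (.node 1 (.leaf 7347) (.leaf 7348)))))⟩

/-- The stabiliser. -/
def caseCFullN71Els : Tab ℕ :=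
(.node 2 (.node 1 (.leaf 17043521) (.leaf 17649745)) (.node 1 (.leaf 17125441) (.leaf 17567825)))

/-- Its index. -/
def caseCFullN71Ix : BT ℕ :=
(.node 17567825 3 (.node 17125441 2 (.node 17043521 0 .tip .tip) .tip) (.node 17649745 1 .tip .tip))

/-- The reasons. -/
def caseCFullN71How : Tab (ℕ × ℕ) :=
(.node 2 (.node 1 (.leaf (0, 0)) (.leaf (526, 0))) (.node 1 (.leaf (527, 0)) (.leaf (527, 1))))

/-- The node. -/
def caseCFullN71Node : NodeD := ⟨71, 4, caseCFullN71Els, caseCFullN71Ix, caseCFullN71How, fun b => bif b then (.node 7 (.node 3 (.node 1 (.leaf 7372) (.node 1 (.leaf 7379) (.leaf 7374)))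
(.node 2 (.node 1 (.leaf 7384) (.leaf 7382)) (.node 1 (.leaf 7380) (.leaf 7381))))
(.node 3 (.node 1 (.leaf 7375) (.node 1 (.leaf 7385) (.leaf 7376)))
(.node 2 (.node 1 (.leaf 7383) (.leaf 7378)) (.node 1 (.leaf 7373) (.leaf 7377))))) else (.node 7 (.node 3 (.node 1 (.leaf 7369) (.node 1 (.leaf 7367) (.leaf 1521)))
(.node 2 (.node 1 (.leaf 1522) (.leaf 7366)) (.node 1 (.leaf 7365) (.leaf 520))))
(.node 3 (.node 1 (.leaf 7368) (.node 1 (.leaf 7364) (.leaf 7363)))
(.node 2 (.node 1 (.leaf 1523) (.leaf 1520)) (.node 1 (.leaf 7370) (.leaf 7371)))))⟩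

/-- The stabiliser. -/
def caseCFullN86Els : Tab ℕ :=
(.node 8 (.node 4 (.node 2 (.node 1 (.leaf 17043521) (.leaf 17657927)) (.node 1 (.leaf 17053777) (.leaf 17061961)))
(.node 2 (.node 1 (.leaf 17061977) (.leaf 17633367)) (.node 1 (.leaf 17643613) (.leaf 17651805))))
(.node 4 (.node 2 (.node 1 (.leaf 17068121) (.leaf 17643597)) (.node 1 (.leaf 17068105) (.leaf 17043537)))
(.node 2 (.node 1 (.leaf 17651789) (.leaf 17633351)) (.node 1 (.leaf 17657943) (.leaf 17053761)))))

/-- Its index. -/
def caseCFullN86Ix : BT ℕ :=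
(.node 17633351 13
(.node 17061961 3
(.node 17053761 15 (.node 17043537 11 (.node 17043521 0 .tip .tip) .tip) (.node 17053777 2 .tip .tip))
(.node 17068105 10 (.node 17061977 4 .tip .tip) (.node 17068121 8 .tip .tip)))
(.node 17651789 12
(.node 17643597 9 (.node 17633367 5 .tip .tip) (.node 17643613 6 .tip .tip))
(.node 17657927 1 (.node 17651805 7 .tip .tip) (.node 17657943 14 .tip .tip))))

/-- The reasons. -/
def caseCFullN86How : Tab (ℕ × ℕ) :=
(.node 8 (.node 4 (.node 2 (.node 1 (.leaf (0, 0)) (.leaf (621, 0))) (.node 1 (.leaf (622, 0)) (.leaf (623, 0))))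
(.node 2 (.node 1 (.leaf (621, 1)) (.leaf (622, 1))) (.node 1 (.leaf (623, 1)) (.leaf (621, 2)))))
(.node 4 (.node 2 (.node 1 (.leaf (623, 2)) (.leaf (621, 4))) (.node 1 (.leaf (622, 4)) (.leaf (623, 4))))
(.node 2 (.node 1 (.leaf (623, 5)) (.leaf (623, 7))) (.node 1 (.leaf (623, 9)) (.leaf (623, 10))))))

/-- The node. -/
def caseCFullN86Node : NodeD := ⟨86, 16, caseCFullN86Els, caseCFullN86Ix, caseCFullN86How, fun b => bif b then (.node 7 (.node 3 (.node 1 (.leaf 7397) (.node 1 (.leaf 7404) (.leaf 7399)))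
(.node 2 (.node 1 (.leaf 7409) (.leaf 7407)) (.node 1 (.leaf 7405) (.leaf 7406))))
(.node 3 (.node 1 (.leaf 7400) (.node 1 (.leaf 7410) (.leaf 7401)))
(.node 2 (.node 1 (.leaf 7408) (.leaf 7403)) (.node 1 (.leaf 7398) (.leaf 7402))))) else (.node 7 (.node 3 (.node 1 (.leaf 7394) (.node 1 (.leaf 7391) (.leaf 7389)))
(.node 2 (.node 1 (.leaf 6976) (.leaf 7390)) (.node 1 (.leaf 7388) (.leaf 610))))
(.node 3 (.node 1 (.leaf 7393) (.node 1 (.leaf 7387) (.leaf 7386)))
(.node 2 (.node 1 (.leaf 6975) (.leaf 7392)) (.node 1 (.leaf 7395) (.leaf 7396)))))⟩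

/-- The stabiliser. -/
def caseCFullN92Els : Tab ℕ :=
(.node 2 (.node 1 (.leaf 17043521) (.leaf 17524819)) (.node 1 (.leaf 17584193) (.leaf 16984147)))

/-- Its index. -/
def caseCFullN92Ix : BT ℕ :=
(.node 17524819 1 (.node 17043521 0 (.node 16984147 3 .tip .tip) .tip) (.node 17584193 2 .tip .tip))

/-- The reasons. -/
def caseCFullN92How : Tab (ℕ × ℕ) :=
(.node 2 (.node 1 (.leaf (0, 0)) (.leaf (654, 0))) (.node 1 (.leaf (655, 0)) (.leaf (655, 1))))

/-- The node. -/
def caseCFullN92Node : NodeD := ⟨92, 4, caseCFullN92Els, caseCFullN92Ix, caseCFullN92How, fun b => bif b then (.node 7 (.node 3 (.node 1 (.leaf 7424) (.node 1 (.leaf 7431) (.leaf 7426)))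
(.node 2 (.node 1 (.leaf 7435) (.leaf 2286)) (.node 1 (.leaf 7432) (.leaf 7433))))
(.node 3 (.node 1 (.leaf 7427) (.node 1 (.leaf 7436) (.leaf 7428)))
(.node 2 (.node 1 (.leaf 7434) (.leaf 7430)) (.node 1 (.leaf 7425) (.leaf 7429))))) else (.node 7 (.node 3 (.node 1 (.leaf 7422) (.node 1 (.leaf 7419) (.leaf 7416)))
(.node 2 (.node 1 (.leaf 7414) (.leaf 7417)) (.node 1 (.leaf 7415) (.leaf 7411))))
(.node 3 (.node 1 (.leaf 7421) (.node 1 (.leaf 7413) (.leaf 7412)))
(.node 2 (.node 1 (.leaf 7418) (.leaf 7420)) (.node 1 (.leaf 7010) (.leaf 7423)))))⟩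

/-- The stabiliser. -/
def caseCFullN99Els : Tab ℕ :=
(.node 1 (.leaf 17043521) (.leaf 17569859))

/-- Its index. -/
def caseCFullN99Ix : BT ℕ :=
(.node 17569859 1 (.node 17043521 0 .tip .tip) .tip)

/-- The reasons. -/
def caseCFullN99How : Tab (ℕ × ℕ) :=
(.node 1 (.leaf (0, 0)) (.leaf (693, 0)))

/-- The node. -/
def caseCFullN99Node : NodeD := ⟨99, 2, caseCFullN99Els, caseCFullN99Ix, caseCFullN99How, fun b => bif b then (.node 7 (.node 3 (.node 1 (.leaf 7450) (.node 1 (.leaf 7457) (.leaf 7452)))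
(.node 2 (.node 1 (.leaf 7461) (.leaf 723)) (.node 1 (.leaf 7458) (.leaf 7459))))
(.node 3 (.node 1 (.leaf 7453) (.node 1 (.leaf 7462) (.leaf 7454)))
(.node 2 (.node 1 (.leaf 7460) (.leaf 7456)) (.node 1 (.leaf 7451) (.leaf 7455))))) else (.node 7 (.node 3 (.node 1 (.leaf 7447) (.node 1 (.leaf 7444) (.leaf 7441)))
(.node 2 (.node 1 (.leaf 7439) (.leaf 7442)) (.node 1 (.leaf 7440) (.leaf 2402))))
(.node 3 (.node 1 (.leaf 7446) (.node 1 (.leaf 7438) (.leaf 7437)))
(.node 2 (.node 1 (.leaf 7443) (.leaf 7445)) (.node 1 (.leaf 7448) (.leaf 7449)))))⟩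

/-- The stabiliser. -/
def caseCFullN105Els : Tab ℕ :=
(.node 12 (.node 6 (.node 3 (.node 1 (.leaf 17043521) (.node 1 (.leaf 17764419) (.leaf 17002585))) (.node 1 (.leaf 17109077) (.node 1 (.leaf 16984141) (.leaf 17698903))))
(.node 3 (.node 1 (.leaf 17068123) (.node 1 (.leaf 17770575) (.leaf 16937045))) (.node 1 (.leaf 17004623) (.node 1 (.leaf 16918615) (.leaf 16982107)))))
(.node 6 (.node 3 (.node 1 (.leaf 17133655) (.node 1 (.leaf 17705045) (.leaf 17768513))) (.node 1 (.leaf 17135693) (.node 1 (.leaf 17703001) (.leaf 16939073))))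
(.node 3 (.node 1 (.leaf 17070147) (.node 1 (.leaf 16916547) (.leaf 17766477))) (.node 1 (.leaf 17045593) (.node 1 (.leaf 17111119) (.leaf 17700955))))))

/-- Its index. -/
def caseCFullN105Ix : BT ℕ :=
(.node 17109077 3
(.node 17002585 2
(.node 16939073 17 (.node 16918615 10 (.node 16916547 19 .tip .tip) (.node 16937045 8 .tip .tip)) (.node 16984141 4 (.node 16982107 11 .tip .tip) .tip))
(.node 17045593 21 (.node 17043521 0 (.node 17004623 9 .tip .tip) .tip) (.node 17070147 18 (.node 17068123 6 .tip .tip) .tip)))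
(.node 17703001 16
(.node 17135693 15 (.node 17133655 12 (.node 17111119 22 .tip .tip) .tip) (.node 17700955 23 (.node 17698903 5 .tip .tip) .tip))
(.node 17766477 20 (.node 17764419 1 (.node 17705045 13 .tip .tip) .tip) (.node 17770575 7 (.node 17768513 14 .tip .tip) .tip))))

/-- The reasons. -/
def caseCFullN105How : Tab (ℕ × ℕ) :=
(.node 12 (.node 6 (.node 3 (.node 1 (.leaf (0, 0)) (.node 1 (.leaf (736, 0)) (.leaf (737, 0)))) (.node 1 (.leaf (738, 0)) (.node 1 (.leaf (737, 1)) (.leaf (738, 1)))))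
(.node 3 (.node 1 (.leaf (736, 2)) (.node 1 (.leaf (737, 2)) (.leaf (738, 2)))) (.node 1 (.leaf (737, 3)) (.node 1 (.leaf (738, 4)) (.leaf (737, 5))))))
(.node 6 (.node 3 (.node 1 (.leaf (738, 6)) (.node 1 (.leaf (738, 7)) (.leaf (737, 8)))) (.node 1 (.leaf (736, 9)) (.node 1 (.leaf (737, 9)) (.leaf (738, 9)))))
(.node 3 (.node 1 (.leaf (737, 10)) (.node 1 (.leaf (738, 11)) (.leaf (737, 12)))) (.node 1 (.leaf (737, 13)) (.node 1 (.leaf (737, 14)) (.leaf (737, 18)))))))

/-- The node. -/
def caseCFullN105Node : NodeD := ⟨105, 24, caseCFullN105Els, caseCFullN105Ix, caseCFullN105How, fun b => bif b then (.node 7 (.node 3 (.node 1 (.leaf 7476) (.node 1 (.leaf 7482) (.leaf 7477)))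
(.node 2 (.node 1 (.leaf 7487) (.leaf 7485)) (.node 1 (.leaf 7483) (.leaf 7484))))
(.node 3 (.node 1 (.leaf 7478) (.node 1 (.leaf 7488) (.leaf 7479)))
(.node 2 (.node 1 (.leaf 7486) (.leaf 7481)) (.node 1 (.leaf 7164) (.leaf 7480))))) else (.node 7 (.node 3 (.node 1 (.leaf 7473) (.node 1 (.leaf 7470) (.leaf 7467)))
(.node 2 (.node 1 (.leaf 7465) (.leaf 7468)) (.node 1 (.leaf 7466) (.leaf 725))))
(.node 3 (.node 1 (.leaf 7472) (.node 1 (.leaf 7464) (.leaf 7463)))
(.node 2 (.node 1 (.leaf 7469) (.leaf 7471)) (.node 1 (.leaf 7474) (.leaf 7475)))))⟩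

/-- The stabiliser. -/
def caseCFullN113Els : Tab ℕ :=
(.node 2 (.node 1 (.leaf 17043521) (.leaf 17109063)) (.node 1 (.leaf 17240133) (.leaf 17174595)))

/-- Its index. -/
def caseCFullN113Ix : BT ℕ :=
(.node 17174595 3 (.node 17109063 1 (.node 17043521 0 .tip .tip) .tip) (.node 17240133 2 .tip .tip))

/-- The reasons. -/
def caseCFullN113How : Tab (ℕ × ℕ) :=
(.node 2 (.node 1 (.leaf (0, 0)) (.leaf (771, 0))) (.node 1 (.leaf (772, 0)) (.leaf (772, 1))))

/-- The node. -/
def caseCFullN113Node : NodeD := ⟨113, 4, caseCFullN113Els, caseCFullN113Ix, caseCFullN113How, fun b => bif b then (.node 7 (.node 3 (.node 1 (.leaf 7502) (.node 1 (.leaf 7509) (.leaf 7504)))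
(.node 2 (.node 1 (.leaf 7514) (.leaf 7512)) (.node 1 (.leaf 7510) (.leaf 7511))))
(.node 3 (.node 1 (.leaf 7505) (.node 1 (.leaf 7515) (.leaf 7506)))
(.node 2 (.node 1 (.leaf 7513) (.leaf 7508)) (.node 1 (.leaf 7503) (.leaf 7507))))) else (.node 7 (.node 3 (.node 1 (.leaf 7499) (.node 1 (.leaf 7496) (.leaf 7493)))
(.node 2 (.node 1 (.leaf 7491) (.leaf 7494)) (.node 1 (.leaf 7492) (.leaf 765))))
(.node 3 (.node 1 (.leaf 7498) (.node 1 (.leaf 7490) (.leaf 7489)))
(.node 2 (.node 1 (.leaf 7495) (.leaf 7497)) (.node 1 (.leaf 7500) (.leaf 7501)))))⟩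

/-- The stabiliser. -/
def caseCFullN123Els : Tab ℕ :=
(.node 2 (.node 1 (.leaf 17043521) (.leaf 17174599)) (.node 1 (.leaf 17109061) (.leaf 17240131)))

/-- Its index. -/
def caseCFullN123Ix : BT ℕ :=
(.node 17174599 1 (.node 17109061 2 (.node 17043521 0 .tip .tip) .tip) (.node 17240131 3 .tip .tip))

/-- The reasons. -/
def caseCFullN123How : Tab (ℕ × ℕ) :=
(.node 2 (.node 1 (.leaf (0, 0)) (.leaf (835, 0))) (.node 1 (.leaf (836, 0)) (.leaf (836, 1))))

/-- The node. -/
def caseCFullN123Node : NodeD := ⟨123, 4, caseCFullN123Els, caseCFullN123Ix, caseCFullN123How, fun b => bif b then (.node 7 (.node 3 (.node 1 (.leaf 895) (.node 1 (.leaf 896) (.leaf 919)))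
(.node 2 (.node 1 (.leaf 3318) (.leaf 897)) (.node 1 (.leaf 894) (.leaf 3518))))
(.node 3 (.node 1 (.leaf 7530) (.node 1 (.leaf 7535) (.leaf 7531)))
(.node 2 (.node 1 (.leaf 7534) (.leaf 7533)) (.node 1 (.leaf 7529) (.leaf 7532))))) else (.node 7 (.node 3 (.node 1 (.leaf 7526) (.node 1 (.leaf 7523) (.leaf 7520)))
(.node 2 (.node 1 (.leaf 7518) (.leaf 7521)) (.node 1 (.leaf 7519) (.leaf 825))))
(.node 3 (.node 1 (.leaf 7525) (.node 1 (.leaf 7517) (.leaf 7516)))
(.node 2 (.node 1 (.leaf 7522) (.leaf 7524)) (.node 1 (.leaf 7527) (.leaf 7528)))))⟩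

/-- The stabiliser. -/
def caseCFullN126Els : Tab ℕ :=
(.node 2 (.node 1 (.leaf 17043521) (.leaf 8990803)) (.node 1 (.leaf 19232857) (.leaf 11030601)))

/-- Its index. -/
def caseCFullN126Ix : BT ℕ :=
(.node 17043521 0 (.node 11030601 3 (.node 8990803 1 .tip .tip) .tip) (.node 19232857 2 .tip .tip))

/-- The reasons. -/
def caseCFullN126How : Tab (ℕ × ℕ) :=
(.node 2 (.node 1 (.leaf (0, 0)) (.leaf (854, 0))) (.node 1 (.leaf (854, 1)) (.leaf (854, 2))))

/-- The node. -/
def caseCFullN126Node : NodeD := ⟨126, 4, caseCFullN126Els, caseCFullN126Ix, caseCFullN126How, fun b => bif b then (.node 7 (.node 3 (.node 1 (.leaf 845) (.node 1 (.leaf 7550) (.leaf 977)))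
(.node 2 (.node 1 (.leaf 7554) (.leaf 7552)) (.node 1 (.leaf 975) (.leaf 7551))))
(.node 3 (.node 1 (.leaf 976) (.node 1 (.leaf 978) (.leaf 7547)))
(.node 2 (.node 1 (.leaf 7553) (.leaf 7549)) (.node 1 (.leaf 7546) (.leaf 7548))))) else (.node 7 (.node 3 (.node 1 (.leaf 7543) (.node 1 (.leaf 7541) (.leaf 864)))
(.node 2 (.node 1 (.leaf 866) (.leaf 7539)) (.node 1 (.leaf 7538) (.leaf 865))))
(.node 3 (.node 1 (.leaf 862) (.node 1 (.leaf 7537) (.leaf 7536)))
(.node 2 (.node 1 (.leaf 7540) (.leaf 7542)) (.node 1 (.leaf 7544) (.leaf 7545)))))⟩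

/-- The stabiliser. -/
def caseCFullN129Els : Tab ℕ :=
(.leaf 17043521)

/-- Its index. -/
def caseCFullN129Ix : BT ℕ :=
(.node 17043521 0 .tip .tip)

/-- The reasons. -/
def caseCFullN129How : Tab (ℕ × ℕ) :=
(.leaf (0, 0))

/-- The node. -/
def caseCFullN129Node : NodeD := ⟨129, 1, caseCFullN129Els, caseCFullN129Ix, caseCFullN129How, fun b => bif b then (.node 7 (.node 3 (.node 1 (.leaf 3055) (.node 1 (.leaf 7574) (.leaf 7569)))
(.node 2 (.node 1 (.leaf 7578) (.leaf 3064)) (.node 1 (.leaf 7575) (.leaf 7576))))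
(.node 3 (.node 1 (.leaf 7570) (.node 1 (.leaf 7579) (.leaf 7571)))
(.node 2 (.node 1 (.leaf 7577) (.leaf 7573)) (.node 1 (.leaf 7568) (.leaf 7572))))) else (.node 7 (.node 3 (.node 1 (.leaf 7565) (.node 1 (.leaf 7562) (.leaf 7559)))
(.node 2 (.node 1 (.leaf 7557) (.leaf 7560)) (.node 1 (.leaf 7558) (.leaf 863))))
(.node 3 (.node 1 (.leaf 7564) (.node 1 (.leaf 7556) (.leaf 7555)))
(.node 2 (.node 1 (.leaf 7561) (.leaf 7563)) (.node 1 (.leaf 7566) (.leaf 7567)))))⟩

/-- The stabiliser. -/
def caseCFullN134Els : Tab ℕ :=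
(.node 2 (.node 1 (.leaf 17043521) (.leaf 16916547)) (.node 1 (.leaf 16984141) (.leaf 17111119)))

/-- Its index. -/
def caseCFullN134Ix : BT ℕ :=
(.node 17043521 0 (.node 16984141 2 (.node 16916547 1 .tip .tip) .tip) (.node 17111119 3 .tip .tip))

/-- The reasons. -/
def caseCFullN134How : Tab (ℕ × ℕ) :=
(.node 2 (.node 1 (.leaf (0, 0)) (.leaf (909, 0))) (.node 1 (.leaf (910, 0)) (.leaf (910, 1))))

/-- The node. -/
def caseCFullN134Node : NodeD := ⟨134, 4, caseCFullN134Els, caseCFullN134Ix, caseCFullN134How, fun b => bif b then (.node 7 (.node 3 (.node 1 (.leaf 7593) (.node 1 (.leaf 7600) (.leaf 7595)))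
(.node 2 (.node 1 (.leaf 7605) (.leaf 7603)) (.node 1 (.leaf 7601) (.leaf 7602))))
(.node 3 (.node 1 (.leaf 7596) (.node 1 (.leaf 7606) (.leaf 7597)))
(.node 2 (.node 1 (.leaf 7604) (.leaf 7599)) (.node 1 (.leaf 7594) (.leaf 7598))))) else (.node 7 (.node 3 (.node 1 (.leaf 7590) (.node 1 (.leaf 7587) (.leaf 7584)))
(.node 2 (.node 1 (.leaf 7582) (.leaf 7585)) (.node 1 (.leaf 7583) (.leaf 899))))
(.node 3 (.node 1 (.leaf 7589) (.node 1 (.leaf 7581) (.leaf 7580)))
(.node 2 (.node 1 (.leaf 7586) (.leaf 7588)) (.node 1 (.leaf 7591) (.leaf 7592)))))⟩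

/-- The stabiliser. -/
def caseCFullN144Els : Tab ℕ :=
(.node 2 (.node 1 (.leaf 17043521) (.leaf 17111117)) (.node 1 (.leaf 16916559) (.leaf 16984131)))

/-- Its index. -/
def caseCFullN144Ix : BT ℕ :=
(.node 17043521 0 (.node 16984131 3 (.node 16916559 2 .tip .tip) .tip) (.node 17111117 1 .tip .tip))

/-- The reasons. -/
def caseCFullN144How : Tab (ℕ × ℕ) :=
(.node 2 (.node 1 (.leaf (0, 0)) (.leaf (960, 0))) (.node 1 (.leaf (961, 0)) (.leaf (961, 1))))

/-- The node. -/
def caseCFullN144Node : NodeD := ⟨144, 4, caseCFullN144Els, caseCFullN144Ix, caseCFullN144How, fun b => bif b then (.node 7 (.node 3 (.node 1 (.leaf 966) (.node 1 (.leaf 965) (.leaf 964)))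
(.node 2 (.node 1 (.leaf 962) (.leaf 7627)) (.node 1 (.leaf 7625) (.leaf 7626))))
(.node 3 (.node 1 (.leaf 7621) (.node 1 (.leaf 7629) (.leaf 7622)))
(.node 2 (.node 1 (.leaf 7628) (.leaf 7624)) (.node 1 (.leaf 7620) (.leaf 7623))))) else (.node 7 (.node 3 (.node 1 (.leaf 7617) (.node 1 (.leaf 7614) (.leaf 7611)))
(.node 2 (.node 1 (.leaf 7609) (.leaf 7612)) (.node 1 (.leaf 7610) (.leaf 954))))
(.node 3 (.node 1 (.leaf 7616) (.node 1 (.leaf 7608) (.leaf 7607)))
(.node 2 (.node 1 (.leaf 7613) (.leaf 7615)) (.node 1 (.leaf 7618) (.leaf 7619)))))⟩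

/-- The stabiliser. -/
def caseCFullN145Els : Tab ℕ :=
(.leaf 17043521)

/-- Its index. -/
def caseCFullN145Ix : BT ℕ :=
(.node 17043521 0 .tip .tip)

/-- The reasons. -/
def caseCFullN145How : Tab (ℕ × ℕ) :=
(.leaf (0, 0))

/-- The node. -/
def caseCFullN145Node : NodeD := ⟨145, 1, caseCFullN145Els, caseCFullN145Ix, caseCFullN145How, fun b => bif b then (.node 7 (.node 3 (.node 1 (.leaf 963) (.node 1 (.leaf 7649) (.leaf 7644)))
(.node 2 (.node 1 (.leaf 7653) (.leaf 7652)) (.node 1 (.leaf 7650) (.leaf 7651))))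
(.node 3 (.node 1 (.leaf 7645) (.node 1 (.leaf 7654) (.leaf 7646)))
(.node 2 (.node 1 (.leaf 2842) (.leaf 7648)) (.node 1 (.leaf 7643) (.leaf 7647))))) else (.node 7 (.node 3 (.node 1 (.leaf 7640) (.node 1 (.leaf 7637) (.leaf 7635)))
(.node 2 (.node 1 (.leaf 7633) (.leaf 2844)) (.node 1 (.leaf 7634) (.leaf 7630))))
(.node 3 (.node 1 (.leaf 7639) (.node 1 (.leaf 7632) (.leaf 7631)))
(.node 2 (.node 1 (.leaf 7636) (.leaf 7638)) (.node 1 (.leaf 7641) (.leaf 7642)))))⟩

/-- The stabiliser. -/
def caseCFullN188Els : Tab ℕ :=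
(.leaf 17043521)

/-- Its index. -/
def caseCFullN188Ix : BT ℕ :=
(.node 17043521 0 .tip .tip)

/-- The reasons. -/
def caseCFullN188How : Tab (ℕ × ℕ) :=
(.leaf (0, 0))

/-- The node. -/
def caseCFullN188Node : NodeD := ⟨188, 1, caseCFullN188Els, caseCFullN188Ix, caseCFullN188How, fun b => bif b then (.node 7 (.node 3 (.node 1 (.leaf 7669) (.node 1 (.leaf 7675) (.leaf 3016)))
(.node 2 (.node 1 (.leaf 7679) (.leaf 7677)) (.node 1 (.leaf 3351) (.leaf 7676))))
(.node 3 (.node 1 (.leaf 7671) (.node 1 (.leaf 7680) (.leaf 7672)))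
(.node 2 (.node 1 (.leaf 7678) (.leaf 7674)) (.node 1 (.leaf 7670) (.leaf 7673))))) else (.node 7 (.node 3 (.node 1 (.leaf 7666) (.node 1 (.leaf 7663) (.leaf 7660)))
(.node 2 (.node 1 (.leaf 7658) (.leaf 7661)) (.node 1 (.leaf 7659) (.leaf 7655))))
(.node 3 (.node 1 (.leaf 7665) (.node 1 (.leaf 7657) (.leaf 7656)))
(.node 2 (.node 1 (.leaf 7662) (.leaf 7664)) (.node 1 (.leaf 7667) (.leaf 7668)))))⟩

/-- The stabiliser. -/
def caseCFullN217Els : Tab ℕ :=
(.node 2 (.node 1 (.leaf 17043521) (.leaf 17061977)) (.node 1 (.leaf 17657943) (.leaf 17643613)))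

/-- Its index. -/
def caseCFullN217Ix : BT ℕ :=
(.node 17643613 3 (.node 17061977 1 (.node 17043521 0 .tip .tip) .tip) (.node 17657943 2 .tip .tip))

/-- The reasons. -/
def caseCFullN217How : Tab (ℕ × ℕ) :=
(.node 2 (.node 1 (.leaf (0, 0)) (.leaf (1359, 0))) (.node 1 (.leaf (1360, 0)) (.leaf (1360, 1))))

/-- The node. -/
def caseCFullN217Node : NodeD := ⟨217, 4, caseCFullN217Els, caseCFullN217Ix, caseCFullN217How, fun b => bif b then (.node 7 (.node 3 (.node 1 (.leaf 7694) (.node 1 (.leaf 7701) (.leaf 7696)))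
(.node 2 (.node 1 (.leaf 7706) (.leaf 7704)) (.node 1 (.leaf 7702) (.leaf 7703))))
(.node 3 (.node 1 (.leaf 7697) (.node 1 (.leaf 7707) (.leaf 7698)))
(.node 2 (.node 1 (.leaf 7705) (.leaf 7700)) (.node 1 (.leaf 7695) (.leaf 7699))))) else (.node 7 (.node 3 (.node 1 (.leaf 7691) (.node 1 (.leaf 7688) (.leaf 7685)))
(.node 2 (.node 1 (.leaf 7683) (.leaf 7686)) (.node 1 (.leaf 7684) (.leaf 1349))))
(.node 3 (.node 1 (.leaf 7690) (.node 1 (.leaf 7682) (.leaf 7681)))
(.node 2 (.node 1 (.leaf 7687) (.leaf 7689)) (.node 1 (.leaf 7692) (.leaf 7693)))))⟩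

/-- The stabiliser. -/
def caseCFullN229Els : Tab ℕ :=
(.node 1 (.leaf 17043521) (.leaf 17053785))

/-- Its index. -/
def caseCFullN229Ix : BT ℕ :=
(.node 17053785 1 (.node 17043521 0 .tip .tip) .tip)

/-- The reasons. -/
def caseCFullN229How : Tab (ℕ × ℕ) :=
(.node 1 (.leaf (0, 0)) (.leaf (1428, 0)))

/-- The node. -/
def caseCFullN229Node : NodeD := ⟨229, 2, caseCFullN229Els, caseCFullN229Ix, caseCFullN229How, fun b => bif b then (.node 7 (.node 3 (.node 1 (.leaf 7721) (.node 1 (.leaf 7728) (.leaf 7723)))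
(.node 2 (.node 1 (.leaf 7733) (.leaf 7731)) (.node 1 (.leaf 7729) (.leaf 7730))))
(.node 3 (.node 1 (.leaf 7724) (.node 1 (.leaf 7734) (.leaf 7725)))
(.node 2 (.node 1 (.leaf 7732) (.leaf 7727)) (.node 1 (.leaf 7722) (.leaf 7726))))) else (.node 7 (.node 3 (.node 1 (.leaf 7718) (.node 1 (.leaf 7715) (.leaf 7712)))
(.node 2 (.node 1 (.leaf 7710) (.leaf 7713)) (.node 1 (.leaf 7711) (.leaf 1419))))
(.node 3 (.node 1 (.leaf 7717) (.node 1 (.leaf 7709) (.leaf 7708)))
(.node 2 (.node 1 (.leaf 7714) (.leaf 7716)) (.node 1 (.leaf 7719) (.leaf 7720)))))⟩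

/-- The stabiliser. -/
def caseCFullN280Els : Tab ℕ :=
(.leaf 17043521)

/-- Its index. -/
def caseCFullN280Ix : BT ℕ :=
(.node 17043521 0 .tip .tip)

/-- The reasons. -/
def caseCFullN280How : Tab (ℕ × ℕ) :=
(.leaf (0, 0))

/-- The node. -/
def caseCFullN280Node : NodeD := ⟨280, 1, caseCFullN280Els, caseCFullN280Ix, caseCFullN280How, fun b => bif b then (.node 7 (.node 3 (.node 1 (.leaf 7749) (.node 1 (.leaf 7756) (.leaf 7751)))
(.node 2 (.node 1 (.leaf 7761) (.leaf 7759)) (.node 1 (.leaf 7757) (.leaf 7758))))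
(.node 3 (.node 1 (.leaf 7752) (.node 1 (.leaf 7762) (.leaf 7753)))
(.node 2 (.node 1 (.leaf 7760) (.leaf 7755)) (.node 1 (.leaf 7750) (.leaf 7754))))) else (.node 7 (.node 3 (.node 1 (.leaf 7746) (.node 1 (.leaf 7743) (.leaf 7740)))
(.node 2 (.node 1 (.leaf 7738) (.leaf 7741)) (.node 1 (.leaf 7739) (.leaf 7735))))
(.node 3 (.node 1 (.leaf 7745) (.node 1 (.leaf 7737) (.leaf 7736)))
(.node 2 (.node 1 (.leaf 7742) (.leaf 7744)) (.node 1 (.leaf 7747) (.leaf 7748)))))⟩

/-- The stabiliser. -/
def caseCFullN374Els : Tab ℕ :=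
(.leaf 17043521)

/-- Its index. -/
def caseCFullN374Ix : BT ℕ :=
(.node 17043521 0 .tip .tip)

/-- The reasons. -/
def caseCFullN374How : Tab (ℕ × ℕ) :=
(.leaf (0, 0))

/-- The node. -/
def caseCFullN374Node : NodeD := ⟨374, 1, caseCFullN374Els, caseCFullN374Ix, caseCFullN374How, fun b => bif b then (.node 7 (.node 3 (.node 1 (.leaf 7777) (.node 1 (.leaf 5732) (.leaf 7779)))
(.node 2 (.node 1 (.leaf 7787) (.leaf 6104)) (.node 1 (.leaf 7784) (.leaf 7785))))
(.node 3 (.node 1 (.leaf 7780) (.node 1 (.leaf 7788) (.leaf 7781)))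
(.node 2 (.node 1 (.leaf 7786) (.leaf 7783)) (.node 1 (.leaf 7778) (.leaf 7782))))) else (.node 7 (.node 3 (.node 1 (.leaf 7774) (.node 1 (.leaf 7771) (.leaf 7768)))
(.node 2 (.node 1 (.leaf 7766) (.leaf 7769)) (.node 1 (.leaf 7767) (.leaf 7763))))
(.node 3 (.node 1 (.leaf 7773) (.node 1 (.leaf 7765) (.leaf 7764)))
(.node 2 (.node 1 (.leaf 7770) (.leaf 7772)) (.node 1 (.leaf 7775) (.leaf 7776)))))⟩

/-- The stabiliser. -/
def caseCFullN579Els : Tab ℕ :=
(.node 3 (.node 1 (.leaf 17043521) (.node 1 (.leaf 27740235) (.leaf 24076359)))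
(.node 2 (.node 1 (.leaf 10637403) (.leaf 13181021)) (.node 1 (.leaf 30160973) (.leaf 6977623))))

/-- Its index. -/
def caseCFullN579Ix : BT ℕ :=
(.node 17043521 0
(.node 10637403 3 (.node 6977623 6 .tip .tip) (.node 13181021 4 .tip .tip))
(.node 27740235 1 (.node 24076359 2 .tip .tip) (.node 30160973 5 .tip .tip)))

/-- The reasons. -/
def caseCFullN579How : Tab (ℕ × ℕ) :=
(.node 3 (.node 1 (.leaf (0, 0)) (.node 1 (.leaf (6948, 0)) (.leaf (6948, 1))))
(.node 2 (.node 1 (.leaf (6948, 2)) (.leaf (6948, 3))) (.node 1 (.leaf (6948, 4)) (.leaf (6948, 5)))))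

/-- The node. -/
def caseCFullN579Node : NodeD := ⟨579, 7, caseCFullN579Els, caseCFullN579Ix, caseCFullN579How, fun b => bif b then (.node 7 (.node 3 (.node 1 (.leaf 7801) (.node 1 (.leaf 7808) (.leaf 7803)))
(.node 2 (.node 1 (.leaf 7813) (.leaf 7811)) (.node 1 (.leaf 7809) (.leaf 7810))))
(.node 3 (.node 1 (.leaf 7804) (.node 1 (.leaf 7814) (.leaf 7805)))
(.node 2 (.node 1 (.leaf 7812) (.leaf 7807)) (.node 1 (.leaf 7802) (.leaf 7806))))) else (.node 7 (.node 3 (.node 1 (.leaf 7798) (.node 1 (.leaf 7797) (.leaf 7794)))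
(.node 2 (.node 1 (.leaf 7792) (.leaf 7795)) (.node 1 (.leaf 7793) (.leaf 7789))))
(.node 3 (.node 1 (.leaf 6919) (.node 1 (.leaf 7791) (.leaf 7790)))
(.node 2 (.node 1 (.leaf 7796) (.leaf 6945)) (.node 1 (.leaf 7799) (.leaf 7800)))))⟩

/-- The inverse action. -/
def caseCFullInv0LL : Tab ℕ :=
(.node 192 (.node 96 (.node 48 (.node 24 (.node 12 (.node 6 (.node 3 (.node 1 (.leaf 0) (.node 1 (.leaf 631) (.leaf 258))) (.node 1 (.leaf 450) (.node 1 (.leaf 134) (.leaf 160))))
(.node 3 (.node 1 (.leaf 104) (.node 1 (.leaf 635) (.leaf 12))) (.node 1 (.leaf 1128) (.node 1 (.leaf 1059) (.leaf 1420)))))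
(.node 6 (.node 3 (.node 1 (.leaf 8) (.node 1 (.leaf 827) (.leaf 361))) (.node 1 (.leaf 345) (.node 1 (.leaf 1022) (.leaf 1099))))
(.node 3 (.node 1 (.leaf 58) (.node 1 (.leaf 1235) (.leaf 504))) (.node 1 (.leaf 431) (.node 1 (.leaf 326) (.leaf 1108))))))
(.node 12 (.node 6 (.node 3 (.node 1 (.leaf 931) (.node 1 (.leaf 1064) (.leaf 939))) (.node 1 (.leaf 92) (.node 1 (.leaf 838) (.leaf 1527))))
(.node 3 (.node 1 (.leaf 1066) (.node 1 (.leaf 238) (.leaf 1190))) (.node 1 (.leaf 852) (.node 1 (.leaf 1161) (.leaf 500)))))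
(.node 6 (.node 3 (.node 1 (.leaf 729) (.node 1 (.leaf 639) (.leaf 24))) (.node 1 (.leaf 1445) (.node 1 (.leaf 356) (.leaf 1180))))
(.node 3 (.node 1 (.leaf 91) (.node 1 (.leaf 744) (.leaf 708))) (.node 1 (.leaf 665) (.node 1 (.leaf 1437) (.leaf 1192)))))))
(.node 24 (.node 12 (.node 6 (.node 3 (.node 1 (.leaf 1118) (.node 1 (.leaf 245) (.leaf 1435))) (.node 1 (.leaf 581) (.node 1 (.leaf 1012) (.leaf 1193))))
(.node 3 (.node 1 (.leaf 542) (.node 1 (.leaf 914) (.leaf 205))) (.node 1 (.leaf 579) (.node 1 (.leaf 938) (.leaf 1467)))))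
(.node 6 (.node 3 (.node 1 (.leaf 921) (.node 1 (.leaf 1454) (.leaf 1088))) (.node 1 (.leaf 1507) (.node 1 (.leaf 1518) (.leaf 427))))
(.node 3 (.node 1 (.leaf 425) (.node 1 (.leaf 442) (.leaf 501))) (.node 1 (.leaf 277) (.node 1 (.leaf 355) (.leaf 71))))))
(.node 12 (.node 6 (.node 3 (.node 1 (.leaf 1389) (.node 1 (.leaf 1219) (.leaf 392))) (.node 1 (.leaf 1294) (.node 1 (.leaf 1187) (.leaf 552))))
(.node 3 (.node 1 (.leaf 589) (.node 1 (.leaf 18) (.leaf 1336))) (.node 1 (.leaf 81) (.node 1 (.leaf 1423) (.leaf 777)))))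
(.node 6 (.node 3 (.node 1 (.leaf 1098) (.node 1 (.leaf 246) (.leaf 1339))) (.node 1 (.leaf 561) (.node 1 (.leaf 1350) (.leaf 408))))
(.node 3 (.node 1 (.leaf 883) (.node 1 (.leaf 525) (.leaf 737))) (.node 1 (.leaf 819) (.node 1 (.leaf 1317) (.leaf 882))))))))
(.node 48 (.node 24 (.node 12 (.node 6 (.node 3 (.node 1 (.leaf 207) (.node 1 (.leaf 1276) (.leaf 62))) (.node 1 (.leaf 667) (.node 1 (.leaf 1218) (.leaf 206))))
(.node 3 (.node 1 (.leaf 837) (.node 1 (.leaf 1228) (.leaf 385))) (.node 1 (.leaf 858) (.node 1 (.leaf 1414) (.leaf 448)))))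
(.node 6 (.node 3 (.node 1 (.leaf 719) (.node 1 (.leaf 383) (.leaf 1163))) (.node 1 (.leaf 1382) (.node 1 (.leaf 623) (.leaf 140))))
(.node 3 (.node 1 (.leaf 592) (.node 1 (.leaf 1221) (.leaf 159))) (.node 1 (.leaf 1316) (.node 1 (.leaf 523) (.leaf 642))))))
(.node 12 (.node 6 (.node 3 (.node 1 (.leaf 1492) (.node 1 (.leaf 1017) (.leaf 606))) (.node 1 (.leaf 411) (.node 1 (.leaf 471) (.leaf 491))))
(.node 3 (.node 1 (.leaf 1464) (.node 1 (.leaf 1029) (.leaf 586))) (.node 1 (.leaf 272) (.node 1 (.leaf 813) (.leaf 685)))))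
(.node 6 (.node 3 (.node 1 (.leaf 856) (.node 1 (.leaf 1338) (.leaf 569))) (.node 1 (.leaf 1331) (.node 1 (.leaf 457) (.leaf 615))))
(.node 3 (.node 1 (.leaf 1135) (.node 1 (.leaf 1053) (.leaf 676))) (.node 1 (.leaf 1028) (.node 1 (.leaf 240) (.leaf 1018)))))))
(.node 24 (.node 12 (.node 6 (.node 3 (.node 1 (.leaf 599) (.node 1 (.leaf 400) (.leaf 912))) (.node 1 (.leaf 382) (.node 1 (.leaf 1398) (.leaf 566))))
(.node 3 (.node 1 (.leaf 1131) (.node 1 (.leaf 473) (.leaf 760))) (.node 1 (.leaf 620) (.node 1 (.leaf 780) (.leaf 1395)))))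
(.node 6 (.node 3 (.node 1 (.leaf 105) (.node 1 (.leaf 1233) (.leaf 1023))) (.node 1 (.leaf 469) (.node 1 (.leaf 1037) (.leaf 596))))
(.node 3 (.node 1 (.leaf 493) (.node 1 (.leaf 467) (.leaf 751))) (.node 1 (.leaf 57) (.node 1 (.leaf 1178) (.leaf 264))))))
(.node 12 (.node 6 (.node 3 (.node 1 (.leaf 283) (.node 1 (.leaf 781) (.leaf 1287))) (.node 1 (.leaf 328) (.node 1 (.leaf 244) (.leaf 403))))
(.node 3 (.node 1 (.leaf 787) (.node 1 (.leaf 954) (.leaf 362))) (.node 1 (.leaf 1302) (.node 1 (.leaf 278) (.leaf 1097)))))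
(.node 6 (.node 3 (.node 1 (.leaf 318) (.node 1 (.leaf 1213) (.leaf 350))) (.node 1 (.leaf 1307) (.node 1 (.leaf 270) (.leaf 1524))))
(.node 3 (.node 1 (.leaf 1134) (.node 1 (.leaf 412) (.leaf 235))) (.node 1 (.leaf 1120) (.node 1 (.leaf 1081) (.leaf 281)))))))))
(.node 96 (.node 48 (.node 24 (.node 12 (.node 6 (.node 3 (.node 1 (.leaf 1043) (.node 1 (.leaf 906) (.leaf 1172))) (.node 1 (.leaf 279) (.node 1 (.leaf 1110) (.leaf 898))))
(.node 3 (.node 1 (.leaf 184) (.node 1 (.leaf 1315) (.leaf 1036))) (.node 1 (.leaf 107) (.node 1 (.leaf 396) (.leaf 186)))))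
(.node 6 (.node 3 (.node 1 (.leaf 1107) (.node 1 (.leaf 227) (.leaf 766))) (.node 1 (.leaf 1362) (.node 1 (.leaf 519) (.leaf 494))))
(.node 3 (.node 1 (.leaf 663) (.node 1 (.leaf 810) (.leaf 1123))) (.node 1 (.leaf 495) (.node 1 (.leaf 420) (.leaf 801))))))
(.node 12 (.node 6 (.node 3 (.node 1 (.leaf 1361) (.node 1 (.leaf 953) (.leaf 707))) (.node 1 (.leaf 702) (.node 1 (.leaf 699) (.leaf 1266))))
(.node 3 (.node 1 (.leaf 220) (.node 1 (.leaf 1253) (.leaf 728))) (.node 1 (.leaf 296) (.node 1 (.leaf 1103) (.leaf 462)))))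
(.node 6 (.node 3 (.node 1 (.leaf 1431) (.node 1 (.leaf 815) (.leaf 430))) (.node 1 (.leaf 1105) (.node 1 (.leaf 1466) (.leaf 1249))))
(.node 3 (.node 1 (.leaf 421) (.node 1 (.leaf 199) (.leaf 1282))) (.node 1 (.leaf 1035) (.node 1 (.leaf 736) (.leaf 284)))))))
(.node 24 (.node 12 (.node 6 (.node 3 (.node 1 (.leaf 187) (.node 1 (.leaf 1496) (.leaf 181))) (.node 1 (.leaf 1013) (.node 1 (.leaf 1402) (.leaf 49))))
(.node 3 (.node 1 (.leaf 1396) (.node 1 (.leaf 274) (.leaf 1408))) (.node 1 (.leaf 1475) (.node 1 (.leaf 303) (.leaf 1243)))))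
(.node 6 (.node 3 (.node 1 (.leaf 824) (.node 1 (.leaf 650) (.leaf 357))) (.node 1 (.leaf 30) (.node 1 (.leaf 945) (.leaf 695))))
(.node 3 (.node 1 (.leaf 23) (.node 1 (.leaf 895) (.leaf 1259))) (.node 1 (.leaf 316) (.node 1 (.leaf 1533) (.leaf 942))))))
(.node 12 (.node 6 (.node 3 (.node 1 (.leaf 290) (.node 1 (.leaf 314) (.leaf 966))) (.node 1 (.leaf 656) (.node 1 (.leaf 233) (.leaf 983))))
(.node 3 (.node 1 (.leaf 1529) (.node 1 (.leaf 855) (.leaf 540))) (.node 1 (.leaf 358) (.node 1 (.leaf 634) (.leaf 1125)))))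
(.node 6 (.node 3 (.node 1 (.leaf 812) (.node 1 (.leaf 310) (.leaf 456))) (.node 1 (.leaf 127) (.node 1 (.leaf 1419) (.leaf 141))))
(.node 3 (.node 1 (.leaf 660) (.node 1 (.leaf 900) (.leaf 1068))) (.node 1 (.leaf 743) (.node 1 (.leaf 117) (.leaf 1260))))))))
(.node 48 (.node 24 (.node 12 (.node 6 (.node 3 (.node 1 (.leaf 1313) (.node 1 (.leaf 1525) (.leaf 1440))) (.node 1 (.leaf 1199) (.node 1 (.leaf 1262) (.leaf 800))))
(.node 3 (.node 1 (.leaf 835) (.node 1 (.leaf 194) (.leaf 907))) (.node 1 (.leaf 1164) (.node 1 (.leaf 584) (.leaf 315)))))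
(.node 6 (.node 3 (.node 1 (.leaf 993) (.node 1 (.leaf 1104) (.leaf 65))) (.node 1 (.leaf 1211) (.node 1 (.leaf 352) (.leaf 1366))))
(.node 3 (.node 1 (.leaf 490) (.node 1 (.leaf 1404) (.leaf 88))) (.node 1 (.leaf 73) (.node 1 (.leaf 1206) (.leaf 916))))))
(.node 12 (.node 6 (.node 3 (.node 1 (.leaf 440) (.node 1 (.leaf 94) (.leaf 514))) (.node 1 (.leaf 299) (.node 1 (.leaf 854) (.leaf 618))))
(.node 3 (.node 1 (.leaf 1158) (.node 1 (.leaf 1286) (.leaf 896))) (.node 1 (.leaf 1010) (.node 1 (.leaf 850) (.leaf 598)))))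
(.node 6 (.node 3 (.node 1 (.leaf 139) (.node 1 (.leaf 1506) (.leaf 179))) (.node 1 (.leaf 918) (.node 1 (.leaf 950) (.leaf 1032))))
(.node 3 (.node 1 (.leaf 1436) (.node 1 (.leaf 851) (.leaf 354))) (.node 1 (.leaf 1122) (.node 1 (.leaf 563) (.leaf 75)))))))
(.node 24 (.node 12 (.node 6 (.node 3 (.node 1 (.leaf 232) (.node 1 (.leaf 313) (.leaf 894))) (.node 1 (.leaf 605) (.node 1 (.leaf 1332) (.leaf 321))))
(.node 3 (.node 1 (.leaf 42) (.node 1 (.leaf 1146) (.leaf 1275))) (.node 1 (.leaf 889) (.node 1 (.leaf 325) (.leaf 904)))))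
(.node 6 (.node 3 (.node 1 (.leaf 261) (.node 1 (.leaf 229) (.leaf 19))) (.node 1 (.leaf 364) (.node 1 (.leaf 1119) (.leaf 96))))
(.node 3 (.node 1 (.leaf 1203) (.node 1 (.leaf 1033) (.leaf 121))) (.node 1 (.leaf 424) (.node 1 (.leaf 847) (.leaf 1185))))))
(.node 12 (.node 6 (.node 3 (.node 1 (.leaf 1198) (.node 1 (.leaf 83) (.leaf 1039))) (.node 1 (.leaf 113) (.node 1 (.leaf 532) (.leaf 782))))
(.node 3 (.node 1 (.leaf 638) (.node 1 (.leaf 930) (.leaf 1477))) (.node 1 (.leaf 1322) (.node 1 (.leaf 3) (.leaf 1290)))))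
(.node 6 (.node 3 (.node 1 (.leaf 1478) (.node 1 (.leaf 178) (.leaf 1026))) (.node 1 (.leaf 713) (.node 1 (.leaf 554) (.leaf 902))))
(.node 3 (.node 1 (.leaf 846) (.node 1 (.leaf 1452) (.leaf 150))) (.node 1 (.leaf 557) (.node 1 (.leaf 1025) (.leaf 770))))))))))

/-- The inverse action. -/
def caseCFullInv0LR : Tab ℕ :=
(.node 192 (.node 96 (.node 48 (.node 24 (.node 12 (.node 6 (.node 3 (.node 1 (.leaf 148) (.node 1 (.leaf 830) (.leaf 1055))) (.node 1 (.leaf 692) (.node 1 (.leaf 1442) (.leaf 1242))))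
(.node 3 (.node 1 (.leaf 818) (.node 1 (.leaf 949) (.leaf 263))) (.node 1 (.leaf 1209) (.node 1 (.leaf 98) (.leaf 259)))))
(.node 6 (.node 3 (.node 1 (.leaf 619) (.node 1 (.leaf 885) (.leaf 1174))) (.node 1 (.leaf 936) (.node 1 (.leaf 648) (.leaf 1162))))
(.node 3 (.node 1 (.leaf 405) (.node 1 (.leaf 979) (.leaf 407))) (.node 1 (.leaf 17) (.node 1 (.leaf 48) (.leaf 219))))))
(.node 12 (.node 6 (.node 3 (.node 1 (.leaf 387) (.node 1 (.leaf 1189) (.leaf 1232))) (.node 1 (.leaf 217) (.node 1 (.leaf 142) (.leaf 1342))))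
(.node 3 (.node 1 (.leaf 675) (.node 1 (.leaf 1231) (.leaf 1147))) (.node 1 (.leaf 821) (.node 1 (.leaf 964) (.leaf 41)))))
(.node 6 (.node 3 (.node 1 (.leaf 609) (.node 1 (.leaf 262) (.leaf 165))) (.node 1 (.leaf 1204) (.node 1 (.leaf 507) (.leaf 393))))
(.node 3 (.node 1 (.leaf 466) (.node 1 (.leaf 630) (.leaf 1205))) (.node 1 (.leaf 607) (.node 1 (.leaf 230) (.leaf 655)))))))
(.node 24 (.node 12 (.node 6 (.node 3 (.node 1 (.leaf 451) (.node 1 (.leaf 201) (.leaf 717))) (.node 1 (.leaf 375) (.node 1 (.leaf 1323) (.leaf 682))))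
(.node 3 (.node 1 (.leaf 534) (.node 1 (.leaf 1379) (.leaf 339))) (.node 1 (.leaf 435) (.node 1 (.leaf 389) (.leaf 1255)))))
(.node 6 (.node 3 (.node 1 (.leaf 583) (.node 1 (.leaf 1320) (.leaf 464))) (.node 1 (.leaf 1217) (.node 1 (.leaf 433) (.leaf 485))))
(.node 3 (.node 1 (.leaf 1505) (.node 1 (.leaf 1160) (.leaf 611))) (.node 1 (.leaf 1240) (.node 1 (.leaf 1044) (.leaf 349))))))
(.node 12 (.node 6 (.node 3 (.node 1 (.leaf 373) (.node 1 (.leaf 1497) (.leaf 1159))) (.node 1 (.leaf 1520) (.node 1 (.leaf 928) (.leaf 119))))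
(.node 3 (.node 1 (.leaf 56) (.node 1 (.leaf 273) (.leaf 878))) (.node 1 (.leaf 991) (.node 1 (.leaf 735) (.leaf 617)))))
(.node 6 (.node 3 (.node 1 (.leaf 1471) (.node 1 (.leaf 610) (.leaf 1416))) (.node 1 (.leaf 413) (.node 1 (.leaf 461) (.leaf 1121))))
(.node 3 (.node 1 (.leaf 990) (.node 1 (.leaf 32) (.leaf 1380))) (.node 1 (.leaf 418) (.node 1 (.leaf 570) (.leaf 669))))))))
(.node 48 (.node 24 (.node 12 (.node 6 (.node 3 (.node 1 (.leaf 416) (.node 1 (.leaf 481) (.leaf 574))) (.node 1 (.leaf 39) (.node 1 (.leaf 510) (.leaf 925))))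
(.node 3 (.node 1 (.leaf 683) (.node 1 (.leaf 562) (.leaf 690))) (.node 1 (.leaf 1273) (.node 1 (.leaf 1486) (.leaf 390)))))
(.node 6 (.node 3 (.node 1 (.leaf 87) (.node 1 (.leaf 591) (.leaf 158))) (.node 1 (.leaf 1005) (.node 1 (.leaf 1101) (.leaf 595))))
(.node 3 (.node 1 (.leaf 346) (.node 1 (.leaf 419) (.leaf 126))) (.node 1 (.leaf 438) (.node 1 (.leaf 1502) (.leaf 706))))))
(.node 12 (.node 6 (.node 3 (.node 1 (.leaf 256) (.node 1 (.leaf 1224) (.leaf 1425))) (.node 1 (.leaf 254) (.node 1 (.leaf 333) (.leaf 688))))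
(.node 3 (.node 1 (.leaf 13) (.node 1 (.leaf 216) (.leaf 714))) (.node 1 (.leaf 884) (.node 1 (.leaf 1268) (.leaf 1237)))))
(.node 6 (.node 3 (.node 1 (.leaf 1280) (.node 1 (.leaf 1052) (.leaf 986))) (.node 1 (.leaf 1171) (.node 1 (.leaf 1244) (.leaf 1136))))
(.node 3 (.node 1 (.leaf 1476) (.node 1 (.leaf 530) (.leaf 255))) (.node 1 (.leaf 342) (.node 1 (.leaf 177) (.leaf 276)))))))
(.node 24 (.node 12 (.node 6 (.node 3 (.node 1 (.leaf 886) (.node 1 (.leaf 988) (.leaf 721))) (.node 1 (.leaf 1069) (.node 1 (.leaf 786) (.leaf 1434))))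
(.node 3 (.node 1 (.leaf 68) (.node 1 (.leaf 678) (.leaf 1535))) (.node 1 (.leaf 320) (.node 1 (.leaf 1377) (.leaf 300)))))
(.node 6 (.node 3 (.node 1 (.leaf 693) (.node 1 (.leaf 1269) (.leaf 860))) (.node 1 (.leaf 1246) (.node 1 (.leaf 816) (.leaf 1090))))
(.node 3 (.node 1 (.leaf 696) (.node 1 (.leaf 136) (.leaf 887))) (.node 1 (.leaf 763) (.node 1 (.leaf 365) (.leaf 423))))))
(.node 12 (.node 6 (.node 3 (.node 1 (.leaf 1261) (.node 1 (.leaf 710) (.leaf 506))) (.node 1 (.leaf 1111) (.node 1 (.leaf 54) (.leaf 135))))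
(.node 3 (.node 1 (.leaf 844) (.node 1 (.leaf 628) (.leaf 608))) (.node 1 (.leaf 1503) (.node 1 (.leaf 1324) (.leaf 671)))))
(.node 6 (.node 3 (.node 1 (.leaf 271) (.node 1 (.leaf 1194) (.leaf 943))) (.node 1 (.leaf 480) (.node 1 (.leaf 470) (.leaf 689))))
(.node 3 (.node 1 (.leaf 1460) (.node 1 (.leaf 214) (.leaf 1523))) (.node 1 (.leaf 1137) (.node 1 (.leaf 1444) (.leaf 992)))))))))
(.node 96 (.node 48 (.node 24 (.node 12 (.node 6 (.node 3 (.node 1 (.leaf 76) (.node 1 (.leaf 1274) (.leaf 55))) (.node 1 (.leaf 422) (.node 1 (.leaf 961) (.leaf 1057))))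
(.node 3 (.node 1 (.leaf 1236) (.node 1 (.leaf 670) (.leaf 1314))) (.node 1 (.leaf 537) (.node 1 (.leaf 709) (.leaf 1391)))))
(.node 6 (.node 3 (.node 1 (.leaf 1075) (.node 1 (.leaf 338) (.leaf 1479))) (.node 1 (.leaf 805) (.node 1 (.leaf 674) (.leaf 384))))
(.node 3 (.node 1 (.leaf 1168) (.node 1 (.leaf 1372) (.leaf 808))) (.node 1 (.leaf 518) (.node 1 (.leaf 437) (.leaf 157))))))
(.node 12 (.node 6 (.node 3 (.node 1 (.leaf 1252) (.node 1 (.leaf 1102) (.leaf 778))) (.node 1 (.leaf 809) (.node 1 (.leaf 1364) (.leaf 312))))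
(.node 3 (.node 1 (.leaf 428) (.node 1 (.leaf 166) (.leaf 947))) (.node 1 (.leaf 571) (.node 1 (.leaf 116) (.leaf 211)))))
(.node 6 (.node 3 (.node 1 (.leaf 1354) (.node 1 (.leaf 1009) (.leaf 170))) (.node 1 (.leaf 319) (.node 1 (.leaf 204) (.leaf 716))))
(.node 3 (.node 1 (.leaf 301) (.node 1 (.leaf 1117) (.leaf 1469))) (.node 1 (.leaf 849) (.node 1 (.leaf 632) (.leaf 289)))))))
(.node 24 (.node 12 (.node 6 (.node 3 (.node 1 (.leaf 1084) (.node 1 (.leaf 1186) (.leaf 168))) (.node 1 (.leaf 497) (.node 1 (.leaf 1330) (.leaf 1305))))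
(.node 3 (.node 1 (.leaf 302) (.node 1 (.leaf 1418) (.leaf 1491))) (.node 1 (.leaf 477) (.node 1 (.leaf 1528) (.leaf 1089)))))
(.node 6 (.node 3 (.node 1 (.leaf 568) (.node 1 (.leaf 539) (.leaf 832))) (.node 1 (.leaf 543) (.node 1 (.leaf 496) (.leaf 446))))
(.node 3 (.node 1 (.leaf 472) (.node 1 (.leaf 1129) (.leaf 969))) (.node 1 (.leaf 293) (.node 1 (.leaf 997) (.leaf 479))))))
(.node 12 (.node 6 (.node 3 (.node 1 (.leaf 1264) (.node 1 (.leaf 1455) (.leaf 1148))) (.node 1 (.leaf 614) (.node 1 (.leaf 1326) (.leaf 475))))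
(.node 3 (.node 1 (.leaf 9) (.node 1 (.leaf 843) (.leaf 546))) (.node 1 (.leaf 147) (.node 1 (.leaf 985) (.leaf 297)))))
(.node 6 (.node 3 (.node 1 (.leaf 535) (.node 1 (.leaf 7) (.leaf 50))) (.node 1 (.leaf 226) (.node 1 (.leaf 505) (.leaf 774))))
(.node 3 (.node 1 (.leaf 1083) (.node 1 (.leaf 779) (.leaf 388))) (.node 1 (.leaf 769) (.node 1 (.leaf 1501) (.leaf 795))))))))
(.node 48 (.node 24 (.node 12 (.node 6 (.node 3 (.node 1 (.leaf 51) (.node 1 (.leaf 995) (.leaf 745))) (.node 1 (.leaf 870) (.node 1 (.leaf 363) (.leaf 5))))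
(.node 3 (.node 1 (.leaf 282) (.node 1 (.leaf 1015) (.leaf 971))) (.node 1 (.leaf 1263) (.node 1 (.leaf 323) (.leaf 486)))))
(.node 6 (.node 3 (.node 1 (.leaf 1376) (.node 1 (.leaf 1319) (.leaf 336))) (.node 1 (.leaf 545) (.node 1 (.leaf 1079) (.leaf 4))))
(.node 3 (.node 1 (.leaf 1409) (.node 1 (.leaf 756) (.leaf 89))) (.node 1 (.leaf 129) (.node 1 (.leaf 750) (.leaf 899))))))
(.node 12 (.node 6 (.node 3 (.node 1 (.leaf 267) (.node 1 (.leaf 604) (.leaf 190))) (.node 1 (.leaf 703) (.node 1 (.leaf 1197) (.leaf 1458))))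
(.node 3 (.node 1 (.leaf 404) (.node 1 (.leaf 222) (.leaf 1050))) (.node 1 (.leaf 1355) (.node 1 (.leaf 771) (.leaf 910)))))
(.node 6 (.node 3 (.node 1 (.leaf 1165) (.node 1 (.leaf 1373) (.leaf 1318))) (.node 1 (.leaf 101) (.node 1 (.leaf 1116) (.leaf 441))))
(.node 3 (.node 1 (.leaf 453) (.node 1 (.leaf 828) (.leaf 163))) (.node 1 (.leaf 588) (.node 1 (.leaf 1049) (.leaf 712)))))))
(.node 24 (.node 12 (.node 6 (.node 3 (.node 1 (.leaf 1462) (.node 1 (.leaf 118) (.leaf 829))) (.node 1 (.leaf 156) (.node 1 (.leaf 933) (.leaf 218))))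
(.node 3 (.node 1 (.leaf 1337) (.node 1 (.leaf 866) (.leaf 957))) (.node 1 (.leaf 944) (.node 1 (.leaf 1410) (.leaf 1258)))))
(.node 6 (.node 3 (.node 1 (.leaf 1388) (.node 1 (.leaf 483) (.leaf 1463))) (.node 1 (.leaf 893) (.node 1 (.leaf 897) (.leaf 841))))
(.node 3 (.node 1 (.leaf 905) (.node 1 (.leaf 80) (.leaf 659))) (.node 1 (.leaf 1170) (.node 1 (.leaf 1429) (.leaf 120))))))
(.node 12 (.node 6 (.node 3 (.node 1 (.leaf 802) (.node 1 (.leaf 114) (.leaf 399))) (.node 1 (.leaf 754) (.node 1 (.leaf 1080) (.leaf 487))))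
(.node 3 (.node 1 (.leaf 845) (.node 1 (.leaf 197) (.leaf 1450))) (.node 1 (.leaf 761) (.node 1 (.leaf 643) (.leaf 798)))))
(.node 6 (.node 3 (.node 1 (.leaf 652) (.node 1 (.leaf 1291) (.leaf 715))) (.node 1 (.leaf 1229) (.node 1 (.leaf 1451) (.leaf 1345))))
(.node 3 (.node 1 (.leaf 196) (.node 1 (.leaf 602) (.leaf 734))) (.node 1 (.leaf 1412) (.node 1 (.leaf 711) (.leaf 72))))))))))

/-- The inverse action. -/
def caseCFullInv0L : Tab ℕ := .node 384 caseCFullInv0LL caseCFullInv0LR

/-- The inverse action. -/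
def caseCFullInv0RL : Tab ℕ :=
(.node 192 (.node 96 (.node 48 (.node 24 (.node 12 (.node 6 (.node 3 (.node 1 (.leaf 26) (.node 1 (.leaf 647) (.leaf 1149))) (.node 1 (.leaf 1433) (.node 1 (.leaf 306) (.leaf 806))))
(.node 3 (.node 1 (.leaf 1072) (.node 1 (.leaf 401) (.leaf 1001))) (.node 1 (.leaf 14) (.node 1 (.leaf 549) (.leaf 1245)))))
(.node 6 (.node 3 (.node 1 (.leaf 999) (.node 1 (.leaf 803) (.leaf 1483))) (.node 1 (.leaf 359) (.node 1 (.leaf 533) (.leaf 465))))
(.node 3 (.node 1 (.leaf 351) (.node 1 (.leaf 1375) (.leaf 52))) (.node 1 (.leaf 853) (.node 1 (.leaf 705) (.leaf 1133))))))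
(.node 12 (.node 6 (.node 3 (.node 1 (.leaf 978) (.node 1 (.leaf 788) (.leaf 308))) (.node 1 (.leaf 334) (.node 1 (.leaf 1411) (.leaf 169))))
(.node 3 (.node 1 (.leaf 369) (.node 1 (.leaf 888) (.leaf 989))) (.node 1 (.leaf 86) (.node 1 (.leaf 862) (.leaf 797)))))
(.node 6 (.node 3 (.node 1 (.leaf 70) (.node 1 (.leaf 162) (.leaf 587))) (.node 1 (.leaf 176) (.node 1 (.leaf 1297) (.leaf 1461))))
(.node 3 (.node 1 (.leaf 452) (.node 1 (.leaf 526) (.leaf 1196))) (.node 1 (.leaf 103) (.node 1 (.leaf 1058) (.leaf 455)))))))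
(.node 24 (.node 12 (.node 6 (.node 3 (.node 1 (.leaf 1516) (.node 1 (.leaf 1167) (.leaf 125))) (.node 1 (.leaf 528) (.node 1 (.leaf 874) (.leaf 133))))
(.node 3 (.node 1 (.leaf 468) (.node 1 (.leaf 1457) (.leaf 1415))) (.node 1 (.leaf 151) (.node 1 (.leaf 1201) (.leaf 484)))))
(.node 6 (.node 3 (.node 1 (.leaf 1301) (.node 1 (.leaf 63) (.leaf 6))) (.node 1 (.leaf 1054) (.node 1 (.leaf 952) (.leaf 909))))
(.node 3 (.node 1 (.leaf 1077) (.node 1 (.leaf 1175) (.leaf 640))) (.node 1 (.leaf 757) (.node 1 (.leaf 1141) (.leaf 972))))))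
(.node 12 (.node 6 (.node 3 (.node 1 (.leaf 1169) (.node 1 (.leaf 27) (.leaf 868))) (.node 1 (.leaf 21) (.node 1 (.leaf 269) (.leaf 1522))))
(.node 3 (.node 1 (.leaf 378) (.node 1 (.leaf 463) (.leaf 881))) (.node 1 (.leaf 1346) (.node 1 (.leaf 1109) (.leaf 1188)))))
(.node 6 (.node 3 (.node 1 (.leaf 183) (.node 1 (.leaf 789) (.leaf 348))) (.node 1 (.leaf 1367) (.node 1 (.leaf 956) (.leaf 1281))))
(.node 3 (.node 1 (.leaf 723) (.node 1 (.leaf 305) (.leaf 556))) (.node 1 (.leaf 684) (.node 1 (.leaf 43) (.leaf 753))))))))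
(.node 48 (.node 24 (.node 12 (.node 6 (.node 3 (.node 1 (.leaf 154) (.node 1 (.leaf 1191) (.leaf 1094))) (.node 1 (.leaf 1042) (.node 1 (.leaf 1156) (.leaf 16))))
(.node 3 (.node 1 (.leaf 1179) (.node 1 (.leaf 1378) (.leaf 767))) (.node 1 (.leaf 1154) (.node 1 (.leaf 90) (.leaf 1370)))))
(.node 6 (.node 3 (.node 1 (.leaf 1335) (.node 1 (.leaf 1270) (.leaf 641))) (.node 1 (.leaf 1358) (.node 1 (.leaf 295) (.leaf 1048))))
(.node 3 (.node 1 (.leaf 826) (.node 1 (.leaf 820) (.leaf 792))) (.node 1 (.leaf 575) (.node 1 (.leaf 93) (.leaf 867))))))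
(.node 12 (.node 6 (.node 3 (.node 1 (.leaf 476) (.node 1 (.leaf 1487) (.leaf 1446))) (.node 1 (.leaf 1531) (.node 1 (.leaf 1401) (.leaf 426))))
(.node 3 (.node 1 (.leaf 78) (.node 1 (.leaf 1489) (.leaf 585))) (.node 1 (.leaf 31) (.node 1 (.leaf 164) (.leaf 1250)))))
(.node 6 (.node 3 (.node 1 (.leaf 626) (.node 1 (.leaf 1234) (.leaf 1299))) (.node 1 (.leaf 522) (.node 1 (.leaf 1421) (.leaf 502))))
(.node 3 (.node 1 (.leaf 97) (.node 1 (.leaf 1215) (.leaf 984))) (.node 1 (.leaf 833) (.node 1 (.leaf 725) (.leaf 447)))))))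
(.node 24 (.node 12 (.node 6 (.node 3 (.node 1 (.leaf 577) (.node 1 (.leaf 1016) (.leaf 1481))) (.node 1 (.leaf 1062) (.node 1 (.leaf 1144) (.leaf 1184))))
(.node 3 (.node 1 (.leaf 391) (.node 1 (.leaf 987) (.leaf 1092))) (.node 1 (.leaf 700) (.node 1 (.leaf 1143) (.leaf 724)))))
(.node 6 (.node 3 (.node 1 (.leaf 152) (.node 1 (.leaf 1511) (.leaf 111))) (.node 1 (.leaf 1308) (.node 1 (.leaf 922) (.leaf 1153))))
(.node 3 (.node 1 (.leaf 565) (.node 1 (.leaf 1513) (.leaf 560))) (.node 1 (.leaf 1386) (.node 1 (.leaf 1056) (.leaf 662))))))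
(.node 12 (.node 6 (.node 3 (.node 1 (.leaf 1385) (.node 1 (.leaf 892) (.leaf 79))) (.node 1 (.leaf 1327) (.node 1 (.leaf 1344) (.leaf 1426))))
(.node 3 (.node 1 (.leaf 74) (.node 1 (.leaf 1424) (.leaf 1482))) (.node 1 (.leaf 20) (.node 1 (.leaf 213) (.leaf 932)))))
(.node 6 (.node 3 (.node 1 (.leaf 1465) (.node 1 (.leaf 327) (.leaf 1132))) (.node 1 (.leaf 482) (.node 1 (.leaf 366) (.leaf 123))))
(.node 3 (.node 1 (.leaf 10) (.node 1 (.leaf 1021) (.leaf 1061))) (.node 1 (.leaf 1472) (.node 1 (.leaf 294) (.leaf 1334)))))))))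
(.node 96 (.node 48 (.node 24 (.node 12 (.node 6 (.node 3 (.node 1 (.leaf 718) (.node 1 (.leaf 572) (.leaf 1403))) (.node 1 (.leaf 785) (.node 1 (.leaf 633) (.leaf 1453))))
(.node 3 (.node 1 (.leaf 185) (.node 1 (.leaf 252) (.leaf 1277))) (.node 1 (.leaf 459) (.node 1 (.leaf 981) (.leaf 292)))))
(.node 6 (.node 3 (.node 1 (.leaf 236) (.node 1 (.leaf 131) (.leaf 1432))) (.node 1 (.leaf 1241) (.node 1 (.leaf 1) (.leaf 541))))
(.node 3 (.node 1 (.leaf 513) (.node 1 (.leaf 1369) (.leaf 1127))) (.node 1 (.leaf 871) (.node 1 (.leaf 616) (.leaf 558))))))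
(.node 12 (.node 6 (.node 3 (.node 1 (.leaf 649) (.node 1 (.leaf 658) (.leaf 1214))) (.node 1 (.leaf 489) (.node 1 (.leaf 1173) (.leaf 645))))
(.node 3 (.node 1 (.leaf 965) (.node 1 (.leaf 963) (.leaf 397))) (.node 1 (.leaf 637) (.node 1 (.leaf 1384) (.leaf 704)))))
(.node 6 (.node 3 (.node 1 (.leaf 996) (.node 1 (.leaf 679) (.leaf 309))) (.node 1 (.leaf 864) (.node 1 (.leaf 783) (.leaf 237))))
(.node 3 (.node 1 (.leaf 1292) (.node 1 (.leaf 601) (.leaf 1112))) (.node 1 (.leaf 946) (.node 1 (.leaf 1152) (.leaf 1082)))))))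
(.node 24 (.node 12 (.node 6 (.node 3 (.node 1 (.leaf 1045) (.node 1 (.leaf 1065) (.leaf 1020))) (.node 1 (.leaf 1488) (.node 1 (.leaf 793) (.leaf 974))))
(.node 3 (.node 1 (.leaf 603) (.node 1 (.leaf 646) (.leaf 629))) (.node 1 (.leaf 40) (.node 1 (.leaf 1474) (.leaf 1138)))))
(.node 6 (.node 3 (.node 1 (.leaf 341) (.node 1 (.leaf 955) (.leaf 1093))) (.node 1 (.leaf 209) (.node 1 (.leaf 1030) (.leaf 657))))
(.node 3 (.node 1 (.leaf 340) (.node 1 (.leaf 239) (.leaf 191))) (.node 1 (.leaf 195) (.node 1 (.leaf 287) (.leaf 1296))))))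
(.node 12 (.node 6 (.node 3 (.node 1 (.leaf 625) (.node 1 (.leaf 804) (.leaf 1387))) (.node 1 (.leaf 776) (.node 1 (.leaf 288) (.leaf 677))))
(.node 3 (.node 1 (.leaf 1130) (.node 1 (.leaf 807) (.leaf 44))) (.node 1 (.leaf 1225) (.node 1 (.leaf 548) (.leaf 46)))))
(.node 6 (.node 3 (.node 1 (.leaf 379) (.node 1 (.leaf 994) (.leaf 250))) (.node 1 (.leaf 432) (.node 1 (.leaf 1223) (.leaf 1114))))
(.node 3 (.node 1 (.leaf 673) (.node 1 (.leaf 324) (.leaf 64))) (.node 1 (.leaf 1051) (.node 1 (.leaf 1515) (.leaf 1303))))))))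
(.node 48 (.node 24 (.node 12 (.node 6 (.node 3 (.node 1 (.leaf 249) (.node 1 (.leaf 672) (.leaf 814))) (.node 1 (.leaf 175) (.node 1 (.leaf 1443) (.leaf 132))))
(.node 3 (.node 1 (.leaf 248) (.node 1 (.leaf 1113) (.leaf 100))) (.node 1 (.leaf 1074) (.node 1 (.leaf 524) (.leaf 1230)))))
(.node 6 (.node 3 (.node 1 (.leaf 1027) (.node 1 (.leaf 275) (.leaf 61))) (.node 1 (.leaf 901) (.node 1 (.leaf 45) (.leaf 59))))
(.node 3 (.node 1 (.leaf 613) (.node 1 (.leaf 434) (.leaf 1216))) (.node 1 (.leaf 231) (.node 1 (.leaf 268) (.leaf 1248))))))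
(.node 12 (.node 6 (.node 3 (.node 1 (.leaf 1034) (.node 1 (.leaf 1210) (.leaf 372))) (.node 1 (.leaf 1247) (.node 1 (.leaf 624) (.leaf 335))))
(.node 3 (.node 1 (.leaf 937) (.node 1 (.leaf 1038) (.leaf 394))) (.node 1 (.leaf 661) (.node 1 (.leaf 1374) (.leaf 242)))))
(.node 6 (.node 3 (.node 1 (.leaf 1526) (.node 1 (.leaf 869) (.leaf 1365))) (.node 1 (.leaf 415) (.node 1 (.leaf 443) (.leaf 22))))
(.node 3 (.node 1 (.leaf 1512) (.node 1 (.leaf 402) (.leaf 11))) (.node 1 (.leaf 836) (.node 1 (.leaf 1222) (.leaf 210)))))))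
(.node 24 (.node 12 (.node 6 (.node 3 (.node 1 (.leaf 317) (.node 1 (.leaf 834) (.leaf 1139))) (.node 1 (.leaf 982) (.node 1 (.leaf 2) (.leaf 1328))))
(.node 3 (.node 1 (.leaf 1495) (.node 1 (.leaf 555) (.leaf 228))) (.node 1 (.leaf 1142) (.node 1 (.leaf 960) (.leaf 28)))))
(.node 6 (.node 3 (.node 1 (.leaf 108) (.node 1 (.leaf 202) (.leaf 1257))) (.node 1 (.leaf 1449) (.node 1 (.leaf 600) (.leaf 825))))
(.node 3 (.node 1 (.leaf 1530) (.node 1 (.leaf 155) (.leaf 920))) (.node 1 (.leaf 531) (.node 1 (.leaf 82) (.leaf 368))))))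
(.node 12 (.node 6 (.node 3 (.node 1 (.leaf 1521) (.node 1 (.leaf 747) (.leaf 1166))) (.node 1 (.leaf 1400) (.node 1 (.leaf 171) (.leaf 398))))
(.node 3 (.node 1 (.leaf 1490) (.node 1 (.leaf 371) (.leaf 873))) (.node 1 (.leaf 732) (.node 1 (.leaf 110) (.leaf 1438)))))
(.node 6 (.node 3 (.node 1 (.leaf 34) (.node 1 (.leaf 1115) (.leaf 1428))) (.node 1 (.leaf 460) (.node 1 (.leaf 1177) (.leaf 731))))
(.node 3 (.node 1 (.leaf 439) (.node 1 (.leaf 567) (.leaf 1182))) (.node 1 (.leaf 109) (.node 1 (.leaf 968) (.leaf 1212))))))))))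

/-- The inverse action. -/
def caseCFullInv0RR : Tab ℕ :=
(.node 192 (.node 96 (.node 48 (.node 24 (.node 12 (.node 6 (.node 3 (.node 1 (.leaf 742) (.node 1 (.leaf 445) (.leaf 521))) (.node 1 (.leaf 959) (.node 1 (.leaf 1288) (.leaf 1329))))
(.node 3 (.node 1 (.leaf 1473) (.node 1 (.leaf 458) (.leaf 1047))) (.node 1 (.leaf 1283) (.node 1 (.leaf 1348) (.leaf 1019)))))
(.node 6 (.node 3 (.node 1 (.leaf 740) (.node 1 (.leaf 1040) (.leaf 1087))) (.node 1 (.leaf 1359) (.node 1 (.leaf 307) (.leaf 1298))))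
(.node 3 (.node 1 (.leaf 876) (.node 1 (.leaf 1309) (.leaf 880))) (.node 1 (.leaf 1341) (.node 1 (.leaf 791) (.leaf 958))))))
(.node 12 (.node 6 (.node 3 (.node 1 (.leaf 153) (.node 1 (.leaf 311) (.leaf 429))) (.node 1 (.leaf 414) (.node 1 (.leaf 499) (.leaf 621))))
(.node 3 (.node 1 (.leaf 253) (.node 1 (.leaf 172) (.leaf 29))) (.node 1 (.leaf 1000) (.node 1 (.leaf 329) (.leaf 1427)))))
(.node 6 (.node 3 (.node 1 (.leaf 1208) (.node 1 (.leaf 409) (.leaf 653))) (.node 1 (.leaf 106) (.node 1 (.leaf 330) (.leaf 730))))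
(.node 3 (.node 1 (.leaf 367) (.node 1 (.leaf 377) (.leaf 527))) (.node 1 (.leaf 60) (.node 1 (.leaf 360) (.leaf 221)))))))
(.node 24 (.node 12 (.node 6 (.node 3 (.node 1 (.leaf 1439) (.node 1 (.leaf 95) (.leaf 544))) (.node 1 (.leaf 1285) (.node 1 (.leaf 1343) (.leaf 122))))
(.node 3 (.node 1 (.leaf 69) (.node 1 (.leaf 784) (.leaf 331))) (.node 1 (.leaf 66) (.node 1 (.leaf 698) (.leaf 1046)))))
(.node 6 (.node 3 (.node 1 (.leaf 1151) (.node 1 (.leaf 1091) (.leaf 597))) (.node 1 (.leaf 225) (.node 1 (.leaf 726) (.leaf 1251))))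
(.node 3 (.node 1 (.leaf 25) (.node 1 (.leaf 998) (.leaf 861))) (.node 1 (.leaf 940) (.node 1 (.leaf 1003) (.leaf 848))))))
(.node 12 (.node 6 (.node 3 (.node 1 (.leaf 1480) (.node 1 (.leaf 1011) (.leaf 1534))) (.node 1 (.leaf 1351) (.node 1 (.leaf 130) (.leaf 927))))
(.node 3 (.node 1 (.leaf 241) (.node 1 (.leaf 1383) (.leaf 223))) (.node 1 (.leaf 144) (.node 1 (.leaf 1356) (.leaf 182)))))
(.node 6 (.node 3 (.node 1 (.leaf 1509) (.node 1 (.leaf 1002) (.leaf 1272))) (.node 1 (.leaf 386) (.node 1 (.leaf 512) (.leaf 879))))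
(.node 3 (.node 1 (.leaf 67) (.node 1 (.leaf 1157) (.leaf 520))) (.node 1 (.leaf 99) (.node 1 (.leaf 37) (.leaf 1484))))))))
(.node 48 (.node 24 (.node 12 (.node 6 (.node 3 (.node 1 (.leaf 509) (.node 1 (.leaf 1078) (.leaf 257))) (.node 1 (.leaf 911) (.node 1 (.leaf 189) (.leaf 410))))
(.node 3 (.node 1 (.leaf 344) (.node 1 (.leaf 1381) (.leaf 1106))) (.node 1 (.leaf 406) (.node 1 (.leaf 1517) (.leaf 260)))))
(.node 6 (.node 3 (.node 1 (.leaf 1024) (.node 1 (.leaf 1405) (.leaf 680))) (.node 1 (.leaf 436) (.node 1 (.leaf 145) (.leaf 1310))))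
(.node 3 (.node 1 (.leaf 291) (.node 1 (.leaf 559) (.leaf 265))) (.node 1 (.leaf 1340) (.node 1 (.leaf 701) (.leaf 622))))))
(.node 12 (.node 6 (.node 3 (.node 1 (.leaf 1238) (.node 1 (.leaf 919) (.leaf 146))) (.node 1 (.leaf 1407) (.node 1 (.leaf 193) (.leaf 1312))))
(.node 3 (.node 1 (.leaf 143) (.node 1 (.leaf 174) (.leaf 1447))) (.node 1 (.leaf 857) (.node 1 (.leaf 839) (.leaf 1140)))))
(.node 6 (.node 3 (.node 1 (.leaf 553) (.node 1 (.leaf 332) (.leaf 137))) (.node 1 (.leaf 651) (.node 1 (.leaf 842) (.leaf 1289))))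
(.node 3 (.node 1 (.leaf 138) (.node 1 (.leaf 102) (.leaf 515))) (.node 1 (.leaf 1265) (.node 1 (.leaf 1085) (.leaf 1070)))))))
(.node 24 (.node 12 (.node 6 (.node 3 (.node 1 (.leaf 1031) (.node 1 (.leaf 161) (.leaf 1321))) (.node 1 (.leaf 1195) (.node 1 (.leaf 511) (.leaf 758))))
(.node 3 (.node 1 (.leaf 811) (.node 1 (.leaf 1239) (.leaf 1459))) (.node 1 (.leaf 913) (.node 1 (.leaf 697) (.leaf 33)))))
(.node 6 (.node 3 (.node 1 (.leaf 759) (.node 1 (.leaf 208) (.leaf 1360))) (.node 1 (.leaf 1311) (.node 1 (.leaf 1150) (.leaf 200))))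
(.node 3 (.node 1 (.leaf 1352) (.node 1 (.leaf 188) (.leaf 1392))) (.node 1 (.leaf 337) (.node 1 (.leaf 1284) (.leaf 973))))))
(.node 12 (.node 6 (.node 3 (.node 1 (.leaf 929) (.node 1 (.leaf 840) (.leaf 755))) (.node 1 (.leaf 681) (.node 1 (.leaf 749) (.leaf 1417))))
(.node 3 (.node 1 (.leaf 691) (.node 1 (.leaf 768) (.leaf 322))) (.node 1 (.leaf 251) (.node 1 (.leaf 1267) (.leaf 381)))))
(.node 6 (.node 3 (.node 1 (.leaf 374) (.node 1 (.leaf 764) (.leaf 1519))) (.node 1 (.leaf 741) (.node 1 (.leaf 1397) (.leaf 1076))))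
(.node 3 (.node 1 (.leaf 417) (.node 1 (.leaf 215) (.leaf 977))) (.node 1 (.leaf 529) (.node 1 (.leaf 124) (.leaf 551)))))))))
(.node 96 (.node 48 (.node 24 (.node 12 (.node 6 (.node 3 (.node 1 (.leaf 115) (.node 1 (.leaf 863) (.leaf 1181))) (.node 1 (.leaf 582) (.node 1 (.leaf 775) (.leaf 790))))
(.node 3 (.node 1 (.leaf 794) (.node 1 (.leaf 1227) (.leaf 298))) (.node 1 (.leaf 1393) (.node 1 (.leaf 612) (.leaf 1349)))))
(.node 6 (.node 3 (.node 1 (.leaf 1071) (.node 1 (.leaf 1470) (.leaf 975))) (.node 1 (.leaf 1399) (.node 1 (.leaf 1293) (.leaf 1300))))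
(.node 3 (.node 1 (.leaf 353) (.node 1 (.leaf 85) (.leaf 1306))) (.node 1 (.leaf 727) (.node 1 (.leaf 1500) (.leaf 564))))))
(.node 12 (.node 6 (.node 3 (.node 1 (.leaf 1448) (.node 1 (.leaf 173) (.leaf 875))) (.node 1 (.leaf 1430) (.node 1 (.leaf 627) (.leaf 128))))
(.node 3 (.node 1 (.leaf 687) (.node 1 (.leaf 1279) (.leaf 1220))) (.node 1 (.leaf 720) (.node 1 (.leaf 970) (.leaf 343)))))
(.node 6 (.node 3 (.node 1 (.leaf 799) (.node 1 (.leaf 1096) (.leaf 1394))) (.node 1 (.leaf 1095) (.node 1 (.leaf 1008) (.leaf 746))))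
(.node 3 (.node 1 (.leaf 923) (.node 1 (.leaf 748) (.leaf 573))) (.node 1 (.leaf 872) (.node 1 (.leaf 347) (.leaf 773)))))))
(.node 24 (.node 12 (.node 6 (.node 3 (.node 1 (.leaf 286) (.node 1 (.leaf 796) (.leaf 926))) (.node 1 (.leaf 212) (.node 1 (.leaf 1363) (.leaf 739))))
(.node 3 (.node 1 (.leaf 593) (.node 1 (.leaf 817) (.leaf 380))) (.node 1 (.leaf 1086) (.node 1 (.leaf 1183) (.leaf 765)))))
(.node 6 (.node 3 (.node 1 (.leaf 594) (.node 1 (.leaf 77) (.leaf 488))) (.node 1 (.leaf 1254) (.node 1 (.leaf 915) (.leaf 1406))))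
(.node 3 (.node 1 (.leaf 53) (.node 1 (.leaf 1353) (.leaf 962))) (.node 1 (.leaf 84) (.node 1 (.leaf 865) (.leaf 967))))))
(.node 12 (.node 6 (.node 3 (.node 1 (.leaf 636) (.node 1 (.leaf 890) (.leaf 976))) (.node 1 (.leaf 823) (.node 1 (.leaf 1498) (.leaf 1390))))
(.node 3 (.node 1 (.leaf 516) (.node 1 (.leaf 1494) (.leaf 149))) (.node 1 (.leaf 376) (.node 1 (.leaf 941) (.leaf 576)))))
(.node 6 (.node 3 (.node 1 (.leaf 1063) (.node 1 (.leaf 1006) (.leaf 1200))) (.node 1 (.leaf 1004) (.node 1 (.leaf 243) (.leaf 503))))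
(.node 3 (.node 1 (.leaf 1207) (.node 1 (.leaf 935) (.leaf 47))) (.node 1 (.leaf 192) (.node 1 (.leaf 1256) (.leaf 1371))))))))
(.node 48 (.node 24 (.node 12 (.node 6 (.node 3 (.node 1 (.leaf 167) (.node 1 (.leaf 478) (.leaf 1510))) (.node 1 (.leaf 536) (.node 1 (.leaf 951) (.leaf 733))))
(.node 3 (.node 1 (.leaf 1325) (.node 1 (.leaf 1422) (.leaf 1499))) (.node 1 (.leaf 304) (.node 1 (.leaf 948) (.leaf 924)))))
(.node 6 (.node 3 (.node 1 (.leaf 454) (.node 1 (.leaf 474) (.leaf 1295))) (.node 1 (.leaf 908) (.node 1 (.leaf 1532) (.leaf 280))))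
(.node 3 (.node 1 (.leaf 877) (.node 1 (.leaf 1226) (.leaf 1441))) (.node 1 (.leaf 1014) (.node 1 (.leaf 538) (.leaf 1333))))))
(.node 12 (.node 6 (.node 3 (.node 1 (.leaf 35) (.node 1 (.leaf 752) (.leaf 686))) (.node 1 (.leaf 1504) (.node 1 (.leaf 1368) (.leaf 1176))))
(.node 3 (.node 1 (.leaf 1357) (.node 1 (.leaf 1514) (.leaf 224))) (.node 1 (.leaf 180) (.node 1 (.leaf 1278) (.leaf 934)))))
(.node 6 (.node 3 (.node 1 (.leaf 1485) (.node 1 (.leaf 980) (.leaf 1007))) (.node 1 (.leaf 1456) (.node 1 (.leaf 664) (.leaf 578))))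
(.node 3 (.node 1 (.leaf 36) (.node 1 (.leaf 550) (.leaf 666))) (.node 1 (.leaf 903) (.node 1 (.leaf 772) (.leaf 15)))))))
(.node 24 (.node 12 (.node 6 (.node 3 (.node 1 (.leaf 1041) (.node 1 (.leaf 395) (.leaf 203))) (.node 1 (.leaf 1271) (.node 1 (.leaf 285) (.leaf 1493))))
(.node 3 (.node 1 (.leaf 1126) (.node 1 (.leaf 762) (.leaf 1067))) (.node 1 (.leaf 547) (.node 1 (.leaf 1100) (.leaf 1468)))))
(.node 6 (.node 3 (.node 1 (.leaf 859) (.node 1 (.leaf 444) (.leaf 738))) (.node 1 (.leaf 492) (.node 1 (.leaf 1073) (.leaf 370))))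
(.node 3 (.node 1 (.leaf 498) (.node 1 (.leaf 722) (.leaf 831))) (.node 1 (.leaf 1347) (.node 1 (.leaf 668) (.leaf 449))))))
(.node 12 (.node 6 (.node 3 (.node 1 (.leaf 1413) (.node 1 (.leaf 38) (.leaf 822))) (.node 1 (.leaf 1508) (.node 1 (.leaf 1202) (.leaf 1145))))
(.node 3 (.node 1 (.leaf 517) (.node 1 (.leaf 1155) (.leaf 644))) (.node 1 (.leaf 654) (.node 1 (.leaf 694) (.leaf 580)))))
(.node 6 (.node 3 (.node 1 (.leaf 266) (.node 1 (.leaf 112) (.leaf 1124))) (.node 1 (.leaf 917) (.node 1 (.leaf 247) (.leaf 198))))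
(.node 3 (.node 1 (.leaf 508) (.node 1 (.leaf 891) (.leaf 590))) (.node 1 (.leaf 234) (.node 1 (.leaf 1304) (.leaf 1060))))))))))

/-- The inverse action. -/
def caseCFullInv0R : Tab ℕ := .node 384 caseCFullInv0RL caseCFullInv0RR

/-- The inverse action. -/
def caseCFullInv0 : Tab ℕ := .node 768 caseCFullInv0L caseCFullInv0R

/-- The inverse action. -/
def caseCFullInv1LL : Tab ℕ :=
(.node 192 (.node 96 (.node 48 (.node 24 (.node 12 (.node 6 (.node 3 (.node 1 (.leaf 0) (.node 1 (.leaf 77) (.leaf 779))) (.node 1 (.leaf 1117) (.node 1 (.leaf 32) (.leaf 485))))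
(.node 3 (.node 1 (.leaf 1321) (.node 1 (.leaf 1033) (.leaf 81))) (.node 1 (.leaf 17) (.node 1 (.leaf 1347) (.leaf 73)))))
(.node 6 (.node 3 (.node 1 (.leaf 12) (.node 1 (.leaf 313) (.leaf 1096))) (.node 1 (.leaf 1356) (.node 1 (.leaf 36) (.leaf 9))))
(.node 3 (.node 1 (.leaf 1140) (.node 1 (.leaf 426) (.leaf 1492))) (.node 1 (.leaf 1101) (.node 1 (.leaf 476) (.leaf 1221))))))
(.node 12 (.node 6 (.node 3 (.node 1 (.leaf 1059) (.node 1 (.leaf 717) (.leaf 202))) (.node 1 (.leaf 1493) (.node 1 (.leaf 562) (.leaf 327))))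
(.node 3 (.node 1 (.leaf 30) (.node 1 (.leaf 1361) (.leaf 4))) (.node 1 (.leaf 1366) (.node 1 (.leaf 1413) (.leaf 1452)))))
(.node 6 (.node 3 (.node 1 (.leaf 16) (.node 1 (.leaf 127) (.leaf 1295))) (.node 1 (.leaf 248) (.node 1 (.leaf 1325) (.leaf 1214))))
(.node 3 (.node 1 (.leaf 304) (.node 1 (.leaf 889) (.leaf 1460))) (.node 1 (.leaf 390) (.node 1 (.leaf 108) (.leaf 1327)))))))
(.node 24 (.node 12 (.node 6 (.node 3 (.node 1 (.leaf 822) (.node 1 (.leaf 463) (.leaf 710))) (.node 1 (.leaf 1397) (.node 1 (.leaf 1470) (.leaf 576))))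
(.node 3 (.node 1 (.leaf 1179) (.node 1 (.leaf 1185) (.leaf 1260))) (.node 1 (.leaf 858) (.node 1 (.leaf 195) (.leaf 714)))))
(.node 6 (.node 3 (.node 1 (.leaf 1526) (.node 1 (.leaf 594) (.leaf 376))) (.node 1 (.leaf 1086) (.node 1 (.leaf 1056) (.leaf 90))))
(.node 3 (.node 1 (.leaf 236) (.node 1 (.leaf 536) (.leaf 1156))) (.node 1 (.leaf 1437) (.node 1 (.leaf 1032) (.leaf 407))))))
(.node 12 (.node 6 (.node 3 (.node 1 (.leaf 1289) (.node 1 (.leaf 11) (.leaf 122))) (.node 1 (.leaf 429) (.node 1 (.leaf 964) (.leaf 1))))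
(.node 3 (.node 1 (.leaf 1475) (.node 1 (.leaf 1498) (.leaf 1450))) (.node 1 (.leaf 8) (.node 1 (.leaf 178) (.leaf 1041)))))
(.node 6 (.node 3 (.node 1 (.leaf 158) (.node 1 (.leaf 879) (.leaf 1228))) (.node 1 (.leaf 629) (.node 1 (.leaf 1416) (.leaf 199))))
(.node 3 (.node 1 (.leaf 65) (.node 1 (.leaf 1103) (.leaf 541))) (.node 1 (.leaf 291) (.node 1 (.leaf 381) (.leaf 1267))))))))
(.node 48 (.node 24 (.node 12 (.node 6 (.node 3 (.node 1 (.leaf 1428) (.node 1 (.leaf 1142) (.leaf 810))) (.node 1 (.leaf 977) (.node 1 (.leaf 590) (.leaf 101))))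
(.node 3 (.node 1 (.leaf 387) (.node 1 (.leaf 1532) (.leaf 773))) (.node 1 (.leaf 185) (.node 1 (.leaf 1092) (.leaf 797)))))
(.node 6 (.node 3 (.node 1 (.leaf 46) (.node 1 (.leaf 146) (.leaf 1003))) (.node 1 (.leaf 733) (.node 1 (.leaf 1194) (.leaf 782))))
(.node 3 (.node 1 (.leaf 225) (.node 1 (.leaf 1035) (.leaf 372))) (.node 1 (.leaf 727) (.node 1 (.leaf 251) (.leaf 1197))))))
(.node 12 (.node 6 (.node 3 (.node 1 (.leaf 1307) (.node 1 (.leaf 1133) (.leaf 74))) (.node 1 (.leaf 644) (.node 1 (.leaf 651) (.leaf 1050))))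
(.node 3 (.node 1 (.leaf 177) (.node 1 (.leaf 37) (.leaf 1391))) (.node 1 (.leaf 706) (.node 1 (.leaf 830) (.leaf 1235)))))
(.node 6 (.node 3 (.node 1 (.leaf 469) (.node 1 (.leaf 534) (.leaf 699))) (.node 1 (.leaf 207) (.node 1 (.leaf 464) (.leaf 1363))))
(.node 3 (.node 1 (.leaf 1517) (.node 1 (.leaf 1238) (.leaf 1253))) (.node 1 (.leaf 738) (.node 1 (.leaf 1243) (.leaf 632)))))))
(.node 24 (.node 12 (.node 6 (.node 3 (.node 1 (.leaf 151) (.node 1 (.leaf 906) (.leaf 109))) (.node 1 (.leaf 619) (.node 1 (.leaf 419) (.leaf 778))))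
(.node 3 (.node 1 (.leaf 150) (.node 1 (.leaf 144) (.leaf 686))) (.node 1 (.leaf 266) (.node 1 (.leaf 918) (.leaf 814)))))
(.node 6 (.node 3 (.node 1 (.leaf 507) (.node 1 (.leaf 1080) (.leaf 84))) (.node 1 (.leaf 602) (.node 1 (.leaf 599) (.leaf 211))))
(.node 3 (.node 1 (.leaf 365) (.node 1 (.leaf 434) (.leaf 1162))) (.node 1 (.leaf 1205) (.node 1 (.leaf 1504) (.leaf 431))))))
(.node 12 (.node 6 (.node 3 (.node 1 (.leaf 679) (.node 1 (.leaf 354) (.leaf 1494))) (.node 1 (.leaf 697) (.node 1 (.leaf 548) (.leaf 569))))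
(.node 3 (.node 1 (.leaf 1089) (.node 1 (.leaf 1336) (.leaf 1299))) (.node 1 (.leaf 126) (.node 1 (.leaf 82) (.leaf 1467)))))
(.node 6 (.node 3 (.node 1 (.leaf 209) (.node 1 (.leaf 616) (.leaf 909))) (.node 1 (.leaf 692) (.node 1 (.leaf 1417) (.leaf 105))))
(.node 3 (.node 1 (.leaf 555) (.node 1 (.leaf 1388) (.leaf 988))) (.node 1 (.leaf 1181) (.node 1 (.leaf 190) (.leaf 995)))))))))
(.node 96 (.node 48 (.node 24 (.node 12 (.node 6 (.node 3 (.node 1 (.leaf 524) (.node 1 (.leaf 1053) (.leaf 794))) (.node 1 (.leaf 58) (.node 1 (.leaf 196) (.leaf 1534))))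
(.node 3 (.node 1 (.leaf 475) (.node 1 (.leaf 89) (.leaf 1232))) (.node 1 (.leaf 510) (.node 1 (.leaf 26) (.leaf 959)))))
(.node 6 (.node 3 (.node 1 (.leaf 926) (.node 1 (.leaf 837) (.leaf 488))) (.node 1 (.leaf 135) (.node 1 (.leaf 788) (.leaf 180))))
(.node 3 (.node 1 (.leaf 401) (.node 1 (.leaf 161) (.leaf 841))) (.node 1 (.leaf 1062) (.node 1 (.leaf 1510) (.leaf 701))))))
(.node 12 (.node 6 (.node 3 (.node 1 (.leaf 1188) (.node 1 (.leaf 1095) (.leaf 1465))) (.node 1 (.leaf 398) (.node 1 (.leaf 559) (.leaf 921))))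
(.node 3 (.node 1 (.leaf 297) (.node 1 (.leaf 816) (.leaf 844))) (.node 1 (.leaf 114) (.node 1 (.leaf 292) (.leaf 1443)))))
(.node 6 (.node 3 (.node 1 (.leaf 1432) (.node 1 (.leaf 924) (.leaf 955))) (.node 1 (.leaf 413) (.node 1 (.leaf 934) (.leaf 776))))
(.node 3 (.node 1 (.leaf 965) (.node 1 (.leaf 653) (.leaf 66))) (.node 1 (.leaf 428) (.node 1 (.leaf 238) (.leaf 484)))))))
(.node 24 (.node 12 (.node 6 (.node 3 (.node 1 (.leaf 973) (.node 1 (.leaf 747) (.leaf 1406))) (.node 1 (.leaf 1167) (.node 1 (.leaf 667) (.leaf 528))))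
(.node 3 (.node 1 (.leaf 338) (.node 1 (.leaf 897) (.leaf 39))) (.node 1 (.leaf 1491) (.node 1 (.leaf 418) (.leaf 118)))))
(.node 6 (.node 3 (.node 1 (.leaf 1147) (.node 1 (.leaf 256) (.leaf 743))) (.node 1 (.leaf 1349) (.node 1 (.leaf 253) (.leaf 558))))
(.node 3 (.node 1 (.leaf 359) (.node 1 (.leaf 1330) (.leaf 873))) (.node 1 (.leaf 1442) (.node 1 (.leaf 751) (.leaf 1505))))))
(.node 12 (.node 6 (.node 3 (.node 1 (.leaf 761) (.node 1 (.leaf 288) (.leaf 153))) (.node 1 (.leaf 452) (.node 1 (.leaf 328) (.leaf 1255))))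
(.node 3 (.node 1 (.leaf 447) (.node 1 (.leaf 908) (.leaf 815))) (.node 1 (.leaf 774) (.node 1 (.leaf 1012) (.leaf 1306)))))
(.node 6 (.node 3 (.node 1 (.leaf 553) (.node 1 (.leaf 393) (.leaf 1433))) (.node 1 (.leaf 370) (.node 1 (.leaf 444) (.leaf 1271))))
(.node 3 (.node 1 (.leaf 1372) (.node 1 (.leaf 1093) (.leaf 1393))) (.node 1 (.leaf 367) (.node 1 (.leaf 1346) (.leaf 1030))))))))
(.node 48 (.node 24 (.node 12 (.node 6 (.node 3 (.node 1 (.leaf 265) (.node 1 (.leaf 364) (.leaf 1444))) (.node 1 (.leaf 93) (.node 1 (.leaf 226) (.leaf 685))))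
(.node 3 (.node 1 (.leaf 1027) (.node 1 (.leaf 968) (.leaf 1145))) (.node 1 (.leaf 222) (.node 1 (.leaf 832) (.leaf 1312)))))
(.node 6 (.node 3 (.node 1 (.leaf 1014) (.node 1 (.leaf 821) (.leaf 331))) (.node 1 (.leaf 389) (.node 1 (.leaf 42) (.leaf 951))))
(.node 3 (.node 1 (.leaf 874) (.node 1 (.leaf 322) (.leaf 813))) (.node 1 (.leaf 1409) (.node 1 (.leaf 332) (.leaf 1328))))))
(.node 12 (.node 6 (.node 3 (.node 1 (.leaf 420) (.node 1 (.leaf 13) (.leaf 939))) (.node 1 (.leaf 884) (.node 1 (.leaf 396) (.leaf 966))))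
(.node 3 (.node 1 (.leaf 502) (.node 1 (.leaf 345) (.leaf 1462))) (.node 1 (.leaf 1288) (.node 1 (.leaf 307) (.leaf 787)))))
(.node 6 (.node 3 (.node 1 (.leaf 724) (.node 1 (.leaf 1083) (.leaf 356))) (.node 1 (.leaf 29) (.node 1 (.leaf 268) (.leaf 981))))
(.node 3 (.node 1 (.leaf 512) (.node 1 (.leaf 302) (.leaf 310))) (.node 1 (.leaf 333) (.node 1 (.leaf 929) (.leaf 1198)))))))
(.node 24 (.node 12 (.node 6 (.node 3 (.node 1 (.leaf 712) (.node 1 (.leaf 698) (.leaf 246))) (.node 1 (.leaf 1445) (.node 1 (.leaf 1477) (.leaf 392))))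
(.node 3 (.node 1 (.leaf 1004) (.node 1 (.leaf 716) (.leaf 500))) (.node 1 (.leaf 319) (.node 1 (.leaf 805) (.leaf 801)))))
(.node 6 (.node 3 (.node 1 (.leaf 1177) (.node 1 (.leaf 573) (.leaf 894))) (.node 1 (.leaf 800) (.node 1 (.leaf 769) (.leaf 1373))))
(.node 3 (.node 1 (.leaf 169) (.node 1 (.leaf 907) (.leaf 326))) (.node 1 (.leaf 451) (.node 1 (.leaf 1341) (.leaf 258))))))
(.node 12 (.node 6 (.node 3 (.node 1 (.leaf 383) (.node 1 (.leaf 1506) (.leaf 1304))) (.node 1 (.leaf 363) (.node 1 (.leaf 289) (.leaf 162))))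
(.node 3 (.node 1 (.leaf 443) (.node 1 (.leaf 285) (.leaf 902))) (.node 1 (.leaf 650) (.node 1 (.leaf 279) (.leaf 1503)))))
(.node 6 (.node 3 (.node 1 (.leaf 116) (.node 1 (.leaf 656) (.leaf 1278))) (.node 1 (.leaf 1487) (.node 1 (.leaf 62) (.leaf 720))))
(.node 3 (.node 1 (.leaf 1441) (.node 1 (.leaf 1191) (.leaf 791))) (.node 1 (.leaf 94) (.node 1 (.leaf 1381) (.leaf 360))))))))))

/-- The inverse action. -/
def caseCFullInv1LR : Tab ℕ :=
(.node 192 (.node 96 (.node 48 (.node 24 (.node 12 (.node 6 (.node 3 (.node 1 (.leaf 846) (.node 1 (.leaf 506) (.leaf 549))) (.node 1 (.leaf 102) (.node 1 (.leaf 1519) (.leaf 303))))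
(.node 3 (.node 1 (.leaf 45) (.node 1 (.leaf 916) (.leaf 341))) (.node 1 (.leaf 277) (.node 1 (.leaf 1161) (.leaf 567)))))
(.node 6 (.node 3 (.node 1 (.leaf 316) (.node 1 (.leaf 494) (.leaf 219))) (.node 1 (.leaf 1472) (.node 1 (.leaf 571) (.leaf 210))))
(.node 3 (.node 1 (.leaf 819) (.node 1 (.leaf 672) (.leaf 1209))) (.node 1 (.leaf 532) (.node 1 (.leaf 574) (.leaf 71))))))
(.node 12 (.node 6 (.node 3 (.node 1 (.leaf 1061) (.node 1 (.leaf 1175) (.leaf 1500))) (.node 1 (.leaf 676) (.node 1 (.leaf 1283) (.leaf 231))))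
(.node 3 (.node 1 (.leaf 694) (.node 1 (.leaf 479) (.leaf 1091))) (.node 1 (.leaf 556) (.node 1 (.leaf 250) (.leaf 148)))))
(.node 6 (.node 3 (.node 1 (.leaf 312) (.node 1 (.leaf 1146) (.leaf 432))) (.node 1 (.leaf 1216) (.node 1 (.leaf 752) (.leaf 641))))
(.node 3 (.node 1 (.leaf 19) (.node 1 (.leaf 1322) (.leaf 237))) (.node 1 (.leaf 75) (.node 1 (.leaf 898) (.leaf 167)))))))
(.node 24 (.node 12 (.node 6 (.node 3 (.node 1 (.leaf 422) (.node 1 (.leaf 1459) (.leaf 163))) (.node 1 (.leaf 612) (.node 1 (.leaf 862) (.leaf 1106))))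
(.node 3 (.node 1 (.leaf 608) (.node 1 (.leaf 1195) (.leaf 440))) (.node 1 (.leaf 460) (.node 1 (.leaf 670) (.leaf 366)))))
(.node 6 (.node 3 (.node 1 (.leaf 280) (.node 1 (.leaf 1367) (.leaf 957))) (.node 1 (.leaf 270) (.node 1 (.leaf 655) (.leaf 529))))
(.node 3 (.node 1 (.leaf 1173) (.node 1 (.leaf 357) (.leaf 267))) (.node 1 (.leaf 1000) (.node 1 (.leaf 1357) (.leaf 756))))))
(.node 12 (.node 6 (.node 3 (.node 1 (.leaf 1237) (.node 1 (.leaf 1082) (.leaf 1139))) (.node 1 (.leaf 960) (.node 1 (.leaf 441) (.leaf 1155))))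
(.node 3 (.node 1 (.leaf 1522) (.node 1 (.leaf 49) (.leaf 136))) (.node 1 (.leaf 1405) (.node 1 (.leaf 910) (.leaf 1157)))))
(.node 6 (.node 3 (.node 1 (.leaf 1453) (.node 1 (.leaf 132) (.leaf 561))) (.node 1 (.leaf 1072) (.node 1 (.leaf 802) (.leaf 540))))
(.node 3 (.node 1 (.leaf 1018) (.node 1 (.leaf 198) (.leaf 22))) (.node 1 (.leaf 1064) (.node 1 (.leaf 609) (.leaf 415))))))))
(.node 48 (.node 24 (.node 12 (.node 6 (.node 3 (.node 1 (.leaf 527) (.node 1 (.leaf 1225) (.leaf 678))) (.node 1 (.leaf 1104) (.node 1 (.leaf 239) (.leaf 5))))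
(.node 3 (.node 1 (.leaf 702) (.node 1 (.leaf 621) (.leaf 206))) (.node 1 (.leaf 1154) (.node 1 (.leaf 1401) (.leaf 1034)))))
(.node 6 (.node 3 (.node 1 (.leaf 700) (.node 1 (.leaf 493) (.leaf 397))) (.node 1 (.leaf 870) (.node 1 (.leaf 1028) (.leaf 709))))
(.node 3 (.node 1 (.leaf 1169) (.node 1 (.leaf 1254) (.leaf 344))) (.node 1 (.leaf 538) (.node 1 (.leaf 318) (.leaf 652))))))
(.node 12 (.node 6 (.node 3 (.node 1 (.leaf 683) (.node 1 (.leaf 843) (.leaf 385))) (.node 1 (.leaf 156) (.node 1 (.leaf 1387) (.leaf 1230))))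
(.node 3 (.node 1 (.leaf 201) (.node 1 (.leaf 1410) (.leaf 330))) (.node 1 (.leaf 518) (.node 1 (.leaf 514) (.leaf 770)))))
(.node 6 (.node 3 (.node 1 (.leaf 1110) (.node 1 (.leaf 636) (.leaf 513))) (.node 1 (.leaf 1337) (.node 1 (.leaf 1143) (.leaf 654))))
(.node 3 (.node 1 (.leaf 1248) (.node 1 (.leaf 1128) (.leaf 192))) (.node 1 (.leaf 1376) (.node 1 (.leaf 1057) (.leaf 480)))))))
(.node 24 (.node 12 (.node 6 (.node 3 (.node 1 (.leaf 245) (.node 1 (.leaf 449) (.leaf 648))) (.node 1 (.leaf 1350) (.node 1 (.leaf 405) (.leaf 1268))))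
(.node 3 (.node 1 (.leaf 133) (.node 1 (.leaf 1378) (.leaf 67))) (.node 1 (.leaf 728) (.node 1 (.leaf 501) (.leaf 952)))))
(.node 6 (.node 3 (.node 1 (.leaf 473) (.node 1 (.leaf 92) (.leaf 823))) (.node 1 (.leaf 891) (.node 1 (.leaf 842) (.leaf 1303))))
(.node 3 (.node 1 (.leaf 1334) (.node 1 (.leaf 1149) (.leaf 172))) (.node 1 (.leaf 386) (.node 1 (.leaf 550) (.leaf 1535))))))
(.node 12 (.node 6 (.node 3 (.node 1 (.leaf 861) (.node 1 (.leaf 276) (.leaf 1115))) (.node 1 (.leaf 186) (.node 1 (.leaf 417) (.leaf 1360))))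
(.node 3 (.node 1 (.leaf 257) (.node 1 (.leaf 220) (.leaf 1377))) (.node 1 (.leaf 470) (.node 1 (.leaf 28) (.leaf 1340)))))
(.node 6 (.node 3 (.node 1 (.leaf 1355) (.node 1 (.leaf 986) (.leaf 1305))) (.node 1 (.leaf 395) (.node 1 (.leaf 688) (.leaf 173))))
(.node 3 (.node 1 (.leaf 1496) (.node 1 (.leaf 400) (.leaf 825))) (.node 1 (.leaf 349) (.node 1 (.leaf 406) (.leaf 1063)))))))))
(.node 96 (.node 48 (.node 24 (.node 12 (.node 6 (.node 3 (.node 1 (.leaf 53) (.node 1 (.leaf 781) (.leaf 1088))) (.node 1 (.leaf 666) (.node 1 (.leaf 942) (.leaf 1007))))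
(.node 3 (.node 1 (.leaf 1466) (.node 1 (.leaf 1137) (.leaf 1474))) (.node 1 (.leaf 596) (.node 1 (.leaf 1201) (.leaf 1046)))))
(.node 6 (.node 3 (.node 1 (.leaf 866) (.node 1 (.leaf 1065) (.leaf 100))) (.node 1 (.leaf 1049) (.node 1 (.leaf 1098) (.leaf 1319))))
(.node 3 (.node 1 (.leaf 61) (.node 1 (.leaf 748) (.leaf 585))) (.node 1 (.leaf 1365) (.node 1 (.leaf 1396) (.leaf 160))))))
(.node 12 (.node 6 (.node 3 (.node 1 (.leaf 856) (.node 1 (.leaf 1153) (.leaf 159))) (.node 1 (.leaf 890) (.node 1 (.leaf 1436) (.leaf 789))))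
(.node 3 (.node 1 (.leaf 871) (.node 1 (.leaf 1105) (.leaf 438))) (.node 1 (.leaf 478) (.node 1 (.leaf 1150) (.leaf 933)))))
(.node 6 (.node 3 (.node 1 (.leaf 435) (.node 1 (.leaf 1016) (.leaf 1039))) (.node 1 (.leaf 1021) (.node 1 (.leaf 181) (.leaf 880))))
(.node 3 (.node 1 (.leaf 1163) (.node 1 (.leaf 147) (.leaf 1116))) (.node 1 (.leaf 487) (.node 1 (.leaf 899) (.leaf 936)))))))
(.node 24 (.node 12 (.node 6 (.node 3 (.node 1 (.leaf 1249) (.node 1 (.leaf 642) (.leaf 1449))) (.node 1 (.leaf 1087) (.node 1 (.leaf 1129) (.leaf 87))))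
(.node 3 (.node 1 (.leaf 868) (.node 1 (.leaf 824) (.leaf 143))) (.node 1 (.leaf 1094) (.node 1 (.leaf 1525) (.leaf 1131)))))
(.node 6 (.node 3 (.node 1 (.leaf 517) (.node 1 (.leaf 1234) (.leaf 646))) (.node 1 (.leaf 1043) (.node 1 (.leaf 975) (.leaf 425))))
(.node 3 (.node 1 (.leaf 625) (.node 1 (.leaf 885) (.leaf 123))) (.node 1 (.leaf 1513) (.node 1 (.leaf 638) (.leaf 1159))))))
(.node 12 (.node 6 (.node 3 (.node 1 (.leaf 530) (.node 1 (.leaf 1060) (.leaf 369))) (.node 1 (.leaf 124) (.node 1 (.leaf 503) (.leaf 235))))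
(.node 3 (.node 1 (.leaf 521) (.node 1 (.leaf 448) (.leaf 373))) (.node 1 (.leaf 1343) (.node 1 (.leaf 1135) (.leaf 766)))))
(.node 6 (.node 3 (.node 1 (.leaf 1359) (.node 1 (.leaf 963) (.leaf 1183))) (.node 1 (.leaf 962) (.node 1 (.leaf 1333) (.leaf 718))))
(.node 3 (.node 1 (.leaf 579) (.node 1 (.leaf 244) (.leaf 1326))) (.node 1 (.leaf 1011) (.node 1 (.leaf 442) (.leaf 947))))))))
(.node 48 (.node 24 (.node 12 (.node 6 (.node 3 (.node 1 (.leaf 403) (.node 1 (.leaf 972) (.leaf 1040))) (.node 1 (.leaf 1171) (.node 1 (.leaf 411) (.leaf 1352))))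
(.node 3 (.node 1 (.leaf 482) (.node 1 (.leaf 168) (.leaf 1502))) (.node 1 (.leaf 1240) (.node 1 (.leaf 1051) (.leaf 504)))))
(.node 6 (.node 3 (.node 1 (.leaf 1404) (.node 1 (.leaf 293) (.leaf 152))) (.node 1 (.leaf 876) (.node 1 (.leaf 568) (.leaf 1025))))
(.node 3 (.node 1 (.leaf 1300) (.node 1 (.leaf 1353) (.leaf 183))) (.node 1 (.leaf 1461) (.node 1 (.leaf 414) (.leaf 1010))))))
(.node 12 (.node 6 (.node 3 (.node 1 (.leaf 886) (.node 1 (.leaf 171) (.leaf 337))) (.node 1 (.leaf 134) (.node 1 (.leaf 492) (.leaf 215))))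
(.node 3 (.node 1 (.leaf 486) (.node 1 (.leaf 1414) (.leaf 1242))) (.node 1 (.leaf 786) (.node 1 (.leaf 129) (.leaf 828)))))
(.node 6 (.node 3 (.node 1 (.leaf 833) (.node 1 (.leaf 497) (.leaf 50))) (.node 1 (.leaf 1408) (.node 1 (.leaf 336) (.leaf 713))))
(.node 3 (.node 1 (.leaf 59) (.node 1 (.leaf 1435) (.leaf 343))) (.node 1 (.leaf 25) (.node 1 (.leaf 665) (.leaf 1458)))))))
(.node 24 (.node 12 (.node 6 (.node 3 (.node 1 (.leaf 377) (.node 1 (.leaf 741) (.leaf 827))) (.node 1 (.leaf 875) (.node 1 (.leaf 324) (.leaf 1165))))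
(.node 3 (.node 1 (.leaf 990) (.node 1 (.leaf 117) (.leaf 537))) (.node 1 (.leaf 905) (.node 1 (.leaf 867) (.leaf 783)))))
(.node 6 (.node 3 (.node 1 (.leaf 762) (.node 1 (.leaf 111) (.leaf 892))) (.node 1 (.leaf 767) (.node 1 (.leaf 904) (.leaf 1020))))
(.node 3 (.node 1 (.leaf 141) (.node 1 (.leaf 901) (.leaf 1236))) (.node 1 (.leaf 721) (.node 1 (.leaf 742) (.leaf 254))))))
(.node 12 (.node 6 (.node 3 (.node 1 (.leaf 881) (.node 1 (.leaf 1097) (.leaf 1152))) (.node 1 (.leaf 241) (.node 1 (.leaf 595) (.leaf 1138))))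
(.node 3 (.node 1 (.leaf 838) (.node 1 (.leaf 262) (.leaf 424))) (.node 1 (.leaf 1168) (.node 1 (.leaf 792) (.leaf 1264)))))
(.node 6 (.node 3 (.node 1 (.leaf 455) (.node 1 (.leaf 923) (.leaf 991))) (.node 1 (.leaf 1318) (.node 1 (.leaf 1022) (.leaf 264))))
(.node 3 (.node 1 (.leaf 732) (.node 1 (.leaf 1530) (.leaf 967))) (.node 1 (.leaf 1323) (.node 1 (.leaf 659) (.leaf 735))))))))))

/-- The inverse action. -/
def caseCFullInv1L : Tab ℕ := .node 384 caseCFullInv1LL caseCFullInv1LR

/-- The inverse action. -/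
def caseCFullInv1RL : Tab ℕ :=
(.node 192 (.node 96 (.node 48 (.node 24 (.node 12 (.node 6 (.node 3 (.node 1 (.leaf 1200) (.node 1 (.leaf 352) (.leaf 515))) (.node 1 (.leaf 1476) (.node 1 (.leaf 812) (.leaf 104))))
(.node 3 (.node 1 (.leaf 273) (.node 1 (.leaf 1423) (.leaf 233))) (.node 1 (.leaf 1329) (.node 1 (.leaf 149) (.leaf 2)))))
(.node 6 (.node 3 (.node 1 (.leaf 790) (.node 1 (.leaf 577) (.leaf 113))) (.node 1 (.leaf 731) (.node 1 (.leaf 1345) (.leaf 1284))))
(.node 3 (.node 1 (.leaf 705) (.node 1 (.leaf 323) (.leaf 208))) (.node 1 (.leaf 605) (.node 1 (.leaf 780) (.leaf 380))))))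
(.node 12 (.node 6 (.node 3 (.node 1 (.leaf 754) (.node 1 (.leaf 956) (.leaf 194))) (.node 1 (.leaf 1182) (.node 1 (.leaf 913) (.leaf 107))))
(.node 3 (.node 1 (.leaf 1420) (.node 1 (.leaf 1075) (.leaf 351))) (.node 1 (.leaf 347) (.node 1 (.leaf 472) (.leaf 1005)))))
(.node 6 (.node 3 (.node 1 (.leaf 1294) (.node 1 (.leaf 346) (.leaf 1118))) (.node 1 (.leaf 1123) (.node 1 (.leaf 1112) (.leaf 1531))))
(.node 3 (.node 1 (.leaf 98) (.node 1 (.leaf 1184) (.leaf 772))) (.node 1 (.leaf 308) (.node 1 (.leaf 155) (.leaf 272)))))))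
(.node 24 (.node 12 (.node 6 (.node 3 (.node 1 (.leaf 223) (.node 1 (.leaf 996) (.leaf 1407))) (.node 1 (.leaf 402) (.node 1 (.leaf 1370) (.leaf 301))))
(.node 3 (.node 1 (.leaf 48) (.node 1 (.leaf 542) (.leaf 631))) (.node 1 (.leaf 572) (.node 1 (.leaf 1113) (.leaf 722)))))
(.node 6 (.node 3 (.node 1 (.leaf 707) (.node 1 (.leaf 1399) (.leaf 130))) (.node 1 (.leaf 1261) (.node 1 (.leaf 298) (.leaf 708))))
(.node 3 (.node 1 (.leaf 1126) (.node 1 (.leaf 1265) (.leaf 1058))) (.node 1 (.leaf 205) (.node 1 (.leaf 750) (.leaf 839))))))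
(.node 12 (.node 6 (.node 3 (.node 1 (.leaf 1332) (.node 1 (.leaf 212) (.leaf 544))) (.node 1 (.leaf 505) (.node 1 (.leaf 224) (.leaf 845))))
(.node 3 (.node 1 (.leaf 384) (.node 1 (.leaf 1425) (.leaf 1309))) (.node 1 (.leaf 1006) (.node 1 (.leaf 1213) (.leaf 1203)))))
(.node 6 (.node 3 (.node 1 (.leaf 1125) (.node 1 (.leaf 1176) (.leaf 854))) (.node 1 (.leaf 1202) (.node 1 (.leaf 600) (.leaf 1392))))
(.node 3 (.node 1 (.leaf 57) (.node 1 (.leaf 1222) (.leaf 1047))) (.node 1 (.leaf 552) (.node 1 (.leaf 436) (.leaf 1471))))))))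
(.node 48 (.node 24 (.node 12 (.node 6 (.node 3 (.node 1 (.leaf 1439) (.node 1 (.leaf 1217) (.leaf 588))) (.node 1 (.leaf 730) (.node 1 (.leaf 630) (.leaf 1489))))
(.node 3 (.node 1 (.leaf 495) (.node 1 (.leaf 606) (.leaf 1446))) (.node 1 (.leaf 260) (.node 1 (.leaf 306) (.leaf 723)))))
(.node 6 (.node 3 (.node 1 (.leaf 687) (.node 1 (.leaf 1199) (.leaf 1468))) (.node 1 (.leaf 85) (.node 1 (.leaf 617) (.leaf 744))))
(.node 3 (.node 1 (.leaf 961) (.node 1 (.leaf 1239) (.leaf 315))) (.node 1 (.leaf 643) (.node 1 (.leaf 696) (.leaf 943))))))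
(.node 12 (.node 6 (.node 3 (.node 1 (.leaf 1244) (.node 1 (.leaf 43) (.leaf 603))) (.node 1 (.leaf 543) (.node 1 (.leaf 734) (.leaf 1511))))
(.node 3 (.node 1 (.leaf 350) (.node 1 (.leaf 1044) (.leaf 1251))) (.node 1 (.leaf 247) (.node 1 (.leaf 430) (.leaf 622)))))
(.node 6 (.node 3 (.node 1 (.leaf 1247) (.node 1 (.leaf 739) (.leaf 368))) (.node 1 (.leaf 1219) (.node 1 (.leaf 736) (.leaf 729))))
(.node 3 (.node 1 (.leaf 145) (.node 1 (.leaf 355) (.leaf 271))) (.node 1 (.leaf 182) (.node 1 (.leaf 466) (.leaf 1164)))))))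
(.node 24 (.node 12 (.node 6 (.node 3 (.node 1 (.leaf 1422) (.node 1 (.leaf 796) (.leaf 914))) (.node 1 (.leaf 1109) (.node 1 (.leaf 391) (.leaf 1382))))
(.node 3 (.node 1 (.leaf 154) (.node 1 (.leaf 1102) (.leaf 920))) (.node 1 (.leaf 221) (.node 1 (.leaf 1160) (.leaf 757)))))
(.node 6 (.node 3 (.node 1 (.leaf 229) (.node 1 (.leaf 1218) (.leaf 204))) (.node 1 (.leaf 927) (.node 1 (.leaf 1132) (.leaf 334))))
(.node 3 (.node 1 (.leaf 1311) (.node 1 (.leaf 941) (.leaf 974))) (.node 1 (.leaf 611) (.node 1 (.leaf 232) (.leaf 993))))))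
(.node 12 (.node 6 (.node 3 (.node 1 (.leaf 623) (.node 1 (.leaf 1473) (.leaf 992))) (.node 1 (.leaf 314) (.node 1 (.leaf 1456) (.leaf 931))))
(.node 3 (.node 1 (.leaf 580) (.node 1 (.leaf 887) (.leaf 1292))) (.node 1 (.leaf 994) (.node 1 (.leaf 1227) (.leaf 671)))))
(.node 6 (.node 3 (.node 1 (.leaf 1119) (.node 1 (.leaf 1048) (.leaf 1431))) (.node 1 (.leaf 305) (.node 1 (.leaf 539) (.leaf 1320))))
(.node 3 (.node 1 (.leaf 1389) (.node 1 (.leaf 230) (.leaf 793))) (.node 1 (.leaf 446) (.node 1 (.leaf 1375) (.leaf 203)))))))))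
(.node 96 (.node 48 (.node 24 (.node 12 (.node 6 (.node 3 (.node 1 (.leaf 459) (.node 1 (.leaf 882) (.leaf 663))) (.node 1 (.leaf 661) (.node 1 (.leaf 76) (.leaf 234))))
(.node 3 (.node 1 (.leaf 317) (.node 1 (.leaf 764) (.leaf 295))) (.node 1 (.leaf 980) (.node 1 (.leaf 1148) (.leaf 1141)))))
(.node 6 (.node 3 (.node 1 (.leaf 673) (.node 1 (.leaf 240) (.leaf 932))) (.node 1 (.leaf 640) (.node 1 (.leaf 1314) (.leaf 99))))
(.node 3 (.node 1 (.leaf 1189) (.node 1 (.leaf 1448) (.leaf 969))) (.node 1 (.leaf 329) (.node 1 (.leaf 1170) (.leaf 1390))))))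
(.node 12 (.node 6 (.node 3 (.node 1 (.leaf 1358) (.node 1 (.leaf 1192) (.leaf 565))) (.node 1 (.leaf 987) (.node 1 (.leaf 188) (.leaf 1301))))
(.node 3 (.node 1 (.leaf 726) (.node 1 (.leaf 758) (.leaf 938))) (.node 1 (.leaf 935) (.node 1 (.leaf 945) (.leaf 191)))))
(.node 6 (.node 3 (.node 1 (.leaf 817) (.node 1 (.leaf 1310) (.leaf 1351))) (.node 1 (.leaf 1451) (.node 1 (.leaf 453) (.leaf 1469))))
(.node 3 (.node 1 (.leaf 1002) (.node 1 (.leaf 110) (.leaf 342))) (.node 1 (.leaf 803) (.node 1 (.leaf 849) (.leaf 581)))))))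
(.node 24 (.node 12 (.node 6 (.node 3 (.node 1 (.leaf 1275) (.node 1 (.leaf 1394) (.leaf 695))) (.node 1 (.leaf 669) (.node 1 (.leaf 274) (.leaf 1282))))
(.node 3 (.node 1 (.leaf 300) (.node 1 (.leaf 1190) (.leaf 613))) (.node 1 (.leaf 1524) (.node 1 (.leaf 474) (.leaf 1279)))))
(.node 6 (.node 3 (.node 1 (.leaf 737) (.node 1 (.leaf 615) (.leaf 760))) (.node 1 (.leaf 1287) (.node 1 (.leaf 1258) (.leaf 689))))
(.node 3 (.node 1 (.leaf 1403) (.node 1 (.leaf 294) (.leaf 496))) (.node 1 (.leaf 1455) (.node 1 (.leaf 287) (.leaf 1285))))))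
(.node 12 (.node 6 (.node 3 (.node 1 (.leaf 70) (.node 1 (.leaf 7) (.leaf 491))) (.node 1 (.leaf 115) (.node 1 (.leaf 1076) (.leaf 1121))))
(.node 3 (.node 1 (.leaf 1250) (.node 1 (.leaf 614) (.leaf 674))) (.node 1 (.leaf 83) (.node 1 (.leaf 1490) (.leaf 639)))))
(.node 6 (.node 3 (.node 1 (.leaf 895) (.node 1 (.leaf 1338) (.leaf 587))) (.node 1 (.leaf 860) (.node 1 (.leaf 949) (.leaf 591))))
(.node 3 (.node 1 (.leaf 125) (.node 1 (.leaf 682) (.leaf 1266))) (.node 1 (.leaf 193) (.node 1 (.leaf 1210) (.leaf 1316))))))))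
(.node 48 (.node 24 (.node 12 (.node 6 (.node 3 (.node 1 (.leaf 64) (.node 1 (.leaf 526) (.leaf 836))) (.node 1 (.leaf 24) (.node 1 (.leaf 649) (.leaf 408))))
(.node 3 (.node 1 (.leaf 213) (.node 1 (.leaf 575) (.leaf 477))) (.node 1 (.leaf 589) (.node 1 (.leaf 1269) (.leaf 1241)))))
(.node 6 (.node 3 (.node 1 (.leaf 1438) (.node 1 (.leaf 1380) (.leaf 1256))) (.node 1 (.leaf 1071) (.node 1 (.leaf 471) (.leaf 1434))))
(.node 3 (.node 1 (.leaf 1122) (.node 1 (.leaf 799) (.leaf 1036))) (.node 1 (.leaf 1421) (.node 1 (.leaf 1354) (.leaf 1379))))))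
(.node 12 (.node 6 (.node 3 (.node 1 (.leaf 157) (.node 1 (.leaf 1508) (.leaf 457))) (.node 1 (.leaf 325) (.node 1 (.leaf 1302) (.leaf 1134))))
(.node 3 (.node 1 (.leaf 63) (.node 1 (.leaf 627) (.leaf 578))) (.node 1 (.leaf 174) (.node 1 (.leaf 1252) (.leaf 416)))))
(.node 6 (.node 3 (.node 1 (.leaf 106) (.node 1 (.leaf 283) (.leaf 633))) (.node 1 (.leaf 217) (.node 1 (.leaf 14) (.leaf 745))))
(.node 3 (.node 1 (.leaf 592) (.node 1 (.leaf 1174) (.leaf 1100))) (.node 1 (.leaf 21) (.node 1 (.leaf 919) (.leaf 91)))))))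
(.node 24 (.node 12 (.node 6 (.node 3 (.node 1 (.leaf 483) (.node 1 (.leaf 607) (.leaf 437))) (.node 1 (.leaf 1523) (.node 1 (.leaf 1196) (.leaf 915))))
(.node 3 (.node 1 (.leaf 516) (.node 1 (.leaf 1308) (.leaf 808))) (.node 1 (.leaf 826) (.node 1 (.leaf 1385) (.leaf 554)))))
(.node 6 (.node 3 (.node 1 (.leaf 620) (.node 1 (.leaf 3) (.leaf 806))) (.node 1 (.leaf 948) (.node 1 (.leaf 1296) (.leaf 1037))))
(.node 3 (.node 1 (.leaf 1074) (.node 1 (.leaf 807) (.leaf 1386))) (.node 1 (.leaf 852) (.node 1 (.leaf 834) (.leaf 1223))))))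
(.node 12 (.node 6 (.node 3 (.node 1 (.leaf 523) (.node 1 (.leaf 628) (.leaf 1344))) (.node 1 (.leaf 635) (.node 1 (.leaf 928) (.leaf 121))))
(.node 3 (.node 1 (.leaf 1085) (.node 1 (.leaf 658) (.leaf 1342))) (.node 1 (.leaf 583) (.node 1 (.leaf 749) (.leaf 458)))))
(.node 6 (.node 3 (.node 1 (.leaf 18) (.node 1 (.leaf 971) (.leaf 97))) (.node 1 (.leaf 520) (.node 1 (.leaf 1384) (.leaf 296))))
(.node 3 (.node 1 (.leaf 421) (.node 1 (.leaf 252) (.leaf 970))) (.node 1 (.leaf 547) (.node 1 (.leaf 610) (.leaf 1362))))))))))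

/-- The inverse action. -/
def caseCFullInv1RR : Tab ℕ :=
(.node 192 (.node 96 (.node 48 (.node 24 (.node 12 (.node 6 (.node 3 (.node 1 (.leaf 746) (.node 1 (.leaf 601) (.leaf 489))) (.node 1 (.leaf 461) (.node 1 (.leaf 68) (.leaf 467))))
(.node 3 (.node 1 (.leaf 1263) (.node 1 (.leaf 647) (.leaf 922))) (.node 1 (.leaf 394) (.node 1 (.leaf 164) (.leaf 618)))))
(.node 6 (.node 3 (.node 1 (.leaf 911) (.node 1 (.leaf 725) (.leaf 1246))) (.node 1 (.leaf 243) (.node 1 (.leaf 753) (.leaf 498))))
(.node 3 (.node 1 (.leaf 982) (.node 1 (.leaf 675) (.leaf 1187))) (.node 1 (.leaf 450) (.node 1 (.leaf 1099) (.leaf 409))))))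
(.node 12 (.node 6 (.node 3 (.node 1 (.leaf 853) (.node 1 (.leaf 348) (.leaf 1206))) (.node 1 (.leaf 54) (.node 1 (.leaf 1324) (.leaf 189))))
(.node 3 (.node 1 (.leaf 795) (.node 1 (.leaf 662) (.leaf 811))) (.node 1 (.leaf 55) (.node 1 (.leaf 1186) (.leaf 1172)))))
(.node 6 (.node 3 (.node 1 (.leaf 216) (.node 1 (.leaf 978) (.leaf 1015))) (.node 1 (.leaf 379) (.node 1 (.leaf 985) (.leaf 1447))))
(.node 3 (.node 1 (.leaf 112) (.node 1 (.leaf 439) (.leaf 1108))) (.node 1 (.leaf 119) (.node 1 (.leaf 335) (.leaf 877)))))))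
(.node 24 (.node 12 (.node 6 (.node 3 (.node 1 (.leaf 768) (.node 1 (.leaf 586) (.leaf 855))) (.node 1 (.leaf 851) (.node 1 (.leaf 1233) (.leaf 165))))
(.node 3 (.node 1 (.leaf 1178) (.node 1 (.leaf 1291) (.leaf 1317))) (.node 1 (.leaf 404) (.node 1 (.leaf 1054) (.leaf 1313)))))
(.node 6 (.node 3 (.node 1 (.leaf 1398) (.node 1 (.leaf 850) (.leaf 41))) (.node 1 (.leaf 1272) (.node 1 (.leaf 423) (.leaf 865))))
(.node 3 (.node 1 (.leaf 925) (.node 1 (.leaf 903) (.leaf 1226))) (.node 1 (.leaf 23) (.node 1 (.leaf 859) (.leaf 1127))))))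
(.node 12 (.node 6 (.node 3 (.node 1 (.leaf 1402) (.node 1 (.leaf 481) (.leaf 1220))) (.node 1 (.leaf 946) (.node 1 (.leaf 86) (.leaf 1479))))
(.node 3 (.node 1 (.leaf 509) (.node 1 (.leaf 1231) (.leaf 200))) (.node 1 (.leaf 1204) (.node 1 (.leaf 637) (.leaf 131)))))
(.node 6 (.node 3 (.node 1 (.leaf 740) (.node 1 (.leaf 456) (.leaf 139))) (.node 1 (.leaf 883) (.node 1 (.leaf 681) (.leaf 1067))))
(.node 3 (.node 1 (.leaf 704) (.node 1 (.leaf 142) (.leaf 888))) (.node 1 (.leaf 1276) (.node 1 (.leaf 1166) (.leaf 900))))))))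
(.node 48 (.node 24 (.node 12 (.node 6 (.node 3 (.node 1 (.leaf 522) (.node 1 (.leaf 624) (.leaf 1038))) (.node 1 (.leaf 896) (.node 1 (.leaf 1090) (.leaf 140))))
(.node 3 (.node 1 (.leaf 499) (.node 1 (.leaf 269) (.leaf 1070))) (.node 1 (.leaf 1485) (.node 1 (.leaf 1024) (.leaf 1411)))))
(.node 6 (.node 3 (.node 1 (.leaf 56) (.node 1 (.leaf 831) (.leaf 1497))) (.node 1 (.leaf 1158) (.node 1 (.leaf 755) (.leaf 835))))
(.node 3 (.node 1 (.leaf 1052) (.node 1 (.leaf 95) (.leaf 533))) (.node 1 (.leaf 1066) (.node 1 (.leaf 1464) (.leaf 281))))))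
(.node 12 (.node 6 (.node 3 (.node 1 (.leaf 1215) (.node 1 (.leaf 1374) (.leaf 1427))) (.node 1 (.leaf 1008) (.node 1 (.leaf 1245) (.leaf 1277))))
(.node 3 (.node 1 (.leaf 374) (.node 1 (.leaf 1019) (.leaf 1480))) (.node 1 (.leaf 1514) (.node 1 (.leaf 1013) (.leaf 412)))))
(.node 6 (.node 3 (.node 1 (.leaf 785) (.node 1 (.leaf 1031) (.leaf 1286))) (.node 1 (.leaf 1023) (.node 1 (.leaf 321) (.leaf 72))))
(.node 3 (.node 1 (.leaf 1483) (.node 1 (.leaf 1207) (.leaf 944))) (.node 1 (.leaf 1368) (.node 1 (.leaf 804) (.leaf 38)))))))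
(.node 24 (.node 12 (.node 6 (.node 3 (.node 1 (.leaf 1120) (.node 1 (.leaf 1484) (.leaf 1395))) (.node 1 (.leaf 176) (.node 1 (.leaf 690) (.leaf 989))))
(.node 3 (.node 1 (.leaf 1084) (.node 1 (.leaf 545) (.leaf 362))) (.node 1 (.leaf 566) (.node 1 (.leaf 275) (.leaf 120)))))
(.node 6 (.node 3 (.node 1 (.leaf 1111) (.node 1 (.leaf 848) (.leaf 997))) (.node 1 (.leaf 930) (.node 1 (.leaf 299) (.leaf 1211))))
(.node 3 (.node 1 (.leaf 976) (.node 1 (.leaf 1488) (.leaf 1055))) (.node 1 (.leaf 1208) (.node 1 (.leaf 759) (.leaf 593))))))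
(.node 12 (.node 6 (.node 3 (.node 1 (.leaf 953) (.node 1 (.leaf 6) (.leaf 427))) (.node 1 (.leaf 765) (.node 1 (.leaf 1180) (.leaf 40))))
(.node 3 (.node 1 (.leaf 668) (.node 1 (.leaf 47) (.leaf 311))) (.node 1 (.leaf 777) (.node 1 (.leaf 259) (.leaf 1529)))))
(.node 6 (.node 3 (.node 1 (.leaf 840) (.node 1 (.leaf 664) (.leaf 546))) (.node 1 (.leaf 1478) (.node 1 (.leaf 175) (.leaf 519))))
(.node 3 (.node 1 (.leaf 1045) (.node 1 (.leaf 1512) (.leaf 563))) (.node 1 (.leaf 358) (.node 1 (.leaf 1136) (.leaf 657)))))))))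
(.node 96 (.node 48 (.node 24 (.node 12 (.node 6 (.node 3 (.node 1 (.leaf 1130) (.node 1 (.leaf 784) (.leaf 286))) (.node 1 (.leaf 10) (.node 1 (.leaf 1364) (.leaf 255))))
(.node 3 (.node 1 (.leaf 531) (.node 1 (.leaf 998) (.leaf 677))) (.node 1 (.leaf 691) (.node 1 (.leaf 1078) (.leaf 564)))))
(.node 6 (.node 3 (.node 1 (.leaf 15) (.node 1 (.leaf 454) (.leaf 984))) (.node 1 (.leaf 660) (.node 1 (.leaf 557) (.leaf 31))))
(.node 3 (.node 1 (.leaf 1151) (.node 1 (.leaf 137) (.leaf 1348))) (.node 1 (.leaf 597) (.node 1 (.leaf 33) (.leaf 445))))))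
(.node 12 (.node 6 (.node 3 (.node 1 (.leaf 1293) (.node 1 (.leaf 1515) (.leaf 820))) (.node 1 (.leaf 1412) (.node 1 (.leaf 282) (.leaf 353))))
(.node 3 (.node 1 (.leaf 1273) (.node 1 (.leaf 958) (.leaf 525))) (.node 1 (.leaf 560) (.node 1 (.leaf 535) (.leaf 1079)))))
(.node 6 (.node 3 (.node 1 (.leaf 1069) (.node 1 (.leaf 382) (.leaf 917))) (.node 1 (.leaf 1528) (.node 1 (.leaf 1144) (.leaf 1114))))
(.node 3 (.node 1 (.leaf 1124) (.node 1 (.leaf 508) (.leaf 187))) (.node 1 (.leaf 954) (.node 1 (.leaf 983) (.leaf 128)))))))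
(.node 24 (.node 12 (.node 6 (.node 3 (.node 1 (.leaf 857) (.node 1 (.leaf 284) (.leaf 1009))) (.node 1 (.leaf 1298) (.node 1 (.leaf 598) (.leaf 51))))
(.node 3 (.node 1 (.leaf 1212) (.node 1 (.leaf 829) (.leaf 1482))) (.node 1 (.leaf 490) (.node 1 (.leaf 1224) (.leaf 1026)))))
(.node 6 (.node 3 (.node 1 (.leaf 684) (.node 1 (.leaf 465) (.leaf 242))) (.node 1 (.leaf 818) (.node 1 (.leaf 711) (.leaf 309))))
(.node 3 (.node 1 (.leaf 511) (.node 1 (.leaf 1259) (.leaf 1371))) (.node 1 (.leaf 34) (.node 1 (.leaf 703) (.leaf 1424))))))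
(.node 12 (.node 6 (.node 3 (.node 1 (.leaf 88) (.node 1 (.leaf 184) (.leaf 1501))) (.node 1 (.leaf 1481) (.node 1 (.leaf 798) (.leaf 1077))))
(.node 3 (.node 1 (.leaf 912) (.node 1 (.leaf 775) (.leaf 1415))) (.node 1 (.leaf 847) (.node 1 (.leaf 1457) (.leaf 1274)))))
(.node 6 (.node 3 (.node 1 (.leaf 96) (.node 1 (.leaf 1429) (.leaf 1520))) (.node 1 (.leaf 950) (.node 1 (.leaf 228) (.leaf 278))))
(.node 3 (.node 1 (.leaf 1073) (.node 1 (.leaf 715) (.leaf 604))) (.node 1 (.leaf 69) (.node 1 (.leaf 1068) (.leaf 864))))))))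
(.node 48 (.node 24 (.node 12 (.node 6 (.node 3 (.node 1 (.leaf 1499) (.node 1 (.leaf 378) (.leaf 261))) (.node 1 (.leaf 227) (.node 1 (.leaf 290) (.leaf 339))))
(.node 3 (.node 1 (.leaf 872) (.node 1 (.leaf 1193) (.leaf 979))) (.node 1 (.leaf 626) (.node 1 (.leaf 80) (.leaf 999)))))
(.node 6 (.node 3 (.node 1 (.leaf 35) (.node 1 (.leaf 468) (.leaf 1516))) (.node 1 (.leaf 1029) (.node 1 (.leaf 940) (.leaf 1426))))
(.node 3 (.node 1 (.leaf 719) (.node 1 (.leaf 433) (.leaf 44))) (.node 1 (.leaf 693) (.node 1 (.leaf 320) (.leaf 1486))))))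
(.node 12 (.node 6 (.node 3 (.node 1 (.leaf 1270) (.node 1 (.leaf 218) (.leaf 582))) (.node 1 (.leaf 179) (.node 1 (.leaf 878) (.leaf 1001))))
(.node 3 (.node 1 (.leaf 52) (.node 1 (.leaf 863) (.leaf 399))) (.node 1 (.leaf 937) (.node 1 (.leaf 584) (.leaf 78)))))
(.node 6 (.node 3 (.node 1 (.leaf 771) (.node 1 (.leaf 340) (.leaf 1335))) (.node 1 (.leaf 1229) (.node 1 (.leaf 1280) (.leaf 1419))))
(.node 3 (.node 1 (.leaf 1400) (.node 1 (.leaf 1290) (.leaf 1297))) (.node 1 (.leaf 1257) (.node 1 (.leaf 1463) (.leaf 375)))))))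
(.node 24 (.node 12 (.node 6 (.node 3 (.node 1 (.leaf 1315) (.node 1 (.leaf 869) (.leaf 1042))) (.node 1 (.leaf 249) (.node 1 (.leaf 20) (.leaf 27))))
(.node 3 (.node 1 (.leaf 170) (.node 1 (.leaf 1507) (.leaf 570))) (.node 1 (.leaf 1262) (.node 1 (.leaf 79) (.leaf 1440)))))
(.node 6 (.node 3 (.node 1 (.leaf 410) (.node 1 (.leaf 1418) (.leaf 680))) (.node 1 (.leaf 371) (.node 1 (.leaf 166) (.leaf 263))))
(.node 3 (.node 1 (.leaf 361) (.node 1 (.leaf 1495) (.leaf 1081))) (.node 1 (.leaf 1518) (.node 1 (.leaf 214) (.leaf 893))))))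
(.node 12 (.node 6 (.node 3 (.node 1 (.leaf 1339) (.node 1 (.leaf 645) (.leaf 1281))) (.node 1 (.leaf 1369) (.node 1 (.leaf 1454) (.leaf 138))))
(.node 3 (.node 1 (.leaf 1509) (.node 1 (.leaf 388) (.leaf 1430))) (.node 1 (.leaf 1533) (.node 1 (.leaf 462) (.leaf 1107)))))
(.node 6 (.node 3 (.node 1 (.leaf 1017) (.node 1 (.leaf 634) (.leaf 60))) (.node 1 (.leaf 1527) (.node 1 (.leaf 1383) (.leaf 1331))))
(.node 3 (.node 1 (.leaf 763) (.node 1 (.leaf 809) (.leaf 103))) (.node 1 (.leaf 1521) (.node 1 (.leaf 197) (.leaf 551))))))))))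

/-- The inverse action. -/
def caseCFullInv1R : Tab ℕ := .node 384 caseCFullInv1RL caseCFullInv1RR

/-- The inverse action. -/
def caseCFullInv1 : Tab ℕ := .node 768 caseCFullInv1L caseCFullInv1R

/-- The bound. -/
def caseCFullBound : BoundD := ⟨[caseCFullN0Node, caseCFullN1Node, caseCFullN4Node, caseCFullN7Node,
  caseCFullN13Node, caseCFullN16Node, caseCFullN21Node, caseCFullN22Node,
  caseCFullN28Node, caseCFullN31Node, caseCFullN34Node, caseCFullN39Node,
  caseCFullN50Node, caseCFullN53Node, caseCFullN57Node, caseCFullN62Node,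
  caseCFullN71Node, caseCFullN86Node, caseCFullN92Node, caseCFullN99Node,
  caseCFullN105Node, caseCFullN113Node, caseCFullN123Node, caseCFullN126Node,
  caseCFullN129Node, caseCFullN134Node, caseCFullN144Node, caseCFullN145Node,
  caseCFullN188Node, caseCFullN217Node, caseCFullN229Node, caseCFullN280Node,
  caseCFullN374Node, caseCFullN579Node], fun b => bif b then caseCFullInv1 else caseCFullInv0, 187425⟩

end Cfsg.Lib.HeldType
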