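import Cfsg.Agent.HeldType.TrivialC
import Cfsg.Agent.HeldType.FullC

/-!
The checks of one case.
-/

set_option autoImplicit false
set_option maxRecDepth 100000

namespace Cfsg.Lib.HeldType

theorem caseCLoc0_ok : caseCLoc0Cert.ok caseCPars caseCCube = true := by decide +kernel

theorem caseCLoc1_ok : caseCLoc1Cert.ok caseCPars caseCCube = true := by decide +kernel

theorem caseCTrivial_defs : caseCTrivial.okDefs = true := by decide +kernel

theorem caseCTrivial_facts0 : allR (caseCTrivial.okAt caseCPars) 0 90 = true := by decide +kernel

theorem caseCTrivial_facts (k : ℕ) (hk : k < 90) : caseCTrivial.okAt caseCPars k = true := by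
  exact allR_sound _ _ _ caseCTrivial_facts0 k (by omega) (by omega)

theorem caseCFull_defs : caseCFull.okDefs = true := by decide +kernel

theorem caseCFull_facts0 : allR (caseCFull.okAt caseCPars) 0 500 = true := by decide +kernel

theorem caseCFull_facts500 : allR (caseCFull.okAt caseCPars) 500 500 = true := by decide +kernel

theorem caseCFull_facts1000 : allR (caseCFull.okAt caseCPars) 1000 500 = true := by decide +kernel

theorem caseCFull_facts1500 : allR (caseCFull.okAt caseCPars) 1500 500 = true := by decide +kernel

theorem caseCFull_facts2000 : allR (caseCFull.okAt caseCPars) 2000 500 = true := by decide +kernel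

theorem caseCFull_facts2500 : allR (caseCFull.okAt caseCPars) 2500 500 = true := by decide +kernel

theorem caseCFull_facts3000 : allR (caseCFull.okAt caseCPars) 3000 500 = true := by decide +kernel

theorem caseCFull_facts3500 : allR (caseCFull.okAt caseCPars) 3500 500 = true := by decide +kernel

theorem caseCFull_facts4000 : allR (caseCFull.okAt caseCPars) 4000 500 = true := by decide +kernel

theorem caseCFull_facts4500 : allR (caseCFull.okAt caseCPars) 4500 500 = true := by decide +kernel

theorem caseCFull_facts5000 : allR (caseCFull.okAt caseCPars) 5000 500 = true := by decide +kernel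

theorem caseCFull_facts5500 : allR (caseCFull.okAt caseCPars) 5500 500 = true := by decide +kernel

theorem caseCFull_facts6000 : allR (caseCFull.okAt caseCPars) 6000 500 = true := by decide +kernel

theorem caseCFull_facts6500 : allR (caseCFull.okAt caseCPars) 6500 500 = true := by decide +kernel

theorem caseCFull_facts7000 : allR (caseCFull.okAt caseCPars) 7000 500 = true := by decide +kernel

theorem caseCFull_facts7500 : allR (caseCFull.okAt caseCPars) 7500 315 = true := by decide +kernel

theorem caseCFull_facts (k : ℕ) (hk : k < 7815) : caseCFull.okAt caseCPars k = true := by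
  by_cases h0 : k < 500
  · exact allR_sound _ _ _ caseCFull_facts0 k (by omega) (by omega)
  by_cases h500 : k < 1000
  · exact allR_sound _ _ _ caseCFull_facts500 k (by omega) (by omega)
  by_cases h1000 : k < 1500
  · exact allR_sound _ _ _ caseCFull_facts1000 k (by omega) (by omega)
  by_cases h1500 : k < 2000
  · exact allR_sound _ _ _ caseCFull_facts1500 k (by omega) (by omega)
  by_cases h2000 : k < 2500
  · exact allR_sound _ _ _ caseCFull_facts2000 k (by omega) (by omega)
  by_cases h2500 : k < 3000
  · exact allR_sound _ _ _ caseCFull_facts2500 k (by omega) (by omega)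
  by_cases h3000 : k < 3500
  · exact allR_sound _ _ _ caseCFull_facts3000 k (by omega) (by omega)
  by_cases h3500 : k < 4000
  · exact allR_sound _ _ _ caseCFull_facts3500 k (by omega) (by omega)
  by_cases h4000 : k < 4500
  · exact allR_sound _ _ _ caseCFull_facts4000 k (by omega) (by omega)
  by_cases h4500 : k < 5000
  · exact allR_sound _ _ _ caseCFull_facts4500 k (by omega) (by omega)
  by_cases h5000 : k < 5500
  · exact allR_sound _ _ _ caseCFull_facts5000 k (by omega) (by omega)
  by_cases h5500 : k < 6000
  · exact allR_sound _ _ _ caseCFull_facts5500 k (by omega) (by omega)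
  by_cases h6000 : k < 6500
  · exact allR_sound _ _ _ caseCFull_facts6000 k (by omega) (by omega)
  by_cases h6500 : k < 7000
  · exact allR_sound _ _ _ caseCFull_facts6500 k (by omega) (by omega)
  by_cases h7000 : k < 7500
  · exact allR_sound _ _ _ caseCFull_facts7000 k (by omega) (by omega)
  exact allR_sound _ _ _ caseCFull_facts7500 k (by omega) (by omega)

theorem caseCFull_bound : caseCFullBound.ok caseCFull caseCPars = true := by decide +kernel

end Cfsg.Lib.HeldType
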