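import Cfsg.Agent.HeldType.LocalD

/-!
An enumeration of double cosets.
-/

set_option autoImplicit false
set_option maxRecDepth 100000

namespace Cfsg.Lib.HeldType

/-- The facts. -/
def caseDFullFactsLLLLL : Tab Fct :=
(.node 69 (.node 34 (.node 17 (.node 8 (.node 4 (.node 2 (.node 1 (.leaf ⟨0, 17043521, none, 0, 32125001⟩) (.leaf ⟨0, 17043521, none, 0, 10971209⟩)) (.node 1 (.leaf ⟨0, 29904967, (some false), 1, 17043521⟩) (.leaf ⟨1, 17043521, (some false), 0, 13113429⟩)))
(.node 2 (.node 1 (.leaf ⟨0, 27529303, (some false), 1, 17043521⟩) (.leaf ⟨0, 23928925, (some false), 1, 17715287⟩)) (.node 1 (.leaf ⟨0, 7292999, (some false), 1, 17715287⟩) (.leaf ⟨0, 9056345, (some false), 1, 17715287⟩))))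
(.node 4 (.node 2 (.node 1 (.leaf ⟨0, 19085399, (some false), 1, 17061981⟩) (.leaf ⟨0, 10971209, (some false), 1, 17043521⟩)) (.node 1 (.leaf ⟨0, 13310023, (some false), 1, 17043521⟩) (.leaf ⟨0, 31801425, (some false), 1, 17043521⟩)))
(.node 2 (.node 1 (.leaf ⟨0, 6776923, (some false), 1, 17043521⟩) (.leaf ⟨0, 17043521, (some false), 1, 17766471⟩)) (.node 1 (.leaf ⟨0, 32125001, (some false), 1, 17766471⟩) (.node 1 (.leaf ⟨0, 4808797, (some false), 1, 17766471⟩) (.leaf ⟨0, 13510735, (some false), 1, 17766471⟩))))))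
(.node 8 (.node 4 (.node 2 (.node 1 (.leaf ⟨1, 17641559, none, 1, 17043521⟩) (.leaf ⟨1, 17256527, none, 1, 17043521⟩)) (.node 1 (.leaf ⟨1, 17043521, none, 1, 17061981⟩) (.leaf ⟨1, 17043521, none, 1, 17780809⟩)))
(.node 2 (.node 1 (.leaf ⟨1, 17043521, none, 1, 17659981⟩) (.leaf ⟨1, 19085399, (some false), 2, 17043521⟩)) (.node 1 (.leaf ⟨2, 19085399, (some false), 3, 17043521⟩) (.leaf ⟨3, 17043521, (some false), 2, 19560517⟩))))
(.node 4 (.node 2 (.node 1 (.leaf ⟨0, 27809875, none, 3, 19746891⟩) (.leaf ⟨3, 17043521, none, 0, 8984651⟩)) (.node 1 (.leaf ⟨2, 19877955, none, 1, 17766471⟩) (.leaf ⟨2, 17043521, none, 1, 19157079⟩)))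
(.node 2 (.node 1 (.leaf ⟨0, 25385043, (some true), 4, 17043521⟩) (.leaf ⟨4, 17043521, (some true), 0, 25892931⟩)) (.node 1 (.leaf ⟨0, 11495495, (some true), 4, 8943689⟩) (.node 1 (.leaf ⟨0, 4544593, (some true), 4, 9187411⟩) (.leaf ⟨0, 17043521, (some true), 4, 17043521⟩)))))))
(.node 17 (.node 8 (.node 4 (.node 2 (.node 1 (.leaf ⟨0, 32125001, (some true), 4, 17043521⟩) (.leaf ⟨0, 4808797, (some true), 4, 17043521⟩)) (.node 1 (.leaf ⟨0, 13510735, (some true), 4, 17043521⟩) (.leaf ⟨0, 32131155, (some true), 4, 17043521⟩)))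
(.node 2 (.node 1 (.leaf ⟨0, 19085399, (some true), 4, 8992835⟩) (.leaf ⟨0, 10971209, (some true), 4, 27875395⟩)) (.node 1 (.leaf ⟨0, 29904967, (some true), 4, 27875395⟩) (.leaf ⟨0, 17059919, (some true), 4, 27603019⟩))))
(.node 4 (.node 2 (.node 1 (.leaf ⟨0, 13310023, (some true), 4, 11014217⟩) (.leaf ⟨0, 31801425, (some true), 4, 11014217⟩)) (.node 1 (.leaf ⟨4, 27547723, none, 4, 17043521⟩) (.leaf ⟨4, 25514065, none, 4, 17043521⟩)))
(.node 2 (.node 1 (.leaf ⟨4, 19691593, none, 4, 27875395⟩) (.leaf ⟨4, 17043521, none, 4, 11040857⟩)) (.node 1 (.leaf ⟨4, 17043521, none, 4, 27621467⟩) (.node 1 (.leaf ⟨4, 17043521, none, 4, 27553867⟩) (.leaf ⟨4, 17059919, (some true), 5, 17043521⟩))))))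
(.node 9 (.node 4 (.node 2 (.node 1 (.leaf ⟨5, 17059919, (some true), 6, 17043521⟩) (.leaf ⟨6, 17043521, (some true), 5, 17043535⟩)) (.node 1 (.leaf ⟨0, 11417675, none, 6, 19165263⟩) (.leaf ⟨6, 17043521, none, 0, 10637407⟩)))
(.node 2 (.node 1 (.leaf ⟨5, 27553887, none, 4, 8992835⟩) (.leaf ⟨5, 17043521, none, 4, 9203781⟩)) (.node 1 (.leaf ⟨4, 27529303, (some false), 7, 17043521⟩) (.node 1 (.leaf ⟨7, 17043521, (some false), 4, 25516101⟩) (.leaf ⟨4, 13510735, (some false), 7, 17461335⟩)))))
(.node 4 (.node 2 (.node 1 (.leaf ⟨4, 19085399, (some false), 7, 17702989⟩) (.leaf ⟨4, 4808797, (some false), 7, 17244231⟩)) (.node 1 (.leaf ⟨4, 17043521, (some false), 7, 17043543⟩) (.leaf ⟨4, 29904967, (some false), 7, 17463361⟩)))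
(.node 2 (.node 1 (.leaf ⟨7, 17191001, none, 7, 17463361⟩) (.leaf ⟨7, 17190983, none, 7, 17461335⟩)) (.node 1 (.leaf ⟨7, 17045575, none, 7, 17043543⟩) (.node 1 (.leaf ⟨7, 17633371, none, 7, 17043543⟩) (.leaf ⟨7, 17043521, none, 7, 17633375⟩))))))))
(.node 34 (.node 17 (.node 8 (.node 4 (.node 2 (.node 1 (.leaf ⟨7, 17043521, none, 7, 17045585⟩) (.leaf ⟨7, 17043521, none, 7, 16932945⟩)) (.node 1 (.leaf ⟨7, 17043521, none, 7, 16934989⟩) (.leaf ⟨7, 25385043, (some true), 8, 17043521⟩)))
(.node 2 (.node 1 (.leaf ⟨8, 4808797, (some false), 9, 17043521⟩) (.leaf ⟨9, 17043521, (some false), 8, 23685197⟩)) (.node 1 (.leaf ⟨9, 10971209, (some true), 10, 17043521⟩) (.leaf ⟨10, 17043521, (some true), 9, 11495513⟩))))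
(.node 4 (.node 2 (.node 1 (.leaf ⟨0, 10702917, none, 10, 11368517⟩) (.leaf ⟨10, 17043521, none, 0, 17256513⟩)) (.node 1 (.leaf ⟨9, 19357785, none, 4, 17043521⟩) (.leaf ⟨9, 17043521, none, 4, 19624005⟩)))
(.node 2 (.node 1 (.leaf ⟨8, 21569613, none, 7, 17702989⟩) (.leaf ⟨8, 17043521, none, 7, 11145281⟩)) (.node 1 (.leaf ⟨7, 19085399, (some false), 11, 17043521⟩) (.node 1 (.leaf ⟨11, 19085399, (some false), 12, 17043521⟩) (.leaf ⟨12, 17043521, (some false), 11, 19560517⟩))))))
(.node 8 (.node 4 (.node 2 (.node 1 (.leaf ⟨12, 19085399, (some true), 13, 17043521⟩) (.leaf ⟨13, 17043521, (some true), 12, 19626071⟩)) (.node 1 (.leaf ⟨0, 30232649, none, 13, 17594457⟩) (.leaf ⟨13, 17043521, none, 0, 6649937⟩)))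
(.node 2 (.node 1 (.leaf ⟨12, 11212877, none, 4, 9187411⟩) (.leaf ⟨12, 17043521, none, 4, 19877979⟩)) (.node 1 (.leaf ⟨11, 19689537, none, 7, 17702989⟩) (.leaf ⟨11, 17043521, none, 7, 19032151⟩))))
(.node 4 (.node 2 (.node 1 (.leaf ⟨7, 6776923, (some false), 14, 17043521⟩) (.leaf ⟨14, 17043521, (some false), 7, 21979225⟩)) (.node 1 (.leaf ⟨7, 13310023, (some false), 14, 17705027⟩) (.leaf ⟨7, 23928925, (some false), 14, 17045571⟩)))
(.node 2 (.node 1 (.leaf ⟨7, 9056345, (some false), 14, 16939079⟩) (.leaf ⟨14, 17135687, none, 14, 16939079⟩)) (.node 1 (.leaf ⟨14, 17659973, none, 14, 16939079⟩) (.node 1 (.leaf ⟨14, 17764421, none, 14, 17043521⟩) (.leaf ⟨14, 17528921, none, 14, 16939079⟩)))))))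
(.node 17 (.node 8 (.node 4 (.node 2 (.node 1 (.leaf ⟨14, 17111107, none, 14, 17045571⟩) (.leaf ⟨14, 17180763, none, 14, 17705027⟩)) (.node 1 (.leaf ⟨14, 17043521, none, 14, 17567831⟩) (.leaf ⟨14, 17043521, none, 14, 17109057⟩)))
(.node 2 (.node 1 (.leaf ⟨14, 17043521, none, 14, 17633349⟩) (.leaf ⟨14, 17043521, none, 14, 17764421⟩)) (.node 1 (.leaf ⟨14, 17043521, none, 14, 17174595⟩) (.leaf ⟨14, 17043521, none, 14, 17698881⟩))))
(.node 4 (.node 2 (.node 1 (.leaf ⟨14, 10971209, (some false), 15, 17043521⟩) (.leaf ⟨15, 17043521, (some false), 14, 9396299⟩)) (.node 1 (.leaf ⟨15, 13310023, (some false), 16, 17043521⟩) (.leaf ⟨16, 17043521, (some false), 15, 29511765⟩)))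
(.node 2 (.node 1 (.leaf ⟨0, 32325697, none, 16, 27809873⟩) (.leaf ⟨16, 17043521, none, 0, 31989833⟩)) (.node 1 (.leaf ⟨15, 6781023, none, 1, 17043521⟩) (.node 1 (.leaf ⟨15, 17043521, none, 1, 13387845⟩) (.leaf ⟨1, 7292999, (some false), 14, 21237837⟩))))))
(.node 9 (.node 4 (.node 2 (.node 1 (.leaf ⟨1, 10971209, (some false), 14, 32258131⟩) (.leaf ⟨1, 31801425, (some false), 14, 9396311⟩)) (.node 1 (.leaf ⟨1, 32125001, (some false), 14, 9068639⟩) (.leaf ⟨1, 6776923, (some false), 14, 7297095⟩)))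
(.node 2 (.node 1 (.leaf ⟨1, 13310023, (some false), 14, 9396307⟩) (.leaf ⟨1, 27529303, (some false), 14, 15431767⟩)) (.node 1 (.leaf ⟨1, 9056345, (some false), 14, 15431745⟩) (.node 1 (.leaf ⟨1, 23928925, (some false), 14, 24057935⟩) (.leaf ⟨1, 13510735, (some false), 14, 27994197⟩)))))
(.node 4 (.node 2 (.node 1 (.leaf ⟨1, 4808797, (some false), 14, 5066847⟩) (.leaf ⟨1, 29904967, (some false), 14, 10643529⟩)) (.node 1 (.leaf ⟨14, 29634629, none, 14, 15431745⟩) (.leaf ⟨14, 17043521, none, 14, 7161933⟩)))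
(.node 2 (.node 1 (.leaf ⟨14, 7292999, (some false), 7, 7090245⟩) (.leaf ⟨14, 32125001, (some false), 17, 17043521⟩)) (.node 1 (.leaf ⟨17, 19085399, (some false), 18, 17043521⟩) (.node 1 (.leaf ⟨18, 17043521, (some false), 17, 19560517⟩) (.leaf ⟨1, 29958213, none, 18, 19019855⟩)))))))))

/-- The facts. -/
def caseDFullFactsLLLLR : Tab Fct :=
(.node 69 (.node 34 (.node 17 (.node 8 (.node 4 (.node 2 (.node 1 (.leaf ⟨18, 17043521, none, 1, 21510221⟩) (.leaf ⟨17, 19214411, none, 14, 10643529⟩)) (.node 1 (.leaf ⟨17, 17043521, none, 14, 8874051⟩) (.leaf ⟨1, 32125001, (some true), 19, 17043521⟩)))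
(.node 2 (.node 1 (.leaf ⟨19, 17043521, (some true), 1, 14839897⟩) (.leaf ⟨1, 13510735, (some true), 19, 25458779⟩)) (.node 1 (.leaf ⟨1, 13310023, (some true), 19, 27873347⟩) (.leaf ⟨1, 32131155, (some true), 19, 19208257⟩))))
(.node 4 (.node 2 (.node 1 (.leaf ⟨1, 29904967, (some true), 19, 27881555⟩) (.leaf ⟨1, 4808797, (some true), 19, 8919113⟩)) (.node 1 (.leaf ⟨1, 4544593, (some true), 19, 19740761⟩) (.leaf ⟨1, 31801425, (some true), 19, 19730513⟩)))
(.node 2 (.node 1 (.leaf ⟨19, 8992835, none, 19, 19730513⟩) (.leaf ⟨19, 27791425, none, 19, 25458779⟩)) (.node 1 (.leaf ⟨19, 9007179, none, 19, 19740761⟩) (.node 1 (.leaf ⟨19, 17043521, none, 19, 9187401⟩) (.leaf ⟨19, 17043521, none, 19, 19746897⟩))))))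
(.node 8 (.node 4 (.node 2 (.node 1 (.leaf ⟨19, 17043521, none, 19, 9197641⟩) (.leaf ⟨19, 17059919, (some true), 20, 17043521⟩)) (.node 1 (.leaf ⟨20, 17059919, (some true), 21, 17043521⟩) (.leaf ⟨21, 17043521, (some true), 20, 17043535⟩)))
(.node 2 (.node 1 (.leaf ⟨1, 6715481, none, 21, 27807829⟩) (.leaf ⟨21, 17043521, none, 1, 15429719⟩)) (.node 1 (.leaf ⟨20, 27611229, none, 19, 27873347⟩) (.leaf ⟨20, 17043521, none, 19, 17633357⟩))))
(.node 4 (.node 2 (.node 1 (.leaf ⟨1, 19085399, (some true), 22, 17043521⟩) (.leaf ⟨22, 17043521, (some true), 1, 19626071⟩)) (.node 1 (.leaf ⟨1, 17043521, (some true), 22, 19683417⟩) (.leaf ⟨1, 17059919, (some true), 22, 19667035⟩)))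
(.node 2 (.node 1 (.leaf ⟨1, 25385043, (some true), 22, 8925267⟩) (.leaf ⟨1, 10971209, (some true), 22, 27859027⟩)) (.node 1 (.leaf ⟨1, 11495495, (some true), 22, 27553859⟩) (.node 1 (.leaf ⟨22, 19214401, none, 22, 19667035⟩) (.leaf ⟨22, 27619419, none, 22, 27553859⟩)))))))
(.node 17 (.node 8 (.node 4 (.node 2 (.node 1 (.leaf ⟨22, 17043521, none, 22, 17109075⟩) (.leaf ⟨22, 17043521, none, 22, 17576027⟩)) (.node 1 (.leaf ⟨19, 27529303, (some false), 25, 17043521⟩) (.leaf ⟨25, 17043521, (some false), 19, 25516101⟩)))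
(.node 2 (.node 1 (.leaf ⟨19, 4808797, (some false), 25, 17770567⟩) (.leaf ⟨19, 19085399, (some false), 25, 17592399⟩)) (.node 1 (.leaf ⟨19, 17043521, (some false), 25, 17522773⟩) (.leaf ⟨19, 13510735, (some false), 25, 16988231⟩))))
(.node 4 (.node 2 (.node 1 (.leaf ⟨19, 29904967, (some false), 25, 17510465⟩) (.leaf ⟨25, 17109057, none, 25, 17043521⟩)) (.node 1 (.leaf ⟨25, 17786971, none, 25, 17592399⟩) (.leaf ⟨25, 16986177, none, 25, 17510465⟩)))
(.node 2 (.node 1 (.leaf ⟨25, 17702981, none, 25, 17770567⟩) (.leaf ⟨25, 17043521, none, 25, 17111107⟩)) (.node 1 (.leaf ⟨25, 17043521, none, 25, 17567809⟩) (.node 1 (.leaf ⟨25, 17043521, none, 25, 16984157⟩) (.leaf ⟨25, 17043521, none, 25, 17109057⟩))))))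
(.node 9 (.node 4 (.node 2 (.node 1 (.leaf ⟨25, 25385043, (some true), 26, 17043521⟩) (.leaf ⟨26, 4808797, (some false), 27, 17043521⟩)) (.node 1 (.leaf ⟨27, 17043521, (some false), 26, 23685197⟩) (.leaf ⟨27, 10971209, (some true), 28, 17043521⟩)))
(.node 2 (.node 1 (.leaf ⟨28, 17043521, (some true), 27, 11495513⟩) (.leaf ⟨1, 21768259, none, 28, 27613253⟩)) (.node 1 (.leaf ⟨28, 17043521, none, 1, 6889565⟩) (.node 1 (.leaf ⟨27, 28190795, none, 19, 8919113⟩) (.leaf ⟨27, 17043521, none, 19, 6971459⟩)))))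
(.node 4 (.node 2 (.node 1 (.leaf ⟨26, 32055379, none, 25, 17043521⟩) (.leaf ⟨26, 17043521, none, 25, 10645577⟩)) (.node 1 (.leaf ⟨22, 29904967, (some false), 29, 17043521⟩) (.leaf ⟨22, 4808797, (some false), 29, 17461315⟩)))
(.node 2 (.node 1 (.leaf ⟨22, 27529303, (some false), 29, 17780819⟩) (.leaf ⟨22, 13510735, (some false), 29, 17592413⟩)) (.node 1 (.leaf ⟨29, 17043521, (some true), 30, 17043521⟩) (.node 1 (.leaf ⟨30, 17043521, (some false), 31, 17043521⟩) (.leaf ⟨31, 17043521, (some false), 30, 17127489⟩))))))))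
(.node 35 (.node 17 (.node 8 (.node 4 (.node 2 (.node 1 (.leaf ⟨31, 19085399, (some true), 32, 17043521⟩) (.leaf ⟨32, 17043521, (some true), 31, 19626071⟩)) (.node 1 (.leaf ⟨1, 9332825, none, 32, 19755087⟩) (.leaf ⟨32, 17043521, none, 1, 25305183⟩)))
(.node 2 (.node 1 (.leaf ⟨31, 19099727, none, 22, 27553859⟩) (.leaf ⟨31, 17043521, none, 22, 13504599⟩)) (.node 1 (.leaf ⟨30, 17576021, none, 29, 17592413⟩) (.leaf ⟨30, 17043521, none, 29, 17059929⟩))))
(.node 4 (.node 2 (.node 1 (.leaf ⟨29, 19085399, (some false), 33, 17043521⟩) (.leaf ⟨33, 19085399, (some false), 34, 17043521⟩)) (.node 1 (.leaf ⟨34, 17043521, (some false), 33, 19560517⟩) (.leaf ⟨34, 17043521, (some true), 35, 17043521⟩)))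
(.node 2 (.node 1 (.leaf ⟨35, 17043521, (some true), 34, 17059921⟩) (.leaf ⟨1, 11366487, none, 35, 19681369⟩)) (.node 1 (.leaf ⟨35, 17043521, none, 1, 25524303⟩) (.node 1 (.leaf ⟨34, 8990803, none, 22, 19667035⟩) (.leaf ⟨34, 17043521, none, 22, 9263185⟩))))))
(.node 9 (.node 4 (.node 2 (.node 1 (.leaf ⟨33, 19101779, none, 29, 17780819⟩) (.leaf ⟨33, 17043521, none, 29, 19030081⟩)) (.node 1 (.leaf ⟨25, 19085399, (some false), 36, 17043521⟩) (.leaf ⟨36, 19085399, (some false), 37, 17043521⟩)))
(.node 2 (.node 1 (.leaf ⟨37, 17043521, (some false), 36, 19560517⟩) (.leaf ⟨37, 19085399, (some true), 38, 17043521⟩)) (.node 1 (.leaf ⟨38, 17043521, (some true), 37, 19626071⟩) (.node 1 (.leaf ⟨1, 32057427, none, 38, 17119307⟩) (.leaf ⟨38, 17043521, none, 1, 21569627⟩)))))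
(.node 4 (.node 2 (.node 1 (.leaf ⟨37, 25309277, none, 19, 19730513⟩) (.leaf ⟨37, 17043521, none, 19, 32055365⟩)) (.node 1 (.leaf ⟨36, 19755083, none, 25, 17770567⟩) (.leaf ⟨36, 17043521, none, 25, 19097687⟩)))
(.node 2 (.node 1 (.leaf ⟨22, 19085399, (some false), 39, 17043521⟩) (.leaf ⟨39, 17043521, (some false), 22, 19560517⟩)) (.node 1 (.leaf ⟨39, 10971209, (some false), 40, 17043521⟩) (.node 1 (.leaf ⟨40, 17043521, (some false), 39, 9396299⟩) (.leaf ⟨40, 13310023, (some false), 41, 17043521⟩)))))))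
(.node 17 (.node 8 (.node 4 (.node 2 (.node 1 (.leaf ⟨41, 17043521, (some false), 40, 29511765⟩) (.leaf ⟨41, 29904967, (some false), 42, 17043521⟩)) (.node 1 (.leaf ⟨42, 17043521, (some false), 41, 13113429⟩) (.leaf ⟨1, 17576011, none, 42, 27611221⟩)))
(.node 2 (.node 1 (.leaf ⟨42, 17043521, none, 1, 25778253⟩) (.leaf ⟨41, 23607391, none, 14, 5066847⟩)) (.node 1 (.leaf ⟨41, 17043521, none, 14, 28002369⟩) (.leaf ⟨40, 6578269, none, 7, 7090245⟩))))
(.node 4 (.node 2 (.node 1 (.leaf ⟨40, 17043521, none, 7, 16934981⟩) (.leaf ⟨39, 8609877, none, 4, 25516101⟩)) (.node 1 (.leaf ⟨39, 17043521, none, 4, 4812885⟩) (.leaf ⟨22, 19081289, none, 7, 17244231⟩)))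
(.node 2 (.node 1 (.leaf ⟨22, 17043521, none, 7, 19339343⟩) (.leaf ⟨7, 19085399, (some true), 1, 19085405⟩)) (.node 1 (.leaf ⟨29, 16988239, none, 14, 17043521⟩) (.node 1 (.leaf ⟨29, 17043521, none, 14, 17180741⟩) (.leaf ⟨14, 11495495, (some true), 30, 25694283⟩))))))
(.node 9 (.node 4 (.node 2 (.node 1 (.leaf ⟨14, 10971209, (some true), 30, 11038803⟩) (.leaf ⟨14, 19085399, (some false), 33, 17246273⟩)) (.node 1 (.leaf ⟨14, 31801425, (some false), 33, 17457243⟩) (.leaf ⟨25, 23928925, (some false), 43, 17043521⟩)))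
(.node 2 (.node 1 (.leaf ⟨43, 17043521, (some false), 25, 4991053⟩) (.leaf ⟨25, 6776923, (some false), 43, 17111125⟩)) (.node 1 (.leaf ⟨25, 9056345, (some false), 43, 17526873⟩) (.node 1 (.leaf ⟨25, 13310023, (some false), 43, 17768539⟩) (.leaf ⟨43, 17768513, none, 43, 17768539⟩)))))
(.node 4 (.node 2 (.node 1 (.leaf ⟨43, 17657925, none, 43, 17526873⟩) (.leaf ⟨43, 17567831, none, 43, 17043521⟩)) (.node 1 (.leaf ⟨43, 17043521, none, 43, 17567831⟩) (.leaf ⟨43, 17043521, none, 43, 17698885⟩)))
(.node 2 (.node 1 (.leaf ⟨43, 17043521, none, 43, 17043543⟩) (.leaf ⟨43, 32125001, (some false), 44, 17043521⟩)) (.node 1 (.leaf ⟨44, 17043521, (some false), 43, 14905419⟩) (.node 1 (.leaf ⟨44, 27529303, (some false), 45, 17043521⟩) (.leaf ⟨45, 17043521, (some false), 44, 25516101⟩)))))))))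

/-- The facts. -/
def caseDFullFactsLLLL : Tab Fct := .node 138 caseDFullFactsLLLLL caseDFullFactsLLLLR

/-- The facts. -/
def caseDFullFactsLLLRL : Tab Fct :=
(.node 69 (.node 34 (.node 17 (.node 8 (.node 4 (.node 2 (.node 1 (.leaf ⟨1, 23939157, none, 45, 27416647⟩) (.leaf ⟨45, 17043521, none, 1, 4730957⟩)) (.node 1 (.leaf ⟨44, 4925529, none, 14, 10643529⟩) (.leaf ⟨44, 17043521, none, 14, 4749403⟩)))
(.node 2 (.node 1 (.leaf ⟨14, 29904967, (some false), 43, 15560799⟩) (.leaf ⟨14, 13510735, (some false), 43, 7098455⟩)) (.node 1 (.leaf ⟨14, 27529303, (some false), 43, 28254289⟩) (.leaf ⟨14, 4808797, (some false), 43, 25372751⟩))))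
(.node 4 (.node 2 (.node 1 (.leaf ⟨14, 9056345, (some false), 43, 5199945⟩) (.leaf ⟨14, 13310023, (some false), 43, 13400149⟩)) (.node 1 (.leaf ⟨14, 23928925, (some false), 43, 27926617⟩) (.leaf ⟨14, 6776923, (some false), 43, 25307205⟩)))
(.node 2 (.node 1 (.leaf ⟨43, 23466051, none, 43, 5199945⟩) (.leaf ⟨43, 17043521, none, 43, 5128271⟩)) (.node 1 (.leaf ⟨43, 31801425, (some false), 25, 27686987⟩) (.node 1 (.leaf ⟨4, 10971209, (some false), 46, 17043521⟩) (.leaf ⟨46, 17043521, (some false), 4, 9396299⟩))))))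
(.node 8 (.node 4 (.node 2 (.node 1 (.leaf ⟨4, 13310023, (some false), 46, 16918593⟩) (.leaf ⟨4, 23928925, (some false), 46, 17444949⟩)) (.node 1 (.leaf ⟨4, 9056345, (some false), 46, 17045589⟩) (.leaf ⟨4, 7292999, (some false), 46, 17764439⟩)))
(.node 2 (.node 1 (.leaf ⟨4, 6776923, (some false), 46, 17786947⟩) (.leaf ⟨4, 31801425, (some false), 46, 17440833⟩)) (.node 1 (.leaf ⟨4, 32125001, (some false), 46, 17119323⟩) (.leaf ⟨46, 17070151, none, 46, 17440833⟩))))
(.node 4 (.node 2 (.node 1 (.leaf ⟨46, 17051713, none, 46, 17786947⟩) (.leaf ⟨46, 17133645, none, 46, 17786947⟩)) (.node 1 (.leaf ⟨46, 16998495, none, 46, 16918593⟩) (.leaf ⟨46, 17043521, none, 46, 17127501⟩)))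
(.node 2 (.node 1 (.leaf ⟨46, 17043521, none, 46, 16998487⟩) (.leaf ⟨46, 17043521, none, 46, 17524803⟩)) (.node 1 (.leaf ⟨46, 17043521, none, 46, 17244253⟩) (.node 1 (.leaf ⟨46, 19085399, (some false), 47, 17043521⟩) (.leaf ⟨47, 19085399, (some false), 48, 17043521⟩)))))))
(.node 17 (.node 8 (.node 4 (.node 2 (.node 1 (.leaf ⟨48, 17043521, (some false), 47, 19560517⟩) (.leaf ⟨4, 7297111, none, 48, 19277895⟩)) (.node 1 (.leaf ⟨48, 17043521, none, 4, 13400147⟩) (.leaf ⟨47, 19877955, none, 46, 17119323⟩)))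
(.node 2 (.node 1 (.leaf ⟨47, 17043521, none, 46, 19294301⟩) (.leaf ⟨4, 13510735, (some true), 49, 17043521⟩)) (.node 1 (.leaf ⟨49, 17043521, (some true), 4, 29763663⟩) (.leaf ⟨4, 11495495, (some true), 49, 27603017⟩))))
(.node 4 (.node 2 (.node 1 (.leaf ⟨4, 4544593, (some true), 49, 27539521⟩) (.leaf ⟨4, 4808797, (some true), 49, 19230809⟩)) (.node 1 (.leaf ⟨4, 25385043, (some true), 49, 9263179⟩) (.leaf ⟨4, 29904967, (some true), 49, 17592403⟩)))
(.node 2 (.node 1 (.leaf ⟨4, 10971209, (some true), 49, 27883585⟩) (.leaf ⟨4, 13310023, (some true), 49, 11104345⟩)) (.node 1 (.leaf ⟨4, 19085399, (some true), 49, 19157065⟩) (.node 1 (.leaf ⟨4, 31801425, (some true), 49, 25768017⟩) (.leaf ⟨4, 32131155, (some true), 49, 25702475⟩))))))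
(.node 9 (.node 4 (.node 2 (.node 1 (.leaf ⟨49, 19755081, none, 49, 19230809⟩) (.leaf ⟨4, 32125001, (some true), 49, 27793481⟩)) (.node 1 (.leaf ⟨49, 11096139, none, 49, 9263179⟩) (.leaf ⟨49, 25786443, none, 49, 27793481⟩)))
(.node 2 (.node 1 (.leaf ⟨49, 27529305, none, 49, 27883585⟩) (.leaf ⟨49, 17043521, none, 49, 17584211⟩)) (.node 1 (.leaf ⟨49, 17043521, none, 49, 19222595⟩) (.node 1 (.leaf ⟨49, 17043521, none, 49, 19732545⟩) (.leaf ⟨49, 17043521, none, 49, 17633363⟩)))))
(.node 4 (.node 2 (.node 1 (.leaf ⟨49, 17059919, (some true), 50, 17043521⟩) (.leaf ⟨50, 17059919, (some true), 51, 17043521⟩)) (.node 1 (.leaf ⟨51, 17043521, (some true), 50, 17043535⟩) (.leaf ⟨4, 31926359, none, 51, 17649733⟩)))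
(.node 2 (.node 1 (.leaf ⟨51, 17043521, none, 4, 29778003⟩) (.leaf ⟨50, 25702477, none, 49, 25702475⟩)) (.node 1 (.leaf ⟨50, 17043521, none, 49, 17043551⟩) (.node 1 (.leaf ⟨49, 27529303, (some false), 52, 17043521⟩) (.leaf ⟨52, 17043521, (some false), 49, 25516101⟩))))))))
(.node 35 (.node 17 (.node 8 (.node 4 (.node 2 (.node 1 (.leaf ⟨49, 4808797, (some false), 52, 17180759⟩) (.leaf ⟨49, 29904967, (some false), 52, 17780811⟩)) (.node 1 (.leaf ⟨49, 13510735, (some false), 52, 17700941⟩) (.leaf ⟨52, 17508429, none, 52, 17043521⟩)))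
(.node 2 (.node 1 (.leaf ⟨52, 17717315, none, 52, 17780811⟩) (.leaf ⟨52, 17256523, none, 52, 17780811⟩)) (.node 1 (.leaf ⟨52, 17043521, none, 52, 17567809⟩) (.leaf ⟨52, 17043521, none, 52, 17111119⟩))))
(.node 4 (.node 2 (.node 1 (.leaf ⟨52, 17043521, none, 52, 17000541⟩) (.leaf ⟨52, 25385043, (some true), 53, 17043521⟩)) (.node 1 (.leaf ⟨53, 4808797, (some false), 54, 17043521⟩) (.leaf ⟨54, 17043521, (some false), 53, 23685197⟩)))
(.node 2 (.node 1 (.leaf ⟨54, 10971209, (some true), 55, 17043521⟩) (.leaf ⟨55, 17043521, (some true), 54, 11495513⟩)) (.node 1 (.leaf ⟨4, 11487299, none, 55, 27619397⟩) (.node 1 (.leaf ⟨55, 17043521, none, 4, 8611925⟩) (.leaf ⟨54, 10707027, none, 49, 27603017⟩))))))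
(.node 9 (.node 4 (.node 2 (.node 1 (.leaf ⟨54, 17043521, none, 49, 6840391⟩) (.leaf ⟨53, 8992857, none, 52, 17780811⟩)) (.node 1 (.leaf ⟨53, 17043521, none, 52, 10973257⟩) (.leaf ⟨49, 17043521, (some false), 56, 17043521⟩)))
(.node 2 (.node 1 (.leaf ⟨49, 19085399, (some false), 56, 17262679⟩) (.leaf ⟨56, 17244245, none, 56, 17262679⟩)) (.node 1 (.leaf ⟨56, 17584193, none, 56, 17043521⟩) (.node 1 (.leaf ⟨56, 17061969, none, 56, 17043521⟩) (.leaf ⟨56, 17197141, none, 56, 17262679⟩)))))
(.node 4 (.node 2 (.node 1 (.leaf ⟨56, 17768519, none, 56, 17262679⟩) (.leaf ⟨56, 17633363, none, 56, 17043521⟩)) (.node 1 (.leaf ⟨56, 17043521, none, 56, 17633363⟩) (.leaf ⟨56, 17043521, none, 56, 17586257⟩)))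
(.node 2 (.node 1 (.leaf ⟨56, 17043521, none, 56, 17109059⟩) (.leaf ⟨56, 17043521, none, 56, 17061969⟩)) (.node 1 (.leaf ⟨56, 17043521, none, 56, 17584193⟩) (.node 1 (.leaf ⟨56, 17043521, none, 56, 17061955⟩) (.leaf ⟨52, 19085399, (some false), 60, 17043521⟩)))))))
(.node 17 (.node 8 (.node 4 (.node 2 (.node 1 (.leaf ⟨60, 19085399, (some false), 61, 17043521⟩) (.leaf ⟨61, 17043521, (some false), 60, 19560517⟩)) (.node 1 (.leaf ⟨61, 19085399, (some true), 62, 17043521⟩) (.leaf ⟨62, 17043521, (some true), 61, 19626071⟩)))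
(.node 2 (.node 1 (.leaf ⟨4, 6778961, none, 62, 17068099⟩) (.leaf ⟨62, 17043521, none, 4, 32182355⟩)) (.node 1 (.leaf ⟨61, 11481181, none, 49, 27793481⟩) (.leaf ⟨61, 17043521, none, 49, 31936601⟩))))
(.node 4 (.node 2 (.node 1 (.leaf ⟨60, 19877955, none, 52, 17700941⟩) (.leaf ⟨60, 17043521, none, 52, 19222619⟩)) (.node 1 (.leaf ⟨52, 13310023, (some false), 66, 17043521⟩) (.leaf ⟨66, 17043521, (some false), 52, 29511765⟩)))
(.node 2 (.node 1 (.leaf ⟨52, 9056345, (some false), 66, 17719383⟩) (.leaf ⟨66, 17721419, none, 66, 17719383⟩)) (.node 1 (.leaf ⟨66, 17061969, none, 66, 17043521⟩) (.node 1 (.leaf ⟨66, 17059907, none, 66, 17043521⟩) (.leaf ⟨66, 17700949, none, 66, 17719383⟩))))))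
(.node 9 (.node 4 (.node 2 (.node 1 (.leaf ⟨66, 17043521, none, 66, 17053763⟩) (.leaf ⟨66, 17043521, none, 66, 17059907⟩)) (.node 1 (.leaf ⟨66, 17043521, none, 66, 17061969⟩) (.leaf ⟨66, 17043521, none, 66, 17045577⟩)))
(.node 2 (.node 1 (.leaf ⟨66, 27529303, (some false), 67, 17043521⟩) (.leaf ⟨67, 17043521, (some false), 66, 25516101⟩)) (.node 1 (.leaf ⟨67, 9056345, (some false), 68, 17043521⟩) (.node 1 (.leaf ⟨68, 17043521, (some false), 67, 10711131⟩) (.leaf ⟨4, 21774427, none, 68, 28194907⟩)))))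
(.node 4 (.node 2 (.node 1 (.leaf ⟨68, 17043521, none, 4, 21575745⟩) (.leaf ⟨67, 13314119, none, 7, 17244231⟩)) (.node 1 (.leaf ⟨67, 17043521, none, 7, 29956161⟩) (.leaf ⟨7, 4808797, (some false), 66, 23214165⟩)))
(.node 2 (.node 1 (.leaf ⟨7, 13510735, (some false), 66, 9254977⟩) (.leaf ⟨7, 31801425, (some false), 66, 27539539⟩)) (.node 1 (.leaf ⟨7, 7292999, (some false), 66, 6957137⟩) (.node 1 (.leaf ⟨7, 29904967, (some false), 66, 25524303⟩) (.leaf ⟨7, 27529303, (some false), 66, 29829187⟩)))))))))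

/-- The facts. -/
def caseDFullFactsLLLRR : Tab Fct :=
(.node 69 (.node 34 (.node 17 (.node 8 (.node 4 (.node 2 (.node 1 (.leaf ⟨7, 10971209, (some false), 66, 31871069⟩) (.leaf ⟨7, 32125001, (some false), 66, 9269335⟩)) (.node 1 (.leaf ⟨66, 27529297, none, 66, 9269335⟩) (.leaf ⟨66, 17043521, none, 66, 8935495⟩)))
(.node 2 (.node 1 (.leaf ⟨66, 29904967, (some false), 52, 25825351⟩) (.leaf ⟨52, 6776923, (some false), 69, 17043521⟩)) (.node 1 (.leaf ⟨69, 17043521, (some false), 52, 21979225⟩) (.leaf ⟨52, 23928925, (some false), 69, 17111127⟩))))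
(.node 4 (.node 2 (.node 1 (.leaf ⟨69, 17635397, none, 69, 17111127⟩) (.leaf ⟨69, 17698883, none, 69, 17043521⟩)) (.node 1 (.leaf ⟨69, 17109079, none, 69, 17043521⟩) (.leaf ⟨69, 17045575, none, 69, 17111127⟩)))
(.node 2 (.node 1 (.leaf ⟨69, 17043521, none, 69, 17109073⟩) (.leaf ⟨69, 17043521, none, 69, 17109079⟩)) (.node 1 (.leaf ⟨69, 17043521, none, 69, 17698883⟩) (.node 1 (.leaf ⟨69, 17043521, none, 69, 17567827⟩) (.leaf ⟨69, 10971209, (some false), 70, 17043521⟩))))))
(.node 8 (.node 4 (.node 2 (.node 1 (.leaf ⟨70, 17043521, (some false), 69, 9396299⟩) (.leaf ⟨70, 13310023, (some false), 71, 17043521⟩)) (.node 1 (.leaf ⟨71, 17043521, (some false), 70, 29511765⟩) (.leaf ⟨4, 4608065, none, 71, 27818075⟩)))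
(.node 2 (.node 1 (.leaf ⟨71, 17043521, none, 4, 21459025⟩) (.leaf ⟨70, 8607823, none, 46, 17444949⟩)) (.node 1 (.leaf ⟨70, 17043521, none, 46, 12806239⟩) (.leaf ⟨46, 9056345, (some false), 69, 15038543⟩))))
(.node 4 (.node 2 (.node 1 (.leaf ⟨46, 13310023, (some false), 69, 28256333⟩) (.leaf ⟨46, 6776923, (some false), 69, 6707285⟩)) (.node 1 (.leaf ⟨46, 23928925, (some false), 69, 4477009⟩) (.leaf ⟨46, 29904967, (some false), 69, 10971219⟩)))
(.node 2 (.node 1 (.leaf ⟨46, 4808797, (some false), 69, 4673625⟩) (.leaf ⟨46, 32125001, (some false), 69, 27928641⟩)) (.node 1 (.leaf ⟨46, 31801425, (some false), 69, 27732051⟩) (.node 1 (.leaf ⟨46, 27529303, (some false), 69, 14973013⟩) (.leaf ⟨46, 13510735, (some false), 69, 28190807⟩)))))))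
(.node 17 (.node 8 (.node 4 (.node 2 (.node 1 (.leaf ⟨46, 7292999, (some false), 69, 21958729⟩) (.leaf ⟨46, 10971209, (some false), 69, 31668289⟩)) (.node 1 (.leaf ⟨66, 13510735, (some false), 72, 17043521⟩) (.leaf ⟨72, 19085399, (some false), 73, 17043521⟩)))
(.node 2 (.node 1 (.leaf ⟨73, 17043521, (some false), 72, 19560517⟩) (.leaf ⟨7, 4603993, none, 73, 19208267⟩)) (.node 1 (.leaf ⟨73, 17043521, none, 7, 6703185⟩) (.leaf ⟨72, 19560515, none, 66, 6957137⟩))))
(.node 4 (.node 2 (.node 1 (.leaf ⟨72, 17043521, none, 66, 25440337⟩) (.leaf ⟨7, 13310023, (some true), 74, 17043521⟩)) (.node 1 (.leaf ⟨7, 4544593, (some true), 74, 9252937⟩) (.leaf ⟨7, 32125001, (some true), 74, 11286595⟩)))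
(.node 2 (.node 1 (.leaf ⟨7, 29904967, (some true), 74, 9009227⟩) (.leaf ⟨7, 13510735, (some true), 74, 9195601⟩)) (.node 1 (.leaf ⟨7, 4808797, (some true), 74, 27594841⟩) (.node 1 (.leaf ⟨7, 32131155, (some true), 74, 11089993⟩) (.leaf ⟨7, 31801425, (some true), 74, 11016267⟩))))))
(.node 9 (.node 4 (.node 2 (.node 1 (.leaf ⟨74, 17584209, none, 74, 17043521⟩) (.leaf ⟨74, 9189443, none, 74, 11286595⟩)) (.node 1 (.leaf ⟨74, 11366483, none, 74, 9195601⟩) (.leaf ⟨74, 17043521, none, 74, 19224643⟩)))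
(.node 2 (.node 1 (.leaf ⟨74, 17043521, none, 74, 19140673⟩) (.leaf ⟨74, 17043521, none, 74, 17584209⟩)) (.node 1 (.leaf ⟨74, 17043521, (some false), 77, 17043521⟩) (.node 1 (.leaf ⟨74, 19085399, (some false), 77, 17770583⟩) (.leaf ⟨77, 17584193, none, 77, 17043521⟩)))))
(.node 4 (.node 2 (.node 1 (.leaf ⟨77, 17784901, none, 77, 17770583⟩) (.leaf ⟨77, 17719367, none, 77, 17770583⟩)) (.node 1 (.leaf ⟨77, 17045571, none, 77, 17043521⟩) (.leaf ⟨77, 17043521, none, 77, 17045571⟩)))
(.node 2 (.node 1 (.leaf ⟨77, 17043521, none, 77, 17127505⟩) (.leaf ⟨77, 17043521, none, 77, 17061971⟩)) (.node 1 (.leaf ⟨77, 17043521, none, 77, 17584193⟩) (.node 1 (.leaf ⟨74, 27529303, (some false), 84, 17043521⟩) (.leaf ⟨84, 17043521, (some false), 74, 25516101⟩))))))))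
(.node 35 (.node 17 (.node 8 (.node 4 (.node 2 (.node 1 (.leaf ⟨74, 13510735, (some false), 84, 16939079⟩) (.leaf ⟨74, 29904967, (some false), 84, 17526849⟩)) (.node 1 (.leaf ⟨74, 4808797, (some false), 84, 17053777⟩) (.leaf ⟨84, 17510465, none, 84, 17526849⟩)))
(.node 2 (.node 1 (.leaf ⟨84, 17180743, none, 84, 17053777⟩) (.leaf ⟨84, 17043521, none, 84, 16984157⟩)) (.node 1 (.leaf ⟨84, 17043521, none, 84, 17059905⟩) (.leaf ⟨84, 19085399, (some false), 85, 17043521⟩))))
(.node 4 (.node 2 (.node 1 (.leaf ⟨85, 19085399, (some false), 86, 17043521⟩) (.leaf ⟨86, 17043521, (some false), 85, 19560517⟩)) (.node 1 (.leaf ⟨86, 19085399, (some true), 87, 17043521⟩) (.leaf ⟨87, 17043521, (some true), 86, 19626071⟩)))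
(.node 2 (.node 1 (.leaf ⟨7, 7163973, none, 87, 17070145⟩) (.leaf ⟨87, 17043521, none, 7, 30226527⟩)) (.node 1 (.leaf ⟨86, 27922501, none, 74, 9009227⟩) (.node 1 (.leaf ⟨86, 17043521, none, 74, 31936601⟩) (.leaf ⟨85, 19877955, none, 84, 16939079⟩))))))
(.node 9 (.node 4 (.node 2 (.node 1 (.leaf ⟨85, 17043521, none, 84, 19603543⟩) (.leaf ⟨77, 23928925, (some false), 88, 17043521⟩)) (.node 1 (.leaf ⟨88, 17043521, (some false), 77, 4991053⟩) (.leaf ⟨77, 13310023, (some false), 88, 17244251⟩)))
(.node 2 (.node 1 (.leaf ⟨77, 9056345, (some false), 88, 17657947⟩) (.leaf ⟨77, 6776923, (some false), 88, 17176663⟩)) (.node 1 (.leaf ⟨88, 17133643, none, 88, 17657947⟩) (.node 1 (.leaf ⟨88, 17240149, none, 88, 17043521⟩) (.leaf ⟨88, 17043521, none, 88, 17240149⟩)))))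
(.node 4 (.node 2 (.node 1 (.leaf ⟨88, 17043521, none, 88, 17567825⟩) (.leaf ⟨88, 31801425, (some false), 89, 17043521⟩)) (.node 1 (.leaf ⟨89, 17043521, (some false), 88, 14958673⟩) (.leaf ⟨89, 27529303, (some false), 90, 17043521⟩)))
(.node 2 (.node 1 (.leaf ⟨90, 17043521, (some false), 89, 25516101⟩) (.leaf ⟨7, 12931151, none, 90, 28194885⟩)) (.node 1 (.leaf ⟨90, 17043521, none, 7, 7295071⟩) (.node 1 (.leaf ⟨89, 4925507, none, 66, 9269335⟩) (.leaf ⟨89, 17043521, none, 66, 7286859⟩)))))))
(.node 17 (.node 8 (.node 4 (.node 2 (.node 1 (.leaf ⟨66, 23928925, (some false), 88, 10960979⟩) (.leaf ⟨66, 31801425, (some false), 88, 24068167⟩)) (.node 1 (.leaf ⟨66, 10971209, (some false), 88, 6635611⟩) (.leaf ⟨66, 6776923, (some false), 88, 12927041⟩)))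
(.node 2 (.node 1 (.leaf ⟨66, 13310023, (some false), 88, 32194627⟩) (.leaf ⟨66, 7292999, (some false), 88, 15548493⟩)) (.node 1 (.leaf ⟨66, 32125001, (some false), 88, 15351881⟩) (.leaf ⟨66, 9056345, (some false), 88, 9060425⟩))))
(.node 4 (.node 2 (.node 1 (.leaf ⟨84, 6776923, (some false), 91, 17043521⟩) (.leaf ⟨91, 17043521, (some false), 84, 21979225⟩)) (.node 1 (.leaf ⟨84, 23928925, (some false), 91, 17176643⟩) (.leaf ⟨91, 10971209, (some false), 92, 17043521⟩)))
(.node 2 (.node 1 (.leaf ⟨92, 17043521, (some false), 91, 9396299⟩) (.leaf ⟨92, 13310023, (some false), 93, 17043521⟩)) (.node 1 (.leaf ⟨93, 17043521, (some false), 92, 29511765⟩) (.node 1 (.leaf ⟨7, 32053331, none, 93, 27791441⟩) (.leaf ⟨93, 17043521, none, 7, 21305411⟩))))))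
(.node 9 (.node 4 (.node 2 (.node 1 (.leaf ⟨92, 4989013, none, 66, 9269335⟩) (.leaf ⟨92, 17043521, none, 66, 4546627⟩)) (.node 1 (.leaf ⟨91, 25632835, none, 88, 10960979⟩) (.leaf ⟨91, 17043521, none, 88, 6574165⟩)))
(.node 2 (.node 1 (.leaf ⟨88, 32125001, (some false), 84, 27406425⟩) (.leaf ⟨7, 10971209, (some true), 94, 17043521⟩)) (.node 1 (.leaf ⟨7, 11495495, (some true), 94, 17068107⟩) (.node 1 (.leaf ⟨7, 17059919, (some true), 94, 11341913⟩) (.leaf ⟨7, 17043521, (some true), 94, 25432155⟩)))))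
(.node 4 (.node 2 (.node 1 (.leaf ⟨94, 4808797, (some false), 95, 17043521⟩) (.leaf ⟨95, 17043521, (some false), 94, 23685197⟩)) (.node 1 (.leaf ⟨95, 10971209, (some false), 96, 17043521⟩) (.leaf ⟨96, 17043521, (some false), 95, 9396299⟩)))
(.node 2 (.node 1 (.leaf ⟨96, 6776923, (some false), 97, 17043521⟩) (.leaf ⟨97, 17043521, (some false), 96, 21979225⟩)) (.node 1 (.leaf ⟨97, 10971209, (some false), 98, 17043521⟩) (.node 1 (.leaf ⟨98, 17043521, (some false), 97, 9396299⟩) (.leaf ⟨7, 25905219, none, 98, 27752543⟩)))))))))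

/-- The facts. -/
def caseDFullFactsLLLR : Tab Fct := .node 139 caseDFullFactsLLLRL caseDFullFactsLLLRR

/-- The facts. -/
def caseDFullFactsLLL : Tab Fct := .node 277 caseDFullFactsLLLL caseDFullFactsLLLR

/-- The facts. -/
def caseDFullFactsLLRLL : Tab Fct :=
(.node 69 (.node 34 (.node 17 (.node 8 (.node 4 (.node 2 (.node 1 (.leaf ⟨98, 17043521, none, 7, 19740743⟩) (.leaf ⟨97, 9134163, none, 11, 17043521⟩)) (.node 1 (.leaf ⟨97, 9134163, none, 7, 19032151⟩) (.leaf ⟨97, 17043521, none, 7, 24057951⟩)))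
(.node 2 (.node 1 (.leaf ⟨96, 29565023, none, 66, 31871069⟩) (.leaf ⟨96, 17043521, none, 66, 19353667⟩)) (.node 1 (.leaf ⟨66, 19085399, (some false), 95, 24057937⟩) (.leaf ⟨66, 4808797, (some false), 95, 7100499⟩))))
(.node 4 (.node 2 (.node 1 (.leaf ⟨43, 10971209, (some false), 102, 17043521⟩) (.leaf ⟨102, 19085399, (some false), 103, 17043521⟩)) (.node 1 (.leaf ⟨103, 17043521, (some false), 102, 19560517⟩) (.leaf ⟨14, 25718853, none, 103, 19800131⟩)))
(.node 2 (.node 1 (.leaf ⟨103, 17043521, none, 14, 23666781⟩) (.leaf ⟨102, 19099719, none, 43, 25372751⟩)) (.node 1 (.leaf ⟨102, 17043521, none, 43, 14973021⟩) (.node 1 (.leaf ⟨14, 13310023, (some true), 104, 17043521⟩) (.leaf ⟨104, 17043521, (some true), 14, 29579335⟩))))))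
(.node 8 (.node 4 (.node 2 (.node 1 (.leaf ⟨14, 29904967, (some true), 104, 11024457⟩) (.leaf ⟨14, 32125001, (some true), 104, 9254977⟩)) (.node 1 (.leaf ⟨14, 4544593, (some true), 104, 9261129⟩) (.leaf ⟨104, 8984659, none, 104, 11024457⟩)))
(.node 2 (.node 1 (.leaf ⟨104, 17043521, none, 104, 19222617⟩) (.leaf ⟨14, 32131155, (some true), 107, 17043521⟩)) (.node 1 (.leaf ⟨107, 17043521, (some true), 14, 14829635⟩) (.leaf ⟨14, 4808797, (some true), 107, 9252931⟩))))
(.node 4 (.node 2 (.node 1 (.leaf ⟨14, 13510735, (some true), 107, 27553881⟩) (.leaf ⟨14, 31801425, (some true), 107, 19157059⟩)) (.node 1 (.leaf ⟨14, 25385043, (some true), 107, 11286611⟩) (.leaf ⟨14, 19085399, (some true), 107, 19667009⟩)))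
(.node 2 (.node 1 (.leaf ⟨14, 17043521, (some true), 107, 17133641⟩) (.leaf ⟨14, 17059919, (some true), 107, 17651785⟩)) (.node 1 (.leaf ⟨107, 19730513, none, 107, 19157059⟩) (.node 1 (.leaf ⟨107, 17061979, none, 107, 17651785⟩) (.leaf ⟨107, 17043521, none, 107, 17633363⟩)))))))
(.node 17 (.node 8 (.node 4 (.node 2 (.node 1 (.leaf ⟨107, 17043521, none, 107, 17586257⟩) (.leaf ⟨107, 27529303, (some false), 108, 17043521⟩)) (.node 1 (.leaf ⟨108, 17043521, (some false), 107, 25516101⟩) (.leaf ⟨107, 29904967, (some false), 108, 17256523⟩)))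
(.node 2 (.node 1 (.leaf ⟨107, 13510735, (some false), 108, 17717325⟩) (.leaf ⟨108, 25385043, (some true), 109, 17043521⟩)) (.node 1 (.leaf ⟨109, 4808797, (some false), 110, 17043521⟩) (.leaf ⟨110, 17043521, (some false), 109, 23685197⟩))))
(.node 4 (.node 2 (.node 1 (.leaf ⟨110, 10971209, (some true), 111, 17043521⟩) (.leaf ⟨111, 17043521, (some true), 110, 11495513⟩)) (.node 1 (.leaf ⟨14, 13592649, none, 111, 11352151⟩) (.leaf ⟨111, 17043521, none, 14, 7217245⟩)))
(.node 2 (.node 1 (.leaf ⟨110, 19357785, none, 107, 27553881⟩) (.leaf ⟨110, 17043521, none, 107, 7036993⟩)) (.node 1 (.leaf ⟨109, 25776197, none, 108, 17717325⟩) (.node 1 (.leaf ⟨109, 17043521, none, 108, 11475035⟩) (.leaf ⟨104, 29904967, (some false), 112, 17043521⟩))))))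
(.node 9 (.node 4 (.node 2 (.node 1 (.leaf ⟨112, 17043521, (some false), 104, 13113429⟩) (.leaf ⟨104, 4808797, (some false), 112, 16932951⟩)) (.node 1 (.leaf ⟨112, 17043521, (some true), 113, 17043521⟩) (.leaf ⟨113, 17043521, (some false), 114, 17043521⟩)))
(.node 2 (.node 1 (.leaf ⟨114, 17043521, (some false), 113, 17127489⟩) (.leaf ⟨114, 19085399, (some true), 115, 17043521⟩)) (.node 1 (.leaf ⟨115, 17043521, (some true), 114, 19626071⟩) (.node 1 (.leaf ⟨14, 15601747, none, 115, 19208287⟩) (.leaf ⟨115, 17043521, none, 14, 15669325⟩)))))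
(.node 4 (.node 2 (.node 1 (.leaf ⟨114, 11147341, none, 104, 17043521⟩) (.leaf ⟨114, 17043521, none, 104, 15276117⟩)) (.node 1 (.leaf ⟨113, 16922695, none, 112, 16932951⟩) (.leaf ⟨113, 17043521, none, 112, 17070161⟩)))
(.node 2 (.node 1 (.leaf ⟨108, 19085399, (some false), 116, 17043521⟩) (.leaf ⟨116, 19085399, (some false), 117, 17043521⟩)) (.node 1 (.leaf ⟨117, 17043521, (some false), 116, 19560517⟩) (.node 1 (.leaf ⟨117, 19085399, (some true), 118, 17043521⟩) (.leaf ⟨118, 17043521, (some true), 117, 19626071⟩))))))))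
(.node 35 (.node 17 (.node 8 (.node 4 (.node 2 (.node 1 (.leaf ⟨14, 23683163, none, 118, 17569865⟩) (.leaf ⟨118, 17043521, none, 14, 21569619⟩)) (.node 1 (.leaf ⟨117, 25849933, none, 107, 19157059⟩) (.leaf ⟨117, 17043521, none, 107, 31858779⟩)))
(.node 2 (.node 1 (.leaf ⟨116, 19208283, none, 108, 17043521⟩) (.leaf ⟨116, 17043521, none, 108, 19208283⟩)) (.node 1 (.leaf ⟨112, 29904967, (some false), 119, 17043521⟩) (.leaf ⟨119, 17043521, (some false), 112, 13113429⟩))))
(.node 4 (.node 2 (.node 1 (.leaf ⟨119, 13510735, (some false), 120, 17043521⟩) (.leaf ⟨120, 17043521, (some false), 119, 29761631⟩)) (.node 1 (.leaf ⟨120, 27529303, (some false), 121, 17043521⟩) (.leaf ⟨121, 17043521, (some false), 120, 25516101⟩)))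
(.node 2 (.node 1 (.leaf ⟨14, 13195359, none, 121, 27662409⟩) (.leaf ⟨121, 17043521, none, 14, 9396313⟩)) (.node 1 (.leaf ⟨120, 27529285, none, 15, 17043521⟩) (.node 1 (.leaf ⟨120, 27529285, none, 1, 13387845⟩) (.leaf ⟨120, 17043521, none, 1, 13197377⟩))))))
(.node 9 (.node 4 (.node 2 (.node 1 (.leaf ⟨119, 15667287, none, 14, 5066847⟩) (.leaf ⟨119, 17043521, none, 14, 4616279⟩)) (.node 1 (.leaf ⟨112, 31991877, none, 43, 13400149⟩) (.leaf ⟨112, 17043521, none, 43, 27738185⟩)))
(.node 2 (.node 1 (.leaf ⟨104, 11030621, none, 25, 27686987⟩) (.leaf ⟨43, 10971209, (some true), 113, 9187409⟩)) (.node 1 (.leaf ⟨43, 11495495, (some true), 113, 25450561⟩) (.node 1 (.leaf ⟨104, 17043521, none, 25, 26169415⟩) (.leaf ⟨25, 19085399, (some true), 14, 29505613⟩)))))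
(.node 4 (.node 2 (.node 1 (.leaf ⟨43, 7292999, (some false), 122, 17043521⟩) (.leaf ⟨43, 19085399, (some false), 122, 17262675⟩)) (.node 1 (.leaf ⟨122, 10971209, (some false), 123, 17043521⟩) (.leaf ⟨123, 17043521, (some false), 122, 9396299⟩)))
(.node 2 (.node 1 (.leaf ⟨123, 13310023, (some false), 124, 17043521⟩) (.leaf ⟨124, 17043521, (some false), 123, 29511765⟩)) (.node 1 (.leaf ⟨14, 21311571, none, 124, 27791441⟩) (.node 1 (.leaf ⟨124, 17043521, none, 14, 13400131⟩) (.leaf ⟨123, 23558225, none, 17, 17043521⟩)))))))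
(.node 17 (.node 8 (.node 4 (.node 2 (.node 1 (.leaf ⟨123, 23558225, none, 14, 8874051⟩) (.leaf ⟨123, 17043521, none, 14, 21260367⟩)) (.node 1 (.leaf ⟨122, 10905689, none, 43, 27926617⟩) (.leaf ⟨122, 17043521, none, 43, 4671553⟩)))
(.node 2 (.node 1 (.leaf ⟨108, 9056345, (some false), 125, 17043521⟩) (.leaf ⟨125, 17043521, (some false), 108, 10711131⟩)) (.node 1 (.leaf ⟨125, 23928925, (some false), 126, 17043521⟩) (.leaf ⟨126, 17043521, (some false), 125, 4991053⟩))))
(.node 4 (.node 2 (.node 1 (.leaf ⟨126, 32125001, (some false), 127, 17043521⟩) (.leaf ⟨127, 17043521, (some false), 126, 14905419⟩)) (.node 1 (.leaf ⟨14, 23683141, none, 127, 27537475⟩) (.leaf ⟨127, 17043521, none, 14, 21776463⟩)))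
(.node 2 (.node 1 (.leaf ⟨126, 25372743, none, 7, 7090245⟩) (.leaf ⟨126, 17043521, none, 7, 8925251⟩)) (.node 1 (.leaf ⟨125, 14833743, none, 66, 25524303⟩) (.node 1 (.leaf ⟨125, 17043521, none, 66, 21788737⟩) (.leaf ⟨108, 12806225, none, 88, 12927041⟩))))))
(.node 9 (.node 4 (.node 2 (.node 1 (.leaf ⟨108, 17043521, none, 88, 17592413⟩) (.leaf ⟨107, 4941903, none, 77, 4991053⟩)) (.node 1 (.leaf ⟨88, 10971209, (some true), 109, 17633347⟩) (.leaf ⟨88, 19085399, (some false), 116, 17174619⟩)))
(.node 2 (.node 1 (.leaf ⟨107, 17043521, none, 77, 17004611⟩) (.leaf ⟨77, 25385043, (some true), 14, 4857945⟩)) (.node 1 (.leaf ⟨19, 29904967, (some true), 128, 17043521⟩) (.node 1 (.leaf ⟨19, 19085399, (some true), 128, 19232859⟩) (.leaf ⟨19, 32131155, (some true), 128, 25458771⟩)))))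
(.node 4 (.node 2 (.node 1 (.leaf ⟨19, 32125001, (some true), 128, 25768009⟩) (.leaf ⟨19, 4808797, (some true), 128, 19683417⟩)) (.node 1 (.leaf ⟨19, 11495495, (some true), 128, 25434195⟩) (.leaf ⟨128, 17111131, none, 128, 19683417⟩)))
(.node 2 (.node 1 (.leaf ⟨128, 19142729, none, 128, 19683417⟩) (.leaf ⟨128, 25458761, none, 128, 25458771⟩)) (.node 1 (.leaf ⟨128, 25720907, none, 128, 25434195⟩) (.node 1 (.leaf ⟨128, 17043521, none, 128, 17584209⟩) (.leaf ⟨128, 17043521, none, 128, 17043539⟩)))))))))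

/-- The facts. -/
def caseDFullFactsLLRLR : Tab Fct :=
(.node 69 (.node 34 (.node 17 (.node 8 (.node 4 (.node 2 (.node 1 (.leaf ⟨128, 17043521, none, 128, 17651795⟩) (.leaf ⟨128, 17043521, none, 128, 19746883⟩)) (.node 1 (.leaf ⟨128, 17059919, (some true), 129, 17043521⟩) (.leaf ⟨129, 17043521, (some true), 128, 17043535⟩)))
(.node 2 (.node 1 (.leaf ⟨129, 17061953, none, 129, 17043521⟩) (.leaf ⟨129, 17651795, none, 129, 17043521⟩)) (.node 1 (.leaf ⟨129, 19732563, none, 129, 17043521⟩) (.leaf ⟨129, 17043521, none, 129, 19667025⟩))))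
(.node 4 (.node 2 (.node 1 (.leaf ⟨129, 17043521, none, 129, 17651795⟩) (.leaf ⟨129, 17043521, none, 129, 17061953⟩)) (.node 1 (.leaf ⟨129, 17059919, (some true), 130, 17043521⟩) (.leaf ⟨130, 17043521, (some true), 129, 17043535⟩)))
(.node 2 (.node 1 (.leaf ⟨19, 29634655, none, 130, 9246789⟩) (.leaf ⟨130, 17043521, none, 19, 13129801⟩)) (.node 1 (.leaf ⟨19, 4544593, (some true), 129, 25784397⟩) (.node 1 (.leaf ⟨19, 25385043, (some true), 129, 11014237⟩) (.leaf ⟨19, 13510735, (some true), 129, 17592391⟩))))))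
(.node 8 (.node 4 (.node 2 (.node 1 (.leaf ⟨19, 13310023, (some true), 129, 8990799⟩) (.leaf ⟨19, 31801425, (some true), 129, 25784389⟩)) (.node 1 (.leaf ⟨19, 10971209, (some true), 129, 25770079⟩) (.leaf ⟨129, 4808797, (some false), 131, 17043521⟩)))
(.node 2 (.node 1 (.leaf ⟨131, 17043521, (some false), 129, 23685197⟩) (.leaf ⟨129, 13510735, (some false), 131, 16932951⟩)) (.node 1 (.leaf ⟨129, 29904967, (some false), 131, 17784907⟩) (.leaf ⟨129, 27529303, (some false), 131, 17594433⟩))))
(.node 4 (.node 2 (.node 1 (.leaf ⟨131, 17178701, none, 131, 16932951⟩) (.leaf ⟨131, 17174615, none, 131, 17043521⟩)) (.node 1 (.leaf ⟨131, 17043521, none, 131, 17174615⟩) (.leaf ⟨131, 17043521, none, 131, 17190999⟩)))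
(.node 2 (.node 1 (.leaf ⟨131, 11495495, (some true), 132, 17043521⟩) (.leaf ⟨132, 17070153, none, 132, 17043521⟩)) (.node 1 (.leaf ⟨132, 8919121, none, 132, 17043521⟩) (.node 1 (.leaf ⟨132, 17043521, none, 132, 8919113⟩) (.leaf ⟨132, 17043521, none, 132, 17070153⟩)))))))
(.node 17 (.node 8 (.node 4 (.node 2 (.node 1 (.leaf ⟨132, 13510735, (some false), 133, 17043521⟩) (.leaf ⟨133, 17043521, (some false), 132, 29761631⟩)) (.node 1 (.leaf ⟨133, 17059919, (some true), 134, 17043521⟩) (.leaf ⟨134, 17043521, (some true), 133, 17043535⟩)))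
(.node 2 (.node 1 (.leaf ⟨19, 12875841, none, 134, 17569879⟩) (.leaf ⟨134, 17043521, none, 19, 32256085⟩)) (.node 1 (.leaf ⟨133, 25761863, none, 128, 17043521⟩) (.leaf ⟨133, 17043521, none, 128, 11343941⟩))))
(.node 4 (.node 2 (.node 1 (.leaf ⟨128, 13510735, (some false), 132, 25434207⟩) (.leaf ⟨128, 29904967, (some false), 132, 9195593⟩)) (.node 1 (.leaf ⟨128, 27529303, (some false), 132, 31926367⟩) (.leaf ⟨131, 19085399, (some false), 135, 17043521⟩)))
(.node 2 (.node 1 (.leaf ⟨135, 19085399, (some false), 136, 17043521⟩) (.leaf ⟨136, 17043521, (some false), 135, 19560517⟩)) (.node 1 (.leaf ⟨136, 11495495, (some true), 137, 17043521⟩) (.node 1 (.leaf ⟨137, 17043521, (some true), 136, 10971207⟩) (.leaf ⟨19, 29628489, none, 137, 11284547⟩))))))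
(.node 9 (.node 4 (.node 2 (.node 1 (.leaf ⟨137, 17043521, none, 19, 32067665⟩) (.leaf ⟨136, 10633295, none, 129, 25784397⟩)) (.node 1 (.leaf ⟨136, 17043521, none, 129, 23296067⟩) (.leaf ⟨135, 19664963, none, 131, 16932951⟩)))
(.node 2 (.node 1 (.leaf ⟨135, 17043521, none, 131, 19013719⟩) (.leaf ⟨132, 17043521, (some false), 138, 17043521⟩)) (.node 1 (.leaf ⟨138, 17043521, (some false), 132, 17127489⟩) (.node 1 (.leaf ⟨132, 29904967, (some false), 138, 17764429⟩) (.leaf ⟨138, 16939101, none, 138, 17764429⟩)))))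
(.node 4 (.node 2 (.node 1 (.leaf ⟨138, 17524831, none, 138, 17043521⟩) (.leaf ⟨138, 17043521, none, 138, 17524831⟩)) (.node 1 (.leaf ⟨138, 17043521, none, 138, 16916561⟩) (.leaf ⟨138, 13310023, (some false), 139, 17043521⟩)))
(.node 2 (.node 1 (.leaf ⟨139, 17043521, (some false), 138, 29511765⟩) (.leaf ⟨139, 17053779, none, 139, 17043521⟩)) (.node 1 (.leaf ⟨139, 17059913, none, 139, 17043521⟩) (.node 1 (.leaf ⟨139, 17043521, none, 139, 17059913⟩) (.leaf ⟨139, 17043521, none, 139, 17053779⟩))))))))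
(.node 35 (.node 17 (.node 8 (.node 4 (.node 2 (.node 1 (.leaf ⟨139, 27529303, (some false), 140, 17043521⟩) (.leaf ⟨140, 17043521, (some false), 139, 25516101⟩)) (.node 1 (.leaf ⟨19, 10907743, none, 140, 27408457⟩) (.leaf ⟨140, 17043521, none, 19, 12806231⟩)))
(.node 2 (.node 1 (.leaf ⟨19, 9056345, (some false), 139, 13588575⟩) (.leaf ⟨19, 32125001, (some false), 139, 15622213⟩)) (.node 1 (.leaf ⟨19, 23928925, (some false), 139, 13576263⟩) (.leaf ⟨19, 7292999, (some false), 139, 4939861⟩))))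
(.node 4 (.node 2 (.node 1 (.leaf ⟨19, 10971209, (some false), 139, 13572177⟩) (.leaf ⟨19, 13310023, (some false), 139, 15618115⟩)) (.node 1 (.leaf ⟨19, 31801425, (some false), 139, 13576273⟩) (.leaf ⟨19, 6776923, (some false), 139, 6959195⟩)))
(.node 2 (.node 1 (.leaf ⟨139, 27531335, none, 139, 4939861⟩) (.leaf ⟨139, 29841487, none, 139, 13576273⟩)) (.node 1 (.leaf ⟨139, 17043521, none, 139, 11096147⟩) (.node 1 (.leaf ⟨139, 4808797, (some false), 138, 6781015⟩) (.leaf ⟨139, 17043521, none, 139, 7293017⟩))))))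
(.node 9 (.node 4 (.node 2 (.node 1 (.leaf ⟨131, 7292999, (some false), 141, 17043521⟩) (.leaf ⟨131, 32125001, (some false), 141, 16984157⟩)) (.node 1 (.leaf ⟨141, 17180749, none, 141, 16984157⟩) (.leaf ⟨141, 17174615, none, 141, 17043521⟩)))
(.node 2 (.node 1 (.leaf ⟨141, 17043521, none, 141, 17174615⟩) (.leaf ⟨141, 17043521, none, 141, 17174609⟩)) (.node 1 (.leaf ⟨141, 10971209, (some false), 142, 17043521⟩) (.node 1 (.leaf ⟨142, 17043521, (some false), 141, 9396299⟩) (.leaf ⟨142, 13310023, (some false), 143, 17043521⟩)))))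
(.node 4 (.node 2 (.node 1 (.leaf ⟨143, 17043521, (some false), 142, 29511765⟩) (.leaf ⟨19, 29626459, none, 143, 27799625⟩)) (.node 1 (.leaf ⟨143, 17043521, none, 19, 13465675⟩) (.leaf ⟨142, 6713413, none, 139, 15622213⟩)))
(.node 2 (.node 1 (.leaf ⟨142, 17043521, none, 139, 10639425⟩) (.leaf ⟨139, 23928925, (some false), 141, 25894977⟩)) (.node 1 (.leaf ⟨139, 6776923, (some false), 141, 12808281⟩) (.node 1 (.leaf ⟨139, 10971209, (some false), 141, 21368927⟩) (.leaf ⟨139, 31801425, (some false), 141, 23926879⟩)))))))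
(.node 17 (.node 8 (.node 4 (.node 2 (.node 1 (.leaf ⟨139, 19085399, (some false), 141, 23337055⟩) (.leaf ⟨139, 29904967, (some false), 141, 25305153⟩)) (.node 1 (.leaf ⟨25, 10971209, (some false), 144, 17043521⟩) (.leaf ⟨25, 32125001, (some false), 144, 17446983⟩)))
(.node 2 (.node 1 (.leaf ⟨25, 13510735, (some false), 144, 17242205⟩) (.leaf ⟨25, 27529303, (some false), 144, 16918621⟩)) (.node 1 (.leaf ⟨25, 4808797, (some false), 144, 17178691⟩) (.leaf ⟨25, 29904967, (some false), 144, 17512537⟩))))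
(.node 4 (.node 2 (.node 1 (.leaf ⟨25, 7292999, (some false), 144, 17068119⟩) (.leaf ⟨25, 31801425, (some false), 144, 17242177⟩)) (.node 1 (.leaf ⟨144, 16984147, none, 144, 17043521⟩) (.leaf ⟨144, 17584193, none, 144, 17043521⟩)))
(.node 2 (.node 1 (.leaf ⟨144, 17043521, none, 144, 17584193⟩) (.leaf ⟨144, 17043521, none, 144, 16984147⟩)) (.node 1 (.leaf ⟨144, 19085399, (some false), 145, 17043521⟩) (.node 1 (.leaf ⟨145, 19085399, (some false), 146, 17043521⟩) (.leaf ⟨146, 17043521, (some false), 145, 19560517⟩))))))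
(.node 9 (.node 4 (.node 2 (.node 1 (.leaf ⟨25, 25632835, none, 146, 19796051⟩) (.leaf ⟨146, 17043521, none, 25, 13400147⟩)) (.node 1 (.leaf ⟨145, 19877955, none, 144, 17446983⟩) (.leaf ⟨145, 17043521, none, 144, 19032151⟩)))
(.node 2 (.node 1 (.leaf ⟨25, 11495495, (some true), 147, 17043521⟩) (.leaf ⟨147, 17068121, none, 147, 17043521⟩)) (.node 1 (.leaf ⟨25, 17043521, (some true), 147, 9197635⟩) (.node 1 (.leaf ⟨147, 25450563, none, 147, 9197635⟩) (.leaf ⟨147, 11360323, none, 147, 9197635⟩)))))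
(.node 4 (.node 2 (.node 1 (.leaf ⟨147, 17045571, none, 147, 17043521⟩) (.leaf ⟨147, 17043521, none, 147, 17045571⟩)) (.node 1 (.leaf ⟨147, 17043521, none, 147, 19206209⟩) (.leaf ⟨147, 17043521, none, 147, 8917057⟩)))
(.node 2 (.node 1 (.leaf ⟨147, 17043521, none, 147, 17068121⟩) (.leaf ⟨147, 17059919, (some true), 148, 17043521⟩)) (.node 1 (.leaf ⟨148, 17043521, (some true), 147, 17043535⟩) (.node 1 (.leaf ⟨148, 19140673, none, 148, 17043521⟩) (.leaf ⟨148, 27529281, none, 148, 17043521⟩)))))))))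

/-- The facts. -/
def caseDFullFactsLLRL : Tab Fct := .node 139 caseDFullFactsLLRLL caseDFullFactsLLRLR

/-- The facts. -/
def caseDFullFactsLLRRL : Tab Fct :=
(.node 69 (.node 34 (.node 17 (.node 8 (.node 4 (.node 2 (.node 1 (.leaf ⟨148, 17043521, none, 148, 27529281⟩) (.leaf ⟨148, 17043521, none, 148, 19140673⟩)) (.node 1 (.leaf ⟨148, 17059919, (some true), 149, 17043521⟩) (.leaf ⟨149, 17043521, (some true), 148, 17043535⟩)))
(.node 2 (.node 1 (.leaf ⟨25, 9330759, none, 149, 17569887⟩) (.leaf ⟨149, 17043521, none, 25, 25632841⟩)) (.node 1 (.leaf ⟨25, 10971209, (some true), 148, 17651805⟩) (.leaf ⟨25, 17059919, (some true), 148, 9009247⟩))))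
(.node 4 (.node 2 (.node 1 (.leaf ⟨25, 31801425, (some true), 150, 17043521⟩) (.leaf ⟨150, 17043521, (some true), 25, 15024193⟩)) (.node 1 (.leaf ⟨25, 32131155, (some true), 150, 19206209⟩) (.leaf ⟨25, 4544593, (some true), 150, 27594817⟩)))
(.node 2 (.node 1 (.leaf ⟨25, 32125001, (some true), 150, 27605065⟩) (.leaf ⟨25, 13310023, (some true), 150, 25694275⟩)) (.node 1 (.leaf ⟨25, 29904967, (some true), 150, 27613259⟩) (.node 1 (.leaf ⟨25, 13510735, (some true), 150, 19165265⟩) (.leaf ⟨25, 4808797, (some true), 150, 17569881⟩))))))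
(.node 8 (.node 4 (.node 2 (.node 1 (.leaf ⟨150, 25432129, none, 150, 27594817⟩) (.leaf ⟨150, 17109059, none, 150, 17043521⟩)) (.node 1 (.leaf ⟨150, 17043521, none, 150, 17109059⟩) (.leaf ⟨150, 17043521, none, 150, 19206209⟩)))
(.node 2 (.node 1 (.leaf ⟨148, 29904967, (some false), 153, 17043521⟩) (.leaf ⟨153, 17059919, (some true), 154, 17043521⟩)) (.node 1 (.leaf ⟨154, 17043521, (some false), 155, 17043521⟩) (.leaf ⟨155, 17043521, (some false), 154, 17127489⟩))))
(.node 4 (.node 2 (.node 1 (.leaf ⟨155, 19085399, (some true), 156, 17043521⟩) (.leaf ⟨156, 17043521, (some true), 155, 19626071⟩)) (.node 1 (.leaf ⟨25, 19554395, none, 156, 19142743⟩) (.leaf ⟨156, 17043521, none, 25, 17459279⟩)))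
(.node 2 (.node 1 (.leaf ⟨155, 28201029, none, 147, 17043521⟩) (.leaf ⟨155, 17043521, none, 147, 31877211⟩)) (.node 1 (.leaf ⟨147, 27529303, (some false), 154, 17197139⟩) (.node 1 (.leaf ⟨150, 13510735, (some false), 157, 17043521⟩) (.leaf ⟨157, 17043521, (some false), 150, 29761631⟩)))))))
(.node 17 (.node 8 (.node 4 (.node 2 (.node 1 (.leaf ⟨150, 27529303, (some false), 157, 17260619⟩) (.leaf ⟨157, 17584209, none, 157, 17043521⟩)) (.node 1 (.leaf ⟨157, 17043521, none, 157, 17584209⟩) (.leaf ⟨157, 17059919, (some true), 158, 17043521⟩)))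
(.node 2 (.node 1 (.leaf ⟨158, 17043521, (some true), 157, 17043535⟩) (.leaf ⟨158, 17584209, none, 158, 17043521⟩)) (.node 1 (.leaf ⟨158, 17043521, none, 158, 17584209⟩) (.leaf ⟨158, 17043521, (some false), 159, 17043521⟩))))
(.node 4 (.node 2 (.node 1 (.leaf ⟨159, 17043521, (some false), 158, 17127489⟩) (.leaf ⟨159, 19085399, (some true), 160, 17043521⟩)) (.node 1 (.leaf ⟨160, 17043521, (some true), 159, 19626071⟩) (.leaf ⟨25, 32002127, none, 160, 19664981⟩)))
(.node 2 (.node 1 (.leaf ⟨160, 17043521, none, 25, 15292491⟩) (.leaf ⟨159, 25385031, none, 150, 27594817⟩)) (.node 1 (.leaf ⟨159, 17043521, none, 150, 19867721⟩) (.node 1 (.leaf ⟨150, 19085399, (some false), 158, 16920671⟩) (.leaf ⟨150, 17043521, (some false), 158, 17702981⟩))))))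
(.node 9 (.node 4 (.node 2 (.node 1 (.leaf ⟨154, 19085399, (some false), 161, 17043521⟩) (.leaf ⟨161, 17043521, (some false), 154, 19560517⟩)) (.node 1 (.leaf ⟨161, 19085399, (some false), 162, 17043521⟩) (.leaf ⟨162, 17043521, (some false), 161, 19560517⟩)))
(.node 2 (.node 1 (.leaf ⟨162, 17043521, (some true), 163, 17043521⟩) (.leaf ⟨163, 17043521, (some true), 162, 17059921⟩)) (.node 1 (.leaf ⟨25, 19294301, none, 163, 19232851⟩) (.node 1 (.leaf ⟨163, 17043521, none, 25, 17459287⟩) (.leaf ⟨162, 25448513, none, 147, 17043521⟩)))))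
(.node 4 (.node 2 (.node 1 (.leaf ⟨162, 17043521, none, 147, 25456705⟩) (.leaf ⟨147, 13510735, (some false), 161, 19621967⟩)) (.node 1 (.leaf ⟨157, 19085399, (some false), 164, 17043521⟩) (.leaf ⟨164, 19085399, (some false), 165, 17043521⟩)))
(.node 2 (.node 1 (.leaf ⟨165, 17043521, (some false), 164, 19560517⟩) (.leaf ⟨165, 17059919, (some true), 166, 17043521⟩)) (.node 1 (.leaf ⟨166, 17043521, (some true), 165, 17043535⟩) (.node 1 (.leaf ⟨25, 13508699, none, 166, 19157067⟩) (.leaf ⟨166, 17043521, none, 25, 31858771⟩))))))))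
(.node 35 (.node 17 (.node 8 (.node 4 (.node 2 (.node 1 (.leaf ⟨165, 27605071, none, 150, 19206209⟩) (.leaf ⟨165, 17043521, none, 150, 27537477⟩)) (.node 1 (.leaf ⟨164, 19691589, none, 157, 17260619⟩) (.leaf ⟨164, 17043521, none, 157, 19603543⟩)))
(.node 2 (.node 1 (.leaf ⟨157, 27529303, (some false), 167, 17043521⟩) (.leaf ⟨167, 17043521, (some false), 157, 25516101⟩)) (.node 1 (.leaf ⟨157, 4808797, (some false), 167, 17180743⟩) (.leaf ⟨167, 9056345, (some false), 168, 17043521⟩))))
(.node 4 (.node 2 (.node 1 (.leaf ⟨168, 17043521, (some false), 167, 10711131⟩) (.leaf ⟨168, 23928925, (some false), 169, 17043521⟩)) (.node 1 (.leaf ⟨169, 17043521, (some false), 168, 4991053⟩) (.leaf ⟨25, 7290959, none, 169, 27926613⟩)))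
(.node 2 (.node 1 (.leaf ⟨169, 17043521, none, 25, 29841489⟩) (.leaf ⟨168, 24000589, none, 144, 16918621⟩)) (.node 1 (.leaf ⟨168, 17043521, none, 144, 15622223⟩) (.node 1 (.leaf ⟨144, 27529303, (some false), 167, 30167111⟩) (.leaf ⟨144, 4808797, (some false), 167, 23535689⟩))))))
(.node 9 (.node 4 (.node 2 (.node 1 (.leaf ⟨144, 31801425, (some false), 167, 8802393⟩) (.leaf ⟨150, 4808797, (some false), 170, 17043521⟩)) (.node 1 (.leaf ⟨170, 17043521, (some false), 150, 23685197⟩) (.leaf ⟨150, 29904967, (some false), 170, 17784907⟩)))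
(.node 2 (.node 1 (.leaf ⟨170, 17244235, none, 170, 17784907⟩) (.leaf ⟨170, 17043521, none, 170, 17584193⟩)) (.node 1 (.leaf ⟨170, 31801425, (some false), 171, 17043521⟩) (.node 1 (.leaf ⟨171, 17043521, (some false), 170, 14958673⟩) (.leaf ⟨171, 27529303, (some false), 172, 17043521⟩)))))
(.node 4 (.node 2 (.node 1 (.leaf ⟨172, 17043521, (some false), 171, 25516101⟩) (.leaf ⟨172, 23928925, (some false), 173, 17043521⟩)) (.node 1 (.leaf ⟨173, 17043521, (some false), 172, 4991053⟩) (.leaf ⟨25, 12804173, none, 173, 28000323⟩)))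
(.node 2 (.node 1 (.leaf ⟨173, 17043521, none, 25, 25577563⟩) (.leaf ⟨172, 29712453, none, 144, 17068119⟩)) (.node 1 (.leaf ⟨172, 17043521, none, 144, 15024205⟩) (.node 1 (.leaf ⟨171, 27531359, none, 167, 8802393⟩) (.leaf ⟨171, 17043521, none, 167, 8876101⟩)))))))
(.node 17 (.node 8 (.node 4 (.node 2 (.node 1 (.leaf ⟨167, 23928925, (some false), 170, 4603971⟩) (.leaf ⟨158, 13510735, (some false), 174, 17043521⟩)) (.node 1 (.leaf ⟨174, 17043521, (some false), 158, 29761631⟩) (.leaf ⟨174, 29904967, (some false), 175, 17043521⟩)))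
(.node 2 (.node 1 (.leaf ⟨175, 17043521, (some false), 174, 13113429⟩) (.leaf ⟨175, 13510735, (some false), 176, 17043521⟩)) (.node 1 (.leaf ⟨176, 17043521, (some false), 175, 29761631⟩) (.leaf ⟨25, 4798537, none, 176, 27547743⟩))))
(.node 4 (.node 2 (.node 1 (.leaf ⟨176, 17043521, none, 25, 30169157⟩) (.leaf ⟨175, 9179225, none, 43, 17111125⟩)) (.node 1 (.leaf ⟨175, 17043521, none, 43, 25761877⟩) (.leaf ⟨43, 4808797, (some false), 174, 23623769⟩)))
(.node 2 (.node 1 (.leaf ⟨43, 27529303, (some false), 174, 15208543⟩) (.leaf ⟨43, 23928925, (some false), 174, 4733021⟩)) (.node 1 (.leaf ⟨43, 6776923, (some false), 174, 21524561⟩) (.node 1 (.leaf ⟨174, 4730945, none, 174, 23623769⟩) (.leaf ⟨174, 29904969, none, 174, 21524561⟩))))))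
(.node 9 (.node 4 (.node 2 (.node 1 (.leaf ⟨174, 17043521, none, 174, 4472925⟩) (.leaf ⟨174, 31801425, (some false), 158, 31936601⟩)) (.node 1 (.leaf ⟨174, 17043521, none, 174, 27539549⟩) (.leaf ⟨174, 27529303, (some false), 158, 29759565⟩)))
(.node 2 (.node 1 (.leaf ⟨174, 23928925, (some false), 158, 29759557⟩) (.leaf ⟨43, 13510735, (some false), 177, 17043521⟩)) (.node 1 (.leaf ⟨177, 17043521, (some false), 43, 29761631⟩) (.node 1 (.leaf ⟨43, 29904967, (some false), 177, 17117249⟩) (.leaf ⟨43, 9056345, (some false), 177, 17242205⟩)))))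
(.node 4 (.node 2 (.node 1 (.leaf ⟨43, 13310023, (some false), 177, 17053769⟩) (.leaf ⟨177, 17633365, none, 177, 17043521⟩)) (.node 1 (.leaf ⟨177, 17764417, none, 177, 17043521⟩) (.leaf ⟨177, 17043521, none, 177, 17764417⟩)))
(.node 2 (.node 1 (.leaf ⟨177, 17043521, none, 177, 17633365⟩) (.leaf ⟨43, 4544593, (some true), 180, 17043521⟩)) (.node 1 (.leaf ⟨180, 17043521, (some true), 43, 21305409⟩) (.node 1 (.leaf ⟨43, 32125001, (some true), 180, 17070153⟩) (.leaf ⟨43, 13310023, (some true), 180, 27594833⟩)))))))))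

/-- The facts. -/
def caseDFullFactsLLRRR : Tab Fct :=
(.node 69 (.node 34 (.node 17 (.node 8 (.node 4 (.node 2 (.node 1 (.leaf ⟨43, 29904967, (some true), 180, 25770051⟩) (.leaf ⟨180, 17059905, none, 180, 17043521⟩)) (.node 1 (.leaf ⟨180, 25784409, none, 180, 25770051⟩) (.leaf ⟨180, 17043521, none, 180, 17051731⟩)))
(.node 2 (.node 1 (.leaf ⟨180, 17043521, none, 180, 17059905⟩) (.leaf ⟨43, 17059919, (some true), 183, 17043521⟩)) (.node 1 (.leaf ⟨183, 17043521, (some true), 43, 17043535⟩) (.leaf ⟨43, 17043521, (some true), 183, 17578065⟩))))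
(.node 4 (.node 2 (.node 1 (.leaf ⟨43, 19085399, (some true), 183, 19222601⟩) (.leaf ⟨43, 25385043, (some true), 183, 11079747⟩)) (.node 1 (.leaf ⟨43, 31801425, (some true), 183, 17125465⟩) (.leaf ⟨43, 13510735, (some true), 183, 25522251⟩)))
(.node 2 (.node 1 (.leaf ⟨43, 4808797, (some true), 183, 11022417⟩) (.leaf ⟨43, 32131155, (some true), 183, 19730521⟩)) (.node 1 (.leaf ⟨183, 17070161, none, 183, 17578065⟩) (.node 1 (.leaf ⟨183, 17043521, none, 183, 17584193⟩) (.leaf ⟨183, 17043521, (some false), 186, 17043521⟩))))))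
(.node 8 (.node 4 (.node 2 (.node 1 (.leaf ⟨186, 17045569, none, 186, 17043521⟩) (.leaf ⟨186, 17043521, none, 186, 17045569⟩)) (.node 1 (.leaf ⟨180, 29904967, (some false), 190, 17043521⟩) (.leaf ⟨190, 17043521, (some false), 180, 13113429⟩)))
(.node 2 (.node 1 (.leaf ⟨190, 17059931, none, 190, 17043521⟩) (.leaf ⟨190, 17051739, none, 190, 17043521⟩)) (.node 1 (.leaf ⟨190, 17043521, none, 190, 17051739⟩) (.leaf ⟨190, 17043521, none, 190, 17059931⟩))))
(.node 4 (.node 2 (.node 1 (.leaf ⟨190, 17043521, (some true), 191, 17043521⟩) (.leaf ⟨191, 17043521, (some true), 190, 17059921⟩)) (.node 1 (.leaf ⟨186, 23928925, (some false), 198, 17043521⟩) (.leaf ⟨186, 13310023, (some false), 198, 17244235⟩)))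
(.node 2 (.node 1 (.leaf ⟨198, 31801425, (some false), 199, 17043521⟩) (.leaf ⟨199, 17043521, (some false), 198, 14958673⟩)) (.node 1 (.leaf ⟨199, 27529303, (some false), 200, 17043521⟩) (.node 1 (.leaf ⟨200, 17043521, (some false), 199, 25516101⟩) (.leaf ⟨43, 17111129, none, 200, 28194893⟩)))))))
(.node 17 (.node 8 (.node 4 (.node 2 (.node 1 (.leaf ⟨200, 17043521, none, 43, 15687765⟩) (.leaf ⟨199, 27531337, none, 177, 17043521⟩)) (.node 1 (.leaf ⟨199, 17043521, none, 177, 27531337⟩) (.leaf ⟨177, 27529303, (some false), 198, 30163017⟩)))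
(.node 2 (.node 1 (.leaf ⟨177, 13310023, (some false), 198, 9322573⟩) (.leaf ⟨177, 6776923, (some false), 198, 21250129⟩)) (.node 1 (.leaf ⟨177, 29904967, (some false), 198, 25575491⟩) (.leaf ⟨183, 29904967, (some false), 201, 17043521⟩))))
(.node 4 (.node 2 (.node 1 (.leaf ⟨201, 17043521, (some false), 183, 13113429⟩) (.leaf ⟨201, 29904967, (some false), 202, 17043521⟩)) (.node 1 (.leaf ⟨202, 17043521, (some false), 201, 13113429⟩) (.leaf ⟨202, 13510735, (some false), 203, 17043521⟩)))
(.node 2 (.node 1 (.leaf ⟨203, 17043521, (some false), 202, 29761631⟩) (.leaf ⟨203, 27529303, (some false), 204, 17043521⟩)) (.node 1 (.leaf ⟨204, 17043521, (some false), 203, 25516101⟩) (.node 1 (.leaf ⟨43, 21768281, none, 204, 28266571⟩) (.leaf ⟨204, 17043521, none, 43, 4796511⟩))))))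
(.node 9 (.node 4 (.node 2 (.node 1 (.leaf ⟨203, 15620177, none, 174, 23623769⟩) (.leaf ⟨203, 17043521, none, 174, 5056591⟩)) (.node 1 (.leaf ⟨174, 13310023, (some false), 202, 23294047⟩) (.leaf ⟨174, 13510735, (some false), 202, 11360347⟩)))
(.node 2 (.node 1 (.leaf ⟨174, 19085399, (some false), 202, 21110873⟩) (.leaf ⟨174, 7292999, (some false), 202, 9197637⟩)) (.node 1 (.leaf ⟨183, 4808797, (some false), 205, 17043521⟩) (.node 1 (.leaf ⟨205, 17043521, (some false), 183, 23685197⟩) (.leaf ⟨205, 31801425, (some false), 206, 17043521⟩)))))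
(.node 4 (.node 2 (.node 1 (.leaf ⟨206, 17043521, (some false), 205, 14958673⟩) (.leaf ⟨206, 27529303, (some false), 207, 17043521⟩)) (.node 1 (.leaf ⟨207, 17043521, (some false), 206, 25516101⟩) (.leaf ⟨207, 23928925, (some false), 208, 17043521⟩)))
(.node 2 (.node 1 (.leaf ⟨208, 17043521, (some false), 207, 4991053⟩) (.leaf ⟨43, 4989003, none, 208, 27410515⟩)) (.node 1 (.leaf ⟨208, 17043521, none, 43, 9001043⟩) (.node 1 (.leaf ⟨207, 31746127, none, 174, 23623769⟩) (.leaf ⟨207, 17043521, none, 174, 25641049⟩))))))))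
(.node 35 (.node 17 (.node 8 (.node 4 (.node 2 (.node 1 (.leaf ⟨206, 13586511, none, 158, 31936601⟩) (.leaf ⟨206, 17043521, none, 158, 8982599⟩)) (.node 1 (.leaf ⟨158, 4808797, (some false), 205, 23871559⟩) (.leaf ⟨158, 27529303, (some false), 205, 30097473⟩)))
(.node 2 (.node 1 (.leaf ⟨69, 32125001, (some false), 209, 17043521⟩) (.leaf ⟨209, 19085399, (some false), 210, 17043521⟩)) (.node 1 (.leaf ⟨210, 17043521, (some false), 209, 19560517⟩) (.leaf ⟨46, 11409491, none, 210, 19030101⟩))))
(.node 4 (.node 2 (.node 1 (.leaf ⟨210, 17043521, none, 46, 21375051⟩) (.leaf ⟨209, 19099735, none, 69, 6707285⟩)) (.node 1 (.leaf ⟨209, 17043521, none, 69, 9136195⟩) (.leaf ⟨46, 25385043, (some true), 211, 17043521⟩)))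
(.node 2 (.node 1 (.leaf ⟨46, 19085399, (some true), 211, 11024467⟩) (.leaf ⟨46, 17059919, (some true), 211, 11104321⟩)) (.node 1 (.leaf ⟨46, 17043521, (some true), 211, 8990787⟩) (.node 1 (.leaf ⟨46, 11495495, (some true), 211, 11366465⟩) (.leaf ⟨46, 10971209, (some true), 211, 17633363⟩))))))
(.node 9 (.node 4 (.node 2 (.node 1 (.leaf ⟨211, 25778251, none, 211, 8990787⟩) (.leaf ⟨211, 17043521, none, 211, 27547739⟩)) (.node 1 (.leaf ⟨46, 4544593, (some true), 214, 17043521⟩) (.leaf ⟨214, 17043521, (some true), 46, 21305409⟩)))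
(.node 2 (.node 1 (.leaf ⟨46, 4808797, (some true), 214, 11366491⟩) (.leaf ⟨46, 29904967, (some true), 214, 25448515⟩)) (.node 1 (.leaf ⟨46, 31801425, (some true), 214, 17117257⟩) (.node 1 (.leaf ⟨46, 32125001, (some true), 214, 27537475⟩) (.leaf ⟨46, 32131155, (some true), 214, 25440321⟩)))))
(.node 4 (.node 2 (.node 1 (.leaf ⟨46, 13310023, (some true), 214, 11079745⟩) (.leaf ⟨46, 13510735, (some true), 214, 17125467⟩)) (.node 1 (.leaf ⟨214, 25442377, none, 214, 17043521⟩) (.leaf ⟨214, 11278419, none, 214, 25440321⟩)))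
(.node 2 (.node 1 (.leaf ⟨214, 17043521, none, 214, 8999001⟩) (.leaf ⟨214, 17043521, none, 214, 25442377⟩)) (.node 1 (.leaf ⟨214, 17059919, (some true), 215, 17043521⟩) (.node 1 (.leaf ⟨215, 17059919, (some true), 216, 17043521⟩) (.leaf ⟨216, 17043521, (some true), 215, 17043535⟩)))))))
(.node 17 (.node 8 (.node 4 (.node 2 (.node 1 (.leaf ⟨46, 32321603, none, 216, 17133637⟩) (.leaf ⟨216, 17043521, none, 46, 7098461⟩)) (.node 1 (.leaf ⟨215, 25786447, none, 214, 25448515⟩) (.leaf ⟨215, 17043521, none, 214, 17657933⟩)))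
(.node 2 (.node 1 (.leaf ⟨214, 19085399, (some false), 217, 17043521⟩) (.leaf ⟨217, 17043521, (some false), 214, 19560517⟩)) (.node 1 (.leaf ⟨214, 29904967, (some false), 217, 17524807⟩) (.leaf ⟨214, 17043521, (some false), 217, 17068125⟩))))
(.node 4 (.node 2 (.node 1 (.leaf ⟨214, 4808797, (some false), 217, 17651785⟩) (.leaf ⟨214, 13510735, (some false), 217, 17260633⟩)) (.node 1 (.leaf ⟨214, 27529303, (some false), 217, 17068117⟩) (.leaf ⟨211, 19085399, (some false), 221, 17043521⟩)))
(.node 2 (.node 1 (.leaf ⟨221, 17043521, (some false), 211, 19560517⟩) (.leaf ⟨211, 13510735, (some false), 221, 17768539⟩)) (.node 1 (.leaf ⟨221, 19085399, (some false), 222, 17043521⟩) (.node 1 (.leaf ⟨222, 19085399, (some false), 223, 17043521⟩) (.leaf ⟨223, 17043521, (some false), 222, 19560517⟩))))))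
(.node 9 (.node 4 (.node 2 (.node 1 (.leaf ⟨223, 11495495, (some true), 224, 17043521⟩) (.leaf ⟨224, 17043521, (some true), 223, 10971207⟩)) (.node 1 (.leaf ⟨46, 11472965, none, 224, 11294785⟩) (.leaf ⟨224, 17043521, none, 46, 17526877⟩)))
(.node 2 (.node 1 (.leaf ⟨223, 10641501, none, 211, 11024467⟩) (.leaf ⟨223, 17043521, none, 211, 17522777⟩)) (.node 1 (.leaf ⟨211, 17043521, (some false), 222, 19271771⟩) (.node 1 (.leaf ⟨211, 27529303, (some false), 222, 19861571⟩) (.leaf ⟨221, 32125001, (some false), 228, 17043521⟩)))))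
(.node 4 (.node 2 (.node 1 (.leaf ⟨228, 17043521, (some false), 221, 14905419⟩) (.leaf ⟨228, 27529303, (some false), 229, 17043521⟩)) (.node 1 (.leaf ⟨229, 17043521, (some false), 228, 25516101⟩) (.leaf ⟨229, 23928925, (some false), 230, 17043521⟩)))
(.node 2 (.node 1 (.leaf ⟨230, 17043521, (some false), 229, 4991053⟩) (.leaf ⟨46, 9324627, none, 230, 28262491⟩)) (.node 1 (.leaf ⟨230, 17043521, none, 46, 23402583⟩) (.node 1 (.leaf ⟨229, 31610971, none, 69, 31668289⟩) (.leaf ⟨229, 17043521, none, 69, 17135705⟩)))))))))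

/-- The facts. -/
def caseDFullFactsLLRR : Tab Fct := .node 139 caseDFullFactsLLRRL caseDFullFactsLLRRR

/-- The facts. -/
def caseDFullFactsLLR : Tab Fct := .node 278 caseDFullFactsLLRL caseDFullFactsLLRR

/-- The facts. -/
def caseDFullFactsLL : Tab Fct := .node 555 caseDFullFactsLLL caseDFullFactsLLR

/-- The facts. -/
def caseDFullFactsLRLLL : Tab Fct :=
(.node 69 (.node 34 (.node 17 (.node 8 (.node 4 (.node 2 (.node 1 (.leaf ⟨228, 6971463, none, 52, 21979225⟩) (.leaf ⟨228, 17043521, none, 52, 9048149⟩)) (.node 1 (.leaf ⟨221, 9136205, none, 66, 17043521⟩) (.leaf ⟨221, 17043521, none, 66, 23621709⟩)))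
(.node 2 (.node 1 (.leaf ⟨211, 19740745, none, 52, 25825351⟩) (.leaf ⟨222, 17508445, none, 95, 7100499⟩)) (.node 1 (.leaf ⟨222, 17043521, none, 95, 25895007⟩) (.leaf ⟨211, 17043521, none, 52, 10909765⟩))))
(.node 4 (.node 2 (.node 1 (.leaf ⟨222, 19542109, none, 69, 17043521⟩) (.leaf ⟨95, 7229525, none, 69, 17043521⟩)) (.node 1 (.leaf ⟨95, 17043521, none, 69, 23480389⟩) (.leaf ⟨69, 7292999, (some false), 94, 21569615⟩)))
(.node 2 (.node 1 (.leaf ⟨69, 19085399, (some false), 96, 17782855⟩) (.leaf ⟨217, 10971209, (some false), 231, 17043521⟩)) (.node 1 (.leaf ⟨231, 13310023, (some false), 232, 17043521⟩) (.node 1 (.leaf ⟨232, 17043521, (some false), 231, 29511765⟩) (.leaf ⟨232, 29904967, (some false), 233, 17043521⟩))))))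
(.node 8 (.node 4 (.node 2 (.node 1 (.leaf ⟨233, 17043521, (some false), 232, 13113429⟩) (.leaf ⟨46, 31791191, none, 233, 27621447⟩)) (.node 1 (.leaf ⟨233, 17043521, none, 46, 4479065⟩) (.leaf ⟨232, 4728915, none, 69, 27928641⟩)))
(.node 2 (.node 1 (.leaf ⟨232, 17043521, none, 69, 13373515⟩) (.leaf ⟨69, 9056345, (some false), 231, 23930963⟩)) (.node 1 (.leaf ⟨69, 6776923, (some false), 231, 25655375⟩) (.leaf ⟨69, 4808797, (some false), 231, 10907721⟩))))
(.node 4 (.node 2 (.node 1 (.leaf ⟨69, 29904967, (some false), 231, 15339615⟩) (.leaf ⟨69, 13510735, (some false), 231, 21968985⟩)) (.node 1 (.leaf ⟨69, 27529303, (some false), 231, 27990089⟩) (.leaf ⟨69, 23928925, (some false), 231, 9318493⟩)))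
(.node 2 (.node 1 (.leaf ⟨231, 10975297, none, 231, 25655375⟩) (.leaf ⟨231, 17043521, none, 231, 31723593⟩)) (.node 1 (.leaf ⟨49, 6776923, (some false), 234, 17043521⟩) (.node 1 (.leaf ⟨234, 17043521, (some false), 49, 21979225⟩) (.leaf ⟨49, 13310023, (some false), 234, 17524825⟩)))))))
(.node 17 (.node 8 (.node 4 (.node 2 (.node 1 (.leaf ⟨49, 9056345, (some false), 234, 16939079⟩) (.leaf ⟨49, 23928925, (some false), 234, 17717331⟩)) (.node 1 (.leaf ⟨234, 17127495, none, 234, 17717331⟩) (.leaf ⟨234, 17246299, none, 234, 17524825⟩)))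
(.node 2 (.node 1 (.leaf ⟨234, 17043521, none, 234, 17780803⟩) (.leaf ⟨234, 17043521, none, 234, 17174599⟩)) (.node 1 (.leaf ⟨94, 13510735, (some false), 240, 17043521⟩) (.leaf ⟨240, 17043521, (some false), 94, 29761631⟩))))
(.node 4 (.node 2 (.node 1 (.leaf ⟨240, 17059919, (some true), 241, 17043521⟩) (.leaf ⟨241, 17043521, (some true), 240, 17043535⟩)) (.node 1 (.leaf ⟨49, 17584217, none, 241, 17649733⟩) (.leaf ⟨241, 17043521, none, 49, 17109087⟩)))
(.node 2 (.node 1 (.leaf ⟨240, 17111135, none, 50, 17043521⟩) (.leaf ⟨240, 17111135, none, 49, 17043551⟩)) (.node 1 (.leaf ⟨240, 17043521, none, 49, 17111105⟩) (.node 1 (.leaf ⟨94, 13508687, none, 56, 17043521⟩) (.leaf ⟨94, 17043521, none, 56, 25317459⟩))))))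
(.node 9 (.node 4 (.node 2 (.node 1 (.leaf ⟨56, 6776923, (some false), 95, 17176661⟩) (.leaf ⟨56, 13310023, (some false), 95, 16916545⟩)) (.node 1 (.leaf ⟨56, 23928925, (some false), 95, 17633365⟩) (.leaf ⟨49, 4544593, (some true), 242, 17043521⟩)))
(.node 2 (.node 1 (.leaf ⟨49, 13510735, (some true), 242, 27621457⟩) (.leaf ⟨49, 13310023, (some true), 242, 25696337⟩)) (.node 1 (.leaf ⟨49, 31801425, (some true), 242, 17043531⟩) (.node 1 (.leaf ⟨49, 32131155, (some true), 242, 17045577⟩) (.leaf ⟨49, 29904967, (some true), 242, 25450563⟩)))))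
(.node 4 (.node 2 (.node 1 (.leaf ⟨49, 4808797, (some true), 242, 9179227⟩) (.leaf ⟨49, 32125001, (some true), 242, 17119307⟩)) (.node 1 (.leaf ⟨242, 25456723, none, 242, 27621457⟩) (.leaf ⟨242, 19140681, none, 242, 17043531⟩)))
(.node 2 (.node 1 (.leaf ⟨242, 17053771, none, 242, 17119307⟩) (.leaf ⟨242, 27791441, none, 242, 25696337⟩)) (.node 1 (.leaf ⟨242, 17043521, none, 242, 19142721⟩) (.node 1 (.leaf ⟨242, 17043521, none, 242, 17109057⟩) (.leaf ⟨242, 17043521, none, 242, 19140675⟩))))))))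
(.node 35 (.node 17 (.node 8 (.node 4 (.node 2 (.node 1 (.leaf ⟨242, 17043521, none, 242, 19208259⟩) (.leaf ⟨242, 27529303, (some false), 243, 17043521⟩)) (.node 1 (.leaf ⟨242, 13510735, (some false), 243, 17446999⟩) (.leaf ⟨243, 17463367, none, 243, 17446999⟩)))
(.node 2 (.node 1 (.leaf ⟨243, 17059905, none, 243, 17043521⟩) (.leaf ⟨243, 17043521, none, 243, 17059905⟩)) (.node 1 (.leaf ⟨243, 17043521, none, 243, 17059921⟩) (.leaf ⟨242, 19085399, (some false), 247, 17043521⟩))))
(.node 4 (.node 2 (.node 1 (.leaf ⟨247, 17043521, (some false), 242, 19560517⟩) (.leaf ⟨242, 17043521, (some false), 247, 16920655⟩)) (.node 1 (.leaf ⟨247, 17059921, none, 247, 17043521⟩) (.leaf ⟨247, 17444959, none, 247, 16920655⟩)))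
(.node 2 (.node 1 (.leaf ⟨247, 16937039, none, 247, 16920655⟩) (.leaf ⟨247, 17043521, none, 247, 17059905⟩)) (.node 1 (.leaf ⟨247, 17043521, none, 247, 17567825⟩) (.node 1 (.leaf ⟨247, 17043521, none, 247, 17059921⟩) (.leaf ⟨247, 7292999, (some false), 256, 17043521⟩))))))
(.node 9 (.node 4 (.node 2 (.node 1 (.leaf ⟨256, 17043521, (some false), 247, 21448789⟩) (.leaf ⟨247, 32125001, (some false), 256, 16984149⟩)) (.node 1 (.leaf ⟨256, 17174615, none, 256, 17043521⟩) (.leaf ⟨256, 17442911, none, 256, 16984149⟩)))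
(.node 2 (.node 1 (.leaf ⟨256, 17043521, none, 256, 17633349⟩) (.leaf ⟨256, 17043521, none, 256, 17174615⟩)) (.node 1 (.leaf ⟨256, 10971209, (some false), 257, 17043521⟩) (.node 1 (.leaf ⟨257, 17043521, (some false), 256, 9396299⟩) (.leaf ⟨257, 13310023, (some false), 258, 17043521⟩)))))
(.node 4 (.node 2 (.node 1 (.leaf ⟨258, 17043521, (some false), 257, 29511765⟩) (.leaf ⟨49, 13385809, none, 258, 27807833⟩)) (.node 1 (.leaf ⟨258, 17043521, none, 49, 23666779⟩) (.leaf ⟨257, 13310017, none, 52, 17180759⟩)))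
(.node 2 (.node 1 (.leaf ⟨257, 17043521, none, 52, 13127753⟩) (.leaf ⟨52, 29904967, (some false), 256, 10971217⟩)) (.node 1 (.leaf ⟨52, 13510735, (some false), 256, 27469893⟩) (.node 1 (.leaf ⟨52, 27529303, (some false), 256, 15038537⟩) (.leaf ⟨52, 4808797, (some false), 256, 4477023⟩)))))))
(.node 17 (.node 8 (.node 4 (.node 2 (.node 1 (.leaf ⟨52, 10971209, (some false), 256, 13332567⟩) (.leaf ⟨52, 32125001, (some false), 256, 9330759⟩)) (.node 1 (.leaf ⟨242, 4808797, (some false), 259, 17043521⟩) (.leaf ⟨259, 17043521, (some false), 242, 23685197⟩)))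
(.node 2 (.node 1 (.leaf ⟨242, 29904967, (some false), 259, 17784923⟩) (.leaf ⟨259, 17768539, none, 259, 17784923⟩)) (.node 1 (.leaf ⟨259, 17584193, none, 259, 17043521⟩) (.leaf ⟨259, 17768523, none, 259, 17784923⟩))))
(.node 4 (.node 2 (.node 1 (.leaf ⟨259, 17043521, none, 259, 17059921⟩) (.leaf ⟨259, 17043521, none, 259, 17584193⟩)) (.node 1 (.leaf ⟨259, 17043521, none, 259, 17059905⟩) (.leaf ⟨259, 32125001, (some false), 260, 17043521⟩)))
(.node 2 (.node 1 (.leaf ⟨260, 17043521, (some false), 259, 14905419⟩) (.leaf ⟨259, 7292999, (some false), 260, 16998477⟩)) (.node 1 (.leaf ⟨260, 17002591, none, 260, 16998477⟩) (.node 1 (.leaf ⟨260, 16984155, none, 260, 16998477⟩) (.leaf ⟨260, 17043521, none, 260, 17061977⟩))))))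
(.node 9 (.node 4 (.node 2 (.node 1 (.leaf ⟨260, 17043521, none, 260, 17053779⟩) (.leaf ⟨260, 29904967, (some false), 261, 17043521⟩)) (.node 1 (.leaf ⟨261, 17043521, (some false), 260, 13113429⟩) (.leaf ⟨261, 17053761, none, 261, 17043521⟩)))
(.node 2 (.node 1 (.leaf ⟨261, 17043521, none, 261, 17053761⟩) (.leaf ⟨261, 4808797, (some false), 262, 17043521⟩)) (.node 1 (.leaf ⟨262, 17043521, (some false), 261, 23685197⟩) (.node 1 (.leaf ⟨49, 12935261, none, 262, 27672671⟩) (.leaf ⟨262, 17043521, none, 49, 9062467⟩)))))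
(.node 4 (.node 2 (.node 1 (.leaf ⟨49, 7292999, (some false), 261, 11090001⟩) (.leaf ⟨49, 10971209, (some false), 261, 25776211⟩)) (.node 1 (.leaf ⟨49, 31801425, (some false), 261, 21590097⟩) (.leaf ⟨261, 23689289, none, 261, 21590097⟩)))
(.node 2 (.node 1 (.leaf ⟨261, 32073815, none, 261, 11090001⟩) (.leaf ⟨261, 17043521, none, 261, 14968919⟩)) (.node 1 (.leaf ⟨261, 17043521, none, 261, 19142751⟩) (.node 1 (.leaf ⟨261, 19085399, (some false), 260, 23617617⟩) (.leaf ⟨261, 13310023, (some false), 260, 6828111⟩)))))))))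

/-- The facts. -/
def caseDFullFactsLRLLR : Tab Fct :=
(.node 69 (.node 34 (.node 17 (.node 8 (.node 4 (.node 2 (.node 1 (.leaf ⟨261, 7292999, (some false), 260, 11038785⟩) (.leaf ⟨261, 13510735, (some false), 260, 27799641⟩)) (.node 1 (.leaf ⟨243, 6776923, (some false), 263, 17043521⟩) (.leaf ⟨263, 10971209, (some false), 264, 17043521⟩)))
(.node 2 (.node 1 (.leaf ⟨264, 17043521, (some false), 263, 9396299⟩) (.leaf ⟨264, 13310023, (some false), 265, 17043521⟩)) (.node 1 (.leaf ⟨265, 17043521, (some false), 264, 29511765⟩) (.leaf ⟨49, 32002131, none, 265, 27809857⟩))))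
(.node 4 (.node 2 (.node 1 (.leaf ⟨265, 17043521, none, 49, 31725643⟩) (.leaf ⟨264, 21325889, none, 234, 16939079⟩)) (.node 1 (.leaf ⟨264, 17043521, none, 234, 13525087⟩) (.leaf ⟨234, 13510735, (some false), 263, 8806473⟩)))
(.node 2 (.node 1 (.leaf ⟨234, 6776923, (some false), 263, 21762141⟩) (.leaf ⟨234, 29904967, (some false), 263, 25829445⟩)) (.node 1 (.leaf ⟨234, 23928925, (some false), 263, 23926859⟩) (.node 1 (.leaf ⟨234, 4808797, (some false), 263, 23861319⟩) (.leaf ⟨234, 13310023, (some false), 263, 9068635⟩))))))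
(.node 8 (.node 4 (.node 2 (.node 1 (.leaf ⟨52, 17043521, (some true), 268, 17043521⟩) (.leaf ⟨268, 17043521, (some true), 52, 17059921⟩)) (.node 1 (.leaf ⟨52, 17059919, (some true), 268, 17125459⟩) (.leaf ⟨52, 10971209, (some true), 268, 25497681⟩)))
(.node 2 (.node 1 (.leaf ⟨52, 11495495, (some true), 268, 25458755⟩) (.leaf ⟨268, 17633347, none, 268, 17125459⟩)) (.node 1 (.leaf ⟨268, 17043521, none, 268, 17584209⟩) (.leaf ⟨52, 31801425, (some true), 271, 17043521⟩))))
(.node 4 (.node 2 (.node 1 (.leaf ⟨52, 32131155, (some true), 271, 19206209⟩) (.leaf ⟨52, 13510735, (some true), 271, 27547737⟩)) (.node 1 (.leaf ⟨52, 4808797, (some true), 271, 9203777⟩) (.leaf ⟨52, 4544593, (some true), 271, 25507907⟩)))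
(.node 2 (.node 1 (.leaf ⟨52, 32125001, (some true), 271, 25497675⟩) (.leaf ⟨52, 29904967, (some true), 271, 19222595⟩)) (.node 1 (.leaf ⟨52, 13310023, (some true), 271, 11016273⟩) (.node 1 (.leaf ⟨271, 27531339, none, 271, 17043521⟩) (.leaf ⟨271, 19148867, none, 271, 17043521⟩)))))))
(.node 17 (.node 8 (.node 4 (.node 2 (.node 1 (.leaf ⟨271, 17043521, none, 271, 19148867⟩) (.leaf ⟨271, 17043521, none, 271, 27531339⟩)) (.node 1 (.leaf ⟨268, 27529303, (some false), 274, 17043521⟩) (.leaf ⟨268, 4808797, (some false), 274, 17180743⟩)))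
(.node 2 (.node 1 (.leaf ⟨274, 25385043, (some true), 275, 17043521⟩) (.leaf ⟨275, 4808797, (some false), 276, 17043521⟩)) (.node 1 (.leaf ⟨276, 17043521, (some false), 275, 23685197⟩) (.leaf ⟨276, 10971209, (some true), 277, 17043521⟩))))
(.node 4 (.node 2 (.node 1 (.leaf ⟨277, 17043521, (some true), 276, 11495513⟩) (.leaf ⟨52, 8933459, none, 277, 27603013⟩)) (.node 1 (.leaf ⟨277, 17043521, none, 52, 11294805⟩) (.leaf ⟨276, 28198995, none, 268, 17125459⟩)))
(.node 2 (.node 1 (.leaf ⟨276, 17043521, none, 268, 7041089⟩) (.leaf ⟨268, 13510735, (some false), 275, 25784415⟩)) (.node 1 (.leaf ⟨268, 29904967, (some false), 275, 9009225⟩) (.node 1 (.leaf ⟨271, 4808797, (some false), 278, 17043521⟩) (.leaf ⟨278, 17125459, none, 278, 17043521⟩))))))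
(.node 9 (.node 4 (.node 2 (.node 1 (.leaf ⟨278, 17635409, none, 278, 17043521⟩) (.leaf ⟨278, 17043521, none, 278, 17635409⟩)) (.node 1 (.leaf ⟨278, 17043521, none, 278, 17125459⟩) (.leaf ⟨274, 19085399, (some false), 282, 17043521⟩)))
(.node 2 (.node 1 (.leaf ⟨282, 17043521, (some false), 274, 19560517⟩) (.leaf ⟨282, 19085399, (some false), 283, 17043521⟩)) (.node 1 (.leaf ⟨283, 17043521, (some false), 282, 19560517⟩) (.node 1 (.leaf ⟨283, 19085399, (some true), 284, 17043521⟩) (.leaf ⟨284, 17043521, (some true), 283, 19626071⟩)))))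
(.node 4 (.node 2 (.node 1 (.leaf ⟨52, 9388123, none, 284, 17133633⟩) (.leaf ⟨284, 17043521, none, 52, 10698841⟩)) (.node 1 (.leaf ⟨283, 10704965, none, 268, 25497681⟩) (.leaf ⟨283, 17043521, none, 268, 31991879⟩)))
(.node 2 (.node 1 (.leaf ⟨282, 19798103, none, 275, 9009225⟩) (.leaf ⟨282, 17043521, none, 275, 29894731⟩)) (.node 1 (.leaf ⟨275, 29904967, (some false), 274, 19877967⟩) (.node 1 (.leaf ⟨271, 29904967, (some false), 285, 17043521⟩) (.leaf ⟨268, 17043521, (some false), 289, 17043521⟩))))))))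
(.node 35 (.node 17 (.node 8 (.node 4 (.node 2 (.node 1 (.leaf ⟨289, 17043521, (some false), 268, 17127489⟩) (.leaf ⟨289, 23928925, (some false), 290, 17043521⟩)) (.node 1 (.leaf ⟨290, 17043521, (some false), 289, 4991053⟩) (.leaf ⟨290, 31801425, (some false), 291, 17043521⟩)))
(.node 2 (.node 1 (.leaf ⟨291, 17043521, (some false), 290, 14958673⟩) (.leaf ⟨291, 27529303, (some false), 292, 17043521⟩)) (.node 1 (.leaf ⟨292, 17043521, (some false), 291, 25516101⟩) (.leaf ⟨52, 17178717, none, 292, 27416671⟩))))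
(.node 4 (.node 2 (.node 1 (.leaf ⟨292, 17043521, none, 52, 15364163⟩) (.leaf ⟨291, 9244747, none, 256, 9330759⟩)) (.node 1 (.leaf ⟨291, 17043521, none, 256, 17246293⟩) (.leaf ⟨290, 21381209, none, 247, 21448789⟩)))
(.node 2 (.node 1 (.leaf ⟨290, 17043521, none, 247, 17111113⟩) (.leaf ⟨289, 6643777, none, 242, 19560517⟩)) (.node 1 (.leaf ⟨289, 17043521, none, 242, 13520979⟩) (.node 1 (.leaf ⟨268, 17119323, none, 243, 17446999⟩) (.leaf ⟨268, 17043521, none, 243, 17698887⟩))))))
(.node 9 (.node 4 (.node 2 (.node 1 (.leaf ⟨243, 19085399, (some true), 52, 19691593⟩) (.leaf ⟨274, 17246301, none, 263, 17043521⟩)) (.node 1 (.leaf ⟨243, 13310023, (some false), 275, 25778253⟩) (.leaf ⟨243, 9056345, (some false), 275, 13193281⟩)))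
(.node 2 (.node 1 (.leaf ⟨274, 17043521, none, 263, 16986203⟩) (.leaf ⟨263, 11495495, (some true), 275, 9261145⟩)) (.node 1 (.leaf ⟨271, 13510735, (some false), 293, 17043521⟩) (.node 1 (.leaf ⟨271, 27529303, (some false), 293, 17764425⟩) (.leaf ⟨271, 17043521, (some false), 293, 17176641⟩)))))
(.node 4 (.node 2 (.node 1 (.leaf ⟨271, 19085399, (some false), 293, 16920645⟩) (.leaf ⟨293, 29904967, (some false), 294, 17043521⟩)) (.node 1 (.leaf ⟨294, 17043521, (some false), 293, 13113429⟩) (.leaf ⟨294, 4808797, (some false), 295, 17043521⟩)))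
(.node 2 (.node 1 (.leaf ⟨295, 17043521, (some false), 294, 23685197⟩) (.leaf ⟨295, 31801425, (some false), 296, 17043521⟩)) (.node 1 (.leaf ⟨296, 17043521, (some false), 295, 14958673⟩) (.node 1 (.leaf ⟨52, 24057945, none, 296, 27807831⟩) (.leaf ⟨296, 17043521, none, 52, 7223381⟩)))))))
(.node 17 (.node 8 (.node 4 (.node 2 (.node 1 (.leaf ⟨295, 9388109, none, 69, 17111127⟩) (.leaf ⟨295, 17043521, none, 69, 4812887⟩)) (.node 1 (.leaf ⟨294, 4812887, none, 231, 10907721⟩) (.leaf ⟨294, 17043521, none, 231, 29823047⟩)))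
(.node 2 (.node 1 (.leaf ⟨231, 27529303, (some false), 293, 27793477⟩) (.leaf ⟨231, 10971209, (some false), 293, 21526599⟩)) (.node 1 (.leaf ⟨243, 19085399, (some false), 297, 17043521⟩) (.leaf ⟨297, 17043521, (some false), 243, 19560517⟩))))
(.node 4 (.node 2 (.node 1 (.leaf ⟨297, 17633363, none, 297, 17043521⟩) (.leaf ⟨297, 17043521, none, 297, 17633363⟩)) (.node 1 (.leaf ⟨297, 6776923, (some false), 298, 17043521⟩) (.leaf ⟨298, 17043521, (some false), 297, 21979225⟩)))
(.node 2 (.node 1 (.leaf ⟨297, 13310023, (some false), 298, 17246299⟩) (.leaf ⟨298, 7292999, (some false), 299, 17043521⟩)) (.node 1 (.leaf ⟨299, 17043521, (some false), 298, 21448789⟩) (.node 1 (.leaf ⟨299, 7292999, (some false), 300, 17043521⟩) (.leaf ⟨300, 17043521, (some false), 299, 21448789⟩))))))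
(.node 9 (.node 4 (.node 2 (.node 1 (.leaf ⟨52, 19165273, none, 300, 27478099⟩) (.leaf ⟨300, 17043521, none, 52, 4874327⟩)) (.node 1 (.leaf ⟨299, 11421787, none, 256, 27469893⟩) (.leaf ⟨299, 17043521, none, 256, 24068171⟩)))
(.node 2 (.node 1 (.leaf ⟨256, 31801425, (some false), 298, 25839709⟩) (.leaf ⟨56, 13510735, (some true), 303, 17043521⟩)) (.node 1 (.leaf ⟨56, 31801425, (some true), 303, 27611217⟩) (.node 1 (.leaf ⟨56, 13310023, (some true), 303, 11038809⟩) (.leaf ⟨56, 4544593, (some true), 303, 25450587⟩)))))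
(.node 4 (.node 2 (.node 1 (.leaf ⟨56, 4808797, (some true), 303, 19673163⟩) (.leaf ⟨56, 32131155, (some true), 303, 27547731⟩)) (.node 1 (.leaf ⟨56, 29904967, (some true), 303, 19214419⟩) (.leaf ⟨303, 19208259, none, 303, 17043521⟩)))
(.node 2 (.node 1 (.leaf ⟨303, 17119315, none, 303, 19214419⟩) (.leaf ⟨303, 9007195, none, 303, 11038809⟩)) (.node 1 (.leaf ⟨303, 17043521, none, 303, 19206211⟩) (.node 1 (.leaf ⟨303, 17043521, none, 303, 19142721⟩) (.leaf ⟨303, 17043521, none, 303, 19208259⟩)))))))))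

/-- The facts. -/
def caseDFullFactsLRLL : Tab Fct := .node 139 caseDFullFactsLRLLL caseDFullFactsLRLLR

/-- The facts. -/
def caseDFullFactsLRLRL : Tab Fct :=
(.node 69 (.node 34 (.node 17 (.node 8 (.node 4 (.node 2 (.node 1 (.leaf ⟨303, 27529303, (some false), 319, 17043521⟩) (.leaf ⟨303, 19085399, (some false), 323, 17043521⟩)) (.node 1 (.leaf ⟨303, 17043521, (some false), 323, 17461327⟩) (.leaf ⟨323, 16920655, none, 323, 17461327⟩)))
(.node 2 (.node 1 (.leaf ⟨323, 16937039, none, 323, 17461327⟩) (.leaf ⟨323, 17043521, none, 323, 17567809⟩)) (.node 1 (.leaf ⟨323, 17043521, none, 323, 17584193⟩) (.leaf ⟨323, 7292999, (some false), 324, 17043521⟩))))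
(.node 4 (.node 2 (.node 1 (.leaf ⟨323, 32125001, (some false), 324, 17770567⟩) (.leaf ⟨324, 16984149, none, 324, 17770567⟩)) (.node 1 (.leaf ⟨324, 17043521, none, 324, 17764435⟩) (.leaf ⟨319, 13310023, (some false), 327, 17043521⟩)))
(.node 2 (.node 1 (.leaf ⟨327, 27529303, (some false), 328, 17043521⟩) (.leaf ⟨328, 17043521, (some false), 327, 25516101⟩)) (.node 1 (.leaf ⟨328, 9056345, (some false), 329, 17043521⟩) (.node 1 (.leaf ⟨329, 17043521, (some false), 328, 10711131⟩) (.leaf ⟨56, 23926853, none, 329, 27416659⟩))))))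
(.node 8 (.node 4 (.node 2 (.node 1 (.leaf ⟨329, 17043521, none, 56, 4728901⟩) (.leaf ⟨56, 29904967, (some false), 328, 29626451⟩)) (.node 1 (.leaf ⟨56, 27529303, (some false), 328, 28266575⟩) (.leaf ⟨56, 4808797, (some false), 328, 15345747⟩)))
(.node 2 (.node 1 (.leaf ⟨56, 13510735, (some false), 328, 15472709⟩) (.leaf ⟨328, 4485193, none, 328, 29626451⟩)) (.node 1 (.leaf ⟨328, 17043521, none, 328, 4472919⟩) (.leaf ⟨328, 31801425, (some false), 327, 23226451⟩))))
(.node 4 (.node 2 (.node 1 (.leaf ⟨323, 10971209, (some false), 330, 17043521⟩) (.leaf ⟨330, 17043521, (some false), 323, 9396299⟩)) (.node 1 (.leaf ⟨330, 13310023, (some false), 331, 17043521⟩) (.leaf ⟨331, 17043521, (some false), 330, 29511765⟩)))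
(.node 2 (.node 1 (.leaf ⟨331, 29904967, (some false), 332, 17043521⟩) (.leaf ⟨332, 17043521, (some false), 331, 13113429⟩)) (.node 1 (.leaf ⟨56, 15601733, none, 332, 27594839⟩) (.node 1 (.leaf ⟨332, 17043521, none, 56, 13307995⟩) (.leaf ⟨331, 25720911, none, 95, 17633365⟩)))))))
(.node 17 (.node 8 (.node 4 (.node 2 (.node 1 (.leaf ⟨331, 25720911, none, 69, 24070225⟩) (.leaf ⟨331, 17043521, none, 69, 29501509⟩)) (.node 1 (.leaf ⟨330, 13377613, none, 231, 25655375⟩) (.leaf ⟨330, 17043521, none, 231, 9009219⟩)))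
(.node 2 (.node 1 (.leaf ⟨231, 4808797, (some false), 323, 13267031⟩) (.leaf ⟨88, 7292999, (some false), 333, 17043521⟩)) (.node 1 (.leaf ⟨333, 19085399, (some false), 334, 17043521⟩) (.leaf ⟨334, 17043521, (some false), 333, 19560517⟩))))
(.node 4 (.node 2 (.node 1 (.leaf ⟨66, 11225155, none, 334, 19814479⟩) (.leaf ⟨334, 17043521, none, 66, 12730459⟩)) (.node 1 (.leaf ⟨333, 19337291, none, 88, 24068167⟩) (.leaf ⟨333, 17043521, none, 88, 21841995⟩)))
(.node 2 (.node 1 (.leaf ⟨66, 17043521, (some true), 335, 17043521⟩) (.leaf ⟨66, 17059919, (some true), 335, 27547715⟩)) (.node 1 (.leaf ⟨66, 25385043, (some true), 338, 17043521⟩) (.node 1 (.leaf ⟨66, 10971209, (some true), 338, 11358273⟩) (.leaf ⟨66, 11495495, (some true), 338, 9246803⟩))))))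
(.node 9 (.node 4 (.node 2 (.node 1 (.leaf ⟨66, 19085399, (some true), 338, 25704521⟩) (.leaf ⟨66, 4544593, (some true), 338, 11360345⟩)) (.node 1 (.leaf ⟨66, 31801425, (some true), 338, 9261139⟩) (.leaf ⟨66, 29904967, (some true), 338, 8990801⟩)))
(.node 2 (.node 1 (.leaf ⟨66, 4808797, (some true), 338, 27799625⟩) (.leaf ⟨338, 27537483, none, 338, 17043521⟩)) (.node 1 (.leaf ⟨338, 25434185, none, 338, 17043521⟩) (.node 1 (.leaf ⟨338, 17043521, none, 338, 25434185⟩) (.leaf ⟨338, 17043521, none, 338, 27537483⟩)))))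
(.node 4 (.node 2 (.node 1 (.leaf ⟨338, 17043521, (some false), 339, 17043521⟩) (.leaf ⟨339, 17043521, (some false), 338, 17127489⟩)) (.node 1 (.leaf ⟨338, 13510735, (some false), 339, 17461331⟩) (.leaf ⟨338, 19085399, (some false), 339, 17659973⟩)))
(.node 2 (.node 1 (.leaf ⟨338, 27529303, (some false), 339, 16935003⟩) (.leaf ⟨339, 19085399, (some true), 340, 17043521⟩)) (.node 1 (.leaf ⟨340, 19085399, (some false), 341, 17043521⟩) (.node 1 (.leaf ⟨341, 17043521, (some false), 340, 19560517⟩) (.leaf ⟨341, 11495495, (some true), 342, 17043521⟩))))))))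
(.node 35 (.node 17 (.node 8 (.node 4 (.node 2 (.node 1 (.leaf ⟨342, 17043521, (some true), 341, 10971207⟩) (.leaf ⟨66, 11212889, none, 342, 27611205⟩)) (.node 1 (.leaf ⟨342, 17043521, none, 66, 8616015⟩) (.leaf ⟨341, 28199005, none, 338, 25704521⟩)))
(.node 2 (.node 1 (.leaf ⟨341, 17043521, none, 338, 19083357⟩) (.leaf ⟨340, 19085403, none, 339, 17659973⟩)) (.node 1 (.leaf ⟨340, 17043521, none, 339, 19814487⟩) (.leaf ⟨66, 13510735, (some true), 343, 17043521⟩))))
(.node 4 (.node 2 (.node 1 (.leaf ⟨343, 17043521, (some true), 66, 29763663⟩) (.leaf ⟨66, 13310023, (some true), 343, 9269331⟩)) (.node 1 (.leaf ⟨66, 32131155, (some true), 343, 25778249⟩) (.leaf ⟨66, 32125001, (some true), 343, 25456723⟩)))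
(.node 2 (.node 1 (.leaf ⟨343, 25440339, none, 343, 25778249⟩) (.leaf ⟨343, 17043521, none, 343, 17651795⟩)) (.node 1 (.leaf ⟨338, 4808797, (some false), 352, 17043521⟩) (.node 1 (.leaf ⟨352, 17043521, (some false), 338, 23685197⟩) (.leaf ⟨352, 17127505, none, 352, 17043521⟩))))))
(.node 9 (.node 4 (.node 2 (.node 1 (.leaf ⟨352, 17569875, none, 352, 17043521⟩) (.leaf ⟨352, 17043521, none, 352, 17569875⟩)) (.node 1 (.leaf ⟨352, 17043521, none, 352, 17127505⟩) (.leaf ⟨352, 19085399, (some false), 353, 17043521⟩)))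
(.node 2 (.node 1 (.leaf ⟨353, 17043521, (some false), 352, 19560517⟩) (.leaf ⟨353, 17586257, none, 353, 17043521⟩)) (.node 1 (.leaf ⟨353, 17125443, none, 353, 17043521⟩) (.node 1 (.leaf ⟨353, 17043521, none, 353, 17125443⟩) (.leaf ⟨353, 17043521, none, 353, 17586257⟩)))))
(.node 4 (.node 2 (.node 1 (.leaf ⟨353, 19085399, (some false), 354, 17043521⟩) (.leaf ⟨354, 17043521, (some false), 353, 19560517⟩)) (.node 1 (.leaf ⟨354, 10971209, (some true), 355, 17043521⟩) (.leaf ⟨355, 17043521, (some true), 354, 11495513⟩)))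
(.node 2 (.node 1 (.leaf ⟨66, 17717339, none, 355, 11286593⟩) (.leaf ⟨355, 17043521, none, 66, 28192843⟩)) (.node 1 (.leaf ⟨354, 9068625, none, 338, 17043521⟩) (.node 1 (.leaf ⟨354, 17043521, none, 338, 21524565⟩) (.leaf ⟨338, 29904967, (some false), 353, 19691589⟩)))))))
(.node 17 (.node 8 (.node 4 (.node 2 (.node 1 (.leaf ⟨339, 23928925, (some false), 356, 17043521⟩) (.leaf ⟨356, 17043521, (some false), 339, 4991053⟩)) (.node 1 (.leaf ⟨356, 31801425, (some false), 357, 17043521⟩) (.leaf ⟨357, 17043521, (some false), 356, 14958673⟩)))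
(.node 2 (.node 1 (.leaf ⟨357, 27529303, (some false), 358, 17043521⟩) (.leaf ⟨358, 17043521, (some false), 357, 25516101⟩)) (.node 1 (.leaf ⟨66, 11407455, none, 358, 27924565⟩) (.leaf ⟨358, 17043521, none, 66, 32118879⟩))))
(.node 4 (.node 2 (.node 1 (.leaf ⟨357, 21198929, none, 88, 10960979⟩) (.leaf ⟨357, 17043521, none, 88, 21981251⟩)) (.node 1 (.leaf ⟨88, 9056345, (some false), 356, 9060431⟩) (.leaf ⟨88, 27529303, (some false), 356, 23871583⟩)))
(.node 2 (.node 1 (.leaf ⟨88, 4808797, (some false), 356, 12861525⟩) (.leaf ⟨88, 13310023, (some false), 356, 6766685⟩)) (.node 1 (.leaf ⟨339, 13310023, (some false), 359, 17043521⟩) (.node 1 (.leaf ⟨359, 17043521, (some false), 339, 29511765⟩) (.leaf ⟨359, 29904967, (some false), 360, 17043521⟩))))))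
(.node 9 (.node 4 (.node 2 (.node 1 (.leaf ⟨360, 17043521, (some false), 359, 13113429⟩) (.leaf ⟨360, 13510735, (some false), 361, 17043521⟩)) (.node 1 (.leaf ⟨361, 17043521, (some false), 360, 29761631⟩) (.leaf ⟨66, 21831745, none, 361, 27531343⟩)))
(.node 2 (.node 1 (.leaf ⟨361, 17043521, none, 66, 29892685⟩) (.leaf ⟨360, 21129305, none, 52, 25825351⟩)) (.node 1 (.leaf ⟨360, 17043521, none, 52, 6824013⟩) (.node 1 (.leaf ⟨359, 4728915, none, 256, 10971217⟩) (.leaf ⟨359, 17043521, none, 256, 4862019⟩)))))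
(.node 4 (.node 2 (.node 1 (.leaf ⟨256, 13510735, (some false), 339, 7153729⟩) (.leaf ⟨353, 29904967, (some false), 362, 17043521⟩)) (.node 1 (.leaf ⟨362, 17043521, (some false), 353, 13113429⟩) (.leaf ⟨353, 4808797, (some false), 362, 17459281⟩)))
(.node 2 (.node 1 (.leaf ⟨353, 27529303, (some false), 362, 17764429⟩) (.leaf ⟨353, 13510735, (some false), 362, 17569879⟩)) (.node 1 (.leaf ⟨362, 27529303, (some false), 363, 17043521⟩) (.node 1 (.leaf ⟨363, 17043521, (some false), 362, 25516101⟩) (.leaf ⟨363, 23928925, (some false), 364, 17043521⟩)))))))))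

/-- The facts. -/
def caseDFullFactsLRLRR : Tab Fct :=
(.node 69 (.node 34 (.node 17 (.node 8 (.node 4 (.node 2 (.node 1 (.leaf ⟨364, 17043521, (some false), 363, 4991053⟩) (.leaf ⟨66, 19085403, none, 364, 28262475⟩)) (.node 1 (.leaf ⟨364, 17043521, none, 66, 7155781⟩) (.leaf ⟨363, 13379653, none, 88, 9060425⟩)))
(.node 2 (.node 1 (.leaf ⟨363, 17043521, none, 88, 7092305⟩) (.leaf ⟨362, 27555923, none, 356, 9060431⟩)) (.node 1 (.leaf ⟨362, 17043521, none, 356, 8874055⟩) (.leaf ⟨356, 32125001, (some false), 353, 25720925⟩))))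
(.node 4 (.node 2 (.node 1 (.leaf ⟨343, 4808797, (some false), 365, 17043521⟩) (.leaf ⟨365, 17043521, (some false), 343, 23685197⟩)) (.node 1 (.leaf ⟨343, 13510735, (some false), 365, 17178701⟩) (.leaf ⟨365, 7292999, (some false), 366, 17043521⟩)))
(.node 2 (.node 1 (.leaf ⟨366, 17043521, (some false), 365, 21448789⟩) (.leaf ⟨366, 7292999, (some false), 367, 17043521⟩)) (.node 1 (.leaf ⟨367, 17043521, (some false), 366, 21448789⟩) (.node 1 (.leaf ⟨367, 7292999, (some false), 368, 17043521⟩) (.leaf ⟨368, 17043521, (some false), 367, 21448789⟩))))))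
(.node 8 (.node 4 (.node 2 (.node 1 (.leaf ⟨66, 13256779, none, 368, 28198977⟩) (.leaf ⟨368, 17043521, none, 66, 15601751⟩)) (.node 1 (.leaf ⟨367, 21317703, none, 67, 17043521⟩) (.leaf ⟨367, 21317703, none, 7, 29956161⟩)))
(.node 2 (.node 1 (.leaf ⟨367, 17043521, none, 7, 27414613⟩) (.leaf ⟨366, 7161941, none, 14, 17705027⟩)) (.node 1 (.leaf ⟨366, 17043521, none, 14, 7092311⟩) (.leaf ⟨365, 30099535, none, 43, 5199945⟩))))
(.node 4 (.node 2 (.node 1 (.leaf ⟨365, 17043521, none, 43, 13181007⟩) (.leaf ⟨343, 25778243, none, 174, 23623769⟩)) (.node 1 (.leaf ⟨343, 17043521, none, 174, 4552787⟩) (.leaf ⟨174, 4544593, (some true), 66, 4669527⟩)))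
(.node 2 (.node 1 (.leaf ⟨174, 32125001, (some false), 365, 17649751⟩) (.leaf ⟨174, 12941379, none, 174, 23623769⟩)) (.node 1 (.leaf ⟨174, 17043521, none, 174, 15405151⟩) (.node 1 (.leaf ⟨158, 4857933, none, 158, 29761631⟩) (.leaf ⟨202, 23273545, none, 202, 9197637⟩)))))))
(.node 17 (.node 8 (.node 4 (.node 2 (.node 1 (.leaf ⟨202, 17043521, none, 202, 5128271⟩) (.leaf ⟨158, 17043521, none, 158, 13242459⟩)) (.node 1 (.leaf ⟨158, 32125001, (some true), 157, 11341917⟩) (.leaf ⟨158, 13310023, (some false), 159, 17045593⟩)))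
(.node 2 (.node 1 (.leaf ⟨159, 17070155, none, 159, 17045593⟩) (.leaf ⟨158, 32125001, (some false), 205, 31670361⟩)) (.node 1 (.leaf ⟨205, 9125969, none, 205, 30097473⟩) (.leaf ⟨205, 17043521, none, 205, 27529285⟩))))
(.node 4 (.node 2 (.node 1 (.leaf ⟨150, 19015747, none, 150, 19802193⟩) (.leaf ⟨150, 17043521, none, 150, 17698897⟩)) (.node 1 (.leaf ⟨150, 25385043, (some true), 25, 13117513⟩) (.leaf ⟨150, 13310023, (some false), 157, 17643591⟩)))
(.node 2 (.node 1 (.leaf ⟨69, 4808797, (some true), 385, 17043521⟩) (.leaf ⟨385, 17043521, (some true), 69, 21586013⟩)) (.node 1 (.leaf ⟨69, 31801425, (some true), 385, 25759809⟩) (.node 1 (.leaf ⟨69, 32131155, (some true), 385, 11016275⟩) (.leaf ⟨385, 17043521, (some false), 386, 17043521⟩))))))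
(.node 9 (.node 4 (.node 2 (.node 1 (.leaf ⟨386, 19085399, (some false), 387, 17043521⟩) (.leaf ⟨387, 19085399, (some false), 388, 17043521⟩)) (.node 1 (.leaf ⟨388, 25385043, (some true), 389, 17043521⟩) (.leaf ⟨389, 17043521, (some true), 388, 25892931⟩)))
(.node 2 (.node 1 (.leaf ⟨69, 23683159, none, 389, 25712713⟩) (.leaf ⟨389, 17043521, none, 69, 4538461⟩)) (.node 1 (.leaf ⟨388, 19814489, none, 385, 17043521⟩) (.node 1 (.leaf ⟨388, 17043521, none, 385, 19353693⟩) (.leaf ⟨386, 6776923, (some false), 393, 17043521⟩)))))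
(.node 4 (.node 2 (.node 1 (.leaf ⟨393, 7292999, (some false), 394, 17043521⟩) (.leaf ⟨394, 7292999, (some false), 395, 17043521⟩)) (.node 1 (.leaf ⟨395, 17043521, (some false), 394, 21448789⟩) (.leaf ⟨69, 15212611, none, 395, 27740233⟩)))
(.node 2 (.node 1 (.leaf ⟨395, 17043521, none, 69, 8605783⟩) (.leaf ⟨394, 29509705, none, 231, 9318493⟩)) (.node 1 (.leaf ⟨394, 17043521, none, 231, 32004175⟩) (.node 1 (.leaf ⟨386, 23928925, (some false), 396, 17043521⟩) (.leaf ⟨396, 17043521, (some false), 386, 4991053⟩))))))))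
(.node 35 (.node 17 (.node 8 (.node 4 (.node 2 (.node 1 (.leaf ⟨396, 31801425, (some false), 397, 17043521⟩) (.leaf ⟨397, 17043521, (some false), 396, 14958673⟩)) (.node 1 (.leaf ⟨397, 27529303, (some false), 398, 17043521⟩) (.leaf ⟨398, 17043521, (some false), 397, 25516101⟩)))
(.node 2 (.node 1 (.leaf ⟨69, 15345747, none, 398, 27416653⟩) (.leaf ⟨398, 17043521, none, 69, 23296089⟩)) (.node 1 (.leaf ⟨397, 29827157, none, 231, 21968985⟩) (.leaf ⟨397, 17043521, none, 231, 21569611⟩))))
(.node 4 (.node 2 (.node 1 (.leaf ⟨396, 32325717, none, 323, 13267031⟩) (.leaf ⟨396, 17043521, none, 323, 24004675⟩)) (.node 1 (.leaf ⟨386, 7151705, none, 324, 17043521⟩) (.leaf ⟨386, 17043521, none, 324, 14829643⟩)))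
(.node 2 (.node 1 (.leaf ⟨324, 31801425, (some false), 387, 17242179⟩) (.leaf ⟨324, 32125001, (some false), 393, 17178695⟩)) (.node 1 (.leaf ⟨74, 10971209, (some true), 405, 17043521⟩) (.node 1 (.leaf ⟨405, 17059919, (some true), 406, 17043521⟩) (.leaf ⟨406, 17059919, (some true), 407, 17043521⟩))))))
(.node 9 (.node 4 (.node 2 (.node 1 (.leaf ⟨407, 17043521, (some true), 406, 17043535⟩) (.leaf ⟨74, 17178707, none, 407, 25458775⟩)) (.node 1 (.leaf ⟨407, 17043521, none, 74, 26157143⟩) (.leaf ⟨74, 11495495, (some true), 406, 17635405⟩)))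
(.node 2 (.node 1 (.leaf ⟨74, 4808797, (some true), 408, 17043521⟩) (.leaf ⟨74, 29904967, (some true), 408, 17586249⟩)) (.node 1 (.leaf ⟨74, 32131155, (some true), 408, 25694275⟩) (.node 1 (.leaf ⟨74, 32125001, (some true), 408, 25704513⟩) (.leaf ⟨408, 27865153, none, 408, 25704513⟩)))))
(.node 4 (.node 2 (.node 1 (.leaf ⟨408, 17045571, none, 408, 17043521⟩) (.leaf ⟨408, 27799619, none, 408, 25704513⟩)) (.node 1 (.leaf ⟨408, 17043521, none, 408, 19142723⟩) (.leaf ⟨408, 17043521, none, 408, 17045571⟩)))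
(.node 2 (.node 1 (.leaf ⟨408, 17043521, none, 408, 19208257⟩) (.leaf ⟨408, 17059919, (some true), 409, 17043521⟩)) (.node 1 (.leaf ⟨409, 19208259, none, 409, 17043521⟩) (.node 1 (.leaf ⟨409, 17043523, none, 409, 17043521⟩) (.leaf ⟨409, 19142723, none, 409, 17043521⟩)))))))
(.node 17 (.node 8 (.node 4 (.node 2 (.node 1 (.leaf ⟨409, 17043521, none, 409, 19142723⟩) (.leaf ⟨409, 17043521, none, 409, 17043523⟩)) (.node 1 (.leaf ⟨409, 17043521, none, 409, 19208259⟩) (.leaf ⟨409, 17059919, (some true), 410, 17043521⟩)))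
(.node 2 (.node 1 (.leaf ⟨410, 17043521, (some true), 409, 17043535⟩) (.leaf ⟨74, 4991053, none, 410, 27531341⟩)) (.node 1 (.leaf ⟨410, 17043521, none, 74, 6891585⟩) (.leaf ⟨74, 31801425, (some true), 409, 27611229⟩))))
(.node 4 (.node 2 (.node 1 (.leaf ⟨74, 4544593, (some true), 409, 25516119⟩) (.leaf ⟨74, 13510735, (some true), 409, 17043541⟩)) (.node 1 (.leaf ⟨408, 29904967, (some false), 411, 17043521⟩) (.leaf ⟨408, 4808797, (some false), 411, 16939095⟩)))
(.node 2 (.node 1 (.leaf ⟨411, 17446999, none, 411, 16939095⟩) (.leaf ⟨411, 16922711, none, 411, 16939095⟩)) (.node 1 (.leaf ⟨411, 17043521, none, 411, 17059905⟩) (.node 1 (.leaf ⟨411, 17043521, none, 411, 17584193⟩) (.leaf ⟨409, 29904967, (some false), 415, 17043521⟩))))))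
(.node 9 (.node 4 (.node 2 (.node 1 (.leaf ⟨409, 4808797, (some false), 415, 16939079⟩) (.leaf ⟨415, 17446983, none, 415, 16939079⟩)) (.node 1 (.leaf ⟨415, 16939095, none, 415, 16939079⟩) (.leaf ⟨415, 17043521, none, 415, 17043537⟩)))
(.node 2 (.node 1 (.leaf ⟨415, 17043521, none, 415, 17584193⟩) (.leaf ⟨415, 29904967, (some false), 423, 17043521⟩)) (.node 1 (.leaf ⟨415, 13510735, (some false), 423, 17567839⟩) (.node 1 (.leaf ⟨423, 17586247, none, 423, 17567839⟩) (.leaf ⟨423, 17043521, none, 423, 17061961⟩)))))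
(.node 4 (.node 2 (.node 1 (.leaf ⟨423, 4808797, (some false), 424, 17043521⟩) (.leaf ⟨424, 17043521, (some false), 423, 23685197⟩)) (.node 1 (.leaf ⟨424, 31801425, (some false), 425, 17043521⟩) (.leaf ⟨425, 17043521, (some false), 424, 14958673⟩)))
(.node 2 (.node 1 (.leaf ⟨74, 21438535, none, 425, 27807821⟩) (.leaf ⟨425, 17043521, none, 74, 4876377⟩)) (.node 1 (.leaf ⟨424, 32129095, none, 84, 16939079⟩) (.node 1 (.leaf ⟨424, 17043521, none, 84, 4603969⟩) (.leaf ⟨84, 31801425, (some false), 423, 27865173⟩)))))))))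

/-- The facts. -/
def caseDFullFactsLRLR : Tab Fct := .node 139 caseDFullFactsLRLRL caseDFullFactsLRLRR

/-- The facts. -/
def caseDFullFactsLRL : Tab Fct := .node 278 caseDFullFactsLRLL caseDFullFactsLRLR

/-- The facts. -/
def caseDFullFactsLRRLL : Tab Fct :=
(.node 69 (.node 34 (.node 17 (.node 8 (.node 4 (.node 2 (.node 1 (.leaf ⟨84, 4808797, (some false), 423, 23672921⟩) (.leaf ⟨84, 10971209, (some false), 423, 32071769⟩)) (.node 1 (.leaf ⟨84, 27529303, (some false), 423, 29970505⟩) (.leaf ⟨411, 13510735, (some false), 426, 17043521⟩)))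
(.node 2 (.node 1 (.leaf ⟨411, 29904967, (some false), 426, 17567823⟩) (.leaf ⟨426, 17576029, none, 426, 17567823⟩)) (.node 1 (.leaf ⟨426, 17043521, none, 426, 17068115⟩) (.leaf ⟨426, 29904967, (some false), 427, 17043521⟩))))
(.node 4 (.node 2 (.node 1 (.leaf ⟨427, 17043521, (some false), 426, 13113429⟩) (.leaf ⟨427, 17068097, none, 427, 17043521⟩)) (.node 1 (.leaf ⟨427, 17043521, none, 427, 17068097⟩) (.leaf ⟨427, 13510735, (some false), 428, 17043521⟩)))
(.node 2 (.node 1 (.leaf ⟨428, 17043521, (some false), 427, 29761631⟩) (.leaf ⟨74, 14958663, none, 428, 27531357⟩)) (.node 1 (.leaf ⟨428, 17043521, none, 74, 12871761⟩) (.node 1 (.leaf ⟨74, 23928925, (some false), 427, 29775943⟩) (.leaf ⟨74, 9056345, (some false), 427, 4880475⟩))))))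
(.node 8 (.node 4 (.node 2 (.node 1 (.leaf ⟨74, 13310023, (some false), 427, 23291969⟩) (.leaf ⟨74, 6776923, (some false), 427, 9179207⟩)) (.node 1 (.leaf ⟨427, 9197653, none, 427, 29775943⟩) (.leaf ⟨427, 17043521, none, 427, 23531611⟩)))
(.node 2 (.node 1 (.leaf ⟨427, 32125001, (some false), 426, 32006233⟩) (.leaf ⟨427, 23928925, (some false), 426, 8919125⟩)) (.node 1 (.leaf ⟨427, 29904967, (some false), 426, 27801689⟩) (.leaf ⟨406, 13510735, (some false), 429, 17043521⟩))))
(.node 4 (.node 2 (.node 1 (.leaf ⟨429, 4808797, (some false), 430, 17043521⟩) (.leaf ⟨430, 31801425, (some false), 431, 17043521⟩)) (.node 1 (.leaf ⟨431, 17043521, (some false), 430, 14958673⟩) (.leaf ⟨431, 29904967, (some false), 432, 17043521⟩)))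
(.node 2 (.node 1 (.leaf ⟨432, 17043521, (some false), 431, 13113429⟩) (.leaf ⟨74, 25643077, none, 432, 27875403⟩)) (.node 1 (.leaf ⟨432, 17043521, none, 74, 19603543⟩) (.node 1 (.leaf ⟨431, 27791431, none, 77, 17770583⟩) (.leaf ⟨431, 17043521, none, 77, 9068617⟩)))))))
(.node 17 (.node 8 (.node 4 (.node 2 (.node 1 (.leaf ⟨77, 10971209, (some false), 430, 32129107⟩) (.leaf ⟨77, 29904967, (some true), 439, 17043521⟩)) (.node 1 (.leaf ⟨77, 31801425, (some true), 439, 27621451⟩) (.leaf ⟨77, 32125001, (some true), 439, 27547721⟩)))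
(.node 2 (.node 1 (.leaf ⟨77, 13510735, (some true), 439, 17117267⟩) (.leaf ⟨439, 17051729, none, 439, 17117267⟩)) (.node 1 (.leaf ⟨439, 25458763, none, 439, 27621451⟩) (.leaf ⟨439, 17043521, none, 439, 19206209⟩))))
(.node 4 (.node 2 (.node 1 (.leaf ⟨439, 17043521, none, 439, 17109059⟩) (.leaf ⟨439, 17059919, (some true), 440, 17043521⟩)) (.node 1 (.leaf ⟨440, 19140673, none, 440, 17043521⟩) (.leaf ⟨440, 17109057, none, 440, 17043521⟩)))
(.node 2 (.node 1 (.leaf ⟨440, 17043521, none, 440, 17109057⟩) (.leaf ⟨440, 17043521, none, 440, 19140673⟩)) (.node 1 (.leaf ⟨440, 17059919, (some true), 441, 17043521⟩) (.node 1 (.leaf ⟨441, 17043521, (some true), 440, 17043535⟩) (.leaf ⟨77, 15274069, none, 441, 19746895⟩))))))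
(.node 9 (.node 4 (.node 2 (.node 1 (.leaf ⟨441, 17043521, none, 77, 13129801⟩) (.leaf ⟨77, 4544593, (some true), 440, 25784397⟩)) (.node 1 (.leaf ⟨77, 4808797, (some true), 440, 17059909⟩) (.leaf ⟨77, 13310023, (some true), 440, 11352133⟩)))
(.node 2 (.node 1 (.leaf ⟨439, 4808797, (some false), 446, 17043521⟩) (.leaf ⟨439, 29904967, (some false), 446, 17244235⟩)) (.node 1 (.leaf ⟨446, 17784907, none, 446, 17244235⟩) (.node 1 (.leaf ⟨446, 17043521, none, 446, 17584193⟩) (.leaf ⟨439, 17043521, (some false), 458, 17043521⟩)))))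
(.node 4 (.node 2 (.node 1 (.leaf ⟨458, 17043521, (some false), 439, 17127489⟩) (.leaf ⟨458, 17567825, none, 458, 17043521⟩)) (.node 1 (.leaf ⟨458, 17043521, none, 458, 17567825⟩) (.leaf ⟨458, 9056345, (some false), 459, 17043521⟩)))
(.node 2 (.node 1 (.leaf ⟨459, 17043521, (some false), 458, 10711131⟩) (.leaf ⟨459, 9056345, (some false), 460, 17043521⟩)) (.node 1 (.leaf ⟨460, 17043521, (some false), 459, 10711131⟩) (.node 1 (.leaf ⟨460, 9056345, (some false), 461, 17043521⟩) (.leaf ⟨461, 17043521, (some false), 460, 10711131⟩))))))))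
(.node 35 (.node 17 (.node 8 (.node 4 (.node 2 (.node 1 (.leaf ⟨77, 15210591, none, 461, 27725893⟩) (.leaf ⟨461, 17043521, none, 77, 9312337⟩)) (.node 1 (.leaf ⟨460, 11409493, none, 88, 17176663⟩) (.leaf ⟨460, 17043521, none, 88, 30019651⟩)))
(.node 2 (.node 1 (.leaf ⟨459, 28012639, none, 356, 6766685⟩) (.leaf ⟨459, 17043521, none, 356, 21852227⟩)) (.node 1 (.leaf ⟨356, 6776923, (some false), 458, 29567057⟩) (.leaf ⟨440, 4808797, (some false), 462, 17043521⟩))))
(.node 4 (.node 2 (.node 1 (.leaf ⟨462, 17043521, (some false), 440, 23685197⟩) (.leaf ⟨462, 7292999, (some false), 463, 17043521⟩)) (.node 1 (.leaf ⟨463, 17043521, (some false), 462, 21448789⟩) (.leaf ⟨463, 10971209, (some false), 464, 17043521⟩)))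
(.node 2 (.node 1 (.leaf ⟨464, 17043521, (some false), 463, 9396299⟩) (.leaf ⟨464, 13310023, (some false), 465, 17043521⟩)) (.node 1 (.leaf ⟨465, 17043521, (some false), 464, 29511765⟩) (.node 1 (.leaf ⟨77, 15036507, none, 465, 27809859⟩) (.leaf ⟨465, 17043521, none, 77, 23883859⟩))))))
(.node 9 (.node 4 (.node 2 (.node 1 (.leaf ⟨464, 27922523, none, 88, 17176663⟩) (.leaf ⟨464, 17043521, none, 88, 13441115⟩)) (.node 1 (.leaf ⟨463, 29503573, none, 356, 9060431⟩) (.leaf ⟨463, 17043521, none, 356, 13520987⟩)))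
(.node 2 (.node 1 (.leaf ⟨356, 13510735, (some false), 462, 32196689⟩) (.leaf ⟨440, 19085399, (some false), 466, 17043521⟩)) (.node 1 (.leaf ⟨440, 17043521, (some false), 466, 17444943⟩) (.node 1 (.leaf ⟨466, 17461343, none, 466, 17444943⟩) (.leaf ⟨466, 17043521, none, 466, 17059921⟩)))))
(.node 4 (.node 2 (.node 1 (.leaf ⟨466, 31801425, (some false), 467, 17043521⟩) (.leaf ⟨466, 10971209, (some false), 467, 17176641⟩)) (.node 1 (.leaf ⟨467, 27529303, (some false), 468, 17043521⟩) (.leaf ⟨468, 17043521, (some false), 467, 25516101⟩)))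
(.node 2 (.node 1 (.leaf ⟨468, 23928925, (some false), 469, 17043521⟩) (.leaf ⟨469, 17043521, (some false), 468, 4991053⟩)) (.node 1 (.leaf ⟨77, 23296071, none, 469, 28262473⟩) (.node 1 (.leaf ⟨469, 17043521, none, 77, 32317517⟩) (.leaf ⟨468, 9050193, none, 88, 17043521⟩)))))))
(.node 17 (.node 8 (.node 4 (.node 2 (.node 1 (.leaf ⟨468, 17043521, none, 88, 15210575⟩) (.leaf ⟨88, 29904967, (some false), 467, 25516123⟩)) (.node 1 (.leaf ⟨88, 23928925, (some false), 467, 4927561⟩) (.leaf ⟨88, 6776923, (some false), 467, 6977609⟩)))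
(.node 2 (.node 1 (.leaf ⟨88, 13510735, (some false), 467, 9269319⟩) (.leaf ⟨423, 29904967, (some false), 475, 17043521⟩)) (.node 1 (.leaf ⟨475, 17068105, none, 475, 17043521⟩) (.leaf ⟨475, 17043521, none, 475, 17068105⟩))))
(.node 4 (.node 2 (.node 1 (.leaf ⟨475, 19085399, (some false), 476, 17043521⟩) (.leaf ⟨476, 17043521, (some false), 475, 19560517⟩)) (.node 1 (.leaf ⟨84, 14907477, none, 476, 19560535⟩) (.leaf ⟨476, 17043521, none, 84, 23859267⟩)))
(.node 2 (.node 1 (.leaf ⟨84, 32125001, (some false), 475, 19681365⟩) (.leaf ⟨84, 13510735, (some false), 475, 19216463⟩)) (.node 1 (.leaf ⟨84, 7292999, (some false), 475, 19621953⟩) (.node 1 (.leaf ⟨84, 29904967, (some false), 475, 19730499⟩) (.leaf ⟨84, 13510735, (some true), 477, 17043521⟩))))))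
(.node 9 (.node 4 (.node 2 (.node 1 (.leaf ⟨84, 29904967, (some true), 477, 25497683⟩) (.leaf ⟨84, 4808797, (some true), 477, 9195595⟩)) (.node 1 (.leaf ⟨84, 31801425, (some true), 477, 25450579⟩) (.leaf ⟨84, 4544593, (some true), 477, 25516121⟩)))
(.node 2 (.node 1 (.leaf ⟨84, 32131155, (some true), 477, 17135697⟩) (.leaf ⟨84, 32125001, (some true), 477, 17127505⟩)) (.node 1 (.leaf ⟨84, 13310023, (some true), 477, 8943705⟩) (.node 1 (.leaf ⟨84, 10971209, (some true), 480, 17043521⟩) (.leaf ⟨84, 17059919, (some true), 480, 9195611⟩)))))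
(.node 4 (.node 2 (.node 1 (.leaf ⟨480, 8917081, none, 480, 17043521⟩) (.leaf ⟨480, 17043521, none, 480, 8917081⟩)) (.node 1 (.leaf ⟨480, 17059919, (some true), 481, 17043521⟩) (.leaf ⟨481, 17059919, (some true), 482, 17043521⟩)))
(.node 2 (.node 1 (.leaf ⟨482, 17043521, (some true), 481, 17043535⟩) (.leaf ⟨84, 25903195, none, 482, 8925277⟩)) (.node 1 (.leaf ⟨482, 17043521, none, 84, 26157143⟩) (.node 1 (.leaf ⟨84, 11495495, (some true), 481, 17635405⟩) (.leaf ⟨84, 17043521, (some true), 481, 8998989⟩)))))))))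

/-- The facts. -/
def caseDFullFactsLRRLR : Tab Fct :=
(.node 69 (.node 34 (.node 17 (.node 8 (.node 4 (.node 2 (.node 1 (.leaf ⟨84, 19085399, (some true), 487, 17043521⟩) (.leaf ⟨487, 17043521, (some true), 84, 19626071⟩)) (.node 1 (.leaf ⟨487, 29904967, (some false), 488, 17043521⟩) (.leaf ⟨488, 17043521, (some false), 487, 13113429⟩)))
(.node 2 (.node 1 (.leaf ⟨488, 17043521, (some true), 489, 17043521⟩) (.leaf ⟨489, 17043521, (some true), 488, 17059921⟩)) (.node 1 (.leaf ⟨489, 17043521, (some false), 490, 17043521⟩) (.leaf ⟨490, 17043521, (some false), 489, 17127489⟩))))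
(.node 4 (.node 2 (.node 1 (.leaf ⟨490, 19085399, (some true), 491, 17043521⟩) (.leaf ⟨491, 17043521, (some true), 490, 19626071⟩)) (.node 1 (.leaf ⟨84, 25849949, none, 491, 19224647⟩) (.leaf ⟨491, 17043521, none, 84, 25374811⟩)))
(.node 2 (.node 1 (.leaf ⟨84, 25385043, (some true), 490, 27406413⟩) (.leaf ⟨490, 17242189, none, 490, 27406413⟩)) (.node 1 (.leaf ⟨490, 17043521, none, 490, 31664193⟩) (.node 1 (.leaf ⟨481, 13510735, (some false), 500, 17043521⟩) (.leaf ⟨500, 13510735, (some false), 501, 17043521⟩))))))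
(.node 8 (.node 4 (.node 2 (.node 1 (.leaf ⟨501, 29904967, (some false), 502, 17043521⟩) (.leaf ⟨502, 17043521, (some false), 501, 13113429⟩)) (.node 1 (.leaf ⟨502, 13510735, (some false), 503, 17043521⟩) (.leaf ⟨503, 17043521, (some false), 502, 29761631⟩)))
(.node 2 (.node 1 (.leaf ⟨84, 11016281, none, 503, 27555911⟩) (.leaf ⟨503, 17043521, none, 84, 11360325⟩)) (.node 1 (.leaf ⟨502, 25432157, none, 475, 19216463⟩) (.leaf ⟨502, 17043521, none, 475, 27605083⟩))))
(.node 4 (.node 2 (.node 1 (.leaf ⟨475, 13510735, (some false), 501, 25710661⟩) (.leaf ⟨477, 17043521, (some false), 511, 17043521⟩)) (.node 1 (.leaf ⟨511, 13310023, (some false), 512, 17043521⟩) (.leaf ⟨512, 29904967, (some false), 513, 17043521⟩)))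
(.node 2 (.node 1 (.leaf ⟨513, 17043521, (some false), 512, 13113429⟩) (.leaf ⟨513, 13510735, (some false), 514, 17043521⟩)) (.node 1 (.leaf ⟨514, 17043521, (some false), 513, 29761631⟩) (.node 1 (.leaf ⟨84, 29892699, none, 514, 27531341⟩) (.leaf ⟨514, 17043521, none, 84, 21831775⟩)))))))
(.node 17 (.node 8 (.node 4 (.node 2 (.node 1 (.leaf ⟨513, 29778015, none, 91, 17176643⟩) (.leaf ⟨513, 29778015, none, 88, 4610133⟩)) (.node 1 (.leaf ⟨513, 17043521, none, 88, 21248095⟩) (.leaf ⟨512, 27807831, none, 467, 6977609⟩)))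
(.node 2 (.node 1 (.leaf ⟨512, 17043521, none, 467, 14839901⟩) (.leaf ⟨88, 32125001, (some true), 517, 17043521⟩)) (.node 1 (.leaf ⟨517, 17043521, (some true), 88, 14839897⟩) (.leaf ⟨88, 4544593, (some true), 517, 17576025⟩))))
(.node 4 (.node 2 (.node 1 (.leaf ⟨88, 13310023, (some true), 517, 27545689⟩) (.leaf ⟨88, 29904967, (some true), 517, 25458763⟩)) (.node 1 (.leaf ⟨88, 11495495, (some true), 524, 17043521⟩) (.leaf ⟨524, 4808797, (some false), 525, 17043521⟩)))
(.node 2 (.node 1 (.leaf ⟨525, 19085399, (some false), 526, 17043521⟩) (.leaf ⟨526, 17043521, (some false), 525, 19560517⟩)) (.node 1 (.leaf ⟨526, 19085399, (some false), 527, 17043521⟩) (.node 1 (.leaf ⟨527, 17043521, (some false), 526, 19560517⟩) (.leaf ⟨527, 10971209, (some true), 528, 17043521⟩))))))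
(.node 9 (.node 4 (.node 2 (.node 1 (.leaf ⟨528, 17043521, (some true), 527, 11495513⟩) (.leaf ⟨88, 25315405, none, 528, 11278411⟩)) (.node 1 (.leaf ⟨528, 17043521, none, 88, 8609861⟩) (.leaf ⟨527, 9068625, none, 524, 17043521⟩)))
(.node 2 (.node 1 (.leaf ⟨527, 17043521, none, 524, 21524565⟩) (.leaf ⟨524, 29904967, (some false), 526, 19691589⟩)) (.node 1 (.leaf ⟨88, 13510735, (some true), 529, 17043521⟩) (.node 1 (.leaf ⟨88, 32131155, (some true), 529, 9246785⟩) (.leaf ⟨88, 4808797, (some true), 529, 27793475⟩)))))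
(.node 4 (.node 2 (.node 1 (.leaf ⟨88, 31801425, (some true), 529, 25450579⟩) (.leaf ⟨529, 13510735, (some false), 530, 17043521⟩)) (.node 1 (.leaf ⟨88, 19085399, (some true), 534, 17043521⟩) (.leaf ⟨88, 17043521, (some true), 534, 19167321⟩)))
(.node 2 (.node 1 (.leaf ⟨534, 19085399, (some false), 535, 17043521⟩) (.leaf ⟨535, 17043521, (some false), 534, 19560517⟩)) (.node 1 (.leaf ⟨535, 10971209, (some false), 536, 17043521⟩) (.node 1 (.leaf ⟨536, 17043521, (some false), 535, 9396299⟩) (.leaf ⟨536, 13310023, (some false), 537, 17043521⟩))))))))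
(.node 35 (.node 17 (.node 8 (.node 4 (.node 2 (.node 1 (.leaf ⟨537, 17043521, (some false), 536, 29511765⟩) (.leaf ⟨537, 29904967, (some false), 538, 17043521⟩)) (.node 1 (.leaf ⟨538, 17043521, (some false), 537, 13113429⟩) (.leaf ⟨88, 17717335, none, 538, 27621471⟩)))
(.node 2 (.node 1 (.leaf ⟨538, 17043521, none, 88, 25376843⟩) (.leaf ⟨537, 15224919, none, 356, 9060431⟩)) (.node 1 (.leaf ⟨537, 17043521, none, 356, 31596631⟩) (.leaf ⟨536, 30154847, none, 458, 29567057⟩))))
(.node 4 (.node 2 (.node 1 (.leaf ⟨536, 17043521, none, 458, 17635423⟩) (.leaf ⟨535, 11495507, none, 439, 17127489⟩)) (.node 1 (.leaf ⟨535, 17043521, none, 439, 21522519⟩) (.leaf ⟨534, 19664967, none, 446, 17244235⟩)))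
(.node 2 (.node 1 (.leaf ⟨534, 17043521, none, 446, 19818591⟩) (.leaf ⟨517, 19085399, (some false), 539, 17043521⟩)) (.node 1 (.leaf ⟨539, 17043521, (some false), 517, 19560517⟩) (.node 1 (.leaf ⟨539, 10971209, (some false), 540, 17043521⟩) (.leaf ⟨540, 17043521, (some false), 539, 9396299⟩))))))
(.node 9 (.node 4 (.node 2 (.node 1 (.leaf ⟨540, 13310023, (some false), 541, 17043521⟩) (.leaf ⟨541, 17043521, (some false), 540, 29511765⟩)) (.node 1 (.leaf ⟨541, 29904967, (some false), 542, 17043521⟩) (.leaf ⟨542, 17043521, (some false), 541, 13113429⟩)))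
(.node 2 (.node 1 (.leaf ⟨88, 31602757, none, 542, 27594845⟩) (.leaf ⟨542, 17043521, none, 88, 21114963⟩)) (.node 1 (.leaf ⟨541, 21522497, none, 467, 9269319⟩) (.node 1 (.leaf ⟨541, 17043521, none, 467, 14841947⟩) (.leaf ⟨467, 10971209, (some false), 540, 6645843⟩)))))
(.node 4 (.node 2 (.node 1 (.leaf ⟨446, 10971209, (some false), 543, 17043521⟩) (.leaf ⟨446, 31801425, (some false), 543, 17528907⟩)) (.node 1 (.leaf ⟨543, 6776923, (some false), 544, 17043521⟩) (.leaf ⟨544, 10971209, (some false), 545, 17043521⟩)))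
(.node 2 (.node 1 (.leaf ⟨545, 17043521, (some false), 544, 9396299⟩) (.leaf ⟨545, 13310023, (some false), 546, 17043521⟩)) (.node 1 (.leaf ⟨546, 17043521, (some false), 545, 29511765⟩) (.node 1 (.leaf ⟨88, 27537497, none, 546, 27801691⟩) (.leaf ⟨546, 17043521, none, 88, 17635395⟩)))))))
(.node 17 (.node 8 (.node 4 (.node 2 (.node 1 (.leaf ⟨545, 15339605, none, 77, 4991053⟩) (.leaf ⟨545, 17043521, none, 77, 5066843⟩)) (.node 1 (.leaf ⟨544, 4476995, none, 430, 32129107⟩) (.leaf ⟨544, 17043521, none, 430, 14831701⟩)))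
(.node 2 (.node 1 (.leaf ⟨132, 27529303, (some false), 547, 17043521⟩) (.leaf ⟨547, 19085399, (some false), 548, 17043521⟩)) (.node 1 (.leaf ⟨548, 17043521, (some false), 547, 19560517⟩) (.leaf ⟨128, 23289929, none, 548, 19802193⟩))))
(.node 4 (.node 2 (.node 1 (.leaf ⟨548, 17043521, none, 128, 13586517⟩) (.leaf ⟨547, 19603527, none, 132, 31926367⟩)) (.node 1 (.leaf ⟨547, 17043521, none, 132, 13572183⟩) (.leaf ⟨128, 7292999, (some false), 549, 17043521⟩)))
(.node 2 (.node 1 (.leaf ⟨549, 17043521, (some false), 128, 21448789⟩) (.leaf ⟨128, 32125001, (some false), 549, 17180749⟩)) (.node 1 (.leaf ⟨128, 31801425, (some false), 549, 17260619⟩) (.node 1 (.leaf ⟨128, 10971209, (some false), 549, 17002589⟩) (.leaf ⟨128, 13510735, (some true), 555, 17043521⟩))))))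
(.node 9 (.node 4 (.node 2 (.node 1 (.leaf ⟨128, 4544593, (some true), 555, 25516121⟩) (.leaf ⟨128, 29904967, (some true), 555, 17117267⟩)) (.node 1 (.leaf ⟨128, 32131155, (some true), 555, 25516113⟩) (.leaf ⟨555, 27611225, none, 555, 25516121⟩)))
(.node 2 (.node 1 (.leaf ⟨555, 19216465, none, 555, 17117267⟩) (.leaf ⟨555, 17043521, none, 555, 19142723⟩)) (.node 1 (.leaf ⟨555, 17043521, none, 555, 19142721⟩) (.node 1 (.leaf ⟨555, 17043521, (some false), 556, 17043521⟩) (.leaf ⟨555, 19085399, (some false), 556, 17178711⟩)))))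
(.node 4 (.node 2 (.node 1 (.leaf ⟨556, 19085399, (some true), 557, 17043521⟩) (.leaf ⟨557, 19085399, (some false), 558, 17043521⟩)) (.node 1 (.leaf ⟨558, 17043521, (some false), 557, 19560517⟩) (.leaf ⟨558, 11495495, (some true), 559, 17043521⟩)))
(.node 2 (.node 1 (.leaf ⟨559, 17043521, (some true), 558, 10971207⟩) (.leaf ⟨128, 29761629, none, 559, 11360351⟩)) (.node 1 (.leaf ⟨559, 17043521, none, 128, 21383235⟩) (.node 1 (.leaf ⟨558, 25567311, none, 555, 25516113⟩) (.leaf ⟨558, 17043521, none, 555, 17000543⟩)))))))))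

/-- The facts. -/
def caseDFullFactsLRRL : Tab Fct := .node 139 caseDFullFactsLRRLL caseDFullFactsLRRLR

/-- The facts. -/
def caseDFullFactsLRRRL : Tab Fct :=
(.node 69 (.node 34 (.node 17 (.node 8 (.node 4 (.node 2 (.node 1 (.leaf ⟨557, 19339351, none, 556, 17043521⟩) (.leaf ⟨557, 17043521, none, 556, 19273815⟩)) (.node 1 (.leaf ⟨128, 31801425, (some true), 560, 17043521⟩) (.leaf ⟨128, 13310023, (some true), 560, 25694275⟩)))
(.node 2 (.node 1 (.leaf ⟨128, 32125001, (some true), 560, 19216449⟩) (.leaf ⟨128, 4808797, (some true), 560, 11278403⟩)) (.node 1 (.leaf ⟨560, 27791425, none, 560, 25694275⟩) (.leaf ⟨560, 17043521, none, 560, 19140675⟩))))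
(.node 4 (.node 2 (.node 1 (.leaf ⟨560, 13510735, (some false), 561, 17043521⟩) (.leaf ⟨560, 27529303, (some false), 561, 17768539⟩)) (.node 1 (.leaf ⟨561, 17059919, (some true), 562, 17043521⟩) (.leaf ⟨562, 17043521, (some false), 563, 17043521⟩)))
(.node 2 (.node 1 (.leaf ⟨563, 17043521, (some false), 562, 17127489⟩) (.leaf ⟨563, 19085399, (some true), 564, 17043521⟩)) (.node 1 (.leaf ⟨564, 17043521, (some true), 563, 19626071⟩) (.node 1 (.leaf ⟨128, 4743241, none, 564, 19214405⟩) (.leaf ⟨564, 17043521, none, 128, 15294533⟩))))))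
(.node 8 (.node 4 (.node 2 (.node 1 (.leaf ⟨563, 19017821, none, 560, 11278403⟩) (.leaf ⟨563, 17043521, none, 560, 15673429⟩)) (.node 1 (.leaf ⟨562, 17059919, none, 561, 17043521⟩) (.leaf ⟨562, 17043521, none, 561, 17059935⟩)))
(.node 2 (.node 1 (.leaf ⟨555, 29904967, (some false), 568, 17043521⟩) (.leaf ⟨568, 17584209, none, 568, 17043521⟩)) (.node 1 (.leaf ⟨568, 17043521, none, 568, 17584209⟩) (.leaf ⟨568, 29904967, (some false), 569, 17043521⟩))))
(.node 4 (.node 2 (.node 1 (.leaf ⟨568, 13510735, (some false), 569, 17586247⟩) (.leaf ⟨569, 13510735, (some false), 570, 17043521⟩)) (.node 1 (.leaf ⟨570, 27529303, (some false), 571, 17043521⟩) (.leaf ⟨571, 17043521, (some false), 570, 25516101⟩)))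
(.node 2 (.node 1 (.leaf ⟨128, 4552795, none, 571, 28203083⟩) (.leaf ⟨571, 17043521, none, 128, 27666525⟩)) (.node 1 (.leaf ⟨570, 27529297, none, 549, 17002589⟩) (.node 1 (.leaf ⟨570, 17043521, none, 549, 27482189⟩) (.leaf ⟨560, 17043521, (some false), 575, 17043521⟩)))))))
(.node 17 (.node 8 (.node 4 (.node 2 (.node 1 (.leaf ⟨575, 17043521, (some false), 560, 17127489⟩) (.leaf ⟨575, 13310023, (some false), 576, 17043521⟩)) (.node 1 (.leaf ⟨576, 17043521, (some false), 575, 29511765⟩) (.leaf ⟨576, 29904967, (some false), 577, 17043521⟩)))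
(.node 2 (.node 1 (.leaf ⟨577, 17043521, (some false), 576, 13113429⟩) (.leaf ⟨577, 13510735, (some false), 578, 17043521⟩)) (.node 1 (.leaf ⟨578, 17043521, (some false), 577, 29761631⟩) (.leaf ⟨128, 4472909, none, 578, 27537477⟩))))
(.node 4 (.node 2 (.node 1 (.leaf ⟨578, 17043521, none, 128, 12871753⟩) (.leaf ⟨128, 23928925, (some false), 577, 29757513⟩)) (.node 1 (.leaf ⟨128, 13310023, (some false), 577, 29777991⟩) (.leaf ⟨577, 15687759, none, 577, 29777991⟩)))
(.node 2 (.node 1 (.leaf ⟨577, 21127261, none, 577, 29777991⟩) (.leaf ⟨577, 13504585, none, 577, 29757513⟩)) (.node 1 (.leaf ⟨577, 17043521, none, 577, 8917057⟩) (.node 1 (.leaf ⟨577, 17043521, none, 577, 13242439⟩) (.leaf ⟨577, 17043521, none, 577, 11079773⟩))))))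
(.node 9 (.node 4 (.node 2 (.node 1 (.leaf ⟨577, 4808797, (some false), 576, 4747343⟩) (.leaf ⟨577, 19085399, (some false), 576, 6824017⟩)) (.node 1 (.leaf ⟨577, 23928925, (some false), 576, 8943711⟩) (.leaf ⟨577, 32125001, (some false), 576, 32006233⟩)))
(.node 2 (.node 1 (.leaf ⟨555, 13510735, (some false), 579, 17043521⟩) (.leaf ⟨579, 17043521, (some false), 555, 29761631⟩)) (.node 1 (.leaf ⟨555, 27529303, (some false), 579, 17784923⟩) (.node 1 (.leaf ⟨579, 27529303, (some false), 580, 17043521⟩) (.leaf ⟨580, 17043521, (some false), 579, 25516101⟩)))))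
(.node 4 (.node 2 (.node 1 (.leaf ⟨580, 9056345, (some false), 581, 17043521⟩) (.leaf ⟨581, 17043521, (some false), 580, 10711131⟩)) (.node 1 (.leaf ⟨581, 23928925, (some false), 582, 17043521⟩) (.leaf ⟨582, 17043521, (some false), 581, 4991053⟩)))
(.node 2 (.node 1 (.leaf ⟨128, 23926865, none, 582, 28188757⟩) (.leaf ⟨582, 17043521, none, 128, 15229019⟩)) (.node 1 (.leaf ⟨581, 15032389, none, 132, 9195593⟩) (.node 1 (.leaf ⟨581, 17043521, none, 132, 10639443⟩) (.leaf ⟨132, 23928925, (some false), 580, 28266563⟩))))))))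
(.node 35 (.node 17 (.node 8 (.node 4 (.node 2 (.node 1 (.leaf ⟨132, 10971209, (some false), 580, 4679767⟩) (.leaf ⟨129, 32131155, (some true), 586, 17043521⟩)) (.node 1 (.leaf ⟨129, 4808797, (some true), 586, 11276353⟩) (.leaf ⟨129, 32125001, (some true), 586, 17117249⟩)))
(.node 2 (.node 1 (.leaf ⟨129, 29904967, (some true), 586, 25514057⟩) (.leaf ⟨586, 17053763, none, 586, 17117249⟩)) (.node 1 (.leaf ⟨586, 27547721, none, 586, 25514057⟩) (.leaf ⟨586, 19216449, none, 586, 17117249⟩))))
(.node 4 (.node 2 (.node 1 (.leaf ⟨586, 17043521, none, 586, 19142721⟩) (.leaf ⟨586, 17043521, none, 586, 19208257⟩)) (.node 1 (.leaf ⟨586, 17043521, none, 586, 17111107⟩) (.leaf ⟨586, 17059919, (some true), 587, 17043521⟩)))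
(.node 2 (.node 1 (.leaf ⟨587, 19206211, none, 587, 17043521⟩) (.leaf ⟨587, 17111107, none, 587, 17043521⟩)) (.node 1 (.leaf ⟨587, 17043521, none, 587, 17111107⟩) (.node 1 (.leaf ⟨587, 17043521, none, 587, 19206211⟩) (.leaf ⟨587, 17059919, (some true), 588, 17043521⟩))))))
(.node 9 (.node 4 (.node 2 (.node 1 (.leaf ⟨588, 17043521, (some true), 587, 17043535⟩) (.leaf ⟨129, 14829659, none, 588, 17651781⟩)) (.node 1 (.leaf ⟨588, 17043521, none, 129, 15419487⟩) (.leaf ⟨129, 13510735, (some true), 587, 27881557⟩)))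
(.node 2 (.node 1 (.leaf ⟨129, 31801425, (some true), 587, 17633373⟩) (.leaf ⟨129, 13310023, (some true), 587, 27529295⟩)) (.node 1 (.leaf ⟨129, 4544593, (some true), 587, 17569877⟩) (.node 1 (.leaf ⟨586, 27529303, (some false), 593, 17043521⟩) (.leaf ⟨593, 17043521, (some false), 586, 25516101⟩)))))
(.node 4 (.node 2 (.node 1 (.leaf ⟨593, 25385043, (some true), 594, 17043521⟩) (.leaf ⟨594, 17043521, (some true), 593, 25892931⟩)) (.node 1 (.leaf ⟨594, 4808797, (some false), 595, 17043521⟩) (.leaf ⟨595, 17043521, (some false), 594, 23685197⟩)))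
(.node 2 (.node 1 (.leaf ⟨595, 10971209, (some true), 596, 17043521⟩) (.leaf ⟨596, 17043521, (some true), 595, 11495513⟩)) (.node 1 (.leaf ⟨129, 13576275, none, 596, 27605069⟩) (.node 1 (.leaf ⟨596, 17043521, none, 129, 7217245⟩) (.leaf ⟨595, 19357785, none, 587, 27881557⟩)))))))
(.node 17 (.node 8 (.node 4 (.node 2 (.node 1 (.leaf ⟨595, 17043521, none, 587, 6840395⟩) (.leaf ⟨587, 29904967, (some false), 594, 27867221⟩)) (.node 1 (.leaf ⟨587, 4808797, (some false), 594, 6889545⟩) (.leaf ⟨129, 25385043, (some true), 597, 17043521⟩)))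
(.node 2 (.node 1 (.leaf ⟨597, 17043521, (some true), 129, 25892931⟩) (.leaf ⟨597, 27596867, none, 597, 17043521⟩)) (.node 1 (.leaf ⟨597, 25440329, none, 597, 17043521⟩) (.leaf ⟨597, 17043521, none, 597, 25440329⟩))))
(.node 4 (.node 2 (.node 1 (.leaf ⟨597, 17043521, none, 597, 25499715⟩) (.leaf ⟨597, 13510735, (some false), 598, 17043521⟩)) (.node 1 (.leaf ⟨598, 17043521, (some false), 597, 29761631⟩) (.leaf ⟨597, 17043521, (some false), 598, 17193025⟩)))
(.node 2 (.node 1 (.leaf ⟨597, 27529303, (some false), 598, 17242199⟩) (.leaf ⟨597, 19085399, (some false), 598, 17463361⟩)) (.node 1 (.leaf ⟨586, 4808797, (some false), 602, 17043521⟩) (.node 1 (.leaf ⟨602, 17043521, (some false), 586, 23685197⟩) (.leaf ⟨586, 29904967, (some false), 602, 17768539⟩))))))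
(.node 9 (.node 4 (.node 2 (.node 1 (.leaf ⟨587, 13510735, (some false), 606, 17043521⟩) (.leaf ⟨606, 17043521, (some false), 587, 29761631⟩)) (.node 1 (.leaf ⟨587, 27529303, (some false), 606, 17244235⟩) (.leaf ⟨606, 17584193, none, 606, 17043521⟩)))
(.node 2 (.node 1 (.leaf ⟨606, 17043521, none, 606, 17584193⟩) (.leaf ⟨606, 4808797, (some false), 607, 17043521⟩)) (.node 1 (.leaf ⟨607, 31801425, (some false), 608, 17043521⟩) (.node 1 (.leaf ⟨608, 17043521, (some false), 607, 14958673⟩) (.leaf ⟨608, 29904967, (some false), 609, 17043521⟩)))))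
(.node 4 (.node 2 (.node 1 (.leaf ⟨609, 17043521, (some false), 608, 13113429⟩) (.leaf ⟨129, 13246535, none, 609, 27883603⟩)) (.node 1 (.leaf ⟨609, 17043521, none, 129, 13590623⟩) (.leaf ⟨608, 4726851, none, 131, 17594433⟩)))
(.node 2 (.node 1 (.leaf ⟨608, 17043521, none, 131, 8812611⟩) (.leaf ⟨131, 23928925, (some false), 607, 23543881⟩)) (.node 1 (.leaf ⟨131, 4808797, (some false), 607, 24068177⟩) (.node 1 (.leaf ⟨131, 6776923, (some false), 607, 21315661⟩) (.leaf ⟨138, 6776923, (some false), 610, 17043521⟩)))))))))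

/-- The facts. -/
def caseDFullFactsLRRRR : Tab Fct :=
(.node 69 (.node 34 (.node 17 (.node 8 (.node 4 (.node 2 (.node 1 (.leaf ⟨610, 17043521, (some false), 138, 21979225⟩) (.leaf ⟨610, 17109057, none, 610, 17043521⟩)) (.node 1 (.leaf ⟨610, 17174593, none, 610, 17043521⟩) (.leaf ⟨610, 17043521, none, 610, 17174593⟩)))
(.node 2 (.node 1 (.leaf ⟨610, 17043521, none, 610, 17109057⟩) (.leaf ⟨610, 7292999, (some false), 611, 17043521⟩)) (.node 1 (.leaf ⟨611, 17043521, (some false), 610, 21448789⟩) (.leaf ⟨129, 27818059, none, 611, 28002377⟩))))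
(.node 4 (.node 2 (.node 1 (.leaf ⟨611, 17043521, none, 129, 17002563⟩) (.leaf ⟨129, 17043521, (some false), 610, 30230605⟩)) (.node 1 (.leaf ⟨129, 19085399, (some false), 610, 24004675⟩) (.leaf ⟨610, 21907523, none, 610, 24004675⟩)))
(.node 2 (.node 1 (.leaf ⟨610, 17043521, none, 610, 19140673⟩) (.leaf ⟨610, 19085399, (some false), 138, 9121867⟩)) (.node 1 (.leaf ⟨598, 13510735, (some false), 612, 17043521⟩) (.node 1 (.leaf ⟨612, 17043521, (some false), 598, 29761631⟩) (.leaf ⟨612, 27529303, (some false), 613, 17043521⟩))))))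
(.node 8 (.node 4 (.node 2 (.node 1 (.leaf ⟨613, 17043521, (some false), 612, 25516101⟩) (.leaf ⟨613, 9056345, (some false), 614, 17043521⟩)) (.node 1 (.leaf ⟨614, 17043521, (some false), 613, 10711131⟩) (.leaf ⟨129, 27988035, none, 614, 27416665⟩)))
(.node 2 (.node 1 (.leaf ⟨614, 17043521, none, 129, 16916561⟩) (.leaf ⟨613, 11472971, none, 610, 30230605⟩)) (.node 1 (.leaf ⟨613, 17043521, none, 610, 10909767⟩) (.leaf ⟨610, 23928925, (some false), 612, 13590601⟩))))
(.node 4 (.node 2 (.node 1 (.leaf ⟨610, 4808797, (some false), 612, 15605833⟩) (.leaf ⟨610, 29904967, (some false), 612, 4945989⟩)) (.node 1 (.leaf ⟨610, 13310023, (some false), 612, 23214149⟩) (.leaf ⟨131, 25385043, (some true), 615, 17043521⟩)))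
(.node 2 (.node 1 (.leaf ⟨131, 17059919, (some true), 615, 27859011⟩) (.leaf ⟨615, 27539531, none, 615, 17043521⟩)) (.node 1 (.leaf ⟨615, 17043521, none, 615, 27539531⟩) (.node 1 (.leaf ⟨615, 17059919, (some true), 616, 17043521⟩) (.leaf ⟨616, 8941657, none, 616, 17043521⟩)))))))
(.node 17 (.node 8 (.node 4 (.node 2 (.node 1 (.leaf ⟨616, 17043521, none, 616, 8941657⟩) (.leaf ⟨616, 17059919, (some true), 617, 17043521⟩)) (.node 1 (.leaf ⟨617, 17043521, (some true), 616, 17043535⟩) (.leaf ⟨131, 11153481, none, 617, 25448527⟩)))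
(.node 2 (.node 1 (.leaf ⟨617, 17043521, none, 131, 10637407⟩) (.leaf ⟨131, 19085399, (some true), 616, 27553887⟩)) (.node 1 (.leaf ⟨131, 17043521, (some true), 616, 27596895⟩) (.leaf ⟨131, 4544593, (some true), 618, 17043521⟩))))
(.node 4 (.node 2 (.node 1 (.leaf ⟨618, 17043521, (some true), 131, 21305409⟩) (.leaf ⟨131, 32125001, (some true), 618, 17659977⟩)) (.node 1 (.leaf ⟨131, 31801425, (some true), 618, 19208267⟩) (.leaf ⟨131, 4808797, (some true), 618, 8927321⟩)))
(.node 2 (.node 1 (.leaf ⟨131, 29904967, (some true), 618, 25768003⟩) (.leaf ⟨131, 13310023, (some true), 618, 27859025⟩)) (.node 1 (.leaf ⟨131, 13510735, (some true), 618, 27619409⟩) (.node 1 (.leaf ⟨131, 32131155, (some true), 618, 17651785⟩) (.leaf ⟨618, 17059919, (some true), 619, 17043521⟩))))))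
(.node 9 (.node 4 (.node 2 (.node 1 (.leaf ⟨619, 17059919, (some true), 620, 17043521⟩) (.leaf ⟨620, 17043521, (some true), 619, 17043535⟩)) (.node 1 (.leaf ⟨131, 6828105, none, 620, 9179229⟩) (.leaf ⟨620, 17043521, none, 131, 7098461⟩)))
(.node 2 (.node 1 (.leaf ⟨619, 25786447, none, 618, 25768003⟩) (.leaf ⟨619, 17043521, none, 618, 17051725⟩)) (.node 1 (.leaf ⟨616, 29904967, (some false), 621, 17043521⟩) (.node 1 (.leaf ⟨621, 17043521, (some false), 616, 13113429⟩) (.leaf ⟨621, 17059919, (some true), 622, 17043521⟩)))))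
(.node 4 (.node 2 (.node 1 (.leaf ⟨622, 17043521, (some true), 621, 17043535⟩) (.leaf ⟨622, 17043521, (some false), 623, 17043521⟩)) (.node 1 (.leaf ⟨623, 17043521, (some false), 622, 17127489⟩) (.leaf ⟨623, 19085399, (some true), 624, 17043521⟩)))
(.node 2 (.node 1 (.leaf ⟨624, 17043521, (some true), 623, 19626071⟩) (.leaf ⟨131, 25458761, none, 624, 19230789⟩)) (.node 1 (.leaf ⟨624, 17043521, none, 131, 25499735⟩) (.node 1 (.leaf ⟨623, 10973253, none, 615, 27859011⟩) (.leaf ⟨623, 17043521, none, 615, 31877211⟩))))))))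
(.node 35 (.node 17 (.node 8 (.node 4 (.node 2 (.node 1 (.leaf ⟨615, 27529303, (some false), 622, 17197139⟩) (.leaf ⟨615, 17043521, (some false), 622, 17780807⟩)) (.node 1 (.leaf ⟨618, 4808797, (some false), 625, 17043521⟩) (.leaf ⟨625, 10971209, (some true), 626, 17043521⟩)))
(.node 2 (.node 1 (.leaf ⟨626, 13510735, (some false), 627, 17043521⟩) (.leaf ⟨627, 17043521, (some false), 626, 29761631⟩)) (.node 1 (.leaf ⟨627, 17059919, (some true), 628, 17043521⟩) (.leaf ⟨628, 17043521, (some true), 627, 17043535⟩))))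
(.node 4 (.node 2 (.node 1 (.leaf ⟨131, 31991879, none, 628, 17111135⟩) (.leaf ⟨628, 17043521, none, 131, 31989851⟩)) (.node 1 (.leaf ⟨627, 25524317, none, 618, 19208267⟩) (.leaf ⟨627, 17043521, none, 618, 25448527⟩)))
(.node 2 (.node 1 (.leaf ⟨618, 13510735, (some false), 626, 11358293⟩) (.leaf ⟨626, 27529303, (some false), 629, 17043521⟩)) (.node 1 (.leaf ⟨629, 19085399, (some false), 630, 17043521⟩) (.node 1 (.leaf ⟨630, 19085399, (some true), 631, 17043521⟩) (.leaf ⟨631, 17043521, (some true), 630, 19626071⟩))))))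
(.node 9 (.node 4 (.node 2 (.node 1 (.leaf ⟨131, 12734547, none, 631, 17649737⟩) (.leaf ⟨631, 17043521, none, 131, 15339593⟩)) (.node 1 (.leaf ⟨630, 8616007, none, 618, 17659977⟩) (.leaf ⟨630, 17043521, none, 618, 29823065⟩)))
(.node 2 (.node 1 (.leaf ⟨131, 10971209, (some true), 632, 17043521⟩) (.leaf ⟨632, 17043521, (some true), 131, 11495513⟩)) (.node 1 (.leaf ⟨632, 8927305, none, 632, 17043521⟩) (.node 1 (.leaf ⟨632, 17043521, none, 632, 8935505⟩) (.leaf ⟨632, 4808797, (some false), 633, 17043521⟩)))))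
(.node 4 (.node 2 (.node 1 (.leaf ⟨633, 17043521, (some false), 632, 23685197⟩) (.leaf ⟨632, 19085399, (some false), 633, 17111113⟩)) (.node 1 (.leaf ⟨633, 19085399, (some false), 634, 17043521⟩) (.leaf ⟨634, 17043521, (some false), 633, 19560517⟩)))
(.node 2 (.node 1 (.leaf ⟨634, 19085399, (some false), 635, 17043521⟩) (.leaf ⟨635, 17043521, (some false), 634, 19560517⟩)) (.node 1 (.leaf ⟨635, 10971209, (some true), 636, 17043521⟩) (.node 1 (.leaf ⟨636, 17043521, (some true), 635, 11495513⟩) (.leaf ⟨131, 27412561, none, 636, 9255003⟩)))))))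
(.node 17 (.node 8 (.node 4 (.node 2 (.node 1 (.leaf ⟨636, 17043521, none, 131, 9134163⟩) (.leaf ⟨635, 9068625, none, 632, 17043521⟩)) (.node 1 (.leaf ⟨635, 17043521, none, 632, 21524565⟩) (.leaf ⟨632, 29904967, (some false), 634, 19691589⟩)))
(.node 2 (.node 1 (.leaf ⟨632, 17043521, (some false), 634, 19355725⟩) (.leaf ⟨618, 19085399, (some false), 637, 17043521⟩)) (.node 1 (.leaf ⟨637, 32125001, (some false), 638, 17043521⟩) (.leaf ⟨638, 27529303, (some false), 639, 17043521⟩))))
(.node 4 (.node 2 (.node 1 (.leaf ⟨639, 23928925, (some false), 640, 17043521⟩) (.leaf ⟨640, 17043521, (some false), 639, 4991053⟩)) (.node 1 (.leaf ⟨131, 21905497, none, 640, 27934795⟩) (.leaf ⟨640, 17043521, none, 131, 9375815⟩)))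
(.node 2 (.node 1 (.leaf ⟨639, 15540295, none, 607, 21315661⟩) (.leaf ⟨639, 17043521, none, 607, 25376839⟩)) (.node 1 (.leaf ⟨633, 31801425, (some false), 641, 17043521⟩) (.node 1 (.leaf ⟨641, 17043521, (some false), 633, 14958673⟩) (.leaf ⟨641, 27529303, (some false), 642, 17043521⟩))))))
(.node 9 (.node 4 (.node 2 (.node 1 (.leaf ⟨642, 17043521, (some false), 641, 25516101⟩) (.leaf ⟨642, 23928925, (some false), 643, 17043521⟩)) (.node 1 (.leaf ⟨643, 17043521, (some false), 642, 4991053⟩) (.leaf ⟨131, 27467865, none, 643, 27476051⟩)))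
(.node 2 (.node 1 (.leaf ⟨643, 17043521, none, 131, 17061973⟩) (.leaf ⟨642, 23865435, none, 129, 23685197⟩)) (.node 1 (.leaf ⟨642, 17043521, none, 129, 17180753⟩) (.node 1 (.leaf ⟨641, 31875145, none, 610, 30230605⟩) (.leaf ⟨641, 17043521, none, 610, 19095639⟩)))))
(.node 4 (.node 2 (.node 1 (.leaf ⟨633, 28196931, none, 138, 9121867⟩) (.leaf ⟨633, 17043521, none, 138, 23998551⟩)) (.node 1 (.leaf ⟨632, 8984641, none, 139, 17043521⟩) (.leaf ⟨138, 23928925, (some false), 634, 17506373⟩)))
(.node 2 (.node 1 (.leaf ⟨632, 17043521, none, 139, 11016257⟩) (.leaf ⟨139, 17043521, (some true), 131, 9128025⟩)) (.node 1 (.leaf ⟨139, 32131155, (some true), 131, 28198977⟩) (.node 1 (.leaf ⟨634, 19140701, none, 141, 25305153⟩) (.leaf ⟨634, 17043521, none, 141, 27402335⟩)))))))))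

/-- The facts. -/
def caseDFullFactsLRRR : Tab Fct := .node 139 caseDFullFactsLRRRL caseDFullFactsLRRRR

/-- The facts. -/
def caseDFullFactsLRR : Tab Fct := .node 278 caseDFullFactsLRRL caseDFullFactsLRRR

/-- The facts. -/
def caseDFullFactsLR : Tab Fct := .node 556 caseDFullFactsLRL caseDFullFactsLRR

/-- The facts. -/
def caseDFullFactsL : Tab Fct := .node 1111 caseDFullFactsLL caseDFullFactsLR

/-- The facts. -/
def caseDFullFactsRLLLL : Tab Fct :=
(.node 69 (.node 34 (.node 17 (.node 8 (.node 4 (.node 2 (.node 1 (.leaf ⟨141, 32125001, (some false), 633, 19619909⟩) (.leaf ⟨618, 29904967, (some false), 644, 17043521⟩)) (.node 1 (.leaf ⟨644, 17043521, (some false), 618, 13113429⟩) (.leaf ⟨644, 27529303, (some false), 645, 17043521⟩)))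
(.node 2 (.node 1 (.leaf ⟨645, 17043521, (some false), 644, 25516101⟩) (.leaf ⟨645, 23928925, (some false), 646, 17043521⟩)) (.node 1 (.leaf ⟨646, 17043521, (some false), 645, 4991053⟩) (.leaf ⟨646, 31801425, (some false), 647, 17043521⟩))))
(.node 4 (.node 2 (.node 1 (.leaf ⟨647, 17043521, (some false), 646, 14958673⟩) (.leaf ⟨131, 14897239, none, 647, 27531329⟩)) (.node 1 (.leaf ⟨647, 17043521, none, 131, 12742751⟩) (.leaf ⟨131, 10971209, (some false), 646, 24068179⟩)))
(.node 2 (.node 1 (.leaf ⟨131, 31801425, (some false), 646, 15548491⟩) (.leaf ⟨646, 32325697, none, 646, 15548491⟩)) (.node 1 (.leaf ⟨646, 11485277, none, 646, 24068179⟩) (.node 1 (.leaf ⟨646, 17043521, none, 646, 27529293⟩) (.leaf ⟨646, 17043521, none, 646, 21237837⟩))))))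
(.node 8 (.node 4 (.node 2 (.node 1 (.leaf ⟨646, 10971209, (some false), 645, 30085203⟩) (.leaf ⟨646, 6776923, (some false), 645, 15405143⟩)) (.node 1 (.leaf ⟨622, 4808797, (some false), 648, 17043521⟩) (.leaf ⟨648, 17043521, (some false), 622, 23685197⟩)))
(.node 2 (.node 1 (.leaf ⟨648, 31801425, (some false), 649, 17043521⟩) (.leaf ⟨649, 17043521, (some false), 648, 14958673⟩)) (.node 1 (.leaf ⟨649, 29904967, (some false), 650, 17043521⟩) (.leaf ⟨650, 17043521, (some false), 649, 13113429⟩))))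
(.node 4 (.node 2 (.node 1 (.leaf ⟨131, 25587785, none, 650, 27865155⟩) (.leaf ⟨650, 17043521, none, 131, 19019867⟩)) (.node 1 (.leaf ⟨649, 15208525, none, 135, 17043521⟩) (.leaf ⟨649, 15208525, none, 131, 19013719⟩)))
(.node 2 (.node 1 (.leaf ⟨649, 17043521, none, 131, 10639453⟩) (.leaf ⟨648, 21774419, none, 607, 23543881⟩)) (.node 1 (.leaf ⟨648, 17043521, none, 607, 19730507⟩) (.node 1 (.leaf ⟨607, 19085399, (some false), 622, 25770071⟩) (.leaf ⟨132, 19085399, (some false), 651, 17043521⟩)))))))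
(.node 17 (.node 8 (.node 4 (.node 2 (.node 1 (.leaf ⟨651, 17043521, (some false), 132, 19560517⟩) (.leaf ⟨132, 4808797, (some false), 651, 17766489⟩)) (.node 1 (.leaf ⟨651, 17045593, none, 651, 17766489⟩) (.leaf ⟨651, 17240151, none, 651, 17043521⟩)))
(.node 2 (.node 1 (.leaf ⟨651, 17043521, none, 651, 17240151⟩) (.leaf ⟨651, 17043521, none, 651, 17698881⟩)) (.node 1 (.leaf ⟨132, 6776923, (some false), 654, 17043521⟩) (.leaf ⟨132, 9056345, (some false), 654, 17174603⟩))))
(.node 4 (.node 2 (.node 1 (.leaf ⟨132, 7292999, (some false), 654, 17508421⟩) (.leaf ⟨132, 31801425, (some false), 654, 17719369⟩)) (.node 1 (.leaf ⟨654, 16932953, none, 654, 17508421⟩) (.leaf ⟨654, 17043521, none, 654, 17651789⟩)))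
(.node 2 (.node 1 (.leaf ⟨132, 11495495, (some true), 657, 17043521⟩) (.leaf ⟨132, 31801425, (some true), 657, 11079745⟩)) (.node 1 (.leaf ⟨132, 10971209, (some true), 657, 17051729⟩) (.node 1 (.leaf ⟨132, 4808797, (some true), 657, 27547715⟩) (.leaf ⟨132, 29904967, (some true), 657, 27594827⟩))))))
(.node 9 (.node 4 (.node 2 (.node 1 (.leaf ⟨132, 19085399, (some true), 657, 25507905⟩) (.leaf ⟨132, 4544593, (some true), 657, 19206217⟩)) (.node 1 (.leaf ⟨132, 25385043, (some true), 657, 19673177⟩) (.leaf ⟨657, 17059919, (some true), 658, 17043521⟩)))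
(.node 2 (.node 1 (.leaf ⟨658, 17059919, (some true), 659, 17043521⟩) (.leaf ⟨659, 17043521, (some true), 658, 17043535⟩)) (.node 1 (.leaf ⟨132, 10633295, none, 659, 27809887⟩) (.node 1 (.leaf ⟨659, 17043521, none, 132, 25632841⟩) (.leaf ⟨658, 17651805, none, 657, 17051729⟩)))))
(.node 4 (.node 2 (.node 1 (.leaf ⟨658, 17043521, none, 657, 17641549⟩) (.leaf ⟨132, 13510735, (some true), 664, 17043521⟩)) (.node 1 (.leaf ⟨132, 32131155, (some true), 664, 25440331⟩) (.leaf ⟨664, 25702475, none, 664, 25440331⟩)))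
(.node 2 (.node 1 (.leaf ⟨664, 17043521, none, 664, 17567809⟩) (.leaf ⟨664, 4808797, (some false), 665, 17043521⟩)) (.node 1 (.leaf ⟨664, 27529303, (some false), 665, 17119327⟩) (.node 1 (.leaf ⟨665, 10971209, (some true), 666, 17043521⟩) (.leaf ⟨666, 13510735, (some false), 667, 17043521⟩))))))))
(.node 35 (.node 17 (.node 8 (.node 4 (.node 2 (.node 1 (.leaf ⟨667, 17043521, (some false), 666, 29761631⟩) (.leaf ⟨667, 17059919, (some true), 668, 17043521⟩)) (.node 1 (.leaf ⟨668, 17043521, (some true), 667, 17043535⟩) (.leaf ⟨132, 32204893, none, 668, 17135711⟩)))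
(.node 2 (.node 1 (.leaf ⟨668, 17043521, none, 132, 4677699⟩) (.leaf ⟨667, 8933463, none, 664, 25440331⟩)) (.node 1 (.leaf ⟨667, 17043521, none, 664, 25718869⟩) (.leaf ⟨664, 29904967, (some false), 666, 27594817⟩))))
(.node 4 (.node 2 (.node 1 (.leaf ⟨664, 13510735, (some false), 666, 11366485⟩) (.leaf ⟨665, 19085399, (some false), 669, 17043521⟩)) (.node 1 (.leaf ⟨669, 17043521, (some false), 665, 19560517⟩) (.leaf ⟨669, 19085399, (some false), 670, 17043521⟩)))
(.node 2 (.node 1 (.leaf ⟨670, 17043521, (some false), 669, 19560517⟩) (.leaf ⟨670, 10971209, (some true), 671, 17043521⟩)) (.node 1 (.leaf ⟨671, 17043521, (some true), 670, 11495513⟩) (.node 1 (.leaf ⟨132, 30031963, none, 671, 9261123⟩) (.leaf ⟨671, 17043521, none, 132, 21129291⟩))))))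
(.node 9 (.node 4 (.node 2 (.node 1 (.leaf ⟨670, 17440851, none, 664, 25440331⟩) (.leaf ⟨670, 17043521, none, 664, 21131349⟩)) (.node 1 (.leaf ⟨669, 19159113, none, 666, 11366485⟩) (.leaf ⟨669, 17043521, none, 666, 11286607⟩)))
(.node 2 (.node 1 (.leaf ⟨666, 27529303, (some false), 665, 19689545⟩) (.leaf ⟨657, 19085399, (some false), 677, 17043521⟩)) (.node 1 (.leaf ⟨677, 10971209, (some false), 678, 17043521⟩) (.node 1 (.leaf ⟨678, 17043521, (some false), 677, 9396299⟩) (.leaf ⟨657, 17043521, (some false), 681, 17043521⟩)))))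
(.node 4 (.node 2 (.node 1 (.leaf ⟨681, 17043521, (some false), 657, 17127489⟩) (.leaf ⟨681, 9056345, (some false), 682, 17043521⟩)) (.node 1 (.leaf ⟨682, 17043521, (some false), 681, 10711131⟩) (.leaf ⟨682, 9056345, (some false), 683, 17043521⟩)))
(.node 2 (.node 1 (.leaf ⟨683, 17043521, (some false), 682, 10711131⟩) (.leaf ⟨683, 9056345, (some false), 684, 17043521⟩)) (.node 1 (.leaf ⟨684, 17043521, (some false), 683, 10711131⟩) (.node 1 (.leaf ⟨132, 6641739, none, 684, 27408477⟩) (.leaf ⟨684, 17043521, none, 132, 10901591⟩)))))))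
(.node 17 (.node 8 (.node 4 (.node 2 (.node 1 (.leaf ⟨683, 23885891, none, 654, 17174603⟩) (.leaf ⟨683, 17043521, none, 654, 30226517⟩)) (.node 1 (.leaf ⟨654, 32125001, (some false), 682, 28266587⟩) (.leaf ⟨665, 7292999, (some false), 685, 17043521⟩)))
(.node 2 (.node 1 (.leaf ⟨685, 7292999, (some false), 686, 17043521⟩) (.leaf ⟨686, 17043521, (some false), 685, 21448789⟩)) (.node 1 (.leaf ⟨686, 7292999, (some false), 687, 17043521⟩) (.leaf ⟨687, 17043521, (some false), 686, 21448789⟩))))
(.node 4 (.node 2 (.node 1 (.leaf ⟨132, 5122141, none, 687, 27936849⟩) (.leaf ⟨687, 17043521, none, 132, 15620187⟩)) (.node 1 (.leaf ⟨686, 21317723, none, 547, 17043521⟩) (.leaf ⟨686, 21317723, none, 132, 13572183⟩)))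
(.node 2 (.node 1 (.leaf ⟨686, 17043521, none, 132, 30167133⟩) (.leaf ⟨685, 9128011, none, 654, 17174603⟩)) (.node 1 (.leaf ⟨685, 17043521, none, 654, 7221313⟩) (.node 1 (.leaf ⟨657, 4808797, (some false), 688, 17043521⟩) (.leaf ⟨688, 10971209, (some false), 689, 17043521⟩))))))
(.node 9 (.node 4 (.node 2 (.node 1 (.leaf ⟨689, 6776923, (some false), 690, 17043521⟩) (.leaf ⟨690, 17043521, (some false), 689, 21979225⟩)) (.node 1 (.leaf ⟨690, 10971209, (some false), 691, 17043521⟩) (.leaf ⟨691, 17043521, (some false), 690, 9396299⟩)))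
(.node 2 (.node 1 (.leaf ⟨132, 25643085, none, 691, 28192839⟩) (.leaf ⟨691, 17043521, none, 132, 19085405⟩)) (.node 1 (.leaf ⟨690, 28256325, none, 651, 17043521⟩) (.node 1 (.leaf ⟨690, 17043521, none, 651, 21192793⟩) (.leaf ⟨651, 27529303, (some false), 689, 29501515⟩)))))
(.node 4 (.node 2 (.node 1 (.leaf ⟨651, 9056345, (some false), 689, 15538261⟩) (.leaf ⟨651, 29904967, (some false), 689, 25851985⟩)) (.node 1 (.leaf ⟨651, 23928925, (some false), 689, 4677711⟩) (.leaf ⟨138, 27529303, (some false), 692, 17043521⟩)))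
(.node 2 (.node 1 (.leaf ⟨138, 31801425, (some false), 692, 17717313⟩) (.leaf ⟨138, 29904967, (some false), 692, 16920655⟩)) (.node 1 (.leaf ⟨138, 32125001, (some false), 692, 17176657⟩) (.node 1 (.leaf ⟨692, 19085399, (some false), 693, 17043521⟩) (.leaf ⟨693, 19085399, (some false), 694, 17043521⟩)))))))))

/-- The facts. -/
def caseDFullFactsRLLLR : Tab Fct :=
(.node 69 (.node 34 (.node 17 (.node 8 (.node 4 (.node 2 (.node 1 (.leaf ⟨694, 17043521, (some false), 693, 19560517⟩) (.leaf ⟨138, 11292737, none, 694, 19798095⟩)) (.node 1 (.leaf ⟨694, 17043521, none, 138, 31936601⟩) (.leaf ⟨138, 13510735, (some false), 693, 19877955⟩)))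
(.node 2 (.node 1 (.leaf ⟨138, 7292999, (some false), 693, 19802189⟩) (.leaf ⟨138, 4808797, (some false), 693, 19740753⟩)) (.node 1 (.leaf ⟨138, 10971209, (some false), 693, 19224653⟩) (.leaf ⟨138, 32131155, (some true), 705, 17043521⟩))))
(.node 4 (.node 2 (.node 1 (.leaf ⟨138, 29904967, (some true), 705, 19165249⟩) (.leaf ⟨705, 27553865, none, 705, 19165249⟩)) (.node 1 (.leaf ⟨705, 17043521, none, 705, 25432137⟩) (.leaf ⟨705, 17043521, (some false), 717, 17043521⟩)))
(.node 2 (.node 1 (.leaf ⟨717, 17043521, (some false), 705, 17127489⟩) (.leaf ⟨717, 6776923, (some false), 718, 17043521⟩)) (.node 1 (.leaf ⟨718, 17043521, (some false), 717, 21979225⟩) (.node 1 (.leaf ⟨718, 7292999, (some false), 719, 17043521⟩) (.leaf ⟨719, 17043521, (some false), 718, 21448789⟩))))))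
(.node 8 (.node 4 (.node 2 (.node 1 (.leaf ⟨719, 7292999, (some false), 720, 17043521⟩) (.leaf ⟨720, 17043521, (some false), 719, 21448789⟩)) (.node 1 (.leaf ⟨138, 23670853, none, 720, 28198979⟩) (.leaf ⟨720, 17043521, none, 138, 31602777⟩)))
(.node 2 (.node 1 (.leaf ⟨719, 28002369, none, 693, 19224653⟩) (.leaf ⟨719, 17043521, none, 693, 4923481⟩)) (.node 1 (.leaf ⟨693, 27529303, (some false), 718, 32196701⟩) (.leaf ⟨705, 19085399, (some false), 725, 17043521⟩))))
(.node 4 (.node 2 (.node 1 (.leaf ⟨705, 27529303, (some false), 725, 17004613⟩) (.leaf ⟨725, 10971209, (some false), 726, 17043521⟩)) (.node 1 (.leaf ⟨726, 13310023, (some false), 727, 17043521⟩) (.leaf ⟨727, 17043521, (some false), 726, 29511765⟩)))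
(.node 2 (.node 1 (.leaf ⟨727, 29904967, (some false), 728, 17043521⟩) (.leaf ⟨728, 17043521, (some false), 727, 13113429⟩)) (.node 1 (.leaf ⟨138, 4603969, none, 728, 27621463⟩) (.node 1 (.leaf ⟨728, 17043521, none, 138, 21979215⟩) (.leaf ⟨727, 15224915, none, 610, 17043521⟩)))))))
(.node 17 (.node 8 (.node 4 (.node 2 (.node 1 (.leaf ⟨727, 17043521, none, 610, 9384011⟩) (.leaf ⟨726, 5056583, none, 612, 13590601⟩)) (.node 1 (.leaf ⟨726, 17043521, none, 612, 23865429⟩) (.leaf ⟨139, 17059919, (some true), 729, 17043521⟩)))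
(.node 2 (.node 1 (.leaf ⟨139, 13510735, (some true), 729, 27859017⟩) (.leaf ⟨729, 17059919, (some true), 730, 17043521⟩)) (.node 1 (.leaf ⟨730, 17043521, (some true), 729, 17043535⟩) (.leaf ⟨730, 17059919, (some true), 731, 17043521⟩))))
(.node 4 (.node 2 (.node 1 (.leaf ⟨731, 17043521, (some true), 730, 17043535⟩) (.leaf ⟨139, 9205837, none, 731, 8998983⟩)) (.node 1 (.leaf ⟨731, 17043521, none, 139, 17651795⟩) (.leaf ⟨730, 17651805, none, 131, 9128025⟩)))
(.node 2 (.node 1 (.leaf ⟨730, 17043521, none, 131, 27412567⟩) (.leaf ⟨729, 11278415, none, 132, 17043521⟩)) (.node 1 (.leaf ⟨729, 17043521, none, 132, 27859031⟩) (.node 1 (.leaf ⟨139, 4808797, (some true), 732, 17043521⟩) (.leaf ⟨139, 29904967, (some true), 732, 19667017⟩))))))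
(.node 9 (.node 4 (.node 2 (.node 1 (.leaf ⟨139, 4544593, (some true), 732, 27596875⟩) (.leaf ⟨139, 31801425, (some true), 732, 27553859⟩)) (.node 1 (.leaf ⟨139, 19085399, (some true), 732, 19165251⟩) (.leaf ⟨139, 25385043, (some true), 732, 11016283⟩)))
(.node 2 (.node 1 (.leaf ⟨139, 10971209, (some true), 732, 25507923⟩) (.leaf ⟨139, 11495495, (some true), 732, 25761859⟩)) (.node 1 (.leaf ⟨732, 27596891, none, 732, 11016283⟩) (.node 1 (.leaf ⟨732, 17043521, none, 732, 9179201⟩) (.leaf ⟨732, 17043521, (some false), 737, 17043521⟩)))))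
(.node 4 (.node 2 (.node 1 (.leaf ⟨732, 13510735, (some false), 737, 17463387⟩) (.leaf ⟨732, 29904967, (some false), 737, 17766487⟩)) (.node 1 (.leaf ⟨141, 19085399, (some false), 741, 17043521⟩) (.leaf ⟨741, 19085399, (some false), 742, 17043521⟩)))
(.node 2 (.node 1 (.leaf ⟨742, 17043521, (some false), 741, 19560517⟩) (.leaf ⟨742, 11495495, (some true), 743, 17043521⟩)) (.node 1 (.leaf ⟨743, 17043521, (some true), 742, 10971207⟩) (.node 1 (.leaf ⟨139, 13256785, none, 743, 25524299⟩) (.leaf ⟨743, 17043521, none, 139, 29778003⟩))))))))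
(.node 35 (.node 17 (.node 8 (.node 4 (.node 2 (.node 1 (.leaf ⟨742, 19867741, none, 131, 28198977⟩) (.leaf ⟨742, 17043521, none, 131, 23412811⟩)) (.node 1 (.leaf ⟨741, 19691589, none, 646, 15548491⟩) (.leaf ⟨741, 17043521, none, 646, 23414871⟩)))
(.node 2 (.node 1 (.leaf ⟨128, 17043521, (some false), 747, 17043521⟩) (.leaf ⟨128, 19085399, (some false), 747, 17197143⟩)) (.node 1 (.leaf ⟨747, 17195093, none, 747, 17197143⟩) (.leaf ⟨747, 17059905, none, 747, 17043521⟩))))
(.node 4 (.node 2 (.node 1 (.leaf ⟨747, 17043521, none, 747, 17059905⟩) (.leaf ⟨747, 17043521, none, 747, 17045571⟩)) (.node 1 (.leaf ⟨747, 6776923, (some false), 748, 17043521⟩) (.leaf ⟨748, 17043521, (some false), 747, 21979225⟩)))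
(.node 2 (.node 1 (.leaf ⟨747, 23928925, (some false), 748, 17176643⟩) (.leaf ⟨747, 13310023, (some false), 748, 16984153⟩)) (.node 1 (.leaf ⟨747, 9056345, (some false), 748, 16939095⟩) (.node 1 (.leaf ⟨748, 7292999, (some false), 749, 17043521⟩) (.leaf ⟨749, 17043521, (some false), 748, 21448789⟩))))))
(.node 9 (.node 4 (.node 2 (.node 1 (.leaf ⟨139, 31877199, none, 749, 27674707⟩) (.leaf ⟨749, 17043521, none, 139, 12861519⟩)) (.node 1 (.leaf ⟨748, 4606031, none, 141, 23926879⟩) (.leaf ⟨748, 17043521, none, 141, 21907527⟩)))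
(.node 2 (.node 1 (.leaf ⟨141, 7292999, (some false), 747, 7217243⟩) (.leaf ⟨737, 23928925, (some false), 750, 17043521⟩)) (.node 1 (.leaf ⟨750, 31801425, (some false), 751, 17043521⟩) (.node 1 (.leaf ⟨751, 17043521, (some false), 750, 14958673⟩) (.leaf ⟨751, 27529303, (some false), 752, 17043521⟩)))))
(.node 4 (.node 2 (.node 1 (.leaf ⟨752, 17043521, (some false), 751, 25516101⟩) (.leaf ⟨139, 17786973, none, 752, 27988061⟩)) (.node 1 (.leaf ⟨752, 17043521, none, 139, 15351873⟩) (.leaf ⟨751, 27553887, none, 141, 23926879⟩)))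
(.node 2 (.node 1 (.leaf ⟨751, 17043521, none, 141, 15224897⟩) (.leaf ⟨141, 29904967, (some false), 750, 14958677⟩)) (.node 1 (.leaf ⟨141, 13310023, (some false), 750, 32260171⟩) (.node 1 (.leaf ⟨750, 7292999, (some false), 756, 17043521⟩) (.leaf ⟨756, 19085399, (some false), 757, 17043521⟩)))))))
(.node 17 (.node 8 (.node 4 (.node 2 (.node 1 (.leaf ⟨757, 17043521, (some false), 756, 19560517⟩) (.leaf ⟨141, 14831709, none, 757, 19691585⟩)) (.node 1 (.leaf ⟨757, 17043521, none, 141, 23556167⟩) (.leaf ⟨141, 23928925, (some false), 756, 19079259⟩)))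
(.node 2 (.node 1 (.leaf ⟨141, 4808797, (some false), 756, 19095619⟩) (.leaf ⟨141, 31801425, (some true), 761, 17043521⟩)) (.node 1 (.leaf ⟨141, 4808797, (some true), 761, 11087945⟩) (.leaf ⟨141, 32125001, (some true), 764, 17043521⟩))))
(.node 4 (.node 2 (.node 1 (.leaf ⟨141, 4544593, (some true), 764, 17641563⟩) (.leaf ⟨141, 13310023, (some true), 764, 27865155⟩)) (.node 1 (.leaf ⟨141, 29904967, (some true), 764, 25759825⟩) (.leaf ⟨764, 17043521, (some false), 771, 17043521⟩)))
(.node 2 (.node 1 (.leaf ⟨771, 17043521, (some false), 764, 17127489⟩) (.leaf ⟨771, 19085399, (some true), 772, 17043521⟩)) (.node 1 (.leaf ⟨772, 19085399, (some false), 773, 17043521⟩) (.node 1 (.leaf ⟨773, 17043521, (some false), 772, 19560517⟩) (.leaf ⟨773, 11495495, (some true), 774, 17043521⟩))))))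
(.node 9 (.node 4 (.node 2 (.node 1 (.leaf ⟨774, 17043521, (some true), 773, 10971207⟩) (.leaf ⟨141, 15560777, none, 774, 11360335⟩)) (.node 1 (.leaf ⟨774, 17043521, none, 141, 14962781⟩) (.leaf ⟨773, 26165317, none, 764, 25759825⟩)))
(.node 2 (.node 1 (.leaf ⟨773, 17043521, none, 764, 17000543⟩) (.leaf ⟨772, 19339351, none, 771, 17043521⟩)) (.node 1 (.leaf ⟨772, 17043521, none, 771, 19273815⟩) (.node 1 (.leaf ⟨141, 17059919, (some true), 775, 17043521⟩) (.leaf ⟨141, 25385043, (some true), 775, 11278403⟩)))))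
(.node 4 (.node 2 (.node 1 (.leaf ⟨141, 17043521, (some true), 775, 17053777⟩) (.leaf ⟨141, 19085399, (some true), 775, 19224649⟩)) (.node 1 (.leaf ⟨775, 27529303, (some false), 780, 17043521⟩) (.leaf ⟨780, 19085399, (some false), 781, 17043521⟩)))
(.node 2 (.node 1 (.leaf ⟨781, 17043521, (some false), 780, 19560517⟩) (.leaf ⟨781, 19085399, (some false), 782, 17043521⟩)) (.node 1 (.leaf ⟨782, 17043521, (some false), 781, 19560517⟩) (.node 1 (.leaf ⟨782, 19085399, (some true), 783, 17043521⟩) (.leaf ⟨783, 17043521, (some true), 782, 19626071⟩)))))))))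

/-- The facts. -/
def caseDFullFactsRLLL : Tab Fct := .node 139 caseDFullFactsRLLLL caseDFullFactsRLLLR

/-- The facts. -/
def caseDFullFactsRLLRL : Tab Fct :=
(.node 69 (.node 34 (.node 17 (.node 8 (.node 4 (.node 2 (.node 1 (.leaf ⟨141, 28192849, none, 783, 17578059⟩) (.leaf ⟨783, 17043521, none, 141, 11212875⟩)) (.node 1 (.leaf ⟨782, 19353695, none, 775, 11278403⟩) (.leaf ⟨782, 17043521, none, 775, 31936601⟩)))
(.node 2 (.node 1 (.leaf ⟨775, 13510735, (some false), 781, 19877955⟩) (.leaf ⟨141, 10971209, (some true), 789, 17043521⟩)) (.node 1 (.leaf ⟨789, 17043521, (some true), 141, 11495513⟩) (.leaf ⟨789, 27529303, (some false), 790, 17043521⟩))))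
(.node 4 (.node 2 (.node 1 (.leaf ⟨790, 17043521, (some false), 789, 25516101⟩) (.leaf ⟨790, 9056345, (some false), 791, 17043521⟩)) (.node 1 (.leaf ⟨791, 17043521, (some false), 790, 10711131⟩) (.leaf ⟨791, 23928925, (some false), 792, 17043521⟩)))
(.node 2 (.node 1 (.leaf ⟨792, 17043521, (some false), 791, 4991053⟩) (.leaf ⟨792, 32125001, (some false), 793, 17043521⟩)) (.node 1 (.leaf ⟨793, 17043521, (some false), 792, 14905419⟩) (.node 1 (.leaf ⟨141, 19079241, none, 793, 27531339⟩) (.leaf ⟨793, 17043521, none, 141, 25305155⟩))))))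
(.node 8 (.node 4 (.node 2 (.node 1 (.leaf ⟨792, 30226507, none, 142, 17043521⟩) (.leaf ⟨792, 30226507, none, 139, 10639425⟩)) (.node 1 (.leaf ⟨792, 17043521, none, 139, 32323679⟩) (.leaf ⟨791, 5126219, none, 141, 21368927⟩)))
(.node 2 (.node 1 (.leaf ⟨791, 17043521, none, 141, 31670367⟩) (.leaf ⟨141, 31801425, (some false), 790, 10901587⟩)) (.node 1 (.leaf ⟨764, 29904967, (some false), 794, 17043521⟩) (.leaf ⟨794, 17043521, (some false), 764, 13113429⟩))))
(.node 4 (.node 2 (.node 1 (.leaf ⟨794, 4808797, (some false), 795, 17043521⟩) (.leaf ⟨795, 17043521, (some false), 794, 23685197⟩)) (.node 1 (.leaf ⟨795, 31801425, (some false), 796, 17043521⟩) (.leaf ⟨796, 17043521, (some false), 795, 14958673⟩)))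
(.node 2 (.node 1 (.leaf ⟨796, 29904967, (some false), 797, 17043521⟩) (.leaf ⟨797, 17043521, (some false), 796, 13113429⟩)) (.node 1 (.leaf ⟨141, 4681803, none, 797, 27881545⟩) (.node 1 (.leaf ⟨797, 17043521, none, 141, 23466051⟩) (.leaf ⟨796, 15214679, none, 633, 19619909⟩)))))))
(.node 17 (.node 8 (.node 4 (.node 2 (.node 1 (.leaf ⟨796, 15214679, none, 138, 9320525⟩) (.leaf ⟨796, 17043521, none, 138, 7159885⟩)) (.node 1 (.leaf ⟨795, 32194645, none, 692, 17717313⟩) (.leaf ⟨795, 17043521, none, 692, 4792395⟩)))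
(.node 2 (.node 1 (.leaf ⟨692, 4808797, (some false), 794, 23668825⟩) (.leaf ⟨764, 4808797, (some false), 798, 17043521⟩)) (.node 1 (.leaf ⟨798, 17043521, (some false), 764, 23685197⟩) (.leaf ⟨798, 7292999, (some false), 799, 17043521⟩))))
(.node 4 (.node 2 (.node 1 (.leaf ⟨799, 17043521, (some false), 798, 21448789⟩) (.leaf ⟨799, 7292999, (some false), 800, 17043521⟩)) (.node 1 (.leaf ⟨800, 17043521, (some false), 799, 21448789⟩) (.leaf ⟨800, 7292999, (some false), 801, 17043521⟩)))
(.node 2 (.node 1 (.leaf ⟨801, 17043521, (some false), 800, 21448789⟩) (.leaf ⟨141, 12802143, none, 801, 27478089⟩)) (.node 1 (.leaf ⟨801, 17043521, none, 141, 31733839⟩) (.node 1 (.leaf ⟨800, 7096391, none, 142, 17043521⟩) (.leaf ⟨800, 7096391, none, 139, 10639425⟩))))))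
(.node 9 (.node 4 (.node 2 (.node 1 (.leaf ⟨800, 17043521, none, 139, 13195345⟩) (.leaf ⟨799, 15484997, none, 138, 6781015⟩)) (.node 1 (.leaf ⟨799, 17043521, none, 138, 32004165⟩) (.leaf ⟨798, 4671557, none, 692, 16920655⟩)))
(.node 2 (.node 1 (.leaf ⟨798, 17043521, none, 692, 6826073⟩) (.leaf ⟨692, 29904967, (some false), 764, 27881543⟩)) (.node 1 (.leaf ⟨167, 6776923, (some false), 802, 17043521⟩) (.node 1 (.leaf ⟨802, 17043521, (some false), 167, 21979225⟩) (.leaf ⟨802, 19085399, (some false), 803, 17043521⟩)))))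
(.node 4 (.node 2 (.node 1 (.leaf ⟨803, 17043521, (some false), 802, 19560517⟩) (.leaf ⟨144, 23228507, none, 803, 19079247⟩)) (.node 1 (.leaf ⟨803, 17043521, none, 144, 27619417⟩) (.leaf ⟨144, 13510735, (some false), 802, 19540055⟩)))
(.node 2 (.node 1 (.leaf ⟨144, 29904967, (some false), 802, 19556441⟩) (.leaf ⟨144, 13510735, (some true), 804, 17043521⟩)) (.node 1 (.leaf ⟨144, 29904967, (some true), 804, 17119315⟩) (.node 1 (.leaf ⟨144, 32131155, (some true), 804, 17127505⟩) (.leaf ⟨144, 11495495, (some true), 818, 17043521⟩))))))))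
(.node 35 (.node 17 (.node 8 (.node 4 (.node 2 (.node 1 (.leaf ⟨144, 17059919, (some true), 818, 9181267⟩) (.leaf ⟨818, 25434179, none, 818, 9181267⟩)) (.node 1 (.leaf ⟨818, 17043521, none, 818, 8917081⟩) (.leaf ⟨818, 13510735, (some false), 819, 17043521⟩)))
(.node 2 (.node 1 (.leaf ⟨819, 17111105, none, 819, 17043521⟩) (.leaf ⟨819, 17043521, none, 819, 17111105⟩)) (.node 1 (.leaf ⟨819, 19085399, (some false), 820, 17043521⟩) (.leaf ⟨820, 17584209, none, 820, 17043521⟩))))
(.node 4 (.node 2 (.node 1 (.leaf ⟨820, 17043521, none, 820, 17584209⟩) (.leaf ⟨820, 19085399, (some false), 821, 17043521⟩)) (.node 1 (.leaf ⟨821, 17043521, (some false), 820, 19560517⟩) (.leaf ⟨821, 17059919, (some true), 822, 17043521⟩)))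
(.node 2 (.node 1 (.leaf ⟨822, 17043521, (some true), 821, 17043535⟩) (.leaf ⟨144, 16998479, none, 822, 19167307⟩)) (.node 1 (.leaf ⟨822, 17043521, none, 144, 19884125⟩) (.node 1 (.leaf ⟨821, 27537485, none, 818, 17043521⟩) (.leaf ⟨821, 17043521, none, 818, 27537477⟩))))))
(.node 9 (.node 4 (.node 2 (.node 1 (.leaf ⟨818, 27529303, (some false), 820, 19691589⟩) (.leaf ⟨820, 32125001, (some false), 833, 17043521⟩)) (.node 1 (.leaf ⟨820, 7292999, (some false), 833, 16988233⟩) (.leaf ⟨833, 4808797, (some false), 834, 17043521⟩)))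
(.node 2 (.node 1 (.leaf ⟨834, 17043521, (some false), 833, 23685197⟩) (.leaf ⟨834, 31801425, (some false), 835, 17043521⟩)) (.node 1 (.leaf ⟨835, 17043521, (some false), 834, 14958673⟩) (.node 1 (.leaf ⟨144, 19097685, none, 835, 27809869⟩) (.leaf ⟨835, 17043521, none, 144, 10895443⟩)))))
(.node 4 (.node 2 (.node 1 (.leaf ⟨834, 11485267, none, 167, 8802393⟩) (.leaf ⟨834, 17043521, none, 167, 19357777⟩)) (.node 1 (.leaf ⟨167, 19085399, (some false), 833, 15274063⟩) (.leaf ⟨804, 13510735, (some false), 836, 17043521⟩)))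
(.node 2 (.node 1 (.leaf ⟨836, 4808797, (some false), 837, 17043521⟩) (.leaf ⟨837, 32125001, (some false), 838, 17043521⟩)) (.node 1 (.leaf ⟨838, 17043521, (some false), 837, 14905419⟩) (.node 1 (.leaf ⟨838, 29904967, (some false), 839, 17043521⟩) (.leaf ⟨839, 17043521, (some false), 838, 13113429⟩)))))))
(.node 17 (.node 8 (.node 4 (.node 2 (.node 1 (.leaf ⟨144, 4941891, none, 839, 27865179⟩) (.leaf ⟨839, 17043521, none, 144, 30031955⟩)) (.node 1 (.leaf ⟨838, 23605341, none, 167, 8802393⟩) (.leaf ⟨838, 17043521, none, 167, 31606875⟩)))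
(.node 2 (.node 1 (.leaf ⟨167, 7292999, (some false), 837, 12941391⟩) (.leaf ⟨818, 29904967, (some false), 840, 17043521⟩)) (.node 1 (.leaf ⟨818, 17043521, (some false), 840, 17780809⟩) (.leaf ⟨840, 13510735, (some false), 841, 17043521⟩))))
(.node 4 (.node 2 (.node 1 (.leaf ⟨841, 29904967, (some false), 842, 17043521⟩) (.leaf ⟨842, 17043521, (some false), 841, 13113429⟩)) (.node 1 (.leaf ⟨842, 13510735, (some false), 843, 17043521⟩) (.leaf ⟨843, 17043521, (some false), 842, 29761631⟩)))
(.node 2 (.node 1 (.leaf ⟨144, 25768031, none, 843, 27545677⟩) (.leaf ⟨843, 17043521, none, 144, 19683417⟩)) (.node 1 (.leaf ⟨842, 23296087, none, 145, 17043521⟩) (.node 1 (.leaf ⟨842, 23296087, none, 144, 19032151⟩) (.leaf ⟨842, 17043521, none, 144, 27605057⟩))))))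
(.node 9 (.node 4 (.node 2 (.node 1 (.leaf ⟨841, 25696349, none, 802, 19540055⟩) (.leaf ⟨841, 17043521, none, 802, 10971227⟩)) (.node 1 (.leaf ⟨147, 23928925, (some false), 844, 17043521⟩) (.leaf ⟨147, 13310023, (some false), 844, 17244251⟩)))
(.node 2 (.node 1 (.leaf ⟨147, 10971209, (some false), 844, 16932939⟩) (.leaf ⟨147, 13310023, (some true), 850, 17043521⟩)) (.node 1 (.leaf ⟨850, 19140673, none, 850, 17043521⟩) (.node 1 (.leaf ⟨850, 19140675, none, 850, 17043521⟩) (.leaf ⟨850, 25432129, none, 850, 17043521⟩)))))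
(.node 4 (.node 2 (.node 1 (.leaf ⟨850, 17043521, none, 850, 25432129⟩) (.leaf ⟨850, 17043521, none, 850, 19140675⟩)) (.node 1 (.leaf ⟨850, 17043521, none, 850, 19140673⟩) (.leaf ⟨850, 13510735, (some false), 870, 17043521⟩)))
(.node 2 (.node 1 (.leaf ⟨850, 17043521, (some false), 870, 17197151⟩) (.leaf ⟨850, 19085399, (some false), 870, 16922689⟩)) (.node 1 (.leaf ⟨850, 27529303, (some false), 870, 17768539⟩) (.node 1 (.leaf ⟨870, 17768523, none, 870, 17768539⟩) (.leaf ⟨870, 17043521, none, 870, 17043537⟩)))))))))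

/-- The facts. -/
def caseDFullFactsRLLRR : Tab Fct :=
(.node 69 (.node 34 (.node 17 (.node 8 (.node 4 (.node 2 (.node 1 (.leaf ⟨870, 27529303, (some false), 871, 17043521⟩) (.leaf ⟨871, 17651807, none, 871, 17043521⟩)) (.node 1 (.leaf ⟨871, 17043521, none, 871, 17651807⟩) (.leaf ⟨871, 9056345, (some false), 872, 17043521⟩)))
(.node 2 (.node 1 (.leaf ⟨872, 17043521, (some false), 871, 10711131⟩) (.leaf ⟨872, 23928925, (some false), 873, 17043521⟩)) (.node 1 (.leaf ⟨873, 17043521, (some false), 872, 4991053⟩) (.leaf ⟨147, 32127053, none, 873, 27926605⟩))))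
(.node 4 (.node 2 (.node 1 (.leaf ⟨873, 17043521, none, 147, 14966849⟩) (.leaf ⟨872, 13443153, none, 844, 17244251⟩)) (.node 1 (.leaf ⟨872, 17043521, none, 844, 15274055⟩) (.leaf ⟨844, 4808797, (some false), 871, 4679761⟩)))
(.node 2 (.node 1 (.leaf ⟨148, 17043521, (some false), 877, 17043521⟩) (.leaf ⟨148, 27529303, (some false), 877, 17633351⟩)) (.node 1 (.leaf ⟨148, 13510735, (some false), 877, 17528923⟩) (.node 1 (.leaf ⟨148, 19085399, (some false), 877, 17719367⟩) (.leaf ⟨877, 19085399, (some false), 878, 17043521⟩))))))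
(.node 8 (.node 4 (.node 2 (.node 1 (.leaf ⟨878, 19085399, (some false), 879, 17043521⟩) (.leaf ⟨879, 17043521, (some false), 878, 19560517⟩)) (.node 1 (.leaf ⟨148, 17522759, none, 879, 19867713⟩) (.leaf ⟨879, 17043521, none, 148, 19353693⟩)))
(.node 2 (.node 1 (.leaf ⟨878, 19673163, none, 877, 17719367⟩) (.leaf ⟨878, 17043521, none, 877, 19603525⟩)) (.node 1 (.leaf ⟨161, 11495495, (some true), 891, 17043521⟩) (.leaf ⟨891, 17043521, (some true), 161, 10971207⟩))))
(.node 4 (.node 2 (.node 1 (.leaf ⟨891, 27529303, (some false), 892, 17043521⟩) (.leaf ⟨892, 17043521, (some false), 891, 25516101⟩)) (.node 1 (.leaf ⟨892, 25385043, (some true), 893, 17043521⟩) (.leaf ⟨893, 17043521, (some true), 892, 25892931⟩)))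
(.node 2 (.node 1 (.leaf ⟨148, 27881553, none, 893, 25759813⟩) (.leaf ⟨893, 17043521, none, 148, 19157071⟩)) (.node 1 (.leaf ⟨892, 25890883, none, 149, 17043521⟩) (.node 1 (.leaf ⟨892, 25890883, none, 25, 25632841⟩) (.leaf ⟨892, 17043521, none, 25, 17594461⟩)))))))
(.node 17 (.node 8 (.node 4 (.node 2 (.node 1 (.leaf ⟨891, 21178447, none, 19, 25516101⟩) (.leaf ⟨891, 17043521, none, 19, 29509701⟩)) (.node 1 (.leaf ⟨161, 16984149, none, 129, 17592391⟩) (.leaf ⟨161, 17043521, none, 129, 17526867⟩)))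
(.node 2 (.node 1 (.leaf ⟨154, 19865693, none, 610, 30230605⟩) (.leaf ⟨162, 16988233, none, 610, 24004675⟩)) (.node 1 (.leaf ⟨147, 23289929, none, 610, 24004675⟩) (.leaf ⟨610, 17043521, none, 147, 17526873⟩))))
(.node 4 (.node 2 (.node 1 (.leaf ⟨147, 17043521, (some false), 138, 12867663⟩) (.leaf ⟨147, 19085399, (some false), 138, 21375057⟩)) (.node 1 (.leaf ⟨147, 4808797, (some false), 138, 23951439⟩) (.leaf ⟨147, 29904967, (some false), 138, 28201039⟩)))
(.node 2 (.node 1 (.leaf ⟨612, 23224389, none, 844, 16932939⟩) (.leaf ⟨844, 17043521, none, 612, 27529311⟩)) (.node 1 (.leaf ⟨612, 4808797, (some false), 871, 21913691⟩) (.node 1 (.leaf ⟨154, 19865693, none, 147, 29773899⟩) (.leaf ⟨154, 17043521, none, 147, 11286605⟩))))))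
(.node 9 (.node 4 (.node 2 (.node 1 (.leaf ⟨148, 11032651, none, 747, 19624015⟩) (.leaf ⟨747, 17043521, none, 148, 13181017⟩)) (.node 1 (.leaf ⟨748, 16988229, none, 877, 17633351⟩) (.leaf ⟨141, 32262217, none, 877, 17633351⟩)))
(.node 2 (.node 1 (.leaf ⟨877, 17043521, none, 141, 12929117⟩) (.leaf ⟨878, 17463381, none, 790, 10901587⟩)) (.node 1 (.leaf ⟨141, 25641025, none, 790, 10901587⟩) (.node 1 (.leaf ⟨790, 17043521, none, 141, 15036511⟩) (.leaf ⟨789, 9252937, none, 633, 19619909⟩)))))
(.node 4 (.node 2 (.node 1 (.leaf ⟨789, 9252937, none, 138, 9320525⟩) (.leaf ⟨789, 17043521, none, 138, 17766485⟩)) (.node 1 (.leaf ⟨138, 19085399, (some true), 141, 27992147⟩) (.leaf ⟨150, 13510735, (some true), 911, 17043521⟩)))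
(.node 2 (.node 1 (.leaf ⟨150, 31801425, (some true), 911, 9197635⟩) (.leaf ⟨911, 11358273, none, 911, 9197635⟩)) (.node 1 (.leaf ⟨911, 11360323, none, 911, 9197635⟩) (.node 1 (.leaf ⟨911, 17043521, none, 911, 19206209⟩) (.leaf ⟨911, 17043521, none, 911, 19208259⟩))))))))
(.node 35 (.node 17 (.node 8 (.node 4 (.node 2 (.node 1 (.leaf ⟨911, 17059919, (some true), 912, 17043521⟩) (.leaf ⟨912, 17043521, (some true), 911, 17043535⟩)) (.node 1 (.leaf ⟨912, 19140673, none, 912, 17043521⟩) (.leaf ⟨912, 19140675, none, 912, 17043521⟩)))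
(.node 2 (.node 1 (.leaf ⟨912, 17043521, none, 912, 19140675⟩) (.leaf ⟨912, 17043521, none, 912, 19140673⟩)) (.node 1 (.leaf ⟨912, 17059919, (some true), 913, 17043521⟩) (.leaf ⟨913, 17043521, (some true), 912, 17043535⟩))))
(.node 4 (.node 2 (.node 1 (.leaf ⟨150, 13592653, none, 913, 19159133⟩) (.leaf ⟨913, 17043521, none, 150, 29778003⟩)) (.node 1 (.leaf ⟨150, 32131155, (some true), 912, 25702477⟩) (.leaf ⟨911, 27529303, (some false), 928, 17043521⟩)))
(.node 2 (.node 1 (.leaf ⟨928, 17059905, none, 928, 17043521⟩) (.leaf ⟨928, 17043521, none, 928, 17059905⟩)) (.node 1 (.leaf ⟨928, 19085399, (some false), 929, 17043521⟩) (.node 1 (.leaf ⟨929, 17043521, (some false), 928, 19560517⟩) (.leaf ⟨929, 19085399, (some false), 930, 17043521⟩))))))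
(.node 9 (.node 4 (.node 2 (.node 1 (.leaf ⟨930, 17043521, (some false), 929, 19560517⟩) (.leaf ⟨930, 19085399, (some true), 931, 17043521⟩)) (.node 1 (.leaf ⟨931, 17043521, (some true), 930, 19626071⟩) (.leaf ⟨150, 15419487, none, 931, 17633371⟩)))
(.node 2 (.node 1 (.leaf ⟨931, 17043521, none, 150, 30099525⟩) (.leaf ⟨930, 25915471, none, 911, 17043521⟩)) (.node 1 (.leaf ⟨930, 17043521, none, 911, 31936601⟩) (.node 1 (.leaf ⟨911, 13510735, (some false), 929, 19877955⟩) (.leaf ⟨912, 4808797, (some false), 932, 17043521⟩)))))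
(.node 4 (.node 2 (.node 1 (.leaf ⟨932, 17043521, (some false), 912, 23685197⟩) (.leaf ⟨932, 17584193, none, 932, 17043521⟩)) (.node 1 (.leaf ⟨932, 17584209, none, 932, 17043521⟩) (.leaf ⟨932, 17043521, none, 932, 17584209⟩)))
(.node 2 (.node 1 (.leaf ⟨932, 17043521, none, 932, 17584193⟩) (.leaf ⟨932, 10971209, (some false), 933, 17043521⟩)) (.node 1 (.leaf ⟨933, 17043521, (some false), 932, 9396299⟩) (.node 1 (.leaf ⟨933, 13310023, (some false), 934, 17043521⟩) (.leaf ⟨934, 17043521, (some false), 933, 29511765⟩)))))))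
(.node 17 (.node 8 (.node 4 (.node 2 (.node 1 (.leaf ⟨934, 29904967, (some false), 935, 17043521⟩) (.leaf ⟨935, 17043521, (some false), 934, 13113429⟩)) (.node 1 (.leaf ⟨150, 15417411, none, 935, 27613277⟩) (.leaf ⟨935, 17043521, none, 150, 23224399⟩)))
(.node 2 (.node 1 (.leaf ⟨934, 4749395, none, 157, 17260619⟩) (.leaf ⟨934, 17043521, none, 157, 8804439⟩)) (.node 1 (.leaf ⟨157, 6776923, (some false), 933, 21901407⟩) (.leaf ⟨911, 29904967, (some false), 936, 17043521⟩))))
(.node 4 (.node 2 (.node 1 (.leaf ⟨911, 4808797, (some false), 936, 16922695⟩) (.leaf ⟨936, 16939079, none, 936, 16922695⟩)) (.node 1 (.leaf ⟨936, 17043521, none, 936, 17059905⟩) (.leaf ⟨936, 13510735, (some false), 937, 17043521⟩)))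
(.node 2 (.node 1 (.leaf ⟨937, 17068115, none, 937, 17043521⟩) (.leaf ⟨937, 17043521, none, 937, 17068115⟩)) (.node 1 (.leaf ⟨937, 29904967, (some false), 938, 17043521⟩) (.node 1 (.leaf ⟨938, 17043521, (some false), 937, 13113429⟩) (.leaf ⟨938, 13510735, (some false), 939, 17043521⟩))))))
(.node 9 (.node 4 (.node 2 (.node 1 (.leaf ⟨939, 17043521, (some false), 938, 29761631⟩) (.leaf ⟨150, 13131841, none, 939, 27553887⟩)) (.node 1 (.leaf ⟨939, 17043521, none, 150, 32327751⟩) (.leaf ⟨150, 7292999, (some false), 938, 27596881⟩)))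
(.node 2 (.node 1 (.leaf ⟨802, 7292999, (some false), 944, 17043521⟩) (.leaf ⟨944, 17043521, (some false), 802, 21448789⟩)) (.node 1 (.leaf ⟨944, 31801425, (some false), 945, 17043521⟩) (.node 1 (.leaf ⟨945, 17043521, (some false), 944, 14958673⟩) (.leaf ⟨150, 25319491, none, 945, 27793501⟩)))))
(.node 4 (.node 2 (.node 1 (.leaf ⟨945, 17043521, none, 150, 19083351⟩) (.leaf ⟨944, 32260177, none, 158, 16920671⟩)) (.node 1 (.leaf ⟨944, 17043521, none, 158, 5068885⟩) (.leaf ⟨802, 10700879, none, 205, 31670361⟩)))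
(.node 2 (.node 1 (.leaf ⟨802, 17043521, none, 205, 29628495⟩) (.leaf ⟨205, 6776923, (some false), 167, 29628509⟩)) (.node 1 (.leaf ⟨205, 10971209, (some false), 167, 30232657⟩) (.node 1 (.leaf ⟨205, 9056345, (some false), 803, 17651797⟩) (.leaf ⟨157, 32125001, (some false), 946, 17043521⟩)))))))))

/-- The facts. -/
def caseDFullFactsRLLR : Tab Fct := .node 139 caseDFullFactsRLLRL caseDFullFactsRLLRR

/-- The facts. -/
def caseDFullFactsRLL : Tab Fct := .node 278 caseDFullFactsRLLL caseDFullFactsRLLR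

/-- The facts. -/
def caseDFullFactsRLRLL : Tab Fct :=
(.node 69 (.node 34 (.node 17 (.node 8 (.node 4 (.node 2 (.node 1 (.leaf ⟨157, 7292999, (some false), 946, 16988233⟩) (.leaf ⟨946, 19085399, (some false), 947, 17043521⟩)) (.node 1 (.leaf ⟨947, 19085399, (some false), 948, 17043521⟩) (.leaf ⟨948, 17043521, (some false), 947, 19560517⟩)))
(.node 2 (.node 1 (.leaf ⟨157, 23466075, none, 948, 19544139⟩) (.leaf ⟨948, 17043521, none, 157, 10709075⟩)) (.node 1 (.leaf ⟨157, 10971209, (some false), 947, 19691589⟩) (.leaf ⟨157, 31801425, (some false), 947, 19556447⟩))))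
(.node 4 (.node 2 (.node 1 (.leaf ⟨157, 4544593, (some true), 949, 17043521⟩) (.leaf ⟨157, 13510735, (some true), 949, 27619409⟩)) (.node 1 (.leaf ⟨949, 17059919, (some true), 950, 17043521⟩) (.leaf ⟨950, 17059919, (some true), 951, 17043521⟩)))
(.node 2 (.node 1 (.leaf ⟨951, 17043521, (some true), 950, 17043535⟩) (.leaf ⟨157, 30232665, none, 951, 11040861⟩)) (.node 1 (.leaf ⟨951, 17043521, none, 157, 7098461⟩) (.node 1 (.leaf ⟨157, 29904967, (some true), 950, 25786447⟩) (.leaf ⟨157, 32131155, (some true), 950, 17641567⟩))))))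
(.node 8 (.node 4 (.node 2 (.node 1 (.leaf ⟨157, 31801425, (some true), 952, 17043521⟩) (.leaf ⟨157, 13310023, (some true), 952, 25694275⟩)) (.node 1 (.leaf ⟨952, 29904967, (some false), 953, 17043521⟩) (.leaf ⟨953, 17043521, (some true), 954, 17043521⟩)))
(.node 2 (.node 1 (.leaf ⟨954, 17043521, (some true), 953, 17059921⟩) (.leaf ⟨954, 17043521, (some false), 955, 17043521⟩)) (.node 1 (.leaf ⟨955, 17043521, (some false), 954, 17127489⟩) (.leaf ⟨955, 19085399, (some true), 956, 17043521⟩))))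
(.node 4 (.node 2 (.node 1 (.leaf ⟨956, 17043521, (some true), 955, 19626071⟩) (.leaf ⟨157, 12937305, none, 956, 19230813⟩)) (.node 1 (.leaf ⟨956, 17043521, none, 157, 23357533⟩) (.leaf ⟨157, 4808797, (some true), 955, 25374805⟩)))
(.node 2 (.node 1 (.leaf ⟨157, 32125001, (some true), 955, 10973269⟩) (.leaf ⟨949, 27529303, (some false), 957, 17043521⟩)) (.node 1 (.leaf ⟨957, 17043521, (some false), 949, 25516101⟩) (.node 1 (.leaf ⟨957, 25385043, (some true), 958, 17043521⟩) (.leaf ⟨958, 17043521, (some true), 957, 25892931⟩)))))))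
(.node 17 (.node 8 (.node 4 (.node 2 (.node 1 (.leaf ⟨958, 4808797, (some false), 959, 17043521⟩) (.leaf ⟨959, 17043521, (some false), 958, 23685197⟩)) (.node 1 (.leaf ⟨959, 10971209, (some true), 960, 17043521⟩) (.leaf ⟨960, 17043521, (some true), 959, 11495513⟩)))
(.node 2 (.node 1 (.leaf ⟨157, 4939863, none, 960, 9189455⟩) (.leaf ⟨960, 17043521, none, 157, 23470153⟩)) (.node 1 (.leaf ⟨959, 28002379, none, 950, 17641567⟩) (.leaf ⟨959, 17043521, none, 950, 6840395⟩))))
(.node 4 (.node 2 (.node 1 (.leaf ⟨950, 29904967, (some false), 958, 27867221⟩) (.leaf ⟨949, 29904967, (some false), 975, 17043521⟩)) (.node 1 (.leaf ⟨975, 17043521, (some false), 949, 13113429⟩) (.leaf ⟨975, 13510735, (some false), 976, 17043521⟩)))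
(.node 2 (.node 1 (.leaf ⟨976, 29904967, (some false), 977, 17043521⟩) (.leaf ⟨977, 17043521, (some false), 976, 13113429⟩)) (.node 1 (.leaf ⟨977, 13510735, (some false), 978, 17043521⟩) (.node 1 (.leaf ⟨978, 17043521, (some false), 977, 29761631⟩) (.leaf ⟨157, 5122117, none, 978, 27539527⟩))))))
(.node 9 (.node 4 (.node 2 (.node 1 (.leaf ⟨978, 17043521, none, 157, 15607875⟩) (.leaf ⟨977, 21133377, none, 167, 17043521⟩)) (.node 1 (.leaf ⟨977, 17043521, none, 167, 25894977⟩) (.leaf ⟨167, 10971209, (some false), 976, 31989829⟩)))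
(.node 2 (.node 1 (.leaf ⟨955, 19085399, (some false), 979, 17043521⟩) (.leaf ⟨979, 13310023, (some false), 980, 17043521⟩)) (.node 1 (.leaf ⟨980, 17043521, (some false), 979, 29511765⟩) (.node 1 (.leaf ⟨980, 29904967, (some false), 981, 17043521⟩) (.leaf ⟨981, 17043521, (some false), 980, 13113429⟩)))))
(.node 4 (.node 2 (.node 1 (.leaf ⟨981, 13510735, (some false), 982, 17043521⟩) (.leaf ⟨982, 17043521, (some false), 981, 29761631⟩)) (.node 1 (.leaf ⟨157, 24000577, none, 982, 27529295⟩) (.leaf ⟨982, 17043521, none, 157, 30095439⟩)))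
(.node 2 (.node 1 (.leaf ⟨981, 15673433, none, 946, 17043521⟩) (.leaf ⟨981, 17043521, none, 946, 25383007⟩)) (.node 1 (.leaf ⟨946, 23928925, (some false), 980, 4747359⟩) (.node 1 (.leaf ⟨950, 17043521, (some false), 983, 17043521⟩) (.leaf ⟨983, 13310023, (some false), 984, 17043521⟩))))))))
(.node 35 (.node 17 (.node 8 (.node 4 (.node 2 (.node 1 (.leaf ⟨984, 27529303, (some false), 985, 17043521⟩) (.leaf ⟨985, 9056345, (some false), 986, 17043521⟩)) (.node 1 (.leaf ⟨986, 17043521, (some false), 985, 10711131⟩) (.leaf ⟨157, 21239877, none, 986, 27480155⟩)))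
(.node 2 (.node 1 (.leaf ⟨986, 17043521, none, 157, 5120091⟩) (.leaf ⟨157, 9056345, (some false), 985, 21372993⟩)) (.node 1 (.leaf ⟨158, 19085399, (some false), 987, 17043521⟩) (.leaf ⟨987, 19085399, (some false), 988, 17043521⟩))))
(.node 4 (.node 2 (.node 1 (.leaf ⟨988, 17043521, (some false), 987, 19560517⟩) (.leaf ⟨988, 19085399, (some false), 989, 17043521⟩)) (.node 1 (.leaf ⟨989, 17043521, (some false), 988, 19560517⟩) (.leaf ⟨158, 19101767, none, 989, 19290201⟩)))
(.node 2 (.node 1 (.leaf ⟨989, 17043521, none, 158, 17522777⟩) (.leaf ⟨988, 19271771, none, 159, 17043521⟩)) (.node 1 (.leaf ⟨988, 19271771, none, 150, 19867721⟩) (.node 1 (.leaf ⟨988, 17043521, none, 150, 17578065⟩) (.leaf ⟨987, 19689561, none, 158, 17702981⟩))))))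
(.node 9 (.node 4 (.node 2 (.node 1 (.leaf ⟨987, 17043521, none, 158, 19032133⟩) (.leaf ⟨202, 27529303, (some false), 990, 17043521⟩)) (.node 1 (.leaf ⟨990, 17043521, (some false), 202, 25516101⟩) (.leaf ⟨158, 27611219, none, 990, 19083329⟩)))
(.node 2 (.node 1 (.leaf ⟨990, 17043521, none, 158, 31875153⟩) (.leaf ⟨202, 13590607, none, 205, 30097473⟩)) (.node 1 (.leaf ⟨205, 17043521, none, 202, 21592151⟩) (.node 1 (.leaf ⟨202, 4808797, (some false), 183, 6893639⟩) (.leaf ⟨202, 6776923, (some false), 183, 13178973⟩)))))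
(.node 4 (.node 2 (.node 1 (.leaf ⟨167, 30042205, none, 201, 13113429⟩) (.leaf ⟨202, 7292999, (some false), 803, 17715295⟩)) (.node 1 (.leaf ⟨201, 17043521, none, 167, 25653335⟩) (.leaf ⟨183, 4728923, none, 170, 4603971⟩)))
(.node 2 (.node 1 (.leaf ⟨183, 17043521, none, 170, 17506383⟩) (.leaf ⟨170, 11495495, (some true), 43, 25786453⟩)) (.node 1 (.leaf ⟨186, 17657947, none, 150, 23685197⟩) (.node 1 (.leaf ⟨170, 7292999, (some false), 205, 17059907⟩) (.leaf ⟨170, 32125001, (some false), 205, 17786949⟩)))))))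
(.node 17 (.node 8 (.node 4 (.node 2 (.node 1 (.leaf ⟨186, 17043521, none, 150, 29958237⟩) (.leaf ⟨198, 17594433, none, 157, 17260619⟩)) (.node 1 (.leaf ⟨198, 17043521, none, 157, 17440859⟩) (.leaf ⟨157, 13510735, (some false), 199, 17043551⟩)))
(.node 2 (.node 1 (.leaf ⟨157, 29904967, (some false), 199, 17586249⟩) (.leaf ⟨158, 13310023, (some true), 991, 17043521⟩)) (.node 1 (.leaf ⟨158, 17059919, (some true), 991, 17109075⟩) (.leaf ⟨991, 17649731, none, 991, 17109075⟩))))
(.node 4 (.node 2 (.node 1 (.leaf ⟨991, 17043521, none, 991, 17584209⟩) (.leaf ⟨991, 17059919, (some true), 992, 17043521⟩)) (.node 1 (.leaf ⟨992, 17043521, (some true), 991, 17043535⟩) (.leaf ⟨992, 17059919, (some true), 993, 17043521⟩)))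
(.node 2 (.node 1 (.leaf ⟨993, 17043521, (some true), 992, 17043535⟩) (.leaf ⟨158, 14899279, none, 993, 17061959⟩)) (.node 1 (.leaf ⟨993, 17043521, none, 158, 30019657⟩) (.node 1 (.leaf ⟨992, 11016277, none, 157, 11341917⟩) (.leaf ⟨992, 17043521, none, 157, 17569875⟩))))))
(.node 9 (.node 4 (.node 2 (.node 1 (.leaf ⟨157, 17043521, (some true), 991, 17586255⟩) (.leaf ⟨991, 4808797, (some false), 997, 17043521⟩)) (.node 1 (.leaf ⟨991, 27529303, (some false), 997, 16988237⟩) (.leaf ⟨997, 10971209, (some true), 998, 17043521⟩)))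
(.node 2 (.node 1 (.leaf ⟨998, 17043521, (some true), 997, 11495513⟩) (.leaf ⟨998, 13510735, (some false), 999, 17043521⟩)) (.node 1 (.leaf ⟨999, 17043521, (some false), 998, 29761631⟩) (.node 1 (.leaf ⟨999, 17059919, (some true), 1000, 17043521⟩) (.leaf ⟨1000, 17043521, (some true), 999, 17043535⟩)))))
(.node 4 (.node 2 (.node 1 (.leaf ⟨158, 15601749, none, 1000, 17643615⟩) (.leaf ⟨1000, 17043521, none, 158, 4943961⟩)) (.node 1 (.leaf ⟨999, 27799645, none, 157, 11341917⟩) (.leaf ⟨999, 17043521, none, 157, 25720897⟩)))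
(.node 2 (.node 1 (.leaf ⟨998, 9181263, none, 199, 17586249⟩) (.leaf ⟨998, 9181263, none, 177, 11292753⟩)) (.node 1 (.leaf ⟨998, 17043521, none, 177, 19167309⟩) (.node 1 (.leaf ⟨177, 17059919, (some true), 997, 8611905⟩) (.leaf ⟨177, 19085399, (some true), 997, 27994185⟩)))))))))

/-- The facts. -/
def caseDFullFactsRLRLR : Tab Fct :=
(.node 69 (.node 34 (.node 17 (.node 8 (.node 4 (.node 2 (.node 1 (.leaf ⟨177, 25385043, (some true), 997, 25378883⟩) (.leaf ⟨177, 17043521, (some true), 997, 27664465⟩)) (.node 1 (.leaf ⟨144, 17043521, (some true), 1001, 17043521⟩) (.leaf ⟨1001, 17043521, (some true), 144, 17059921⟩)))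
(.node 2 (.node 1 (.leaf ⟨144, 10971209, (some true), 1001, 25694291⟩) (.leaf ⟨158, 13242443, none, 1001, 17592397⟩)) (.node 1 (.leaf ⟨1001, 17043521, none, 158, 21901391⟩) (.leaf ⟨144, 17651803, none, 991, 17043521⟩))))
(.node 4 (.node 2 (.node 1 (.leaf ⟨991, 17043521, none, 144, 17651803⟩) (.leaf ⟨992, 17659987, none, 818, 9181267⟩)) (.node 1 (.leaf ⟨997, 17719361, none, 802, 19556441⟩) (.leaf ⟨997, 17719361, none, 202, 5195859⟩)))
(.node 2 (.node 1 (.leaf ⟨997, 17043521, none, 202, 12929107⟩) (.leaf ⟨202, 32131155, (some true), 998, 11360345⟩)) (.node 1 (.leaf ⟨202, 17059919, (some true), 998, 27545665⟩) (.node 1 (.leaf ⟨157, 17133633, none, 818, 9181267⟩) (.leaf ⟨818, 17043521, none, 157, 25770075⟩))))))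
(.node 8 (.node 4 (.node 2 (.node 1 (.leaf ⟨820, 19667029, none, 164, 17043521⟩) (.leaf ⟨840, 17506371, none, 167, 17180743⟩)) (.node 1 (.leaf ⟨840, 17043521, none, 167, 17766491⟩) (.leaf ⟨167, 13310023, (some false), 841, 17641549⟩)))
(.node 2 (.node 1 (.leaf ⟨820, 19667029, none, 157, 19603543⟩) (.leaf ⟨820, 17043521, none, 157, 17524803⟩)) (.node 1 (.leaf ⟨833, 17051735, none, 199, 17043551⟩) (.leaf ⟨833, 17051735, none, 177, 27531351⟩))))
(.node 4 (.node 2 (.node 1 (.leaf ⟨833, 17043521, none, 177, 27539521⟩) (.leaf ⟨177, 4808797, (some false), 834, 17045569⟩)) (.node 1 (.leaf ⟨158, 25385043, (some true), 1009, 17043521⟩) (.leaf ⟨158, 19085399, (some true), 1009, 19681355⟩)))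
(.node 2 (.node 1 (.leaf ⟨1009, 19085399, (some false), 1010, 17043521⟩) (.leaf ⟨1010, 10971209, (some false), 1011, 17043521⟩)) (.node 1 (.leaf ⟨1011, 13310023, (some false), 1012, 17043521⟩) (.node 1 (.leaf ⟨1012, 17043521, (some false), 1011, 29511765⟩) (.leaf ⟨1012, 29904967, (some false), 1013, 17043521⟩)))))))
(.node 17 (.node 8 (.node 4 (.node 2 (.node 1 (.leaf ⟨1013, 17043521, (some false), 1012, 13113429⟩) (.leaf ⟨158, 26161241, none, 1013, 27619405⟩)) (.node 1 (.leaf ⟨1013, 17043521, none, 158, 19099727⟩) (.leaf ⟨1012, 32002139, none, 987, 17043521⟩)))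
(.node 2 (.node 1 (.leaf ⟨1012, 32002139, none, 158, 19032133⟩) (.leaf ⟨1012, 17043521, none, 158, 10907729⟩)) (.node 1 (.leaf ⟨1011, 25587803, none, 159, 17045593⟩) (.leaf ⟨1011, 25587803, none, 150, 19802193⟩))))
(.node 4 (.node 2 (.node 1 (.leaf ⟨1011, 17043521, none, 150, 14841951⟩) (.leaf ⟨837, 10971209, (some false), 1014, 17043521⟩)) (.node 1 (.leaf ⟨1014, 19085399, (some false), 1015, 17043521⟩) (.leaf ⟨1015, 17043521, (some false), 1014, 19560517⟩)))
(.node 2 (.node 1 (.leaf ⟨167, 6572119, none, 1015, 19095643⟩) (.leaf ⟨1015, 17043521, none, 167, 9125981⟩)) (.node 1 (.leaf ⟨167, 31801425, (some false), 1014, 19816521⟩) (.node 1 (.leaf ⟨167, 4808797, (some false), 1016, 17043521⟩) (.leaf ⟨1016, 19085399, (some false), 1017, 17043521⟩))))))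
(.node 9 (.node 4 (.node 2 (.node 1 (.leaf ⟨1017, 19085399, (some false), 1018, 17043521⟩) (.leaf ⟨1018, 17043521, (some false), 1017, 19560517⟩)) (.node 1 (.leaf ⟨167, 27865171, none, 1018, 19603529⟩) (.leaf ⟨1018, 17043521, none, 167, 21524565⟩)))
(.node 2 (.node 1 (.leaf ⟨167, 29904967, (some false), 1017, 19691589⟩) (.leaf ⟨167, 32125001, (some true), 1019, 17043521⟩)) (.node 1 (.leaf ⟨1019, 17059919, (some true), 1020, 17043521⟩) (.node 1 (.leaf ⟨1020, 17059919, (some true), 1021, 17043521⟩) (.leaf ⟨1021, 17043521, (some true), 1020, 17043535⟩)))))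
(.node 4 (.node 2 (.node 1 (.leaf ⟨167, 4616273, none, 1021, 27873373⟩) (.leaf ⟨1021, 17043521, none, 167, 15429719⟩)) (.node 1 (.leaf ⟨167, 13310023, (some true), 1020, 27611229⟩) (.leaf ⟨167, 19085399, (some true), 1022, 17043521⟩)))
(.node 2 (.node 1 (.leaf ⟨1022, 17059919, (some true), 1023, 17043521⟩) (.leaf ⟨1023, 17059919, (some true), 1024, 17043521⟩)) (.node 1 (.leaf ⟨1024, 17043521, (some true), 1023, 17043535⟩) (.node 1 (.leaf ⟨167, 17510477, none, 1024, 19224661⟩) (.leaf ⟨1024, 17043521, none, 167, 19036249⟩))))))))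
(.node 35 (.node 17 (.node 8 (.node 4 (.node 2 (.node 1 (.leaf ⟨167, 25385043, (some true), 1023, 8917069⟩) (.leaf ⟨167, 4808797, (some true), 1025, 17043521⟩)) (.node 1 (.leaf ⟨1025, 17043521, (some true), 167, 21586013⟩) (.leaf ⟨1025, 4808797, (some false), 1026, 17043521⟩)))
(.node 2 (.node 1 (.leaf ⟨1026, 17043521, (some false), 1025, 23685197⟩) (.leaf ⟨1026, 10971209, (some true), 1027, 17043521⟩)) (.node 1 (.leaf ⟨1027, 17043521, (some true), 1026, 11495513⟩) (.leaf ⟨1027, 13510735, (some false), 1028, 17043521⟩))))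
(.node 4 (.node 2 (.node 1 (.leaf ⟨1028, 17043521, (some false), 1027, 29761631⟩) (.leaf ⟨1028, 17059919, (some true), 1029, 17043521⟩)) (.node 1 (.leaf ⟨1029, 17043521, (some true), 1028, 17043535⟩) (.leaf ⟨167, 21315663, none, 1029, 17117255⟩)))
(.node 2 (.node 1 (.leaf ⟨1029, 17043521, none, 167, 31735883⟩) (.leaf ⟨167, 31801425, (some true), 1028, 17119301⟩)) (.node 1 (.leaf ⟨167, 4544593, (some true), 1030, 17043521⟩) (.node 1 (.leaf ⟨1030, 17043521, (some false), 1031, 17043521⟩) (.leaf ⟨1031, 17043521, (some false), 1030, 17127489⟩))))))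
(.node 9 (.node 4 (.node 2 (.node 1 (.leaf ⟨1031, 19085399, (some true), 1032, 17043521⟩) (.leaf ⟨1032, 17043521, (some true), 1031, 19626071⟩)) (.node 1 (.leaf ⟨1032, 19085399, (some false), 1033, 17043521⟩) (.leaf ⟨1033, 17043521, (some false), 1032, 19560517⟩)))
(.node 2 (.node 1 (.leaf ⟨1033, 11495495, (some true), 1034, 17043521⟩) (.leaf ⟨1034, 17043521, (some true), 1033, 10971207⟩)) (.node 1 (.leaf ⟨167, 29702217, none, 1034, 9203789⟩) (.node 1 (.leaf ⟨1034, 17043521, none, 167, 4814925⟩) (.leaf ⟨167, 29904967, (some true), 1033, 26159181⟩)))))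
(.node 4 (.node 2 (.node 1 (.leaf ⟨167, 10971209, (some true), 1039, 17043521⟩) (.leaf ⟨1033, 10971209, (some false), 1044, 17043521⟩)) (.node 1 (.leaf ⟨1044, 17043521, (some false), 1033, 9396299⟩) (.leaf ⟨1044, 23928925, (some false), 1045, 17043521⟩)))
(.node 2 (.node 1 (.leaf ⟨1045, 17043521, (some false), 1044, 4991053⟩) (.leaf ⟨1045, 32125001, (some false), 1046, 17043521⟩)) (.node 1 (.leaf ⟨1046, 17043521, (some false), 1045, 14905419⟩) (.node 1 (.leaf ⟨1046, 27529303, (some false), 1047, 17043521⟩) (.leaf ⟨1047, 17043521, (some false), 1046, 25516101⟩)))))))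
(.node 17 (.node 8 (.node 4 (.node 2 (.node 1 (.leaf ⟨167, 32051293, none, 1047, 27416645⟩) (.leaf ⟨1047, 17043521, none, 167, 25567315⟩)) (.node 1 (.leaf ⟨1046, 27531339, none, 976, 31989829⟩) (.leaf ⟨1046, 17043521, none, 976, 23928909⟩)))
(.node 2 (.node 1 (.leaf ⟨976, 23928925, (some false), 1045, 14905417⟩) (.leaf ⟨1019, 29904967, (some false), 1056, 17043521⟩)) (.node 1 (.leaf ⟨1056, 17043521, (some false), 1019, 13113429⟩) (.leaf ⟨1056, 27529303, (some false), 1057, 17043521⟩))))
(.node 4 (.node 2 (.node 1 (.leaf ⟨1057, 17043521, (some false), 1056, 25516101⟩) (.leaf ⟨1057, 23928925, (some false), 1058, 17043521⟩)) (.node 1 (.leaf ⟨1058, 17043521, (some false), 1057, 4991053⟩) (.leaf ⟨1058, 31801425, (some false), 1059, 17043521⟩)))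
(.node 2 (.node 1 (.leaf ⟨1059, 17043521, (some false), 1058, 14958673⟩) (.leaf ⟨167, 4618307, none, 1059, 27553865⟩)) (.node 1 (.leaf ⟨1059, 17043521, none, 167, 24057931⟩) (.node 1 (.leaf ⟨1058, 4538457, none, 976, 31989829⟩) (.leaf ⟨1058, 17043521, none, 976, 29501535⟩))))))
(.node 9 (.node 4 (.node 2 (.node 1 (.leaf ⟨976, 6776923, (some false), 1057, 10702935⟩) (.leaf ⟨170, 31801425, (some true), 1066, 17043521⟩)) (.node 1 (.leaf ⟨1066, 17043521, (some true), 170, 15024193⟩) (.leaf ⟨1066, 29904967, (some false), 1067, 17043521⟩)))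
(.node 2 (.node 1 (.leaf ⟨1067, 17043521, (some true), 1068, 17043521⟩) (.leaf ⟨1068, 17043521, (some false), 1069, 17043521⟩)) (.node 1 (.leaf ⟨1069, 17043521, (some false), 1068, 17127489⟩) (.node 1 (.leaf ⟨1069, 19085399, (some true), 1070, 17043521⟩) (.leaf ⟨1070, 17043521, (some true), 1069, 19626071⟩)))))
(.node 4 (.node 2 (.node 1 (.leaf ⟨170, 6578267, none, 1070, 19159127⟩) (.leaf ⟨1070, 17043521, none, 170, 23357533⟩)) (.node 1 (.leaf ⟨170, 4808797, (some true), 1069, 25374805⟩) (.leaf ⟨174, 32125001, (some true), 1087, 17043521⟩)))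
(.node 2 (.node 1 (.leaf ⟨1087, 17043521, (some true), 174, 14839897⟩) (.leaf ⟨174, 13310023, (some true), 1087, 27621443⟩)) (.node 1 (.leaf ⟨174, 10971209, (some true), 1087, 19683401⟩) (.node 1 (.leaf ⟨174, 11495495, (some true), 1087, 19142745⟩) (.leaf ⟨174, 31801425, (some true), 1087, 25718859⟩)))))))))

/-- The facts. -/
def caseDFullFactsRLRL : Tab Fct := .node 139 caseDFullFactsRLRLL caseDFullFactsRLRLR

/-- The facts. -/
def caseDFullFactsRLRRL : Tab Fct :=
(.node 69 (.node 34 (.node 17 (.node 8 (.node 4 (.node 2 (.node 1 (.leaf ⟨174, 17059919, (some true), 1087, 27799635⟩) (.leaf ⟨174, 17043521, (some true), 1087, 27547715⟩)) (.node 1 (.leaf ⟨174, 4808797, (some true), 1087, 19757145⟩) (.leaf ⟨1087, 17059919, (some true), 1088, 17043521⟩)))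
(.node 2 (.node 1 (.leaf ⟨1088, 17059919, (some true), 1089, 17043521⟩) (.leaf ⟨1089, 17043521, (some true), 1088, 17043535⟩)) (.node 1 (.leaf ⟨174, 15431755, none, 1089, 19208285⟩) (.leaf ⟨1089, 17043521, none, 174, 15429719⟩))))
(.node 4 (.node 2 (.node 1 (.leaf ⟨1088, 27611229, none, 1087, 27621443⟩) (.leaf ⟨1088, 17043521, none, 1087, 17051725⟩)) (.node 1 (.leaf ⟨174, 19085399, (some true), 1090, 17043521⟩) (.leaf ⟨174, 13510735, (some true), 1090, 27529283⟩)))
(.node 2 (.node 1 (.leaf ⟨1090, 17043521, (some false), 1091, 17043521⟩) (.leaf ⟨1091, 17043521, (some false), 1090, 17127489⟩)) (.node 1 (.leaf ⟨1091, 19085399, (some true), 1092, 17043521⟩) (.node 1 (.leaf ⟨1092, 17043521, (some true), 1091, 19626071⟩) (.leaf ⟨1092, 19085399, (some false), 1093, 17043521⟩))))))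
(.node 8 (.node 4 (.node 2 (.node 1 (.leaf ⟨1093, 17043521, (some false), 1092, 19560517⟩) (.leaf ⟨1093, 11495495, (some true), 1094, 17043521⟩)) (.node 1 (.leaf ⟨1094, 17043521, (some true), 1093, 10971207⟩) (.leaf ⟨174, 19034189, none, 1094, 25434183⟩)))
(.node 2 (.node 1 (.leaf ⟨1094, 17043521, none, 174, 27482187⟩) (.leaf ⟨174, 25385043, (some true), 1093, 8544335⟩)) (.node 1 (.leaf ⟨174, 32131155, (some true), 1093, 16982095⟩) (.leaf ⟨1093, 16932951, none, 1093, 8544335⟩))))
(.node 4 (.node 2 (.node 1 (.leaf ⟨1093, 17043521, none, 1093, 21237829⟩) (.leaf ⟨1093, 10971209, (some false), 1092, 19865693⟩)) (.node 1 (.leaf ⟨1087, 29904967, (some false), 1103, 17043521⟩) (.leaf ⟨1103, 17043521, (some false), 1087, 13113429⟩)))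
(.node 2 (.node 1 (.leaf ⟨1103, 29904967, (some false), 1104, 17043521⟩) (.leaf ⟨1104, 17043521, (some false), 1103, 13113429⟩)) (.node 1 (.leaf ⟨1104, 13510735, (some false), 1105, 17043521⟩) (.node 1 (.leaf ⟨1105, 17043521, (some false), 1104, 29761631⟩) (.leaf ⟨1105, 27529303, (some false), 1106, 17043521⟩)))))))
(.node 17 (.node 8 (.node 4 (.node 2 (.node 1 (.leaf ⟨1106, 17043521, (some false), 1105, 25516101⟩) (.leaf ⟨174, 13570141, none, 1106, 27949121⟩)) (.node 1 (.leaf ⟨1106, 17043521, none, 174, 27414599⟩) (.leaf ⟨1105, 31854679, none, 202, 23294047⟩)))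
(.node 2 (.node 1 (.leaf ⟨1105, 17043521, none, 202, 29575245⟩) (.leaf ⟨1104, 13504607, none, 803, 17715295⟩)) (.node 1 (.leaf ⟨1104, 13504607, none, 144, 15687763⟩) (.leaf ⟨1104, 17043521, none, 144, 19214417⟩))))
(.node 4 (.node 2 (.node 1 (.leaf ⟨1103, 21524569, none, 145, 17043521⟩) (.leaf ⟨1103, 21524569, none, 144, 19032151⟩)) (.node 1 (.leaf ⟨1103, 17043521, none, 144, 11302991⟩) (.leaf ⟨1087, 15212633, none, 167, 30167111⟩)))
(.node 2 (.node 1 (.leaf ⟨1087, 17043521, none, 167, 27687001⟩) (.leaf ⟨174, 24057923, none, 1023, 8917069⟩)) (.node 1 (.leaf ⟨1088, 25786459, none, 1022, 17043521⟩) (.node 1 (.leaf ⟨167, 9375837, none, 1022, 17043521⟩) (.leaf ⟨1022, 17043521, none, 167, 9375837⟩))))))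
(.node 9 (.node 4 (.node 2 (.node 1 (.leaf ⟨1023, 17043521, none, 174, 15669335⟩) (.leaf ⟨174, 29904967, (some true), 1111, 17043521⟩)) (.node 1 (.leaf ⟨1111, 25432129, none, 1111, 17043521⟩) (.leaf ⟨1111, 17043521, none, 1111, 25432129⟩)))
(.node 2 (.node 1 (.leaf ⟨1111, 19085399, (some false), 1112, 17043521⟩) (.leaf ⟨1111, 27529303, (some false), 1112, 17463387⟩)) (.node 1 (.leaf ⟨1112, 31801425, (some false), 1113, 17043521⟩) (.node 1 (.leaf ⟨177, 4808797, (some true), 1122, 17043521⟩) (.leaf ⟨177, 13510735, (some true), 1122, 9271363⟩)))))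
(.node 4 (.node 2 (.node 1 (.leaf ⟨177, 31801425, (some true), 1122, 11096147⟩) (.leaf ⟨177, 32131155, (some true), 1122, 25712705⟩)) (.node 1 (.leaf ⟨1122, 17059919, (some true), 1123, 17043521⟩) (.leaf ⟨1123, 17059919, (some true), 1124, 17043521⟩)))
(.node 2 (.node 1 (.leaf ⟨1124, 17043521, (some true), 1123, 17043535⟩) (.leaf ⟨177, 7094343, none, 1124, 27856967⟩)) (.node 1 (.leaf ⟨1124, 17043521, none, 177, 6891585⟩) (.node 1 (.leaf ⟨1123, 27611229, none, 1122, 11096147⟩) (.leaf ⟨1123, 17043521, none, 1122, 9244757⟩))))))))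
(.node 35 (.node 17 (.node 8 (.node 4 (.node 2 (.node 1 (.leaf ⟨202, 13510735, (some true), 1125, 17043521⟩) (.leaf ⟨202, 17043521, (some true), 1125, 11368521⟩)) (.node 1 (.leaf ⟨1125, 17059919, (some true), 1126, 17043521⟩) (.leaf ⟨1126, 17043521, (some true), 1125, 17043535⟩)))
(.node 2 (.node 1 (.leaf ⟨177, 25458765, none, 1126, 11081799⟩) (.leaf ⟨1126, 17043521, none, 177, 25784401⟩)) (.node 1 (.leaf ⟨1125, 25784405, none, 997, 27664465⟩) (.leaf ⟨1125, 25784405, none, 202, 4677705⟩))))
(.node 4 (.node 2 (.node 1 (.leaf ⟨1125, 17043521, none, 202, 21381189⟩) (.leaf ⟨1122, 29904967, (some false), 1127, 17043521⟩)) (.node 1 (.leaf ⟨1127, 17043521, (some true), 1128, 17043521⟩) (.leaf ⟨1128, 17043521, (some false), 1129, 17043521⟩)))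
(.node 2 (.node 1 (.leaf ⟨1129, 17043521, (some false), 1128, 17127489⟩) (.leaf ⟨1129, 19085399, (some true), 1130, 17043521⟩)) (.node 1 (.leaf ⟨1130, 17043521, (some true), 1129, 19626071⟩) (.node 1 (.leaf ⟨177, 12929119, none, 1130, 19673167⟩) (.leaf ⟨1130, 17043521, none, 177, 4997203⟩))))))
(.node 9 (.node 4 (.node 2 (.node 1 (.leaf ⟨1129, 19544157, none, 1122, 11096147⟩) (.leaf ⟨1129, 17043521, none, 1122, 31989829⟩)) (.node 1 (.leaf ⟨1128, 17643611, none, 1127, 17043521⟩) (.leaf ⟨1128, 17043521, none, 1127, 17657929⟩)))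
(.node 2 (.node 1 (.leaf ⟨1122, 17043521, (some false), 1131, 17043521⟩) (.leaf ⟨1131, 19085399, (some false), 1132, 17043521⟩)) (.node 1 (.leaf ⟨1132, 19085399, (some false), 1133, 17043521⟩) (.node 1 (.leaf ⟨1133, 17043521, (some false), 1132, 19560517⟩) (.leaf ⟨1133, 25385043, (some true), 1134, 17043521⟩)))))
(.node 4 (.node 2 (.node 1 (.leaf ⟨1134, 17043521, (some true), 1133, 25892931⟩) (.leaf ⟨177, 5187655, none, 1134, 11014233⟩)) (.node 1 (.leaf ⟨1134, 17043521, none, 177, 5128285⟩) (.leaf ⟨1133, 10899537, none, 1122, 9271363⟩)))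
(.node 2 (.node 1 (.leaf ⟨1133, 17043521, none, 1122, 19353693⟩) (.leaf ⟨1122, 19085399, (some false), 1132, 19673163⟩)) (.node 1 (.leaf ⟨1132, 23928925, (some false), 1135, 17043521⟩) (.node 1 (.leaf ⟨1135, 17043521, (some false), 1132, 4991053⟩) (.leaf ⟨1135, 7292999, (some false), 1136, 17043521⟩)))))))
(.node 17 (.node 8 (.node 4 (.node 2 (.node 1 (.leaf ⟨1136, 17043521, (some false), 1135, 21448789⟩) (.leaf ⟨1136, 10971209, (some false), 1137, 17043521⟩)) (.node 1 (.leaf ⟨1137, 17043521, (some false), 1136, 9396299⟩) (.leaf ⟨177, 15474777, none, 1137, 27414605⟩)))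
(.node 2 (.node 1 (.leaf ⟨1137, 17043521, none, 177, 21592133⟩) (.leaf ⟨1136, 32258115, none, 834, 17045569⟩)) (.node 1 (.leaf ⟨1136, 32258115, none, 167, 19292241⟩) (.leaf ⟨1136, 17043521, none, 167, 23273559⟩))))
(.node 4 (.node 2 (.node 1 (.leaf ⟨167, 13510735, (some false), 1135, 26167387⟩) (.leaf ⟨180, 29904967, (some true), 1148, 17043521⟩)) (.node 1 (.leaf ⟨180, 4544593, (some true), 1148, 25696347⟩) (.leaf ⟨180, 31801425, (some true), 1148, 25759825⟩)))
(.node 2 (.node 1 (.leaf ⟨180, 4808797, (some true), 1148, 19746907⟩) (.leaf ⟨1148, 13510735, (some false), 1149, 17043521⟩)) (.node 1 (.leaf ⟨1149, 17059919, (some true), 1150, 17043521⟩) (.node 1 (.leaf ⟨1150, 17043521, (some false), 1151, 17043521⟩) (.leaf ⟨1151, 17043521, (some false), 1150, 17127489⟩))))))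
(.node 9 (.node 4 (.node 2 (.node 1 (.leaf ⟨1151, 19085399, (some true), 1152, 17043521⟩) (.leaf ⟨1152, 17043521, (some true), 1151, 19626071⟩)) (.node 1 (.leaf ⟨180, 13465693, none, 1152, 19140677⟩) (.leaf ⟨1152, 17043521, none, 180, 13398107⟩)))
(.node 2 (.node 1 (.leaf ⟨1151, 17764439, none, 1148, 25696347⟩) (.leaf ⟨1151, 17043521, none, 1148, 15210587⟩)) (.node 1 (.leaf ⟨1148, 29904967, (some false), 1150, 17586249⟩) (.node 1 (.leaf ⟨1148, 4808797, (some false), 1158, 17043521⟩) (.leaf ⟨1158, 17043521, (some false), 1148, 23685197⟩)))))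
(.node 4 (.node 2 (.node 1 (.leaf ⟨1158, 19085399, (some false), 1159, 17043521⟩) (.leaf ⟨1159, 17043521, (some false), 1158, 19560517⟩)) (.node 1 (.leaf ⟨1159, 19085399, (some false), 1160, 17043521⟩) (.leaf ⟨1160, 17043521, (some false), 1159, 19560517⟩)))
(.node 2 (.node 1 (.leaf ⟨1160, 10971209, (some true), 1161, 17043521⟩) (.leaf ⟨1161, 17043521, (some true), 1160, 11495513⟩)) (.node 1 (.leaf ⟨180, 13373509, none, 1161, 25505865⟩) (.node 1 (.leaf ⟨1161, 17043521, none, 180, 4732997⟩) (.leaf ⟨1160, 9068625, none, 1148, 17043521⟩)))))))))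

/-- The facts. -/
def caseDFullFactsRLRRR : Tab Fct :=
(.node 69 (.node 34 (.node 17 (.node 8 (.node 4 (.node 2 (.node 1 (.leaf ⟨1160, 17043521, none, 1148, 21524565⟩) (.leaf ⟨1159, 19691589, none, 1150, 17586249⟩)) (.node 1 (.leaf ⟨1159, 17043521, none, 1150, 19167317⟩) (.leaf ⟨1150, 19085399, (some false), 1158, 19271751⟩)))
(.node 2 (.node 1 (.leaf ⟨1158, 7292999, (some false), 1166, 17043521⟩) (.leaf ⟨1166, 7292999, (some false), 1167, 17043521⟩)) (.node 1 (.leaf ⟨1167, 7292999, (some false), 1168, 17043521⟩) (.leaf ⟨1168, 17043521, (some false), 1167, 21448789⟩))))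
(.node 4 (.node 2 (.node 1 (.leaf ⟨180, 13377623, none, 1168, 27412547⟩) (.leaf ⟨1168, 17043521, none, 180, 29970511⟩)) (.node 1 (.leaf ⟨180, 4808797, (some false), 1167, 13387857⟩) (.leaf ⟨1167, 13387847, none, 1167, 13387857⟩)))
(.node 2 (.node 1 (.leaf ⟨1167, 17043521, none, 1167, 17043547⟩) (.leaf ⟨1149, 4808797, (some false), 1169, 17043521⟩)) (.node 1 (.leaf ⟨1169, 17043521, (some false), 1149, 23685197⟩) (.node 1 (.leaf ⟨1169, 32125001, (some false), 1170, 17043521⟩) (.leaf ⟨1170, 17043521, (some false), 1169, 14905419⟩))))))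
(.node 8 (.node 4 (.node 2 (.node 1 (.leaf ⟨1170, 29904967, (some false), 1171, 17043521⟩) (.leaf ⟨1171, 17043521, (some false), 1170, 13113429⟩)) (.node 1 (.leaf ⟨180, 23865425, none, 1171, 27859011⟩) (.leaf ⟨1171, 17043521, none, 180, 15296585⟩)))
(.node 2 (.node 1 (.leaf ⟨1170, 15214669, none, 1167, 13387857⟩) (.leaf ⟨1170, 17043521, none, 1167, 19343451⟩)) (.node 1 (.leaf ⟨1167, 19085399, (some false), 1169, 28254283⟩) (.leaf ⟨1169, 8808543, none, 1169, 28254283⟩))))
(.node 4 (.node 2 (.node 1 (.leaf ⟨1169, 17043521, none, 1169, 5128271⟩) (.leaf ⟨1169, 31801425, (some false), 1149, 8992843⟩)) (.node 1 (.leaf ⟨1167, 31801425, (some false), 1176, 17043521⟩) (.leaf ⟨1176, 17043521, (some false), 1167, 14958673⟩)))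
(.node 2 (.node 1 (.leaf ⟨190, 16982101, none, 1176, 19159121⟩) (.leaf ⟨1176, 17043521, none, 190, 19603541⟩)) (.node 1 (.leaf ⟨190, 19085399, (some false), 1167, 26099793⟩) (.node 1 (.leaf ⟨190, 13510735, (some false), 1177, 17043521⟩) (.leaf ⟨1177, 19085399, (some false), 1178, 17043521⟩)))))))
(.node 17 (.node 8 (.node 4 (.node 2 (.node 1 (.leaf ⟨1178, 19085399, (some false), 1179, 17043521⟩) (.leaf ⟨1179, 17043521, (some false), 1178, 19560517⟩)) (.node 1 (.leaf ⟨190, 31920221, none, 1179, 19343447⟩) (.leaf ⟨1179, 17043521, none, 190, 27537477⟩)))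
(.node 2 (.node 1 (.leaf ⟨190, 27529303, (some false), 1178, 19691589⟩) (.leaf ⟨190, 31801425, (some true), 1183, 17043521⟩)) (.node 1 (.leaf ⟨190, 4808797, (some true), 1183, 25499715⟩) (.leaf ⟨190, 4544593, (some true), 1183, 11106377⟩))))
(.node 4 (.node 2 (.node 1 (.leaf ⟨190, 29904967, (some true), 1183, 27594827⟩) (.leaf ⟨1183, 19085399, (some false), 1188, 17043521⟩)) (.node 1 (.leaf ⟨1188, 11495495, (some true), 1189, 17043521⟩) (.leaf ⟨1189, 13510735, (some false), 1190, 17043521⟩)))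
(.node 2 (.node 1 (.leaf ⟨1190, 17043521, (some false), 1189, 29761631⟩) (.leaf ⟨1190, 17059919, (some true), 1191, 17043521⟩)) (.node 1 (.leaf ⟨1191, 17043521, (some true), 1190, 17043535⟩) (.node 1 (.leaf ⟨190, 30169171, none, 1191, 17592399⟩) (.leaf ⟨1191, 17043521, none, 190, 4487237⟩))))))
(.node 9 (.node 4 (.node 2 (.node 1 (.leaf ⟨1190, 9252935, none, 1183, 27594827⟩) (.leaf ⟨1190, 17043521, none, 1183, 8998981⟩)) (.node 1 (.leaf ⟨1183, 4808797, (some false), 1189, 4876355⟩) (.leaf ⟨1189, 27529303, (some false), 1192, 17043521⟩)))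
(.node 2 (.node 1 (.leaf ⟨1192, 19085399, (some false), 1193, 17043521⟩) (.leaf ⟨1193, 17043521, (some false), 1192, 19560517⟩)) (.node 1 (.leaf ⟨1193, 19085399, (some true), 1194, 17043521⟩) (.node 1 (.leaf ⟨1194, 17043521, (some true), 1193, 19626071⟩) (.leaf ⟨190, 23400537, none, 1194, 17043529⟩)))))
(.node 4 (.node 2 (.node 1 (.leaf ⟨1194, 17043521, none, 190, 23400529⟩) (.leaf ⟨1193, 19626053, none, 1183, 11106377⟩)) (.node 1 (.leaf ⟨1193, 17043521, none, 1183, 15208533⟩) (.leaf ⟨1183, 29904967, (some false), 1192, 19609687⟩)))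
(.node 2 (.node 1 (.leaf ⟨190, 32131155, (some true), 1195, 17043521⟩) (.leaf ⟨190, 32125001, (some true), 1195, 8927297⟩)) (.node 1 (.leaf ⟨1195, 17043521, (some false), 1196, 17043521⟩) (.node 1 (.leaf ⟨191, 19085399, (some false), 1200, 17043521⟩) (.leaf ⟨1200, 32125001, (some false), 1201, 17043521⟩))))))))
(.node 35 (.node 17 (.node 8 (.node 4 (.node 2 (.node 1 (.leaf ⟨1201, 27529303, (some false), 1202, 17043521⟩) (.leaf ⟨1202, 23928925, (some false), 1203, 17043521⟩)) (.node 1 (.leaf ⟨190, 19730505, none, 1203, 27410523⟩) (.leaf ⟨1203, 17043521, none, 190, 6824007⟩)))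
(.node 2 (.node 1 (.leaf ⟨190, 17059919, (some true), 1204, 17043521⟩) (.leaf ⟨1204, 13510735, (some false), 1205, 17043521⟩)) (.node 1 (.leaf ⟨1205, 13510735, (some false), 1206, 17043521⟩) (.leaf ⟨1206, 17043521, (some false), 1205, 29761631⟩))))
(.node 4 (.node 2 (.node 1 (.leaf ⟨1206, 27529303, (some false), 1207, 17043521⟩) (.leaf ⟨1207, 17043521, (some false), 1206, 25516101⟩)) (.node 1 (.leaf ⟨1207, 9056345, (some false), 1208, 17043521⟩) (.leaf ⟨1208, 17043521, (some false), 1207, 10711131⟩)))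
(.node 2 (.node 1 (.leaf ⟨190, 11106397, none, 1208, 28194899⟩) (.leaf ⟨1208, 17043521, none, 190, 31860805⟩)) (.node 1 (.leaf ⟨1207, 13441107, none, 1178, 19691589⟩) (.node 1 (.leaf ⟨1207, 17043521, none, 1178, 31799385⟩) (.leaf ⟨1178, 10971209, (some false), 1206, 15618115⟩))))))
(.node 9 (.node 4 (.node 2 (.node 1 (.leaf ⟨1204, 27529303, (some false), 1209, 17043521⟩) (.leaf ⟨1209, 23928925, (some false), 1210, 17043521⟩)) (.node 1 (.leaf ⟨1210, 17043521, (some false), 1209, 4991053⟩) (.leaf ⟨1210, 32125001, (some false), 1211, 17043521⟩)))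
(.node 2 (.node 1 (.leaf ⟨1211, 17043521, (some false), 1210, 14905419⟩) (.leaf ⟨1211, 27529303, (some false), 1212, 17043521⟩)) (.node 1 (.leaf ⟨1212, 17043521, (some false), 1211, 25516101⟩) (.node 1 (.leaf ⟨190, 8935493, none, 1212, 27988053⟩) (.leaf ⟨1212, 17043521, none, 190, 29827151⟩)))))
(.node 4 (.node 2 (.node 1 (.leaf ⟨1211, 29843539, none, 1178, 19691589⟩) (.leaf ⟨1211, 17043521, none, 1178, 25315405⟩)) (.node 1 (.leaf ⟨1178, 7292999, (some false), 1210, 23400517⟩) (.leaf ⟨191, 17059919, (some true), 1222, 17043521⟩)))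
(.node 2 (.node 1 (.leaf ⟨1222, 17043521, (some true), 191, 17043535⟩) (.leaf ⟨1222, 17043521, (some false), 1223, 17043521⟩)) (.node 1 (.leaf ⟨1223, 17043521, (some false), 1222, 17127489⟩) (.node 1 (.leaf ⟨1223, 19085399, (some true), 1224, 17043521⟩) (.leaf ⟨1224, 17043521, (some true), 1223, 19626071⟩)))))))
(.node 17 (.node 8 (.node 4 (.node 2 (.node 1 (.leaf ⟨1224, 19085399, (some false), 1225, 17043521⟩) (.leaf ⟨1225, 17043521, (some false), 1224, 19560517⟩)) (.node 1 (.leaf ⟨1225, 11495495, (some true), 1226, 17043521⟩) (.leaf ⟨1226, 17043521, (some true), 1225, 10971207⟩)))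
(.node 2 (.node 1 (.leaf ⟨191, 17635399, none, 1226, 27613253⟩) (.leaf ⟨1226, 17043521, none, 191, 25718851⟩)) (.node 1 (.leaf ⟨1225, 17508447, none, 190, 17059921⟩) (.leaf ⟨1225, 17043521, none, 190, 16984159⟩))))
(.node 4 (.node 2 (.node 1 (.leaf ⟨1224, 19337301, none, 180, 13113429⟩) (.leaf ⟨1224, 17043521, none, 180, 11081793⟩)) (.node 1 (.leaf ⟨1223, 28268629, none, 43, 21305409⟩) (.leaf ⟨1223, 17043521, none, 43, 6776903⟩)))
(.node 2 (.node 1 (.leaf ⟨1222, 17109065, none, 174, 21524561⟩) (.leaf ⟨1222, 17043521, none, 174, 21526619⟩)) (.node 1 (.leaf ⟨191, 25524295, none, 66, 4669527⟩) (.node 1 (.leaf ⟨191, 17043521, none, 66, 24078427⟩) (.leaf ⟨1200, 17721423, none, 88, 9060425⟩))))))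
(.node 9 (.node 4 (.node 2 (.node 1 (.leaf ⟨1200, 17043521, none, 88, 24068173⟩) (.leaf ⟨1201, 16937027, none, 77, 4991053⟩)) (.node 1 (.leaf ⟨1201, 17043521, none, 77, 8812631⟩) (.leaf ⟨1202, 17457217, none, 88, 17657947⟩)))
(.node 2 (.node 1 (.leaf ⟨1202, 17043521, none, 88, 17002567⟩) (.leaf ⟨1203, 17244231, none, 84, 27406425⟩)) (.node 1 (.leaf ⟨190, 11024461, none, 84, 27406425⟩) (.node 1 (.leaf ⟨190, 17043521, none, 84, 25827421⟩) (.leaf ⟨84, 13310023, (some false), 1167, 23543875⟩)))))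
(.node 4 (.node 2 (.node 1 (.leaf ⟨84, 9056345, (some false), 1167, 21774425⟩) (.leaf ⟨1178, 19019869, none, 85, 17043521⟩)) (.node 1 (.leaf ⟨1183, 17569883, none, 477, 25497683⟩) (.leaf ⟨1195, 9181257, none, 480, 9195611⟩)))
(.node 2 (.node 1 (.leaf ⟨1204, 19157057, none, 490, 27406413⟩) (.leaf ⟨1204, 17043521, none, 490, 25917535⟩)) (.node 1 (.leaf ⟨1205, 17592397, none, 489, 17127489⟩) (.node 1 (.leaf ⟨490, 19085399, (some false), 1209, 16934981⟩) (.leaf ⟨490, 9056345, (some false), 1209, 17045599⟩)))))))))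

/-- The facts. -/
def caseDFullFactsRLRR : Tab Fct := .node 139 caseDFullFactsRLRRL caseDFullFactsRLRRR

/-- The facts. -/
def caseDFullFactsRLR : Tab Fct := .node 278 caseDFullFactsRLRL caseDFullFactsRLRR

/-- The facts. -/
def caseDFullFactsRL : Tab Fct := .node 556 caseDFullFactsRLL caseDFullFactsRLR

/-- The facts. -/
def caseDFullFactsRRLLL : Tab Fct :=
(.node 69 (.node 34 (.node 17 (.node 8 (.node 4 (.node 2 (.node 1 (.leaf ⟨1205, 17043521, none, 489, 17659989⟩) (.leaf ⟨1195, 17043521, none, 480, 17070171⟩)) (.node 1 (.leaf ⟨480, 17043521, (some false), 1196, 17524813⟩) (.leaf ⟨480, 29904967, (some false), 1196, 17002581⟩)))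
(.node 2 (.node 1 (.leaf ⟨1183, 17043521, none, 477, 9246809⟩) (.leaf ⟨477, 19085399, (some false), 1189, 4862045⟩)) (.node 1 (.leaf ⟨1192, 19605597, none, 511, 17043521⟩) (.leaf ⟨1192, 17043521, none, 511, 19095629⟩))))
(.node 4 (.node 2 (.node 1 (.leaf ⟨1178, 19019869, none, 84, 19603543⟩) (.leaf ⟨1178, 17043521, none, 84, 17578061⟩)) (.node 1 (.leaf ⟨1206, 21198913, none, 91, 17176643⟩) (.leaf ⟨1210, 13465685, none, 1167, 21774425⟩)))
(.node 2 (.node 1 (.leaf ⟨1210, 17043521, none, 1167, 27613265⟩) (.leaf ⟨1167, 13510735, (some false), 1209, 12736577⟩)) (.node 1 (.leaf ⟨1206, 21198913, none, 88, 4610133⟩) (.node 1 (.leaf ⟨1206, 17043521, none, 88, 11421777⟩) (.leaf ⟨1205, 4859987, none, 333, 17043521⟩))))))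
(.node 8 (.node 4 (.node 2 (.node 1 (.leaf ⟨489, 4808797, none, 88, 21841995⟩) (.leaf ⟨489, 17043521, none, 88, 27467865⟩)) (.node 1 (.leaf ⟨488, 19683403, none, 109, 17633347⟩) (.leaf ⟨490, 17258565, none, 84, 27406425⟩)))
(.node 2 (.node 1 (.leaf ⟨490, 17043521, none, 84, 15411291⟩) (.leaf ⟨1209, 17764443, none, 1167, 23543875⟩)) (.node 1 (.leaf ⟨1209, 17043521, none, 1167, 23871567⟩) (.leaf ⟨488, 19683403, none, 88, 25839705⟩))))
(.node 4 (.node 2 (.node 1 (.leaf ⟨488, 17043521, none, 88, 8601681⟩) (.leaf ⟨487, 25720909, none, 89, 17043521⟩)) (.node 1 (.leaf ⟨487, 25720909, none, 66, 7286859⟩) (.leaf ⟨487, 17043521, none, 66, 21117013⟩)))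
(.node 2 (.node 1 (.leaf ⟨84, 11221085, none, 343, 9269331⟩) (.leaf ⟨84, 11221085, none, 174, 30158937⟩)) (.node 1 (.leaf ⟨174, 17043521, none, 84, 31922265⟩) (.node 1 (.leaf ⟨1087, 9197649, none, 477, 25450579⟩) (.leaf ⟨1090, 9244763, none, 481, 17635405⟩)))))))
(.node 17 (.node 8 (.node 4 (.node 2 (.node 1 (.leaf ⟨1093, 8609887, none, 480, 17043521⟩) (.leaf ⟨1111, 17117249, none, 490, 27406413⟩)) (.node 1 (.leaf ⟨1111, 17117249, none, 84, 11147345⟩) (.leaf ⟨1111, 17043521, none, 84, 9384017⟩)))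
(.node 2 (.node 1 (.leaf ⟨1112, 17444959, none, 1167, 21774425⟩) (.leaf ⟨1167, 17043521, none, 1112, 4743255⟩)) (.node 1 (.leaf ⟨1112, 19085399, (some false), 1168, 17240151⟩) (.leaf ⟨1112, 4808797, (some false), 1169, 21239895⟩))))
(.node 4 (.node 2 (.node 1 (.leaf ⟨1209, 8542281, none, 1113, 17043521⟩) (.leaf ⟨1112, 9322575, none, 1113, 17043521⟩)) (.node 1 (.leaf ⟨1113, 17043521, none, 1112, 9322575⟩) (.leaf ⟨1093, 17043521, none, 480, 21506125⟩)))
(.node 2 (.node 1 (.leaf ⟨1092, 19814491, none, 1196, 17524813⟩) (.leaf ⟨1196, 17043521, none, 1092, 19800137⟩)) (.node 1 (.leaf ⟨1090, 17043521, none, 481, 27531357⟩) (.node 1 (.leaf ⟨167, 19337281, none, 477, 25450579⟩) (.leaf ⟨477, 17043521, none, 167, 27949147⟩))))))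
(.node 9 (.node 4 (.node 2 (.node 1 (.leaf ⟨1189, 21131347, none, 802, 17043521⟩) (.leaf ⟨1189, 21131347, none, 202, 28262487⟩)) (.node 1 (.leaf ⟨1189, 17043521, none, 202, 14901321⟩) (.leaf ⟨1192, 17522769, none, 803, 17715295⟩)))
(.node 2 (.node 1 (.leaf ⟨511, 19732575, none, 144, 15687763⟩) (.leaf ⟨511, 17043521, none, 144, 29829215⟩)) (.node 1 (.leaf ⟨512, 17461315, none, 167, 23535689⟩) (.node 1 (.leaf ⟨467, 11427931, none, 167, 23535689⟩) (.leaf ⟨467, 17043521, none, 167, 26101845⟩)))))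
(.node 4 (.node 2 (.node 1 (.leaf ⟨540, 23355473, none, 802, 17043521⟩) (.leaf ⟨540, 23355473, none, 202, 28262487⟩)) (.node 1 (.leaf ⟨540, 17043521, none, 202, 7090269⟩) (.leaf ⟨539, 29700175, none, 183, 13178973⟩)))
(.node 2 (.node 1 (.leaf ⟨539, 29700175, none, 170, 12863563⟩) (.leaf ⟨539, 17043521, none, 170, 4544591⟩)) (.node 1 (.leaf ⟨517, 19681369, none, 205, 17786949⟩) (.node 1 (.leaf ⟨517, 19681369, none, 202, 11098189⟩) (.leaf ⟨517, 17043521, none, 202, 25696325⟩))))))))
(.node 35 (.node 17 (.node 8 (.node 4 (.node 2 (.node 1 (.leaf ⟨88, 31922257, none, 998, 27545665⟩) (.leaf ⟨88, 31922257, none, 177, 25432157⟩)) (.node 1 (.leaf ⟨177, 17043521, none, 88, 23533645⟩) (.leaf ⟨88, 10971209, (some false), 43, 7039043⟩)))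
(.node 2 (.node 1 (.leaf ⟨198, 31735877, none, 356, 6766685⟩) (.leaf ⟨1122, 17584195, none, 529, 17043521⟩)) (.node 1 (.leaf ⟨1122, 17043521, none, 529, 17584195⟩) (.leaf ⟨529, 17059919, (some true), 1123, 17569873⟩))))
(.node 4 (.node 2 (.node 1 (.leaf ⟨1127, 17567823, none, 530, 17043521⟩) (.leaf ⟨1127, 17043521, none, 530, 17567839⟩)) (.node 1 (.leaf ⟨530, 17059919, (some true), 1128, 17584209⟩) (.leaf ⟨157, 31924305, none, 356, 6766685⟩)))
(.node 2 (.node 1 (.leaf ⟨356, 17043521, none, 157, 12869707⟩) (.leaf ⟨157, 13310023, (some false), 339, 15476807⟩)) (.node 1 (.leaf ⟨353, 15212635, none, 946, 17043521⟩) (.node 1 (.leaf ⟨458, 29567049, none, 933, 21901407⟩) (.leaf ⟨462, 21252177, none, 947, 19556447⟩))))))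
(.node 9 (.node 4 (.node 2 (.node 1 (.leaf ⟨947, 17043521, none, 462, 9060429⟩) (.leaf ⟨933, 17043521, none, 458, 9398355⟩)) (.node 1 (.leaf ⟨458, 32125001, (some false), 932, 21762121⟩) (.leaf ⟨932, 32258139, none, 932, 21762121⟩)))
(.node 2 (.node 1 (.leaf ⟨932, 17043521, none, 932, 14968919⟩) (.leaf ⟨932, 23928925, (some false), 912, 25761869⟩)) (.node 1 (.leaf ⟨912, 13178955, none, 912, 25761869⟩) (.node 1 (.leaf ⟨912, 32053343, none, 912, 25761869⟩) (.leaf ⟨912, 17043521, none, 912, 21237833⟩)))))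
(.node 4 (.node 2 (.node 1 (.leaf ⟨912, 29904967, (some true), 913, 27539521⟩) (.leaf ⟨912, 17043521, none, 912, 29626437⟩)) (.node 1 (.leaf ⟨913, 11087953, none, 911, 17043535⟩) (.leaf ⟨150, 21979225, none, 911, 17043535⟩)))
(.node 2 (.node 1 (.leaf ⟨911, 17043521, none, 150, 21979223⟩) (.leaf ⟨928, 16984139, none, 938, 27596881⟩)) (.node 1 (.leaf ⟨150, 31801425, (some false), 929, 19294301⟩) (.node 1 (.leaf ⟨929, 19621965, none, 929, 19294301⟩) (.leaf ⟨936, 17174615, none, 157, 17043521⟩)))))))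
(.node 17 (.node 8 (.node 4 (.node 2 (.node 1 (.leaf ⟨936, 17043521, none, 157, 17174615⟩) (.leaf ⟨937, 17715269, none, 985, 21372993⟩)) (.node 1 (.leaf ⟨985, 17043521, none, 937, 30031949⟩) (.leaf ⟨929, 17043521, none, 929, 17174611⟩)))
(.node 2 (.node 1 (.leaf ⟨928, 19554373, none, 928, 19560517⟩) (.leaf ⟨928, 17043521, none, 928, 17068097⟩)) (.node 1 (.leaf ⟨938, 17043521, none, 928, 25305169⟩) (.leaf ⟨928, 10971209, (some false), 937, 32008277⟩))))
(.node 4 (.node 2 (.node 1 (.leaf ⟨928, 31801425, (some false), 937, 27801693⟩) (.leaf ⟨928, 9056345, (some false), 937, 15226953⟩)) (.node 1 (.leaf ⟨928, 13310023, (some false), 937, 27807827⟩) (.leaf ⟨946, 17043521, none, 353, 15212635⟩)))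
(.node 2 (.node 1 (.leaf ⟨947, 17133659, none, 362, 17459281⟩) (.leaf ⟨980, 15226965, none, 352, 19560517⟩)) (.node 1 (.leaf ⟨980, 17043521, none, 352, 10707017⟩) (.node 1 (.leaf ⟨352, 32125001, (some false), 979, 11212867⟩) (.leaf ⟨352, 10971209, (some false), 979, 29579355⟩))))))
(.node 9 (.node 4 (.node 2 (.node 1 (.leaf ⟨352, 7292999, (some false), 979, 5191773⟩) (.leaf ⟨352, 31801425, (some false), 979, 25587791⟩)) (.node 1 (.leaf ⟨462, 10895437, none, 157, 10903623⟩) (.leaf ⟨462, 17043521, none, 157, 17061969⟩)))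
(.node 2 (.node 1 (.leaf ⟨440, 4792399, none, 150, 29761631⟩) (.leaf ⟨440, 17043521, none, 150, 32116811⟩)) (.node 1 (.leaf ⟨466, 17526871, none, 157, 17643591⟩) (.node 1 (.leaf ⟨466, 17043521, none, 157, 17717329⟩) (.leaf ⟨467, 17444935, none, 946, 16988233⟩)))))
(.node 4 (.node 2 (.node 1 (.leaf ⟨167, 4474971, none, 353, 11016285⟩) (.leaf ⟨353, 17043521, none, 167, 6891589⟩)) (.node 1 (.leaf ⟨362, 17512519, none, 841, 17641549⟩) (.leaf ⟨157, 32321619, none, 202, 14901335⟩)))
(.node 2 (.node 1 (.leaf ⟨202, 17043521, none, 157, 12798027⟩) (.leaf ⟨1125, 11358299, none, 950, 17641567⟩)) (.node 1 (.leaf ⟨157, 4485187, none, 950, 17641567⟩) (.node 1 (.leaf ⟨950, 17043521, none, 157, 32329813⟩) (.leaf ⟨958, 4792389, none, 946, 17043521⟩)))))))))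

/-- The facts. -/
def caseDFullFactsRRLLR : Tab Fct :=
(.node 69 (.node 34 (.node 17 (.node 8 (.node 4 (.node 2 (.node 1 (.leaf ⟨983, 17246295, none, 985, 21372993⟩) (.leaf ⟨983, 17246295, none, 937, 17715269⟩)) (.node 1 (.leaf ⟨983, 17043521, none, 937, 17657939⟩) (.leaf ⟨937, 10971209, (some false), 984, 17176661⟩)))
(.node 2 (.node 1 (.leaf ⟨937, 13310023, (some false), 984, 17070153⟩) (.leaf ⟨958, 4792389, none, 167, 10897491⟩)) (.node 1 (.leaf ⟨958, 17043521, none, 167, 6955097⟩) (.leaf ⟨167, 32131155, (some true), 957, 17002563⟩))))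
(.node 4 (.node 2 (.node 1 (.leaf ⟨959, 17578065, none, 837, 12941391⟩) (.leaf ⟨157, 24055887, none, 837, 12941391⟩)) (.node 1 (.leaf ⟨837, 17043521, none, 157, 14837825⟩) (.leaf ⟨1014, 17510487, none, 947, 19691589⟩)))
(.node 2 (.node 1 (.leaf ⟨1014, 17510487, none, 157, 25567323⟩) (.leaf ⟨1014, 17043521, none, 157, 14841925⟩)) (.node 1 (.leaf ⟨1015, 16939093, none, 946, 17043521⟩) (.node 1 (.leaf ⟨167, 4603999, none, 167, 10897491⟩) (.leaf ⟨167, 17043521, none, 167, 27531337⟩))))))
(.node 8 (.node 4 (.node 2 (.node 1 (.leaf ⟨167, 27529303, (some false), 157, 9261151⟩) (.leaf ⟨167, 32125001, (some false), 802, 16920659⟩)) (.node 1 (.leaf ⟨167, 13510735, (some true), 1039, 9246785⟩) (.leaf ⟨1135, 21841987, none, 833, 15274063⟩)))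
(.node 2 (.node 1 (.leaf ⟨167, 11495495, (some true), 957, 8616027⟩) (.leaf ⟨1135, 21841987, none, 88, 8542281⟩)) (.node 1 (.leaf ⟨1135, 17043521, none, 88, 13322319⟩) (.leaf ⟨1132, 27988063, none, 333, 17043521⟩))))
(.node 4 (.node 2 (.node 1 (.leaf ⟨1132, 27988063, none, 88, 21841995⟩) (.leaf ⟨1132, 17043521, none, 88, 11022411⟩)) (.node 1 (.leaf ⟨1133, 17127515, none, 356, 12861525⟩) (.leaf ⟨529, 19288149, none, 157, 25432159⟩)))
(.node 2 (.node 1 (.leaf ⟨529, 17043521, none, 157, 13588573⟩) (.leaf ⟨530, 17702999, none, 946, 17043521⟩)) (.node 1 (.leaf ⟨1123, 27555913, none, 955, 10973269⟩) (.node 1 (.leaf ⟨157, 14839881, none, 955, 10973269⟩) (.leaf ⟨955, 17043521, none, 157, 9179205⟩)))))))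
(.node 17 (.node 8 (.node 4 (.node 2 (.node 1 (.leaf ⟨954, 16920661, none, 199, 17043551⟩) (.leaf ⟨979, 17463375, none, 167, 17043521⟩)) (.node 1 (.leaf ⟨979, 17043521, none, 167, 17260629⟩) (.leaf ⟨980, 16932957, none, 1016, 17043521⟩)))
(.node 2 (.node 1 (.leaf ⟨352, 7163993, none, 1016, 17043521⟩) (.leaf ⟨1016, 17043521, none, 352, 7163993⟩)) (.node 1 (.leaf ⟨1017, 17770589, none, 979, 29579355⟩) (.leaf ⟨1017, 17770589, none, 167, 29976657⟩))))
(.node 4 (.node 2 (.node 1 (.leaf ⟨1017, 17043521, none, 167, 11096155⟩) (.leaf ⟨954, 16920661, none, 88, 31854681⟩)) (.node 1 (.leaf ⟨954, 17043521, none, 88, 23208005⟩) (.leaf ⟨953, 19140699, none, 529, 17043521⟩)))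
(.node 2 (.node 1 (.leaf ⟨953, 19140699, none, 157, 13588573⟩) (.leaf ⟨953, 17043521, none, 157, 13520967⟩)) (.node 1 (.leaf ⟨954, 9254995, none, 952, 25694275⟩) (.node 1 (.leaf ⟨88, 4679773, none, 952, 25694275⟩) (.leaf ⟨952, 17043521, none, 88, 5195863⟩))))))
(.node 9 (.node 4 (.node 2 (.node 1 (.leaf ⟨530, 17702999, none, 167, 10897491⟩) (.leaf ⟨530, 17043521, none, 167, 7096413⟩)) (.node 1 (.leaf ⟨1128, 19140681, none, 1028, 17119301⟩) (.leaf ⟨167, 30163025, none, 1028, 17119301⟩)))
(.node 2 (.node 1 (.leaf ⟨1028, 17043521, none, 167, 23937117⟩) (.leaf ⟨1027, 13520971, none, 1014, 19816521⟩)) (.node 1 (.leaf ⟨1027, 13520971, none, 157, 7098449⟩) (.node 1 (.leaf ⟨1027, 17043521, none, 157, 32116823⟩) (.leaf ⟨1026, 28190795, none, 952, 25694275⟩)))))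
(.node 4 (.node 2 (.node 1 (.leaf ⟨1026, 28190795, none, 88, 4679773⟩) (.leaf ⟨1026, 17043521, none, 88, 28262477⟩)) (.node 1 (.leaf ⟨1025, 6912071, none, 89, 17043521⟩) (.leaf ⟨1025, 6912071, none, 66, 7286859⟩)))
(.node 2 (.node 1 (.leaf ⟨1025, 17043521, none, 66, 16920653⟩) (.leaf ⟨167, 29909079, none, 338, 25704521⟩)) (.node 1 (.leaf ⟨338, 17043521, none, 167, 14958669⟩) (.node 1 (.leaf ⟨353, 19101789, none, 1017, 19691589⟩) (.leaf ⟨167, 29888579, none, 167, 27799629⟩))))))))
(.node 35 (.node 17 (.node 8 (.node 4 (.node 2 (.node 1 (.leaf ⟨167, 17043521, none, 167, 23355483⟩) (.leaf ⟨167, 17059919, (some true), 1030, 17135691⟩)) (.node 1 (.leaf ⟨167, 17043521, (some true), 1033, 16916549⟩) (.leaf ⟨957, 26095697, none, 1023, 8917069⟩)))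
(.node 2 (.node 1 (.leaf ⟨957, 26095697, none, 84, 13439051⟩) (.leaf ⟨957, 17043521, none, 84, 4808787⟩)) (.node 1 (.leaf ⟨949, 25497677, none, 423, 23672921⟩) (.leaf ⟨949, 17043521, none, 423, 30158943⟩))))
(.node 4 (.node 2 (.node 1 (.leaf ⟨423, 4544593, (some true), 950, 19746889⟩) (.leaf ⟨423, 31801425, (some true), 950, 19738689⟩)) (.node 1 (.leaf ⟨423, 13443153, none, 950, 25786447⟩) (.leaf ⟨423, 9056345, (some false), 975, 17000539⟩)))
(.node 2 (.node 1 (.leaf ⟨423, 23928925, (some false), 975, 17260619⟩) (.leaf ⟨423, 13443153, none, 157, 23337033⟩)) (.node 1 (.leaf ⟨423, 17043521, none, 157, 25319499⟩) (.node 1 (.leaf ⟨975, 17592407, none, 947, 19691589⟩) (.leaf ⟨975, 17592407, none, 157, 25567323⟩))))))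
(.node 9 (.node 4 (.node 2 (.node 1 (.leaf ⟨975, 17043521, none, 157, 9068629⟩) (.leaf ⟨949, 15229021, none, 947, 19691589⟩)) (.node 1 (.leaf ⟨976, 17119317, none, 947, 19556447⟩) (.leaf ⟨976, 17119317, none, 157, 21237829⟩)))
(.node 2 (.node 1 (.leaf ⟨976, 17043521, none, 157, 29700177⟩) (.leaf ⟨1045, 10641473, none, 946, 16988233⟩)) (.node 1 (.leaf ⟨1057, 4546633, none, 164, 17043521⟩) (.node 1 (.leaf ⟨1057, 4546633, none, 157, 19603543⟩) (.leaf ⟨1057, 17043521, none, 157, 13510743⟩)))))
(.node 4 (.node 2 (.node 1 (.leaf ⟨1056, 11276377, none, 199, 17043551⟩) (.leaf ⟨1056, 11276377, none, 88, 31854681⟩)) (.node 1 (.leaf ⟨1056, 17043521, none, 88, 15405121⟩) (.leaf ⟨1019, 8925271, none, 467, 4927561⟩)))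
(.node 2 (.node 1 (.leaf ⟨1019, 8925271, none, 167, 19863617⟩) (.leaf ⟨1019, 17043521, none, 167, 10967135⟩)) (.node 1 (.leaf ⟨1020, 25778265, none, 1023, 8917069⟩) (.node 1 (.leaf ⟨1020, 25778265, none, 84, 13439051⟩) (.leaf ⟨1020, 17043521, none, 84, 23670857⟩)))))))
(.node 17 (.node 8 (.node 4 (.node 2 (.node 1 (.leaf ⟨1045, 10641473, none, 167, 4474971⟩) (.leaf ⟨1045, 17043521, none, 167, 8998983⟩)) (.node 1 (.leaf ⟨1044, 15032385, none, 1016, 17043521⟩) (.leaf ⟨1044, 15032385, none, 352, 7163993⟩)))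
(.node 2 (.node 1 (.leaf ⟨1044, 17043521, none, 352, 27482181⟩) (.leaf ⟨352, 13310023, (some false), 1033, 31799389⟩)) (.node 1 (.leaf ⟨352, 6776923, (some false), 1033, 8544335⟩) (.leaf ⟨352, 23928925, (some false), 1033, 14907487⟩))))
(.node 4 (.node 2 (.node 1 (.leaf ⟨352, 9056345, (some false), 1033, 11495517⟩) (.leaf ⟨157, 25440325, none, 157, 25567323⟩)) (.node 1 (.leaf ⟨157, 17043521, none, 157, 16916575⟩) (.leaf ⟨157, 11495495, (some true), 991, 25499725⟩)))
(.node 2 (.node 1 (.leaf ⟨339, 32254029, none, 339, 15476807⟩) (.leaf ⟨339, 17043521, none, 339, 31723589⟩)) (.node 1 (.leaf ⟨339, 6776923, (some false), 338, 17526849⟩) (.node 1 (.leaf ⟨359, 17043525, none, 359, 17043521⟩) (.leaf ⟨256, 4862023, none, 256, 4862019⟩))))))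
(.node 9 (.node 4 (.node 2 (.node 1 (.leaf ⟨256, 17043521, none, 256, 17043537⟩) (.leaf ⟨298, 25380951, none, 298, 25839709⟩)) (.node 1 (.leaf ⟨298, 17043521, none, 298, 17174613⟩) (.leaf ⟨297, 21311561, none, 297, 21979225⟩)))
(.node 2 (.node 1 (.leaf ⟨297, 17043521, none, 297, 17584223⟩) (.leaf ⟨243, 19019853, none, 243, 19560517⟩)) (.node 1 (.leaf ⟨243, 17043521, none, 243, 17651791⟩) (.node 1 (.leaf ⟨275, 13181005, none, 275, 13193281⟩) (.leaf ⟨275, 17043521, none, 275, 17070161⟩)))))
(.node 4 (.node 2 (.node 1 (.leaf ⟨274, 19624007, none, 274, 19877967⟩) (.leaf ⟨263, 19867713, none, 263, 19605569⟩)) (.node 1 (.leaf ⟨263, 17043521, none, 263, 17240129⟩) (.leaf ⟨275, 9271379, none, 275, 9261145⟩)))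
(.node 2 (.node 1 (.leaf ⟨275, 17043521, none, 275, 17061971⟩) (.leaf ⟨274, 19560535, none, 274, 19877967⟩)) (.node 1 (.leaf ⟨263, 19802195, none, 263, 19605569⟩) (.node 1 (.leaf ⟨263, 17043521, none, 263, 17174609⟩) (.leaf ⟨264, 17524815, none, 264, 17043521⟩)))))))))

/-- The facts. -/
def caseDFullFactsRRLL : Tab Fct := .node 139 caseDFullFactsRRLLL caseDFullFactsRRLLR

/-- The facts. -/
def caseDFullFactsRRLRL : Tab Fct :=
(.node 69 (.node 34 (.node 17 (.node 8 (.node 4 (.node 2 (.node 1 (.leaf ⟨234, 13506641, none, 234, 13525087⟩) (.leaf ⟨234, 17043521, none, 234, 17053779⟩)) (.node 1 (.leaf ⟨49, 28268631, none, 49, 21979225⟩) (.leaf ⟨234, 7292999, (some false), 263, 21303391⟩)))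
(.node 2 (.node 1 (.leaf ⟨234, 32125001, (some false), 263, 28256339⟩) (.leaf ⟨49, 17043521, none, 49, 6572119⟩)) (.node 1 (.leaf ⟨261, 32069709, none, 56, 17262679⟩) (.leaf ⟨261, 17043521, none, 56, 11366493⟩))))
(.node 4 (.node 2 (.node 1 (.leaf ⟨260, 23621701, none, 328, 15345747⟩) (.leaf ⟨328, 17043521, none, 260, 11417675⟩)) (.node 1 (.leaf ⟨260, 10971209, (some false), 327, 25497683⟩) (.leaf ⟨260, 7292999, (some false), 327, 9271391⟩)))
(.node 2 (.node 1 (.leaf ⟨260, 13310023, (some false), 327, 23228507⟩) (.leaf ⟨260, 6776923, (some false), 327, 11300959⟩)) (.node 1 (.leaf ⟨260, 11407445, none, 328, 17043521⟩) (.node 1 (.leaf ⟨260, 11407445, none, 260, 11417675⟩) (.leaf ⟨260, 17043521, none, 260, 17059915⟩))))))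
(.node 8 (.node 4 (.node 2 (.node 1 (.leaf ⟨259, 15429703, none, 259, 14905419⟩) (.leaf ⟨259, 17043521, none, 259, 17764435⟩)) (.node 1 (.leaf ⟨242, 23672921, none, 242, 23685197⟩) (.leaf ⟨242, 17043521, none, 242, 17061971⟩)))
(.node 2 (.node 1 (.leaf ⟨247, 17510493, none, 247, 16920655⟩) (.leaf ⟨247, 17043521, none, 247, 17633363⟩)) (.node 1 (.leaf ⟨256, 17705053, none, 256, 16984149⟩) (.leaf ⟨256, 17043521, none, 256, 17698887⟩))))
(.node 4 (.node 2 (.node 1 (.leaf ⟨298, 26101845, none, 298, 25839709⟩) (.leaf ⟨256, 13310023, (some false), 339, 13445209⟩)) (.node 1 (.leaf ⟨256, 6776923, (some false), 339, 10704987⟩) (.leaf ⟨256, 27529303, (some false), 339, 27752515⟩)))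
(.node 2 (.node 1 (.leaf ⟨256, 29904967, (some false), 339, 29714503⟩) (.leaf ⟨298, 17043521, none, 298, 17764439⟩)) (.node 1 (.leaf ⟨297, 21788747, none, 297, 21979225⟩) (.node 1 (.leaf ⟨297, 17043521, none, 297, 16916573⟩) (.leaf ⟨243, 19877973, none, 243, 19560517⟩)))))))
(.node 17 (.node 8 (.node 4 (.node 2 (.node 1 (.leaf ⟨243, 17043521, none, 243, 16916563⟩) (.leaf ⟨52, 19681363, none, 52, 19691593⟩)) (.node 1 (.leaf ⟨52, 17043521, none, 52, 17068107⟩) (.leaf ⟨268, 11341915, none, 53, 17043521⟩)))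
(.node 2 (.node 1 (.leaf ⟨271, 27865169, none, 271, 25497675⟩) (.leaf ⟨271, 17043521, none, 271, 19755089⟩)) (.node 1 (.leaf ⟨293, 17459275, none, 278, 17043521⟩) (.leaf ⟨293, 17569877, none, 285, 17043521⟩))))
(.node 4 (.node 2 (.node 1 (.leaf ⟨293, 17043521, none, 285, 17569879⟩) (.leaf ⟨285, 13510735, (some false), 294, 17135681⟩)) (.node 1 (.leaf ⟨285, 16932931, none, 278, 17043521⟩) (.leaf ⟨285, 17043521, none, 278, 17440835⟩)))
(.node 2 (.node 1 (.leaf ⟨278, 10971209, (some false), 294, 17717329⟩) (.leaf ⟨278, 32125001, (some false), 294, 17127519⟩)) (.node 1 (.leaf ⟨278, 7292999, (some false), 294, 16934993⟩) (.node 1 (.leaf ⟨278, 31801425, (some false), 294, 17567809⟩) (.leaf ⟨243, 11145309, none, 52, 10973257⟩))))))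
(.node 9 (.node 4 (.node 2 (.node 1 (.leaf ⟨243, 17043521, none, 52, 17459273⟩) (.leaf ⟨297, 16918615, none, 60, 17043521⟩)) (.node 1 (.leaf ⟨297, 16918615, none, 52, 19222619⟩) (.leaf ⟨297, 17043521, none, 52, 19030095⟩)))
(.node 2 (.node 1 (.leaf ⟨298, 17715283, none, 69, 17043521⟩) (.leaf ⟨298, 17043521, none, 69, 17190995⟩)) (.node 1 (.leaf ⟨299, 16984143, none, 209, 17043521⟩) (.node 1 (.leaf ⟨256, 26165323, none, 69, 9136195⟩) (.leaf ⟨256, 17043521, none, 69, 21907541⟩)))))
(.node 4 (.node 2 (.node 1 (.leaf ⟨339, 9318465, none, 231, 21968985⟩) (.leaf ⟨339, 17043521, none, 231, 25499741⟩)) (.node 1 (.leaf ⟨231, 13310023, (some true), 340, 9244747⟩) (.leaf ⟨231, 32125001, (some true), 340, 17584209⟩)))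
(.node 2 (.node 1 (.leaf ⟨338, 17510481, none, 293, 21526599⟩) (.leaf ⟨167, 25903179, none, 278, 21237837⟩)) (.node 1 (.leaf ⟨278, 17043521, none, 167, 29970503⟩) (.node 1 (.leaf ⟨294, 17698891, none, 170, 4603971⟩) (.leaf ⟨231, 9244749, none, 170, 4603971⟩))))))))
(.node 35 (.node 17 (.node 8 (.node 4 (.node 2 (.node 1 (.leaf ⟨231, 17043521, none, 170, 4876375⟩) (.leaf ⟨170, 9056345, (some false), 323, 15562837⟩)) (.node 1 (.leaf ⟨340, 27856969, none, 1066, 17043521⟩) (.leaf ⟨170, 31809621, none, 1066, 17043521⟩)))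
(.node 2 (.node 1 (.leaf ⟨1066, 17043521, none, 170, 31809621⟩) (.leaf ⟨170, 23423043, none, 1069, 25374805⟩)) (.node 1 (.leaf ⟨1069, 17043521, none, 170, 23480407⟩) (.leaf ⟨1068, 17584193, none, 205, 17059907⟩))))
(.node 4 (.node 2 (.node 1 (.leaf ⟨1068, 17584193, none, 157, 29759573⟩) (.leaf ⟨1068, 17043521, none, 157, 29775941⟩)) (.node 1 (.leaf ⟨1069, 17576021, none, 199, 17043551⟩) (.leaf ⟨170, 32131147, none, 88, 31854681⟩)))
(.node 2 (.node 1 (.leaf ⟨170, 17043521, none, 88, 17446981⟩) (.leaf ⟨88, 17059919, (some true), 43, 17584197⟩)) (.node 1 (.leaf ⟨88, 25385043, (some true), 43, 11022405⟩) (.node 1 (.leaf ⟨323, 28256349, none, 84, 27406425⟩) (.leaf ⟨323, 17043521, none, 84, 17594457⟩))))))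
(.node 9 (.node 4 (.node 2 (.node 1 (.leaf ⟨324, 17004629, none, 1167, 21774425⟩) (.leaf ⟨324, 17004629, none, 1112, 17444959⟩)) (.node 1 (.leaf ⟨1112, 17043521, none, 324, 17651807⟩) (.leaf ⟨1113, 17045577, none, 393, 17178695⟩)))
(.node 2 (.node 1 (.leaf ⟨324, 19085399, (some false), 1168, 17256523⟩) (.leaf ⟨324, 13510735, (some false), 1169, 11493457⟩)) (.node 1 (.leaf ⟨324, 23928925, (some false), 1169, 21895243⟩) (.node 1 (.leaf ⟨324, 9070657, none, 393, 17178695⟩) (.leaf ⟨393, 17043521, none, 324, 5134415⟩)))))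
(.node 4 (.node 2 (.node 1 (.leaf ⟨394, 17195091, none, 1168, 17256523⟩) (.leaf ⟨88, 11495519, none, 180, 11079763⟩)) (.node 1 (.leaf ⟨180, 17043521, none, 88, 17786967⟩) (.leaf ⟨1167, 7161951, none, 43, 7039043⟩)))
(.node 2 (.node 1 (.leaf ⟨324, 19607619, none, 43, 7039043⟩) (.leaf ⟨324, 17043521, none, 43, 27537473⟩)) (.node 1 (.leaf ⟨387, 17457221, none, 177, 17053769⟩) (.node 1 (.leaf ⟨1169, 13465671, none, 122, 17043521⟩) (.leaf ⟨1169, 13465671, none, 43, 4671553⟩)))))))
(.node 17 (.node 8 (.node 4 (.node 2 (.node 1 (.leaf ⟨1169, 17043521, none, 43, 13193295⟩) (.leaf ⟨1149, 32051283, none, 174, 4733021⟩)) (.node 1 (.leaf ⟨1149, 32051283, none, 84, 26095689⟩) (.leaf ⟨1149, 17043521, none, 84, 23683157⟩)))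
(.node 2 (.node 1 (.leaf ⟨1150, 27881537, none, 477, 25450579⟩) (.leaf ⟨1150, 27881537, none, 167, 19337281⟩)) (.node 1 (.leaf ⟨1150, 17043521, none, 167, 8804417⟩) (.leaf ⟨1158, 19607645, none, 168, 17043521⟩))))
(.node 4 (.node 2 (.node 1 (.leaf ⟨1158, 19607645, none, 144, 15622223⟩) (.leaf ⟨1158, 17043521, none, 144, 7026769⟩)) (.node 1 (.leaf ⟨1148, 25770063, none, 802, 19540055⟩) (.leaf ⟨1148, 25770063, none, 157, 29890625⟩)))
(.node 2 (.node 1 (.leaf ⟨1148, 17043521, none, 157, 12941381⟩) (.leaf ⟨1158, 17004619, none, 199, 17586249⟩)) (.node 1 (.leaf ⟨144, 29780059, none, 88, 29841501⟩) (.node 1 (.leaf ⟨144, 17043521, none, 88, 17117269⟩) (.leaf ⟨1001, 11278425, none, 43, 11022405⟩))))))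
(.node 9 (.node 4 (.node 2 (.node 1 (.leaf ⟨158, 13269061, none, 43, 11022405⟩) (.leaf ⟨158, 17043521, none, 43, 13320257⟩)) (.node 1 (.leaf ⟨1009, 9269329, none, 113, 25450561⟩) (.leaf ⟨1009, 9269329, none, 43, 19357777⟩)))
(.node 2 (.node 1 (.leaf ⟨1009, 17043521, none, 43, 26093633⟩) (.leaf ⟨1010, 16988225, none, 102, 17043521⟩)) (.node 1 (.leaf ⟨1010, 16988225, none, 43, 14973021⟩) (.node 1 (.leaf ⟨1010, 17043521, none, 43, 4608087⟩) (.leaf ⟨1011, 17526875, none, 25, 27686987⟩)))))
(.node 4 (.node 2 (.node 1 (.leaf ⟨150, 9330755, none, 25, 27686987⟩) (.leaf ⟨150, 17043521, none, 25, 7219281⟩)) (.node 1 (.leaf ⟨929, 19740753, none, 36, 17043521⟩) (.leaf ⟨929, 19740753, none, 25, 19097687⟩)))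
(.node 2 (.node 1 (.leaf ⟨929, 17043521, none, 25, 17703005⟩) (.leaf ⟨928, 19746887, none, 19, 25516101⟩)) (.node 1 (.leaf ⟨928, 17043521, none, 19, 11343939⟩) (.node 1 (.leaf ⟨937, 4749377, none, 139, 13572177⟩) (.leaf ⟨937, 17043521, none, 139, 14829641⟩)))))))))

/-- The facts. -/
def caseDFullFactsRRLRR : Tab Fct :=
(.node 69 (.node 34 (.node 17 (.node 8 (.node 4 (.node 2 (.node 1 (.leaf ⟨984, 17641567, none, 141, 23337055⟩) (.leaf ⟨984, 17043521, none, 141, 13463617⟩)) (.node 1 (.leaf ⟨985, 17125459, none, 750, 14958677⟩) (.leaf ⟨139, 23605321, none, 750, 14958677⟩)))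
(.node 2 (.node 1 (.leaf ⟨750, 17043521, none, 139, 29509719⟩) (.leaf ⟨756, 17641561, none, 138, 6781015⟩)) (.node 1 (.leaf ⟨756, 17043521, none, 138, 29579335⟩) (.leaf ⟨757, 17721437, none, 634, 17506373⟩))))
(.node 4 (.node 2 (.node 1 (.leaf ⟨141, 8542277, none, 141, 4479049⟩) (.leaf ⟨141, 17043521, none, 141, 8917081⟩)) (.node 1 (.leaf ⟨756, 19034189, none, 741, 17043521⟩) (.leaf ⟨775, 27529297, none, 775, 17053777⟩)))
(.node 2 (.node 1 (.leaf ⟨775, 25442371, none, 764, 17641563⟩) (.leaf ⟨789, 25505883, none, 761, 11087945⟩)) (.node 1 (.leaf ⟨138, 26097743, none, 761, 11087945⟩) (.node 1 (.leaf ⟨761, 17043521, none, 138, 25630805⟩) (.leaf ⟨775, 17043521, none, 764, 25761873⟩))))))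
(.node 8 (.node 4 (.node 2 (.node 1 (.leaf ⟨764, 19085399, (some false), 780, 17262667⟩) (.leaf ⟨781, 19097683, none, 771, 17043521⟩)) (.node 1 (.leaf ⟨781, 17043521, none, 771, 19540049⟩) (.leaf ⟨771, 19085399, (some false), 780, 19081281⟩)))
(.node 2 (.node 1 (.leaf ⟨764, 19667019, none, 764, 25768001⟩) (.leaf ⟨764, 17043521, none, 764, 8941657⟩)) (.node 1 (.leaf ⟨794, 17768519, none, 771, 17043521⟩) (.leaf ⟨780, 17197139, none, 798, 17043521⟩))))
(.node 4 (.node 2 (.node 1 (.leaf ⟨780, 17197139, none, 692, 6826073⟩) (.leaf ⟨780, 17043521, none, 692, 29904981⟩)) (.node 1 (.leaf ⟨781, 17262669, none, 794, 23668825⟩) (.leaf ⟨771, 19214429, none, 794, 23668825⟩)))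
(.node 2 (.node 1 (.leaf ⟨794, 17043521, none, 771, 8550489⟩) (.leaf ⟨771, 6776923, (some false), 764, 23601233⟩)) (.node 1 (.leaf ⟨771, 31723593, none, 771, 17043521⟩) (.node 1 (.leaf ⟨771, 17043521, none, 771, 31723593⟩) (.leaf ⟨771, 25385043, (some true), 772, 27537483⟩)))))))
(.node 17 (.node 8 (.node 4 (.node 2 (.node 1 (.leaf ⟨771, 9056345, (some false), 780, 19079245⟩) (.leaf ⟨138, 11481171, none, 646, 23414871⟩)) (.node 1 (.leaf ⟨646, 17043521, none, 138, 9271381⟩) (.leaf ⟨645, 30021713, none, 692, 17717313⟩)))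
(.node 2 (.node 1 (.leaf ⟨692, 17043521, none, 645, 8605777⟩) (.leaf ⟨645, 19085399, (some false), 794, 32071755⟩)) (.node 1 (.leaf ⟨764, 27856971, none, 644, 25516101⟩) (.leaf ⟨764, 17043521, none, 644, 19738719⟩))))
(.node 4 (.node 2 (.node 1 (.leaf ⟨780, 16916547, none, 618, 13113429⟩) (.leaf ⟨645, 17633351, none, 618, 13113429⟩)) (.node 1 (.leaf ⟨645, 17043521, none, 618, 31987795⟩) (.leaf ⟨794, 4812893, none, 625, 17043521⟩)))
(.node 2 (.node 1 (.leaf ⟨771, 19800139, none, 625, 17043521⟩) (.leaf ⟨771, 17043521, none, 625, 19036231⟩)) (.node 1 (.leaf ⟨625, 19085399, (some false), 764, 17045587⟩) (.node 1 (.leaf ⟨625, 31801425, (some false), 764, 27793489⟩) (.leaf ⟨625, 11495495, (some true), 772, 11278401⟩))))))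
(.node 9 (.node 4 (.node 2 (.node 1 (.leaf ⟨625, 7292999, (some false), 780, 19884111⟩) (.leaf ⟨625, 6572125, none, 625, 17043521⟩)) (.node 1 (.leaf ⟨625, 17043521, none, 625, 6572125⟩) (.leaf ⟨772, 25514051, none, 626, 17043521⟩)))
(.node 2 (.node 1 (.leaf ⟨625, 25903193, none, 626, 17043521⟩) (.leaf ⟨626, 17043521, none, 625, 25903193⟩)) (.node 1 (.leaf ⟨629, 17528905, none, 764, 17045587⟩) (.node 1 (.leaf ⟨629, 17528905, none, 644, 19740751⟩) (.leaf ⟨644, 17043521, none, 629, 19355741⟩)))))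
(.node 4 (.node 2 (.node 1 (.leaf ⟨629, 23928925, (some false), 645, 17768521⟩) (.leaf ⟨629, 25653335, none, 644, 17043521⟩)) (.node 1 (.leaf ⟨629, 25653335, none, 629, 19355741⟩) (.leaf ⟨629, 17043521, none, 629, 12869725⟩)))
(.node 2 (.node 1 (.leaf ⟨645, 16932953, none, 630, 17043521⟩) (.leaf ⟨618, 15231051, none, 618, 29823065⟩)) (.node 1 (.leaf ⟨618, 17043521, none, 618, 27816011⟩) (.node 1 (.leaf ⟨131, 21573721, none, 131, 21305409⟩) (.leaf ⟨637, 17109083, none, 625, 17043521⟩))))))))
(.node 35 (.node 17 (.node 8 (.node 4 (.node 2 (.node 1 (.leaf ⟨637, 17043521, none, 625, 17109081⟩) (.leaf ⟨625, 32125001, (some false), 638, 17635421⟩)) (.node 1 (.leaf ⟨638, 17111115, none, 638, 17635421⟩) (.leaf ⟨638, 17043521, none, 638, 17567829⟩)))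
(.node 2 (.node 1 (.leaf ⟨638, 4808797, (some false), 639, 17135695⟩) (.leaf ⟨131, 17043521, none, 131, 17719381⟩)) (.node 1 (.leaf ⟨131, 9056345, (some false), 646, 8863825⟩) (.leaf ⟨131, 13510735, (some false), 646, 13451333⟩))))
(.node 4 (.node 2 (.node 1 (.leaf ⟨131, 13310023, (some false), 646, 32325725⟩) (.leaf ⟨131, 29904967, (some false), 646, 15024195⟩)) (.node 1 (.leaf ⟨131, 27809885, none, 139, 17043521⟩) (.leaf ⟨139, 17043521, none, 131, 27809885⟩)))
(.node 2 (.node 1 (.leaf ⟨732, 25702489, none, 618, 19208267⟩) (.leaf ⟨732, 17043521, none, 618, 11368523⟩)) (.node 1 (.leaf ⟨737, 17643591, none, 637, 17043521⟩) (.node 1 (.leaf ⟨737, 17643591, none, 625, 17109081⟩) (.leaf ⟨737, 17043521, none, 625, 17592405⟩))))))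
(.node 9 (.node 4 (.node 2 (.node 1 (.leaf ⟨750, 16982095, none, 638, 17635421⟩) (.leaf ⟨131, 21968977, none, 638, 17635421⟩)) (.node 1 (.leaf ⟨638, 17043521, none, 131, 23558237⟩) (.leaf ⟨639, 17586251, none, 141, 16984157⟩)))
(.node 2 (.node 1 (.leaf ⟨607, 9056351, none, 141, 16984157⟩) (.leaf ⟨607, 17043521, none, 141, 30099523⟩)) (.node 1 (.leaf ⟨622, 15296593, none, 790, 10901587⟩) (.node 1 (.leaf ⟨622, 15296593, none, 141, 25641025⟩) (.leaf ⟨622, 17043521, none, 141, 6826059⟩)))))
(.node 4 (.node 2 (.node 1 (.leaf ⟨621, 25432141, none, 761, 17043521⟩) (.leaf ⟨623, 17244243, none, 750, 14958677⟩)) (.node 1 (.leaf ⟨615, 21196879, none, 131, 4939843⟩) (.leaf ⟨615, 17043521, none, 131, 11090015⟩)))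
(.node 2 (.node 1 (.leaf ⟨616, 25432129, none, 616, 27596895⟩) (.leaf ⟨616, 17043521, none, 616, 19208279⟩)) (.node 1 (.leaf ⟨616, 4808797, (some false), 621, 17510493⟩) (.node 1 (.leaf ⟨616, 19085399, (some false), 621, 17446983⟩) (.leaf ⟨621, 25432141, none, 138, 25630805⟩)))))))
(.node 17 (.node 8 (.node 4 (.node 2 (.node 1 (.leaf ⟨621, 17043521, none, 138, 17242193⟩) (.leaf ⟨616, 11032661, none, 132, 17127489⟩)) (.node 1 (.leaf ⟨616, 17043521, none, 132, 8917063⟩) (.leaf ⟨621, 16918615, none, 651, 17766489⟩)))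
(.node 2 (.node 1 (.leaf ⟨138, 17178695, none, 651, 17766489⟩) (.leaf ⟨651, 17043521, none, 138, 17657929⟩)) (.node 1 (.leaf ⟨132, 19148885, none, 132, 17127489⟩) (.leaf ⟨689, 8867929, none, 692, 17176657⟩))))
(.node 4 (.node 2 (.node 1 (.leaf ⟨689, 8867929, none, 618, 29773903⟩) (.leaf ⟨689, 17043521, none, 618, 21303367⟩)) (.node 1 (.leaf ⟨690, 17127499, none, 626, 11358293⟩) (.leaf ⟨138, 6824005, none, 625, 17705029⟩)))
(.node 2 (.node 1 (.leaf ⟨625, 17043521, none, 138, 29890625⟩) (.leaf ⟨764, 8935511, none, 693, 19802189⟩)) (.node 1 (.leaf ⟨629, 9386061, none, 693, 19802189⟩) (.node 1 (.leaf ⟨693, 17043521, none, 629, 6643777⟩) (.leaf ⟨629, 7292999, (some false), 718, 28002377⟩))))))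
(.node 9 (.node 4 (.node 2 (.node 1 (.leaf ⟨629, 27529303, (some false), 718, 30165061⟩) (.leaf ⟨132, 17043521, none, 132, 19230815⟩)) (.node 1 (.leaf ⟨580, 27408457, none, 580, 28266563⟩) (.leaf ⟨657, 17133649, none, 657, 17051729⟩)))
(.node 2 (.node 1 (.leaf ⟨664, 25718865, none, 664, 25440331⟩) (.leaf ⟨664, 17043521, none, 664, 17576019⟩)) (.node 1 (.leaf ⟨666, 27619393, none, 666, 27594817⟩) (.node 1 (.leaf ⟨666, 17043521, none, 666, 17061953⟩) (.leaf ⟨665, 19624027, none, 665, 19689545⟩)))))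
(.node 4 (.node 2 (.node 1 (.leaf ⟨665, 17043521, none, 665, 17698897⟩) (.leaf ⟨685, 17764439, none, 685, 17043521⟩)) (.node 1 (.leaf ⟨654, 6645847, none, 654, 7221313⟩) (.leaf ⟨654, 17043521, none, 654, 17457245⟩)))
(.node 2 (.node 1 (.leaf ⟨654, 4808797, (some false), 682, 4612187⟩) (.leaf ⟨654, 13510735, (some false), 682, 28012637⟩)) (.node 1 (.leaf ⟨657, 17043521, none, 657, 17125441⟩) (.node 1 (.leaf ⟨677, 17649745, none, 677, 17043521⟩) (.leaf ⟨657, 29904967, (some false), 688, 17522753⟩)))))))))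

/-- The facts. -/
def caseDFullFactsRRLR : Tab Fct := .node 139 caseDFullFactsRRLRL caseDFullFactsRRLRR

/-- The facts. -/
def caseDFullFactsRRL : Tab Fct := .node 278 caseDFullFactsRRLL caseDFullFactsRRLR

/-- The facts. -/
def caseDFullFactsRRRLL : Tab Fct :=
(.node 69 (.node 34 (.node 17 (.node 8 (.node 4 (.node 2 (.node 1 (.leaf ⟨677, 17043521, none, 677, 17649745⟩) (.leaf ⟨677, 31801425, (some false), 678, 17461331⟩)) (.node 1 (.leaf ⟨580, 17043521, none, 580, 17584205⟩) (.leaf ⟨579, 25499743, none, 579, 25516101⟩)))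
(.node 2 (.node 1 (.leaf ⟨579, 17043521, none, 579, 17070163⟩) (.leaf ⟨555, 29757535, none, 555, 29761631⟩)) (.node 1 (.leaf ⟨555, 17043521, none, 555, 17051713⟩) (.leaf ⟨568, 17045571, none, 568, 17043521⟩))))
(.node 4 (.node 2 (.node 1 (.leaf ⟨568, 17043521, none, 568, 17045571⟩) (.leaf ⟨569, 17569863, none, 569, 17586247⟩)) (.node 1 (.leaf ⟨569, 17043521, none, 569, 17059905⟩) (.leaf ⟨570, 17068115, none, 570, 17043521⟩)))
(.node 2 (.node 1 (.leaf ⟨549, 28260423, none, 549, 27482189⟩) (.leaf ⟨549, 17043521, none, 549, 17651805⟩)) (.node 1 (.leaf ⟨128, 21448797, none, 128, 21448789⟩) (.node 1 (.leaf ⟨128, 17043521, none, 128, 17043549⟩) (.leaf ⟨747, 17178715, none, 747, 17197143⟩))))))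
(.node 8 (.node 4 (.node 2 (.node 1 (.leaf ⟨148, 4796487, none, 148, 23670859⟩) (.leaf ⟨148, 17043521, none, 148, 25432133⟩)) (.node 1 (.leaf ⟨149, 11098193, none, 147, 17043535⟩) (.leaf ⟨25, 25380931, none, 147, 17043535⟩)))
(.node 2 (.node 1 (.leaf ⟨147, 17043521, none, 25, 25380941⟩) (.leaf ⟨138, 28268625, none, 144, 17446983⟩)) (.node 1 (.leaf ⟨138, 28268625, none, 88, 17524825⟩) (.leaf ⟨138, 17043521, none, 88, 31604813⟩))))
(.node 4 (.node 2 (.node 1 (.leaf ⟨141, 19294283, none, 524, 17043521⟩) (.leaf ⟨524, 17043521, none, 141, 19294283⟩)) (.node 1 (.leaf ⟨526, 19353695, none, 142, 17043521⟩) (.leaf ⟨526, 19353695, none, 131, 12941401⟩)))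
(.node 2 (.node 1 (.leaf ⟨526, 17043521, none, 131, 11495509⟩) (.leaf ⟨525, 19017823, none, 646, 24068179⟩)) (.node 1 (.leaf ⟨525, 19017823, none, 88, 13465669⟩) (.node 1 (.leaf ⟨525, 17043521, none, 88, 5132381⟩) (.leaf ⟨526, 17592389, none, 84, 27406425⟩)))))))
(.node 17 (.node 8 (.node 4 (.node 2 (.node 1 (.leaf ⟨131, 27994185, none, 84, 27406425⟩) (.leaf ⟨131, 17043521, none, 84, 17784917⟩)) (.node 1 (.leaf ⟨646, 11485267, none, 423, 32071769⟩) (.leaf ⟨88, 12810329, none, 157, 13373513⟩)))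
(.node 2 (.node 1 (.leaf ⟨157, 17043521, none, 88, 16988253⟩) (.leaf ⟨991, 17649749, none, 534, 19167321⟩)) (.node 1 (.leaf ⟨88, 17119307, none, 446, 16932959⟩) (.leaf ⟨446, 17043521, none, 88, 17528921⟩))))
(.node 4 (.node 2 (.node 1 (.leaf ⟨543, 16982109, none, 356, 23871583⟩) (.leaf ⟨543, 16982109, none, 88, 8802395⟩)) (.node 1 (.leaf ⟨543, 17043521, none, 88, 4679753⟩) (.leaf ⟨544, 17508423, none, 43, 7039043⟩)))
(.node 2 (.node 1 (.leaf ⟨430, 31811677, none, 43, 7039043⟩) (.leaf ⟨430, 17043521, none, 43, 23924817⟩)) (.node 1 (.leaf ⟨431, 17641561, none, 25, 27686987⟩) (.node 1 (.leaf ⟨77, 28190787, none, 25, 27686987⟩) (.leaf ⟨77, 17043521, none, 25, 17705031⟩))))))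
(.node 9 (.node 4 (.node 2 (.node 1 (.leaf ⟨14, 14829651, none, 148, 9009247⟩) (.leaf ⟨148, 17043521, none, 14, 15605837⟩)) (.node 1 (.leaf ⟨877, 17567809, none, 43, 7098455⟩) (.leaf ⟨141, 30230605, none, 43, 7098455⟩)))
(.node 2 (.node 1 (.leaf ⟨141, 17043521, none, 43, 25522249⟩) (.leaf ⟨775, 27807819, none, 183, 19730521⟩)) (.node 1 (.leaf ⟨629, 11407425, none, 88, 19148895⟩) (.node 1 (.leaf ⟨629, 17043521, none, 88, 29972555⟩) (.leaf ⟨718, 8865877, none, 467, 6977609⟩)))))
(.node 4 (.node 2 (.node 1 (.leaf ⟨718, 8865877, none, 167, 19271761⟩) (.leaf ⟨718, 17043521, none, 167, 4548699⟩)) (.node 1 (.leaf ⟨717, 10645597, none, 841, 17641549⟩) (.leaf ⟨717, 10645597, none, 88, 31936603⟩)))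
(.node 2 (.node 1 (.leaf ⟨717, 17043521, none, 88, 7100491⟩) (.leaf ⟨705, 17002583, none, 43, 7039043⟩)) (.node 1 (.leaf ⟨705, 17043521, none, 43, 9187419⟩) (.node 1 (.leaf ⟨725, 17635401, none, 174, 23623769⟩) (.leaf ⟨725, 17635401, none, 84, 27684959⟩))))))))
(.node 35 (.node 17 (.node 8 (.node 4 (.node 2 (.node 1 (.leaf ⟨725, 17043521, none, 84, 9318485⟩) (.leaf ⟨726, 17119311, none, 475, 19216463⟩)) (.node 1 (.leaf ⟨612, 30220369, none, 475, 19216463⟩) (.leaf ⟨612, 17043521, none, 475, 12808275⟩)))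
(.node 2 (.node 1 (.leaf ⟨475, 10971209, (some false), 598, 7043163⟩) (.leaf ⟨475, 13310023, (some false), 598, 31924301⟩)) (.node 1 (.leaf ⟨871, 4552797, none, 501, 25710661⟩) (.leaf ⟨871, 17043521, none, 501, 23998551⟩))))
(.node 4 (.node 2 (.node 1 (.leaf ⟨501, 23998551, none, 501, 5124187⟩) (.leaf ⟨501, 17043521, none, 501, 31723589⟩)) (.node 1 (.leaf ⟨502, 17174597, none, 502, 17043521⟩) (.leaf ⟨475, 31926363, none, 475, 27605083⟩)))
(.node 2 (.node 1 (.leaf ⟨475, 17043521, none, 475, 29499457⟩) (.leaf ⟨598, 31926351, none, 598, 31924301⟩)) (.node 1 (.leaf ⟨598, 17043521, none, 598, 17045571⟩) (.node 1 (.leaf ⟨597, 29777999, none, 597, 29761631⟩) (.leaf ⟨597, 17043521, none, 597, 17068121⟩))))))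
(.node 9 (.node 4 (.node 2 (.node 1 (.leaf ⟨129, 26095689, none, 129, 25892931⟩) (.leaf ⟨129, 17043521, none, 129, 17524831⟩)) (.node 1 (.leaf ⟨587, 25696341, none, 587, 17569877⟩) (.leaf ⟨587, 17043521, none, 587, 8917057⟩)))
(.node 2 (.node 1 (.leaf ⟨606, 17721433, none, 606, 17244235⟩) (.leaf ⟨606, 17043521, none, 606, 17651795⟩)) (.node 1 (.leaf ⟨606, 13510735, (some false), 607, 17178701⟩) (.node 1 (.leaf ⟨606, 29904967, (some false), 607, 17719379⟩) (.leaf ⟨606, 4733013, none, 44, 17043521⟩)))))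
(.node 4 (.node 2 (.node 1 (.leaf ⟨606, 4733013, none, 14, 4749403⟩) (.leaf ⟨606, 17043521, none, 14, 17051717⟩)) (.node 1 (.leaf ⟨587, 15667285, none, 7, 21979225⟩) (.leaf ⟨587, 17043521, none, 7, 29636691⟩)))
(.node 2 (.node 1 (.leaf ⟨594, 25761875, none, 66, 23214165⟩) (.leaf ⟨594, 17043521, none, 66, 14907461⟩)) (.node 1 (.leaf ⟨593, 10899547, none, 343, 9269331⟩) (.node 1 (.leaf ⟨593, 10899547, none, 84, 11221085⟩) (.leaf ⟨593, 17043521, none, 84, 16984153⟩)))))))
(.node 17 (.node 8 (.node 4 (.node 2 (.node 1 (.leaf ⟨586, 11284555, none, 74, 25516101⟩) (.leaf ⟨586, 17043521, none, 74, 8927303⟩)) (.node 1 (.leaf ⟨602, 17117263, none, 77, 17043521⟩) (.leaf ⟨602, 17117263, none, 25, 17705031⟩)))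
(.node 2 (.node 1 (.leaf ⟨602, 17043521, none, 25, 17440843⟩) (.leaf ⟨586, 32057411, none, 19, 25516101⟩)) (.node 1 (.leaf ⟨74, 19884107, none, 19, 25516101⟩) (.leaf ⟨74, 17043521, none, 19, 7041115⟩))))
(.node 4 (.node 2 (.node 1 (.leaf ⟨427, 27619403, none, 139, 4939861⟩) (.leaf ⟨427, 27619403, none, 84, 17059921⟩)) (.node 1 (.leaf ⟨427, 17043521, none, 84, 25507921⟩) (.leaf ⟨426, 4745285, none, 423, 23672921⟩)))
(.node 2 (.node 1 (.leaf ⟨426, 4745285, none, 88, 5003353⟩) (.leaf ⟨426, 17043521, none, 88, 17000535⟩)) (.node 1 (.leaf ⟨427, 17125445, none, 84, 27406425⟩) (.node 1 (.leaf ⟨84, 27553877, none, 84, 27406425⟩) (.leaf ⟨84, 17043521, none, 84, 17528927⟩))))))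
(.node 9 (.node 4 (.node 2 (.node 1 (.leaf ⟨1167, 8798301, none, 475, 19621953⟩) (.leaf ⟨43, 9252953, none, 475, 19621953⟩)) (.node 1 (.leaf ⟨475, 17043521, none, 43, 21114951⟩) (.leaf ⟨598, 27611227, none, 25, 27686987⟩)))
(.node 2 (.node 1 (.leaf ⟨598, 17043521, none, 25, 17510489⟩) (.leaf ⟨597, 9179217, none, 19, 25516101⟩)) (.node 1 (.leaf ⟨597, 17043521, none, 19, 9009245⟩) (.node 1 (.leaf ⟨129, 19542097, none, 20, 17043521⟩) (.leaf ⟨129, 19542097, none, 19, 17633357⟩)))))
(.node 4 (.node 2 (.node 1 (.leaf ⟨129, 17043521, none, 19, 19359831⟩) (.leaf ⟨587, 9007173, none, 128, 25768009⟩)) (.node 1 (.leaf ⟨7, 6893647, none, 128, 25768009⟩) (.leaf ⟨128, 17043521, none, 7, 29626461⟩)))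
(.node 2 (.node 1 (.leaf ⟨555, 17569859, none, 94, 17043521⟩) (.leaf ⟨577, 13527135, none, 14, 17705027⟩)) (.node 1 (.leaf ⟨577, 17043521, none, 14, 25456713⟩) (.node 1 (.leaf ⟨576, 4728907, none, 43, 27926617⟩) (.leaf ⟨576, 17043521, none, 43, 13375563⟩)))))))))

/-- The facts. -/
def caseDFullFactsRRRLR : Tab Fct :=
(.node 69 (.node 34 (.node 17 (.node 8 (.node 4 (.node 2 (.node 1 (.leaf ⟨575, 27684953, none, 174, 21524561⟩) (.leaf ⟨575, 27684953, none, 84, 27752533⟩)) (.node 1 (.leaf ⟨575, 17043521, none, 84, 17111113⟩) (.leaf ⟨560, 17584221, none, 74, 25516101⟩)))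
(.node 2 (.node 1 (.leaf ⟨560, 17584221, none, 19, 21368917⟩) (.leaf ⟨560, 17043521, none, 19, 4608089⟩)) (.node 1 (.leaf ⟨561, 17133633, none, 139, 13576263⟩) (.leaf ⟨561, 17133633, none, 84, 17657931⟩))))
(.node 4 (.node 2 (.node 1 (.leaf ⟨561, 17043521, none, 84, 17567817⟩) (.leaf ⟨562, 17594433, none, 480, 9195611⟩)) (.node 1 (.leaf ⟨84, 17053773, none, 480, 9195611⟩) (.leaf ⟨480, 17043521, none, 84, 25704519⟩)))
(.node 2 (.node 1 (.leaf ⟨1196, 17193045, none, 475, 19216463⟩) (.leaf ⟨1092, 19214425, none, 43, 29823043⟩)) (.node 1 (.leaf ⟨1092, 17043521, none, 43, 23279707⟩) (.node 1 (.leaf ⟨1091, 27922511, none, 180, 17070153⟩) (.leaf ⟨1091, 27922511, none, 88, 16934981⟩))))))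
(.node 8 (.node 4 (.node 2 (.node 1 (.leaf ⟨1091, 17043521, none, 88, 12730461⟩) (.leaf ⟨1090, 17576011, none, 89, 17043521⟩)) (.node 1 (.leaf ⟨481, 11286607, none, 66, 7286859⟩) (.leaf ⟨481, 17043521, none, 66, 24057941⟩)))
(.node 2 (.node 1 (.leaf ⟨555, 17569859, none, 56, 25317459⟩) (.leaf ⟨555, 17043521, none, 56, 8607825⟩)) (.node 1 (.leaf ⟨556, 17068121, none, 95, 17633365⟩) (.leaf ⟨579, 17512527, none, 95, 17176661⟩))))
(.node 4 (.node 2 (.node 1 (.leaf ⟨579, 17512527, none, 69, 21317715⟩) (.leaf ⟨579, 17043521, none, 69, 11487319⟩)) (.node 1 (.leaf ⟨580, 17764437, none, 209, 17043521⟩) (.leaf ⟨580, 17764437, none, 69, 9136195⟩)))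
(.node 2 (.node 1 (.leaf ⟨580, 17043521, none, 69, 32190551⟩) (.leaf ⟨581, 17258571, none, 96, 17782855⟩)) (.node 1 (.leaf ⟨132, 13307993, none, 66, 19208261⟩) (.node 1 (.leaf ⟨132, 17043521, none, 66, 13310047⟩) (.leaf ⟨664, 27531331, none, 343, 25778249⟩)))))))
(.node 17 (.node 8 (.node 4 (.node 2 (.node 1 (.leaf ⟨664, 27531331, none, 84, 27684949⟩) (.leaf ⟨664, 17043521, none, 84, 17256543⟩)) (.node 1 (.leaf ⟨666, 7022683, none, 91, 17176643⟩) (.leaf ⟨666, 7022683, none, 88, 4610133⟩)))
(.node 2 (.node 1 (.leaf ⟨666, 17043521, none, 88, 19538007⟩) (.leaf ⟨665, 19740745, none, 43, 7039043⟩)) (.node 1 (.leaf ⟨665, 17043521, none, 43, 29827163⟩) (.leaf ⟨685, 17446993, none, 177, 17053769⟩))))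
(.node 4 (.node 2 (.node 1 (.leaf ⟨654, 12937297, none, 88, 29503567⟩) (.leaf ⟨654, 17043521, none, 88, 30228575⟩)) (.node 1 (.leaf ⟨682, 32266327, none, 356, 12861525⟩) (.leaf ⟨682, 32266327, none, 88, 25376843⟩)))
(.node 2 (.node 1 (.leaf ⟨682, 17043521, none, 88, 9187411⟩) (.leaf ⟨681, 14837829, none, 467, 9269319⟩)) (.node 1 (.leaf ⟨681, 14837829, none, 167, 19343443⟩) (.node 1 (.leaf ⟨681, 17043521, none, 167, 32006231⟩) (.leaf ⟨657, 17641547, none, 1017, 19691589⟩))))))
(.node 9 (.node 4 (.node 2 (.node 1 (.leaf ⟨657, 17641547, none, 167, 27799629⟩) (.leaf ⟨657, 17043521, none, 167, 8917085⟩)) (.node 1 (.leaf ⟨658, 27531345, none, 1033, 16916549⟩) (.leaf ⟨677, 17256535, none, 1016, 17043521⟩)))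
(.node 2 (.node 1 (.leaf ⟨688, 17002575, none, 157, 25516101⟩) (.leaf ⟨688, 17002575, none, 88, 25851969⟩)) (.node 1 (.leaf ⟨688, 17043521, none, 88, 15538263⟩) (.node 1 (.leaf ⟨689, 17524823, none, 467, 9269319⟩) (.leaf ⟨618, 11167823, none, 167, 19343443⟩)))))
(.node 4 (.node 2 (.node 1 (.leaf ⟨618, 17043521, none, 167, 23478363⟩) (.leaf ⟨619, 25718865, none, 1039, 9246785⟩)) (.node 1 (.leaf ⟨167, 24010839, none, 1039, 9246785⟩) (.leaf ⟨1039, 17043521, none, 167, 31860831⟩)))
(.node 2 (.node 1 (.leaf ⟨677, 17256535, none, 352, 7163993⟩) (.leaf ⟨677, 17043521, none, 352, 23466057⟩)) (.node 1 (.leaf ⟨678, 17528909, none, 979, 25587791⟩) (.node 1 (.leaf ⟨678, 17528909, none, 167, 25776203⟩) (.leaf ⟨678, 17043521, none, 167, 29960281⟩))))))))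
(.node 35 (.node 17 (.node 8 (.node 4 (.node 2 (.node 1 (.leaf ⟨677, 21958723, none, 1016, 17043521⟩) (.leaf ⟨352, 19730525, none, 352, 7163993⟩)) (.node 1 (.leaf ⟨352, 17043521, none, 352, 6576197⟩) (.leaf ⟨1033, 23861343, none, 1033, 14907487⟩)))
(.node 2 (.node 1 (.leaf ⟨1033, 17043521, none, 1033, 25309249⟩) (.leaf ⟨1033, 9056345, (some false), 1032, 19034203⟩)) (.node 1 (.leaf ⟨1033, 13510735, (some false), 1032, 19558495⟩) (.leaf ⟨167, 17643611, none, 1033, 16916549⟩))))
(.node 4 (.node 2 (.node 1 (.leaf ⟨1033, 17043521, none, 167, 17512543⟩) (.leaf ⟨1032, 19085405, none, 841, 17641549⟩)) (.node 1 (.leaf ⟨1032, 19085405, none, 88, 31936603⟩) (.leaf ⟨1032, 17043521, none, 88, 23224393⟩)))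
(.node 2 (.node 1 (.leaf ⟨1031, 25385053, none, 529, 9246785⟩) (.leaf ⟨1031, 25385053, none, 88, 29843539⟩)) (.node 1 (.leaf ⟨1031, 17043521, none, 88, 27934805⟩) (.node 1 (.leaf ⟨1030, 17461343, none, 89, 17043521⟩) (.leaf ⟨1030, 17461343, none, 66, 7286859⟩))))))
(.node 9 (.node 4 (.node 2 (.node 1 (.leaf ⟨1030, 17043521, none, 66, 27480137⟩) (.leaf ⟨556, 17068121, none, 69, 24070225⟩)) (.node 1 (.leaf ⟨556, 17043521, none, 69, 14895177⟩) (.leaf ⟨69, 10971209, (some true), 557, 8935515⟩)))
(.node 2 (.node 1 (.leaf ⟨387, 17457221, none, 88, 29503567⟩) (.leaf ⟨387, 17043521, none, 88, 30158935⟩)) (.node 1 (.leaf ⟨388, 17698887, none, 84, 27406425⟩) (.node 1 (.leaf ⟨385, 19746895, none, 84, 27406425⟩) (.leaf ⟨385, 17043521, none, 84, 9123911⟩)))))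
(.node 4 (.node 2 (.node 1 (.leaf ⟨69, 21315677, none, 487, 17043521⟩) (.leaf ⟨69, 21315677, none, 66, 21117013⟩)) (.node 1 (.leaf ⟨69, 17043521, none, 66, 17461323⟩) (.leaf ⟨94, 15296581, none, 67, 17043521⟩)))
(.node 2 (.node 1 (.leaf ⟨557, 11368515, none, 335, 27547715⟩) (.leaf ⟨66, 27801677, none, 335, 27547715⟩)) (.node 1 (.leaf ⟨335, 17043521, none, 66, 17651799⟩) (.node 1 (.leaf ⟨56, 30232649, none, 7, 29956161⟩) (.leaf ⟨56, 17043521, none, 7, 17719381⟩)))))))
(.node 17 (.node 8 (.node 4 (.node 2 (.node 1 (.leaf ⟨328, 13373515, none, 66, 27539539⟩) (.leaf ⟨260, 27818065, none, 66, 27539539⟩)) (.node 1 (.leaf ⟨260, 17043521, none, 66, 17641539⟩) (.leaf ⟨259, 29702231, none, 52, 29511765⟩)))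
(.node 2 (.node 1 (.leaf ⟨259, 17043521, none, 52, 17197123⟩) (.leaf ⟨242, 27881559, none, 49, 25516101⟩)) (.node 1 (.leaf ⟨242, 17043521, none, 49, 19757129⟩) (.leaf ⟨247, 17717335, none, 56, 17262679⟩))))
(.node 4 (.node 2 (.node 1 (.leaf ⟨247, 17717335, none, 7, 16939101⟩) (.leaf ⟨247, 17043521, none, 7, 17508429⟩)) (.node 1 (.leaf ⟨242, 19271751, none, 4, 25516101⟩) (.leaf ⟨49, 17719371, none, 4, 25516101⟩)))
(.node 2 (.node 1 (.leaf ⟨49, 17043521, none, 4, 4946011⟩) (.leaf ⟨234, 16986189, none, 46, 17786947⟩)) (.node 1 (.leaf ⟨234, 17043521, none, 46, 17526855⟩) (.node 1 (.leaf ⟨263, 11429953, none, 69, 10971219⟩) (.leaf ⟨263, 11429953, none, 66, 11040863⟩))))))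
(.node 9 (.node 4 (.node 2 (.node 1 (.leaf ⟨263, 17043521, none, 66, 17442891⟩) (.leaf ⟨264, 17004619, none, 52, 25825351⟩)) (.node 1 (.leaf ⟨46, 25565269, none, 52, 25825351⟩) (.leaf ⟨52, 17043521, none, 46, 17569871⟩)))
(.node 2 (.node 1 (.leaf ⟨271, 19165249, none, 214, 25448515⟩) (.leaf ⟨271, 17043521, none, 214, 27537475⟩)) (.node 1 (.leaf ⟨293, 17068123, none, 217, 17260633⟩) (.node 1 (.leaf ⟨167, 6889549, none, 217, 17260633⟩) (.leaf ⟨217, 17043521, none, 167, 29970511⟩)))))
(.node 4 (.node 2 (.node 1 (.leaf ⟨214, 19275841, none, 1016, 17043521⟩) (.leaf ⟨214, 19275841, none, 352, 7163993⟩)) (.node 1 (.leaf ⟨352, 17043521, none, 214, 21459019⟩) (.leaf ⟨214, 23928925, (some false), 338, 6912075⟩)))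
(.node 2 (.node 1 (.leaf ⟨214, 9056345, (some false), 338, 21573703⟩) (.leaf ⟨214, 10971209, (some false), 338, 32057439⟩)) (.node 1 (.leaf ⟨214, 31801425, (some false), 338, 29958231⟩) (.node 1 (.leaf ⟨214, 32125001, (some false), 338, 13178953⟩) (.leaf ⟨214, 7292999, (some false), 338, 29970527⟩)))))))))

/-- The facts. -/
def caseDFullFactsRRRL : Tab Fct := .node 139 caseDFullFactsRRRLL caseDFullFactsRRRLR

/-- The facts. -/
def caseDFullFactsRRRRL : Tab Fct :=
(.node 69 (.node 34 (.node 17 (.node 8 (.node 4 (.node 2 (.node 1 (.leaf ⟨214, 13310023, (some false), 338, 29970499⟩) (.leaf ⟨214, 6776923, (some false), 338, 13195335⟩)) (.node 1 (.leaf ⟨214, 23410757, none, 1016, 17043521⟩) (.leaf ⟨214, 23410757, none, 214, 19275841⟩)))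
(.node 2 (.node 1 (.leaf ⟨214, 17043521, none, 214, 29567053⟩) (.leaf ⟨214, 13510735, (some true), 46, 6893649⟩)) (.node 1 (.leaf ⟨214, 13310023, (some true), 46, 29628497⟩) (.leaf ⟨214, 10971209, (some true), 46, 7100481⟩))))
(.node 4 (.node 2 (.node 1 (.leaf ⟨214, 4808797, (some true), 46, 15208523⟩) (.leaf ⟨214, 25385043, (some true), 46, 29636683⟩)) (.node 1 (.leaf ⟨214, 29904967, (some true), 46, 13113411⟩) (.leaf ⟨214, 32131155, (some true), 215, 11302979⟩)))
(.node 2 (.node 1 (.leaf ⟨214, 32125001, (some true), 215, 19746907⟩) (.leaf ⟨214, 11495495, (some true), 215, 19730499⟩)) (.node 1 (.leaf ⟨214, 31801425, (some true), 215, 19667009⟩) (.node 1 (.leaf ⟨214, 19085399, (some true), 215, 27883587⟩) (.leaf ⟨214, 4544593, (some true), 215, 9271369⟩))))))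
(.node 8 (.node 4 (.node 2 (.node 1 (.leaf ⟨1, 19085399, (some false), 1, 19157079⟩) (.leaf ⟨1, 17043521, (some true), 7, 17190997⟩)) (.node 1 (.leaf ⟨1, 10971209, (some true), 7, 25890885⟩) (.leaf ⟨1, 17059919, (some true), 7, 17698887⟩)))
(.node 2 (.node 1 (.leaf ⟨1, 19085399, (some true), 7, 19339343⟩) (.leaf ⟨1, 25385043, (some true), 7, 11483213⟩)) (.node 1 (.leaf ⟨1, 11495495, (some true), 7, 25917525⟩) (.leaf ⟨4, 32125001, (some true), 4, 7288897⟩))))
(.node 4 (.node 2 (.node 1 (.leaf ⟨4, 10971209, (some true), 4, 31674443⟩) (.leaf ⟨4, 4808797, (some true), 4, 29759555⟩)) (.node 1 (.leaf ⟨4, 29904967, (some true), 4, 29841497⟩) (.leaf ⟨4, 13310023, (some true), 4, 30021699⟩)))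
(.node 2 (.node 1 (.leaf ⟨4, 13510735, (some true), 4, 4946011⟩) (.leaf ⟨4, 17059919, (some true), 4, 9203781⟩)) (.node 1 (.leaf ⟨4, 19085399, (some true), 4, 21114961⟩) (.node 1 (.leaf ⟨4, 31801425, (some true), 4, 13307993⟩) (.leaf ⟨4, 25385043, (some true), 4, 23992411⟩)))))))
(.node 17 (.node 8 (.node 4 (.node 2 (.node 1 (.leaf ⟨4, 32131155, (some true), 4, 13310017⟩) (.leaf ⟨4, 11495495, (some true), 4, 13269083⟩)) (.node 1 (.leaf ⟨4, 4544593, (some true), 4, 15431761⟩) (.leaf ⟨7, 19085399, (some false), 7, 19032151⟩)))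
(.node 2 (.node 1 (.leaf ⟨7, 17043521, (some true), 7, 17059917⟩) (.leaf ⟨7, 32125001, (some true), 19, 12808275⟩)) (.node 1 (.leaf ⟨7, 10971209, (some true), 7, 25456735⟩) (.leaf ⟨7, 4808797, (some true), 19, 7229515⟩))))
(.node 4 (.node 2 (.node 1 (.leaf ⟨7, 29904967, (some true), 19, 30019667⟩) (.leaf ⟨7, 13310023, (some true), 19, 7041115⟩)) (.node 1 (.leaf ⟨7, 13510735, (some true), 19, 24055875⟩) (.leaf ⟨7, 17059919, (some true), 7, 17649743⟩)))
(.node 2 (.node 1 (.leaf ⟨7, 31801425, (some true), 19, 4681811⟩) (.leaf ⟨7, 25385043, (some true), 7, 11145281⟩)) (.node 1 (.leaf ⟨7, 32131155, (some true), 19, 12802131⟩) (.node 1 (.leaf ⟨7, 11495495, (some true), 7, 25432141⟩) (.leaf ⟨7, 4544593, (some true), 19, 14907481⟩))))))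
(.node 9 (.node 4 (.node 2 (.node 1 (.leaf ⟨14, 32125001, (some false), 14, 8874051⟩) (.leaf ⟨14, 10971209, (some false), 1, 13387845⟩)) (.node 1 (.leaf ⟨14, 19085399, (some false), 14, 19538015⟩) (.leaf ⟨14, 31801425, (some false), 14, 19818591⟩)))
(.node 2 (.node 1 (.leaf ⟨14, 17043521, (some true), 25, 17133645⟩) (.leaf ⟨14, 32125001, (some true), 25, 19863629⟩)) (.node 1 (.leaf ⟨14, 10971209, (some true), 14, 10700895⟩) (.node 1 (.leaf ⟨14, 4808797, (some true), 25, 9252959⟩) (.leaf ⟨14, 29904967, (some true), 25, 27988037⟩)))))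
(.node 4 (.node 2 (.node 1 (.leaf ⟨14, 13310023, (some true), 25, 26169415⟩) (.leaf ⟨14, 13510735, (some true), 25, 27553877⟩)) (.node 1 (.leaf ⟨14, 17059919, (some true), 25, 17651799⟩) (.leaf ⟨14, 19085399, (some true), 25, 19667023⟩)))
(.node 2 (.node 1 (.leaf ⟨14, 31801425, (some true), 25, 19157071⟩) (.leaf ⟨14, 25385043, (some true), 25, 11286605⟩)) (.node 1 (.leaf ⟨14, 32131155, (some true), 25, 17043551⟩) (.node 1 (.leaf ⟨14, 11495495, (some true), 14, 25577567⟩) (.leaf ⟨14, 4544593, (some true), 25, 19034207⟩))))))))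
(.node 35 (.node 17 (.node 8 (.node 4 (.node 2 (.node 1 (.leaf ⟨19, 32125001, (some false), 84, 17070155⟩) (.leaf ⟨19, 10971209, (some false), 84, 17526877⟩)) (.node 1 (.leaf ⟨19, 23928925, (some false), 84, 17657931⟩) (.leaf ⟨19, 13310023, (some false), 84, 16939085⟩)))
(.node 2 (.node 1 (.leaf ⟨19, 7292999, (some false), 84, 17059921⟩) (.leaf ⟨19, 31801425, (some false), 84, 17657949⟩)) (.node 1 (.leaf ⟨19, 9056345, (some false), 84, 17002579⟩) (.leaf ⟨19, 6776923, (some false), 84, 17717341⟩))))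
(.node 4 (.node 2 (.node 1 (.leaf ⟨19, 32125001, (some true), 7, 6893647⟩) (.leaf ⟨19, 10971209, (some true), 19, 28254283⟩)) (.node 1 (.leaf ⟨19, 4808797, (some true), 7, 30169157⟩) (.leaf ⟨19, 29904967, (some true), 7, 29626461⟩)))
(.node 2 (.node 1 (.leaf ⟨19, 13310023, (some true), 19, 11427913⟩) (.leaf ⟨19, 13510735, (some true), 19, 19081289⟩)) (.node 1 (.leaf ⟨19, 17059919, (some true), 19, 17633357⟩) (.node 1 (.leaf ⟨19, 19085399, (some true), 7, 6649949⟩) (.leaf ⟨19, 31801425, (some true), 19, 27664451⟩))))))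
(.node 9 (.node 4 (.node 2 (.node 1 (.leaf ⟨19, 25385043, (some true), 19, 9134161⟩) (.leaf ⟨19, 32131155, (some true), 7, 14973021⟩)) (.node 1 (.leaf ⟨19, 11495495, (some true), 7, 23337029⟩) (.leaf ⟨19, 4544593, (some true), 19, 27664459⟩)))
(.node 2 (.node 1 (.leaf ⟨25, 32125001, (some false), 88, 17524825⟩) (.leaf ⟨25, 10971209, (some false), 88, 17117269⟩)) (.node 1 (.leaf ⟨25, 4808797, (some false), 88, 17240155⟩) (.node 1 (.leaf ⟨25, 29904967, (some false), 88, 17457223⟩) (.leaf ⟨25, 13510735, (some false), 88, 17178699⟩)))))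
(.node 4 (.node 2 (.node 1 (.leaf ⟨25, 7292999, (some false), 88, 17125467⟩) (.leaf ⟨25, 27529303, (some false), 88, 16988231⟩)) (.node 1 (.leaf ⟨25, 19085399, (some false), 25, 19097687⟩) (.leaf ⟨25, 31801425, (some false), 88, 17178711⟩)))
(.node 2 (.node 1 (.leaf ⟨25, 17043521, (some true), 25, 17442893⟩) (.leaf ⟨25, 32125001, (some true), 25, 13574227⟩)) (.node 1 (.leaf ⟨25, 10971209, (some true), 14, 15624273⟩) (.node 1 (.leaf ⟨25, 4808797, (some true), 25, 4679753⟩) (.leaf ⟨25, 29904967, (some true), 25, 21176401⟩)))))))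
(.node 17 (.node 8 (.node 4 (.node 2 (.node 1 (.leaf ⟨25, 13310023, (some true), 25, 6703195⟩) (.leaf ⟨25, 13510735, (some true), 25, 31664195⟩)) (.node 1 (.leaf ⟨25, 17059919, (some true), 14, 14829651⟩) (.leaf ⟨25, 31801425, (some true), 25, 7219281⟩)))
(.node 2 (.node 1 (.leaf ⟨25, 25385043, (some true), 25, 10645577⟩) (.leaf ⟨25, 32131155, (some true), 25, 7217235⟩)) (.node 1 (.leaf ⟨25, 11495495, (some true), 25, 25380941⟩) (.leaf ⟨25, 4544593, (some true), 25, 6955099⟩))))
(.node 4 (.node 2 (.node 1 (.leaf ⟨43, 32125001, (some false), 14, 4749403⟩) (.leaf ⟨43, 10971209, (some false), 43, 14973021⟩)) (.node 1 (.leaf ⟨43, 4808797, (some false), 84, 27684959⟩) (.leaf ⟨43, 23928925, (some false), 84, 26095689⟩)))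
(.node 2 (.node 1 (.leaf ⟨43, 29904967, (some false), 88, 31602759⟩) (.leaf ⟨43, 13310023, (some false), 88, 29503567⟩)) (.node 1 (.leaf ⟨43, 13510735, (some false), 88, 23533645⟩) (.node 1 (.leaf ⟨43, 7292999, (some false), 43, 4671553⟩) (.leaf ⟨43, 27529303, (some false), 84, 25892929⟩))))))
(.node 9 (.node 4 (.node 2 (.node 1 (.leaf ⟨43, 19085399, (some false), 43, 28002387⟩) (.leaf ⟨43, 9056345, (some false), 88, 21303381⟩)) (.node 1 (.leaf ⟨43, 6776923, (some false), 84, 27752533⟩) (.leaf ⟨43, 17043521, (some true), 88, 17045597⟩)))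
(.node 2 (.node 1 (.leaf ⟨43, 32125001, (some true), 88, 16934981⟩) (.leaf ⟨43, 10971209, (some true), 43, 19013697⟩)) (.node 1 (.leaf ⟨43, 4808797, (some true), 88, 11360351⟩) (.node 1 (.leaf ⟨43, 29904967, (some true), 88, 25370711⟩) (.leaf ⟨43, 13310023, (some true), 88, 28002381⟩)))))
(.node 4 (.node 2 (.node 1 (.leaf ⟨43, 13510735, (some true), 88, 25770069⟩) (.leaf ⟨43, 17059919, (some true), 88, 17592391⟩)) (.node 1 (.leaf ⟨43, 19085399, (some true), 88, 19673183⟩) (.leaf ⟨43, 31801425, (some true), 88, 17643599⟩)))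
(.node 2 (.node 1 (.leaf ⟨43, 25385043, (some true), 88, 11300933⟩) (.leaf ⟨43, 32131155, (some true), 88, 19148895⟩)) (.node 1 (.leaf ⟨43, 11495495, (some true), 43, 19357777⟩) (.node 1 (.leaf ⟨43, 4544593, (some true), 88, 17786967⟩) (.leaf ⟨46, 32125001, (some false), 66, 27791447⟩)))))))))

/-- The facts. -/
def caseDFullFactsRRRRR : Tab Fct :=
(.node 69 (.node 34 (.node 17 (.node 8 (.node 4 (.node 2 (.node 1 (.leaf ⟨46, 10971209, (some false), 66, 32004165⟩) (.leaf ⟨46, 4808797, (some false), 66, 4749397⟩)) (.node 1 (.leaf ⟨46, 23928925, (some false), 66, 4743259⟩) (.leaf ⟨46, 29904967, (some false), 66, 11040863⟩)))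
(.node 2 (.node 1 (.leaf ⟨46, 13310023, (some false), 66, 27801681⟩) (.leaf ⟨46, 13510735, (some false), 66, 27799625⟩)) (.node 1 (.leaf ⟨46, 7292999, (some false), 66, 21510229⟩) (.leaf ⟨46, 27529303, (some false), 66, 15229023⟩))))
(.node 4 (.node 2 (.node 1 (.leaf ⟨46, 19085399, (some false), 46, 19294301⟩) (.leaf ⟨46, 31801425, (some false), 66, 27818079⟩)) (.node 1 (.leaf ⟨46, 9056345, (some false), 66, 15231047⟩) (.leaf ⟨46, 6776923, (some false), 66, 6844507⟩)))
(.node 2 (.node 1 (.leaf ⟨46, 17043521, (some true), 46, 17258567⟩) (.leaf ⟨46, 10971209, (some true), 46, 25376839⟩)) (.node 1 (.leaf ⟨46, 17059919, (some true), 46, 17764439⟩) (.node 1 (.leaf ⟨46, 19085399, (some true), 46, 19288151⟩) (.leaf ⟨46, 25385043, (some true), 46, 10711125⟩))))))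
(.node 8 (.node 4 (.node 2 (.node 1 (.leaf ⟨46, 11495495, (some true), 46, 26161239⟩) (.leaf ⟨66, 17043521, (some false), 46, 30169159⟩)) (.node 1 (.leaf ⟨66, 4808797, (some false), 66, 19619913⟩) (.leaf ⟨66, 29904967, (some false), 46, 25565269⟩)))
(.node 2 (.node 1 (.leaf ⟨66, 13510735, (some false), 66, 25440337⟩) (.leaf ⟨66, 27529303, (some false), 7, 29956161⟩)) (.node 1 (.leaf ⟨66, 19085399, (some false), 66, 19101773⟩) (.leaf ⟨66, 17043521, (some true), 66, 17651799⟩))))
(.node 4 (.node 2 (.node 1 (.leaf ⟨66, 32125001, (some true), 84, 27471967⟩) (.leaf ⟨66, 10971209, (some true), 167, 13445199⟩)) (.node 1 (.leaf ⟨66, 4808797, (some true), 167, 32008277⟩) (.leaf ⟨66, 29904967, (some true), 167, 29958223⟩)))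
(.node 2 (.node 1 (.leaf ⟨66, 13310023, (some true), 84, 11221085⟩) (.leaf ⟨66, 13510735, (some true), 84, 19624029⟩)) (.node 1 (.leaf ⟨66, 17059919, (some true), 66, 27801677⟩) (.node 1 (.leaf ⟨66, 19085399, (some true), 167, 29909079⟩) (.leaf ⟨66, 31801425, (some true), 167, 13443165⟩)))))))
(.node 17 (.node 8 (.node 4 (.node 2 (.node 1 (.leaf ⟨66, 25385043, (some true), 167, 14958669⟩) (.leaf ⟨66, 32131155, (some true), 84, 27684949⟩)) (.node 1 (.leaf ⟨66, 11495495, (some true), 167, 32317519⟩) (.leaf ⟨66, 4544593, (some true), 167, 15542357⟩)))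
(.node 2 (.node 1 (.leaf ⟨84, 17043521, (some false), 19, 21368917⟩) (.leaf ⟨84, 32125001, (some false), 43, 6959171⟩)) (.node 1 (.leaf ⟨84, 10971209, (some false), 88, 12810329⟩) (.leaf ⟨84, 4808797, (some false), 88, 5003353⟩))))
(.node 4 (.node 2 (.node 1 (.leaf ⟨84, 23928925, (some false), 88, 4610133⟩) (.leaf ⟨84, 29904967, (some false), 43, 23230533⟩)) (.node 1 (.leaf ⟨84, 13310023, (some false), 43, 23214171⟩) (.leaf ⟨84, 13510735, (some false), 43, 29823043⟩)))
(.node 2 (.node 1 (.leaf ⟨84, 7292999, (some false), 43, 9252953⟩) (.leaf ⟨84, 27529303, (some false), 88, 14970953⟩)) (.node 1 (.leaf ⟨84, 19085399, (some false), 84, 19603543⟩) (.node 1 (.leaf ⟨84, 31801425, (some false), 88, 9136213⟩) (.leaf ⟨84, 9056345, (some false), 43, 21192789⟩))))))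
(.node 9 (.node 4 (.node 2 (.node 1 (.leaf ⟨84, 6776923, (some false), 88, 6574165⟩) (.leaf ⟨84, 17043521, (some true), 66, 31873105⟩)) (.node 1 (.leaf ⟨84, 32125001, (some true), 167, 25376841⟩) (.leaf ⟨84, 10971209, (some true), 84, 25704519⟩)))
(.node 2 (.node 1 (.leaf ⟨84, 4808797, (some true), 167, 19798105⟩) (.leaf ⟨84, 29904967, (some true), 167, 17715267⟩)) (.node 1 (.leaf ⟨84, 13310023, (some true), 167, 27988035⟩) (.node 1 (.leaf ⟨84, 13510735, (some true), 167, 27949147⟩) (.leaf ⟨84, 17059919, (some true), 84, 17053773⟩)))))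
(.node 4 (.node 2 (.node 1 (.leaf ⟨84, 19085399, (some true), 66, 21117013⟩) (.leaf ⟨84, 31801425, (some true), 167, 19337281⟩)) (.node 1 (.leaf ⟨84, 25385043, (some true), 84, 11147345⟩) (.leaf ⟨84, 32131155, (some true), 167, 25630793⟩)))
(.node 2 (.node 1 (.leaf ⟨84, 11495495, (some true), 66, 21434459⟩) (.leaf ⟨84, 4544593, (some true), 167, 17242185⟩)) (.node 1 (.leaf ⟨88, 17043521, (some false), 25, 4941893⟩) (.node 1 (.leaf ⟨88, 4808797, (some false), 88, 25376843⟩) (.leaf ⟨88, 23928925, (some false), 167, 19863617⟩))))))))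
(.node 35 (.node 17 (.node 8 (.node 4 (.node 2 (.node 1 (.leaf ⟨88, 29904967, (some false), 167, 19032149⟩) (.leaf ⟨88, 13310023, (some false), 88, 31789129⟩)) (.node 1 (.leaf ⟨88, 13510735, (some false), 167, 19343443⟩) (.leaf ⟨88, 7292999, (some false), 88, 21841995⟩)))
(.node 2 (.node 1 (.leaf ⟨88, 27529303, (some false), 88, 8802395⟩) (.leaf ⟨88, 19085399, (some false), 88, 19818591⟩)) (.node 1 (.leaf ⟨88, 31801425, (some false), 66, 7286859⟩) (.leaf ⟨88, 9056345, (some false), 88, 5187669⟩))))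
(.node 4 (.node 2 (.node 1 (.leaf ⟨88, 6776923, (some false), 167, 19271761⟩) (.leaf ⟨88, 17043521, (some true), 88, 17119307⟩)) (.node 1 (.leaf ⟨88, 32125001, (some true), 88, 23883871⟩) (.leaf ⟨88, 10971209, (some true), 88, 25839705⟩)))
(.node 2 (.node 1 (.leaf ⟨88, 4808797, (some true), 88, 24004681⟩) (.leaf ⟨88, 29904967, (some true), 88, 4732999⟩)) (.node 1 (.leaf ⟨88, 13310023, (some true), 88, 13178973⟩) (.node 1 (.leaf ⟨88, 13510735, (some true), 88, 13248601⟩) (.leaf ⟨88, 19085399, (some true), 88, 19224657⟩))))))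
(.node 9 (.node 4 (.node 2 (.node 1 (.leaf ⟨88, 31801425, (some true), 88, 31926339⟩) (.leaf ⟨88, 32131155, (some true), 88, 29843539⟩)) (.node 1 (.leaf ⟨88, 11495495, (some true), 43, 31920199⟩) (.leaf ⟨88, 4544593, (some true), 88, 31723615⟩)))
(.node 2 (.node 1 (.leaf ⟨167, 17043521, (some false), 88, 25851969⟩) (.leaf ⟨167, 32125001, (some false), 88, 11210841⟩)) (.node 1 (.leaf ⟨167, 10971209, (some false), 88, 7151703⟩) (.node 1 (.leaf ⟨167, 4808797, (some false), 214, 19275841⟩) (.leaf ⟨167, 23928925, (some false), 88, 4880467⟩)))))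
(.node 4 (.node 2 (.node 1 (.leaf ⟨167, 29904967, (some false), 167, 27799629⟩) (.leaf ⟨167, 13310023, (some false), 88, 31936603⟩)) (.node 1 (.leaf ⟨167, 13510735, (some false), 88, 12871765⟩) (.leaf ⟨167, 7292999, (some false), 88, 23289923⟩)))
(.node 2 (.node 1 (.leaf ⟨167, 27529303, (some false), 88, 9121881⟩) (.leaf ⟨167, 19085399, (some false), 88, 8542281⟩)) (.node 1 (.leaf ⟨167, 31801425, (some false), 88, 7026779⟩) (.node 1 (.leaf ⟨167, 9056345, (some false), 88, 15667289⟩) (.leaf ⟨167, 6776923, (some false), 88, 15540303⟩)))))))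
(.node 17 (.node 8 (.node 4 (.node 2 (.node 1 (.leaf ⟨167, 17043521, (some true), 167, 17643611⟩) (.leaf ⟨167, 32125001, (some true), 167, 10967135⟩)) (.node 1 (.leaf ⟨167, 10971209, (some true), 167, 31860831⟩) (.leaf ⟨167, 4808797, (some true), 66, 16920653⟩)))
(.node 2 (.node 1 (.leaf ⟨167, 29904967, (some true), 167, 25712707⟩) (.leaf ⟨167, 13310023, (some true), 84, 13400151⟩)) (.node 1 (.leaf ⟨167, 13510735, (some true), 167, 24010839⟩) (.leaf ⟨167, 17059919, (some true), 66, 26097729⟩))))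
(.node 4 (.node 2 (.node 1 (.leaf ⟨167, 19085399, (some true), 167, 9375837⟩) (.leaf ⟨167, 31801425, (some true), 167, 30163025⟩)) (.node 1 (.leaf ⟨167, 25385043, (some true), 84, 13439051⟩) (.leaf ⟨167, 32131155, (some true), 84, 29972561⟩)))
(.node 2 (.node 1 (.leaf ⟨167, 11495495, (some true), 84, 31799377⟩) (.leaf ⟨167, 4544593, (some true), 66, 27480137⟩)) (.node 1 (.leaf ⟨214, 17043521, (some false), 167, 4796491⟩) (.node 1 (.leaf ⟨214, 32125001, (some false), 167, 23670877⟩) (.leaf ⟨214, 10971209, (some false), 167, 27883591⟩))))))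
(.node 9 (.node 4 (.node 2 (.node 1 (.leaf ⟨214, 4808797, (some false), 167, 29956167⟩) (.leaf ⟨214, 23928925, (some false), 167, 15276103⟩)) (.node 1 (.leaf ⟨214, 29904967, (some false), 167, 29960265⟩) (.leaf ⟨214, 13310023, (some false), 167, 4812869⟩)))
(.node 2 (.node 1 (.leaf ⟨214, 13510735, (some false), 167, 6889549⟩) (.leaf ⟨214, 7292999, (some false), 167, 4812889⟩)) (.node 1 (.leaf ⟨214, 27529303, (some false), 167, 4796483⟩) (.node 1 (.leaf ⟨214, 19085399, (some false), 167, 29970511⟩) (.leaf ⟨214, 31801425, (some false), 167, 25784397⟩)))))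
(.node 4 (.node 2 (.node 1 (.leaf ⟨214, 9056345, (some false), 167, 29970521⟩) (.leaf ⟨214, 6776923, (some false), 167, 6893635⟩)) (.node 1 (.leaf ⟨214, 32125001, (some true), 214, 19230805⟩) (.leaf ⟨214, 17059919, (some true), 214, 17657933⟩)))
(.node 2 (.node 1 (.leaf ⟨214, 19085399, (some true), 214, 27613263⟩) (.leaf ⟨214, 31801425, (some true), 214, 19148895⟩)) (.node 1 (.leaf ⟨214, 32131155, (some true), 214, 11022405⟩) (.node 1 (.leaf ⟨214, 11495495, (some true), 214, 19214429⟩) (.leaf ⟨214, 4544593, (some true), 214, 8925261⟩)))))))))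

/-- The facts. -/
def caseDFullFactsRRRR : Tab Fct := .node 139 caseDFullFactsRRRRL caseDFullFactsRRRRR

/-- The facts. -/
def caseDFullFactsRRR : Tab Fct := .node 278 caseDFullFactsRRRL caseDFullFactsRRRR

/-- The facts. -/
def caseDFullFactsRR : Tab Fct := .node 556 caseDFullFactsRRL caseDFullFactsRRR

/-- The facts. -/
def caseDFullFactsR : Tab Fct := .node 1112 caseDFullFactsRL caseDFullFactsRR

/-- The facts. -/
def caseDFullFacts : Tab Fct := .node 2223 caseDFullFactsL caseDFullFactsR

/-- The reasons. -/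
def caseDFullSrcLLLLL : Tab Src :=
(.node 69 (.node 34 (.node 17 (.node 8 (.node 4 (.node 2 (.node 1 (.leaf .root) (.leaf .root)) (.node 1 (.leaf .dfn) (.leaf (.mov 1 17043521 false [.edge 2 0 true]))))
(.node 2 (.node 1 (.leaf (.mov 0 27529303 false [.plain 0 29904967 true, .edge 2 0 false])) (.leaf (.mov 0 23928925 false [.plain 0 29825107 true, .edge 4 1322 false]))) (.node 1 (.leaf (.mov 0 7292999 false [.plain 0 23928925 true, .edge 5 0 false])) (.leaf (.mov 0 9056345 false [.plain 0 7292999 true, .edge 6 0 false])))))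
(.node 4 (.node 2 (.node 1 (.leaf (.mov 0 19085399 false [.plain 0 32202817 true, .edge 7 553 false])) (.leaf (.mov 0 10971209 false [.plain 0 19099727 true, .edge 8 1406 false]))) (.node 1 (.leaf (.mov 0 13310023 false [.plain 1 10971209 true, .edge 9 0 false])) (.leaf (.mov 0 31801425 false [.plain 0 13310023 true, .edge 10 0 false]))))
(.node 2 (.node 1 (.leaf (.mov 0 6776923 false [.plain 0 31801425 true, .edge 11 0 false])) (.leaf (.mov 0 17043521 false [.plain 0 23951451 true, .edge 12 524 false]))) (.node 1 (.leaf (.mov 0 32125001 false [.plain 0 17043521 true, .edge 13 0 false])) (.node 1 (.leaf (.mov 0 4808797 false [.plain 0 32125001 true, .edge 14 0 false])) (.leaf (.mov 0 13510735 false [.plain 0 4808797 true, .edge 15 0 false])))))))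
(.node 8 (.node 4 (.node 2 (.node 1 (.leaf (.eqT 0 29904967 false [.plain 1 9384025 true, .edge 5 1146 false] [.edge 2 0 false])) (.leaf (.eqT 0 31801425 false [.plain 1 15618125 true, .edge 4 65 false] [.edge 11 0 false]))) (.node 1 (.leaf (.eqT 0 19085399 false [.plain 1 29904967 true, .edge 2 0 false] [.edge 8 0 false])) (.leaf (.eq 1 17043521 [] [.plain 18 17780809 false]))))
(.node 2 (.node 1 (.leaf (.eq 1 17043521 [] [.plain 17 17659981 false])) (.leaf .dfn)) (.node 1 (.leaf .dfn) (.leaf (.mov 3 17043521 false [.edge 23 0 true])))))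
(.node 4 (.node 2 (.node 1 (.leaf (.rel 0 27809875 0 [.edge 2 1081 false, .mul, .edge 22 1083 false, .mul, .edge 23 257 false, .mul, .mul])) (.leaf (.eq 3 17043521 [] [.plain 25 19683419 true]))) (.node 1 (.leaf (.eqT 0 4808797 false [.plain 26 16935003 true, .edge 24 810 false] [.edge 15 0 false])) (.leaf (.eq 2 17043521 [] [.plain 27 19355715 false]))))
(.node 2 (.node 1 (.leaf .dfn) (.leaf (.mov 4 17043521 true [.edge 29 0 true]))) (.node 1 (.leaf (.mov 0 11495495 true [.plain 0 19607633 true, .edge 29 157 false])) (.node 1 (.leaf (.mov 0 4544593 true [.plain 0 17197149 true, .edge 31 1126 false])) (.leaf (.mov 0 17043521 true [.plain 0 23951451 true, .edge 32 181 false]))))))))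
(.node 17 (.node 8 (.node 4 (.node 2 (.node 1 (.leaf (.mov 0 32125001 true [.plain 0 17043521 true, .edge 33 0 false])) (.leaf (.mov 0 4808797 true [.plain 0 32125001 true, .edge 34 0 false]))) (.node 1 (.leaf (.mov 0 13510735 true [.plain 0 4808797 true, .edge 35 0 false])) (.leaf (.mov 0 32131155 true [.plain 1 13510735 true, .edge 36 0 false]))))
(.node 2 (.node 1 (.leaf (.mov 0 19085399 true [.plain 0 32202817 true, .edge 37 1457 false])) (.leaf (.mov 0 10971209 true [.plain 0 19099727 true, .edge 38 406 false]))) (.node 1 (.leaf (.mov 0 29904967 true [.plain 0 10971209 true, .edge 39 0 false])) (.leaf (.mov 0 17059919 true [.plain 0 7157845 true, .edge 40 1244 false])))))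
(.node 4 (.node 2 (.node 1 (.leaf (.mov 0 13310023 true [.plain 0 9205855 true, .edge 41 770 false])) (.leaf (.mov 0 31801425 true [.plain 0 13310023 true, .edge 42 0 false]))) (.node 1 (.leaf (.eqT 0 25385043 true [.plain 1 15562825 true, .edge 32 248 false] [.edge 29 0 false])) (.leaf (.eqT 0 32125001 true [.plain 1 19802197 true, .edge 31 964 false] [.edge 34 0 false]))))
(.node 2 (.node 1 (.leaf (.eqT 0 29904967 true [.plain 1 9384025 true, .edge 29 105 false] [.edge 40 0 false])) (.leaf (.eq 4 17043521 [] [.plain 46 19740763 false]))) (.node 1 (.leaf (.eq 4 17043521 [] [.plain 45 27621467 false])) (.node 1 (.leaf (.eq 4 17043521 [] [.plain 44 27553867 false])) (.leaf .dfn))))))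
(.node 9 (.node 4 (.node 2 (.node 1 (.leaf .dfn) (.leaf (.mov 6 17043521 true [.edge 51 0 true]))) (.node 1 (.leaf (.rel 0 11417675 1 [.edge 29 988 false, .mul, .edge 50 464 false, .mul, .edge 51 116 false, .mul, .mul])) (.leaf (.eq 6 17043521 [] [.plain 53 19167317 true]))))
(.node 2 (.node 1 (.leaf (.eqT 0 19085399 true [.plain 54 8919115 true, .edge 52 872 false] [.edge 38 0 false])) (.leaf (.eq 5 17043521 [] [.plain 55 27547719 false]))) (.node 1 (.leaf .dfn) (.node 1 (.leaf (.mov 7 17043521 false [.edge 57 0 true])) (.leaf (.mov 4 13510735 false [.plain 47 29845597 true, .edge 57 1002 false]))))))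
(.node 4 (.node 2 (.node 1 (.leaf (.mov 4 19085399 false [.plain 48 21131333 true, .edge 59 465 false])) (.leaf (.mov 4 4808797 false [.plain 47 19085385 true, .edge 60 1282 false]))) (.node 1 (.leaf (.mov 4 17043521 false [.plain 47 9007195 true, .edge 61 1109 false])) (.leaf (.mov 4 29904967 false [.plain 47 17784905 true, .edge 62 576 false]))))
(.node 2 (.node 1 (.leaf (.eqT 4 29904967 false [.plain 49 15214677 true, .edge 63 633 false] [.edge 63 0 false])) (.leaf (.eqT 4 13510735 false [.plain 49 19796049 true, .edge 60 56 false] [.edge 59 0 false]))) (.node 1 (.leaf (.eqT 4 17043521 false [.plain 48 25514065 true, .edge 57 281 false] [.edge 62 0 false])) (.node 1 (.leaf (.eqT 4 17043521 false [.plain 49 27547723 true, .edge 57 488 false] [.edge 62 0 false])) (.leaf (.eq 7 17043521 [] [.plain 67 17633353 false])))))))))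
(.node 34 (.node 17 (.node 8 (.node 4 (.node 2 (.node 1 (.leaf (.eq 7 17043521 [] [.plain 66 17045573 false])) (.leaf (.eq 7 17043521 [] [.plain 65 17715287 false]))) (.node 1 (.leaf (.eq 7 17043521 [] [.plain 64 17715277 false])) (.leaf .dfn)))
(.node 2 (.node 1 (.leaf .dfn) (.leaf (.mov 9 17043521 false [.edge 73 0 true]))) (.node 1 (.leaf .dfn) (.leaf (.mov 10 17043521 true [.edge 75 0 true])))))
(.node 4 (.node 2 (.node 1 (.leaf (.rel 0 10702917 2 [.edge 38 1120 false, .edge 57 890 false, .mul, .edge 72 607 false, .mul, .edge 73 1142 false, .mul, .edge 75 1139 false, .mul])) (.leaf (.eq 10 17043521 [] [.plain 77 25768013 true]))) (.node 1 (.leaf (.eqT 0 25385043 true [.plain 78 25507923 true, .edge 76 1383 false] [.edge 29 0 false])) (.leaf (.eq 9 17043521 [] [.plain 79 19624005 false]))))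
(.node 2 (.node 1 (.leaf (.eqT 4 19085399 false [.plain 80 17125443 true, .edge 74 486 false] [.edge 60 0 false])) (.leaf (.eq 8 17043521 [] [.plain 81 10643551 false]))) (.node 1 (.leaf .dfn) (.node 1 (.leaf .dfn) (.leaf (.mov 12 17043521 false [.edge 84 0 true])))))))
(.node 8 (.node 4 (.node 2 (.node 1 (.leaf .dfn) (.leaf (.mov 13 17043521 true [.edge 86 0 true]))) (.node 1 (.leaf (.rel 0 30232649 3 [.edge 32 167 false, .edge 62 839 false, .mul, .edge 83 877 false, .mul, .edge 84 40 false, .mul, .edge 86 993 false, .mul])) (.leaf (.eq 13 17043521 [] [.plain 88 17578057 true]))))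
(.node 2 (.node 1 (.leaf (.eqT 0 4544593 true [.plain 89 27531339 true, .edge 87 137 false] [.edge 32 0 false])) (.leaf (.eq 12 17043521 [] [.plain 90 13178965 false]))) (.node 1 (.leaf (.eqT 4 19085399 false [.plain 91 17135695 true, .edge 85 668 false] [.edge 60 0 false])) (.leaf (.eq 11 17043521 [] [.plain 92 19738689 false])))))
(.node 4 (.node 2 (.node 1 (.leaf .dfn) (.leaf (.mov 14 17043521 false [.edge 94 0 true]))) (.node 1 (.leaf (.mov 7 13310023 false [.plain 68 13375575 true, .edge 94 115 false])) (.leaf (.mov 7 23928925 false [.plain 69 23930955 true, .edge 96 569 false]))))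
(.node 2 (.node 1 (.leaf (.mov 7 9056345 false [.plain 68 9384001 true, .edge 97 52 false])) (.leaf (.eqT 7 9056345 false [.plain 71 8605771 true, .edge 97 1303 false] [.edge 98 0 false]))) (.node 1 (.leaf (.eqT 7 9056345 false [.plain 70 8540241 true, .edge 96 390 false] [.edge 98 0 false])) (.node 1 (.leaf (.eqT 7 6776923 false [.plain 71 7288907 true, .edge 96 826 false] [.edge 94 0 false])) (.leaf (.eqT 7 9056345 false [.plain 69 9058385 true, .edge 94 1347 false] [.edge 98 0 false]))))))))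
(.node 17 (.node 8 (.node 4 (.node 2 (.node 1 (.leaf (.eqT 7 23928925 false [.plain 70 24078411 true, .edge 94 260 false] [.edge 97 0 false])) (.leaf (.eqT 7 13310023 false [.plain 71 12867673 true, .edge 94 936 false] [.edge 96 0 false]))) (.node 1 (.leaf (.eq 14 17043521 [] [.plain 104 16988245 false])) (.leaf (.eq 14 17043521 [] [.plain 103 17111107 false]))))
(.node 2 (.node 1 (.leaf (.eq 14 17043521 [] [.plain 102 17197149 false])) (.leaf (.eq 14 17043521 [] [.plain 101 17764421 false]))) (.node 1 (.leaf (.eq 14 17043521 [] [.plain 100 17641549 false])) (.leaf (.eq 14 17043521 [] [.plain 99 17133663 false])))))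
(.node 4 (.node 2 (.node 1 (.leaf .dfn) (.leaf (.mov 15 17043521 false [.edge 111 0 true]))) (.node 1 (.leaf .dfn) (.leaf (.mov 16 17043521 false [.edge 113 0 true]))))
(.node 2 (.node 1 (.leaf (.rel 0 32325697 4 [.edge 43 1338 false, .edge 63 602 false, .mul, .edge 94 889 false, .mul, .edge 111 397 false, .mul, .edge 113 166 false, .mul])) (.leaf (.eq 16 17043521 [] [.plain 115 9254985 true]))) (.node 1 (.leaf (.eqT 0 29904967 false [.plain 116 17459283 true, .edge 114 1326 false] [.edge 2 0 false])) (.node 1 (.leaf (.eq 15 17043521 [] [.plain 117 13387845 false])) (.leaf (.mov 1 7292999 false [.plain 118 17244239 true, .edge 112 1003 false])))))))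
(.node 9 (.node 4 (.node 2 (.node 1 (.leaf (.mov 1 10971209 false [.plain 19 10963039 true, .edge 119 659 false])) (.leaf (.mov 1 31801425 false [.plain 20 32258121 true, .edge 120 798 false]))) (.node 1 (.leaf (.mov 1 32125001 false [.plain 19 32129107 true, .edge 121 1529 false])) (.leaf (.mov 1 6776923 false [.plain 21 6639685 true, .edge 122 13 false]))))
(.node 2 (.node 1 (.leaf (.mov 1 13310023 false [.plain 19 13312085 true, .edge 123 144 false])) (.leaf (.mov 1 27529303 false [.plain 20 27752537 true, .edge 124 1057 false]))) (.node 1 (.leaf (.mov 1 9056345 false [.plain 20 9244739 true, .edge 125 339 false])) (.node 1 (.leaf (.mov 1 23928925 false [.plain 19 23949389 true, .edge 126 832 false])) (.leaf (.mov 1 13510735 false [.plain 20 13244507 true, .edge 127 1053 false]))))))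
(.node 4 (.node 2 (.node 1 (.leaf (.mov 1 4808797 false [.plain 21 4859971 true, .edge 128 101 false])) (.leaf (.mov 1 29904967 false [.plain 21 29823053 true, .edge 125 899 false]))) (.node 1 (.leaf (.eqT 1 9056345 false [.plain 21 9396319 true, .edge 120 1156 false] [.edge 126 0 false])) (.leaf (.eq 14 17043521 [] [.plain 131 21246029 false]))))
(.node 2 (.node 1 (.leaf (.mov 14 7292999 false [.plain 132 17174607 true, .edge 95 1290 false])) (.leaf .dfn)) (.node 1 (.leaf .dfn) (.node 1 (.leaf (.mov 18 17043521 false [.edge 135 0 true])) (.leaf (.rel 1 29958213 0 [.edge 129 1366 false, .mul, .edge 134 1249 false, .mul, .edge 135 923 false, .mul, .mul]))))))))))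

/-- The reasons. -/
def caseDFullSrcLLLLR : Tab Src :=
(.node 69 (.node 34 (.node 17 (.node 8 (.node 4 (.node 2 (.node 1 (.leaf (.eq 18 17043521 [] [.plain 137 19341381 true])) (.leaf (.eqT 1 29904967 false [.plain 138 17641553 true, .edge 136 737 false] [.edge 130 0 false]))) (.node 1 (.leaf (.eq 17 17043521 [] [.plain 139 19216457 false])) (.leaf .dfn)))
(.node 2 (.node 1 (.leaf (.mov 19 17043521 true [.edge 141 0 true])) (.leaf (.mov 1 13510735 true [.plain 19 13504603 true, .edge 141 1126 false]))) (.node 1 (.leaf (.mov 1 13310023 true [.plain 19 13312085 true, .edge 143 931 false])) (.leaf (.mov 1 32131155 true [.plain 19 32127063 true, .edge 144 711 false])))))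
(.node 4 (.node 2 (.node 1 (.leaf (.mov 1 29904967 true [.plain 20 29564993 true, .edge 145 838 false])) (.leaf (.mov 1 4808797 true [.plain 19 4814933 true, .edge 146 1332 false]))) (.node 1 (.leaf (.mov 1 4544593 true [.plain 19 4538447 true, .edge 147 866 false])) (.leaf (.mov 1 31801425 true [.plain 19 31797321 true, .edge 148 869 false]))))
(.node 2 (.node 1 (.leaf (.eqT 1 31801425 true [.plain 21 32204893 true, .edge 143 316 false] [.edge 149 0 false])) (.leaf (.eqT 1 13510735 true [.plain 20 13244507 true, .edge 141 43 false] [.edge 143 0 false]))) (.node 1 (.leaf (.eqT 1 4544593 true [.plain 21 4616257 true, .edge 141 945 false] [.edge 148 0 false])) (.node 1 (.leaf (.eq 19 17043521 [] [.plain 152 11040851 false])) (.leaf (.eq 19 17043521 [] [.plain 151 9244737 false])))))))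
(.node 8 (.node 4 (.node 2 (.node 1 (.leaf (.eq 19 17043521 [] [.plain 150 11032643 false])) (.leaf .dfn)) (.node 1 (.leaf .dfn) (.leaf (.mov 21 17043521 true [.edge 157 0 true]))))
(.node 2 (.node 1 (.leaf (.rel 1 6715481 1 [.edge 141 343 false, .mul, .edge 156 1456 false, .mul, .edge 157 222 false, .mul, .mul])) (.leaf (.eq 21 17043521 [] [.plain 159 9252933 true]))) (.node 1 (.leaf (.eqT 1 13310023 true [.plain 160 9007185 true, .edge 158 266 false] [.edge 144 0 false])) (.leaf (.eq 20 17043521 [] [.plain 161 25522255 false])))))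
(.node 4 (.node 2 (.node 1 (.leaf .dfn) (.leaf (.mov 22 17043521 true [.edge 163 0 true]))) (.node 1 (.leaf (.mov 1 17043521 true [.plain 20 17256527 true, .edge 163 1505 false])) (.leaf (.mov 1 17059919 true [.plain 19 17045585 true, .edge 165 317 false]))))
(.node 2 (.node 1 (.leaf (.mov 1 25385043 true [.plain 20 25770049 true, .edge 165 1067 false])) (.leaf (.mov 1 10971209 true [.plain 21 10702939 true, .edge 167 1305 false]))) (.node 1 (.leaf (.mov 1 11495495 true [.plain 19 11487297 true, .edge 168 1498 false])) (.node 1 (.leaf (.eqT 1 17059919 true [.plain 21 17657929 true, .edge 165 899 false] [.edge 166 0 false])) (.leaf (.eqT 1 11495495 true [.plain 21 11210837 true, .edge 163 1139 false] [.edge 169 0 false]))))))))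
(.node 17 (.node 8 (.node 4 (.node 2 (.node 1 (.leaf (.eq 22 17043521 [] [.plain 171 25516113 false])) (.leaf (.eq 22 17043521 [] [.plain 170 19216449 false]))) (.node 1 (.leaf .dfn) (.leaf (.mov 25 17043521 false [.edge 174 0 true]))))
(.node 2 (.node 1 (.leaf (.mov 19 4808797 false [.plain 153 23228505 true, .edge 174 667 false])) (.leaf (.mov 19 19085399 false [.plain 153 21590085 true, .edge 176 276 false]))) (.node 1 (.leaf (.mov 19 17043521 false [.plain 154 19683411 true, .edge 177 174 false])) (.leaf (.mov 19 13510735 false [.plain 153 17176643 true, .edge 178 1424 false])))))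
(.node 4 (.node 2 (.node 1 (.leaf (.mov 19 29904967 false [.plain 153 13508699 true, .edge 179 126 false])) (.leaf (.eqT 19 27529303 false [.plain 154 25784399 true, .edge 176 934 false] [.edge 174 0 false]))) (.node 1 (.leaf (.eqT 19 19085399 false [.plain 155 21585989 true, .edge 176 871 false] [.edge 177 0 false])) (.leaf (.eqT 19 29904967 false [.plain 154 31860825 true, .edge 174 252 false] [.edge 180 0 false]))))
(.node 2 (.node 1 (.leaf (.eqT 19 4808797 false [.plain 155 23212121 true, .edge 174 908 false] [.edge 176 0 false])) (.leaf (.eq 25 17043521 [] [.plain 184 16937053 false]))) (.node 1 (.leaf (.eq 25 17043521 [] [.plain 183 17246273 false])) (.node 1 (.leaf (.eq 25 17043521 [] [.plain 182 17510469 false])) (.leaf (.eq 25 17043521 [] [.plain 181 17109057 false])))))))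
(.node 9 (.node 4 (.node 2 (.node 1 (.leaf .dfn) (.leaf .dfn)) (.node 1 (.leaf (.mov 27 17043521 false [.edge 190 0 true])) (.leaf .dfn)))
(.node 2 (.node 1 (.leaf (.mov 28 17043521 true [.edge 192 0 true])) (.leaf (.rel 1 21768259 2 [.edge 149 985 false, .edge 174 1403 false, .mul, .edge 189 157 false, .mul, .edge 190 443 false, .mul, .edge 192 662 false, .mul]))) (.node 1 (.leaf (.eq 28 17043521 [] [.plain 194 25524319 true])) (.node 1 (.leaf (.eqT 1 4808797 true [.plain 195 17569875 true, .edge 193 1088 false] [.edge 147 0 false])) (.leaf (.eq 27 17043521 [] [.plain 196 21194821 false]))))))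
(.node 4 (.node 2 (.node 1 (.leaf (.eqT 19 27529303 false [.plain 197 17457237 true, .edge 191 1530 false] [.edge 174 0 false])) (.leaf (.eq 26 17043521 [] [.plain 198 10645577 false]))) (.node 1 (.leaf .dfn) (.leaf (.mov 22 4808797 false [.plain 172 4743259 true, .edge 200 807 false]))))
(.node 2 (.node 1 (.leaf (.mov 22 27529303 false [.plain 173 27875421 true, .edge 201 728 false])) (.leaf (.mov 22 13510735 false [.plain 172 13576257 true, .edge 202 986 false]))) (.node 1 (.leaf .dfn) (.node 1 (.leaf .dfn) (.leaf (.mov 31 17043521 false [.edge 205 0 true])))))))))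
(.node 35 (.node 17 (.node 8 (.node 4 (.node 2 (.node 1 (.leaf .dfn) (.leaf (.mov 32 17043521 true [.edge 207 0 true]))) (.node 1 (.leaf (.rel 1 9332825 2 [.edge 168 960 false, .edge 200 1519 false, .mul, .edge 204 558 false, .mul, .edge 205 339 false, .mul, .edge 207 529 false, .mul])) (.leaf (.eq 32 17043521 [] [.plain 209 19675221 true]))))
(.node 2 (.node 1 (.leaf (.eqT 1 11495495 true [.plain 210 17659985 true, .edge 208 574 false] [.edge 169 0 false])) (.leaf (.eq 31 17043521 [] [.plain 211 19802197 false]))) (.node 1 (.leaf (.eqT 22 13510735 false [.plain 212 16984151 true, .edge 206 526 false] [.edge 203 0 false])) (.leaf (.eq 30 17043521 [] [.plain 213 17592397 false])))))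
(.node 4 (.node 2 (.node 1 (.leaf .dfn) (.leaf .dfn)) (.node 1 (.leaf (.mov 34 17043521 false [.edge 216 0 true])) (.leaf .dfn)))
(.node 2 (.node 1 (.leaf (.mov 35 17043521 true [.edge 218 0 true])) (.leaf (.rel 1 11366487 3 [.edge 166 1439 false, .edge 203 989 false, .mul, .edge 215 536 false, .mul, .edge 216 1052 false, .mul, .edge 218 293 false, .mul]))) (.node 1 (.leaf (.eq 35 17043521 [] [.plain 220 19748937 true])) (.node 1 (.leaf (.eqT 1 17059919 true [.plain 221 27596865 true, .edge 219 50 false] [.edge 166 0 false])) (.leaf (.eq 34 17043521 [] [.plain 222 11030601 false])))))))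
(.node 9 (.node 4 (.node 2 (.node 1 (.leaf (.eqT 22 27529303 false [.plain 223 17651783 true, .edge 217 975 false] [.edge 202 0 false])) (.leaf (.eq 33 17043521 [] [.plain 224 19867729 false]))) (.node 1 (.leaf .dfn) (.leaf .dfn)))
(.node 2 (.node 1 (.leaf (.mov 37 17043521 false [.edge 227 0 true])) (.leaf .dfn)) (.node 1 (.leaf (.mov 38 17043521 true [.edge 229 0 true])) (.node 1 (.leaf (.rel 1 32057427 3 [.edge 149 997 false, .edge 180 304 false, .mul, .edge 226 511 false, .mul, .edge 227 66 false, .mul, .edge 229 236 false, .mul])) (.leaf (.eq 38 17043521 [] [.plain 231 17117257 true]))))))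
(.node 4 (.node 2 (.node 1 (.leaf (.eqT 1 31801425 true [.plain 232 8935499 true, .edge 230 19 false] [.edge 149 0 false])) (.leaf (.eq 37 17043521 [] [.plain 233 29761625 false]))) (.node 1 (.leaf (.eqT 19 4808797 false [.plain 234 17578067 true, .edge 228 1096 false] [.edge 176 0 false])) (.leaf (.eq 36 17043521 [] [.plain 235 19675227 false]))))
(.node 2 (.node 1 (.leaf .dfn) (.leaf (.mov 39 17043521 false [.edge 237 0 true]))) (.node 1 (.leaf .dfn) (.node 1 (.leaf (.mov 40 17043521 false [.edge 239 0 true])) (.leaf .dfn)))))))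
(.node 17 (.node 8 (.node 4 (.node 2 (.node 1 (.leaf (.mov 41 17043521 false [.edge 241 0 true])) (.leaf .dfn)) (.node 1 (.leaf (.mov 42 17043521 false [.edge 243 0 true])) (.leaf (.rel 1 17576011 4 [.edge 165 443 false, .edge 237 992 false, .mul, .edge 239 415 false, .mul, .edge 241 111 false, .mul, .edge 243 419 false, .mul]))))
(.node 2 (.node 1 (.leaf (.eq 42 17043521 [] [.plain 245 25522245 true])) (.leaf (.eqT 1 4808797 false [.plain 246 17442883 true, .edge 244 1388 false] [.edge 129 0 false]))) (.node 1 (.leaf (.eq 41 17043521 [] [.plain 247 9332813 false])) (.leaf (.eqT 14 7292999 false [.plain 248 17444935 true, .edge 242 1367 false] [.edge 133 0 false])))))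
(.node 4 (.node 2 (.node 1 (.leaf (.eq 40 17043521 [] [.plain 249 12863575 false])) (.leaf (.eqT 7 17043521 false [.plain 250 17506377 true, .edge 240 200 false] [.edge 58 0 false]))) (.node 1 (.leaf (.eq 39 17043521 [] [.plain 251 21506143 false])) (.leaf (.eqT 4 4808797 false [.plain 252 17174601 true, .edge 238 1410 false] [.edge 61 0 false]))))
(.node 2 (.node 1 (.leaf (.eq 22 17043521 [] [.plain 253 19081287 false])) (.leaf (.mov 7 19085399 true [.plain 254 17051729 true, .edge 164 1223 false]))) (.node 1 (.leaf (.eqT 7 6776923 false [.plain 254 4874325 true, .edge 203 278 false] [.edge 94 0 false])) (.node 1 (.leaf (.eq 29 17043521 [] [.plain 256 17180741 false])) (.leaf (.mov 14 11495495 true [.plain 257 11278401 true, .edge 204 1289 false])))))))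
(.node 9 (.node 4 (.node 2 (.node 1 (.leaf (.mov 14 10971209 true [.plain 132 25829461 true, .edge 258 957 false])) (.leaf (.mov 14 19085399 false [.plain 257 19277917 true, .edge 215 704 false]))) (.node 1 (.leaf (.mov 14 31801425 false [.plain 132 19755095 true, .edge 260 282 false])) (.leaf .dfn)))
(.node 2 (.node 1 (.leaf (.mov 43 17043521 false [.edge 262 0 true])) (.leaf (.mov 25 6776923 false [.plain 186 6580315 true, .edge 262 500 false]))) (.node 1 (.leaf (.mov 25 9056345 false [.plain 188 9121881 true, .edge 264 793 false])) (.node 1 (.leaf (.mov 25 13310023 false [.plain 186 13441095 true, .edge 265 1385 false])) (.leaf (.eqT 25 13310023 false [.plain 187 12734555 true, .edge 266 1217 false] [.edge 266 0 false]))))))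
(.node 4 (.node 2 (.node 1 (.leaf (.eqT 25 9056345 false [.plain 187 8869961 true, .edge 265 1101 false] [.edge 265 0 false])) (.leaf (.eqT 25 23928925 false [.plain 187 23421017 true, .edge 262 1054 false] [.edge 262 0 false]))) (.node 1 (.leaf (.eq 43 17043521 [] [.plain 269 17567831 false])) (.leaf (.eq 43 17043521 [] [.plain 268 17643599 false]))))
(.node 2 (.node 1 (.leaf (.eq 43 17043521 [] [.plain 267 16939073 false])) (.leaf .dfn)) (.node 1 (.leaf (.mov 44 17043521 false [.edge 273 0 true])) (.node 1 (.leaf .dfn) (.leaf (.mov 45 17043521 false [.edge 275 0 true]))))))))))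

/-- The reasons. -/
def caseDFullSrcLLLL : Tab Src := .node 138 caseDFullSrcLLLLL caseDFullSrcLLLLR

/-- The reasons. -/
def caseDFullSrcLLLRL : Tab Src :=
(.node 69 (.node 34 (.node 17 (.node 8 (.node 4 (.node 2 (.node 1 (.leaf (.rel 1 23939157 4 [.edge 147 1513 false, .edge 178 1075 false, .mul, .edge 262 265 false, .mul, .edge 273 1184 false, .mul, .edge 275 821 false, .mul])) (.leaf (.eq 45 17043521 [] [.plain 277 15605835 true]))) (.node 1 (.leaf (.eqT 1 29904967 false [.plain 278 17068115 true, .edge 276 1393 false] [.edge 130 0 false])) (.leaf (.eq 44 17043521 [] [.plain 279 27476061 false]))))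
(.node 2 (.node 1 (.leaf (.mov 14 29904967 false [.plain 280 17657935 true, .edge 274 634 false])) (.leaf (.mov 14 13510735 false [.plain 105 13117515 true, .edge 281 1434 false]))) (.node 1 (.leaf (.mov 14 27529303 false [.plain 106 27594839 true, .edge 282 609 false])) (.leaf (.mov 14 4808797 false [.plain 105 4939843 true, .edge 283 1512 false])))))
(.node 4 (.node 2 (.node 1 (.leaf (.mov 14 9056345 false [.plain 108 8990805 true, .edge 284 807 false])) (.leaf (.mov 14 13310023 false [.plain 105 13441103 true, .edge 285 585 false]))) (.node 1 (.leaf (.mov 14 23928925 false [.plain 106 23863389 true, .edge 286 244 false])) (.leaf (.mov 14 6776923 false [.plain 105 6580293 true, .edge 287 1243 false]))))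
(.node 2 (.node 1 (.leaf (.eqT 14 9056345 false [.plain 110 8925273 true, .edge 281 345 false] [.edge 285 0 false])) (.leaf (.eq 43 17043521 [] [.plain 289 23466051 false]))) (.node 1 (.leaf (.mov 43 31801425 false [.plain 290 16939081 true, .edge 263 626 false])) (.node 1 (.leaf .dfn) (.leaf (.mov 46 17043521 false [.edge 292 0 true])))))))
(.node 8 (.node 4 (.node 2 (.node 1 (.leaf (.mov 4 13310023 false [.plain 48 27928651 true, .edge 292 1096 false])) (.leaf (.mov 4 23928925 false [.plain 47 27922515 true, .edge 294 1246 false]))) (.node 1 (.leaf (.mov 4 9056345 false [.plain 48 30085201 true, .edge 295 776 false])) (.leaf (.mov 4 7292999 false [.plain 47 31598685 true, .edge 296 741 false]))))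
(.node 2 (.node 1 (.leaf (.mov 4 6776923 false [.plain 47 14829649 true, .edge 297 73 false])) (.leaf (.mov 4 31801425 false [.plain 47 11407431 true, .edge 298 1040 false]))) (.node 1 (.leaf (.mov 4 32125001 false [.plain 49 9060447 true, .edge 299 1279 false])) (.leaf (.eqT 4 31801425 false [.plain 49 23408729 true, .edge 296 1304 false] [.edge 299 0 false])))))
(.node 4 (.node 2 (.node 1 (.leaf (.eqT 4 6776923 false [.plain 48 8810589 true, .edge 294 1287 false] [.edge 298 0 false])) (.leaf (.eqT 4 6776923 false [.plain 49 10975319 true, .edge 294 887 false] [.edge 298 0 false]))) (.node 1 (.leaf (.eqT 4 13310023 false [.plain 49 25894995 true, .edge 292 863 false] [.edge 294 0 false])) (.leaf (.eq 46 17043521 [] [.plain 304 17442893 false]))))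
(.node 2 (.node 1 (.leaf (.eq 46 17043521 [] [.plain 303 17135701 false])) (.leaf (.eq 46 17043521 [] [.plain 302 17051713 false]))) (.node 1 (.leaf (.eq 46 17043521 [] [.plain 301 17070173 false])) (.node 1 (.leaf .dfn) (.leaf .dfn)))))))
(.node 17 (.node 8 (.node 4 (.node 2 (.node 1 (.leaf (.mov 48 17043521 false [.edge 310 0 true])) (.leaf (.rel 4 7297111 0 [.edge 292 1060 false, .mul, .edge 309 545 false, .mul, .edge 310 346 false, .mul, .mul]))) (.node 1 (.leaf (.eq 48 17043521 [] [.plain 312 19085389 true])) (.leaf (.eqT 4 32125001 false [.plain 313 16935003 true, .edge 311 810 false] [.edge 300 0 false]))))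
(.node 2 (.node 1 (.leaf (.eq 47 17043521 [] [.plain 314 19355715 false])) (.leaf .dfn)) (.node 1 (.leaf (.mov 49 17043521 true [.edge 316 0 true])) (.leaf (.mov 4 11495495 true [.plain 48 21905485 true, .edge 316 1339 false])))))
(.node 4 (.node 2 (.node 1 (.leaf (.mov 4 4544593 true [.plain 47 10707037 true, .edge 318 804 false])) (.leaf (.mov 4 4808797 true [.plain 48 23621721 true, .edge 319 547 false]))) (.node 1 (.leaf (.mov 4 25385043 true [.plain 47 7151695 true, .edge 320 418 false])) (.leaf (.mov 4 29904967 true [.plain 49 15214677 true, .edge 320 656 false]))))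
(.node 2 (.node 1 (.leaf (.mov 4 10971209 true [.plain 47 14973007 true, .edge 322 92 false])) (.leaf (.mov 4 13310023 true [.plain 48 27928651 true, .edge 323 651 false]))) (.node 1 (.leaf (.mov 4 19085399 true [.plain 48 21131333 true, .edge 324 11 false])) (.node 1 (.leaf (.mov 4 31801425 true [.plain 47 11407431 true, .edge 325 1203 false])) (.leaf (.mov 4 32131155 true [.plain 48 11219021 true, .edge 325 1376 false])))))))
(.node 9 (.node 4 (.node 2 (.node 1 (.leaf (.eqT 4 4808797 true [.plain 49 21592141 true, .edge 322 1471 false] [.edge 320 0 false])) (.leaf (.mov 4 32125001 true [.plain 48 11225175 true, .edge 318 1146 false]))) (.node 1 (.leaf (.eqT 4 25385043 true [.plain 48 31602763 true, .edge 329 943 false] [.edge 321 0 false])) (.leaf (.eqT 4 32125001 true [.plain 49 9060447 true, .edge 318 401 false] [.edge 329 0 false]))))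
(.node 2 (.node 1 (.leaf (.eqT 4 10971209 true [.plain 49 6768709 true, .edge 316 673 false] [.edge 323 0 false])) (.leaf (.eq 49 17043521 [] [.plain 332 27529299 false]))) (.node 1 (.leaf (.eq 49 17043521 [] [.plain 331 11360345 false])) (.node 1 (.leaf (.eq 49 17043521 [] [.plain 330 11090001 false])) (.leaf (.eq 49 17043521 [] [.plain 328 19675225 false]))))))
(.node 4 (.node 2 (.node 1 (.leaf .dfn) (.leaf .dfn)) (.node 1 (.leaf (.mov 51 17043521 true [.edge 338 0 true])) (.leaf (.rel 4 31926359 1 [.edge 316 1375 false, .mul, .edge 337 1223 false, .mul, .edge 338 1015 false, .mul, .mul]))))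
(.node 2 (.node 1 (.leaf (.eq 51 17043521 [] [.plain 340 17649749 true])) (.leaf (.eqT 4 32131155 true [.plain 341 11284571 true, .edge 339 1392 false] [.edge 327 0 false]))) (.node 1 (.leaf (.eq 50 17043521 [] [.plain 342 9203781 false])) (.node 1 (.leaf .dfn) (.leaf (.mov 52 17043521 false [.edge 344 0 true])))))))))
(.node 35 (.node 17 (.node 8 (.node 4 (.node 2 (.node 1 (.leaf (.mov 49 4808797 false [.plain 333 4943963 true, .edge 344 382 false])) (.leaf (.mov 49 29904967 false [.plain 334 32057413 true, .edge 346 58 false]))) (.node 1 (.leaf (.mov 49 13510735 false [.plain 333 13113409 true, .edge 347 1156 false])) (.leaf (.eqT 49 27529303 false [.plain 334 25522261 true, .edge 344 1026 false] [.edge 344 0 false]))))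
(.node 2 (.node 1 (.leaf (.eqT 49 29904967 false [.plain 335 31873095 true, .edge 344 700 false] [.edge 347 0 false])) (.leaf (.eqT 49 29904967 false [.plain 336 29839449 true, .edge 344 800 false] [.edge 347 0 false]))) (.node 1 (.leaf (.eq 52 17043521 [] [.plain 351 17780829 false])) (.leaf (.eq 52 17043521 [] [.plain 350 17258563 false])))))
(.node 4 (.node 2 (.node 1 (.leaf (.eq 52 17043521 [] [.plain 349 17000541 false])) (.leaf .dfn)) (.node 1 (.leaf .dfn) (.leaf (.mov 54 17043521 false [.edge 356 0 true]))))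
(.node 2 (.node 1 (.leaf .dfn) (.leaf (.mov 55 17043521 true [.edge 358 0 true]))) (.node 1 (.leaf (.rel 4 11487299 2 [.edge 323 1487 false, .edge 344 40 false, .mul, .edge 355 226 false, .mul, .edge 356 1299 false, .mul, .edge 358 1156 false, .mul])) (.node 1 (.leaf (.eq 55 17043521 [] [.plain 360 25516119 true])) (.leaf (.eqT 4 11495495 true [.plain 361 19230793 true, .edge 359 1029 false] [.edge 318 0 false])))))))
(.node 9 (.node 4 (.node 2 (.node 1 (.leaf (.eq 54 17043521 [] [.plain 362 23668821 false])) (.leaf (.eqT 49 29904967 false [.plain 363 16939099 true, .edge 357 688 false] [.edge 347 0 false]))) (.node 1 (.leaf (.eq 53 17043521 [] [.plain 364 11032667 false])) (.leaf .dfn)))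
(.node 2 (.node 1 (.leaf (.mov 49 19085399 false [.plain 334 16939093 true, .edge 366 682 false])) (.leaf (.eqT 49 19085399 false [.plain 333 19558471 true, .edge 367 230 false] [.edge 367 0 false]))) (.node 1 (.leaf (.eqT 49 17043521 false [.plain 334 19224643 true, .edge 367 420 false] [.edge 366 0 false])) (.node 1 (.leaf (.eqT 49 17043521 false [.plain 335 19667009 true, .edge 367 75 false] [.edge 366 0 false])) (.leaf (.eqT 49 19085399 false [.plain 336 19609671 true, .edge 367 1244 false] [.edge 367 0 false]))))))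
(.node 4 (.node 2 (.node 1 (.leaf (.eqT 49 19085399 false [.plain 335 17444951 true, .edge 366 1533 false] [.edge 367 0 false])) (.leaf (.eqT 49 17043521 false [.plain 336 17633363 true, .edge 366 996 false] [.edge 366 0 false]))) (.node 1 (.leaf (.eq 56 17043521 [] [.plain 373 17633363 false])) (.leaf (.eq 56 17043521 [] [.plain 372 16939101 false]))))
(.node 2 (.node 1 (.leaf (.eq 56 17043521 [] [.plain 371 17528911 false])) (.leaf (.eq 56 17043521 [] [.plain 370 17061969 false]))) (.node 1 (.leaf (.eq 56 17043521 [] [.plain 369 17584193 false])) (.node 1 (.leaf (.eq 56 17043521 [] [.plain 368 16922719 false])) (.leaf .dfn)))))))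
(.node 17 (.node 8 (.node 4 (.node 2 (.node 1 (.leaf .dfn) (.leaf (.mov 61 17043521 false [.edge 381 0 true]))) (.node 1 (.leaf .dfn) (.leaf (.mov 62 17043521 true [.edge 383 0 true]))))
(.node 2 (.node 1 (.leaf (.rel 4 6778961 3 [.edge 329 1254 false, .edge 344 1340 false, .mul, .edge 380 108 false, .mul, .edge 381 1203 false, .mul, .edge 383 466 false, .mul])) (.leaf (.eq 62 17043521 [] [.plain 385 17068099 true]))) (.node 1 (.leaf (.eqT 4 32125001 true [.plain 386 27603025 true, .edge 384 403 false] [.edge 329 0 false])) (.leaf (.eq 61 17043521 [] [.plain 387 15292491 false])))))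
(.node 4 (.node 2 (.node 1 (.leaf (.eqT 49 13510735 false [.plain 388 16935003 true, .edge 382 810 false] [.edge 348 0 false])) (.leaf (.eq 60 17043521 [] [.plain 389 19355715 false]))) (.node 1 (.leaf .dfn) (.leaf (.mov 66 17043521 false [.edge 391 0 true]))))
(.node 2 (.node 1 (.leaf (.mov 52 9056345 false [.plain 352 9318489 true, .edge 391 1352 false])) (.leaf (.eqT 52 9056345 false [.plain 353 9123907 true, .edge 393 425 false] [.edge 393 0 false]))) (.node 1 (.leaf (.eqT 52 13310023 false [.plain 354 12865623 true, .edge 393 934 false] [.edge 391 0 false])) (.node 1 (.leaf (.eqT 52 13310023 false [.plain 353 13242453 true, .edge 391 941 false] [.edge 391 0 false])) (.leaf (.eqT 52 9056345 false [.plain 354 8607809 true, .edge 391 755 false] [.edge 393 0 false])))))))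
(.node 9 (.node 4 (.node 2 (.node 1 (.leaf (.eq 66 17043521 [] [.plain 397 17766487 false])) (.leaf (.eq 66 17043521 [] [.plain 396 17059907 false]))) (.node 1 (.leaf (.eq 66 17043521 [] [.plain 395 17061969 false])) (.leaf (.eq 66 17043521 [] [.plain 394 17512533 false]))))
(.node 2 (.node 1 (.leaf .dfn) (.leaf (.mov 67 17043521 false [.edge 402 0 true]))) (.node 1 (.leaf .dfn) (.node 1 (.leaf (.mov 68 17043521 false [.edge 404 0 true])) (.leaf (.rel 4 21774427 4 [.edge 326 957 false, .edge 346 1013 false, .mul, .edge 391 1027 false, .mul, .edge 402 413 false, .mul, .edge 404 740 false, .mul]))))))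
(.node 4 (.node 2 (.node 1 (.leaf (.eq 68 17043521 [] [.plain 406 15624273 true])) (.leaf (.eqT 4 4808797 false [.plain 407 17256541 true, .edge 405 791 false] [.edge 61 0 false]))) (.node 1 (.leaf (.eq 67 17043521 [] [.plain 408 29579349 false])) (.leaf (.mov 7 4808797 false [.plain 409 17262685 true, .edge 403 120 false]))))
(.node 2 (.node 1 (.leaf (.mov 7 13510735 false [.plain 68 13183065 true, .edge 410 73 false])) (.leaf (.mov 7 31801425 false [.plain 70 31926351 true, .edge 411 1151 false]))) (.node 1 (.leaf (.mov 7 7292999 false [.plain 69 7290945 true, .edge 412 807 false])) (.node 1 (.leaf (.mov 7 29904967 false [.plain 70 29638747 true, .edge 412 2 false])) (.leaf (.mov 7 27529303 false [.plain 68 27791451 true, .edge 414 953 false]))))))))))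

/-- The reasons. -/
def caseDFullSrcLLLRR : Tab Src :=
(.node 69 (.node 34 (.node 17 (.node 8 (.node 4 (.node 2 (.node 1 (.leaf (.mov 7 10971209 false [.plain 70 11024451 true, .edge 414 347 false])) (.leaf (.mov 7 32125001 false [.plain 69 32127063 true, .edge 416 794 false]))) (.node 1 (.leaf (.eqT 7 32125001 false [.plain 70 32067671 true, .edge 410 1014 false] [.edge 417 0 false])) (.leaf (.eq 66 17043521 [] [.plain 418 27529307 false]))))
(.node 2 (.node 1 (.leaf (.mov 66 29904967 false [.plain 419 17700931 true, .edge 392 485 false])) (.leaf .dfn)) (.node 1 (.leaf (.mov 69 17043521 false [.edge 421 0 true])) (.leaf (.mov 52 23928925 false [.plain 352 23470173 true, .edge 421 906 false])))))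
(.node 4 (.node 2 (.node 1 (.leaf (.eqT 52 23928925 false [.plain 353 23865421 true, .edge 423 955 false] [.edge 423 0 false])) (.leaf (.eqT 52 6776923 false [.plain 354 7286863 true, .edge 423 363 false] [.edge 421 0 false]))) (.node 1 (.leaf (.eqT 52 6776923 false [.plain 353 6709325 true, .edge 421 919 false] [.edge 421 0 false])) (.leaf (.eqT 52 23928925 false [.plain 354 24010831 true, .edge 421 281 false] [.edge 423 0 false]))))
(.node 2 (.node 1 (.leaf (.eq 69 17043521 [] [.plain 427 17045573 false])) (.leaf (.eq 69 17043521 [] [.plain 426 17109079 false]))) (.node 1 (.leaf (.eq 69 17043521 [] [.plain 425 17698883 false])) (.node 1 (.leaf (.eq 69 17043521 [] [.plain 424 17635399 false])) (.leaf .dfn))))))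
(.node 8 (.node 4 (.node 2 (.node 1 (.leaf (.mov 70 17043521 false [.edge 432 0 true])) (.leaf .dfn)) (.node 1 (.leaf (.mov 71 17043521 false [.edge 434 0 true])) (.leaf (.rel 4 4608065 4 [.edge 329 785 false, .edge 346 96 false, .mul, .edge 421 326 false, .mul, .edge 432 247 false, .mul, .edge 434 829 false, .mul]))))
(.node 2 (.node 1 (.leaf (.eq 71 17043521 [] [.plain 436 9261137 true])) (.leaf (.eqT 4 23928925 false [.plain 437 17766477 true, .edge 435 1191 false] [.edge 295 0 false]))) (.node 1 (.leaf (.eq 70 17043521 [] [.plain 438 13117529 false])) (.leaf (.mov 46 9056345 false [.plain 439 17782851 true, .edge 433 60 false])))))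
(.node 4 (.node 2 (.node 1 (.leaf (.mov 46 13310023 false [.plain 305 13246555 true, .edge 440 1027 false])) (.leaf (.mov 46 6776923 false [.plain 306 7221331 true, .edge 441 272 false]))) (.node 1 (.leaf (.mov 46 23928925 false [.plain 305 23883865 true, .edge 442 369 false])) (.leaf (.mov 46 29904967 false [.plain 308 30021705 true, .edge 443 94 false]))))
(.node 2 (.node 1 (.leaf (.mov 46 4808797 false [.plain 305 4749395 true, .edge 444 575 false])) (.leaf (.mov 46 32125001 false [.plain 306 32069699 true, .edge 445 1042 false]))) (.node 1 (.leaf (.mov 46 31801425 false [.plain 305 31731797 true, .edge 446 796 false])) (.node 1 (.leaf (.mov 46 27529303 false [.plain 307 28196949 true, .edge 447 390 false])) (.leaf (.mov 46 13510735 false [.plain 305 13570133 true, .edge 448 228 false]))))))))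
(.node 17 (.node 8 (.node 4 (.node 2 (.node 1 (.leaf (.mov 46 7292999 false [.plain 307 7039045 true, .edge 449 474 false])) (.leaf (.mov 46 10971209 false [.plain 305 10897495 true, .edge 450 1399 false]))) (.node 1 (.leaf .dfn) (.leaf .dfn)))
(.node 2 (.node 1 (.leaf (.mov 73 17043521 false [.edge 453 0 true])) (.leaf (.rel 7 4603993 0 [.edge 412 843 false, .mul, .edge 452 1145 false, .mul, .edge 453 644 false, .mul, .mul]))) (.node 1 (.leaf (.eq 73 17043521 [] [.plain 455 19208265 true])) (.leaf (.eqT 7 7292999 false [.plain 456 17633367 true, .edge 454 1008 false] [.edge 413 0 false])))))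
(.node 4 (.node 2 (.node 1 (.leaf (.eq 72 17043521 [] [.plain 457 19359811 false])) (.leaf .dfn)) (.node 1 (.leaf (.mov 7 4544593 true [.plain 68 4610125 true, .edge 459 1135 false])) (.leaf (.mov 7 32125001 true [.plain 68 31731793 true, .edge 460 637 false]))))
(.node 2 (.node 1 (.leaf (.mov 7 29904967 true [.plain 68 29839427 true, .edge 461 1055 false])) (.leaf (.mov 7 13510735 true [.plain 70 12808259 true, .edge 461 646 false]))) (.node 1 (.leaf (.mov 7 4808797 true [.plain 68 4874327 true, .edge 463 574 false])) (.node 1 (.leaf (.mov 7 32131155 true [.plain 68 31737941 true, .edge 464 1468 false])) (.leaf (.mov 7 31801425 true [.plain 68 32194635 true, .edge 465 449 false])))))))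
(.node 9 (.node 4 (.node 2 (.node 1 (.leaf (.eqT 7 13310023 true [.plain 71 12867673 true, .edge 460 1352 false] [.edge 459 0 false])) (.leaf (.eqT 7 32125001 true [.plain 69 32127063 true, .edge 459 711 false] [.edge 461 0 false]))) (.node 1 (.leaf (.eqT 7 13510735 true [.plain 71 12742743 true, .edge 459 980 false] [.edge 463 0 false])) (.leaf (.eq 74 17043521 [] [.plain 469 25770075 false]))))
(.node 2 (.node 1 (.leaf (.eq 74 17043521 [] [.plain 468 25712707 false])) (.leaf (.eq 74 17043521 [] [.plain 467 17584209 false]))) (.node 1 (.leaf .dfn) (.node 1 (.leaf (.mov 74 19085399 false [.plain 470 16937045 true, .edge 473 314 false])) (.leaf (.eqT 74 17043521 false [.plain 470 19222595 true, .edge 474 512 false] [.edge 473 0 false]))))))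
(.node 4 (.node 2 (.node 1 (.leaf (.eqT 74 19085399 false [.plain 472 19558469 true, .edge 474 49 false] [.edge 474 0 false])) (.leaf (.eqT 74 19085399 false [.plain 471 16988247 true, .edge 473 1469 false] [.edge 474 0 false]))) (.node 1 (.leaf (.eqT 74 17043521 false [.plain 472 17584209 true, .edge 473 857 false] [.edge 473 0 false])) (.leaf (.eq 77 17043521 [] [.plain 478 17045571 false]))))
(.node 2 (.node 1 (.leaf (.eq 77 17043521 [] [.plain 477 17444943 false])) (.leaf (.eq 77 17043521 [] [.plain 476 17446991 false]))) (.node 1 (.leaf (.eq 77 17043521 [] [.plain 475 17584193 false])) (.node 1 (.leaf .dfn) (.leaf (.mov 84 17043521 false [.edge 483 0 true])))))))))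
(.node 35 (.node 17 (.node 8 (.node 4 (.node 2 (.node 1 (.leaf (.mov 74 13510735 false [.plain 471 15607887 true, .edge 483 845 false])) (.leaf (.mov 74 29904967 false [.plain 472 29761627 true, .edge 485 241 false]))) (.node 1 (.leaf (.mov 74 4808797 false [.plain 470 6844511 true, .edge 486 737 false])) (.leaf (.eqT 74 29904967 false [.plain 471 32002119 true, .edge 486 409 false] [.edge 486 0 false]))))
(.node 2 (.node 1 (.leaf (.eqT 74 4808797 false [.plain 472 4943961 true, .edge 483 80 false] [.edge 487 0 false])) (.leaf (.eq 84 17043521 [] [.plain 489 16988237 false]))) (.node 1 (.leaf (.eq 84 17043521 [] [.plain 488 17786945 false])) (.leaf .dfn))))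
(.node 4 (.node 2 (.node 1 (.leaf .dfn) (.leaf (.mov 86 17043521 false [.edge 493 0 true]))) (.node 1 (.leaf .dfn) (.leaf (.mov 87 17043521 true [.edge 495 0 true]))))
(.node 2 (.node 1 (.leaf (.rel 7 7163973 3 [.edge 462 437 false, .edge 483 826 false, .mul, .edge 492 121 false, .mul, .edge 493 103 false, .mul, .edge 495 654 false, .mul])) (.leaf (.eq 87 17043521 [] [.plain 497 17070145 true]))) (.node 1 (.leaf (.eqT 7 29904967 true [.plain 498 11286617 true, .edge 496 666 false] [.edge 462 0 false])) (.node 1 (.leaf (.eq 86 17043521 [] [.plain 499 13570117 false])) (.leaf (.eqT 74 13510735 false [.plain 500 16935003 true, .edge 494 810 false] [.edge 485 0 false])))))))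
(.node 9 (.node 4 (.node 2 (.node 1 (.leaf (.eq 85 17043521 [] [.plain 501 19355715 false])) (.leaf .dfn)) (.node 1 (.leaf (.mov 88 17043521 false [.edge 503 0 true])) (.leaf (.mov 77 13310023 false [.plain 479 13307973 true, .edge 503 1186 false]))))
(.node 2 (.node 1 (.leaf (.mov 77 9056345 false [.plain 480 9115729 true, .edge 505 1321 false])) (.leaf (.mov 77 6776923 false [.plain 479 6774873 true, .edge 506 1019 false]))) (.node 1 (.leaf (.eqT 77 9056345 false [.plain 481 9050195 true, .edge 503 1074 false] [.edge 506 0 false])) (.node 1 (.leaf (.eqT 77 23928925 false [.plain 482 23492701 true, .edge 503 959 false] [.edge 503 0 false])) (.leaf (.eq 88 17043521 [] [.plain 509 17240149 false]))))))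
(.node 4 (.node 2 (.node 1 (.leaf (.eq 88 17043521 [] [.plain 508 17135689 false])) (.leaf .dfn)) (.node 1 (.leaf (.mov 89 17043521 false [.edge 512 0 true])) (.leaf .dfn)))
(.node 2 (.node 1 (.leaf (.mov 90 17043521 false [.edge 514 0 true])) (.leaf (.rel 7 12931151 4 [.edge 462 76 false, .edge 473 373 false, .mul, .edge 503 401 false, .mul, .edge 512 408 false, .mul, .edge 514 1450 false, .mul]))) (.node 1 (.leaf (.eq 90 17043521 [] [.plain 516 15624283 true])) (.node 1 (.leaf (.eqT 7 32125001 false [.plain 517 17657949 true, .edge 515 561 false] [.edge 417 0 false])) (.leaf (.eq 89 17043521 [] [.plain 518 27476035 false]))))))))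
(.node 17 (.node 8 (.node 4 (.node 2 (.node 1 (.leaf (.mov 66 23928925 false [.plain 519 17715267 true, .edge 513 925 false])) (.leaf (.mov 66 31801425 false [.plain 398 31809619 true, .edge 520 740 false]))) (.node 1 (.leaf (.mov 66 10971209 false [.plain 399 10960971 true, .edge 521 527 false])) (.leaf (.mov 66 6776923 false [.plain 398 6772825 true, .edge 522 136 false]))))
(.node 2 (.node 1 (.leaf (.mov 66 13310023 false [.plain 400 13312075 true, .edge 523 732 false])) (.leaf (.mov 66 7292999 false [.plain 398 7288901 true, .edge 524 93 false]))) (.node 1 (.leaf (.mov 66 32125001 false [.plain 399 32131147 true, .edge 525 130 false])) (.leaf (.mov 66 9056345 false [.plain 398 9070683 true, .edge 526 1169 false])))))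
(.node 4 (.node 2 (.node 1 (.leaf .dfn) (.leaf (.mov 91 17043521 false [.edge 528 0 true]))) (.node 1 (.leaf (.mov 84 23928925 false [.plain 491 23951453 true, .edge 528 943 false])) (.leaf .dfn)))
(.node 2 (.node 1 (.leaf (.mov 92 17043521 false [.edge 531 0 true])) (.leaf .dfn)) (.node 1 (.leaf (.mov 93 17043521 false [.edge 533 0 true])) (.node 1 (.leaf (.rel 7 32053331 4 [.edge 460 1402 false, .edge 486 1196 false, .mul, .edge 528 1379 false, .mul, .edge 531 911 false, .mul, .edge 533 969 false, .mul])) (.leaf (.eq 93 17043521 [] [.plain 535 9244745 true])))))))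
(.node 9 (.node 4 (.node 2 (.node 1 (.leaf (.eqT 7 32125001 false [.plain 536 17512523 true, .edge 534 1016 false] [.edge 417 0 false])) (.leaf (.eq 92 17043521 [] [.plain 537 12730461 false]))) (.node 1 (.leaf (.eqT 66 23928925 false [.plain 538 17586271 true, .edge 532 1274 false] [.edge 520 0 false])) (.leaf (.eq 91 17043521 [] [.plain 539 21116995 false]))))
(.node 2 (.node 1 (.leaf (.mov 88 32125001 false [.plain 540 17461317 true, .edge 529 172 false])) (.leaf .dfn)) (.node 1 (.leaf (.mov 7 11495495 true [.plain 68 11233347 true, .edge 542 1002 false])) (.node 1 (.leaf (.mov 7 17059919 true [.plain 70 16916575 true, .edge 543 1434 false])) (.leaf (.mov 7 17043521 true [.plain 68 17633357 true, .edge 544 514 false]))))))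
(.node 4 (.node 2 (.node 1 (.leaf .dfn) (.leaf (.mov 95 17043521 false [.edge 546 0 true]))) (.node 1 (.leaf .dfn) (.leaf (.mov 96 17043521 false [.edge 548 0 true]))))
(.node 2 (.node 1 (.leaf .dfn) (.leaf (.mov 97 17043521 false [.edge 550 0 true]))) (.node 1 (.leaf .dfn) (.node 1 (.leaf (.mov 98 17043521 false [.edge 552 0 true])) (.leaf (.rel 7 25905219 5 [.edge 542 1 false, .edge 546 1018 false, .mul, .edge 548 1072 false, .mul, .edge 550 1269 false, .mul, .edge 552 573 false, .mul]))))))))))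

/-- The reasons. -/
def caseDFullSrcLLLR : Tab Src := .node 139 caseDFullSrcLLLRL caseDFullSrcLLLRR

/-- The reasons. -/
def caseDFullSrcLLL : Tab Src := .node 277 caseDFullSrcLLLL caseDFullSrcLLLR

/-- The reasons. -/
def caseDFullSrcLLRLL : Tab Src :=
(.node 69 (.node 34 (.node 17 (.node 8 (.node 4 (.node 2 (.node 1 (.leaf (.eq 98 17043521 [] [.plain 554 13586501 true])) (.leaf (.eqT 7 19085399 false [.plain 555 17457229 true, .edge 553 1497 false] [.edge 83 0 false]))) (.node 1 (.leaf (.eq 97 9134163 [] [.plain 556 17043521 false, .plain 93 17043521 false])) (.leaf (.eq 97 17043521 [] [.plain 557 21526615 false]))))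
(.node 2 (.node 1 (.leaf (.eqT 7 10971209 false [.plain 558 16932935 true, .edge 551 1164 false] [.edge 416 0 false])) (.leaf (.eq 96 17043521 [] [.plain 559 31598675 false]))) (.node 1 (.leaf (.mov 66 19085399 false [.plain 560 17659989 true, .edge 549 177 false])) (.leaf (.mov 66 4808797 false [.plain 419 19013719 true, .edge 561 1424 false])))))
(.node 4 (.node 2 (.node 1 (.leaf .dfn) (.leaf .dfn)) (.node 1 (.leaf (.mov 103 17043521 false [.edge 564 0 true])) (.leaf (.rel 14 25718853 0 [.edge 281 1518 false, .mul, .edge 563 226 false, .mul, .edge 564 536 false, .mul, .mul]))))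
(.node 2 (.node 1 (.leaf (.eq 103 17043521 [] [.plain 566 19036227 true])) (.leaf (.eqT 14 4808797 false [.plain 567 17586243 true, .edge 565 1531 false] [.edge 284 0 false]))) (.node 1 (.leaf (.eq 102 17043521 [] [.plain 568 19802185 false])) (.node 1 (.leaf .dfn) (.leaf (.mov 104 17043521 true [.edge 570 0 true])))))))
(.node 8 (.node 4 (.node 2 (.node 1 (.leaf (.mov 14 29904967 true [.plain 105 29773901 true, .edge 570 1337 false])) (.leaf (.mov 14 32125001 true [.plain 107 31731781 true, .edge 572 557 false]))) (.node 1 (.leaf (.mov 14 4544593 true [.plain 105 4675649 true, .edge 573 1231 false])) (.leaf (.eqT 14 29904967 true [.plain 132 23230557 true, .edge 570 567 false] [.edge 572 0 false]))))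
(.node 2 (.node 1 (.leaf (.eq 104 17043521 [] [.plain 575 11016265 false])) (.leaf .dfn)) (.node 1 (.leaf (.mov 107 17043521 true [.edge 577 0 true])) (.leaf (.mov 14 4808797 true [.plain 105 4939843 true, .edge 577 294 false])))))
(.node 4 (.node 2 (.node 1 (.leaf (.mov 14 13510735 true [.plain 107 13183045 true, .edge 579 1336 false])) (.leaf (.mov 14 31801425 true [.plain 105 32129117 true, .edge 580 1484 false]))) (.node 1 (.leaf (.mov 14 25385043 true [.plain 132 21522521 true, .edge 581 148 false])) (.leaf (.mov 14 19085399 true [.plain 105 19544137 true, .edge 582 343 false]))))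
(.node 2 (.node 1 (.leaf (.mov 14 17043521 true [.plain 108 17764421 true, .edge 583 105 false])) (.leaf (.mov 14 17059919 true [.plain 105 17584201 true, .edge 584 293 false]))) (.node 1 (.leaf (.eqT 14 31801425 true [.plain 110 31604817 true, .edge 577 1077 false] [.edge 581 0 false])) (.node 1 (.leaf (.eqT 14 17059919 true [.plain 132 24004673 true, .edge 577 668 false] [.edge 585 0 false])) (.leaf (.eq 107 17043521 [] [.plain 587 17061979 false]))))))))
(.node 17 (.node 8 (.node 4 (.node 2 (.node 1 (.leaf (.eq 107 17043521 [] [.plain 586 19664979 false])) (.leaf .dfn)) (.node 1 (.leaf (.mov 108 17043521 false [.edge 590 0 true])) (.leaf (.mov 107 29904967 false [.plain 588 29839449 true, .edge 590 800 false]))))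
(.node 2 (.node 1 (.leaf (.mov 107 13510735 false [.plain 589 13111363 true, .edge 592 716 false])) (.leaf .dfn)) (.node 1 (.leaf .dfn) (.leaf (.mov 110 17043521 false [.edge 595 0 true])))))
(.node 4 (.node 2 (.node 1 (.leaf .dfn) (.leaf (.mov 111 17043521 true [.edge 597 0 true]))) (.node 1 (.leaf (.rel 14 13592649 2 [.edge 577 13 false, .edge 590 493 false, .mul, .edge 594 229 false, .mul, .edge 595 403 false, .mul, .edge 597 1339 false, .mul])) (.leaf (.eq 111 17043521 [] [.plain 599 25776207 true]))))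
(.node 2 (.node 1 (.leaf (.eqT 14 13510735 true [.plain 600 25507923 true, .edge 598 1383 false] [.edge 580 0 false])) (.leaf (.eq 110 17043521 [] [.plain 601 19624005 false]))) (.node 1 (.leaf (.eqT 107 13510735 false [.plain 602 17643599 true, .edge 596 998 false] [.edge 593 0 false])) (.node 1 (.leaf (.eq 109 17043521 [] [.plain 603 11352143 false])) (.leaf .dfn))))))
(.node 9 (.node 4 (.node 2 (.node 1 (.leaf (.mov 112 17043521 false [.edge 605 0 true])) (.leaf (.mov 104 4808797 false [.plain 576 6846539 true, .edge 605 69 false]))) (.node 1 (.leaf .dfn) (.leaf .dfn)))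
(.node 2 (.node 1 (.leaf (.mov 114 17043521 false [.edge 609 0 true])) (.leaf .dfn)) (.node 1 (.leaf (.mov 115 17043521 true [.edge 611 0 true])) (.node 1 (.leaf (.rel 14 15601747 2 [.edge 573 1091 false, .edge 605 1012 false, .mul, .edge 608 288 false, .mul, .edge 609 912 false, .mul, .edge 611 448 false, .mul])) (.leaf (.eq 115 17043521 [] [.plain 613 19208285 true]))))))
(.node 4 (.node 2 (.node 1 (.leaf (.eqT 14 13310023 true [.plain 614 27594825 true, .edge 612 1149 false] [.edge 570 0 false])) (.leaf (.eq 114 17043521 [] [.plain 615 15276117 false]))) (.node 1 (.leaf (.eqT 104 4808797 false [.plain 616 17721431 true, .edge 610 581 false] [.edge 607 0 false])) (.leaf (.eq 113 17043521 [] [.plain 617 17244235 false]))))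
(.node 2 (.node 1 (.leaf .dfn) (.leaf .dfn)) (.node 1 (.leaf (.mov 117 17043521 false [.edge 620 0 true])) (.node 1 (.leaf .dfn) (.leaf (.mov 118 17043521 true [.edge 622 0 true])))))))))
(.node 35 (.node 17 (.node 8 (.node 4 (.node 2 (.node 1 (.leaf (.rel 14 23683163 3 [.edge 581 862 false, .edge 593 1416 false, .mul, .edge 619 1239 false, .mul, .edge 620 141 false, .mul, .edge 622 922 false, .mul])) (.leaf (.eq 118 17043521 [] [.plain 624 17569881 true]))) (.node 1 (.leaf (.eqT 14 31801425 true [.plain 625 8935515 true, .edge 623 92 false] [.edge 581 0 false])) (.leaf (.eq 117 17043521 [] [.plain 626 29773913 false]))))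
(.node 2 (.node 1 (.leaf (.eqT 107 27529303 false [.plain 627 16920641 true, .edge 621 438 false] [.edge 590 0 false])) (.leaf (.eq 116 17043521 [] [.plain 628 19208283 false]))) (.node 1 (.leaf .dfn) (.leaf (.mov 119 17043521 false [.edge 630 0 true])))))
(.node 4 (.node 2 (.node 1 (.leaf .dfn) (.leaf (.mov 120 17043521 false [.edge 632 0 true]))) (.node 1 (.leaf .dfn) (.leaf (.mov 121 17043521 false [.edge 634 0 true]))))
(.node 2 (.node 1 (.leaf (.rel 14 13195359 4 [.edge 572 922 false, .edge 607 1139 false, .mul, .edge 630 411 false, .mul, .edge 632 518 false, .mul, .edge 634 258 false, .mul])) (.leaf (.eq 121 17043521 [] [.plain 636 29825103 true]))) (.node 1 (.leaf (.eqT 14 10971209 false [.plain 637 17127507 true, .edge 635 481 false] [.edge 111 0 false])) (.node 1 (.leaf (.eq 120 27529285 [] [.plain 638 17043521 false, .plain 118 17043521 false])) (.leaf (.eq 120 17043521 [] [.plain 639 27529285 false])))))))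
(.node 9 (.node 4 (.node 2 (.node 1 (.leaf (.eqT 1 4808797 false [.plain 640 17051741 true, .edge 633 211 false] [.edge 129 0 false])) (.leaf (.eq 119 17043521 [] [.plain 641 25890911 false]))) (.node 1 (.leaf (.eqT 14 13310023 false [.plain 642 17641561 true, .edge 631 1359 false] [.edge 286 0 false])) (.leaf (.eq 112 17043521 [] [.plain 643 8613981 false]))))
(.node 2 (.node 1 (.leaf (.eqT 43 31801425 false [.plain 644 17174621 true, .edge 606 1315 false] [.edge 291 0 false])) (.leaf (.mov 43 10971209 true [.plain 644 27883611 true, .edge 608 176 false]))) (.node 1 (.leaf (.mov 43 11495495 true [.plain 290 27732033 true, .edge 646 829 false])) (.node 1 (.leaf (.eq 104 17043521 [] [.plain 645 8990807 false])) (.leaf (.mov 25 19085399 true [.plain 648 25516099 true, .edge 571 460 false]))))))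
(.node 4 (.node 2 (.node 1 (.leaf .dfn) (.leaf (.mov 43 19085399 false [.plain 290 15550557 true, .edge 650 1514 false]))) (.node 1 (.leaf .dfn) (.leaf (.mov 123 17043521 false [.edge 652 0 true]))))
(.node 2 (.node 1 (.leaf .dfn) (.leaf (.mov 124 17043521 false [.edge 654 0 true]))) (.node 1 (.leaf (.rel 14 21311571 5 [.edge 574 157 false, .plain 648 17651801 false, .edge 264 1043 false, .mul, .edge 650 1379 false, .mul, .edge 652 121 false, .mul, .edge 654 667 false, .mul])) (.node 1 (.leaf (.eq 124 17043521 [] [.plain 656 9244745 true])) (.leaf (.eqT 14 32125001 false [.plain 657 16934987 true, .edge 655 401 false] [.edge 134 0 false]))))))))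
(.node 17 (.node 8 (.node 4 (.node 2 (.node 1 (.leaf (.eq 123 23558225 [] [.plain 658 17043521 false, .plain 140 17043521 false])) (.leaf (.eq 123 17043521 [] [.plain 659 13269069 false]))) (.node 1 (.leaf (.eqT 14 23928925 false [.plain 660 17635395 true, .edge 653 624 false] [.edge 287 0 false])) (.leaf (.eq 122 17043521 [] [.plain 661 21588039 false]))))
(.node 2 (.node 1 (.leaf .dfn) (.leaf (.mov 125 17043521 false [.edge 663 0 true]))) (.node 1 (.leaf .dfn) (.leaf (.mov 126 17043521 false [.edge 665 0 true])))))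
(.node 4 (.node 2 (.node 1 (.leaf .dfn) (.leaf (.mov 127 17043521 false [.edge 667 0 true]))) (.node 1 (.leaf (.rel 14 23683141 5 [.edge 579 1375 false, .edge 590 1464 false, .mul, .edge 663 1448 false, .mul, .edge 665 1490 false, .mul, .edge 667 1414 false, .mul])) (.leaf (.eq 127 17043521 [] [.plain 669 27537475 true]))))
(.node 2 (.node 1 (.leaf (.eqT 14 7292999 false [.plain 670 17258589 true, .edge 668 266 false] [.edge 133 0 false])) (.leaf (.eq 126 17043521 [] [.plain 671 23275593 false]))) (.node 1 (.leaf (.eqT 7 29904967 false [.plain 672 17702981 true, .edge 666 984 false] [.edge 414 0 false])) (.node 1 (.leaf (.eq 125 17043521 [] [.plain 673 15540305 false])) (.leaf (.eqT 66 6776923 false [.plain 674 17782875 true, .edge 664 685 false] [.edge 523 0 false])))))))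
(.node 9 (.node 4 (.node 2 (.node 1 (.leaf (.eq 108 17043521 [] [.plain 675 30222429 false])) (.leaf (.eqT 88 17043521 false [.plain 676 17576005 true, .edge 591 579 false] [.edge 504 0 false]))) (.node 1 (.leaf (.mov 88 10971209 true [.plain 676 10637395 true, .edge 594 1441 false])) (.leaf (.mov 88 19085399 false [.plain 676 19538009 true, .edge 619 25 false]))))
(.node 2 (.node 1 (.leaf (.eq 107 17043521 [] [.plain 677 28196943 false])) (.leaf (.mov 77 25385043 true [.plain 680 25432145 true, .edge 578 1146 false]))) (.node 1 (.leaf .dfn) (.node 1 (.leaf (.mov 19 19085399 true [.plain 153 21590085 true, .edge 682 1176 false])) (.leaf (.mov 19 32131155 true [.plain 153 11481165 true, .edge 683 445 false]))))))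
(.node 4 (.node 2 (.node 1 (.leaf (.mov 19 32125001 true [.plain 155 11472983 true, .edge 683 43 false])) (.leaf (.mov 19 4808797 true [.plain 153 23228505 true, .edge 685 22 false]))) (.node 1 (.leaf (.mov 19 11495495 true [.plain 153 21315661 true, .edge 686 1159 false])) (.leaf (.eqT 19 4808797 true [.plain 154 7043163 true, .edge 685 1210 false] [.edge 686 0 false]))))
(.node 2 (.node 1 (.leaf (.eqT 19 4808797 true [.plain 155 23212121 true, .edge 685 305 false] [.edge 686 0 false])) (.leaf (.eqT 19 32131155 true [.plain 154 29702223 true, .edge 682 138 false] [.edge 684 0 false]))) (.node 1 (.leaf (.eqT 19 11495495 true [.plain 155 21311565 true, .edge 682 1206 false] [.edge 687 0 false])) (.node 1 (.leaf (.eq 128 17043521 [] [.plain 691 9197659 false])) (.leaf (.eq 128 17043521 [] [.plain 690 25450569 false]))))))))))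

/-- The reasons. -/
def caseDFullSrcLLRLR : Tab Src :=
(.node 69 (.node 34 (.node 17 (.node 8 (.node 4 (.node 2 (.node 1 (.leaf (.eq 128 17043521 [] [.plain 689 19142729 false])) (.leaf (.eq 128 17043521 [] [.plain 688 17111129 false]))) (.node 1 (.leaf .dfn) (.leaf (.mov 129 17043521 true [.edge 696 0 true]))))
(.node 2 (.node 1 (.leaf (.eqT 128 17059919 true [.plain 693 17059933 true, .edge 696 71 false] [.edge 696 0 false])) (.leaf (.eqT 128 17059919 true [.plain 694 17635421 true, .edge 696 523 false] [.edge 696 0 false]))) (.node 1 (.leaf (.eqT 128 17059919 true [.plain 695 19667021 true, .edge 696 1269 false] [.edge 696 0 false])) (.leaf (.eq 129 17043521 [] [.plain 700 19667025 false])))))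
(.node 4 (.node 2 (.node 1 (.leaf (.eq 129 17043521 [] [.plain 699 17651795 false])) (.leaf (.eq 129 17043521 [] [.plain 698 17061953 false]))) (.node 1 (.leaf .dfn) (.leaf (.mov 130 17043521 true [.edge 704 0 true]))))
(.node 2 (.node 1 (.leaf (.rel 19 29634655 1 [.edge 682 462 false, .mul, .edge 696 426 false, .mul, .edge 704 1424 false, .mul, .mul])) (.leaf (.eq 130 17043521 [] [.plain 706 27793479 true]))) (.node 1 (.leaf (.mov 19 4544593 true [.plain 707 11368523 true, .edge 705 1008 false])) (.node 1 (.leaf (.mov 19 25385043 true [.plain 153 32258123 true, .edge 708 887 false])) (.leaf (.mov 19 13510735 true [.plain 153 17176643 true, .edge 709 114 false])))))))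
(.node 8 (.node 4 (.node 2 (.node 1 (.leaf (.mov 19 13310023 true [.plain 155 27686987 true, .edge 709 362 false])) (.leaf (.mov 19 31801425 true [.plain 153 21968975 true, .edge 711 281 false]))) (.node 1 (.leaf (.mov 19 10971209 true [.plain 153 4538435 true, .edge 712 634 false])) (.leaf .dfn)))
(.node 2 (.node 1 (.leaf (.mov 131 17043521 false [.edge 714 0 true])) (.leaf (.mov 129 13510735 false [.plain 701 15278145 true, .edge 714 69 false]))) (.node 1 (.leaf (.mov 129 29904967 false [.plain 701 31938649 true, .edge 716 454 false])) (.leaf (.mov 129 27529303 false [.plain 701 25696335 true, .edge 717 685 false])))))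
(.node 4 (.node 2 (.node 1 (.leaf (.eqT 129 13510735 false [.plain 702 13176897 true, .edge 714 237 false] [.edge 716 0 false])) (.leaf (.eqT 129 4808797 false [.plain 703 4814941 true, .edge 714 1298 false] [.edge 714 0 false]))) (.node 1 (.leaf (.eq 131 17043521 [] [.plain 720 17174615 false])) (.leaf (.eq 131 17043521 [] [.plain 719 16920649 false]))))
(.node 2 (.node 1 (.leaf .dfn) (.leaf (.eqT 131 11495495 true [.plain 721 10643541 true, .edge 723 1231 false] [.edge 723 0 false]))) (.node 1 (.leaf (.eqT 131 11495495 true [.plain 722 10960991 true, .edge 723 876 false] [.edge 723 0 false])) (.node 1 (.leaf (.eq 132 17043521 [] [.plain 725 8919113 false])) (.leaf (.eq 132 17043521 [] [.plain 724 17070153 false]))))))))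
(.node 17 (.node 8 (.node 4 (.node 2 (.node 1 (.leaf .dfn) (.leaf (.mov 133 17043521 false [.edge 728 0 true]))) (.node 1 (.leaf .dfn) (.leaf (.mov 134 17043521 true [.edge 730 0 true]))))
(.node 2 (.node 1 (.leaf (.rel 19 12875841 2 [.edge 708 35 false, .edge 714 999 false, .mul, .edge 723 1364 false, .mul, .edge 728 1071 false, .mul, .edge 730 690 false, .mul])) (.leaf (.eq 134 17043521 [] [.plain 732 17569877 true]))) (.node 1 (.leaf (.eqT 19 29904967 true [.plain 733 11352131 true, .edge 731 93 false] [.edge 682 0 false])) (.leaf (.eq 133 17043521 [] [.plain 734 11343941 false])))))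
(.node 4 (.node 2 (.node 1 (.leaf (.mov 128 13510735 false [.plain 735 17244231 true, .edge 729 1033 false])) (.leaf (.mov 128 29904967 false [.plain 692 29761627 true, .edge 736 241 false]))) (.node 1 (.leaf (.mov 128 27529303 false [.plain 694 27816015 true, .edge 737 824 false])) (.leaf .dfn)))
(.node 2 (.node 1 (.leaf .dfn) (.leaf (.mov 136 17043521 false [.edge 740 0 true]))) (.node 1 (.leaf .dfn) (.node 1 (.leaf (.mov 137 17043521 true [.edge 742 0 true])) (.leaf (.rel 19 29628489 3 [.edge 708 1236 false, .edge 718 1134 false, .mul, .edge 739 1192 false, .mul, .edge 740 1003 false, .mul, .edge 742 360 false, .mul])))))))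
(.node 9 (.node 4 (.node 2 (.node 1 (.leaf (.eq 137 17043521 [] [.plain 744 27875395 true])) (.leaf (.eqT 19 4544593 true [.plain 745 8943705 true, .edge 743 1363 false] [.edge 708 0 false]))) (.node 1 (.leaf (.eq 136 17043521 [] [.plain 746 4792409 false])) (.leaf (.eqT 129 13510735 false [.plain 747 17004621 true, .edge 741 358 false] [.edge 716 0 false]))))
(.node 2 (.node 1 (.leaf (.eq 135 17043521 [] [.plain 748 19730499 false])) (.leaf .dfn)) (.node 1 (.leaf (.mov 138 17043521 false [.edge 750 0 true])) (.node 1 (.leaf (.mov 132 29904967 false [.plain 726 17717339 true, .edge 750 188 false])) (.leaf (.eqT 132 29904967 false [.plain 727 29911127 true, .edge 752 1368 false] [.edge 752 0 false]))))))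
(.node 4 (.node 2 (.node 1 (.leaf (.eqT 132 17043521 false [.plain 727 17070153 true, .edge 750 1534 false] [.edge 750 0 false])) (.leaf (.eq 138 17043521 [] [.plain 754 17524831 false]))) (.node 1 (.leaf (.eq 138 17043521 [] [.plain 753 17768519 false])) (.leaf .dfn)))
(.node 2 (.node 1 (.leaf (.mov 139 17043521 false [.edge 757 0 true])) (.leaf (.eqT 138 13310023 false [.plain 755 12869721 true, .edge 757 1283 false] [.edge 757 0 false]))) (.node 1 (.leaf (.eqT 138 13310023 false [.plain 756 12802123 true, .edge 757 981 false] [.edge 757 0 false])) (.node 1 (.leaf (.eq 139 17043521 [] [.plain 760 17059913 false])) (.leaf (.eq 139 17043521 [] [.plain 759 17053779 false])))))))))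
(.node 35 (.node 17 (.node 8 (.node 4 (.node 2 (.node 1 (.leaf .dfn) (.leaf (.mov 140 17043521 false [.edge 763 0 true]))) (.node 1 (.leaf (.rel 19 10907743 4 [.edge 683 534 false, .edge 738 1420 false, .mul, .edge 750 1366 false, .mul, .edge 757 549 false, .mul, .edge 763 668 false, .mul])) (.leaf (.eq 140 17043521 [] [.plain 765 29827151 true]))))
(.node 2 (.node 1 (.leaf (.mov 19 9056345 false [.plain 766 17782877 true, .edge 764 758 false])) (.leaf (.mov 19 32125001 false [.plain 155 11472983 true, .edge 767 820 false]))) (.node 1 (.leaf (.mov 19 23928925 false [.plain 153 13334603 true, .edge 768 612 false])) (.leaf (.mov 19 7292999 false [.plain 153 25382977 true, .edge 769 956 false])))))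
(.node 4 (.node 2 (.node 1 (.leaf (.mov 19 10971209 false [.plain 154 8538177 true, .edge 770 484 false])) (.leaf (.mov 19 13310023 false [.plain 153 27666507 true, .edge 771 1493 false]))) (.node 1 (.leaf (.mov 19 31801425 false [.plain 153 21968975 true, .edge 772 652 false])) (.leaf (.mov 19 6776923 false [.plain 155 8601693 true, .edge 773 664 false]))))
(.node 2 (.node 1 (.leaf (.eqT 19 7292999 false [.plain 154 5003331 true, .edge 768 786 false] [.edge 770 0 false])) (.leaf (.eqT 19 31801425 false [.plain 155 21960783 true, .edge 768 546 false] [.edge 773 0 false]))) (.node 1 (.leaf (.eq 139 17043521 [] [.plain 776 28012617 false])) (.node 1 (.leaf (.mov 139 4808797 false [.plain 777 16982095 true, .edge 758 98 false])) (.leaf (.eq 139 17043521 [] [.plain 775 27531333 false])))))))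
(.node 9 (.node 4 (.node 2 (.node 1 (.leaf .dfn) (.leaf (.mov 131 32125001 false [.plain 722 31672391 true, .edge 780 1430 false]))) (.node 1 (.leaf (.eqT 131 32125001 false [.plain 721 32256089 true, .edge 781 136 false] [.edge 781 0 false])) (.leaf (.eqT 131 7292999 false [.plain 722 6639703 true, .edge 781 54 false] [.edge 780 0 false]))))
(.node 2 (.node 1 (.leaf (.eq 141 17043521 [] [.plain 783 17174615 false])) (.leaf (.eq 141 17043521 [] [.plain 782 16988233 false]))) (.node 1 (.leaf .dfn) (.node 1 (.leaf (.mov 142 17043521 false [.edge 786 0 true])) (.leaf .dfn)))))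
(.node 4 (.node 2 (.node 1 (.leaf (.mov 143 17043521 false [.edge 788 0 true])) (.leaf (.rel 19 29626459 4 [.edge 708 1504 false, .edge 716 248 false, .mul, .edge 780 1006 false, .mul, .edge 786 760 false, .mul, .edge 788 681 false, .mul]))) (.node 1 (.leaf (.eq 143 17043521 [] [.plain 790 9271387 true])) (.leaf (.eqT 19 32125001 false [.plain 791 16998477 true, .edge 789 1167 false] [.edge 768 0 false]))))
(.node 2 (.node 1 (.leaf (.eq 142 17043521 [] [.plain 792 13453395 false])) (.leaf (.mov 139 23928925 false [.plain 793 17459293 true, .edge 787 1373 false]))) (.node 1 (.leaf (.mov 139 6776923 false [.plain 761 6778965 true, .edge 794 398 false])) (.node 1 (.leaf (.mov 139 10971209 false [.plain 762 10967105 true, .edge 795 152 false])) (.leaf (.mov 139 31801425 false [.plain 761 31799387 true, .edge 796 543 false]))))))))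
(.node 17 (.node 8 (.node 4 (.node 2 (.node 1 (.leaf (.mov 139 19085399 false [.plain 779 13385795 true, .edge 797 996 false])) (.leaf (.mov 139 29904967 false [.plain 777 19863639 true, .edge 798 22 false]))) (.node 1 (.leaf .dfn) (.leaf (.mov 25 32125001 false [.plain 185 32192587 true, .edge 800 1362 false]))))
(.node 2 (.node 1 (.leaf (.mov 25 13510735 false [.plain 187 12875861 true, .edge 801 104 false])) (.leaf (.mov 25 27529303 false [.plain 185 27596885 true, .edge 802 664 false]))) (.node 1 (.leaf (.mov 25 4808797 false [.plain 186 4939869 true, .edge 803 1355 false])) (.leaf (.mov 25 29904967 false [.plain 185 29972549 true, .edge 804 609 false])))))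
(.node 4 (.node 2 (.node 1 (.leaf (.mov 25 7292999 false [.plain 187 6844493 true, .edge 805 573 false])) (.leaf (.mov 25 31801425 false [.plain 185 31737939 true, .edge 806 1091 false]))) (.node 1 (.leaf (.eqT 25 10971209 false [.plain 186 10643529 true, .edge 800 38 false] [.edge 800 0 false])) (.leaf (.eqT 25 10971209 false [.plain 188 10905673 true, .edge 800 520 false] [.edge 800 0 false]))))
(.node 2 (.node 1 (.leaf (.eq 144 17043521 [] [.plain 809 17584193 false])) (.leaf (.eq 144 17043521 [] [.plain 808 16984147 false]))) (.node 1 (.leaf .dfn) (.node 1 (.leaf .dfn) (.leaf (.mov 146 17043521 false [.edge 813 0 true])))))))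
(.node 9 (.node 4 (.node 2 (.node 1 (.leaf (.rel 25 25632835 0 [.edge 800 1293 false, .mul, .edge 812 1466 false, .mul, .edge 813 1021 false, .mul, .mul])) (.leaf (.eq 146 17043521 [] [.plain 815 19861585 true]))) (.node 1 (.leaf (.eqT 25 32125001 false [.plain 816 16935003 true, .edge 814 810 false] [.edge 801 0 false])) (.leaf (.eq 145 17043521 [] [.plain 817 19355715 false]))))
(.node 2 (.node 1 (.leaf .dfn) (.leaf (.eqT 25 11495495 true [.plain 186 11167815 true, .edge 819 873 false] [.edge 819 0 false]))) (.node 1 (.leaf (.mov 25 17043521 true [.plain 187 16984157 true, .edge 819 339 false])) (.node 1 (.leaf (.eqT 25 17043521 true [.plain 186 17567809 true, .edge 821 484 false] [.edge 821 0 false])) (.leaf (.eqT 25 17043521 true [.plain 188 17109057 true, .edge 821 342 false] [.edge 821 0 false]))))))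
(.node 4 (.node 2 (.node 1 (.leaf (.eqT 25 11495495 true [.plain 188 11429959 true, .edge 819 12 false] [.edge 819 0 false])) (.leaf (.eq 147 17043521 [] [.plain 824 17045571 false]))) (.node 1 (.leaf (.eq 147 17043521 [] [.plain 823 25786435 false])) (.leaf (.eq 147 17043521 [] [.plain 822 25458755 false]))))
(.node 2 (.node 1 (.leaf (.eq 147 17043521 [] [.plain 820 17068121 false])) (.leaf .dfn)) (.node 1 (.leaf (.mov 148 17043521 true [.edge 829 0 true])) (.node 1 (.leaf (.eqT 147 17059919 true [.plain 826 19222607 true, .edge 829 236 false] [.edge 829 0 false])) (.leaf (.eqT 147 17059919 true [.plain 827 8933455 true, .edge 829 1456 false] [.edge 829 0 false]))))))))))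

/-- The reasons. -/
def caseDFullSrcLLRL : Tab Src := .node 139 caseDFullSrcLLRLL caseDFullSrcLLRLR

/-- The reasons. -/
def caseDFullSrcLLRRL : Tab Src :=
(.node 69 (.node 34 (.node 17 (.node 8 (.node 4 (.node 2 (.node 1 (.leaf (.eq 148 17043521 [] [.plain 832 27529281 false])) (.leaf (.eq 148 17043521 [] [.plain 831 19140673 false]))) (.node 1 (.leaf .dfn) (.leaf (.mov 149 17043521 true [.edge 835 0 true]))))
(.node 2 (.node 1 (.leaf (.rel 25 9330759 1 [.edge 819 342 false, .mul, .edge 829 1494 false, .mul, .edge 835 603 false, .mul, .mul])) (.leaf (.eq 149 17043521 [] [.plain 837 17569869 true]))) (.node 1 (.leaf (.mov 25 10971209 true [.plain 838 17651795 true, .edge 836 523 false])) (.leaf (.mov 25 17059919 true [.plain 187 17508419 true, .edge 839 1049 false])))))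
(.node 4 (.node 2 (.node 1 (.leaf .dfn) (.leaf (.mov 150 17043521 true [.edge 841 0 true]))) (.node 1 (.leaf (.mov 25 32131155 true [.plain 186 31803475 true, .edge 841 1233 false])) (.leaf (.mov 25 4544593 true [.plain 187 4857929 true, .edge 843 454 false]))))
(.node 2 (.node 1 (.leaf (.mov 25 32125001 true [.plain 186 31797321 true, .edge 844 869 false])) (.leaf (.mov 25 13310023 true [.plain 187 12734555 true, .edge 845 1110 false]))) (.node 1 (.leaf (.mov 25 29904967 true [.plain 186 29773895 true, .edge 846 1310 false])) (.node 1 (.leaf (.mov 25 13510735 true [.plain 187 12875861 true, .edge 847 573 false])) (.leaf (.mov 25 4808797 true [.plain 186 4939869 true, .edge 848 923 false])))))))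
(.node 8 (.node 4 (.node 2 (.node 1 (.leaf (.eqT 25 4544593 true [.plain 188 4479057 true, .edge 844 342 false] [.edge 844 0 false])) (.leaf (.eqT 25 31801425 true [.plain 188 31735889 true, .edge 841 1028 false] [.edge 841 0 false]))) (.node 1 (.leaf (.eq 150 17043521 [] [.plain 851 17109059 false])) (.leaf (.eq 150 17043521 [] [.plain 850 25432129 false]))))
(.node 2 (.node 1 (.leaf .dfn) (.leaf .dfn)) (.node 1 (.leaf .dfn) (.leaf (.mov 155 17043521 false [.edge 856 0 true])))))
(.node 4 (.node 2 (.node 1 (.leaf .dfn) (.leaf (.mov 156 17043521 true [.edge 858 0 true]))) (.node 1 (.leaf (.rel 25 19554395 2 [.edge 839 948 false, .edge 854 83 false, .mul, .edge 855 1309 false, .mul, .edge 856 928 false, .mul, .edge 858 219 false, .mul])) (.leaf (.eq 156 17043521 [] [.plain 860 19142743 true]))))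
(.node 2 (.node 1 (.leaf (.eqT 25 11495495 true [.plain 861 11096131 true, .edge 859 539 false] [.edge 819 0 false])) (.leaf (.eq 155 17043521 [] [.plain 862 31877211 false]))) (.node 1 (.leaf (.mov 147 27529303 false [.plain 863 17528915 true, .edge 857 1456 false])) (.node 1 (.leaf .dfn) (.leaf (.mov 157 17043521 false [.edge 865 0 true]))))))))
(.node 17 (.node 8 (.node 4 (.node 2 (.node 1 (.leaf (.mov 150 27529303 false [.plain 852 27594837 true, .edge 865 1091 false])) (.leaf (.eqT 150 13510735 false [.plain 853 15673423 true, .edge 865 1281 false] [.edge 865 0 false]))) (.node 1 (.leaf (.eq 157 17043521 [] [.plain 868 17584209 false])) (.leaf .dfn)))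
(.node 2 (.node 1 (.leaf (.mov 158 17043521 true [.edge 870 0 true])) (.leaf (.eqT 157 17059919 true [.plain 869 17567839 true, .edge 870 1338 false] [.edge 870 0 false]))) (.node 1 (.leaf (.eq 158 17043521 [] [.plain 872 17584209 false])) (.leaf .dfn))))
(.node 4 (.node 2 (.node 1 (.leaf (.mov 159 17043521 false [.edge 874 0 true])) (.leaf .dfn)) (.node 1 (.leaf (.mov 160 17043521 true [.edge 876 0 true])) (.leaf (.rel 25 32002127 2 [.edge 847 1428 false, .edge 865 1059 false, .mul, .edge 870 1510 false, .mul, .edge 874 1055 false, .mul, .edge 876 903 false, .mul]))))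
(.node 2 (.node 1 (.leaf (.eq 160 17043521 [] [.plain 878 19730519 true])) (.leaf (.eqT 25 4544593 true [.plain 879 9269321 true, .edge 877 678 false] [.edge 844 0 false]))) (.node 1 (.leaf (.eq 159 17043521 [] [.plain 880 13510729 false])) (.node 1 (.leaf (.mov 150 19085399 false [.plain 881 17195099 true, .edge 875 453 false])) (.leaf (.mov 150 17043521 false [.plain 853 19206209 true, .edge 882 329 false])))))))
(.node 9 (.node 4 (.node 2 (.node 1 (.leaf .dfn) (.leaf (.mov 161 17043521 false [.edge 884 0 true]))) (.node 1 (.leaf .dfn) (.leaf (.mov 162 17043521 false [.edge 886 0 true]))))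
(.node 2 (.node 1 (.leaf .dfn) (.leaf (.mov 163 17043521 true [.edge 888 0 true]))) (.node 1 (.leaf (.rel 25 19294301 3 [.edge 819 716 false, .edge 864 1077 false, .mul, .edge 884 36 false, .mul, .edge 886 572 false, .mul, .edge 888 1355 false, .mul])) (.node 1 (.leaf (.eq 163 17043521 [] [.plain 890 19232849 true])) (.leaf (.eqT 25 11495495 true [.plain 891 11096155 true, .edge 889 1103 false] [.edge 819 0 false]))))))
(.node 4 (.node 2 (.node 1 (.leaf (.eq 162 17043521 [] [.plain 892 25456705 false])) (.leaf (.mov 147 13510735 false [.plain 893 17700943 true, .edge 887 117 false]))) (.node 1 (.leaf .dfn) (.leaf .dfn)))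
(.node 2 (.node 1 (.leaf (.mov 165 17043521 false [.edge 896 0 true])) (.leaf .dfn)) (.node 1 (.leaf (.mov 166 17043521 true [.edge 898 0 true])) (.node 1 (.leaf (.rel 25 13508699 3 [.edge 843 877 false, .edge 865 296 false, .mul, .edge 895 1302 false, .mul, .edge 896 655 false, .mul, .edge 898 1428 false, .mul])) (.leaf (.eq 166 17043521 [] [.plain 900 19159115 true])))))))))
(.node 35 (.node 17 (.node 8 (.node 4 (.node 2 (.node 1 (.leaf (.eqT 25 32131155 true [.plain 901 8984665 true, .edge 899 680 false] [.edge 843 0 false])) (.leaf (.eq 165 17043521 [] [.plain 902 25505861 false]))) (.node 1 (.leaf (.eqT 150 27529303 false [.plain 903 17051739 true, .edge 897 1145 false] [.edge 867 0 false])) (.leaf (.eq 164 17043521 [] [.plain 904 19740751 false]))))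
(.node 2 (.node 1 (.leaf .dfn) (.leaf (.mov 167 17043521 false [.edge 906 0 true]))) (.node 1 (.leaf (.mov 157 4808797 false [.plain 869 4943961 true, .edge 906 80 false])) (.leaf .dfn))))
(.node 4 (.node 2 (.node 1 (.leaf (.mov 168 17043521 false [.edge 909 0 true])) (.leaf .dfn)) (.node 1 (.leaf (.mov 169 17043521 false [.edge 911 0 true])) (.leaf (.rel 25 7290959 4 [.edge 848 77 false, .edge 867 73 false, .mul, .edge 906 1212 false, .mul, .edge 909 1096 false, .mul, .edge 911 1257 false, .mul]))))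
(.node 2 (.node 1 (.leaf (.eq 169 17043521 [] [.plain 913 23230537 true])) (.leaf (.eqT 25 27529303 false [.plain 914 17717319 true, .edge 912 818 false] [.edge 803 0 false]))) (.node 1 (.leaf (.eq 168 17043521 [] [.plain 915 15560775 false])) (.node 1 (.leaf (.mov 144 27529303 false [.plain 916 17444941 true, .edge 910 250 false])) (.leaf (.mov 144 4808797 false [.plain 810 4943965 true, .edge 917 324 false])))))))
(.node 9 (.node 4 (.node 2 (.node 1 (.leaf (.mov 144 31801425 false [.plain 811 32055373 true, .edge 918 179 false])) (.leaf .dfn)) (.node 1 (.leaf (.mov 170 17043521 false [.edge 920 0 true])) (.leaf (.mov 150 29904967 false [.plain 852 29970501 true, .edge 920 1264 false]))))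
(.node 2 (.node 1 (.leaf (.eqT 150 29904967 false [.plain 853 32067655 true, .edge 920 664 false] [.edge 922 0 false])) (.leaf (.eq 170 17043521 [] [.plain 923 16922695 false]))) (.node 1 (.leaf .dfn) (.node 1 (.leaf (.mov 171 17043521 false [.edge 925 0 true])) (.leaf .dfn)))))
(.node 4 (.node 2 (.node 1 (.leaf (.mov 172 17043521 false [.edge 927 0 true])) (.leaf .dfn)) (.node 1 (.leaf (.mov 173 17043521 false [.edge 929 0 true])) (.leaf (.rel 25 12804173 5 [.edge 848 954 false, .edge 920 150 false, .mul, .edge 925 918 false, .mul, .edge 927 912 false, .mul, .edge 929 825 false, .mul]))))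
(.node 2 (.node 1 (.leaf (.eq 173 17043521 [] [.plain 931 4929603 true])) (.leaf (.eqT 25 7292999 false [.plain 932 17506371 true, .edge 930 1040 false] [.edge 806 0 false]))) (.node 1 (.leaf (.eq 172 17043521 [] [.plain 933 15028309 false])) (.node 1 (.leaf (.eqT 144 31801425 false [.plain 934 17059917 true, .edge 928 712 false] [.edge 919 0 false])) (.leaf (.eq 171 17043521 [] [.plain 935 27531351 false]))))))))
(.node 17 (.node 8 (.node 4 (.node 2 (.node 1 (.leaf (.mov 167 23928925 false [.plain 936 17512531 true, .edge 926 896 false])) (.leaf .dfn)) (.node 1 (.leaf (.mov 174 17043521 false [.edge 938 0 true])) (.leaf .dfn)))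
(.node 2 (.node 1 (.leaf (.mov 175 17043521 false [.edge 940 0 true])) (.leaf .dfn)) (.node 1 (.leaf (.mov 176 17043521 false [.edge 942 0 true])) (.leaf (.rel 25 4798537 5 [.edge 844 1463 false, .edge 883 2 false, .mul, .edge 938 330 false, .mul, .edge 940 1522 false, .mul, .edge 942 921 false, .mul])))))
(.node 4 (.node 2 (.node 1 (.leaf (.eq 176 17043521 [] [.plain 944 27553869 true])) (.leaf (.eqT 25 6776923 false [.plain 945 17768531 true, .edge 943 980 false] [.edge 264 0 false]))) (.node 1 (.leaf (.eq 175 17043521 [] [.plain 946 25694281 false])) (.leaf (.mov 43 4808797 false [.plain 947 17459287 true, .edge 941 1494 false]))))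
(.node 2 (.node 1 (.leaf (.mov 43 27529303 false [.plain 270 27856971 true, .edge 948 1303 false])) (.leaf (.mov 43 23928925 false [.plain 271 23208021 true, .edge 949 186 false]))) (.node 1 (.leaf (.mov 43 6776923 false [.plain 270 6580293 true, .edge 950 1243 false])) (.node 1 (.leaf (.eqT 43 4808797 false [.plain 272 4808771 true, .edge 948 1282 false] [.edge 948 0 false])) (.leaf (.eqT 43 6776923 false [.plain 290 27859021 true, .edge 948 1505 false] [.edge 951 0 false])))))))
(.node 9 (.node 4 (.node 2 (.node 1 (.leaf (.eq 174 17043521 [] [.plain 953 9056341 false])) (.leaf (.mov 174 31801425 false [.plain 954 17135701 true, .edge 939 1467 false]))) (.node 1 (.leaf (.eq 174 17043521 [] [.plain 952 9060417 false])) (.leaf (.mov 174 27529303 false [.plain 956 17053761 true, .edge 939 38 false]))))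
(.node 2 (.node 1 (.leaf (.mov 174 23928925 false [.plain 954 9263193 true, .edge 957 1229 false])) (.leaf .dfn)) (.node 1 (.leaf (.mov 177 17043521 false [.edge 959 0 true])) (.node 1 (.leaf (.mov 43 29904967 false [.plain 270 29773901 true, .edge 959 784 false])) (.leaf (.mov 43 9056345 false [.plain 271 8925269 true, .edge 961 1007 false]))))))
(.node 4 (.node 2 (.node 1 (.leaf (.mov 43 13310023 false [.plain 270 13441103 true, .edge 962 585 false])) (.leaf (.eqT 43 13510735 false [.plain 272 13510731 true, .edge 959 440 false] [.edge 959 0 false]))) (.node 1 (.leaf (.eqT 43 13510735 false [.plain 290 11350107 true, .edge 959 1436 false] [.edge 959 0 false])) (.leaf (.eq 177 17043521 [] [.plain 965 17764417 false]))))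
(.node 2 (.node 1 (.leaf (.eq 177 17043521 [] [.plain 964 17633365 false])) (.leaf .dfn)) (.node 1 (.leaf (.mov 180 17043521 true [.edge 968 0 true])) (.node 1 (.leaf (.mov 43 32125001 true [.plain 270 31797337 true, .edge 968 1231 false])) (.leaf (.mov 43 13310023 true [.plain 271 13506625 true, .edge 970 837 false]))))))))))

/-- The reasons. -/
def caseDFullSrcLLRRR : Tab Src :=
(.node 69 (.node 34 (.node 17 (.node 8 (.node 4 (.node 2 (.node 1 (.leaf (.mov 43 29904967 true [.plain 270 29773901 true, .edge 971 1337 false])) (.leaf (.eqT 43 4544593 true [.plain 272 4544577 true, .edge 968 1015 false] [.edge 968 0 false]))) (.node 1 (.leaf (.eqT 43 29904967 true [.plain 290 21786689 true, .edge 968 340 false] [.edge 972 0 false])) (.leaf (.eq 180 17043521 [] [.plain 974 11358289 false]))))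
(.node 2 (.node 1 (.leaf (.eq 180 17043521 [] [.plain 973 17059905 false])) (.leaf .dfn)) (.node 1 (.leaf (.mov 183 17043521 true [.edge 977 0 true])) (.leaf (.mov 43 17043521 true [.plain 270 17567831 true, .edge 977 829 false])))))
(.node 4 (.node 2 (.node 1 (.leaf (.mov 43 19085399 true [.plain 271 19740761 true, .edge 979 1414 false])) (.leaf (.mov 43 25385043 true [.plain 270 26171487 true, .edge 980 376 false]))) (.node 1 (.leaf (.mov 43 31801425 true [.plain 290 16939081 true, .edge 981 590 false])) (.leaf (.mov 43 13510735 true [.plain 270 13117515 true, .edge 982 831 false]))))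
(.node 2 (.node 1 (.leaf (.mov 43 4808797 true [.plain 271 4677701 true, .edge 983 543 false])) (.leaf (.mov 43 32131155 true [.plain 270 31803485 true, .edge 984 253 false]))) (.node 1 (.leaf (.eqT 43 17043521 true [.plain 272 17043543 true, .edge 977 1300 false] [.edge 979 0 false])) (.node 1 (.leaf (.eq 183 17043521 [] [.plain 986 17070161 false])) (.leaf .dfn))))))
(.node 8 (.node 4 (.node 2 (.node 1 (.leaf (.eqT 183 17043521 false [.plain 987 17584193 true, .edge 988 1244 false] [.edge 988 0 false])) (.leaf (.eq 186 17043521 [] [.plain 989 17045569 false]))) (.node 1 (.leaf .dfn) (.leaf (.mov 190 17043521 false [.edge 991 0 true]))))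
(.node 2 (.node 1 (.leaf (.eqT 180 29904967 false [.plain 975 29888601 true, .edge 991 890 false] [.edge 991 0 false])) (.leaf (.eqT 180 29904967 false [.plain 976 29892679 true, .edge 991 1517 false] [.edge 991 0 false]))) (.node 1 (.leaf (.eq 190 17043521 [] [.plain 994 17051739 false])) (.leaf (.eq 190 17043521 [] [.plain 993 17059931 false])))))
(.node 4 (.node 2 (.node 1 (.leaf .dfn) (.leaf (.mov 191 17043521 true [.edge 997 0 true]))) (.node 1 (.leaf .dfn) (.leaf (.mov 186 13310023 false [.plain 990 13307975 true, .edge 999 664 false]))))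
(.node 2 (.node 1 (.leaf .dfn) (.leaf (.mov 199 17043521 false [.edge 1001 0 true]))) (.node 1 (.leaf .dfn) (.node 1 (.leaf (.mov 200 17043521 false [.edge 1003 0 true])) (.leaf (.rel 43 17111129 4 [.edge 979 1361 false, .edge 988 1357 false, .mul, .edge 999 300 false, .mul, .edge 1001 1252 false, .mul, .edge 1003 93 false, .mul]))))))))
(.node 17 (.node 8 (.node 4 (.node 2 (.node 1 (.leaf (.eq 200 17043521 [] [.plain 1005 15624263 true])) (.leaf (.eqT 43 13510735 false [.plain 1006 17649739 true, .edge 1004 881 false] [.edge 959 0 false]))) (.node 1 (.leaf (.eq 199 17043521 [] [.plain 1007 27531337 false])) (.leaf (.mov 177 27529303 false [.plain 1008 17045599 true, .edge 1002 40 false]))))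
(.node 2 (.node 1 (.leaf (.mov 177 13310023 false [.plain 966 13572167 true, .edge 1009 961 false])) (.leaf (.mov 177 6776923 false [.plain 967 6645831 true, .edge 1010 1001 false]))) (.node 1 (.leaf (.mov 177 29904967 false [.plain 966 30232647 true, .edge 1011 1053 false])) (.leaf .dfn))))
(.node 4 (.node 2 (.node 1 (.leaf (.mov 201 17043521 false [.edge 1013 0 true])) (.leaf .dfn)) (.node 1 (.leaf (.mov 202 17043521 false [.edge 1015 0 true])) (.leaf .dfn)))
(.node 2 (.node 1 (.leaf (.mov 203 17043521 false [.edge 1017 0 true])) (.leaf .dfn)) (.node 1 (.leaf (.mov 204 17043521 false [.edge 1019 0 true])) (.node 1 (.leaf (.rel 43 21768281 4 [.edge 982 1073 false, .edge 1013 181 false, .mul, .edge 1015 667 false, .mul, .edge 1017 466 false, .mul, .edge 1019 1442 false, .mul])) (.leaf (.eq 204 17043521 [] [.plain 1021 29843533 true])))))))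
(.node 9 (.node 4 (.node 2 (.node 1 (.leaf (.eqT 43 4808797 false [.plain 1022 17698903 true, .edge 1020 239 false] [.edge 948 0 false])) (.leaf (.eq 203 17043521 [] [.plain 1023 27750491 false]))) (.node 1 (.leaf (.mov 174 13310023 false [.plain 1024 16920653 true, .edge 1018 202 false])) (.leaf (.mov 174 13510735 false [.plain 954 11415637 true, .edge 1025 1148 false]))))
(.node 2 (.node 1 (.leaf (.mov 174 19085399 false [.plain 956 23275597 true, .edge 1026 1092 false])) (.leaf (.mov 174 7292999 false [.plain 954 19863629 true, .edge 1027 632 false]))) (.node 1 (.leaf .dfn) (.node 1 (.leaf (.mov 205 17043521 false [.edge 1029 0 true])) (.leaf .dfn)))))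
(.node 4 (.node 2 (.node 1 (.leaf (.mov 206 17043521 false [.edge 1031 0 true])) (.leaf .dfn)) (.node 1 (.leaf (.mov 207 17043521 false [.edge 1033 0 true])) (.leaf .dfn)))
(.node 2 (.node 1 (.leaf (.mov 208 17043521 false [.edge 1035 0 true])) (.leaf (.rel 43 4989003 5 [.edge 982 744 false, .edge 1029 15 false, .mul, .edge 1031 1401 false, .mul, .edge 1033 1325 false, .mul, .edge 1035 9 false, .mul]))) (.node 1 (.leaf (.eq 208 17043521 [] [.plain 1037 4923463 true])) (.node 1 (.leaf (.eqT 43 4808797 false [.plain 1038 16918607 true, .edge 1036 156 false] [.edge 948 0 false])) (.leaf (.eq 207 17043521 [] [.plain 1039 14962783 false])))))))))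
(.node 35 (.node 17 (.node 8 (.node 4 (.node 2 (.node 1 (.leaf (.eqT 174 31801425 false [.plain 1040 17242191 true, .edge 1034 1114 false] [.edge 955 0 false])) (.leaf (.eq 206 17043521 [] [.plain 1041 27752531 false]))) (.node 1 (.leaf (.mov 158 4808797 false [.plain 1042 16932935 true, .edge 1032 1164 false])) (.leaf (.mov 158 27529303 false [.plain 873 27883597 true, .edge 1043 88 false]))))
(.node 2 (.node 1 (.leaf .dfn) (.leaf .dfn)) (.node 1 (.leaf (.mov 210 17043521 false [.edge 1046 0 true])) (.leaf (.rel 46 11409491 0 [.edge 440 413 false, .mul, .edge 1045 2 false, .mul, .edge 1046 564 false, .mul, .mul])))))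
(.node 4 (.node 2 (.node 1 (.leaf (.eq 210 17043521 [] [.plain 1048 19603547 true])) (.leaf (.eqT 46 6776923 false [.plain 1049 17586241 true, .edge 1047 1289 false] [.edge 442 0 false]))) (.node 1 (.leaf (.eq 209 17043521 [] [.plain 1050 19802203 false])) (.leaf .dfn)))
(.node 2 (.node 1 (.leaf (.mov 46 19085399 true [.plain 306 19796035 true, .edge 1052 11 false])) (.leaf (.mov 46 17059919 true [.plain 308 17463381 true, .edge 1053 502 false]))) (.node 1 (.leaf (.mov 46 17043521 true [.plain 305 17127517 true, .edge 1054 614 false])) (.node 1 (.leaf (.mov 46 11495495 true [.plain 306 11038803 true, .edge 1055 695 false])) (.leaf (.mov 46 10971209 true [.plain 305 10897495 true, .edge 1056 1388 false])))))))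
(.node 9 (.node 4 (.node 2 (.node 1 (.leaf (.eqT 46 17043521 true [.plain 308 16922715 true, .edge 1052 1073 false] [.edge 1055 0 false])) (.leaf (.eq 211 17043521 [] [.plain 1058 11350105 false]))) (.node 1 (.leaf .dfn) (.leaf (.mov 214 17043521 true [.edge 1060 0 true]))))
(.node 2 (.node 1 (.leaf (.mov 46 4808797 true [.plain 305 4749395 true, .edge 1060 832 false])) (.leaf (.mov 46 29904967 true [.plain 305 29960287 true, .edge 1062 899 false]))) (.node 1 (.leaf (.mov 46 31801425 true [.plain 305 31731797 true, .edge 1063 941 false])) (.node 1 (.leaf (.mov 46 32125001 true [.plain 307 31989835 true, .edge 1064 131 false])) (.leaf (.mov 46 32131155 true [.plain 305 32192587 true, .edge 1065 853 false]))))))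
(.node 4 (.node 2 (.node 1 (.leaf (.mov 46 13310023 true [.plain 305 13246555 true, .edge 1066 1230 false])) (.leaf (.mov 46 13510735 true [.plain 305 13570133 true, .edge 1067 590 false]))) (.node 1 (.leaf (.eqT 46 4544593 true [.plain 307 4730963 true, .edge 1060 347 false] [.edge 1060 0 false])) (.leaf (.eqT 46 32131155 true [.plain 308 32051291 true, .edge 1060 249 false] [.edge 1066 0 false]))))
(.node 2 (.node 1 (.leaf (.eq 214 17043521 [] [.plain 1070 27859033 false])) (.leaf (.eq 214 17043521 [] [.plain 1069 25442377 false]))) (.node 1 (.leaf .dfn) (.node 1 (.leaf .dfn) (.leaf (.mov 216 17043521 true [.edge 1074 0 true]))))))))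
(.node 17 (.node 8 (.node 4 (.node 2 (.node 1 (.leaf (.rel 46 32321603 1 [.edge 1060 916 false, .mul, .edge 1073 1412 false, .mul, .edge 1074 1005 false, .mul, .mul])) (.leaf (.eq 216 17043521 [] [.plain 1076 17135711 true]))) (.node 1 (.leaf (.eqT 46 29904967 true [.plain 1077 11368521 true, .edge 1075 527 false] [.edge 1063 0 false])) (.leaf (.eq 215 17043521 [] [.plain 1078 11360335 false]))))
(.node 2 (.node 1 (.leaf .dfn) (.leaf (.mov 217 17043521 false [.edge 1080 0 true]))) (.node 1 (.leaf (.mov 214 29904967 false [.plain 1071 19798089 true, .edge 1080 17 false])) (.leaf (.mov 214 17043521 false [.plain 1071 11024475 true, .edge 1082 1522 false])))))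
(.node 4 (.node 2 (.node 1 (.leaf (.mov 214 4808797 false [.plain 1071 16916553 true, .edge 1083 216 false])) (.leaf (.mov 214 13510735 false [.plain 1072 17715283 true, .edge 1083 445 false]))) (.node 1 (.leaf (.mov 214 27529303 false [.plain 1071 11352135 true, .edge 1085 1071 false])) (.leaf .dfn)))
(.node 2 (.node 1 (.leaf (.mov 221 17043521 false [.edge 1087 0 true])) (.leaf (.mov 211 13510735 false [.plain 1059 19818563 true, .edge 1087 1019 false]))) (.node 1 (.leaf .dfn) (.node 1 (.leaf .dfn) (.leaf (.mov 223 17043521 false [.edge 1091 0 true])))))))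
(.node 9 (.node 4 (.node 2 (.node 1 (.leaf .dfn) (.leaf (.mov 224 17043521 true [.edge 1093 0 true]))) (.node 1 (.leaf (.rel 46 11472965 3 [.edge 1053 156 false, .edge 1087 139 false, .mul, .edge 1090 459 false, .mul, .edge 1091 482 false, .mul, .edge 1093 522 false, .mul])) (.leaf (.eq 224 17043521 [] [.plain 1095 27881537 true]))))
(.node 2 (.node 1 (.leaf (.eqT 46 19085399 true [.plain 1096 19224665 true, .edge 1094 2 false] [.edge 1053 0 false])) (.leaf (.eq 223 17043521 [] [.plain 1097 23666765 false]))) (.node 1 (.leaf (.mov 211 17043521 false [.plain 1098 17459269 true, .edge 1092 1504 false])) (.node 1 (.leaf (.mov 211 27529303 false [.plain 1059 17061965 true, .edge 1099 559 false])) (.leaf .dfn)))))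
(.node 4 (.node 2 (.node 1 (.leaf (.mov 228 17043521 false [.edge 1101 0 true])) (.leaf .dfn)) (.node 1 (.leaf (.mov 229 17043521 false [.edge 1103 0 true])) (.leaf .dfn)))
(.node 2 (.node 1 (.leaf (.mov 230 17043521 false [.edge 1105 0 true])) (.leaf (.rel 46 9324627 4 [.edge 1057 996 false, .edge 1089 1410 false, .mul, .edge 1101 1039 false, .mul, .edge 1103 1467 false, .mul, .edge 1105 672 false, .mul]))) (.node 1 (.leaf (.eq 230 17043521 [] [.plain 1107 4939857 true])) (.node 1 (.leaf (.eqT 46 10971209 false [.plain 1108 17195075 true, .edge 1106 36 false] [.edge 451 0 false])) (.leaf (.eq 229 17043521 [] [.plain 1109 15343705 false]))))))))))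

/-- The reasons. -/
def caseDFullSrcLLRR : Tab Src := .node 139 caseDFullSrcLLRRL caseDFullSrcLLRRR

/-- The reasons. -/
def caseDFullSrcLLR : Tab Src := .node 278 caseDFullSrcLLRL caseDFullSrcLLRR

/-- The reasons. -/
def caseDFullSrcLL : Tab Src := .node 555 caseDFullSrcLLL caseDFullSrcLLR

/-- The reasons. -/
def caseDFullSrcLRLLL : Tab Src :=
(.node 69 (.node 34 (.node 17 (.node 8 (.node 4 (.node 2 (.node 1 (.leaf (.eqT 69 17043521 false [.plain 1110 17133659 true, .edge 1104 1026 false] [.edge 422 0 false])) (.leaf (.eq 228 17043521 [] [.plain 1111 28264529 false]))) (.node 1 (.leaf (.eqT 52 13310023 false [.plain 1112 17176657 true, .edge 1102 1024 false] [.edge 391 0 false])) (.leaf (.eq 221 17043521 [] [.plain 1113 23621709 false]))))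
(.node 2 (.node 1 (.leaf (.eqT 66 29904967 false [.plain 1114 17119299 true, .edge 1088 423 false] [.edge 420 0 false])) (.leaf (.eqT 66 4808797 false [.plain 1114 19877975 true, .edge 1090 665 false] [.edge 562 0 false]))) (.node 1 (.leaf (.eq 222 17043521 [] [.plain 1116 17000525 false])) (.leaf (.eq 211 17043521 [] [.plain 1115 19691609 false])))))
(.node 4 (.node 2 (.node 1 (.leaf (.eqT 52 6776923 false [.plain 1118 23210065 true, .edge 1100 1253 false] [.edge 421 0 false])) (.leaf (.eq 222 19542109 [.plain 1117 19542109 false] [.plain 1119 17043521 false]))) (.node 1 (.leaf (.eq 95 17043521 [] [.plain 1120 23480389 false])) (.leaf (.mov 69 7292999 false [.plain 1121 17125459 true, .edge 547 1470 false]))))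
(.node 2 (.node 1 (.leaf (.mov 69 19085399 false [.plain 1121 13463627 true, .edge 548 988 false])) (.leaf .dfn)) (.node 1 (.leaf .dfn) (.node 1 (.leaf (.mov 232 17043521 false [.edge 1125 0 true])) (.leaf .dfn))))))
(.node 8 (.node 4 (.node 2 (.node 1 (.leaf (.mov 233 17043521 false [.edge 1127 0 true])) (.leaf (.rel 46 31791191 5 [.edge 1063 1406 false, .edge 1082 466 false, .mul, .edge 1124 1128 false, .mul, .edge 1125 28 false, .mul, .edge 1127 1215 false, .mul]))) (.node 1 (.leaf (.eq 233 17043521 [] [.plain 1129 25514071 true])) (.leaf (.eqT 46 32125001 false [.plain 1130 17463373 true, .edge 1128 76 false] [.edge 446 0 false]))))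
(.node 2 (.node 1 (.leaf (.eq 232 17043521 [] [.plain 1131 8601675 false])) (.leaf (.mov 69 9056345 false [.plain 1132 16920671 true, .edge 1126 539 false]))) (.node 1 (.leaf (.mov 69 6776923 false [.plain 428 6711389 true, .edge 1133 1462 false])) (.leaf (.mov 69 4808797 false [.plain 430 4677727 true, .edge 1134 35 false])))))
(.node 4 (.node 2 (.node 1 (.leaf (.mov 69 29904967 false [.plain 428 29970523 true, .edge 1135 1127 false])) (.leaf (.mov 69 13510735 false [.plain 431 13117505 true, .edge 1136 229 false]))) (.node 1 (.leaf (.mov 69 27529303 false [.plain 428 27594829 true, .edge 1137 1429 false])) (.leaf (.mov 69 23928925 false [.plain 430 23208031 true, .edge 1138 354 false]))))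
(.node 2 (.node 1 (.leaf (.eqT 69 6776923 false [.plain 429 6711365 true, .edge 1133 590 false] [.edge 1134 0 false])) (.leaf (.eq 231 17043521 [] [.plain 1140 13197377 false]))) (.node 1 (.leaf .dfn) (.node 1 (.leaf (.mov 234 17043521 false [.edge 1142 0 true])) (.leaf (.mov 49 13310023 false [.plain 334 15343685 true, .edge 1142 157 false]))))))))
(.node 17 (.node 8 (.node 4 (.node 2 (.node 1 (.leaf (.mov 49 9056345 false [.plain 334 11212891 true, .edge 1144 1076 false])) (.leaf (.mov 49 23928925 false [.plain 334 21786719 true, .edge 1145 205 false]))) (.node 1 (.leaf (.eqT 49 23928925 false [.plain 335 21375069 true, .edge 1142 1288 false] [.edge 1146 0 false])) (.leaf (.eqT 49 13310023 false [.plain 336 13375561 true, .edge 1142 993 false] [.edge 1144 0 false]))))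
(.node 2 (.node 1 (.leaf (.eq 234 17043521 [] [.plain 1148 16986197 false])) (.leaf (.eq 234 17043521 [] [.plain 1147 17127509 false]))) (.node 1 (.leaf .dfn) (.leaf (.mov 240 17043521 false [.edge 1151 0 true])))))
(.node 4 (.node 2 (.node 1 (.leaf .dfn) (.leaf (.mov 241 17043521 true [.edge 1153 0 true]))) (.node 1 (.leaf (.rel 49 17584217 2 [.edge 317 829 false, .edge 59 474 false, .mul, .edge 542 675 false, .mul, .edge 1151 800 false, .mul, .edge 1153 747 false, .mul])) (.leaf (.eq 241 17043521 [] [.plain 1155 17649749 true]))))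
(.node 2 (.node 1 (.leaf (.eqT 49 17059919 true [.plain 1156 17125443 true, .edge 1154 845 false] [.edge 337 0 false])) (.leaf (.eq 240 17111135 [] [.plain 1157 17043521 false, .plain 343 17043521 false]))) (.node 1 (.leaf (.eq 240 17043521 [] [.plain 1158 17111135 false])) (.node 1 (.leaf (.eqT 49 17043521 false [.plain 1159 17111105 true, .edge 1152 458 false] [.edge 366 0 false])) (.leaf (.eq 94 17043521 [] [.plain 1160 25317459 false])))))))
(.node 9 (.node 4 (.node 2 (.node 1 (.leaf (.mov 56 6776923 false [.plain 1161 21575757 true, .edge 546 30 false])) (.leaf (.mov 56 13310023 false [.plain 374 13375561 true, .edge 1162 993 false]))) (.node 1 (.leaf (.mov 56 23928925 false [.plain 375 23490635 true, .edge 1163 1106 false])) (.leaf .dfn)))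
(.node 2 (.node 1 (.leaf (.mov 49 13510735 true [.plain 333 13113409 true, .edge 1165 1405 false])) (.leaf (.mov 49 13310023 true [.plain 334 15343685 true, .edge 1166 1149 false]))) (.node 1 (.leaf (.mov 49 31801425 true [.plain 333 32127053 true, .edge 1167 1177 false])) (.node 1 (.leaf (.mov 49 32131155 true [.plain 335 29704275 true, .edge 1168 12 false])) (.leaf (.mov 49 29904967 true [.plain 333 29761625 true, .edge 1169 44 false]))))))
(.node 4 (.node 2 (.node 1 (.leaf (.mov 49 4808797 true [.plain 334 6846559 true, .edge 1170 651 false])) (.leaf (.mov 49 32125001 true [.plain 333 31803477 true, .edge 1171 538 false]))) (.node 1 (.leaf (.eqT 49 13510735 true [.plain 334 15667277 true, .edge 1167 186 false] [.edge 1166 0 false])) (.leaf (.eqT 49 31801425 true [.plain 334 29634643 true, .edge 1165 1422 false] [.edge 1168 0 false]))))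
(.node 2 (.node 1 (.leaf (.eqT 49 32125001 true [.plain 335 29702217 true, .edge 1165 260 false] [.edge 1172 0 false])) (.leaf (.eqT 49 13310023 true [.plain 336 13375561 true, .edge 1165 1250 false] [.edge 1167 0 false]))) (.node 1 (.leaf (.eq 242 17043521 [] [.plain 1176 9244745 false])) (.node 1 (.leaf (.eq 242 17043521 [] [.plain 1175 17053771 false])) (.leaf (.eq 242 17043521 [] [.plain 1174 19140681 false])))))))))
(.node 35 (.node 17 (.node 8 (.node 4 (.node 2 (.node 1 (.leaf (.eq 242 17043521 [] [.plain 1173 25448539 false])) (.leaf .dfn)) (.node 1 (.leaf (.mov 242 13510735 false [.plain 1177 15605839 true, .edge 1181 567 false])) (.leaf (.eqT 242 13510735 false [.plain 1178 13576271 true, .edge 1181 514 false] [.edge 1182 0 false]))))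
(.node 2 (.node 1 (.leaf (.eqT 242 27529303 false [.plain 1180 25499733 true, .edge 1181 458 false] [.edge 1181 0 false])) (.leaf (.eq 243 17043521 [] [.plain 1184 17059905 false]))) (.node 1 (.leaf (.eq 243 17043521 [] [.plain 1183 17260635 false])) (.leaf .dfn))))
(.node 4 (.node 2 (.node 1 (.leaf (.mov 247 17043521 false [.edge 1187 0 true])) (.leaf (.mov 242 17043521 false [.plain 1177 19142721 true, .edge 1187 872 false]))) (.node 1 (.leaf (.eqT 242 19085399 false [.plain 1178 19019863 true, .edge 1187 1259 false] [.edge 1187 0 false])) (.leaf (.eqT 242 17043521 false [.plain 1179 19140675 true, .edge 1187 1385 false] [.edge 1189 0 false]))))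
(.node 2 (.node 1 (.leaf (.eqT 242 17043521 false [.plain 1180 19208259 true, .edge 1187 502 false] [.edge 1189 0 false])) (.leaf (.eq 247 17043521 [] [.plain 1192 17702999 false]))) (.node 1 (.leaf (.eq 247 17043521 [] [.plain 1191 17719383 false])) (.node 1 (.leaf (.eq 247 17043521 [] [.plain 1190 17059921 false])) (.leaf .dfn))))))
(.node 9 (.node 4 (.node 2 (.node 1 (.leaf (.mov 256 17043521 false [.edge 1196 0 true])) (.leaf (.mov 247 32125001 false [.plain 1193 32131145 true, .edge 1196 402 false]))) (.node 1 (.leaf (.eqT 247 7292999 false [.plain 1194 7096385 true, .edge 1196 1298 false] [.edge 1196 0 false])) (.leaf (.eqT 247 32125001 false [.plain 1195 32131159 true, .edge 1196 866 false] [.edge 1198 0 false]))))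
(.node 2 (.node 1 (.leaf (.eq 256 17043521 [] [.plain 1200 16998477 false])) (.leaf (.eq 256 17043521 [] [.plain 1199 17174615 false]))) (.node 1 (.leaf .dfn) (.node 1 (.leaf (.mov 257 17043521 false [.edge 1203 0 true])) (.leaf .dfn)))))
(.node 4 (.node 2 (.node 1 (.leaf (.mov 258 17043521 false [.edge 1205 0 true])) (.leaf (.rel 49 13385809 4 [.edge 1168 1432 false, .edge 1189 1406 false, .mul, .edge 1196 218 false, .mul, .edge 1203 979 false, .mul, .edge 1205 574 false, .mul]))) (.node 1 (.leaf (.eq 258 17043521 [] [.plain 1207 9252947 true])) (.leaf (.eqT 49 4808797 false [.plain 1208 17586263 true, .edge 1206 1288 false] [.edge 346 0 false]))))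
(.node 2 (.node 1 (.leaf (.eq 257 17043521 [] [.plain 1209 13310017 false])) (.leaf (.mov 52 29904967 false [.plain 1210 17567839 true, .edge 1204 588 false]))) (.node 1 (.leaf (.mov 52 13510735 false [.plain 352 13117519 true, .edge 1211 1194 false])) (.node 1 (.leaf (.mov 52 27529303 false [.plain 353 27596889 true, .edge 1212 653 false])) (.leaf (.mov 52 4808797 false [.plain 352 4939869 true, .edge 1213 1355 false]))))))))
(.node 17 (.node 8 (.node 4 (.node 2 (.node 1 (.leaf (.mov 52 10971209 false [.plain 354 11087965 true, .edge 1214 860 false])) (.leaf (.mov 52 32125001 false [.plain 353 32192595 true, .edge 1215 1158 false]))) (.node 1 (.leaf .dfn) (.leaf (.mov 259 17043521 false [.edge 1217 0 true]))))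
(.node 2 (.node 1 (.leaf (.mov 242 29904967 false [.plain 1178 29970503 true, .edge 1217 1502 false])) (.leaf (.eqT 242 29904967 false [.plain 1177 32004167 true, .edge 1219 1281 false] [.edge 1219 0 false]))) (.node 1 (.leaf (.eqT 242 4808797 false [.plain 1179 6905951 true, .edge 1217 520 false] [.edge 1217 0 false])) (.leaf (.eqT 242 29904967 false [.plain 1180 32069701 true, .edge 1217 358 false] [.edge 1219 0 false])))))
(.node 4 (.node 2 (.node 1 (.leaf (.eq 259 17043521 [] [.plain 1222 16939079 false])) (.leaf (.eq 259 17043521 [] [.plain 1221 17584193 false]))) (.node 1 (.leaf (.eq 259 17043521 [] [.plain 1220 16939095 false])) (.leaf .dfn)))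
(.node 2 (.node 1 (.leaf (.mov 260 17043521 false [.edge 1226 0 true])) (.leaf (.mov 259 7292999 false [.plain 1223 7295041 true, .edge 1226 817 false]))) (.node 1 (.leaf (.eqT 259 7292999 false [.plain 1224 7098439 true, .edge 1226 246 false] [.edge 1228 0 false])) (.node 1 (.leaf (.eqT 259 7292999 false [.plain 1225 7295047 true, .edge 1226 144 false] [.edge 1228 0 false])) (.leaf (.eq 260 17043521 [] [.plain 1230 16984149 false])))))))
(.node 9 (.node 4 (.node 2 (.node 1 (.leaf (.eq 260 17043521 [] [.plain 1229 17770567 false])) (.leaf .dfn)) (.node 1 (.leaf (.mov 261 17043521 false [.edge 1233 0 true])) (.leaf (.eqT 260 29904967 false [.plain 1231 29894731 true, .edge 1233 1513 false] [.edge 1233 0 false]))))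
(.node 2 (.node 1 (.leaf (.eq 261 17043521 [] [.plain 1235 17053761 false])) (.leaf .dfn)) (.node 1 (.leaf (.mov 262 17043521 false [.edge 1237 0 true])) (.node 1 (.leaf (.rel 49 12935261 5 [.edge 1171 22 false, .edge 1217 895 false, .mul, .edge 1226 117 false, .mul, .edge 1233 161 false, .mul, .edge 1237 29 false, .mul])) (.leaf (.eq 262 17043521 [] [.plain 1239 4945999 true]))))))
(.node 4 (.node 2 (.node 1 (.leaf (.mov 49 7292999 false [.plain 1240 16988229 true, .edge 1238 804 false])) (.leaf (.mov 49 10971209 false [.plain 334 8800331 true, .edge 1241 1388 false]))) (.node 1 (.leaf (.mov 49 31801425 false [.plain 333 32127053 true, .edge 1242 907 false])) (.leaf (.eqT 49 31801425 false [.plain 335 30034001 true, .edge 1241 383 false] [.edge 1243 0 false]))))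
(.node 2 (.node 1 (.leaf (.eqT 49 7292999 false [.plain 336 7161923 true, .edge 1241 1519 false] [.edge 1241 0 false])) (.leaf (.eq 261 17043521 [] [.plain 1245 10899549 false]))) (.node 1 (.leaf (.eq 261 17043521 [] [.plain 1244 11165781 false])) (.node 1 (.leaf (.mov 261 19085399 false [.plain 1247 16986191 true, .edge 1234 1214 false])) (.leaf (.mov 261 13310023 false [.plain 1246 19619919 true, .edge 1248 630 false]))))))))))

/-- The reasons. -/
def caseDFullSrcLRLLR : Tab Src :=
(.node 69 (.node 34 (.node 17 (.node 8 (.node 4 (.node 2 (.node 1 (.leaf (.mov 261 7292999 false [.plain 1236 7288903 true, .edge 1249 413 false])) (.leaf (.mov 261 13510735 false [.plain 1246 21907531 true, .edge 1250 1274 false]))) (.node 1 (.leaf .dfn) (.leaf .dfn)))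
(.node 2 (.node 1 (.leaf (.mov 264 17043521 false [.edge 1253 0 true])) (.leaf .dfn)) (.node 1 (.leaf (.mov 265 17043521 false [.edge 1255 0 true])) (.leaf (.rel 49 32002131 5 [.edge 1165 335 false, .edge 1182 1133 false, .mul, .edge 1252 437 false, .mul, .edge 1253 1282 false, .mul, .edge 1255 726 false, .mul])))))
(.node 4 (.node 2 (.node 1 (.leaf (.eq 265 17043521 [] [.plain 1257 9254977 true])) (.leaf (.eqT 49 9056345 false [.plain 1258 17446991 true, .edge 1256 993 false] [.edge 1145 0 false]))) (.node 1 (.leaf (.eq 264 17043521 [] [.plain 1259 12939329 false])) (.leaf (.mov 234 13510735 false [.plain 1260 17651793 true, .edge 1254 430 false]))))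
(.node 2 (.node 1 (.leaf (.mov 234 6776923 false [.plain 1149 7041113 true, .edge 1261 1001 false])) (.leaf (.mov 234 29904967 false [.plain 1149 29564997 true, .edge 1262 492 false]))) (.node 1 (.leaf (.mov 234 23928925 false [.plain 1149 23623775 true, .edge 1263 1140 false])) (.node 1 (.leaf (.mov 234 4808797 false [.plain 1150 4546631 true, .edge 1264 563 false])) (.leaf (.mov 234 13310023 false [.plain 1149 13183045 true, .edge 1265 573 false])))))))
(.node 8 (.node 4 (.node 2 (.node 1 (.leaf .dfn) (.leaf (.mov 268 17043521 true [.edge 1267 0 true]))) (.node 1 (.leaf (.mov 52 17059919 true [.plain 353 17127505 true, .edge 1267 496 false])) (.leaf (.mov 52 10971209 true [.plain 354 11087965 true, .edge 1269 358 false]))))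
(.node 2 (.node 1 (.leaf (.mov 52 11495495 true [.plain 353 11427905 true, .edge 1270 337 false])) (.leaf (.eqT 52 17059919 true [.plain 354 16984147 true, .edge 1270 1450 false] [.edge 1269 0 false]))) (.node 1 (.leaf (.eq 268 17043521 [] [.plain 1272 17633347 false])) (.leaf .dfn))))
(.node 4 (.node 2 (.node 1 (.leaf (.mov 52 32131155 true [.plain 352 31803475 true, .edge 1274 1233 false])) (.leaf (.mov 52 13510735 true [.plain 353 13574235 true, .edge 1275 1334 false]))) (.node 1 (.leaf (.mov 52 4808797 true [.plain 352 4939869 true, .edge 1276 923 false])) (.leaf (.mov 52 4544593 true [.plain 354 4726861 true, .edge 1277 139 false]))))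
(.node 2 (.node 1 (.leaf (.mov 52 32125001 true [.plain 352 31797321 true, .edge 1278 869 false])) (.leaf (.mov 52 29904967 true [.plain 353 29972545 true, .edge 1278 1319 false]))) (.node 1 (.leaf (.mov 52 13310023 true [.plain 352 13441095 true, .edge 1280 1512 false])) (.node 1 (.leaf (.eqT 52 31801425 true [.plain 354 31858763 true, .edge 1275 145 false] [.edge 1274 0 false])) (.leaf (.eqT 52 31801425 true [.plain 353 31737929 true, .edge 1274 449 false] [.edge 1274 0 false]))))))))
(.node 17 (.node 8 (.node 4 (.node 2 (.node 1 (.leaf (.eq 271 17043521 [] [.plain 1283 19148867 false])) (.leaf (.eq 271 17043521 [] [.plain 1282 27531339 false]))) (.node 1 (.leaf .dfn) (.leaf (.mov 268 4808797 false [.plain 1273 4943961 true, .edge 1286 80 false]))))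
(.node 2 (.node 1 (.leaf .dfn) (.leaf .dfn)) (.node 1 (.leaf (.mov 276 17043521 false [.edge 1289 0 true])) (.leaf .dfn))))
(.node 4 (.node 2 (.node 1 (.leaf (.mov 277 17043521 true [.edge 1291 0 true])) (.leaf (.rel 52 8933459 2 [.edge 1267 67 false, .edge 1286 1409 false, .mul, .edge 1288 45 false, .mul, .edge 1289 832 false, .mul, .edge 1291 1483 false, .mul]))) (.node 1 (.leaf (.eq 277 17043521 [] [.plain 1293 25507919 true])) (.leaf (.eqT 52 17059919 true [.plain 1294 27865177 true, .edge 1292 711 false] [.edge 1269 0 false]))))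
(.node 2 (.node 1 (.leaf (.eq 276 17043521 [] [.plain 1295 6973509 false])) (.leaf (.mov 268 13510735 false [.plain 1296 17446991 true, .edge 1290 993 false]))) (.node 1 (.leaf (.mov 268 29904967 false [.plain 1273 29761627 true, .edge 1297 241 false])) (.node 1 (.leaf .dfn) (.leaf (.eqT 271 4808797 false [.plain 1284 6891615 true, .edge 1299 1357 false] [.edge 1299 0 false])))))))
(.node 9 (.node 4 (.node 2 (.node 1 (.leaf (.eqT 271 4808797 false [.plain 1285 21588045 true, .edge 1299 486 false] [.edge 1299 0 false])) (.leaf (.eq 278 17043521 [] [.plain 1301 17635409 false]))) (.node 1 (.leaf (.eq 278 17043521 [] [.plain 1300 17125459 false])) (.leaf .dfn)))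
(.node 2 (.node 1 (.leaf (.mov 282 17043521 false [.edge 1304 0 true])) (.leaf .dfn)) (.node 1 (.leaf (.mov 283 17043521 false [.edge 1306 0 true])) (.node 1 (.leaf .dfn) (.leaf (.mov 284 17043521 true [.edge 1308 0 true]))))))
(.node 4 (.node 2 (.node 1 (.leaf (.rel 52 9388123 3 [.edge 1270 1513 false, .edge 1287 633 false, .mul, .edge 1304 997 false, .mul, .edge 1306 95 false, .mul, .edge 1308 1245 false, .mul])) (.leaf (.eq 284 17043521 [] [.plain 1310 17135681 true]))) (.node 1 (.leaf (.eqT 52 10971209 true [.plain 1311 27537499 true, .edge 1309 284 false] [.edge 1270 0 false])) (.leaf (.eq 283 17043521 [] [.plain 1312 13183051 false]))))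
(.node 2 (.node 1 (.leaf (.eqT 268 29904967 false [.plain 1313 17522781 true, .edge 1307 1242 false] [.edge 1298 0 false])) (.leaf (.eq 282 17043521 [] [.plain 1314 19798103 false]))) (.node 1 (.leaf (.mov 275 29904967 false [.plain 1315 17524819 true, .edge 1305 1513 false])) (.node 1 (.leaf .dfn) (.leaf .dfn))))))))
(.node 35 (.node 17 (.node 8 (.node 4 (.node 2 (.node 1 (.leaf (.mov 289 17043521 false [.edge 1318 0 true])) (.leaf .dfn)) (.node 1 (.leaf (.mov 290 17043521 false [.edge 1320 0 true])) (.leaf .dfn)))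
(.node 2 (.node 1 (.leaf (.mov 291 17043521 false [.edge 1322 0 true])) (.leaf .dfn)) (.node 1 (.leaf (.mov 292 17043521 false [.edge 1324 0 true])) (.leaf (.rel 52 17178717 4 [.edge 1271 480 false, .edge 1318 1483 false, .mul, .edge 1320 229 false, .mul, .edge 1322 1328 false, .mul, .edge 1324 533 false, .mul])))))
(.node 4 (.node 2 (.node 1 (.leaf (.eq 292 17043521 [] [.plain 1326 15605849 true])) (.leaf (.eqT 52 32125001 false [.plain 1327 17567819 true, .edge 1325 162 false] [.edge 1216 0 false]))) (.node 1 (.leaf (.eq 291 17043521 [] [.plain 1328 27791443 false])) (.leaf (.eqT 256 17043521 false [.plain 1329 16986205 true, .edge 1323 1324 false] [.edge 1197 0 false]))))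
(.node 2 (.node 1 (.leaf (.eq 290 17043521 [] [.plain 1330 5132377 false])) (.leaf (.eqT 247 17043521 false [.plain 1331 17111115 true, .edge 1321 854 false] [.edge 1188 0 false]))) (.node 1 (.leaf (.eq 289 17043521 [] [.plain 1332 15026241 false])) (.node 1 (.leaf (.eqT 242 13510735 false [.plain 1333 17524829 true, .edge 1319 1526 false] [.edge 1182 0 false])) (.leaf (.eq 268 17043521 [] [.plain 1334 17117273 false])))))))
(.node 9 (.node 4 (.node 2 (.node 1 (.leaf (.mov 243 19085399 true [.plain 1335 19740763 true, .edge 1268 1066 false])) (.leaf (.eqT 243 6776923 false [.plain 1335 6907971 true, .edge 1287 393 false] [.edge 1252 0 false]))) (.node 1 (.leaf (.mov 243 13310023 false [.plain 1335 13506627 true, .edge 1297 731 false])) (.leaf (.mov 243 9056345 false [.plain 1185 9048153 true, .edge 1338 636 false]))))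
(.node 2 (.node 1 (.leaf (.eq 274 17043521 [] [.plain 1337 16986203 false])) (.leaf (.mov 263 11495495 true [.plain 1340 10711113 true, .edge 1288 428 false]))) (.node 1 (.leaf .dfn) (.node 1 (.leaf (.mov 271 27529303 false [.plain 1284 25440341 true, .edge 1342 381 false])) (.leaf (.mov 271 17043521 false [.plain 1285 27531339 true, .edge 1343 40 false]))))))
(.node 4 (.node 2 (.node 1 (.leaf (.mov 271 19085399 false [.plain 1284 16982101 true, .edge 1344 1269 false])) (.leaf .dfn)) (.node 1 (.leaf (.mov 294 17043521 false [.edge 1346 0 true])) (.leaf .dfn)))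
(.node 2 (.node 1 (.leaf (.mov 295 17043521 false [.edge 1348 0 true])) (.leaf .dfn)) (.node 1 (.leaf (.mov 296 17043521 false [.edge 1350 0 true])) (.node 1 (.leaf (.rel 52 24057945 5 [.edge 1279 521 false, .edge 1342 918 false, .mul, .edge 1346 943 false, .mul, .edge 1348 845 false, .mul, .edge 1350 525 false, .mul])) (.leaf (.eq 296 17043521 [] [.plain 1352 9252935 true]))))))))
(.node 17 (.node 8 (.node 4 (.node 2 (.node 1 (.leaf (.eqT 52 23928925 false [.plain 1353 17780825 true, .edge 1351 812 false] [.edge 423 0 false])) (.leaf (.eq 295 17043521 [] [.plain 1354 4749391 false]))) (.node 1 (.leaf (.eqT 69 4808797 false [.plain 1355 17174603 true, .edge 1349 1331 false] [.edge 1135 0 false])) (.leaf (.eq 294 17043521 [] [.plain 1356 11485273 false]))))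
(.node 2 (.node 1 (.leaf (.mov 231 27529303 false [.plain 1357 17240145 true, .edge 1347 1425 false])) (.leaf (.mov 231 10971209 false [.plain 1141 29845575 true, .edge 1358 1236 false]))) (.node 1 (.leaf .dfn) (.leaf (.mov 297 17043521 false [.edge 1360 0 true])))))
(.node 4 (.node 2 (.node 1 (.leaf (.eqT 243 19085399 false [.plain 1186 19099717 true, .edge 1360 996 false] [.edge 1360 0 false])) (.leaf (.eq 297 17043521 [] [.plain 1362 17633363 false]))) (.node 1 (.leaf .dfn) (.leaf (.mov 298 17043521 false [.edge 1364 0 true]))))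
(.node 2 (.node 1 (.leaf (.mov 297 13310023 false [.plain 1363 13375561 true, .edge 1364 993 false])) (.leaf .dfn)) (.node 1 (.leaf (.mov 299 17043521 false [.edge 1367 0 true])) (.node 1 (.leaf .dfn) (.leaf (.mov 300 17043521 false [.edge 1369 0 true])))))))
(.node 9 (.node 4 (.node 2 (.node 1 (.leaf (.rel 52 19165273 5 [.edge 1267 459 false, .plain 1335 19216457 false, .edge 1360 1296 false, .mul, .edge 1364 1270 false, .mul, .edge 1367 274 false, .mul, .edge 1369 1139 false, .mul])) (.leaf (.eq 300 17043521 [] [.plain 1371 6957125 true]))) (.node 1 (.leaf (.eqT 52 13510735 false [.plain 1372 17641553 true, .edge 1370 737 false] [.edge 1212 0 false])) (.leaf (.eq 299 17043521 [] [.plain 1373 6910039 false]))))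
(.node 2 (.node 1 (.leaf (.mov 256 31801425 false [.plain 1374 17444935 true, .edge 1368 1367 false])) (.leaf .dfn)) (.node 1 (.leaf (.mov 56 31801425 true [.plain 374 32194637 true, .edge 1376 413 false])) (.node 1 (.leaf (.mov 56 13310023 true [.plain 375 13443147 true, .edge 1377 1054 false])) (.leaf (.mov 56 4544593 true [.plain 374 4610135 true, .edge 1378 640 false]))))))
(.node 4 (.node 2 (.node 1 (.leaf (.mov 56 4808797 true [.plain 377 4814937 true, .edge 1379 246 false])) (.leaf (.mov 56 32131155 true [.plain 374 31737935 true, .edge 1380 250 false]))) (.node 1 (.leaf (.mov 56 29904967 true [.plain 375 29763675 true, .edge 1381 200 false])) (.leaf (.eqT 56 13510735 true [.plain 376 13576269 true, .edge 1376 1309 false] [.edge 1376 0 false]))))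
(.node 2 (.node 1 (.leaf (.eqT 56 29904967 true [.plain 378 29761607 true, .edge 1376 1298 false] [.edge 1382 0 false])) (.leaf (.eqT 56 13310023 true [.plain 379 13312069 true, .edge 1376 205 false] [.edge 1378 0 false]))) (.node 1 (.leaf (.eq 303 17043521 [] [.plain 1385 11040857 false])) (.node 1 (.leaf (.eq 303 17043521 [] [.plain 1384 17117267 false])) (.leaf (.eq 303 17043521 [] [.plain 1383 19208259 false]))))))))))

/-- The reasons. -/
def caseDFullSrcLRLL : Tab Src := .node 139 caseDFullSrcLRLLL caseDFullSrcLRLLR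

/-- The reasons. -/
def caseDFullSrcLRLRL : Tab Src :=
(.node 69 (.node 34 (.node 17 (.node 8 (.node 4 (.node 2 (.node 1 (.leaf .dfn) (.leaf .dfn)) (.node 1 (.leaf (.mov 303 17043521 false [.plain 1386 19206211 true, .edge 1390 904 false])) (.leaf (.eqT 303 17043521 false [.plain 1387 19142721 true, .edge 1390 872 false] [.edge 1391 0 false]))))
(.node 2 (.node 1 (.leaf (.eqT 303 17043521 false [.plain 1388 19208259 true, .edge 1390 502 false] [.edge 1391 0 false])) (.leaf (.eq 323 17043521 [] [.plain 1393 17702999 false]))) (.node 1 (.leaf (.eq 323 17043521 [] [.plain 1392 17178695 false])) (.leaf .dfn))))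
(.node 4 (.node 2 (.node 1 (.leaf (.mov 323 32125001 false [.plain 1395 31803465 true, .edge 1396 667 false])) (.leaf (.eqT 323 32125001 false [.plain 1394 31797321 true, .edge 1397 1304 false] [.edge 1397 0 false]))) (.node 1 (.leaf (.eq 324 17043521 [] [.plain 1398 16984155 false])) (.leaf .dfn)))
(.node 2 (.node 1 (.leaf .dfn) (.leaf (.mov 328 17043521 false [.edge 1401 0 true]))) (.node 1 (.leaf .dfn) (.node 1 (.leaf (.mov 329 17043521 false [.edge 1403 0 true])) (.leaf (.rel 56 23926853 5 [.edge 1382 1423 false, .edge 1389 493 false, .mul, .edge 1400 758 false, .mul, .edge 1401 1172 false, .mul, .edge 1403 1230 false, .mul])))))))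
(.node 8 (.node 4 (.node 2 (.node 1 (.leaf (.eq 329 17043521 [] [.plain 1405 15605837 true])) (.leaf (.mov 56 29904967 false [.plain 1406 17526875 true, .edge 1404 1107 false]))) (.node 1 (.leaf (.mov 56 27529303 false [.plain 374 27791439 true, .edge 1407 812 false])) (.leaf (.mov 56 4808797 false [.plain 375 4946009 true, .edge 1408 51 false]))))
(.node 2 (.node 1 (.leaf (.mov 56 13510735 false [.plain 374 13183041 true, .edge 1409 924 false])) (.leaf (.eqT 56 29904967 false [.plain 379 29894725 true, .edge 1407 1526 false] [.edge 1407 0 false]))) (.node 1 (.leaf (.eq 328 17043521 [] [.plain 1411 29638729 false])) (.leaf (.mov 328 31801425 false [.plain 1412 17135709 true, .edge 1402 1100 false])))))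
(.node 4 (.node 2 (.node 1 (.leaf .dfn) (.leaf (.mov 330 17043521 false [.edge 1414 0 true]))) (.node 1 (.leaf .dfn) (.leaf (.mov 331 17043521 false [.edge 1416 0 true]))))
(.node 2 (.node 1 (.leaf .dfn) (.leaf (.mov 332 17043521 false [.edge 1418 0 true]))) (.node 1 (.leaf (.rel 56 15601733 5 [.edge 1378 849 false, .edge 1391 1535 false, .mul, .edge 1414 987 false, .mul, .edge 1416 1346 false, .mul, .edge 1418 1248 false, .mul])) (.node 1 (.leaf (.eq 332 17043521 [] [.plain 1420 25497695 true])) (.leaf (.eqT 56 23928925 false [.plain 1421 17768529 true, .edge 1419 1261 false] [.edge 1164 0 false]))))))))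
(.node 17 (.node 8 (.node 4 (.node 2 (.node 1 (.leaf (.eq 331 25720911 [] [.plain 1422 17043521 false, .plain 1121 17633365 false])) (.leaf (.eq 331 17043521 [] [.plain 1423 9197645 false]))) (.node 1 (.leaf (.eqT 69 6776923 false [.plain 1424 17578069 true, .edge 1417 593 false] [.edge 1134 0 false])) (.leaf (.eq 330 17043521 [] [.plain 1425 12734545 false]))))
(.node 2 (.node 1 (.leaf (.mov 231 4808797 false [.plain 1426 16922719 true, .edge 1415 429 false])) (.leaf .dfn)) (.node 1 (.leaf .dfn) (.leaf (.mov 334 17043521 false [.edge 1429 0 true])))))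
(.node 4 (.node 2 (.node 1 (.leaf (.rel 66 11225155 0 [.edge 525 648 false, .mul, .edge 1428 594 false, .mul, .edge 1429 461 false, .mul, .mul])) (.leaf (.eq 334 17043521 [] [.plain 1431 19353689 true]))) (.node 1 (.leaf (.eqT 66 31801425 false [.plain 1432 17442903 true, .edge 1430 834 false] [.edge 521 0 false])) (.leaf (.eq 333 17043521 [] [.plain 1433 19337293 false]))))
(.node 2 (.node 1 (.leaf .dfn) (.leaf (.mov 66 17059919 true [.plain 419 8943699 true, .edge 1435 1053 false]))) (.node 1 (.leaf .dfn) (.node 1 (.leaf (.mov 66 10971209 true [.plain 398 10967115 true, .edge 1437 1434 false])) (.leaf (.mov 66 11495495 true [.plain 401 11493465 true, .edge 1438 660 false])))))))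
(.node 9 (.node 4 (.node 2 (.node 1 (.leaf (.mov 66 19085399 true [.plain 398 19081301 true, .edge 1439 649 false])) (.leaf (.mov 66 4544593 true [.plain 419 10647629 true, .edge 1440 439 false]))) (.node 1 (.leaf (.mov 66 31801425 true [.plain 399 31799379 true, .edge 1441 804 false])) (.leaf (.mov 66 29904967 true [.plain 400 29894747 true, .edge 1442 44 false]))))
(.node 2 (.node 1 (.leaf (.mov 66 4808797 true [.plain 399 4812895 true, .edge 1443 74 false])) (.leaf (.eqT 66 25385043 true [.plain 399 25376849 true, .edge 1437 953 false] [.edge 1437 0 false]))) (.node 1 (.leaf (.eqT 66 25385043 true [.plain 400 25374795 true, .edge 1437 38 false] [.edge 1437 0 false])) (.node 1 (.leaf (.eq 338 17043521 [] [.plain 1446 25434185 false])) (.leaf (.eq 338 17043521 [] [.plain 1445 27537483 false]))))))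
(.node 4 (.node 2 (.node 1 (.leaf .dfn) (.leaf (.mov 339 17043521 false [.edge 1449 0 true]))) (.node 1 (.leaf (.mov 338 13510735 false [.plain 1447 17702995 true, .edge 1449 869 false])) (.leaf (.mov 338 19085399 false [.plain 1448 23273555 true, .edge 1451 1073 false]))))
(.node 2 (.node 1 (.leaf (.mov 338 27529303 false [.plain 1447 19142751 true, .edge 1452 1400 false])) (.leaf .dfn)) (.node 1 (.leaf .dfn) (.node 1 (.leaf (.mov 341 17043521 false [.edge 1455 0 true])) (.leaf .dfn))))))))
(.node 35 (.node 17 (.node 8 (.node 4 (.node 2 (.node 1 (.leaf (.mov 342 17043521 true [.edge 1457 0 true])) (.leaf (.rel 66 11212889 2 [.edge 1437 275 false, .edge 1449 79 false, .mul, .edge 1454 1189 false, .mul, .edge 1455 391 false, .mul, .edge 1457 1051 false, .mul]))) (.node 1 (.leaf (.eq 342 17043521 [] [.plain 1459 25522269 true])) (.leaf (.eqT 66 19085399 true [.plain 1460 27856963 true, .edge 1458 1466 false] [.edge 1440 0 false]))))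
(.node 2 (.node 1 (.leaf (.eq 341 17043521 [] [.plain 1461 6973513 false])) (.leaf (.eqT 338 19085399 false [.plain 1462 17109065 true, .edge 1456 23 false] [.edge 1452 0 false]))) (.node 1 (.leaf (.eq 340 17043521 [] [.plain 1463 19277917 false])) (.leaf .dfn))))
(.node 4 (.node 2 (.node 1 (.leaf (.mov 343 17043521 true [.edge 1465 0 true])) (.leaf (.mov 66 13310023 true [.plain 398 13322309 true, .edge 1465 1124 false]))) (.node 1 (.leaf (.mov 66 32131155 true [.plain 400 32127053 true, .edge 1467 1177 false])) (.leaf (.mov 66 32125001 true [.plain 398 32139339 true, .edge 1468 179 false]))))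
(.node 2 (.node 1 (.leaf (.eqT 66 32131155 true [.plain 401 32129095 true, .edge 1465 1435 false] [.edge 1468 0 false])) (.leaf (.eq 343 17043521 [] [.plain 1470 25440347 false]))) (.node 1 (.leaf .dfn) (.node 1 (.leaf (.mov 352 17043521 false [.edge 1472 0 true])) (.leaf (.eqT 338 4808797 false [.plain 1447 23685199 true, .edge 1472 1111 false] [.edge 1472 0 false])))))))
(.node 9 (.node 4 (.node 2 (.node 1 (.leaf (.eqT 338 4808797 false [.plain 1448 21571661 true, .edge 1472 1354 false] [.edge 1472 0 false])) (.leaf (.eq 352 17043521 [] [.plain 1475 17569875 false]))) (.node 1 (.leaf (.eq 352 17043521 [] [.plain 1474 17127505 false])) (.leaf .dfn)))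
(.node 2 (.node 1 (.leaf (.mov 353 17043521 false [.edge 1478 0 true])) (.leaf (.eqT 352 19085399 false [.plain 1476 19542087 true, .edge 1478 1531 false] [.edge 1478 0 false]))) (.node 1 (.leaf (.eqT 352 19085399 false [.plain 1477 19036229 true, .edge 1478 683 false] [.edge 1478 0 false])) (.node 1 (.leaf (.eq 353 17043521 [] [.plain 1481 17125443 false])) (.leaf (.eq 353 17043521 [] [.plain 1480 17586257 false]))))))
(.node 4 (.node 2 (.node 1 (.leaf .dfn) (.leaf (.mov 354 17043521 false [.edge 1484 0 true]))) (.node 1 (.leaf .dfn) (.leaf (.mov 355 17043521 true [.edge 1486 0 true]))))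
(.node 2 (.node 1 (.leaf (.rel 66 17717339 3 [.edge 1437 1230 false, .edge 1472 1247 false, .mul, .edge 1478 214 false, .mul, .edge 1484 1283 false, .mul, .edge 1486 1185 false, .mul])) (.leaf (.eq 355 17043521 [] [.plain 1488 27873345 true]))) (.node 1 (.leaf (.eqT 66 25385043 true [.plain 1489 17133659 true, .edge 1487 508 false] [.edge 1437 0 false])) (.node 1 (.leaf (.eq 354 17043521 [] [.plain 1490 21524565 false])) (.leaf (.mov 338 29904967 false [.plain 1491 17051739 true, .edge 1485 1145 false]))))))))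
(.node 17 (.node 8 (.node 4 (.node 2 (.node 1 (.leaf .dfn) (.leaf (.mov 356 17043521 false [.edge 1493 0 true]))) (.node 1 (.leaf .dfn) (.leaf (.mov 357 17043521 false [.edge 1495 0 true]))))
(.node 2 (.node 1 (.leaf .dfn) (.leaf (.mov 358 17043521 false [.edge 1497 0 true]))) (.node 1 (.leaf (.rel 66 11407455 4 [.edge 1440 790 false, .edge 1453 397 false, .mul, .edge 1493 1516 false, .mul, .edge 1495 785 false, .mul, .edge 1497 116 false, .mul])) (.leaf (.eq 358 17043521 [] [.plain 1499 15603785 true])))))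
(.node 4 (.node 2 (.node 1 (.leaf (.eqT 66 23928925 false [.plain 1500 17246283 true, .edge 1498 916 false] [.edge 520 0 false])) (.leaf (.eq 357 17043521 [] [.plain 1501 27994203 false]))) (.node 1 (.leaf (.mov 88 9056345 false [.plain 1502 17784923 true, .edge 1496 738 false])) (.leaf (.mov 88 27529303 false [.plain 510 27725897 true, .edge 1503 1165 false]))))
(.node 2 (.node 1 (.leaf (.mov 88 4808797 false [.plain 511 4939865 true, .edge 1504 1453 false])) (.leaf (.mov 88 13310023 false [.plain 510 13178957 true, .edge 1505 584 false]))) (.node 1 (.leaf .dfn) (.node 1 (.leaf (.mov 359 17043521 false [.edge 1507 0 true])) (.leaf .dfn))))))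
(.node 9 (.node 4 (.node 2 (.node 1 (.leaf (.mov 360 17043521 false [.edge 1509 0 true])) (.leaf .dfn)) (.node 1 (.leaf (.mov 361 17043521 false [.edge 1511 0 true])) (.leaf (.rel 66 21831745 4 [.edge 1442 7 false, .edge 1452 505 false, .mul, .edge 1507 1004 false, .mul, .edge 1509 1224 false, .mul, .edge 1511 39 false, .mul]))))
(.node 2 (.node 1 (.leaf (.eq 361 17043521 [] [.plain 1513 27531341 true])) (.leaf (.eqT 66 29904967 false [.plain 1514 17457227 true, .edge 1512 1300 false] [.edge 420 0 false]))) (.node 1 (.leaf (.eq 360 17043521 [] [.plain 1515 26157127 false])) (.node 1 (.leaf (.eqT 52 29904967 false [.plain 1516 17463373 true, .edge 1510 76 false] [.edge 1211 0 false])) (.leaf (.eq 359 17043521 [] [.plain 1517 8601675 false]))))))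
(.node 4 (.node 2 (.node 1 (.leaf (.mov 256 13510735 false [.plain 1518 16986189 true, .edge 1508 436 false])) (.leaf .dfn)) (.node 1 (.leaf (.mov 362 17043521 false [.edge 1520 0 true])) (.leaf (.mov 353 4808797 false [.plain 1482 4747359 true, .edge 1520 1110 false]))))
(.node 2 (.node 1 (.leaf (.mov 353 27529303 false [.plain 1483 27881549 true, .edge 1522 1323 false])) (.leaf (.mov 353 13510735 false [.plain 1482 13572173 true, .edge 1523 106 false]))) (.node 1 (.leaf .dfn) (.node 1 (.leaf (.mov 363 17043521 false [.edge 1525 0 true])) (.leaf .dfn)))))))))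

/-- The reasons. -/
def caseDFullSrcLRLRR : Tab Src :=
(.node 69 (.node 34 (.node 17 (.node 8 (.node 4 (.node 2 (.node 1 (.leaf (.mov 364 17043521 false [.edge 1527 0 true])) (.leaf (.rel 66 19085403 5 [.edge 1437 595 false, .edge 1492 1319 false, .mul, .edge 1520 614 false, .mul, .edge 1525 1288 false, .mul, .edge 1527 218 false, .mul]))) (.node 1 (.leaf (.eq 364 17043521 [] [.plain 1529 4939861 true])) (.leaf (.eqT 66 9056345 false [.plain 1530 16984147 true, .edge 1528 24 false] [.edge 527 0 false]))))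
(.node 2 (.node 1 (.leaf (.eq 363 17043521 [] [.plain 1531 14899287 false])) (.leaf (.eqT 88 9056345 false [.plain 1532 16918601 true, .edge 1526 1253 false] [.edge 1503 0 false]))) (.node 1 (.leaf (.eq 362 17043521 [] [.plain 1533 27545689 false])) (.leaf (.mov 356 32125001 false [.plain 1534 17768515 true, .edge 1521 944 false])))))
(.node 4 (.node 2 (.node 1 (.leaf .dfn) (.leaf (.mov 365 17043521 false [.edge 1536 0 true]))) (.node 1 (.leaf (.mov 343 13510735 false [.plain 1471 13176897 true, .edge 1536 237 false])) (.leaf .dfn)))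
(.node 2 (.node 1 (.leaf (.mov 366 17043521 false [.edge 1539 0 true])) (.leaf .dfn)) (.node 1 (.leaf (.mov 367 17043521 false [.edge 1541 0 true])) (.node 1 (.leaf .dfn) (.leaf (.mov 368 17043521 false [.edge 1543 0 true])))))))
(.node 8 (.node 4 (.node 2 (.node 1 (.leaf (.rel 66 13256779 5 [.edge 1468 406 false, .edge 1536 894 false, .mul, .edge 1539 544 false, .mul, .edge 1541 352 false, .mul, .edge 1543 1097 false, .mul])) (.leaf (.eq 368 17043521 [] [.plain 1545 6973505 true]))) (.node 1 (.leaf (.eqT 66 27529303 false [.plain 1546 17698881 true, .edge 1544 968 false] [.edge 402 0 false])) (.leaf (.eq 367 21317703 [] [.plain 1547 17043521 false, .plain 409 17043521 false]))))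
(.node 2 (.node 1 (.leaf (.eq 367 17043521 [] [.plain 1548 6641749 false])) (.leaf (.eqT 7 13310023 false [.plain 1549 17782849 true, .edge 1542 10 false] [.edge 96 0 false]))) (.node 1 (.leaf (.eq 366 17043521 [] [.plain 1550 6703189 false])) (.leaf (.eqT 14 9056345 false [.plain 1551 16918593 true, .edge 1540 443 false] [.edge 285 0 false])))))
(.node 4 (.node 2 (.node 1 (.leaf (.eq 365 17043521 [] [.plain 1552 7155797 false])) (.leaf (.eqT 43 4808797 false [.plain 1553 17592411 true, .edge 1537 128 false] [.edge 948 0 false]))) (.node 1 (.leaf (.eq 343 17043521 [] [.plain 1554 11350083 false])) (.leaf (.mov 174 4544593 true [.plain 1555 25432139 true, .edge 1466 1295 false]))))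
(.node 2 (.node 1 (.leaf (.mov 174 32125001 false [.plain 1555 7043149 true, .edge 1538 1177 false])) (.leaf (.eqT 43 4808797 false [.plain 1553 17592411 true, .edge 1557 826 true] [.edge 948 0 false]))) (.node 1 (.leaf (.eq 174 17043521 [] [.plain 1558 23423043 false])) (.node 1 (.leaf (.eqT 174 17043521 false [.plain 1559 15405151 true, .edge 958 667 false] [.edge 939 0 false])) (.leaf (.eqT 174 7292999 false [.plain 1559 15419471 true, .edge 1028 931 false] [.edge 1028 0 false]))))))))
(.node 17 (.node 8 (.node 4 (.node 2 (.node 1 (.leaf (.eq 202 17043521 [] [.plain 1561 25307205 false])) (.leaf (.eq 158 17043521 [] [.plain 1560 25313365 false]))) (.node 1 (.leaf (.mov 158 32125001 true [.plain 1563 25768001 true, .edge 871 1333 false])) (.leaf (.mov 158 13310023 false [.plain 1563 17111135 true, .edge 874 393 false]))))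
(.node 2 (.node 1 (.leaf (.eqT 158 13310023 false [.plain 873 13445195 true, .edge 1565 1353 false] [.edge 1565 0 false])) (.leaf (.mov 158 32125001 false [.plain 1563 25768001 true, .edge 1043 70 false]))) (.node 1 (.leaf (.eqT 158 27529303 false [.plain 1563 13570119 true, .edge 1044 376 false] [.edge 1044 0 false])) (.leaf (.eq 205 17043521 [] [.plain 1568 4732997 false])))))
(.node 4 (.node 2 (.node 1 (.leaf (.eq 159 17070155 [.plain 881 17070155 false] [.plain 1566 17043521 false, .plain 881 17045593 false])) (.leaf (.eq 150 17043521 [] [.plain 1570 19079235 false]))) (.node 1 (.leaf (.mov 150 25385043 true [.plain 1571 25450571 true, .edge 842 1321 false])) (.leaf (.mov 150 13310023 false [.plain 1571 13506635 true, .edge 865 354 false]))))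
(.node 2 (.node 1 (.leaf .dfn) (.leaf (.mov 385 17043521 true [.edge 1574 0 true]))) (.node 1 (.leaf (.mov 69 31801425 true [.plain 428 31735887 true, .edge 1574 781 false])) (.node 1 (.leaf (.mov 69 32131155 true [.plain 430 32262225 true, .edge 1576 693 false])) (.leaf .dfn))))))
(.node 9 (.node 4 (.node 2 (.node 1 (.leaf .dfn) (.leaf .dfn)) (.node 1 (.leaf .dfn) (.leaf (.mov 389 17043521 true [.edge 1581 0 true]))))
(.node 2 (.node 1 (.leaf (.rel 69 23683159 3 [.edge 1574 564 false, .edge 1578 1140 false, .mul, .edge 1579 854 false, .mul, .edge 1580 632 false, .mul, .edge 1581 308 false, .mul])) (.leaf (.eq 389 17043521 [] [.plain 1583 9189465 true]))) (.node 1 (.leaf (.eqT 69 4808797 true [.plain 1584 25694289 true, .edge 1582 54 false] [.edge 1574 0 false])) (.node 1 (.leaf (.eq 388 17043521 [] [.plain 1585 19353693 false])) (.leaf .dfn)))))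
(.node 4 (.node 2 (.node 1 (.leaf .dfn) (.leaf .dfn)) (.node 1 (.leaf (.mov 395 17043521 false [.edge 1589 0 true])) (.leaf (.rel 69 15212611 4 [.edge 1576 1431 false, .edge 1578 22 false, .mul, .edge 1587 860 false, .mul, .edge 1588 999 false, .mul, .edge 1589 1499 false, .mul]))))
(.node 2 (.node 1 (.leaf (.eq 395 17043521 [] [.plain 1591 6977621 true])) (.leaf (.eqT 69 23928925 false [.plain 1592 17522775 true, .edge 1590 1355 false] [.edge 1139 0 false]))) (.node 1 (.leaf (.eq 394 17043521 [] [.plain 1593 7282783 false])) (.node 1 (.leaf .dfn) (.leaf (.mov 396 17043521 false [.edge 1595 0 true])))))))))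
(.node 35 (.node 17 (.node 8 (.node 4 (.node 2 (.node 1 (.leaf .dfn) (.leaf (.mov 397 17043521 false [.edge 1597 0 true]))) (.node 1 (.leaf .dfn) (.leaf (.mov 398 17043521 false [.edge 1599 0 true]))))
(.node 2 (.node 1 (.leaf (.rel 69 15345747 5 [.edge 1577 1063 false, .edge 1578 1359 false, .mul, .edge 1595 963 false, .mul, .edge 1597 219 false, .mul, .edge 1599 33 false, .mul])) (.leaf (.eq 398 17043521 [] [.plain 1601 15605845 true]))) (.node 1 (.leaf (.eqT 69 13510735 false [.plain 1602 17004633 true, .edge 1600 616 false] [.edge 1137 0 false])) (.leaf (.eq 397 17043521 [] [.plain 1603 27408469 false])))))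
(.node 4 (.node 2 (.node 1 (.leaf (.eqT 231 4808797 false [.plain 1604 17584199 true, .edge 1598 797 false] [.edge 1427 0 false])) (.leaf (.eq 396 17043521 [] [.plain 1605 4677725 false]))) (.node 1 (.leaf (.eqT 323 7292999 false [.plain 1606 17649733 true, .edge 1596 500 false] [.edge 1396 0 false])) (.leaf (.eq 386 17043521 [] [.plain 1607 14829643 false]))))
(.node 2 (.node 1 (.leaf (.mov 324 31801425 false [.plain 1608 19605573 true, .edge 1579 925 false])) (.leaf (.mov 324 32125001 false [.plain 1608 14962755 true, .edge 1587 1208 false]))) (.node 1 (.leaf .dfn) (.node 1 (.leaf .dfn) (.leaf .dfn))))))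
(.node 9 (.node 4 (.node 2 (.node 1 (.leaf (.mov 407 17043521 true [.edge 1613 0 true])) (.leaf (.rel 74 17178707 1 [.edge 1611 1389 false, .mul, .edge 1612 93 false, .mul, .edge 1613 577 false, .mul, .mul]))) (.node 1 (.leaf (.eq 407 17043521 [] [.plain 1615 25450573 true])) (.leaf (.mov 74 11495495 true [.plain 1616 17651779 true, .edge 1614 333 false]))))
(.node 2 (.node 1 (.leaf .dfn) (.leaf (.mov 74 29904967 true [.plain 470 32055365 true, .edge 1618 916 false]))) (.node 1 (.leaf (.mov 74 32131155 true [.plain 472 31797325 true, .edge 1619 27 false])) (.node 1 (.leaf (.mov 74 32125001 true [.plain 470 30099531 true, .edge 1620 380 false])) (.leaf (.eqT 74 32125001 true [.plain 471 30027849 true, .edge 1621 1145 false] [.edge 1621 0 false]))))))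
(.node 4 (.node 2 (.node 1 (.leaf (.eqT 74 4808797 true [.plain 471 6905949 true, .edge 1618 12 false] [.edge 1618 0 false])) (.leaf (.eqT 74 32125001 true [.plain 472 31803479 true, .edge 1618 208 false] [.edge 1621 0 false]))) (.node 1 (.leaf (.eq 408 17043521 [] [.plain 1624 9271363 false])) (.leaf (.eq 408 17043521 [] [.plain 1623 17045571 false]))))
(.node 2 (.node 1 (.leaf (.eq 408 17043521 [] [.plain 1622 11300929 false])) (.leaf .dfn)) (.node 1 (.leaf (.eqT 408 17059919 true [.plain 1625 19159117 true, .edge 1628 1309 false] [.edge 1628 0 false])) (.node 1 (.leaf (.eqT 408 17059919 true [.plain 1626 17061965 true, .edge 1628 8 false] [.edge 1628 0 false])) (.leaf (.eqT 408 17059919 true [.plain 1627 19224655 true, .edge 1628 1161 false] [.edge 1628 0 false]))))))))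
(.node 17 (.node 8 (.node 4 (.node 2 (.node 1 (.leaf (.eq 409 17043521 [] [.plain 1631 19142723 false])) (.leaf (.eq 409 17043521 [] [.plain 1630 17043523 false]))) (.node 1 (.leaf (.eq 409 17043521 [] [.plain 1629 19208259 false])) (.leaf .dfn)))
(.node 2 (.node 1 (.leaf (.mov 410 17043521 true [.edge 1635 0 true])) (.leaf (.rel 74 4991053 1 [.edge 1618 992 false, .mul, .edge 1628 1214 false, .mul, .edge 1635 726 false, .mul, .mul]))) (.node 1 (.leaf (.eq 410 17043521 [] [.plain 1637 27531343 true])) (.leaf (.mov 74 31801425 true [.plain 1638 9007185 true, .edge 1636 266 false])))))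
(.node 4 (.node 2 (.node 1 (.leaf (.mov 74 4544593 true [.plain 470 6572115 true, .edge 1639 1422 false])) (.leaf (.mov 74 13510735 true [.plain 472 13113411 true, .edge 1640 1092 false]))) (.node 1 (.leaf .dfn) (.leaf (.mov 408 4808797 false [.plain 1627 6842461 true, .edge 1642 244 false]))))
(.node 2 (.node 1 (.leaf (.eqT 408 4808797 false [.plain 1625 6907999 true, .edge 1643 1259 false] [.edge 1643 0 false])) (.leaf (.eqT 408 4808797 false [.plain 1626 4810847 true, .edge 1643 409 false] [.edge 1643 0 false]))) (.node 1 (.leaf (.eq 411 17043521 [] [.plain 1645 17244251 false])) (.node 1 (.leaf (.eq 411 17043521 [] [.plain 1644 17784907 false])) (.leaf .dfn))))))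
(.node 9 (.node 4 (.node 2 (.node 1 (.leaf (.mov 409 4808797 false [.plain 1634 6842463 true, .edge 1648 845 false])) (.leaf (.eqT 409 4808797 false [.plain 1632 6907999 true, .edge 1649 1259 false] [.edge 1649 0 false]))) (.node 1 (.leaf (.eqT 409 4808797 false [.plain 1633 4808799 true, .edge 1649 8 false] [.edge 1649 0 false])) (.leaf (.eq 415 17043521 [] [.plain 1651 17768539 false]))))
(.node 2 (.node 1 (.leaf (.eq 415 17043521 [] [.plain 1650 17784923 false])) (.leaf .dfn)) (.node 1 (.leaf (.mov 415 13510735 false [.plain 1653 13113423 true, .edge 1654 717 false])) (.node 1 (.leaf (.eqT 415 13510735 false [.plain 1652 13510723 true, .edge 1655 873 false] [.edge 1655 0 false])) (.leaf (.eq 423 17043521 [] [.plain 1656 17586261 false]))))))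
(.node 4 (.node 2 (.node 1 (.leaf .dfn) (.leaf (.mov 424 17043521 false [.edge 1658 0 true]))) (.node 1 (.leaf .dfn) (.leaf (.mov 425 17043521 false [.edge 1660 0 true]))))
(.node 2 (.node 1 (.leaf (.rel 74 21438535 4 [.edge 1641 1110 false, .edge 1649 836 false, .mul, .edge 1654 459 false, .mul, .edge 1658 357 false, .mul, .edge 1660 1148 false, .mul])) (.leaf (.eq 425 17043521 [] [.plain 1662 9252951 true]))) (.node 1 (.leaf (.eqT 74 13510735 false [.plain 1663 17576007 true, .edge 1661 148 false] [.edge 485 0 false])) (.node 1 (.leaf (.eq 424 17043521 [] [.plain 1664 5058639 false])) (.leaf (.mov 84 31801425 false [.plain 1665 17463377 true, .edge 1659 729 false]))))))))))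

/-- The reasons. -/
def caseDFullSrcLRLR : Tab Src := .node 139 caseDFullSrcLRLRL caseDFullSrcLRLRR

/-- The reasons. -/
def caseDFullSrcLRL : Tab Src := .node 278 caseDFullSrcLRLL caseDFullSrcLRLR

/-- The reasons. -/
def caseDFullSrcLRRLL : Tab Src :=
(.node 69 (.node 34 (.node 17 (.node 8 (.node 4 (.node 2 (.node 1 (.leaf (.mov 84 4808797 false [.plain 490 5062739 true, .edge 1666 1202 false])) (.leaf (.mov 84 10971209 false [.plain 491 10960969 true, .edge 1666 123 false]))) (.node 1 (.leaf (.mov 84 27529303 false [.plain 490 27469889 true, .edge 1668 22 false])) (.leaf .dfn)))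
(.node 2 (.node 1 (.leaf (.mov 411 29904967 false [.plain 1647 29761607 true, .edge 1670 1075 false])) (.leaf (.eqT 411 29904967 false [.plain 1646 29892679 true, .edge 1671 1517 false] [.edge 1671 0 false]))) (.node 1 (.leaf (.eq 426 17043521 [] [.plain 1672 17592405 false])) (.leaf .dfn))))
(.node 4 (.node 2 (.node 1 (.leaf (.mov 427 17043521 false [.edge 1674 0 true])) (.leaf (.eqT 426 29904967 false [.plain 1673 29909081 true, .edge 1674 1254 false] [.edge 1674 0 false]))) (.node 1 (.leaf (.eq 427 17043521 [] [.plain 1676 17068097 false])) (.leaf .dfn)))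
(.node 2 (.node 1 (.leaf (.mov 428 17043521 false [.edge 1678 0 true])) (.leaf (.rel 74 14958663 4 [.edge 1618 1 false, .edge 1643 1018 false, .mul, .edge 1670 1205 false, .mul, .edge 1674 1173 false, .mul, .edge 1678 554 false, .mul]))) (.node 1 (.leaf (.eq 428 17043521 [] [.plain 1680 27531349 true])) (.node 1 (.leaf (.mov 74 23928925 false [.plain 1681 17641549 true, .edge 1679 157 false])) (.leaf (.mov 74 9056345 false [.plain 470 11210843 true, .edge 1682 277 false])))))))
(.node 8 (.node 4 (.node 2 (.node 1 (.leaf (.mov 74 13310023 false [.plain 470 15345733 true, .edge 1683 899 false])) (.leaf (.mov 74 6776923 false [.plain 470 4616281 true, .edge 1684 17 false]))) (.node 1 (.leaf (.eqT 74 23928925 false [.plain 472 23492683 true, .edge 1682 47 false] [.edge 1682 0 false])) (.leaf (.eq 427 17043521 [] [.plain 1686 25720903 false]))))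
(.node 2 (.node 1 (.leaf (.mov 427 32125001 false [.plain 1687 17641537 true, .edge 1675 142 false])) (.leaf (.mov 427 23928925 false [.plain 1677 23924829 true, .edge 1688 675 false]))) (.node 1 (.leaf (.mov 427 29904967 false [.plain 1687 10702921 true, .edge 1689 1530 false])) (.leaf .dfn))))
(.node 4 (.node 2 (.node 1 (.leaf .dfn) (.leaf .dfn)) (.node 1 (.leaf (.mov 431 17043521 false [.edge 1693 0 true])) (.leaf .dfn)))
(.node 2 (.node 1 (.leaf (.mov 432 17043521 false [.edge 1695 0 true])) (.leaf (.rel 74 25643077 5 [.edge 1617 561 false, .edge 1691 363 false, .mul, .edge 1692 790 false, .mul, .edge 1693 1476 false, .mul, .edge 1695 1173 false, .mul]))) (.node 1 (.leaf (.eq 432 17043521 [] [.plain 1697 11284571 true])) (.node 1 (.leaf (.eqT 74 19085399 false [.plain 1698 17256529 true, .edge 1696 268 false] [.edge 474 0 false])) (.leaf (.eq 431 17043521 [] [.plain 1699 9244743 false]))))))))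
(.node 17 (.node 8 (.node 4 (.node 2 (.node 1 (.leaf (.mov 77 10971209 false [.plain 1700 17135683 true, .edge 1694 1450 false])) (.leaf .dfn)) (.node 1 (.leaf (.mov 77 31801425 true [.plain 480 31731791 true, .edge 1702 1521 false])) (.leaf (.mov 77 32125001 true [.plain 482 31803465 true, .edge 1703 692 false]))))
(.node 2 (.node 1 (.leaf (.mov 77 13510735 true [.plain 480 13570115 true, .edge 1704 1334 false])) (.leaf (.eqT 77 13510735 true [.plain 479 13508685 true, .edge 1705 1013 false] [.edge 1705 0 false]))) (.node 1 (.leaf (.eqT 77 31801425 true [.plain 481 31797325 true, .edge 1702 27 false] [.edge 1703 0 false])) (.leaf (.eq 439 17043521 [] [.plain 1707 25450571 false])))))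
(.node 4 (.node 2 (.node 1 (.leaf (.eq 439 17043521 [] [.plain 1706 17051729 false])) (.leaf .dfn)) (.node 1 (.leaf (.eqT 439 17059919 true [.plain 1708 19222607 true, .edge 1710 236 false] [.edge 1710 0 false])) (.leaf (.eqT 439 17059919 true [.plain 1709 17125453 true, .edge 1710 342 false] [.edge 1710 0 false]))))
(.node 2 (.node 1 (.leaf (.eq 440 17043521 [] [.plain 1712 17109057 false])) (.leaf (.eq 440 17043521 [] [.plain 1711 19140673 false]))) (.node 1 (.leaf .dfn) (.node 1 (.leaf (.mov 441 17043521 true [.edge 1715 0 true])) (.leaf (.rel 77 15274069 1 [.edge 1702 1304 false, .mul, .edge 1710 337 false, .mul, .edge 1715 1458 false, .mul, .mul])))))))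
(.node 9 (.node 4 (.node 2 (.node 1 (.leaf (.eq 441 17043521 [] [.plain 1717 19683405 true])) (.leaf (.mov 77 4544593 true [.plain 1718 11368523 true, .edge 1716 1008 false]))) (.node 1 (.leaf (.mov 77 4808797 true [.plain 480 4749401 true, .edge 1719 662 false])) (.leaf (.mov 77 13310023 true [.plain 482 13445191 true, .edge 1720 1333 false]))))
(.node 2 (.node 1 (.leaf .dfn) (.leaf (.mov 439 29904967 false [.plain 1708 32067655 true, .edge 1722 664 false]))) (.node 1 (.leaf (.eqT 439 29904967 false [.plain 1709 29970501 true, .edge 1722 1264 false] [.edge 1723 0 false])) (.node 1 (.leaf (.eq 446 17043521 [] [.plain 1724 17446999 false])) (.leaf .dfn)))))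
(.node 4 (.node 2 (.node 1 (.leaf (.mov 458 17043521 false [.edge 1726 0 true])) (.leaf (.eqT 439 17043521 false [.plain 1709 17109059 true, .edge 1726 1198 false] [.edge 1726 0 false]))) (.node 1 (.leaf (.eq 458 17043521 [] [.plain 1728 17567825 false])) (.leaf .dfn)))
(.node 2 (.node 1 (.leaf (.mov 459 17043521 false [.edge 1730 0 true])) (.leaf .dfn)) (.node 1 (.leaf (.mov 460 17043521 false [.edge 1732 0 true])) (.node 1 (.leaf .dfn) (.leaf (.mov 461 17043521 false [.edge 1734 0 true])))))))))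
(.node 35 (.node 17 (.node 8 (.node 4 (.node 2 (.node 1 (.leaf (.rel 77 15210591 4 [.edge 1702 1375 false, .edge 1726 1393 false, .mul, .edge 1730 211 false, .mul, .edge 1732 227 false, .mul, .edge 1734 857 false, .mul])) (.leaf (.eq 461 17043521 [] [.plain 1736 29823045 true]))) (.node 1 (.leaf (.eqT 77 6776923 false [.plain 1737 16998475 true, .edge 1735 288 false] [.edge 507 0 false])) (.leaf (.eq 460 17043521 [] [.plain 1738 29956187 false]))))
(.node 2 (.node 1 (.leaf (.eqT 88 13310023 false [.plain 1739 17635397 true, .edge 1733 169 false] [.edge 1506 0 false])) (.leaf (.eq 459 17043521 [] [.plain 1740 29841479 false]))) (.node 1 (.leaf (.mov 356 6776923 false [.plain 1741 17717337 true, .edge 1731 733 false])) (.leaf .dfn))))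
(.node 4 (.node 2 (.node 1 (.leaf (.mov 462 17043521 false [.edge 1743 0 true])) (.leaf .dfn)) (.node 1 (.leaf (.mov 463 17043521 false [.edge 1745 0 true])) (.leaf .dfn)))
(.node 2 (.node 1 (.leaf (.mov 464 17043521 false [.edge 1747 0 true])) (.leaf .dfn)) (.node 1 (.leaf (.mov 465 17043521 false [.edge 1749 0 true])) (.node 1 (.leaf (.rel 77 15036507 4 [.edge 1719 873 false, .edge 1743 496 false, .mul, .edge 1745 454 false, .mul, .edge 1747 627 false, .mul, .edge 1749 1481 false, .mul])) (.leaf (.eq 465 17043521 [] [.plain 1751 9254979 true])))))))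
(.node 9 (.node 4 (.node 2 (.node 1 (.leaf (.eqT 77 6776923 false [.plain 1752 17780809 true, .edge 1750 404 false] [.edge 507 0 false])) (.leaf (.eq 464 17043521 [] [.plain 1753 13570129 false]))) (.node 1 (.leaf (.eqT 88 9056345 false [.plain 1754 16988237 true, .edge 1748 1350 false] [.edge 1503 0 false])) (.leaf (.eq 463 17043521 [] [.plain 1755 21373021 false]))))
(.node 2 (.node 1 (.leaf (.mov 356 13510735 false [.plain 1756 17524811 true, .edge 1746 1219 false])) (.leaf .dfn)) (.node 1 (.leaf (.mov 440 17043521 false [.plain 1714 19140673 true, .edge 1758 607 false])) (.node 1 (.leaf (.eqT 440 17043521 false [.plain 1713 17109057 true, .edge 1759 409 false] [.edge 1759 0 false])) (.leaf (.eq 466 17043521 [] [.plain 1760 17195079 false]))))))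
(.node 4 (.node 2 (.node 1 (.leaf .dfn) (.leaf (.mov 466 10971209 false [.plain 1761 10960963 true, .edge 1762 876 false]))) (.node 1 (.leaf .dfn) (.leaf (.mov 468 17043521 false [.edge 1764 0 true]))))
(.node 2 (.node 1 (.leaf .dfn) (.leaf (.mov 469 17043521 false [.edge 1766 0 true]))) (.node 1 (.leaf (.rel 77 23296071 5 [.edge 1721 61 false, .edge 1758 379 false, .mul, .edge 1762 630 false, .mul, .edge 1764 588 false, .mul, .edge 1766 526 false, .mul])) (.node 1 (.leaf (.eq 469 17043521 [] [.plain 1768 4939863 true])) (.leaf (.eqT 77 23928925 false [.plain 1769 17051737 true, .edge 1767 547 false] [.edge 503 0 false]))))))))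
(.node 17 (.node 8 (.node 4 (.node 2 (.node 1 (.leaf (.eq 468 17043521 [] [.plain 1770 15210575 false])) (.leaf (.mov 88 29904967 false [.plain 1771 17061979 true, .edge 1765 236 false]))) (.node 1 (.leaf (.mov 88 23928925 false [.plain 510 23601219 true, .edge 1772 1449 false])) (.leaf (.mov 88 6776923 false [.plain 511 6580317 true, .edge 1773 909 false]))))
(.node 2 (.node 1 (.leaf (.mov 88 13510735 false [.plain 510 13248585 true, .edge 1774 1202 false])) (.leaf .dfn)) (.node 1 (.leaf (.eqT 423 29904967 false [.plain 1657 29894743 true, .edge 1776 1499 false] [.edge 1776 0 false])) (.leaf (.eq 475 17043521 [] [.plain 1777 17068105 false])))))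
(.node 4 (.node 2 (.node 1 (.leaf .dfn) (.leaf (.mov 476 17043521 false [.edge 1779 0 true]))) (.node 1 (.leaf (.rel 84 14907477 0 [.edge 1668 502 false, .mul, .edge 1776 248 false, .mul, .edge 1779 448 false, .mul, .mul])) (.leaf (.eq 476 17043521 [] [.plain 1781 19359819 true]))))
(.node 2 (.node 1 (.leaf (.mov 84 32125001 false [.plain 1782 16920651 true, .edge 1780 1518 false])) (.leaf (.mov 84 13510735 false [.plain 490 12875861 true, .edge 1783 104 false]))) (.node 1 (.leaf (.mov 84 7292999 false [.plain 491 7295047 true, .edge 1783 144 false])) (.node 1 (.leaf (.mov 84 29904967 false [.plain 490 30099551 true, .edge 1785 1165 false])) (.leaf .dfn))))))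
(.node 9 (.node 4 (.node 2 (.node 1 (.leaf (.mov 84 29904967 true [.plain 490 30099551 true, .edge 1787 1191 false])) (.leaf (.mov 84 4808797 true [.plain 491 4812893 true, .edge 1788 656 false]))) (.node 1 (.leaf (.mov 84 31801425 true [.plain 490 32055381 true, .edge 1789 471 false])) (.leaf (.mov 84 4544593 true [.plain 491 4540497 true, .edge 1790 481 false]))))
(.node 2 (.node 1 (.leaf (.mov 84 32131155 true [.plain 490 32004171 true, .edge 1791 454 false])) (.leaf (.mov 84 32125001 true [.plain 491 32131145 true, .edge 1792 49 false]))) (.node 1 (.leaf (.mov 84 13310023 true [.plain 490 12734555 true, .edge 1793 1110 false])) (.node 1 (.leaf .dfn) (.leaf (.mov 84 17059919 true [.plain 490 17508419 true, .edge 1795 1049 false]))))))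
(.node 4 (.node 2 (.node 1 (.leaf (.eqT 84 10971209 true [.plain 491 10960969 true, .edge 1795 1384 false] [.edge 1795 0 false])) (.leaf (.eq 480 17043521 [] [.plain 1797 8917081 false]))) (.node 1 (.leaf .dfn) (.leaf .dfn)))
(.node 2 (.node 1 (.leaf (.mov 482 17043521 true [.edge 1800 0 true])) (.leaf (.rel 84 25903195 1 [.edge 1795 1172 false, .mul, .edge 1799 746 false, .mul, .edge 1800 341 false, .mul, .mul]))) (.node 1 (.leaf (.eq 482 17043521 [] [.plain 1802 8933453 true])) (.node 1 (.leaf (.mov 84 11495495 true [.plain 1803 17651779 true, .edge 1801 333 false])) (.leaf (.mov 84 17043521 true [.plain 490 16984157 true, .edge 1804 339 false]))))))))))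

/-- The reasons. -/
def caseDFullSrcLRRLR : Tab Src :=
(.node 69 (.node 34 (.node 17 (.node 8 (.node 4 (.node 2 (.node 1 (.leaf .dfn) (.leaf (.mov 487 17043521 true [.edge 1806 0 true]))) (.node 1 (.leaf .dfn) (.leaf (.mov 488 17043521 false [.edge 1808 0 true]))))
(.node 2 (.node 1 (.leaf .dfn) (.leaf (.mov 489 17043521 true [.edge 1810 0 true]))) (.node 1 (.leaf .dfn) (.leaf (.mov 490 17043521 false [.edge 1812 0 true])))))
(.node 4 (.node 2 (.node 1 (.leaf .dfn) (.leaf (.mov 491 17043521 true [.edge 1814 0 true]))) (.node 1 (.leaf (.rel 84 25849949 2 [.edge 1806 209 false, .edge 1808 553 false, .mul, .edge 1810 39 false, .mul, .edge 1812 983 false, .mul, .edge 1814 425 false, .mul])) (.leaf (.eq 491 17043521 [] [.plain 1816 19222615 true]))))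
(.node 2 (.node 1 (.leaf (.mov 84 25385043 true [.plain 1817 11079753 true, .edge 1815 138 false])) (.leaf (.eqT 84 25385043 true [.plain 491 25376851 true, .edge 1818 462 false] [.edge 1818 0 false]))) (.node 1 (.leaf (.eq 490 17043521 [] [.plain 1819 17176651 false])) (.node 1 (.leaf .dfn) (.leaf .dfn))))))
(.node 8 (.node 4 (.node 2 (.node 1 (.leaf .dfn) (.leaf (.mov 502 17043521 false [.edge 1823 0 true]))) (.node 1 (.leaf .dfn) (.leaf (.mov 503 17043521 false [.edge 1825 0 true]))))
(.node 2 (.node 1 (.leaf (.rel 84 11016281 4 [.edge 1805 997 false, .edge 1821 1268 false, .mul, .edge 1822 1262 false, .mul, .edge 1823 804 false, .mul, .edge 1825 1059 false, .mul])) (.leaf (.eq 503 17043521 [] [.plain 1827 27545687 true]))) (.node 1 (.leaf (.eqT 84 13510735 false [.plain 1828 17260631 true, .edge 1826 1455 false] [.edge 1784 0 false])) (.leaf (.eq 502 17043521 [] [.plain 1829 25432149 false])))))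
(.node 4 (.node 2 (.node 1 (.leaf (.mov 475 13510735 false [.plain 1830 17782851 true, .edge 1824 60 false])) (.leaf .dfn)) (.node 1 (.leaf .dfn) (.leaf .dfn)))
(.node 2 (.node 1 (.leaf (.mov 513 17043521 false [.edge 1834 0 true])) (.leaf .dfn)) (.node 1 (.leaf (.mov 514 17043521 false [.edge 1836 0 true])) (.node 1 (.leaf (.rel 84 29892699 5 [.edge 1790 941 false, .edge 1832 1338 false, .mul, .edge 1833 1518 false, .mul, .edge 1834 153 false, .mul, .edge 1836 253 false, .mul])) (.leaf (.eq 514 17043521 [] [.plain 1838 27531343 true]))))))))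
(.node 17 (.node 8 (.node 4 (.node 2 (.node 1 (.leaf (.eqT 84 23928925 false [.plain 1839 17045569 true, .edge 1837 520 false] [.edge 530 0 false])) (.leaf (.eq 513 29778015 [] [.plain 1840 17043521 false, .plain 540 17176643 false]))) (.node 1 (.leaf (.eq 513 17043521 [] [.plain 1841 26103891 false])) (.leaf (.eqT 88 6776923 false [.plain 1842 17258577 true, .edge 1835 777 false] [.edge 1774 0 false]))))
(.node 2 (.node 1 (.leaf (.eq 512 17043521 [] [.plain 1843 9252935 false])) (.leaf .dfn)) (.node 1 (.leaf (.mov 517 17043521 true [.edge 1845 0 true])) (.leaf (.mov 88 4544593 true [.plain 510 5199939 true, .edge 1845 196 false])))))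
(.node 4 (.node 2 (.node 1 (.leaf (.mov 88 13310023 true [.plain 511 13441099 true, .edge 1847 694 false])) (.leaf (.mov 88 29904967 true [.plain 510 29577295 true, .edge 1848 183 false]))) (.node 1 (.leaf .dfn) (.leaf .dfn)))
(.node 2 (.node 1 (.leaf .dfn) (.leaf (.mov 526 17043521 false [.edge 1852 0 true]))) (.node 1 (.leaf .dfn) (.node 1 (.leaf (.mov 527 17043521 false [.edge 1854 0 true])) (.leaf .dfn))))))
(.node 9 (.node 4 (.node 2 (.node 1 (.leaf (.mov 528 17043521 true [.edge 1856 0 true])) (.leaf (.rel 88 25315405 3 [.edge 1850 1439 false, .edge 1851 1123 false, .mul, .edge 1852 63 false, .mul, .edge 1854 171 false, .mul, .edge 1856 971 false, .mul]))) (.node 1 (.leaf (.eq 528 17043521 [] [.plain 1858 27859025 true])) (.leaf (.eqT 88 11495495 true [.plain 1859 17133659 true, .edge 1857 508 false] [.edge 1850 0 false]))))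
(.node 2 (.node 1 (.leaf (.eq 527 17043521 [] [.plain 1860 21524565 false])) (.leaf (.mov 524 29904967 false [.plain 1861 17051739 true, .edge 1855 1145 false]))) (.node 1 (.leaf .dfn) (.node 1 (.leaf (.mov 88 32131155 true [.plain 510 31606879 true, .edge 1863 121 false])) (.leaf (.mov 88 4808797 true [.plain 511 4939865 true, .edge 1864 218 false]))))))
(.node 4 (.node 2 (.node 1 (.leaf (.mov 88 31801425 true [.plain 510 32260191 true, .edge 1865 1110 false])) (.leaf .dfn)) (.node 1 (.leaf .dfn) (.leaf (.mov 88 17043521 true [.plain 510 17240149 true, .edge 1868 807 false]))))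
(.node 2 (.node 1 (.leaf .dfn) (.leaf (.mov 535 17043521 false [.edge 1870 0 true]))) (.node 1 (.leaf .dfn) (.node 1 (.leaf (.mov 536 17043521 false [.edge 1872 0 true])) (.leaf .dfn))))))))
(.node 35 (.node 17 (.node 8 (.node 4 (.node 2 (.node 1 (.leaf (.mov 537 17043521 false [.edge 1874 0 true])) (.leaf .dfn)) (.node 1 (.leaf (.mov 538 17043521 false [.edge 1876 0 true])) (.leaf (.rel 88 17717335 4 [.edge 1868 974 false, .edge 1870 24 false, .mul, .edge 1872 671 false, .mul, .edge 1874 876 false, .mul, .edge 1876 10 false, .mul]))))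
(.node 2 (.node 1 (.leaf (.eq 538 17043521 [] [.plain 1878 25514053 true])) (.leaf (.eqT 88 9056345 false [.plain 1879 17586243 true, .edge 1877 1531 false] [.edge 1503 0 false]))) (.node 1 (.leaf (.eq 537 17043521 [] [.plain 1880 9384007 false])) (.leaf (.eqT 356 6776923 false [.plain 1881 17643591 true, .edge 1875 1203 false] [.edge 1742 0 false])))))
(.node 4 (.node 2 (.node 1 (.leaf (.eq 536 17043521 [] [.plain 1882 12738643 false])) (.leaf (.eqT 458 17043521 false [.plain 1883 17635407 true, .edge 1873 997 false] [.edge 1727 0 false]))) (.node 1 (.leaf (.eq 535 17043521 [] [.plain 1884 21573719 false])) (.leaf (.eqT 439 29904967 false [.plain 1885 16986201 true, .edge 1871 773 false] [.edge 1723 0 false]))))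
(.node 2 (.node 1 (.leaf (.eq 534 17043521 [] [.plain 1886 19730503 false])) (.leaf .dfn)) (.node 1 (.leaf (.mov 539 17043521 false [.edge 1888 0 true])) (.node 1 (.leaf .dfn) (.leaf (.mov 540 17043521 false [.edge 1890 0 true])))))))
(.node 9 (.node 4 (.node 2 (.node 1 (.leaf .dfn) (.leaf (.mov 541 17043521 false [.edge 1892 0 true]))) (.node 1 (.leaf .dfn) (.leaf (.mov 542 17043521 false [.edge 1894 0 true]))))
(.node 2 (.node 1 (.leaf (.rel 88 31602757 5 [.edge 1848 699 false, .edge 1888 1385 false, .mul, .edge 1890 1048 false, .mul, .edge 1892 1284 false, .mul, .edge 1894 704 false, .mul])) (.leaf (.eq 542 17043521 [] [.plain 1896 25497687 true]))) (.node 1 (.leaf (.eqT 88 13510735 false [.plain 1897 17526877 true, .edge 1895 463 false] [.edge 1775 0 false])) (.node 1 (.leaf (.eq 541 17043521 [] [.plain 1898 8872001 false])) (.leaf (.mov 467 10971209 false [.plain 1899 16988253 true, .edge 1893 827 false]))))))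
(.node 4 (.node 2 (.node 1 (.leaf .dfn) (.leaf (.mov 446 31801425 false [.plain 1725 32127057 true, .edge 1901 285 false]))) (.node 1 (.leaf .dfn) (.leaf .dfn)))
(.node 2 (.node 1 (.leaf (.mov 545 17043521 false [.edge 1904 0 true])) (.leaf .dfn)) (.node 1 (.leaf (.mov 546 17043521 false [.edge 1906 0 true])) (.node 1 (.leaf (.rel 88 27537497 5 [.edge 1869 1249 false, .plain 1887 11030619 false, .edge 1901 1175 false, .mul, .edge 1903 350 false, .mul, .edge 1904 1438 false, .mul, .edge 1906 381 false, .mul])) (.leaf (.eq 546 17043521 [] [.plain 1908 9269329 true]))))))))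
(.node 17 (.node 8 (.node 4 (.node 2 (.node 1 (.leaf (.eqT 88 17043521 false [.plain 1909 17635395 true, .edge 1907 624 false] [.edge 504 0 false])) (.leaf (.eq 545 17043521 [] [.plain 1910 13307977 false]))) (.node 1 (.leaf (.eqT 77 10971209 false [.plain 1911 17705031 true, .edge 1905 515 false] [.edge 1701 0 false])) (.leaf (.eq 544 17043521 [] [.plain 1912 21250115 false]))))
(.node 2 (.node 1 (.leaf .dfn) (.leaf .dfn)) (.node 1 (.leaf (.mov 548 17043521 false [.edge 1915 0 true])) (.leaf (.rel 128 23289929 0 [.edge 736 301 false, .mul, .edge 1914 1097 false, .mul, .edge 1915 1166 false, .mul, .mul])))))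
(.node 4 (.node 2 (.node 1 (.leaf (.eq 548 17043521 [] [.plain 1917 19099731 true])) (.leaf (.eqT 128 27529303 false [.plain 1918 17256531 true, .edge 1916 929 false] [.edge 738 0 false]))) (.node 1 (.leaf (.eq 547 17043521 [] [.plain 1919 19030107 false])) (.leaf .dfn)))
(.node 2 (.node 1 (.leaf (.mov 549 17043521 false [.edge 1921 0 true])) (.leaf (.mov 128 32125001 false [.plain 692 31803479 true, .edge 1921 338 false]))) (.node 1 (.leaf (.mov 128 31801425 false [.plain 694 32190541 true, .edge 1923 35 false])) (.node 1 (.leaf (.mov 128 10971209 false [.plain 692 10633283 true, .edge 1924 1053 false])) (.leaf .dfn))))))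
(.node 9 (.node 4 (.node 2 (.node 1 (.leaf (.mov 128 4544593 true [.plain 692 4671573 true, .edge 1926 1334 false])) (.leaf (.mov 128 29904967 true [.plain 693 29904985 true, .edge 1927 58 false]))) (.node 1 (.leaf (.mov 128 32131155 true [.plain 692 31797325 true, .edge 1928 27 false])) (.leaf (.eqT 128 4544593 true [.plain 694 4603991 true, .edge 1926 547 false] [.edge 1927 0 false]))))
(.node 2 (.node 1 (.leaf (.eqT 128 29904967 true [.plain 695 31860805 true, .edge 1926 596 false] [.edge 1928 0 false])) (.leaf (.eq 555 17043521 [] [.plain 1931 19214419 false]))) (.node 1 (.leaf (.eq 555 17043521 [] [.plain 1930 25522259 false])) (.node 1 (.leaf .dfn) (.leaf (.mov 555 19085399 false [.plain 1932 16986197 true, .edge 1934 424 false]))))))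
(.node 4 (.node 2 (.node 1 (.leaf .dfn) (.leaf .dfn)) (.node 1 (.leaf (.mov 558 17043521 false [.edge 1937 0 true])) (.leaf .dfn)))
(.node 2 (.node 1 (.leaf (.mov 559 17043521 true [.edge 1939 0 true])) (.leaf (.rel 128 29761629 2 [.edge 1926 1215 false, .edge 1934 789 false, .mul, .edge 1936 651 false, .mul, .edge 1937 1432 false, .mul, .edge 1939 243 false, .mul]))) (.node 1 (.leaf (.eq 559 17043521 [] [.plain 1941 25786455 true])) (.node 1 (.leaf (.eqT 128 32131155 true [.plain 1942 17643601 true, .edge 1940 1280 false] [.edge 1929 0 false])) (.leaf (.eq 558 17043521 [] [.plain 1943 21114955 false]))))))))))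

/-- The reasons. -/
def caseDFullSrcLRRL : Tab Src := .node 139 caseDFullSrcLRRLL caseDFullSrcLRRLR

/-- The reasons. -/
def caseDFullSrcLRRRL : Tab Src :=
(.node 69 (.node 34 (.node 17 (.node 8 (.node 4 (.node 2 (.node 1 (.leaf (.eqT 555 17043521 false [.plain 1944 17508431 true, .edge 1938 1009 false] [.edge 1934 0 false])) (.leaf (.eq 557 17043521 [] [.plain 1945 19273815 false]))) (.node 1 (.leaf .dfn) (.leaf (.mov 128 13310023 true [.plain 692 13445195 true, .edge 1947 882 false]))))
(.node 2 (.node 1 (.leaf (.mov 128 32125001 true [.plain 693 32125013 true, .edge 1948 936 false])) (.leaf (.mov 128 4808797 true [.plain 692 4943961 true, .edge 1949 1009 false]))) (.node 1 (.leaf (.eqT 128 13310023 true [.plain 694 13377609 true, .edge 1947 43 false] [.edge 1948 0 false])) (.leaf (.eq 560 17043521 [] [.plain 1951 9244737 false])))))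
(.node 4 (.node 2 (.node 1 (.leaf .dfn) (.leaf (.mov 560 27529303 false [.plain 1952 25432149 true, .edge 1953 1019 false]))) (.node 1 (.leaf .dfn) (.leaf .dfn)))
(.node 2 (.node 1 (.leaf (.mov 563 17043521 false [.edge 1956 0 true])) (.leaf .dfn)) (.node 1 (.leaf (.mov 564 17043521 true [.edge 1958 0 true])) (.node 1 (.leaf (.rel 128 4743241 2 [.edge 1947 1434 false, .edge 1953 887 false, .mul, .edge 1955 219 false, .mul, .edge 1956 375 false, .mul, .edge 1958 475 false, .mul])) (.leaf (.eq 564 17043521 [] [.plain 1960 19216463 true])))))))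
(.node 8 (.node 4 (.node 2 (.node 1 (.leaf (.eqT 128 4808797 true [.plain 1961 17053779 true, .edge 1959 1355 false] [.edge 1950 0 false])) (.leaf (.eq 563 17043521 [] [.plain 1962 19275863 false]))) (.node 1 (.leaf (.eqT 560 13510735 false [.plain 1963 17045593 true, .edge 1957 1209 false] [.edge 1953 0 false])) (.leaf (.eq 562 17043521 [] [.plain 1964 17059935 false]))))
(.node 2 (.node 1 (.leaf .dfn) (.leaf (.eqT 555 29904967 false [.plain 1933 32004167 true, .edge 1966 1281 false] [.edge 1966 0 false]))) (.node 1 (.leaf (.eq 568 17043521 [] [.plain 1967 17584209 false])) (.leaf .dfn))))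
(.node 4 (.node 2 (.node 1 (.leaf (.mov 568 13510735 false [.plain 1968 13113411 true, .edge 1969 1067 false])) (.leaf .dfn)) (.node 1 (.leaf .dfn) (.leaf (.mov 571 17043521 false [.edge 1972 0 true]))))
(.node 2 (.node 1 (.leaf (.rel 128 4552795 4 [.edge 1927 1227 false, .edge 1966 214 false, .mul, .edge 1969 1119 false, .mul, .edge 1971 1427 false, .mul, .edge 1972 410 false, .mul])) (.leaf (.eq 571 17043521 [] [.plain 1974 29845581 true]))) (.node 1 (.leaf (.eqT 128 10971209 false [.plain 1975 17586263 true, .edge 1973 1288 false] [.edge 1925 0 false])) (.node 1 (.leaf (.eq 570 17043521 [] [.plain 1976 27529307 false])) (.leaf .dfn)))))))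
(.node 17 (.node 8 (.node 4 (.node 2 (.node 1 (.leaf (.mov 575 17043521 false [.edge 1978 0 true])) (.leaf .dfn)) (.node 1 (.leaf (.mov 576 17043521 false [.edge 1980 0 true])) (.leaf .dfn)))
(.node 2 (.node 1 (.leaf (.mov 577 17043521 false [.edge 1982 0 true])) (.leaf .dfn)) (.node 1 (.leaf (.mov 578 17043521 false [.edge 1984 0 true])) (.leaf (.rel 128 4472909 5 [.edge 1950 1020 false, .edge 1978 93 false, .mul, .edge 1980 414 false, .mul, .edge 1982 480 false, .mul, .edge 1984 572 false, .mul])))))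
(.node 4 (.node 2 (.node 1 (.leaf (.eq 578 17043521 [] [.plain 1986 27537485 true])) (.leaf (.mov 128 23928925 false [.plain 1987 17641543 true, .edge 1985 924 false]))) (.node 1 (.leaf (.mov 128 13310023 false [.plain 695 15540293 true, .edge 1988 344 false])) (.leaf (.eqT 128 13310023 false [.plain 693 13310025 true, .edge 1989 972 false] [.edge 1989 0 false]))))
(.node 2 (.node 1 (.leaf (.eqT 128 13310023 false [.plain 694 13377609 true, .edge 1989 34 false] [.edge 1989 0 false])) (.leaf (.eqT 128 23928925 false [.plain 695 21393503 true, .edge 1989 1450 false] [.edge 1988 0 false]))) (.node 1 (.leaf (.eq 577 17043521 [] [.plain 1992 25825365 false])) (.node 1 (.leaf (.eq 577 17043521 [] [.plain 1991 26091597 false])) (.leaf (.eq 577 17043521 [] [.plain 1990 26097745 false])))))))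
(.node 9 (.node 4 (.node 2 (.node 1 (.leaf (.mov 577 4808797 false [.plain 1995 16998483 true, .edge 1983 104 false])) (.leaf (.mov 577 19085399 false [.plain 1993 6895703 true, .edge 1996 1234 false]))) (.node 1 (.leaf (.mov 577 23928925 false [.plain 1994 19865687 true, .edge 1997 439 false])) (.leaf (.mov 577 32125001 false [.plain 1993 21966921 true, .edge 1998 1523 false]))))
(.node 2 (.node 1 (.leaf .dfn) (.leaf (.mov 579 17043521 false [.edge 2000 0 true]))) (.node 1 (.leaf (.mov 555 27529303 false [.plain 1932 25434197 true, .edge 2000 1502 false])) (.node 1 (.leaf .dfn) (.leaf (.mov 580 17043521 false [.edge 2003 0 true]))))))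
(.node 4 (.node 2 (.node 1 (.leaf .dfn) (.leaf (.mov 581 17043521 false [.edge 2005 0 true]))) (.node 1 (.leaf .dfn) (.leaf (.mov 582 17043521 false [.edge 2007 0 true]))))
(.node 2 (.node 1 (.leaf (.rel 128 23926865 5 [.edge 1927 703 false, .edge 2000 16 false, .mul, .edge 2003 1406 false, .mul, .edge 2005 523 false, .mul, .edge 2007 455 false, .mul])) (.leaf (.eq 582 17043521 [] [.plain 2009 23226445 true]))) (.node 1 (.leaf (.eqT 128 29904967 false [.plain 2010 16934993 true, .edge 2008 841 false] [.edge 737 0 false])) (.node 1 (.leaf (.eq 581 17043521 [] [.plain 2011 15032409 false])) (.leaf (.mov 132 23928925 false [.plain 2012 17459279 true, .edge 2006 1235 false])))))))))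
(.node 35 (.node 17 (.node 8 (.node 4 (.node 2 (.node 1 (.leaf (.mov 132 10971209 false [.plain 726 15032387 true, .edge 2013 498 false])) (.leaf .dfn)) (.node 1 (.leaf (.mov 129 4808797 true [.plain 701 6973531 true, .edge 2015 1506 false])) (.leaf (.mov 129 32125001 true [.plain 702 31735893 true, .edge 2016 135 false]))))
(.node 2 (.node 1 (.leaf (.mov 129 29904967 true [.plain 701 31938649 true, .edge 2017 187 false])) (.leaf (.eqT 129 32125001 true [.plain 701 29636693 true, .edge 2018 765 false] [.edge 2017 0 false]))) (.node 1 (.leaf (.eqT 129 29904967 true [.plain 702 29829209 true, .edge 2015 826 false] [.edge 2018 0 false])) (.leaf (.eqT 129 32125001 true [.plain 703 32129097 true, .edge 2015 1366 false] [.edge 2017 0 false])))))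
(.node 4 (.node 2 (.node 1 (.leaf (.eq 586 17043521 [] [.plain 2021 19214401 false])) (.leaf (.eq 586 17043521 [] [.plain 2020 27553865 false]))) (.node 1 (.leaf (.eq 586 17043521 [] [.plain 2019 17053763 false])) (.leaf .dfn)))
(.node 2 (.node 1 (.leaf (.eqT 586 17059919 true [.plain 2022 19159119 true, .edge 2025 932 false] [.edge 2025 0 false])) (.leaf (.eqT 586 17059919 true [.plain 2024 17127501 true, .edge 2025 1013 false] [.edge 2025 0 false]))) (.node 1 (.leaf (.eq 587 17043521 [] [.plain 2027 17111107 false])) (.node 1 (.leaf (.eq 587 17043521 [] [.plain 2026 19206211 false])) (.leaf .dfn))))))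
(.node 9 (.node 4 (.node 2 (.node 1 (.leaf (.mov 588 17043521 true [.edge 2030 0 true])) (.leaf (.rel 129 14829659 1 [.edge 2015 1300 false, .mul, .edge 2025 621 false, .mul, .edge 2030 71 false, .mul, .mul]))) (.node 1 (.leaf (.eq 588 17043521 [] [.plain 2032 17651799 true])) (.leaf (.mov 129 13510735 true [.plain 2033 9197643 true, .edge 2031 232 false]))))
(.node 2 (.node 1 (.leaf (.mov 129 31801425 true [.plain 701 30099533 true, .edge 2034 1448 false])) (.leaf (.mov 129 13310023 true [.plain 702 13377609 true, .edge 2035 43 false]))) (.node 1 (.leaf (.mov 129 4544593 true [.plain 701 6705239 true, .edge 2036 874 false])) (.node 1 (.leaf .dfn) (.leaf (.mov 593 17043521 false [.edge 2038 0 true]))))))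
(.node 4 (.node 2 (.node 1 (.leaf .dfn) (.leaf (.mov 594 17043521 true [.edge 2040 0 true]))) (.node 1 (.leaf .dfn) (.leaf (.mov 595 17043521 false [.edge 2042 0 true]))))
(.node 2 (.node 1 (.leaf .dfn) (.leaf (.mov 596 17043521 true [.edge 2044 0 true]))) (.node 1 (.leaf (.rel 129 13576275 2 [.edge 2015 531 false, .edge 2038 1143 false, .mul, .edge 2040 1522 false, .mul, .edge 2042 484 false, .mul, .edge 2044 984 false, .mul])) (.node 1 (.leaf (.eq 596 17043521 [] [.plain 2046 25505863 true])) (.leaf (.eqT 129 13510735 true [.plain 2047 25507923 true, .edge 2045 1383 false] [.edge 2034 0 false]))))))))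
(.node 17 (.node 8 (.node 4 (.node 2 (.node 1 (.leaf (.eq 595 17043521 [] [.plain 2048 19624005 false])) (.leaf (.mov 587 29904967 false [.plain 2049 16939073 true, .edge 2043 653 false]))) (.node 1 (.leaf (.mov 587 4808797 false [.plain 2028 4745311 true, .edge 2050 514 false])) (.leaf .dfn)))
(.node 2 (.node 1 (.leaf (.mov 597 17043521 true [.edge 2052 0 true])) (.leaf (.eqT 129 25385043 true [.plain 701 28201033 true, .edge 2052 178 false] [.edge 2052 0 false]))) (.node 1 (.leaf (.eqT 129 25385043 true [.plain 703 25374803 true, .edge 2052 1400 false] [.edge 2052 0 false])) (.leaf (.eq 597 17043521 [] [.plain 2055 25440329 false])))))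
(.node 4 (.node 2 (.node 1 (.leaf (.eq 597 17043521 [] [.plain 2054 25499715 false])) (.leaf .dfn)) (.node 1 (.leaf (.mov 598 17043521 false [.edge 2058 0 true])) (.leaf (.mov 597 17043521 false [.plain 2056 25440329 true, .edge 2058 1059 false]))))
(.node 2 (.node 1 (.leaf (.mov 597 27529303 false [.plain 2057 17111125 true, .edge 2060 126 false])) (.leaf (.mov 597 19085399 false [.plain 2056 21176401 true, .edge 2061 84 false]))) (.node 1 (.leaf .dfn) (.node 1 (.leaf (.mov 602 17043521 false [.edge 2063 0 true])) (.leaf (.mov 586 29904967 false [.plain 2023 32069703 true, .edge 2063 1019 false])))))))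
(.node 9 (.node 4 (.node 2 (.node 1 (.leaf .dfn) (.leaf (.mov 606 17043521 false [.edge 2066 0 true]))) (.node 1 (.leaf (.mov 587 27529303 false [.plain 2028 27596885 true, .edge 2066 664 false])) (.leaf (.eqT 587 13510735 false [.plain 2029 15673421 true, .edge 2066 520 false] [.edge 2066 0 false]))))
(.node 2 (.node 1 (.leaf (.eq 606 17043521 [] [.plain 2069 17584193 false])) (.leaf .dfn)) (.node 1 (.leaf .dfn) (.node 1 (.leaf (.mov 608 17043521 false [.edge 2072 0 true])) (.leaf .dfn)))))
(.node 4 (.node 2 (.node 1 (.leaf (.mov 609 17043521 false [.edge 2074 0 true])) (.leaf (.rel 129 13246535 4 [.edge 2034 816 false, .edge 2066 1481 false, .mul, .edge 2071 1399 false, .mul, .edge 2072 424 false, .mul, .edge 2074 1445 false, .mul]))) (.node 1 (.leaf (.eq 609 17043521 [] [.plain 2076 11292745 true])) (.leaf (.eqT 129 27529303 false [.plain 2077 17447007 true, .edge 2075 1389 false] [.edge 718 0 false]))))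
(.node 2 (.node 1 (.leaf (.eq 608 17043521 [] [.plain 2078 8536131 false])) (.leaf (.mov 131 23928925 false [.plain 2079 17510495 true, .edge 2073 556 false]))) (.node 1 (.leaf (.mov 131 4808797 false [.plain 721 4546627 true, .edge 2080 493 false])) (.node 1 (.leaf (.mov 131 6776923 false [.plain 722 6910019 true, .edge 2081 644 false])) (.leaf .dfn)))))))))

/-- The reasons. -/
def caseDFullSrcLRRRR : Tab Src :=
(.node 69 (.node 34 (.node 17 (.node 8 (.node 4 (.node 2 (.node 1 (.leaf (.mov 610 17043521 false [.edge 2083 0 true])) (.leaf (.eqT 138 6776923 false [.plain 755 7284811 true, .edge 2083 1189 false] [.edge 2083 0 false]))) (.node 1 (.leaf (.eqT 138 6776923 false [.plain 756 7157853 true, .edge 2083 1192 false] [.edge 2083 0 false])) (.leaf (.eq 610 17043521 [] [.plain 2086 17174593 false]))))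
(.node 2 (.node 1 (.leaf (.eq 610 17043521 [] [.plain 2085 17109057 false])) (.leaf .dfn)) (.node 1 (.leaf (.mov 611 17043521 false [.edge 2089 0 true])) (.leaf (.rel 129 27818059 4 [.edge 697 1052 false, .edge 738 365 false, .mul, .edge 752 1205 false, .mul, .edge 2083 1516 false, .mul, .edge 2089 727 false, .mul])))))
(.node 4 (.node 2 (.node 1 (.leaf (.eq 611 17043521 [] [.plain 2091 6959189 true])) (.leaf (.mov 129 17043521 false [.plain 2092 17770563 true, .edge 2090 772 false]))) (.node 1 (.leaf (.mov 129 19085399 false [.plain 701 17510471 true, .edge 2093 584 false])) (.leaf (.eqT 129 19085399 false [.plain 702 19626055 true, .edge 2094 1159 false] [.edge 2094 0 false]))))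
(.node 2 (.node 1 (.leaf (.eq 610 17043521 [] [.plain 2095 7100483 false])) (.leaf (.mov 610 19085399 false [.plain 2096 16988247 true, .edge 2084 1469 false]))) (.node 1 (.leaf .dfn) (.node 1 (.leaf (.mov 612 17043521 false [.edge 2098 0 true])) (.leaf .dfn))))))
(.node 8 (.node 4 (.node 2 (.node 1 (.leaf (.mov 613 17043521 false [.edge 2100 0 true])) (.leaf .dfn)) (.node 1 (.leaf (.mov 614 17043521 false [.edge 2102 0 true])) (.leaf (.rel 129 27988035 5 [.edge 2052 1123 false, .edge 2062 1213 false, .mul, .edge 2098 1029 false, .mul, .edge 2100 1189 false, .mul, .edge 2102 610 false, .mul]))))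
(.node 2 (.node 1 (.leaf (.eq 614 17043521 [] [.plain 2104 15605843 true])) (.leaf (.eqT 129 17043521 false [.plain 2105 16916561 true, .edge 2103 836 false] [.edge 2093 0 false]))) (.node 1 (.leaf (.eq 613 17043521 [] [.plain 2106 29954129 false])) (.leaf (.mov 610 23928925 false [.plain 2107 17446993 true, .edge 2101 115 false])))))
(.node 4 (.node 2 (.node 1 (.leaf (.mov 610 4808797 false [.plain 2087 4546653 true, .edge 2108 1531 false])) (.leaf (.mov 610 29904967 false [.plain 2088 29970503 true, .edge 2109 1502 false]))) (.node 1 (.leaf (.mov 610 13310023 false [.plain 2087 13113415 true, .edge 2110 481 false])) (.leaf .dfn)))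
(.node 2 (.node 1 (.leaf (.mov 131 17059919 true [.plain 721 17715273 true, .edge 2112 1054 false])) (.leaf (.eqT 131 25385043 true [.plain 722 25442375 true, .edge 2113 1427 false] [.edge 2112 0 false]))) (.node 1 (.leaf (.eq 615 17043521 [] [.plain 2114 27539531 false])) (.node 1 (.leaf .dfn) (.leaf (.eqT 615 17059919 true [.plain 2115 27555909 true, .edge 2116 26 false] [.edge 2116 0 false]))))))))
(.node 17 (.node 8 (.node 4 (.node 2 (.node 1 (.leaf (.eq 616 17043521 [] [.plain 2117 8941657 false])) (.leaf .dfn)) (.node 1 (.leaf (.mov 617 17043521 true [.edge 2119 0 true])) (.leaf (.rel 131 11153481 1 [.edge 2112 189 false, .mul, .edge 2116 1290 false, .mul, .edge 2119 1102 false, .mul, .mul]))))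
(.node 2 (.node 1 (.leaf (.eq 617 17043521 [] [.plain 2121 25456727 true])) (.leaf (.mov 131 19085399 true [.plain 2122 8919115 true, .edge 2120 872 false]))) (.node 1 (.leaf (.mov 131 17043521 true [.plain 721 17174615 true, .edge 2123 1176 false])) (.leaf .dfn))))
(.node 4 (.node 2 (.node 1 (.leaf (.mov 618 17043521 true [.edge 2125 0 true])) (.leaf (.mov 131 32125001 true [.plain 721 32256089 true, .edge 2125 1264 false]))) (.node 1 (.leaf (.mov 131 31801425 true [.plain 722 31602755 true, .edge 2127 1160 false])) (.leaf (.mov 131 4808797 true [.plain 721 4546627 true, .edge 2128 1427 false]))))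
(.node 2 (.node 1 (.leaf (.mov 131 29904967 true [.plain 722 30154833 true, .edge 2128 1200 false])) (.leaf (.mov 131 13310023 true [.plain 721 13113423 true, .edge 2130 1234 false]))) (.node 1 (.leaf (.mov 131 13510735 true [.plain 722 13441095 true, .edge 2130 1512 false])) (.node 1 (.leaf (.mov 131 32131155 true [.plain 721 31672413 true, .edge 2132 878 false])) (.leaf .dfn))))))
(.node 9 (.node 4 (.node 2 (.node 1 (.leaf .dfn) (.leaf (.mov 620 17043521 true [.edge 2135 0 true]))) (.node 1 (.leaf (.rel 131 6828105 1 [.edge 2125 817 false, .mul, .edge 2134 1490 false, .mul, .edge 2135 729 false, .mul, .mul])) (.leaf (.eq 620 17043521 [] [.plain 2137 25694285 true]))))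
(.node 2 (.node 1 (.leaf (.eqT 131 29904967 true [.plain 2138 11368521 true, .edge 2136 527 false] [.edge 2130 0 false])) (.leaf (.eq 619 17043521 [] [.plain 2139 11360335 false]))) (.node 1 (.leaf .dfn) (.node 1 (.leaf (.mov 621 17043521 false [.edge 2141 0 true])) (.leaf .dfn)))))
(.node 4 (.node 2 (.node 1 (.leaf (.mov 622 17043521 true [.edge 2143 0 true])) (.leaf .dfn)) (.node 1 (.leaf (.mov 623 17043521 false [.edge 2145 0 true])) (.leaf .dfn)))
(.node 2 (.node 1 (.leaf (.mov 624 17043521 true [.edge 2147 0 true])) (.leaf (.rel 131 25458761 2 [.edge 2124 1341 false, .edge 2141 773 false, .mul, .edge 2143 42 false, .mul, .edge 2145 1149 false, .mul, .edge 2147 935 false, .mul]))) (.node 1 (.leaf (.eq 624 17043521 [] [.plain 2149 19230813 true])) (.node 1 (.leaf (.eqT 131 17059919 true [.plain 2150 27613249 true, .edge 2148 385 false] [.edge 2113 0 false])) (.leaf (.eq 623 17043521 [] [.plain 2151 15294553 false])))))))))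
(.node 35 (.node 17 (.node 8 (.node 4 (.node 2 (.node 1 (.leaf (.mov 615 27529303 false [.plain 2152 17528915 true, .edge 2146 1456 false])) (.leaf (.mov 615 17043521 false [.plain 2115 27539531 true, .edge 2153 766 false]))) (.node 1 (.leaf .dfn) (.leaf .dfn)))
(.node 2 (.node 1 (.leaf .dfn) (.leaf (.mov 627 17043521 false [.edge 2157 0 true]))) (.node 1 (.leaf .dfn) (.leaf (.mov 628 17043521 true [.edge 2159 0 true])))))
(.node 4 (.node 2 (.node 1 (.leaf (.rel 131 31991879 2 [.edge 2129 1188 false, .edge 2155 661 false, .mul, .edge 2156 271 false, .mul, .edge 2157 608 false, .mul, .edge 2159 228 false, .mul])) (.leaf (.eq 628 17043521 [] [.plain 2161 17111135 true]))) (.node 1 (.leaf (.eqT 131 31801425 true [.plain 2162 11016265 true, .edge 2160 456 false] [.edge 2128 0 false])) (.leaf (.eq 627 17043521 [] [.plain 2163 27613255 false]))))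
(.node 2 (.node 1 (.leaf (.mov 618 13510735 false [.plain 2164 17721419 true, .edge 2158 396 false])) (.leaf .dfn)) (.node 1 (.leaf .dfn) (.node 1 (.leaf .dfn) (.leaf (.mov 631 17043521 true [.edge 2168 0 true])))))))
(.node 9 (.node 4 (.node 2 (.node 1 (.leaf (.rel 131 12734547 3 [.edge 2127 1502 false, .edge 2165 754 false, .mul, .edge 2166 243 false, .mul, .edge 2167 868 false, .mul, .edge 2168 611 false, .mul])) (.leaf (.eq 631 17043521 [] [.plain 2170 17649755 true]))) (.node 1 (.leaf (.eqT 131 32125001 true [.plain 2171 25702489 true, .edge 2169 1040 false] [.edge 2127 0 false])) (.leaf (.eq 630 17043521 [] [.plain 2172 29894729 false]))))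
(.node 2 (.node 1 (.leaf .dfn) (.leaf (.mov 632 17043521 true [.edge 2174 0 true]))) (.node 1 (.leaf (.eqT 131 10971209 true [.plain 722 11485265 true, .edge 2174 117 false] [.edge 2174 0 false])) (.node 1 (.leaf (.eq 632 17043521 [] [.plain 2176 8935505 false])) (.leaf .dfn)))))
(.node 4 (.node 2 (.node 1 (.leaf (.mov 633 17043521 false [.edge 2178 0 true])) (.leaf (.mov 632 19085399 false [.plain 2177 6891601 true, .edge 2178 348 false]))) (.node 1 (.leaf .dfn) (.leaf (.mov 634 17043521 false [.edge 2181 0 true]))))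
(.node 2 (.node 1 (.leaf .dfn) (.leaf (.mov 635 17043521 false [.edge 2183 0 true]))) (.node 1 (.leaf .dfn) (.node 1 (.leaf (.mov 636 17043521 true [.edge 2185 0 true])) (.leaf (.rel 131 27412561 3 [.edge 2174 1273 false, .edge 2178 1183 false, .mul, .edge 2181 695 false, .mul, .edge 2183 585 false, .mul, .edge 2185 608 false, .mul]))))))))
(.node 17 (.node 8 (.node 4 (.node 2 (.node 1 (.leaf (.eq 636 17043521 [] [.plain 2187 27809865 true])) (.leaf (.eqT 131 10971209 true [.plain 2188 17133659 true, .edge 2186 508 false] [.edge 2174 0 false]))) (.node 1 (.leaf (.eq 635 17043521 [] [.plain 2189 21524565 false])) (.leaf (.mov 632 29904967 false [.plain 2190 17051739 true, .edge 2184 1145 false]))))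
(.node 2 (.node 1 (.leaf (.mov 632 17043521 false [.plain 2177 8927305 true, .edge 2191 1089 false])) (.leaf .dfn)) (.node 1 (.leaf .dfn) (.leaf .dfn))))
(.node 4 (.node 2 (.node 1 (.leaf .dfn) (.leaf (.mov 640 17043521 false [.edge 2196 0 true]))) (.node 1 (.leaf (.rel 131 21905497 4 [.edge 2133 1359 false, .edge 2193 1104 false, .mul, .edge 2194 14 false, .mul, .edge 2195 258 false, .mul, .edge 2196 350 false, .mul])) (.leaf (.eq 640 17043521 [] [.plain 2198 4927573 true]))))
(.node 2 (.node 1 (.leaf (.eqT 131 6776923 false [.plain 2199 17000515 true, .edge 2197 551 false] [.edge 2082 0 false])) (.leaf (.eq 639 17043521 [] [.plain 2200 14833749 false]))) (.node 1 (.leaf .dfn) (.node 1 (.leaf (.mov 641 17043521 false [.edge 2202 0 true])) (.leaf .dfn))))))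
(.node 9 (.node 4 (.node 2 (.node 1 (.leaf (.mov 642 17043521 false [.edge 2204 0 true])) (.leaf .dfn)) (.node 1 (.leaf (.mov 643 17043521 false [.edge 2206 0 true])) (.leaf (.rel 131 27467865 4 [.edge 2174 968 false, .edge 2180 734 false, .mul, .edge 2202 606 false, .mul, .edge 2204 1423 false, .mul, .edge 2206 307 false, .mul]))))
(.node 2 (.node 1 (.leaf (.eq 643 17043521 [] [.plain 2208 4925511 true])) (.leaf (.eqT 131 17043521 false [.plain 2209 17061959 true, .edge 2207 1447 false] [.edge 715 0 false]))) (.node 1 (.leaf (.eq 642 17043521 [] [.plain 2210 14905419 false])) (.node 1 (.leaf (.eqT 129 17043521 false [.plain 2211 16988241 true, .edge 2205 94 false] [.edge 2093 0 false])) (.leaf (.eq 641 17043521 [] [.plain 2212 28268639 false]))))))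
(.node 4 (.node 2 (.node 1 (.leaf (.eqT 610 19085399 false [.plain 2213 17764417 true, .edge 2203 47 false] [.edge 2097 0 false])) (.leaf (.eq 633 17043521 [] [.plain 2214 4941891 false]))) (.node 1 (.leaf (.eqT 138 13310023 false [.plain 2215 17594443 true, .edge 2179 19 false] [.edge 757 0 false])) (.leaf (.mov 138 23928925 false [.plain 2215 19339339 true, .edge 2181 267 false]))))
(.node 2 (.node 1 (.leaf (.eq 632 17043521 [] [.plain 2216 11016257 false])) (.leaf (.mov 139 17043521 true [.plain 2218 8984641 true, .edge 2175 817 false]))) (.node 1 (.leaf (.mov 139 32131155 true [.plain 779 17657945 true, .edge 2219 587 false])) (.node 1 (.leaf (.eqT 139 29904967 false [.plain 2218 17782855 true, .edge 2192 1173 false] [.edge 799 0 false])) (.leaf (.eq 634 17043521 [] [.plain 2221 19140703 false]))))))))))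

/-- The reasons. -/
def caseDFullSrcLRRR : Tab Src := .node 139 caseDFullSrcLRRRL caseDFullSrcLRRRR

/-- The reasons. -/
def caseDFullSrcLRR : Tab Src := .node 278 caseDFullSrcLRRL caseDFullSrcLRRR

/-- The reasons. -/
def caseDFullSrcLR : Tab Src := .node 556 caseDFullSrcLRL caseDFullSrcLRR

/-- The reasons. -/
def caseDFullSrcL : Tab Src := .node 1111 caseDFullSrcLL caseDFullSrcLR

/-- The reasons. -/
def caseDFullSrcRLLLL : Tab Src :=
(.node 69 (.node 34 (.node 17 (.node 8 (.node 4 (.node 2 (.node 1 (.leaf (.mov 141 32125001 false [.plain 2222 17190979 true, .edge 2182 943 false])) (.leaf .dfn)) (.node 1 (.leaf (.mov 644 17043521 false [.edge 2224 0 true])) (.leaf .dfn)))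
(.node 2 (.node 1 (.leaf (.mov 645 17043521 false [.edge 2226 0 true])) (.leaf .dfn)) (.node 1 (.leaf (.mov 646 17043521 false [.edge 2228 0 true])) (.leaf .dfn))))
(.node 4 (.node 2 (.node 1 (.leaf (.mov 647 17043521 false [.edge 2230 0 true])) (.leaf (.rel 131 14897239 5 [.edge 2131 703 false, .edge 2224 37 false, .mul, .edge 2226 879 false, .mul, .edge 2228 1063 false, .mul, .edge 2230 905 false, .mul]))) (.node 1 (.leaf (.eq 647 17043521 [] [.plain 2232 27531329 true])) (.leaf (.mov 131 10971209 false [.plain 2233 16922705 true, .edge 2231 1486 false]))))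
(.node 2 (.node 1 (.leaf (.mov 131 31801425 false [.plain 722 31602755 true, .edge 2234 1079 false])) (.leaf (.eqT 131 31801425 false [.plain 721 32325725 true, .edge 2235 1378 false] [.edge 2235 0 false]))) (.node 1 (.leaf (.eqT 131 10971209 false [.plain 722 11485265 true, .edge 2235 968 false] [.edge 2234 0 false])) (.node 1 (.leaf (.eq 646 17043521 [] [.plain 2237 4812875 false])) (.leaf (.eq 646 17043521 [] [.plain 2236 4677697 false])))))))
(.node 8 (.node 4 (.node 2 (.node 1 (.leaf (.mov 646 10971209 false [.plain 2239 17262685 true, .edge 2229 120 false])) (.leaf (.mov 646 6776923 false [.plain 2238 10971215 true, .edge 2240 1045 false]))) (.node 1 (.leaf .dfn) (.leaf (.mov 648 17043521 false [.edge 2242 0 true]))))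
(.node 2 (.node 1 (.leaf .dfn) (.leaf (.mov 649 17043521 false [.edge 2244 0 true]))) (.node 1 (.leaf .dfn) (.leaf (.mov 650 17043521 false [.edge 2246 0 true])))))
(.node 4 (.node 2 (.node 1 (.leaf (.rel 131 25587785 5 [.edge 2112 1281 false, .edge 2154 547 false, .mul, .edge 2242 1398 false, .mul, .edge 2244 1367 false, .mul, .edge 2246 636 false, .mul])) (.leaf (.eq 650 17043521 [] [.plain 2248 11300931 true]))) (.node 1 (.leaf (.eqT 131 19085399 false [.plain 2249 17111119 true, .edge 2247 66 false] [.edge 739 0 false])) (.leaf (.eq 649 15208525 [] [.plain 2250 17043521 false, .plain 749 17043521 false]))))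
(.node 2 (.node 1 (.leaf (.eq 649 17043521 [] [.plain 2251 9113683 false])) (.leaf (.eqT 131 23928925 false [.plain 2252 17459267 true, .edge 2245 1516 false] [.edge 2080 0 false]))) (.node 1 (.leaf (.eq 648 17043521 [] [.plain 2253 4608071 false])) (.node 1 (.leaf (.mov 607 19085399 false [.plain 2254 17446977 true, .edge 2243 68 false])) (.leaf .dfn)))))))
(.node 17 (.node 8 (.node 4 (.node 2 (.node 1 (.leaf (.mov 651 17043521 false [.edge 2256 0 true])) (.leaf (.mov 132 4808797 false [.plain 726 19032153 true, .edge 2256 1191 false]))) (.node 1 (.leaf (.eqT 132 4808797 false [.plain 727 4796495 true, .edge 2258 1155 false] [.edge 2258 0 false])) (.leaf (.eqT 132 19085399 false [.plain 727 19095633 true, .edge 2256 570 false] [.edge 2256 0 false]))))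
(.node 2 (.node 1 (.leaf (.eq 651 17043521 [] [.plain 2260 17240151 false])) (.leaf (.eq 651 17043521 [] [.plain 2259 17045593 false]))) (.node 1 (.leaf .dfn) (.leaf (.mov 132 9056345 false [.plain 726 21248081 true, .edge 2263 135 false])))))
(.node 4 (.node 2 (.node 1 (.leaf (.mov 132 7292999 false [.plain 727 7282777 true, .edge 2264 542 false])) (.leaf (.mov 132 31801425 false [.plain 726 11487311 true, .edge 2265 354 false]))) (.node 1 (.leaf (.eqT 132 7292999 false [.plain 726 31670337 true, .edge 2266 836 false] [.edge 2265 0 false])) (.leaf (.eq 654 17043521 [] [.plain 2267 17440837 false]))))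
(.node 2 (.node 1 (.leaf .dfn) (.leaf (.mov 132 31801425 true [.plain 726 11487311 true, .edge 2269 24 false]))) (.node 1 (.leaf (.mov 132 10971209 true [.plain 726 15032387 true, .edge 2270 1070 false])) (.node 1 (.leaf (.mov 132 4808797 true [.plain 726 19032153 true, .edge 2271 716 false])) (.leaf (.mov 132 29904967 true [.plain 727 29911127 true, .edge 2272 107 false])))))))
(.node 9 (.node 4 (.node 2 (.node 1 (.leaf (.mov 132 19085399 true [.plain 726 6893637 true, .edge 2273 974 false])) (.leaf (.mov 132 4544593 true [.plain 726 10637397 true, .edge 2274 1262 false]))) (.node 1 (.leaf (.mov 132 25385043 true [.plain 726 7098443 true, .edge 2275 364 false])) (.leaf .dfn)))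
(.node 2 (.node 1 (.leaf .dfn) (.leaf (.mov 659 17043521 true [.edge 2278 0 true]))) (.node 1 (.leaf (.rel 132 10633295 1 [.edge 2269 117 false, .mul, .edge 2277 1262 false, .mul, .edge 2278 773 false, .mul, .mul])) (.node 1 (.leaf (.eq 659 17043521 [] [.plain 2280 9255007 true])) (.leaf (.eqT 132 10971209 true [.plain 2281 17651795 true, .edge 2279 523 false] [.edge 2271 0 false]))))))
(.node 4 (.node 2 (.node 1 (.leaf (.eq 658 17043521 [] [.plain 2282 17651805 false])) (.leaf .dfn)) (.node 1 (.leaf (.mov 132 32131155 true [.plain 726 21971021 true, .edge 2284 652 false])) (.leaf (.eqT 132 32131155 true [.plain 727 32139335 true, .edge 2284 1485 false] [.edge 2285 0 false]))))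
(.node 2 (.node 1 (.leaf (.eq 664 17043521 [] [.plain 2286 9203803 false])) (.leaf .dfn)) (.node 1 (.leaf (.mov 664 27529303 false [.plain 2287 27856983 true, .edge 2288 1125 false])) (.node 1 (.leaf .dfn) (.leaf .dfn))))))))
(.node 35 (.node 17 (.node 8 (.node 4 (.node 2 (.node 1 (.leaf (.mov 667 17043521 false [.edge 2291 0 true])) (.leaf .dfn)) (.node 1 (.leaf (.mov 668 17043521 true [.edge 2293 0 true])) (.leaf (.rel 132 32204893 2 [.edge 2284 316 false, .edge 2288 1494 false, .mul, .edge 2290 174 false, .mul, .edge 2291 358 false, .mul, .edge 2293 275 false, .mul]))))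
(.node 2 (.node 1 (.leaf (.eq 668 17043521 [] [.plain 2295 17133637 true])) (.leaf (.eqT 132 32131155 true [.plain 2296 27555921 true, .edge 2294 222 false] [.edge 2285 0 false]))) (.node 1 (.leaf (.eq 667 17043521 [] [.plain 2297 8925255 false])) (.leaf (.mov 664 29904967 false [.plain 2298 17178719 true, .edge 2292 650 false])))))
(.node 4 (.node 2 (.node 1 (.leaf (.mov 664 13510735 false [.plain 2287 13117519 true, .edge 2299 1194 false])) (.leaf .dfn)) (.node 1 (.leaf (.mov 669 17043521 false [.edge 2301 0 true])) (.leaf .dfn)))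
(.node 2 (.node 1 (.leaf (.mov 670 17043521 false [.edge 2303 0 true])) (.leaf .dfn)) (.node 1 (.leaf (.mov 671 17043521 true [.edge 2305 0 true])) (.node 1 (.leaf (.rel 132 30031963 3 [.edge 2285 841 false, .edge 2289 712 false, .mul, .edge 2301 353 false, .mul, .edge 2303 1348 false, .mul, .edge 2305 36 false, .mul])) (.leaf (.eq 671 17043521 [] [.plain 2307 27818051 true])))))))
(.node 9 (.node 4 (.node 2 (.node 1 (.leaf (.eqT 132 32131155 true [.plain 2308 11358283 true, .edge 2306 340 false] [.edge 2285 0 false])) (.leaf (.eq 670 17043521 [] [.plain 2309 16932947 false]))) (.node 1 (.leaf (.eqT 664 13510735 false [.plain 2310 17002563 true, .edge 2304 1387 false] [.edge 2300 0 false])) (.leaf (.eq 669 17043521 [] [.plain 2311 19157065 false]))))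
(.node 2 (.node 1 (.leaf (.mov 666 27529303 false [.plain 2312 17594451 true, .edge 2302 697 false])) (.leaf .dfn)) (.node 1 (.leaf .dfn) (.node 1 (.leaf (.mov 678 17043521 false [.edge 2315 0 true])) (.leaf .dfn)))))
(.node 4 (.node 2 (.node 1 (.leaf (.mov 681 17043521 false [.edge 2317 0 true])) (.leaf .dfn)) (.node 1 (.leaf (.mov 682 17043521 false [.edge 2319 0 true])) (.leaf .dfn)))
(.node 2 (.node 1 (.leaf (.mov 683 17043521 false [.edge 2321 0 true])) (.leaf .dfn)) (.node 1 (.leaf (.mov 684 17043521 false [.edge 2323 0 true])) (.node 1 (.leaf (.rel 132 6641739 4 [.edge 2275 1366 false, .edge 2317 939 false, .mul, .edge 2319 448 false, .mul, .edge 2321 1000 false, .mul, .edge 2323 859 false, .mul])) (.leaf (.eq 684 17043521 [] [.plain 2325 29827163 true]))))))))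
(.node 17 (.node 8 (.node 4 (.node 2 (.node 1 (.leaf (.eqT 132 9056345 false [.plain 2326 17135701 true, .edge 2324 1467 false] [.edge 2264 0 false])) (.leaf (.eq 683 17043521 [] [.plain 2327 30029891 false]))) (.node 1 (.leaf (.mov 654 32125001 false [.plain 2328 16982097 true, .edge 2322 305 false])) (.leaf .dfn)))
(.node 2 (.node 1 (.leaf .dfn) (.leaf (.mov 686 17043521 false [.edge 2331 0 true]))) (.node 1 (.leaf .dfn) (.leaf (.mov 687 17043521 false [.edge 2333 0 true])))))
(.node 4 (.node 2 (.node 1 (.leaf (.rel 132 5122141 5 [.edge 2284 410 false, .edge 2288 515 false, .mul, .edge 2330 607 false, .mul, .edge 2331 249 false, .mul, .edge 2333 323 false, .mul])) (.leaf (.eq 687 17043521 [] [.plain 2335 6961223 true]))) (.node 1 (.leaf (.eqT 132 27529303 false [.plain 2336 17258571 true, .edge 2334 371 false] [.edge 1914 0 false])) (.leaf (.eq 686 21317723 [] [.plain 2337 17043521 false, .plain 1920 17043521 false]))))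
(.node 2 (.node 1 (.leaf (.eq 686 17043521 [] [.plain 2338 6641743 false])) (.leaf (.eqT 132 9056345 false [.plain 2339 16937041 true, .edge 2332 1482 false] [.edge 2264 0 false]))) (.node 1 (.leaf (.eq 685 17043521 [] [.plain 2340 6828115 false])) (.node 1 (.leaf .dfn) (.leaf .dfn))))))
(.node 9 (.node 4 (.node 2 (.node 1 (.leaf .dfn) (.leaf (.mov 690 17043521 false [.edge 2344 0 true]))) (.node 1 (.leaf .dfn) (.leaf (.mov 691 17043521 false [.edge 2346 0 true]))))
(.node 2 (.node 1 (.leaf (.rel 132 25643085 5 [.edge 2269 1132 false, .edge 2342 1167 false, .mul, .edge 2343 124 false, .mul, .edge 2344 583 false, .mul, .edge 2346 909 false, .mul])) (.leaf (.eq 691 17043521 [] [.plain 2348 13592665 true]))) (.node 1 (.leaf (.eqT 132 19085399 false [.plain 2349 17043531 true, .edge 2347 759 false] [.edge 2256 0 false])) (.node 1 (.leaf (.eq 690 17043521 [] [.plain 2350 21192793 false])) (.leaf (.mov 651 27529303 false [.plain 2351 17442899 true, .edge 2345 412 false]))))))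
(.node 4 (.node 2 (.node 1 (.leaf (.mov 651 9056345 false [.plain 2261 9252959 true, .edge 2352 142 false])) (.leaf (.mov 651 29904967 false [.plain 2262 30167111 true, .edge 2353 431 false]))) (.node 1 (.leaf (.mov 651 23928925 false [.plain 2261 23601217 true, .edge 2354 738 false])) (.leaf .dfn)))
(.node 2 (.node 1 (.leaf (.mov 138 31801425 false [.plain 755 31873111 true, .edge 2356 89 false])) (.leaf (.mov 138 29904967 false [.plain 756 30031963 true, .edge 2357 1510 false]))) (.node 1 (.leaf (.mov 138 32125001 false [.plain 755 31989837 true, .edge 2358 1355 false])) (.node 1 (.leaf .dfn) (.leaf .dfn)))))))))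

/-- The reasons. -/
def caseDFullSrcRLLLR : Tab Src :=
(.node 69 (.node 34 (.node 17 (.node 8 (.node 4 (.node 2 (.node 1 (.leaf (.mov 694 17043521 false [.edge 2361 0 true])) (.leaf (.rel 138 11292737 0 [.edge 2356 797 false, .mul, .edge 2360 1478 false, .mul, .edge 2361 1015 false, .mul, .mul]))) (.node 1 (.leaf (.eq 694 17043521 [] [.plain 2363 19798105 true])) (.leaf (.mov 138 13510735 false [.plain 2364 16935003 true, .edge 2362 810 false]))))
(.node 2 (.node 1 (.leaf (.mov 138 7292999 false [.plain 755 7039055 true, .edge 2365 19 false])) (.leaf (.mov 138 4808797 false [.plain 756 4999257 true, .edge 2366 1414 false]))) (.node 1 (.leaf (.mov 138 10971209 false [.plain 755 11081813 true, .edge 2367 1257 false])) (.leaf .dfn))))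
(.node 4 (.node 2 (.node 1 (.leaf (.mov 138 29904967 true [.plain 756 30031963 true, .edge 2369 841 false])) (.leaf (.eqT 138 29904967 true [.plain 755 29702237 true, .edge 2370 1400 false] [.edge 2370 0 false]))) (.node 1 (.leaf (.eq 705 17043521 [] [.plain 2371 27547721 false])) (.leaf .dfn)))
(.node 2 (.node 1 (.leaf (.mov 717 17043521 false [.edge 2373 0 true])) (.leaf .dfn)) (.node 1 (.leaf (.mov 718 17043521 false [.edge 2375 0 true])) (.node 1 (.leaf .dfn) (.leaf (.mov 719 17043521 false [.edge 2377 0 true])))))))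
(.node 8 (.node 4 (.node 2 (.node 1 (.leaf .dfn) (.leaf (.mov 720 17043521 false [.edge 2379 0 true]))) (.node 1 (.leaf (.rel 138 23670853 4 [.edge 2370 887 false, .edge 2373 162 false, .mul, .edge 2375 1085 false, .mul, .edge 2377 1179 false, .mul, .edge 2379 323 false, .mul])) (.leaf (.eq 720 17043521 [] [.plain 2381 6973507 true]))))
(.node 2 (.node 1 (.leaf (.eqT 138 10971209 false [.plain 2382 17512527 true, .edge 2380 328 false] [.edge 2368 0 false])) (.leaf (.eq 719 17043521 [] [.plain 2383 6959169 false]))) (.node 1 (.leaf (.mov 693 27529303 false [.plain 2384 16934979 true, .edge 2378 1137 false])) (.leaf .dfn))))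
(.node 4 (.node 2 (.node 1 (.leaf (.mov 705 27529303 false [.plain 2372 19140703 true, .edge 2386 1336 false])) (.leaf .dfn)) (.node 1 (.leaf .dfn) (.leaf (.mov 727 17043521 false [.edge 2389 0 true]))))
(.node 2 (.node 1 (.leaf .dfn) (.leaf (.mov 728 17043521 false [.edge 2391 0 true]))) (.node 1 (.leaf (.rel 138 4603969 5 [.edge 2369 1294 false, .edge 2386 1471 false, .mul, .edge 2388 1239 false, .mul, .edge 2389 1252 false, .mul, .edge 2391 582 false, .mul])) (.node 1 (.leaf (.eq 728 17043521 [] [.plain 2393 25514063 true])) (.leaf (.eqT 138 6776923 false [.plain 2394 17127493 true, .edge 2392 241 false] [.edge 2083 0 false]))))))))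
(.node 17 (.node 8 (.node 4 (.node 2 (.node 1 (.leaf (.eq 727 17043521 [] [.plain 2395 9384011 false])) (.leaf (.eqT 610 23928925 false [.plain 2396 17528905 true, .edge 2390 1377 false] [.edge 2108 0 false]))) (.node 1 (.leaf (.eq 726 17043521 [] [.plain 2397 12795987 false])) (.leaf .dfn)))
(.node 2 (.node 1 (.leaf (.mov 139 13510735 true [.plain 779 9189471 true, .edge 2399 348 false])) (.leaf .dfn)) (.node 1 (.leaf (.mov 730 17043521 true [.edge 2401 0 true])) (.leaf .dfn))))
(.node 4 (.node 2 (.node 1 (.leaf (.mov 731 17043521 true [.edge 2403 0 true])) (.leaf (.rel 139 9205837 1 [.edge 2399 689 false, .mul, .edge 2401 610 false, .mul, .edge 2403 965 false, .mul, .mul]))) (.node 1 (.leaf (.eq 731 17043521 [] [.plain 2405 11024461 true])) (.leaf (.eqT 139 17043521 true [.plain 2406 17651795 true, .edge 2404 523 false] [.edge 2219 0 false]))))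
(.node 2 (.node 1 (.leaf (.eq 730 17043521 [] [.plain 2407 17651805 false])) (.leaf (.eqT 131 11495495 true [.plain 2408 25720899 true, .edge 2402 249 false] [.edge 723 0 false]))) (.node 1 (.leaf (.eq 729 17043521 [] [.plain 2409 27859031 false])) (.node 1 (.leaf .dfn) (.leaf (.mov 139 29904967 true [.plain 761 29892695 true, .edge 2411 319 false])))))))
(.node 9 (.node 4 (.node 2 (.node 1 (.leaf (.mov 139 4544593 true [.plain 762 4552791 true, .edge 2412 1211 false])) (.leaf (.mov 139 31801425 true [.plain 761 31799387 true, .edge 2413 40 false]))) (.node 1 (.leaf (.mov 139 19085399 true [.plain 777 4728913 true, .edge 2414 1417 false])) (.leaf (.mov 139 25385043 true [.plain 761 25376853 true, .edge 2415 735 false]))))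
(.node 2 (.node 1 (.leaf (.mov 139 10971209 true [.plain 762 10967105 true, .edge 2416 509 false])) (.leaf (.mov 139 11495495 true [.plain 761 11485273 true, .edge 2417 426 false]))) (.node 1 (.leaf (.eqT 139 25385043 true [.plain 779 21325901 true, .edge 2411 994 false] [.edge 2416 0 false])) (.node 1 (.leaf (.eq 732 17043521 [] [.plain 2419 25499729 false])) (.leaf .dfn)))))
(.node 4 (.node 2 (.node 1 (.leaf (.mov 732 13510735 false [.plain 2420 17180751 true, .edge 2421 677 false])) (.leaf (.mov 732 29904967 false [.plain 2420 13520967 true, .edge 2422 885 false]))) (.node 1 (.leaf .dfn) (.leaf .dfn)))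
(.node 2 (.node 1 (.leaf (.mov 742 17043521 false [.edge 2425 0 true])) (.leaf .dfn)) (.node 1 (.leaf (.mov 743 17043521 true [.edge 2427 0 true])) (.node 1 (.leaf (.rel 139 13256785 3 [.edge 2220 1327 false, .edge 780 1348 false, .mul, .edge 2424 945 false, .mul, .edge 2425 454 false, .mul, .edge 2427 280 false, .mul])) (.leaf (.eq 743 17043521 [] [.plain 2429 27613257 true])))))))))
(.node 35 (.node 17 (.node 8 (.node 4 (.node 2 (.node 1 (.leaf (.eqT 139 32131155 true [.plain 2430 11284571 true, .edge 2428 1392 false] [.edge 2220 0 false])) (.leaf (.eq 742 17043521 [] [.plain 2431 19101771 false]))) (.node 1 (.leaf (.eqT 131 31801425 false [.plain 2432 17051739 true, .edge 2426 1145 false] [.edge 2235 0 false])) (.leaf (.eq 741 17043521 [] [.plain 2433 19740751 false]))))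
(.node 2 (.node 1 (.leaf .dfn) (.leaf (.mov 128 19085399 false [.plain 695 17463381 true, .edge 2435 1487 false]))) (.node 1 (.leaf (.eqT 128 19085399 false [.plain 694 19626055 true, .edge 2436 1159 false] [.edge 2436 0 false])) (.leaf (.eqT 128 17043521 false [.plain 695 19683395 true, .edge 2436 13 false] [.edge 2435 0 false])))))
(.node 4 (.node 2 (.node 1 (.leaf (.eq 747 17043521 [] [.plain 2438 17059905 false])) (.leaf (.eq 747 17043521 [] [.plain 2437 17461325 false]))) (.node 1 (.leaf .dfn) (.leaf (.mov 748 17043521 false [.edge 2441 0 true]))))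
(.node 2 (.node 1 (.leaf (.mov 747 23928925 false [.plain 2439 23951453 true, .edge 2441 943 false])) (.leaf (.mov 747 13310023 false [.plain 2440 13307973 true, .edge 2443 1186 false]))) (.node 1 (.leaf (.mov 747 9056345 false [.plain 2439 9048153 true, .edge 2444 636 false])) (.node 1 (.leaf .dfn) (.leaf (.mov 749 17043521 false [.edge 2446 0 true])))))))
(.node 9 (.node 4 (.node 2 (.node 1 (.leaf (.rel 139 31877199 4 [.edge 2400 136 false, .plain 2410 11030619 false, .edge 728 335 false, .plain 735 17786953 false, .mul, .edge 2435 434 false, .mul, .edge 2441 240 false, .mul, .edge 2446 45 false, .mul])) (.leaf (.eq 749 17043521 [] [.plain 2448 6975557 true]))) (.node 1 (.leaf (.eqT 139 31801425 false [.plain 2449 17125453 true, .edge 2447 848 false] [.edge 797 0 false])) (.leaf (.eq 748 17043521 [] [.plain 2450 7094347 false]))))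
(.node 2 (.node 1 (.leaf (.mov 141 7292999 false [.plain 2451 17586259 true, .edge 2442 1493 false])) (.leaf .dfn)) (.node 1 (.leaf .dfn) (.node 1 (.leaf (.mov 751 17043521 false [.edge 2454 0 true])) (.leaf .dfn)))))
(.node 4 (.node 2 (.node 1 (.leaf (.mov 752 17043521 false [.edge 2456 0 true])) (.leaf (.rel 139 17786973 5 [.edge 2418 1400 false, .edge 2421 1083 false, .mul, .edge 2453 841 false, .mul, .edge 2454 351 false, .mul, .edge 2456 1338 false, .mul]))) (.node 1 (.leaf (.eq 752 17043521 [] [.plain 2458 15601751 true])) (.leaf (.eqT 139 31801425 false [.plain 2459 17000529 true, .edge 2457 728 false] [.edge 797 0 false]))))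
(.node 2 (.node 1 (.leaf (.eq 751 17043521 [] [.plain 2460 27547719 false])) (.leaf (.mov 141 29904967 false [.plain 2461 17633351 true, .edge 2455 312 false]))) (.node 1 (.leaf (.mov 141 13310023 false [.plain 784 13113423 true, .edge 2462 717 false])) (.node 1 (.leaf .dfn) (.leaf .dfn)))))))
(.node 17 (.node 8 (.node 4 (.node 2 (.node 1 (.leaf (.mov 757 17043521 false [.edge 2465 0 true])) (.leaf (.rel 141 14831709 0 [.edge 2463 946 false, .mul, .edge 2464 1107 false, .mul, .edge 2465 808 false, .mul, .mul]))) (.node 1 (.leaf (.eq 757 17043521 [] [.plain 2467 19740737 true])) (.leaf (.mov 141 23928925 false [.plain 2468 17698907 true, .edge 2466 715 false]))))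
(.node 2 (.node 1 (.leaf (.mov 141 4808797 false [.plain 784 4546627 true, .edge 2469 493 false])) (.leaf .dfn)) (.node 1 (.leaf (.mov 141 4808797 true [.plain 784 4546627 true, .edge 2471 1427 false])) (.leaf .dfn))))
(.node 4 (.node 2 (.node 1 (.leaf (.mov 141 4544593 true [.plain 784 5134401 true, .edge 2473 446 false])) (.leaf (.mov 141 13310023 true [.plain 785 13113419 true, .edge 2474 506 false]))) (.node 1 (.leaf (.mov 141 29904967 true [.plain 784 29511757 true, .edge 2475 1298 false])) (.leaf .dfn)))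
(.node 2 (.node 1 (.leaf (.mov 771 17043521 false [.edge 2477 0 true])) (.leaf .dfn)) (.node 1 (.leaf .dfn) (.node 1 (.leaf (.mov 773 17043521 false [.edge 2480 0 true])) (.leaf .dfn))))))
(.node 9 (.node 4 (.node 2 (.node 1 (.leaf (.mov 774 17043521 true [.edge 2482 0 true])) (.leaf (.rel 141 15560777 2 [.edge 2474 127 false, .edge 2477 481 false, .mul, .edge 2479 921 false, .mul, .edge 2480 50 false, .mul, .edge 2482 17 false, .mul]))) (.node 1 (.leaf (.eq 774 17043521 [] [.plain 2484 25786447 true])) (.leaf (.eqT 141 29904967 true [.plain 2485 27801667 true, .edge 2483 121 false] [.edge 2476 0 false]))))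
(.node 2 (.node 1 (.leaf (.eq 773 17043521 [] [.plain 2486 4876379 false])) (.leaf (.eqT 764 17043521 false [.plain 2487 17508431 true, .edge 2481 1009 false] [.edge 2477 0 false]))) (.node 1 (.leaf (.eq 772 17043521 [] [.plain 2488 19273815 false])) (.node 1 (.leaf .dfn) (.leaf (.mov 141 25385043 true [.plain 784 25712735 true, .edge 2490 799 false]))))))
(.node 4 (.node 2 (.node 1 (.leaf (.mov 141 17043521 true [.plain 785 17174609 true, .edge 2491 356 false])) (.leaf (.mov 141 19085399 true [.plain 784 19150921 true, .edge 2492 1176 false]))) (.node 1 (.leaf .dfn) (.leaf .dfn)))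
(.node 2 (.node 1 (.leaf (.mov 781 17043521 false [.edge 2495 0 true])) (.leaf .dfn)) (.node 1 (.leaf (.mov 782 17043521 false [.edge 2497 0 true])) (.node 1 (.leaf .dfn) (.leaf (.mov 783 17043521 true [.edge 2499 0 true]))))))))))

/-- The reasons. -/
def caseDFullSrcRLLL : Tab Src := .node 139 caseDFullSrcRLLLL caseDFullSrcRLLLR

/-- The reasons. -/
def caseDFullSrcRLLRL : Tab Src :=
(.node 69 (.node 34 (.node 17 (.node 8 (.node 4 (.node 2 (.node 1 (.leaf (.rel 141 28192849 3 [.edge 2491 603 false, .edge 2494 1220 false, .mul, .edge 2495 1413 false, .mul, .edge 2497 972 false, .mul, .edge 2499 28 false, .mul])) (.leaf (.eq 783 17043521 [] [.plain 2501 17594459 true]))) (.node 1 (.leaf (.eqT 141 25385043 true [.plain 2502 17649739 true, .edge 2500 275 false] [.edge 2491 0 false])) (.leaf (.eq 782 17043521 [] [.plain 2503 19814491 false]))))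
(.node 2 (.node 1 (.leaf (.mov 775 13510735 false [.plain 2504 16935003 true, .edge 2498 810 false])) (.leaf .dfn)) (.node 1 (.leaf (.mov 789 17043521 true [.edge 2506 0 true])) (.leaf .dfn))))
(.node 4 (.node 2 (.node 1 (.leaf (.mov 790 17043521 false [.edge 2508 0 true])) (.leaf .dfn)) (.node 1 (.leaf (.mov 791 17043521 false [.edge 2510 0 true])) (.leaf .dfn)))
(.node 2 (.node 1 (.leaf (.mov 792 17043521 false [.edge 2512 0 true])) (.leaf .dfn)) (.node 1 (.leaf (.mov 793 17043521 false [.edge 2514 0 true])) (.node 1 (.leaf (.rel 141 19079241 4 [.edge 2506 828 false, .edge 2508 760 false, .mul, .edge 2510 768 false, .mul, .edge 2512 867 false, .mul, .edge 2514 135 false, .mul])) (.leaf (.eq 793 17043521 [] [.plain 2516 27531339 true])))))))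
(.node 8 (.node 4 (.node 2 (.node 1 (.leaf (.eqT 141 10971209 false [.plain 2517 17643595 true, .edge 2515 1083 false] [.edge 786 0 false])) (.leaf (.eq 792 30226507 [] [.plain 2518 17043521 false, .plain 793 17043521 false]))) (.node 1 (.leaf (.eq 792 17043521 [] [.plain 2519 24012895 false])) (.leaf (.eqT 139 10971209 false [.plain 2520 17698883 true, .edge 2513 1431 false] [.edge 796 0 false]))))
(.node 2 (.node 1 (.leaf (.eq 791 17043521 [] [.plain 2521 15417429 false])) (.leaf (.mov 141 31801425 false [.plain 2522 16916559 true, .edge 2511 186 false]))) (.node 1 (.leaf .dfn) (.leaf (.mov 794 17043521 false [.edge 2524 0 true])))))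
(.node 4 (.node 2 (.node 1 (.leaf .dfn) (.leaf (.mov 795 17043521 false [.edge 2526 0 true]))) (.node 1 (.leaf .dfn) (.leaf (.mov 796 17043521 false [.edge 2528 0 true]))))
(.node 2 (.node 1 (.leaf .dfn) (.leaf (.mov 797 17043521 false [.edge 2530 0 true]))) (.node 1 (.leaf (.rel 141 4681803 5 [.edge 2473 1244 false, .edge 2524 266 false, .mul, .edge 2526 26 false, .mul, .edge 2528 969 false, .mul, .edge 2530 804 false, .mul])) (.node 1 (.leaf (.eq 797 17043521 [] [.plain 2532 11294809 true])) (.leaf (.eqT 141 32125001 false [.plain 2533 17576011 true, .edge 2531 394 false] [.edge 2223 0 false]))))))))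
(.node 17 (.node 8 (.node 4 (.node 2 (.node 1 (.leaf (.eq 796 15214679 [] [.plain 2534 17043521 false, .plain 2215 19619909 false])) (.leaf (.eq 796 17043521 [] [.plain 2535 8605791 false]))) (.node 1 (.leaf (.eqT 138 31801425 false [.plain 2536 17592405 true, .edge 2529 367 false] [.edge 2357 0 false])) (.leaf (.eq 795 17043521 [] [.plain 2537 4995147 false]))))
(.node 2 (.node 1 (.leaf (.mov 692 4808797 false [.plain 2538 17567815 true, .edge 2527 1508 false])) (.leaf .dfn)) (.node 1 (.leaf (.mov 798 17043521 false [.edge 2540 0 true])) (.leaf .dfn))))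
(.node 4 (.node 2 (.node 1 (.leaf (.mov 799 17043521 false [.edge 2542 0 true])) (.leaf .dfn)) (.node 1 (.leaf (.mov 800 17043521 false [.edge 2544 0 true])) (.leaf .dfn)))
(.node 2 (.node 1 (.leaf (.mov 801 17043521 false [.edge 2546 0 true])) (.leaf (.rel 141 12802143 5 [.edge 2475 293 false, .edge 2540 210 false, .mul, .edge 2542 1204 false, .mul, .edge 2544 403 false, .mul, .edge 2546 379 false, .mul]))) (.node 1 (.leaf (.eq 801 17043521 [] [.plain 2548 6957141 true])) (.node 1 (.leaf (.eqT 141 10971209 false [.plain 2549 17258579 true, .edge 2547 1059 false] [.edge 786 0 false])) (.leaf (.eq 800 7096391 [] [.plain 2550 17043521 false, .plain 793 17043521 false])))))))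
(.node 9 (.node 4 (.node 2 (.node 1 (.leaf (.eq 800 17043521 [] [.plain 2551 6768721 false])) (.leaf (.eqT 139 4808797 false [.plain 2552 17246285 true, .edge 2545 643 false] [.edge 778 0 false]))) (.node 1 (.leaf (.eq 799 17043521 [] [.plain 2553 6778973 false])) (.leaf (.eqT 138 29904967 false [.plain 2554 17045569 true, .edge 2543 520 false] [.edge 2358 0 false]))))
(.node 2 (.node 1 (.leaf (.eq 798 17043521 [] [.plain 2555 7159889 false])) (.leaf (.mov 692 29904967 false [.plain 2556 17528897 true, .edge 2541 1287 false]))) (.node 1 (.leaf .dfn) (.node 1 (.leaf (.mov 802 17043521 false [.edge 2558 0 true])) (.leaf .dfn)))))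
(.node 4 (.node 2 (.node 1 (.leaf (.mov 803 17043521 false [.edge 2560 0 true])) (.leaf (.rel 144 23228507 0 [.edge 917 314 false, .mul, .edge 2558 193 false, .mul, .edge 2560 473 false, .mul, .mul]))) (.node 1 (.leaf (.eq 803 17043521 [] [.plain 2562 19015757 true])) (.leaf (.mov 144 13510735 false [.plain 2563 17764417 true, .edge 2561 47 false]))))
(.node 2 (.node 1 (.leaf (.mov 144 29904967 false [.plain 810 29761607 true, .edge 2564 1075 false])) (.leaf .dfn)) (.node 1 (.leaf (.mov 144 29904967 true [.plain 810 29761607 true, .edge 2566 1298 false])) (.node 1 (.leaf (.mov 144 32131155 true [.plain 811 32004175 true, .edge 2567 430 false])) (.leaf .dfn))))))))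
(.node 35 (.node 17 (.node 8 (.node 4 (.node 2 (.node 1 (.leaf (.mov 144 17059919 true [.plain 811 17508445 true, .edge 2569 447 false])) (.leaf (.eqT 144 17059919 true [.plain 810 17567823 true, .edge 2570 578 false] [.edge 2570 0 false]))) (.node 1 (.leaf (.eq 818 17043521 [] [.plain 2571 25434179 false])) (.leaf .dfn)))
(.node 2 (.node 1 (.leaf (.eqT 818 13510735 false [.plain 2572 29763679 true, .edge 2573 1159 false] [.edge 2573 0 false])) (.leaf (.eq 819 17043521 [] [.plain 2574 17111105 false]))) (.node 1 (.leaf .dfn) (.leaf (.eqT 819 19085399 false [.plain 2575 19017815 true, .edge 2576 1281 false] [.edge 2576 0 false])))))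
(.node 4 (.node 2 (.node 1 (.leaf (.eq 820 17043521 [] [.plain 2577 17584209 false])) (.leaf .dfn)) (.node 1 (.leaf (.mov 821 17043521 false [.edge 2579 0 true])) (.leaf .dfn)))
(.node 2 (.node 1 (.leaf (.mov 822 17043521 true [.edge 2581 0 true])) (.leaf (.rel 144 16998479 3 [.edge 2569 451 false, .edge 2573 601 false, .mul, .edge 2576 45 false, .mul, .edge 2579 649 false, .mul, .edge 2581 839 false, .mul]))) (.node 1 (.leaf (.eq 822 17043521 [] [.plain 2583 19165259 true])) (.node 1 (.leaf (.eqT 144 11495495 true [.plain 2584 8917083 true, .edge 2582 953 false] [.edge 2569 0 false])) (.leaf (.eq 821 17043521 [] [.plain 2585 27537477 false])))))))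
(.node 9 (.node 4 (.node 2 (.node 1 (.leaf (.mov 818 27529303 false [.plain 2586 17051739 true, .edge 2580 1145 false])) (.leaf .dfn)) (.node 1 (.leaf (.mov 820 7292999 false [.plain 2578 7098433 true, .edge 2588 428 false])) (.leaf .dfn)))
(.node 2 (.node 1 (.leaf (.mov 834 17043521 false [.edge 2590 0 true])) (.leaf .dfn)) (.node 1 (.leaf (.mov 835 17043521 false [.edge 2592 0 true])) (.node 1 (.leaf (.rel 144 19097685 4 [.edge 2569 1080 false, .edge 2587 1412 false, .mul, .edge 2588 587 false, .mul, .edge 2590 1355 false, .mul, .edge 2592 43 false, .mul])) (.leaf (.eq 835 17043521 [] [.plain 2594 9254997 true]))))))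
(.node 4 (.node 2 (.node 1 (.leaf (.eqT 144 31801425 false [.plain 2595 17717315 true, .edge 2593 1197 false] [.edge 919 0 false])) (.leaf (.eq 834 17043521 [] [.plain 2596 4812871 false]))) (.node 1 (.leaf (.mov 167 19085399 false [.plain 2597 17786951 true, .edge 2591 578 false])) (.leaf .dfn)))
(.node 2 (.node 1 (.leaf .dfn) (.leaf .dfn)) (.node 1 (.leaf (.mov 838 17043521 false [.edge 2601 0 true])) (.node 1 (.leaf .dfn) (.leaf (.mov 839 17043521 false [.edge 2603 0 true]))))))))
(.node 17 (.node 8 (.node 4 (.node 2 (.node 1 (.leaf (.rel 144 4941891 5 [.edge 2568 936 false, .edge 2599 1309 false, .mul, .edge 2600 944 false, .mul, .edge 2601 1240 false, .mul, .edge 2603 1114 false, .mul])) (.leaf (.eq 839 17043521 [] [.plain 2605 11300945 true]))) (.node 1 (.leaf (.eqT 144 31801425 false [.plain 2606 17459267 true, .edge 2604 1516 false] [.edge 919 0 false])) (.leaf (.eq 838 17043521 [] [.plain 2607 9398349 false]))))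
(.node 2 (.node 1 (.leaf (.mov 167 7292999 false [.plain 2608 17135711 true, .edge 2602 1413 false])) (.leaf .dfn)) (.node 1 (.leaf (.mov 818 17043521 false [.plain 2572 8917081 true, .edge 2610 702 false])) (.leaf .dfn))))
(.node 4 (.node 2 (.node 1 (.leaf .dfn) (.leaf (.mov 842 17043521 false [.edge 2613 0 true]))) (.node 1 (.leaf .dfn) (.leaf (.mov 843 17043521 false [.edge 2615 0 true]))))
(.node 2 (.node 1 (.leaf (.rel 144 25768031 5 [.edge 2570 771 false, .edge 2610 905 false, .mul, .edge 2612 1049 false, .mul, .edge 2613 655 false, .mul, .edge 2615 42 false, .mul])) (.leaf (.eq 843 17043521 [] [.plain 2617 27555927 true]))) (.node 1 (.leaf (.eqT 144 19085399 false [.plain 2618 17526865 true, .edge 2616 764 false] [.edge 812 0 false])) (.node 1 (.leaf (.eq 842 23296087 [] [.plain 2619 17043521 false, .plain 818 17043521 false])) (.leaf (.eq 842 17043521 [] [.plain 2620 25831505 false])))))))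
(.node 9 (.node 4 (.node 2 (.node 1 (.leaf (.eqT 144 13510735 false [.plain 2621 17782863 true, .edge 2614 446 false] [.edge 2564 0 false])) (.leaf (.eq 841 17043521 [] [.plain 2622 9181271 false]))) (.node 1 (.leaf .dfn) (.leaf (.mov 147 13310023 false [.plain 825 13307973 true, .edge 2624 1186 false]))))
(.node 2 (.node 1 (.leaf (.mov 147 10971209 false [.plain 827 15034441 true, .edge 2625 1453 false])) (.leaf .dfn)) (.node 1 (.leaf (.eqT 147 13310023 true [.plain 825 13307973 true, .edge 2627 236 false] [.edge 2627 0 false])) (.node 1 (.leaf (.eqT 147 13310023 true [.plain 826 15341639 true, .edge 2627 853 false] [.edge 2627 0 false])) (.leaf (.eqT 147 13310023 true [.plain 828 13332573 true, .edge 2627 454 false] [.edge 2627 0 false]))))))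
(.node 4 (.node 2 (.node 1 (.leaf (.eq 850 17043521 [] [.plain 2630 25432129 false])) (.leaf (.eq 850 17043521 [] [.plain 2629 19140675 false]))) (.node 1 (.leaf (.eq 850 17043521 [] [.plain 2628 19140673 false])) (.leaf .dfn)))
(.node 2 (.node 1 (.leaf (.mov 850 17043521 false [.plain 2631 25432129 true, .edge 2634 343 false])) (.leaf (.mov 850 19085399 false [.plain 2632 16988245 true, .edge 2635 1352 false]))) (.node 1 (.leaf (.mov 850 27529303 false [.plain 2631 19140695 true, .edge 2636 677 false])) (.node 1 (.leaf (.eqT 850 27529303 false [.plain 2633 25432151 true, .edge 2634 358 false] [.edge 2637 0 false])) (.leaf (.eq 870 17043521 [] [.plain 2638 16939079 false]))))))))))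

/-- The reasons. -/
def caseDFullSrcRLLRR : Tab Src :=
(.node 69 (.node 34 (.node 17 (.node 8 (.node 4 (.node 2 (.node 1 (.leaf .dfn) (.leaf (.eqT 870 27529303 false [.plain 2639 27529293 true, .edge 2640 1251 false] [.edge 2640 0 false]))) (.node 1 (.leaf (.eq 871 17043521 [] [.plain 2641 17651807 false])) (.leaf .dfn)))
(.node 2 (.node 1 (.leaf (.mov 872 17043521 false [.edge 2643 0 true])) (.leaf .dfn)) (.node 1 (.leaf (.mov 873 17043521 false [.edge 2645 0 true])) (.leaf (.rel 147 32127053 4 [.edge 2627 1177 false, .edge 2634 949 false, .mul, .edge 2640 573 false, .mul, .edge 2643 723 false, .mul, .edge 2645 832 false, .mul])))))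
(.node 4 (.node 2 (.node 1 (.leaf (.eq 873 17043521 [] [.plain 2647 23230555 true])) (.leaf (.eqT 147 13310023 false [.plain 2648 17522759 true, .edge 2646 977 false] [.edge 2625 0 false]))) (.node 1 (.leaf (.eq 872 17043521 [] [.plain 2649 14831695 false])) (.leaf (.mov 844 4808797 false [.plain 2650 17784903 true, .edge 2644 1018 false]))))
(.node 2 (.node 1 (.leaf .dfn) (.leaf (.mov 148 27529303 false [.plain 833 17043543 true, .edge 2652 605 false]))) (.node 1 (.leaf (.mov 148 13510735 false [.plain 834 15607887 true, .edge 2653 845 false])) (.node 1 (.leaf (.mov 148 19085399 false [.plain 833 23279703 true, .edge 2654 490 false])) (.leaf .dfn))))))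
(.node 8 (.node 4 (.node 2 (.node 1 (.leaf .dfn) (.leaf (.mov 879 17043521 false [.edge 2657 0 true]))) (.node 1 (.leaf (.rel 148 17522759 0 [.edge 2652 977 false, .mul, .edge 2656 98 false, .mul, .edge 2657 1488 false, .mul, .mul])) (.leaf (.eq 879 17043521 [] [.plain 2659 19101761 true]))))
(.node 2 (.node 1 (.leaf (.eqT 148 19085399 false [.plain 2660 17659971 true, .edge 2658 1165 false] [.edge 2655 0 false])) (.leaf (.eq 878 17043521 [] [.plain 2661 19757145 false]))) (.node 1 (.leaf .dfn) (.leaf (.mov 891 17043521 true [.edge 2663 0 true])))))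
(.node 4 (.node 2 (.node 1 (.leaf .dfn) (.leaf (.mov 892 17043521 false [.edge 2665 0 true]))) (.node 1 (.leaf .dfn) (.leaf (.mov 893 17043521 true [.edge 2667 0 true]))))
(.node 2 (.node 1 (.leaf (.rel 148 27881553 2 [.edge 830 488 false, .edge 894 232 false, .mul, .edge 2663 480 false, .mul, .edge 2665 1406 false, .mul, .edge 2667 357 false, .mul])) (.leaf (.eq 893 17043521 [] [.plain 2669 11341893 true]))) (.node 1 (.leaf (.eqT 148 17059919 true [.plain 2670 19142723 true, .edge 2668 1216 false] [.edge 835 0 false])) (.node 1 (.leaf (.eq 892 25890883 [] [.plain 2671 17043521 false, .plain 838 17043521 false])) (.leaf (.eq 892 17043521 [] [.plain 2672 15667267 false]))))))))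
(.node 17 (.node 8 (.node 4 (.node 2 (.node 1 (.leaf (.eqT 25 17043521 false [.plain 2673 17578055 true, .edge 2666 69 false] [.edge 175 0 false])) (.leaf (.eq 891 17043521 [] [.plain 2674 27469903 false]))) (.node 1 (.leaf (.eqT 19 13510735 true [.plain 2675 9203795 true, .edge 2664 422 false] [.edge 710 0 false])) (.leaf (.eq 161 17043521 [] [.plain 2676 16984155 false]))))
(.node 2 (.node 1 (.leaf (.eqT 129 17043521 false [.plain 2677 17262675 true, .edge 885 822 false] [.edge 2093 0 false])) (.leaf (.eqT 129 19085399 false [.plain 2677 19224647 true, .edge 886 428 false] [.edge 2094 0 false]))) (.node 1 (.leaf (.eq 162 16988233 [.plain 893 16988233 false] [.plain 2679 17043521 false])) (.leaf (.eq 610 17043521 [] [.plain 2680 7163971 true])))))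
(.node 4 (.node 2 (.node 1 (.leaf (.mov 147 17043521 false [.plain 2681 17262687 true, .edge 2084 473 false])) (.leaf (.mov 147 19085399 false [.plain 826 16922711 true, .edge 2682 932 false]))) (.node 1 (.leaf (.mov 147 4808797 false [.plain 827 19030109 true, .edge 2683 960 false])) (.leaf (.mov 147 29904967 false [.plain 826 32067655 true, .edge 2684 664 false]))))
(.node 2 (.node 1 (.leaf (.eqT 147 10971209 false [.plain 2681 11212885 true, .edge 2111 1436 false] [.edge 2626 0 false])) (.leaf (.eq 844 17043521 [] [.plain 2686 17440855 true]))) (.node 1 (.leaf (.mov 612 4808797 false [.plain 2687 21585985 true, .edge 2651 712 false])) (.node 1 (.leaf (.eq 154 19865693 [] [.plain 2678 17043521 false, .plain 2681 30230605 false])) (.leaf (.eq 154 17043521 [] [.plain 2689 19034187 false])))))))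
(.node 9 (.node 4 (.node 2 (.node 1 (.leaf (.rel 148 11032651 4 [.edge 830 408 false, .edge 864 1535 false, .plain 2690 17717313 false, .mul, .edge 2683 1516 false, .mul, .edge 2217 1139 false, .plain 2222 17244249 false, .mul, .edge 2452 894 false, .mul])) (.leaf (.eq 747 17043521 [] [.plain 2691 19357781 true]))) (.node 1 (.leaf (.eqT 148 27529303 false [.plain 2692 10647641 true, .edge 2445 486 false] [.edge 2653 0 false])) (.leaf (.eq 748 16988229 [.plain 2451 16988229 false] [.plain 2693 17043521 false]))))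
(.node 2 (.node 1 (.leaf (.eq 877 17043521 [] [.plain 2694 17633351 true])) (.leaf (.eqT 141 31801425 false [.plain 2695 19159133 true, .edge 2656 889 false] [.edge 2523 0 false]))) (.node 1 (.leaf (.eq 878 17463381 [.plain 2662 17463381 false, .plain 2695 19288139 false] [.plain 2696 17043521 false])) (.node 1 (.leaf (.eq 790 17043521 [] [.plain 2697 29976671 true])) (.leaf (.eqT 141 32125001 false [.plain 2698 17508423 true, .edge 2509 269 false] [.edge 2223 0 false]))))))
(.node 4 (.node 2 (.node 1 (.leaf (.eq 789 9252937 [] [.plain 2699 17043521 false, .plain 2215 19619909 false])) (.leaf (.eq 789 17043521 [] [.plain 2700 27807825 false]))) (.node 1 (.leaf (.mov 138 19085399 true [.plain 2701 19738697 true, .edge 2507 1173 false])) (.leaf .dfn)))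
(.node 2 (.node 1 (.leaf (.mov 150 31801425 true [.plain 1571 31604815 true, .edge 2703 339 false])) (.leaf (.eqT 150 31801425 true [.plain 852 31735891 true, .edge 2704 1013 false] [.edge 2704 0 false]))) (.node 1 (.leaf (.eqT 150 31801425 true [.plain 853 29638737 true, .edge 2704 342 false] [.edge 2704 0 false])) (.node 1 (.leaf (.eq 911 17043521 [] [.plain 2706 25786435 false])) (.leaf (.eq 911 17043521 [] [.plain 2705 25784385 false])))))))))
(.node 35 (.node 17 (.node 8 (.node 4 (.node 2 (.node 1 (.leaf .dfn) (.leaf (.mov 912 17043521 true [.edge 2709 0 true]))) (.node 1 (.leaf (.eqT 911 17059919 true [.plain 2707 19222607 true, .edge 2709 236 false] [.edge 2709 0 false])) (.leaf (.eqT 911 17059919 true [.plain 2708 19224653 true, .edge 2709 853 false] [.edge 2709 0 false]))))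
(.node 2 (.node 1 (.leaf (.eq 912 17043521 [] [.plain 2712 19140675 false])) (.leaf (.eq 912 17043521 [] [.plain 2711 19140673 false]))) (.node 1 (.leaf .dfn) (.leaf (.mov 913 17043521 true [.edge 2715 0 true])))))
(.node 4 (.node 2 (.node 1 (.leaf (.rel 150 13592653 1 [.edge 2703 1269 false, .mul, .edge 2709 1344 false, .mul, .edge 2715 1188 false, .mul, .mul])) (.leaf (.eq 913 17043521 [] [.plain 2717 19157071 true]))) (.node 1 (.leaf (.mov 150 32131155 true [.plain 2718 11284571 true, .edge 2716 1392 false])) (.leaf .dfn)))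
(.node 2 (.node 1 (.leaf (.eqT 911 27529303 false [.plain 2708 25499733 true, .edge 2720 458 false] [.edge 2720 0 false])) (.leaf (.eq 928 17043521 [] [.plain 2721 17059905 false]))) (.node 1 (.leaf .dfn) (.node 1 (.leaf (.mov 929 17043521 false [.edge 2723 0 true])) (.leaf .dfn))))))
(.node 9 (.node 4 (.node 2 (.node 1 (.leaf (.mov 930 17043521 false [.edge 2725 0 true])) (.leaf .dfn)) (.node 1 (.leaf (.mov 931 17043521 true [.edge 2727 0 true])) (.leaf (.rel 150 15419487 3 [.edge 2703 750 false, .edge 2720 1288 false, .mul, .edge 2723 579 false, .mul, .edge 2725 781 false, .mul, .edge 2727 490 false, .mul]))))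
(.node 2 (.node 1 (.leaf (.eq 931 17043521 [] [.plain 2729 17633353 true])) (.leaf (.eqT 150 13510735 true [.plain 2730 9001049 true, .edge 2728 149 false] [.edge 2703 0 false]))) (.node 1 (.leaf (.eq 930 17043521 [] [.plain 2731 31936601 false])) (.node 1 (.leaf (.mov 911 13510735 false [.plain 2732 16935003 true, .edge 2726 810 false])) (.leaf .dfn)))))
(.node 4 (.node 2 (.node 1 (.leaf (.mov 932 17043521 false [.edge 2734 0 true])) (.leaf (.eqT 912 4808797 false [.plain 2713 6905951 true, .edge 2734 520 false] [.edge 2734 0 false]))) (.node 1 (.leaf (.eqT 912 4808797 false [.plain 2714 6905949 true, .edge 2734 1281 false] [.edge 2734 0 false])) (.leaf (.eq 932 17043521 [] [.plain 2737 17584209 false]))))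
(.node 2 (.node 1 (.leaf (.eq 932 17043521 [] [.plain 2736 17584193 false])) (.leaf .dfn)) (.node 1 (.leaf (.mov 933 17043521 false [.edge 2740 0 true])) (.node 1 (.leaf .dfn) (.leaf (.mov 934 17043521 false [.edge 2742 0 true]))))))))
(.node 17 (.node 8 (.node 4 (.node 2 (.node 1 (.leaf .dfn) (.leaf (.mov 935 17043521 false [.edge 2744 0 true]))) (.node 1 (.leaf (.rel 150 15417411 4 [.edge 2719 39 false, .edge 2734 1263 false, .mul, .edge 2740 1055 false, .mul, .edge 2742 287 false, .mul, .edge 2744 1215 false, .mul])) (.leaf (.eq 935 17043521 [] [.plain 2746 25524301 true]))))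
(.node 2 (.node 1 (.leaf (.eqT 150 27529303 false [.plain 2747 17440841 true, .edge 2745 435 false] [.edge 867 0 false])) (.leaf (.eq 934 17043521 [] [.plain 2748 9388107 false]))) (.node 1 (.leaf (.mov 157 6776923 false [.plain 2749 16982081 true, .edge 2743 604 false])) (.leaf .dfn))))
(.node 4 (.node 2 (.node 1 (.leaf (.mov 911 4808797 false [.plain 2707 6840413 true, .edge 2751 432 false])) (.leaf (.eqT 911 4808797 false [.plain 2708 6842463 true, .edge 2751 845 false] [.edge 2752 0 false]))) (.node 1 (.leaf (.eq 936 17043521 [] [.plain 2753 17768523 false])) (.leaf .dfn)))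
(.node 2 (.node 1 (.leaf (.eqT 936 13510735 false [.plain 2754 13506639 true, .edge 2755 1353 false] [.edge 2755 0 false])) (.leaf (.eq 937 17043521 [] [.plain 2756 17068115 false]))) (.node 1 (.leaf .dfn) (.node 1 (.leaf (.mov 938 17043521 false [.edge 2758 0 true])) (.leaf .dfn))))))
(.node 9 (.node 4 (.node 2 (.node 1 (.leaf (.mov 939 17043521 false [.edge 2760 0 true])) (.leaf (.rel 150 13131841 4 [.edge 2704 1483 false, .edge 2751 185 false, .mul, .edge 2755 743 false, .mul, .edge 2758 74 false, .mul, .edge 2760 1170 false, .mul]))) (.node 1 (.leaf (.eq 939 17043521 [] [.plain 2762 27547719 true])) (.leaf (.mov 150 7292999 false [.plain 2763 17195101 true, .edge 2761 629 false]))))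
(.node 2 (.node 1 (.leaf .dfn) (.leaf (.mov 944 17043521 false [.edge 2765 0 true]))) (.node 1 (.leaf .dfn) (.node 1 (.leaf (.mov 945 17043521 false [.edge 2767 0 true])) (.leaf (.rel 150 25319491 5 [.edge 1572 879 false, .edge 804 173 false, .mul, .edge 2564 743 false, .mul, .edge 2765 1368 false, .mul, .edge 2767 134 false, .mul]))))))
(.node 4 (.node 2 (.node 1 (.leaf (.eq 945 17043521 [] [.plain 2769 9246805 true])) (.leaf (.eqT 150 19085399 false [.plain 2770 17109057 true, .edge 2768 409 false] [.edge 882 0 false]))) (.node 1 (.leaf (.eq 944 17043521 [] [.plain 2771 4614213 false])) (.leaf (.eqT 158 32125001 false [.plain 2772 17004615 true, .edge 2766 657 false] [.edge 1567 0 false]))))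
(.node 2 (.node 1 (.leaf (.eq 802 17043521 [] [.plain 2773 6891611 false])) (.leaf (.mov 205 6776923 false [.plain 2774 17260623 true, .edge 2559 20 false]))) (.node 1 (.leaf (.mov 205 10971209 false [.plain 1569 6776915 true, .edge 2775 927 false])) (.node 1 (.leaf (.mov 205 9056345 false [.plain 2774 19544129 true, .edge 2560 1241 false])) (.leaf .dfn)))))))))

/-- The reasons. -/
def caseDFullSrcRLLR : Tab Src := .node 139 caseDFullSrcRLLRL caseDFullSrcRLLRR

/-- The reasons. -/
def caseDFullSrcRLL : Tab Src := .node 278 caseDFullSrcRLLL caseDFullSrcRLLR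

/-- The reasons. -/
def caseDFullSrcRLRLL : Tab Src :=
(.node 69 (.node 34 (.node 17 (.node 8 (.node 4 (.node 2 (.node 1 (.leaf (.mov 157 7292999 false [.plain 869 7098433 true, .edge 2778 428 false])) (.leaf .dfn)) (.node 1 (.leaf .dfn) (.leaf (.mov 948 17043521 false [.edge 2781 0 true]))))
(.node 2 (.node 1 (.leaf (.rel 157 23466075 0 [.edge 2778 632 false, .mul, .edge 2780 1266 false, .mul, .edge 2781 1092 false, .mul, .mul])) (.leaf (.eq 948 17043521 [] [.plain 2783 19818591 true]))) (.node 1 (.leaf (.mov 157 10971209 false [.plain 2784 17051739 true, .edge 2782 1145 false])) (.leaf (.mov 157 31801425 false [.plain 869 32127055 true, .edge 2785 1471 false])))))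
(.node 4 (.node 2 (.node 1 (.leaf .dfn) (.leaf (.mov 157 13510735 true [.plain 869 13113411 true, .edge 2787 1092 false]))) (.node 1 (.leaf .dfn) (.leaf .dfn)))
(.node 2 (.node 1 (.leaf (.mov 951 17043521 true [.edge 2790 0 true])) (.leaf (.rel 157 30232665 1 [.edge 2787 306 false, .mul, .edge 2789 894 false, .mul, .edge 2790 1485 false, .mul, .mul]))) (.node 1 (.leaf (.eq 951 17043521 [] [.plain 2792 9007175 true])) (.node 1 (.leaf (.mov 157 29904967 true [.plain 2793 11368521 true, .edge 2791 527 false])) (.leaf (.mov 157 32131155 true [.plain 869 31797325 true, .edge 2794 27 false])))))))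
(.node 8 (.node 4 (.node 2 (.node 1 (.leaf .dfn) (.leaf (.mov 157 13310023 true [.plain 869 13445195 true, .edge 2796 882 false]))) (.node 1 (.leaf .dfn) (.leaf .dfn)))
(.node 2 (.node 1 (.leaf (.mov 954 17043521 true [.edge 2799 0 true])) (.leaf .dfn)) (.node 1 (.leaf (.mov 955 17043521 false [.edge 2801 0 true])) (.leaf .dfn))))
(.node 4 (.node 2 (.node 1 (.leaf (.mov 956 17043521 true [.edge 2803 0 true])) (.leaf (.rel 157 12937305 2 [.edge 2796 1447 false, .edge 2798 1266 false, .mul, .edge 2799 983 false, .mul, .edge 2801 797 false, .mul, .edge 2803 1430 false, .mul]))) (.node 1 (.leaf (.eq 956 17043521 [] [.plain 2805 19230789 true])) (.leaf (.mov 157 4808797 true [.plain 2806 8992841 true, .edge 2804 665 false]))))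
(.node 2 (.node 1 (.leaf (.mov 157 32125001 true [.plain 869 31803479 true, .edge 2807 208 false])) (.leaf .dfn)) (.node 1 (.leaf (.mov 957 17043521 false [.edge 2809 0 true])) (.node 1 (.leaf .dfn) (.leaf (.mov 958 17043521 true [.edge 2811 0 true]))))))))
(.node 17 (.node 8 (.node 4 (.node 2 (.node 1 (.leaf .dfn) (.leaf (.mov 959 17043521 false [.edge 2813 0 true]))) (.node 1 (.leaf .dfn) (.leaf (.mov 960 17043521 true [.edge 2815 0 true]))))
(.node 2 (.node 1 (.leaf (.rel 157 4939863 2 [.edge 2788 42 false, .edge 2809 177 false, .mul, .edge 2811 213 false, .mul, .edge 2813 273 false, .mul, .edge 2815 1417 false, .mul])) (.leaf (.eq 960 17043521 [] [.plain 2817 25712709 true]))) (.node 1 (.leaf (.eqT 157 32131155 true [.plain 2818 27859009 true, .edge 2816 588 false] [.edge 2795 0 false])) (.leaf (.eq 959 17043521 [] [.plain 2819 6959191 false])))))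
(.node 4 (.node 2 (.node 1 (.leaf (.mov 950 29904967 false [.plain 2820 16939073 true, .edge 2814 653 false])) (.leaf .dfn)) (.node 1 (.leaf (.mov 975 17043521 false [.edge 2822 0 true])) (.leaf .dfn)))
(.node 2 (.node 1 (.leaf .dfn) (.leaf (.mov 977 17043521 false [.edge 2825 0 true]))) (.node 1 (.leaf .dfn) (.node 1 (.leaf (.mov 978 17043521 false [.edge 2827 0 true])) (.leaf (.rel 157 5122117 4 [.edge 2788 34 false, .edge 2822 451 false, .mul, .edge 2824 1473 false, .mul, .edge 2825 758 false, .mul, .edge 2827 1120 false, .mul])))))))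
(.node 9 (.node 4 (.node 2 (.node 1 (.leaf (.eq 978 17043521 [] [.plain 2829 27539533 true])) (.leaf (.eqT 157 27529303 false [.plain 2830 17004629 true, .edge 2828 1089 false] [.edge 906 0 false]))) (.node 1 (.leaf (.eq 977 17043521 [] [.plain 2831 25894977 false])) (.leaf (.mov 167 10971209 false [.plain 2832 17657929 true, .edge 2826 866 false]))))
(.node 2 (.node 1 (.leaf .dfn) (.leaf .dfn)) (.node 1 (.leaf (.mov 980 17043521 false [.edge 2835 0 true])) (.node 1 (.leaf .dfn) (.leaf (.mov 981 17043521 false [.edge 2837 0 true]))))))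
(.node 4 (.node 2 (.node 1 (.leaf .dfn) (.leaf (.mov 982 17043521 false [.edge 2839 0 true]))) (.node 1 (.leaf (.rel 157 24000577 5 [.edge 2808 186 false, .edge 2834 957 false, .mul, .edge 2835 1215 false, .mul, .edge 2837 1135 false, .mul, .edge 2839 1007 false, .mul])) (.leaf (.eq 982 17043521 [] [.plain 2841 27529295 true]))))
(.node 2 (.node 1 (.leaf (.eqT 157 32125001 false [.plain 2842 17045573 true, .edge 2840 31 false] [.edge 2778 0 false])) (.leaf (.eq 981 17043521 [] [.plain 2843 25383007 false]))) (.node 1 (.leaf (.mov 946 23928925 false [.plain 2844 16998481 true, .edge 2838 18 false])) (.node 1 (.leaf .dfn) (.leaf .dfn))))))))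
(.node 35 (.node 17 (.node 8 (.node 4 (.node 2 (.node 1 (.leaf .dfn) (.leaf .dfn)) (.node 1 (.leaf (.mov 986 17043521 false [.edge 2849 0 true])) (.leaf (.rel 157 21239877 5 [.edge 2794 665 false, .edge 2846 579 false, .mul, .edge 2847 787 false, .mul, .edge 2848 105 false, .mul, .edge 2849 981 false, .mul]))))
(.node 2 (.node 1 (.leaf (.eq 986 17043521 [] [.plain 2851 15607889 true])) (.leaf (.mov 157 9056345 false [.plain 2852 17178695 true, .edge 2850 331 false]))) (.node 1 (.leaf .dfn) (.leaf .dfn))))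
(.node 4 (.node 2 (.node 1 (.leaf (.mov 988 17043521 false [.edge 2855 0 true])) (.leaf .dfn)) (.node 1 (.leaf (.mov 989 17043521 false [.edge 2857 0 true])) (.leaf (.rel 158 19101767 0 [.edge 2854 360 false, .mul, .edge 2855 904 false, .mul, .edge 2857 871 false, .mul, .mul]))))
(.node 2 (.node 1 (.leaf (.eq 989 17043521 [] [.plain 2859 19812431 true])) (.leaf (.eqT 158 17043521 false [.plain 2860 17459269 true, .edge 2858 1504 false] [.edge 874 0 false]))) (.node 1 (.leaf (.eq 988 19271771 [] [.plain 2861 17043521 false, .plain 881 17043521 false])) (.node 1 (.leaf (.eq 988 17043521 [] [.plain 2862 19271773 false])) (.leaf (.eqT 150 17043521 false [.plain 2863 17594449 true, .edge 2856 859 false] [.edge 883 0 false])))))))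
(.node 9 (.node 4 (.node 2 (.node 1 (.leaf (.eq 987 17043521 [] [.plain 2864 19738697 false])) (.leaf .dfn)) (.node 1 (.leaf (.mov 990 17043521 false [.edge 2866 0 true])) (.leaf (.rel 158 27611219 0 [.edge 938 606 false, .mul, .edge 1027 764 false, .mul, .edge 2866 44 false, .mul, .mul]))))
(.node 2 (.node 1 (.leaf (.eq 990 17043521 [] [.plain 2868 19343425 true])) (.leaf (.eqT 158 27529303 false [.plain 2869 17461319 true, .edge 2867 598 false] [.edge 1044 0 false]))) (.node 1 (.leaf (.eq 205 17043521 [] [.plain 2870 5060673 true])) (.node 1 (.leaf (.mov 202 4808797 false [.plain 2871 17780827 true, .edge 1030 217 false])) (.leaf (.mov 202 6776923 false [.plain 1562 27859021 true, .edge 2872 1505 false]))))))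
(.node 4 (.node 2 (.node 1 (.leaf (.eqT 202 17043521 false [.plain 2871 11233363 true, .edge 2776 1124 false] [.edge 1016 0 false])) (.leaf (.mov 202 7292999 false [.plain 2871 30107715 true, .edge 2777 117 false]))) (.node 1 (.leaf (.eq 201 17043521 [] [.plain 2874 9115727 true])) (.leaf (.eqT 167 23928925 false [.plain 2876 17004625 true, .edge 1014 1463 false] [.edge 937 0 false]))))
(.node 2 (.node 1 (.leaf (.eq 183 17043521 [] [.plain 2877 8601677 false])) (.leaf (.mov 170 11495495 true [.plain 2878 11360329 true, .edge 978 1183 false]))) (.node 1 (.leaf (.eqT 170 17043521 false [.plain 2878 16935005 true, .edge 988 550 false] [.edge 921 0 false])) (.node 1 (.leaf (.mov 170 7292999 false [.plain 2878 6907981 true, .edge 1029 941 false])) (.leaf (.mov 170 32125001 false [.plain 924 31803465 true, .edge 2881 667 false]))))))))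
(.node 17 (.node 8 (.node 4 (.node 2 (.node 1 (.leaf (.eq 186 17043521 [] [.plain 2880 17643593 false])) (.leaf (.eqT 150 27529303 false [.plain 2883 10637389 true, .edge 1000 733 false] [.edge 867 0 false]))) (.node 1 (.leaf (.eq 198 17043521 [] [.plain 2884 17578049 false])) (.leaf (.mov 157 13510735 false [.plain 2885 12927051 true, .edge 1001 236 false]))))
(.node 2 (.node 1 (.leaf (.mov 157 29904967 false [.plain 869 29761627 true, .edge 2886 241 false])) (.leaf .dfn)) (.node 1 (.leaf (.mov 158 17059919 true [.plain 1563 29511765 true, .edge 2888 1071 false])) (.leaf (.eqT 158 17059919 true [.plain 873 17567839 true, .edge 2889 1338 false] [.edge 2889 0 false])))))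
(.node 4 (.node 2 (.node 1 (.leaf (.eq 991 17043521 [] [.plain 2890 17649731 false])) (.leaf .dfn)) (.node 1 (.leaf (.mov 992 17043521 true [.edge 2892 0 true])) (.leaf .dfn)))
(.node 2 (.node 1 (.leaf (.mov 993 17043521 true [.edge 2894 0 true])) (.leaf (.rel 158 14899279 1 [.edge 2888 60 false, .mul, .edge 2892 978 false, .mul, .edge 2894 914 false, .mul, .mul]))) (.node 1 (.leaf (.eq 993 17043521 [] [.plain 2896 17061973 true])) (.node 1 (.leaf (.eqT 158 32125001 true [.plain 2897 25505859 true, .edge 2895 836 false] [.edge 1564 0 false])) (.leaf (.eq 992 17043521 [] [.plain 2898 8984655 false])))))))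
(.node 9 (.node 4 (.node 2 (.node 1 (.leaf (.mov 157 17043521 true [.plain 2899 17569875 true, .edge 2893 1088 false])) (.leaf .dfn)) (.node 1 (.leaf (.mov 991 27529303 false [.plain 2891 27883597 true, .edge 2901 88 false])) (.leaf .dfn)))
(.node 2 (.node 1 (.leaf (.mov 998 17043521 true [.edge 2903 0 true])) (.leaf .dfn)) (.node 1 (.leaf (.mov 999 17043521 false [.edge 2905 0 true])) (.node 1 (.leaf .dfn) (.leaf (.mov 1000 17043521 true [.edge 2907 0 true]))))))
(.node 4 (.node 2 (.node 1 (.leaf (.rel 158 15601749 2 [.edge 2888 1297 false, .edge 2901 386 false, .mul, .edge 2903 555 false, .mul, .edge 2905 664 false, .mul, .edge 2907 890 false, .mul])) (.leaf (.eq 1000 17043521 [] [.plain 2909 17657941 true]))) (.node 1 (.leaf (.eqT 158 32125001 true [.plain 2910 9271387 true, .edge 2908 208 false] [.edge 1564 0 false])) (.leaf (.eq 999 17043521 [] [.plain 2911 9271373 false]))))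
(.node 2 (.node 1 (.leaf (.eqT 157 29904967 false [.plain 2912 17180743 true, .edge 2906 1336 false] [.edge 2887 0 false])) (.leaf (.eq 998 9181263 [] [.plain 2913 17043521 false, .plain 1008 17586249 false]))) (.node 1 (.leaf (.eq 998 17043521 [] [.plain 2914 25696341 false])) (.node 1 (.leaf (.mov 177 17059919 true [.plain 2915 19148875 true, .edge 2904 296 false])) (.leaf (.mov 177 19085399 true [.plain 966 19675223 true, .edge 2916 819 false]))))))))))

/-- The reasons. -/
def caseDFullSrcRLRLR : Tab Src :=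
(.node 69 (.node 34 (.node 17 (.node 8 (.node 4 (.node 2 (.node 1 (.leaf (.mov 177 25385043 true [.plain 967 26105949 true, .edge 2917 1490 false])) (.leaf (.mov 177 17043521 true [.plain 966 17764417 true, .edge 2918 1512 false]))) (.node 1 (.leaf .dfn) (.leaf (.mov 1001 17043521 true [.edge 2920 0 true]))))
(.node 2 (.node 1 (.leaf (.mov 144 10971209 true [.plain 811 11284545 true, .edge 2920 629 false])) (.leaf (.rel 158 13242443 2 [.edge 1564 1358 false, .edge 866 461 false, .mul, .edge 842 1214 false, .mul, .edge 805 285 false, .mul, .edge 2920 860 false, .mul]))) (.node 1 (.leaf (.eq 1001 17043521 [] [.plain 2923 17576021 true])) (.leaf (.eqT 158 13310023 true [.plain 2924 17657923 true, .edge 2921 1519 false] [.edge 2888 0 false])))))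
(.node 4 (.node 2 (.node 1 (.leaf (.eq 991 17043521 [] [.plain 2925 17043521 true])) (.leaf (.eqT 144 17059919 true [.plain 2926 17635399 true, .edge 2892 88 false] [.edge 2570 0 false]))) (.node 1 (.leaf (.eqT 144 29904967 false [.plain 2926 29829207 true, .edge 2902 509 false] [.edge 2565 0 false])) (.leaf (.eq 997 17719361 [] [.plain 2928 17043521 false, .plain 2774 19556441 false, .plain 2871 30040149 false]))))
(.node 2 (.node 1 (.leaf (.eq 997 17043521 [] [.plain 2929 17444929 false])) (.leaf (.mov 202 32131155 true [.plain 2930 17506369 true, .edge 2903 824 false]))) (.node 1 (.leaf (.mov 202 17059919 true [.plain 1562 21381201 true, .edge 2931 532 false])) (.node 1 (.leaf (.eq 992 17659987 [.plain 2899 17659987 false] [.plain 2927 17043521 false])) (.leaf (.eq 818 17043521 [] [.plain 2933 25696347 true])))))))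
(.node 8 (.node 4 (.node 2 (.node 1 (.leaf (.eqT 157 19085399 false [.plain 2934 4941895 true, .edge 2587 1499 false] [.edge 895 0 false])) (.leaf (.eqT 157 4808797 false [.plain 2934 17447003 true, .edge 2611 601 false] [.edge 908 0 false]))) (.node 1 (.leaf (.eq 840 17043521 [] [.plain 2936 16934979 false])) (.leaf (.mov 167 13310023 false [.plain 2937 13504597 true, .edge 2612 599 false]))))
(.node 2 (.node 1 (.leaf (.eq 820 19667029 [] [.plain 2935 17043521 false, .plain 905 17043521 false])) (.leaf (.eq 820 17043521 [] [.plain 2939 19732565 false]))) (.node 1 (.leaf (.eqT 157 13510735 false [.plain 2940 12732493 true, .edge 2589 691 false] [.edge 2886 0 false])) (.leaf (.eq 833 17051735 [] [.plain 2941 17043521 false, .plain 1008 17043551 false])))))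
(.node 4 (.node 2 (.node 1 (.leaf (.eq 833 17043521 [] [.plain 2942 17051743 false])) (.leaf (.mov 177 4808797 false [.plain 2943 21569629 true, .edge 2590 1244 false]))) (.node 1 (.leaf .dfn) (.leaf (.mov 158 19085399 true [.plain 1563 9320513 true, .edge 2945 42 false]))))
(.node 2 (.node 1 (.leaf .dfn) (.leaf .dfn)) (.node 1 (.leaf .dfn) (.node 1 (.leaf (.mov 1012 17043521 false [.edge 2949 0 true])) (.leaf .dfn)))))))
(.node 17 (.node 8 (.node 4 (.node 2 (.node 1 (.leaf (.mov 1013 17043521 false [.edge 2951 0 true])) (.leaf (.rel 158 26161241 5 [.edge 2945 1029 false, .edge 2947 1472 false, .mul, .edge 2948 35 false, .mul, .edge 2949 644 false, .mul, .edge 2951 1473 false, .mul]))) (.node 1 (.leaf (.eq 1013 17043521 [] [.plain 2953 25516125 true])) (.leaf (.eqT 158 19085399 false [.plain 2954 17633355 true, .edge 2952 628 false] [.edge 2854 0 false]))))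
(.node 2 (.node 1 (.leaf (.eq 1012 32002139 [] [.plain 2955 17043521 false, .plain 2865 17043521 false])) (.leaf (.eq 1012 17043521 [] [.plain 2956 9121885 false]))) (.node 1 (.leaf (.eqT 158 13310023 false [.plain 2957 17260631 true, .edge 2950 1455 false] [.edge 1565 0 false])) (.leaf (.eq 1011 25587803 [] [.plain 2958 17043521 false, .plain 881 17045593 false])))))
(.node 4 (.node 2 (.node 1 (.leaf (.eq 1011 17043521 [] [.plain 2959 13520979 false])) (.leaf .dfn)) (.node 1 (.leaf .dfn) (.leaf (.mov 1015 17043521 false [.edge 2962 0 true]))))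
(.node 2 (.node 1 (.leaf (.rel 167 6572119 0 [.edge 2609 376 false, .mul, .edge 2961 612 false, .mul, .edge 2962 54 false, .mul, .mul])) (.leaf (.eq 1015 17043521 [] [.plain 2964 19605575 true]))) (.node 1 (.leaf (.mov 167 31801425 false [.plain 2965 17784903 true, .edge 2963 1018 false])) (.node 1 (.leaf .dfn) (.leaf .dfn))))))
(.node 9 (.node 4 (.node 2 (.node 1 (.leaf .dfn) (.leaf (.mov 1018 17043521 false [.edge 2969 0 true]))) (.node 1 (.leaf (.rel 167 27865171 0 [.edge 2967 742 false, .mul, .edge 2968 1189 false, .mul, .edge 2969 329 false, .mul, .mul])) (.leaf (.eq 1018 17043521 [] [.plain 2971 19030085 true]))))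
(.node 2 (.node 1 (.leaf (.mov 167 29904967 false [.plain 2972 17051739 true, .edge 2970 1145 false])) (.leaf .dfn)) (.node 1 (.leaf .dfn) (.node 1 (.leaf .dfn) (.leaf (.mov 1021 17043521 true [.edge 2976 0 true]))))))
(.node 4 (.node 2 (.node 1 (.leaf (.rel 167 4616273 1 [.edge 2974 1360 false, .mul, .edge 2975 759 false, .mul, .edge 2976 59 false, .mul, .mul])) (.leaf (.eq 1021 17043521 [] [.plain 2978 11286621 true]))) (.node 1 (.leaf (.mov 167 13310023 true [.plain 2979 9007185 true, .edge 2977 266 false])) (.leaf .dfn)))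
(.node 2 (.node 1 (.leaf .dfn) (.leaf .dfn)) (.node 1 (.leaf (.mov 1024 17043521 true [.edge 2983 0 true])) (.node 1 (.leaf (.rel 167 17510477 1 [.edge 2981 1218 false, .mul, .edge 2982 425 false, .mul, .edge 2983 993 false, .mul, .mul])) (.leaf (.eq 1024 17043521 [] [.plain 2985 19222599 true])))))))))
(.node 35 (.node 17 (.node 8 (.node 4 (.node 2 (.node 1 (.leaf (.mov 167 25385043 true [.plain 2986 27531329 true, .edge 2984 1497 false])) (.leaf .dfn)) (.node 1 (.leaf (.mov 1025 17043521 true [.edge 2988 0 true])) (.leaf .dfn)))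
(.node 2 (.node 1 (.leaf (.mov 1026 17043521 false [.edge 2990 0 true])) (.leaf .dfn)) (.node 1 (.leaf (.mov 1027 17043521 true [.edge 2992 0 true])) (.leaf .dfn))))
(.node 4 (.node 2 (.node 1 (.leaf (.mov 1028 17043521 false [.edge 2994 0 true])) (.leaf .dfn)) (.node 1 (.leaf (.mov 1029 17043521 true [.edge 2996 0 true])) (.leaf (.rel 167 21315663 2 [.edge 2988 51 false, .edge 2990 548 false, .mul, .edge 2992 583 false, .mul, .edge 2994 988 false, .mul, .edge 2996 755 false, .mul]))))
(.node 2 (.node 1 (.leaf (.eq 1029 17043521 [] [.plain 2998 17119309 true])) (.leaf (.mov 167 31801425 true [.plain 2999 17111129 true, .edge 2997 1361 false]))) (.node 1 (.leaf .dfn) (.node 1 (.leaf .dfn) (.leaf (.mov 1031 17043521 false [.edge 3002 0 true])))))))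
(.node 9 (.node 4 (.node 2 (.node 1 (.leaf .dfn) (.leaf (.mov 1032 17043521 true [.edge 3004 0 true]))) (.node 1 (.leaf .dfn) (.leaf (.mov 1033 17043521 false [.edge 3006 0 true]))))
(.node 2 (.node 1 (.leaf .dfn) (.leaf (.mov 1034 17043521 true [.edge 3008 0 true]))) (.node 1 (.leaf (.rel 167 29702217 2 [.edge 3001 260 false, .edge 3002 939 false, .mul, .edge 3004 1004 false, .mul, .edge 3006 774 false, .mul, .edge 3008 322 false, .mul])) (.node 1 (.leaf (.eq 1034 17043521 [] [.plain 3010 25702493 true])) (.leaf (.mov 167 29904967 true [.plain 3011 19689539 true, .edge 3009 90 false]))))))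
(.node 4 (.node 2 (.node 1 (.leaf .dfn) (.leaf .dfn)) (.node 1 (.leaf (.mov 1044 17043521 false [.edge 3014 0 true])) (.leaf .dfn)))
(.node 2 (.node 1 (.leaf (.mov 1045 17043521 false [.edge 3016 0 true])) (.leaf .dfn)) (.node 1 (.leaf (.mov 1046 17043521 false [.edge 3018 0 true])) (.node 1 (.leaf .dfn) (.leaf (.mov 1047 17043521 false [.edge 3020 0 true]))))))))
(.node 17 (.node 8 (.node 4 (.node 2 (.node 1 (.leaf (.rel 167 32051293 4 [.edge 3012 983 false, .edge 3014 1036 false, .mul, .edge 3016 231 false, .mul, .edge 3018 776 false, .mul, .edge 3020 1343 false, .mul])) (.leaf (.eq 1047 17043521 [] [.plain 3022 15605833 true]))) (.node 1 (.leaf (.eqT 167 10971209 false [.plain 3023 17649755 true, .edge 3021 1243 false] [.edge 2833 0 false])) (.leaf (.eq 1046 17043521 [] [.plain 3024 27531339 false]))))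
(.node 2 (.node 1 (.leaf (.mov 976 23928925 false [.plain 3025 17043537 true, .edge 3019 12 false])) (.leaf .dfn)) (.node 1 (.leaf (.mov 1056 17043521 false [.edge 3027 0 true])) (.leaf .dfn))))
(.node 4 (.node 2 (.node 1 (.leaf (.mov 1057 17043521 false [.edge 3029 0 true])) (.leaf .dfn)) (.node 1 (.leaf (.mov 1058 17043521 false [.edge 3031 0 true])) (.leaf .dfn)))
(.node 2 (.node 1 (.leaf (.mov 1059 17043521 false [.edge 3033 0 true])) (.leaf (.rel 167 4618307 5 [.edge 2974 467 false, .edge 3027 353 false, .mul, .edge 3029 312 false, .mul, .edge 3031 571 false, .mul, .edge 3033 421 false, .mul]))) (.node 1 (.leaf (.eq 1059 17043521 [] [.plain 3035 27547721 true])) (.node 1 (.leaf (.eqT 167 10971209 false [.plain 3036 16932943 true, .edge 3034 471 false] [.edge 2833 0 false])) (.leaf (.eq 1058 17043521 [] [.plain 3037 4538447 false])))))))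
(.node 9 (.node 4 (.node 2 (.node 1 (.leaf (.mov 976 6776923 false [.plain 3038 17578079 true, .edge 3032 638 false])) (.leaf .dfn)) (.node 1 (.leaf (.mov 1066 17043521 true [.edge 3040 0 true])) (.leaf .dfn)))
(.node 2 (.node 1 (.leaf .dfn) (.leaf .dfn)) (.node 1 (.leaf (.mov 1069 17043521 false [.edge 3044 0 true])) (.node 1 (.leaf .dfn) (.leaf (.mov 1070 17043521 true [.edge 3046 0 true]))))))
(.node 4 (.node 2 (.node 1 (.leaf (.rel 170 6578267 2 [.edge 3040 460 false, .edge 3042 695 false, .mul, .edge 3043 1216 false, .mul, .edge 3044 267 false, .mul, .edge 3046 402 false, .mul])) (.leaf (.eq 1070 17043521 [] [.plain 3048 19157061 true]))) (.node 1 (.leaf (.mov 170 4808797 true [.plain 3049 8992841 true, .edge 3047 665 false])) (.leaf .dfn)))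
(.node 2 (.node 1 (.leaf (.mov 1087 17043521 true [.edge 3051 0 true])) (.leaf (.mov 174 13310023 true [.plain 954 7024731 true, .edge 3051 1095 false]))) (.node 1 (.leaf (.mov 174 10971209 true [.plain 956 6772823 true, .edge 3053 864 false])) (.node 1 (.leaf (.mov 174 11495495 true [.plain 954 28256329 true, .edge 3054 1346 false])) (.leaf (.mov 174 31801425 true [.plain 1559 25575511 true, .edge 3055 678 false]))))))))))

/-- The reasons. -/
def caseDFullSrcRLRL : Tab Src := .node 139 caseDFullSrcRLRLL caseDFullSrcRLRLR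

/-- The reasons. -/
def caseDFullSrcRLRRL : Tab Src :=
(.node 69 (.node 34 (.node 17 (.node 8 (.node 4 (.node 2 (.node 1 (.leaf (.mov 174 17059919 true [.plain 954 21250115 true, .edge 3056 96 false])) (.leaf (.mov 174 17043521 true [.plain 956 27539549 true, .edge 3057 1244 false]))) (.node 1 (.leaf (.mov 174 4808797 true [.plain 954 25759827 true, .edge 3058 315 false])) (.leaf .dfn)))
(.node 2 (.node 1 (.leaf .dfn) (.leaf (.mov 1089 17043521 true [.edge 3061 0 true]))) (.node 1 (.leaf (.rel 174 15431755 1 [.edge 3051 552 false, .mul, .edge 3060 558 false, .mul, .edge 3061 216 false, .mul, .mul])) (.leaf (.eq 1089 17043521 [] [.plain 3063 19208287 true])))))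
(.node 4 (.node 2 (.node 1 (.leaf (.eqT 174 13310023 true [.plain 3064 9007185 true, .edge 3062 266 false] [.edge 3053 0 false])) (.leaf (.eq 1088 17043521 [] [.plain 3065 25522255 false]))) (.node 1 (.leaf .dfn) (.leaf (.mov 174 13510735 true [.plain 954 11415637 true, .edge 3067 1488 false]))))
(.node 2 (.node 1 (.leaf .dfn) (.leaf (.mov 1091 17043521 false [.edge 3069 0 true]))) (.node 1 (.leaf .dfn) (.node 1 (.leaf (.mov 1092 17043521 true [.edge 3071 0 true])) (.leaf .dfn))))))
(.node 8 (.node 4 (.node 2 (.node 1 (.leaf (.mov 1093 17043521 false [.edge 3073 0 true])) (.leaf .dfn)) (.node 1 (.leaf (.mov 1094 17043521 true [.edge 3075 0 true])) (.leaf (.rel 174 19034189 2 [.edge 3067 1271 false, .edge 3069 1202 false, .mul, .edge 3071 1207 false, .mul, .edge 3073 1158 false, .mul, .edge 3075 1330 false, .mul]))))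
(.node 2 (.node 1 (.leaf (.eq 1094 17043521 [] [.plain 3077 25434181 true])) (.leaf (.mov 174 25385043 true [.plain 3078 17109083 true, .edge 3076 995 false]))) (.node 1 (.leaf (.mov 174 32131155 true [.plain 954 19560523 true, .edge 3079 760 false])) (.leaf (.eqT 174 25385043 true [.plain 1559 19290201 true, .edge 3079 1342 false] [.edge 3079 0 false])))))
(.node 4 (.node 2 (.node 1 (.leaf (.eq 1093 17043521 [] [.plain 3081 17440859 false])) (.leaf (.mov 1093 10971209 false [.plain 3082 17262675 true, .edge 3074 822 false]))) (.node 1 (.leaf .dfn) (.leaf (.mov 1103 17043521 false [.edge 3084 0 true]))))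
(.node 2 (.node 1 (.leaf .dfn) (.leaf (.mov 1104 17043521 false [.edge 3086 0 true]))) (.node 1 (.leaf .dfn) (.node 1 (.leaf (.mov 1105 17043521 false [.edge 3088 0 true])) (.leaf .dfn)))))))
(.node 17 (.node 8 (.node 4 (.node 2 (.node 1 (.leaf (.mov 1106 17043521 false [.edge 3090 0 true])) (.leaf (.rel 174 13570141 4 [.edge 3053 1115 false, .edge 3084 636 false, .mul, .edge 3086 255 false, .mul, .edge 3088 487 false, .mul, .edge 3090 842 false, .mul]))) (.node 1 (.leaf (.eq 1106 17043521 [] [.plain 3092 29839425 true])) (.leaf (.eqT 174 13310023 false [.plain 3093 17782867 true, .edge 3091 387 false] [.edge 1025 0 false]))))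
(.node 2 (.node 1 (.leaf (.eq 1105 17043521 [] [.plain 3094 27660381 false])) (.leaf (.eqT 202 7292999 false [.plain 3095 17133649 true, .edge 3089 1130 false] [.edge 2875 0 false]))) (.node 1 (.leaf (.eq 1104 13504607 [] [.plain 3096 17043521 false, .plain 2563 17715295 false])) (.leaf (.eq 1104 17043521 [] [.plain 3097 25825355 false])))))
(.node 4 (.node 2 (.node 1 (.leaf (.eqT 144 19085399 false [.plain 3098 16918599 true, .edge 3087 386 false] [.edge 812 0 false])) (.leaf (.eq 1103 21524569 [] [.plain 3099 17043521 false, .plain 818 17043521 false]))) (.node 1 (.leaf (.eq 1103 17043521 [] [.plain 3100 9068637 false])) (.leaf (.eqT 144 27529303 false [.plain 3101 17578051 true, .edge 3085 1202 false] [.edge 917 0 false]))))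
(.node 2 (.node 1 (.leaf (.eq 1087 17043521 [] [.plain 3102 8542285 false])) (.leaf (.eqT 167 25385043 true [.plain 3103 19150921 true, .edge 3052 1176 false] [.edge 2987 0 false]))) (.node 1 (.leaf (.eqT 167 19085399 true [.plain 3103 11366471 true, .edge 3060 1183 false] [.edge 2981 0 false])) (.node 1 (.leaf (.eq 1088 25786459 [.plain 3066 25786459 false, .plain 3103 25768023 false] [.plain 3105 17043521 false])) (.leaf (.eq 1022 17043521 [] [.plain 3106 17043521 true])))))))
(.node 9 (.node 4 (.node 2 (.node 1 (.leaf (.eq 1023 17043521 [] [.plain 3104 8917077 true])) (.leaf .dfn)) (.node 1 (.leaf (.eqT 174 29904967 true [.plain 1559 6639709 true, .edge 3109 454 false] [.edge 3109 0 false])) (.leaf (.eq 1111 17043521 [] [.plain 3110 25432129 false]))))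
(.node 2 (.node 1 (.leaf .dfn) (.leaf (.mov 1111 27529303 false [.plain 3111 19140695 true, .edge 3112 677 false]))) (.node 1 (.leaf .dfn) (.node 1 (.leaf .dfn) (.leaf (.mov 177 13510735 true [.plain 966 13379663 true, .edge 3115 1009 false]))))))
(.node 4 (.node 2 (.node 1 (.leaf (.mov 177 31801425 true [.plain 967 32194655 true, .edge 3116 506 false])) (.leaf (.mov 177 32131155 true [.plain 966 32327763 true, .edge 3117 1077 false]))) (.node 1 (.leaf .dfn) (.leaf .dfn)))
(.node 2 (.node 1 (.leaf (.mov 1124 17043521 true [.edge 3120 0 true])) (.leaf (.rel 177 7094343 1 [.edge 3115 590 false, .mul, .edge 3119 100 false, .mul, .edge 3120 106 false, .mul, .mul]))) (.node 1 (.leaf (.eq 1124 17043521 [] [.plain 3122 11276359 true])) (.node 1 (.leaf (.eqT 177 31801425 true [.plain 3123 9007185 true, .edge 3121 266 false] [.edge 3117 0 false])) (.leaf (.eq 1123 17043521 [] [.plain 3124 25522255 false])))))))))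
(.node 35 (.node 17 (.node 8 (.node 4 (.node 2 (.node 1 (.leaf .dfn) (.leaf (.mov 202 17043521 true [.plain 1562 5128271 true, .edge 3126 4 false]))) (.node 1 (.leaf .dfn) (.leaf (.mov 1126 17043521 true [.edge 3128 0 true]))))
(.node 2 (.node 1 (.leaf (.rel 177 25458765 1 [.edge 2916 849 false, .plain 2930 19097689 false, .mul, .edge 3126 604 false, .mul, .edge 3128 1351 false, .mul, .mul])) (.leaf (.eq 1126 17043521 [] [.plain 3130 11081797 true]))) (.node 1 (.leaf (.eqT 177 17043521 true [.plain 3131 11358283 true, .edge 3129 340 false] [.edge 2919 0 false])) (.leaf (.eq 1125 25784405 [] [.plain 3132 17043521 false, .plain 2930 27664465 false])))))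
(.node 4 (.node 2 (.node 1 (.leaf (.eq 1125 17043521 [] [.plain 3133 11358303 false])) (.leaf .dfn)) (.node 1 (.leaf .dfn) (.leaf .dfn)))
(.node 2 (.node 1 (.leaf (.mov 1129 17043521 false [.edge 3137 0 true])) (.leaf .dfn)) (.node 1 (.leaf (.mov 1130 17043521 true [.edge 3139 0 true])) (.node 1 (.leaf (.rel 177 12929119 2 [.edge 3115 1250 false, .edge 3135 190 false, .mul, .edge 3136 1258 false, .mul, .edge 3137 281 false, .mul, .edge 3139 758 false, .mul])) (.leaf (.eq 1130 17043521 [] [.plain 3141 19757127 true])))))))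
(.node 9 (.node 4 (.node 2 (.node 1 (.leaf (.eqT 177 31801425 true [.plain 3142 17659971 true, .edge 3140 1347 false] [.edge 3117 0 false])) (.leaf (.eq 1129 17043521 [] [.plain 3143 19818581 false]))) (.node 1 (.leaf (.eqT 1122 29904967 false [.plain 3144 17459293 true, .edge 3138 1373 false] [.edge 3135 0 false])) (.leaf (.eq 1128 17043521 [] [.plain 3145 17657929 false]))))
(.node 2 (.node 1 (.leaf .dfn) (.leaf .dfn)) (.node 1 (.leaf .dfn) (.node 1 (.leaf (.mov 1133 17043521 false [.edge 3149 0 true])) (.leaf .dfn)))))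
(.node 4 (.node 2 (.node 1 (.leaf (.mov 1134 17043521 true [.edge 3151 0 true])) (.leaf (.rel 177 5187655 3 [.edge 3116 1495 false, .edge 3147 385 false, .mul, .edge 3148 1223 false, .mul, .edge 3149 732 false, .mul, .edge 3151 1490 false, .mul]))) (.node 1 (.leaf (.eq 1134 17043521 [] [.plain 3153 8982619 true])) (.leaf (.eqT 177 13510735 true [.plain 3154 11350099 true, .edge 3152 625 false] [.edge 3116 0 false]))))
(.node 2 (.node 1 (.leaf (.eq 1133 17043521 [] [.plain 3155 32073823 false])) (.leaf (.mov 1122 19085399 false [.plain 3156 17659971 true, .edge 3150 1165 false]))) (.node 1 (.leaf .dfn) (.node 1 (.leaf (.mov 1135 17043521 false [.edge 3158 0 true])) (.leaf .dfn)))))))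
(.node 17 (.node 8 (.node 4 (.node 2 (.node 1 (.leaf (.mov 1136 17043521 false [.edge 3160 0 true])) (.leaf .dfn)) (.node 1 (.leaf (.mov 1137 17043521 false [.edge 3162 0 true])) (.leaf (.rel 177 15474777 4 [.edge 3117 253 false, .edge 3157 1513 false, .mul, .edge 3158 882 false, .mul, .edge 3160 1303 false, .mul, .edge 3162 1083 false, .mul]))))
(.node 2 (.node 1 (.leaf (.eq 1137 17043521 [] [.plain 3164 13574231 true])) (.leaf (.eqT 177 4808797 false [.plain 3165 17780809 true, .edge 3163 404 false] [.edge 2944 0 false]))) (.node 1 (.leaf (.eq 1136 32258115 [] [.plain 3166 17043521 false, .plain 2597 17045569 false])) (.leaf (.eq 1136 17043521 [] [.plain 3167 21915715 false])))))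
(.node 4 (.node 2 (.node 1 (.leaf (.mov 167 13510735 false [.plain 3168 17135683 true, .edge 3161 1450 false])) (.leaf .dfn)) (.node 1 (.leaf (.mov 180 4544593 true [.plain 975 4550743 true, .edge 3170 760 false])) (.leaf (.mov 180 31801425 true [.plain 976 31799377 true, .edge 3171 1276 false]))))
(.node 2 (.node 1 (.leaf (.mov 180 4808797 true [.plain 975 4794459 true, .edge 3172 1328 false])) (.leaf .dfn)) (.node 1 (.leaf .dfn) (.node 1 (.leaf .dfn) (.leaf (.mov 1151 17043521 false [.edge 3176 0 true])))))))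
(.node 9 (.node 4 (.node 2 (.node 1 (.leaf .dfn) (.leaf (.mov 1152 17043521 true [.edge 3178 0 true]))) (.node 1 (.leaf (.rel 180 13465693 2 [.edge 3170 702 false, .edge 3174 1291 false, .mul, .edge 3175 568 false, .mul, .edge 3176 1077 false, .mul, .edge 3178 956 false, .mul])) (.leaf (.eq 1152 17043521 [] [.plain 3180 19140677 true]))))
(.node 2 (.node 1 (.leaf (.eqT 180 4544593 true [.plain 3181 19689561 true, .edge 3179 562 false] [.edge 3171 0 false])) (.leaf (.eq 1151 17043521 [] [.plain 3182 17764439 false]))) (.node 1 (.leaf (.mov 1148 29904967 false [.plain 3183 17061981 true, .edge 3177 1330 false])) (.node 1 (.leaf .dfn) (.leaf (.mov 1158 17043521 false [.edge 3185 0 true]))))))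
(.node 4 (.node 2 (.node 1 (.leaf .dfn) (.leaf (.mov 1159 17043521 false [.edge 3187 0 true]))) (.node 1 (.leaf .dfn) (.leaf (.mov 1160 17043521 false [.edge 3189 0 true]))))
(.node 2 (.node 1 (.leaf .dfn) (.leaf (.mov 1161 17043521 true [.edge 3191 0 true]))) (.node 1 (.leaf (.rel 180 13373509 3 [.edge 3170 1070 false, .edge 3185 845 false, .mul, .edge 3187 726 false, .mul, .edge 3189 631 false, .mul, .edge 3191 269 false, .mul])) (.node 1 (.leaf (.eq 1161 17043521 [] [.plain 3193 27605067 true])) (.leaf (.eqT 180 29904967 true [.plain 3194 17133659 true, .edge 3192 508 false] [.edge 3170 0 false]))))))))))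

/-- The reasons. -/
def caseDFullSrcRLRRR : Tab Src :=
(.node 69 (.node 34 (.node 17 (.node 8 (.node 4 (.node 2 (.node 1 (.leaf (.eq 1160 17043521 [] [.plain 3195 21524565 false])) (.leaf (.eqT 1148 29904967 false [.plain 3196 17051739 true, .edge 3190 1145 false] [.edge 3184 0 false]))) (.node 1 (.leaf (.eq 1159 17043521 [] [.plain 3197 19740751 false])) (.leaf (.mov 1150 19085399 false [.plain 3198 17000541 true, .edge 3188 374 false]))))
(.node 2 (.node 1 (.leaf .dfn) (.leaf .dfn)) (.node 1 (.leaf .dfn) (.leaf (.mov 1168 17043521 false [.edge 3202 0 true])))))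
(.node 4 (.node 2 (.node 1 (.leaf (.rel 180 13377623 4 [.edge 3173 339 false, .edge 3185 672 false, .mul, .edge 3200 3 false, .mul, .edge 3201 1283 false, .mul, .edge 3202 581 false, .mul])) (.leaf (.eq 1168 17043521 [] [.plain 3204 6955075 true]))) (.node 1 (.leaf (.mov 180 4808797 false [.plain 3205 17702987 true, .edge 3203 431 false])) (.leaf (.eqT 180 4808797 false [.plain 975 4794459 true, .edge 3206 339 false] [.edge 3206 0 false]))))
(.node 2 (.node 1 (.leaf (.eq 1167 17043521 [] [.plain 3207 6781021 false])) (.leaf .dfn)) (.node 1 (.leaf (.mov 1169 17043521 false [.edge 3209 0 true])) (.node 1 (.leaf .dfn) (.leaf (.mov 1170 17043521 false [.edge 3211 0 true])))))))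
(.node 8 (.node 4 (.node 2 (.node 1 (.leaf .dfn) (.leaf (.mov 1171 17043521 false [.edge 3213 0 true]))) (.node 1 (.leaf (.rel 180 23865425 5 [.edge 3172 1181 false, .edge 3174 1301 false, .mul, .edge 3209 1297 false, .mul, .edge 3211 1427 false, .mul, .edge 3213 85 false, .mul])) (.leaf (.eq 1171 17043521 [] [.plain 3215 11278403 true]))))
(.node 2 (.node 1 (.leaf (.eqT 180 4808797 false [.plain 3216 17117271 true, .edge 3214 541 false] [.edge 3206 0 false])) (.leaf (.eq 1170 17043521 [] [.plain 3217 8605779 false]))) (.node 1 (.leaf (.mov 1167 19085399 false [.plain 3218 17178697 true, .edge 3212 648 false])) (.leaf (.eqT 1167 19085399 false [.plain 3208 19085377 true, .edge 3219 605 false] [.edge 3219 0 false])))))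
(.node 4 (.node 2 (.node 1 (.leaf (.eq 1169 17043521 [] [.plain 3220 23617629 false])) (.leaf (.mov 1169 31801425 false [.plain 3221 16939081 true, .edge 3210 626 false]))) (.node 1 (.leaf .dfn) (.leaf (.mov 1176 17043521 false [.edge 3223 0 true]))))
(.node 2 (.node 1 (.leaf (.rel 190 16982101 0 [.edge 992 1269 false, .mul, .edge 3206 554 false, .mul, .edge 3223 233 false, .mul, .mul])) (.leaf (.eq 1176 17043521 [] [.plain 3225 19157075 true]))) (.node 1 (.leaf (.mov 190 19085399 false [.plain 3226 17256531 true, .edge 3224 929 false])) (.node 1 (.leaf .dfn) (.leaf .dfn)))))))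
(.node 17 (.node 8 (.node 4 (.node 2 (.node 1 (.leaf .dfn) (.leaf (.mov 1179 17043521 false [.edge 3230 0 true]))) (.node 1 (.leaf (.rel 190 31920221 0 [.edge 3228 178 false, .mul, .edge 3229 724 false, .mul, .edge 3230 218 false, .mul, .mul])) (.leaf (.eq 1179 17043521 [] [.plain 3232 19083357 true]))))
(.node 2 (.node 1 (.leaf (.mov 190 27529303 false [.plain 3233 17051739 true, .edge 3231 1145 false])) (.leaf .dfn)) (.node 1 (.leaf (.mov 190 4808797 true [.plain 995 4794441 true, .edge 3235 303 false])) (.leaf (.mov 190 4544593 true [.plain 996 4540509 true, .edge 3236 808 false])))))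
(.node 4 (.node 2 (.node 1 (.leaf (.mov 190 29904967 true [.plain 995 29888585 true, .edge 3237 515 false])) (.leaf .dfn)) (.node 1 (.leaf .dfn) (.leaf .dfn)))
(.node 2 (.node 1 (.leaf (.mov 1190 17043521 false [.edge 3241 0 true])) (.leaf .dfn)) (.node 1 (.leaf (.mov 1191 17043521 true [.edge 3243 0 true])) (.node 1 (.leaf (.rel 190 30169171 2 [.edge 3237 772 false, .edge 3239 300 false, .mul, .edge 3240 661 false, .mul, .edge 3241 1475 false, .mul, .edge 3243 245 false, .mul])) (.leaf (.eq 1191 17043521 [] [.plain 3245 17576023 true])))))))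
(.node 9 (.node 4 (.node 2 (.node 1 (.leaf (.eqT 190 29904967 true [.plain 3246 27816027 true, .edge 3244 1423 false] [.edge 3238 0 false])) (.leaf (.eq 1190 17043521 [] [.plain 3247 27807831 false]))) (.node 1 (.leaf (.mov 1183 4808797 false [.plain 3248 16916565 true, .edge 3242 583 false])) (.leaf .dfn)))
(.node 2 (.node 1 (.leaf .dfn) (.leaf (.mov 1193 17043521 false [.edge 3251 0 true]))) (.node 1 (.leaf .dfn) (.node 1 (.leaf (.mov 1194 17043521 true [.edge 3253 0 true])) (.leaf (.rel 190 23400537 3 [.edge 3237 1525 false, .edge 3249 935 false, .mul, .edge 3250 1452 false, .mul, .edge 3251 1464 false, .mul, .edge 3253 779 false, .mul]))))))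
(.node 4 (.node 2 (.node 1 (.leaf (.eq 1194 17043521 [] [.plain 3255 17043529 true])) (.leaf (.eqT 190 4544593 true [.plain 3256 17061953 true, .edge 3254 407 false] [.edge 3237 0 false]))) (.node 1 (.leaf (.eq 1193 17043521 [] [.plain 3257 19292249 false])) (.leaf (.mov 1183 29904967 false [.plain 3258 17125443 true, .edge 3252 486 false]))))
(.node 2 (.node 1 (.leaf .dfn) (.leaf (.mov 190 32125001 true [.plain 995 32137281 true, .edge 3260 1171 false]))) (.node 1 (.leaf .dfn) (.node 1 (.leaf .dfn) (.leaf .dfn))))))))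
(.node 35 (.node 17 (.node 8 (.node 4 (.node 2 (.node 1 (.leaf .dfn) (.leaf .dfn)) (.node 1 (.leaf (.rel 190 19730505 4 [.edge 997 257 false, .edge 3263 377 false, .mul, .edge 3264 268 false, .mul, .edge 3265 1340 false, .mul, .edge 3266 635 false, .mul])) (.leaf (.eq 1203 17043521 [] [.plain 3267 4923473 true]))))
(.node 2 (.node 1 (.leaf .dfn) (.leaf .dfn)) (.node 1 (.leaf .dfn) (.leaf (.mov 1206 17043521 false [.edge 3271 0 true])))))
(.node 4 (.node 2 (.node 1 (.leaf .dfn) (.leaf (.mov 1207 17043521 false [.edge 3273 0 true]))) (.node 1 (.leaf .dfn) (.leaf (.mov 1208 17043521 false [.edge 3275 0 true]))))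
(.node 2 (.node 1 (.leaf (.rel 190 11106397 5 [.edge 3269 1500 false, .edge 3270 943 false, .mul, .edge 3271 809 false, .mul, .edge 3273 946 false, .mul, .edge 3275 1508 false, .mul])) (.leaf (.eq 1208 17043521 [] [.plain 3277 15624269 true]))) (.node 1 (.leaf (.eqT 190 27529303 false [.plain 3278 16988249 true, .edge 3276 945 false] [.edge 3234 0 false])) (.node 1 (.leaf (.eq 1207 17043521 [] [.plain 3279 30087263 false])) (.leaf (.mov 1178 10971209 false [.plain 3280 17190997 true, .edge 3274 1210 false])))))))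
(.node 9 (.node 4 (.node 2 (.node 1 (.leaf .dfn) (.leaf .dfn)) (.node 1 (.leaf (.mov 1210 17043521 false [.edge 3283 0 true])) (.leaf .dfn)))
(.node 2 (.node 1 (.leaf (.mov 1211 17043521 false [.edge 3285 0 true])) (.leaf .dfn)) (.node 1 (.leaf (.mov 1212 17043521 false [.edge 3287 0 true])) (.node 1 (.leaf (.rel 190 8935493 5 [.edge 3269 981 false, .edge 3282 1313 false, .mul, .edge 3283 204 false, .mul, .edge 3285 1141 false, .mul, .edge 3287 1026 false, .mul])) (.leaf (.eq 1212 17043521 [] [.plain 3289 15601739 true]))))))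
(.node 4 (.node 2 (.node 1 (.leaf (.eqT 190 27529303 false [.plain 3290 16922719 true, .edge 3288 429 false] [.edge 3234 0 false])) (.leaf (.eq 1211 17043521 [] [.plain 3291 28266585 false]))) (.node 1 (.leaf (.mov 1178 7292999 false [.plain 3292 17528911 true, .edge 3286 85 false])) (.leaf .dfn)))
(.node 2 (.node 1 (.leaf (.mov 1222 17043521 true [.edge 3294 0 true])) (.leaf .dfn)) (.node 1 (.leaf (.mov 1223 17043521 false [.edge 3296 0 true])) (.node 1 (.leaf .dfn) (.leaf (.mov 1224 17043521 true [.edge 3298 0 true]))))))))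
(.node 17 (.node 8 (.node 4 (.node 2 (.node 1 (.leaf .dfn) (.leaf (.mov 1225 17043521 false [.edge 3300 0 true]))) (.node 1 (.leaf .dfn) (.leaf (.mov 1226 17043521 true [.edge 3302 0 true]))))
(.node 2 (.node 1 (.leaf (.rel 191 17635399 2 [.edge 3294 88 false, .edge 3296 278 false, .mul, .edge 3298 60 false, .mul, .edge 3300 64 false, .mul, .edge 3302 662 false, .mul])) (.leaf (.eq 1226 17043521 [] [.plain 3304 25524319 true]))) (.node 1 (.leaf (.eqT 191 17043521 true [.plain 3305 9195587 true, .edge 3303 1240 false] [.edge 998 0 false])) (.leaf (.eq 1225 17043521 [] [.plain 3306 17000527 false])))))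
(.node 4 (.node 2 (.node 1 (.leaf (.eqT 190 17043521 false [.plain 3307 16984159 true, .edge 3301 1368 false] [.edge 992 0 false])) (.leaf (.eq 1224 17043521 [] [.plain 3308 19337303 false]))) (.node 1 (.leaf (.eqT 180 17043521 true [.plain 3309 11081793 true, .edge 3299 371 false] [.edge 969 0 false])) (.leaf (.eq 1223 17043521 [] [.plain 3310 31875143 false]))))
(.node 2 (.node 1 (.leaf (.eqT 43 6776923 false [.plain 3311 17043549 true, .edge 3297 521 false] [.edge 951 0 false])) (.leaf (.eq 1222 17043521 [] [.plain 3312 17109067 false]))) (.node 1 (.leaf (.eqT 174 4544593 true [.plain 3313 11024457 true, .edge 3295 223 false] [.edge 1556 0 false])) (.node 1 (.leaf (.eq 191 17043521 [] [.plain 3314 27613269 false])) (.leaf (.eqT 66 9056345 false [.plain 3315 19816533 true, .edge 3263 1404 false] [.edge 527 0 false])))))))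
(.node 9 (.node 4 (.node 2 (.node 1 (.leaf (.eq 1200 17043521 [] [.plain 3316 17512539 false])) (.leaf (.eqT 88 17043521 false [.plain 3317 5003343 true, .edge 3264 1261 false] [.edge 504 0 false]))) (.node 1 (.leaf (.eq 1201 17043521 [] [.plain 3318 17702979 false])) (.leaf (.eqT 77 9056345 false [.plain 3319 27553885 true, .edge 3265 1393 false] [.edge 506 0 false]))))
(.node 2 (.node 1 (.leaf (.eq 1202 17043521 [] [.plain 3320 17457217 false])) (.leaf (.eqT 88 32125001 false [.plain 3321 31610973 true, .edge 3266 355 false] [.edge 541 0 false]))) (.node 1 (.leaf (.eq 1203 17244231 [.plain 3268 17244231 false] [.plain 3322 17043521 false])) (.node 1 (.leaf (.eq 190 17043521 [] [.plain 3323 8998983 false])) (.leaf (.mov 84 13310023 false [.plain 3324 19861583 true, .edge 3227 6 false]))))))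
(.node 4 (.node 2 (.node 1 (.leaf (.mov 84 9056345 false [.plain 491 9048153 true, .edge 3325 636 false])) (.leaf (.eqT 84 19085399 false [.plain 3324 11284553 true, .edge 3234 740 false] [.edge 492 0 false]))) (.node 1 (.leaf (.eqT 84 29904967 true [.plain 3324 7166029 true, .edge 3238 20 false] [.edge 1788 0 false])) (.leaf (.eqT 84 17059919 true [.plain 3324 31938633 true, .edge 3261 1400 false] [.edge 1796 0 false]))))
(.node 2 (.node 1 (.leaf (.eqT 84 25385043 true [.plain 3324 19222623 true, .edge 3269 1307 false] [.edge 1818 0 false])) (.leaf (.eq 1204 17043521 [] [.plain 3330 19159105 false]))) (.node 1 (.leaf (.eqT 490 17043521 false [.plain 3331 29775941 true, .edge 3270 205 false] [.edge 1813 0 false])) (.node 1 (.leaf (.mov 490 19085399 false [.plain 3331 27555929 true, .edge 3282 1077 false])) (.leaf (.mov 490 9056345 false [.plain 1820 19355737 true, .edge 3333 148 false]))))))))))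

/-- The reasons. -/
def caseDFullSrcRLRR : Tab Src := .node 139 caseDFullSrcRLRRL caseDFullSrcRLRRR

/-- The reasons. -/
def caseDFullSrcRLR : Tab Src := .node 278 caseDFullSrcRLRL caseDFullSrcRLRR

/-- The reasons. -/
def caseDFullSrcRL : Tab Src := .node 556 caseDFullSrcRLL caseDFullSrcRLR

/-- The reasons. -/
def caseDFullSrcRRLLL : Tab Src :=
(.node 69 (.node 34 (.node 17 (.node 8 (.node 4 (.node 2 (.node 1 (.leaf (.eq 1205 17043521 [] [.plain 3332 17576021 false])) (.leaf (.eq 1195 17043521 [] [.plain 3329 25696337 false]))) (.node 1 (.leaf (.mov 480 17043521 false [.plain 3336 17070171 true, .edge 3262 1439 false])) (.leaf (.mov 480 29904967 false [.plain 1798 17715275 true, .edge 3337 65 false]))))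
(.node 2 (.node 1 (.leaf (.eq 1183 17043521 [] [.plain 3328 17569867 false])) (.leaf (.mov 477 19085399 false [.plain 3339 23670867 true, .edge 3249 138 false]))) (.node 1 (.leaf (.eqT 477 17043521 false [.plain 3339 27793483 true, .edge 3259 135 false] [.edge 1832 0 false])) (.leaf (.eq 1192 17043521 [] [.plain 3341 19095629 false])))))
(.node 4 (.node 2 (.node 1 (.leaf (.eq 1178 19019869 [] [.plain 3327 17043521 false, .plain 502 17043521 false])) (.leaf (.eq 1178 17043521 [] [.plain 3343 19341397 false]))) (.node 1 (.leaf (.eqT 84 23928925 false [.plain 3344 23468119 true, .edge 3281 1516 false] [.edge 530 0 false])) (.leaf (.eqT 84 9056345 false [.plain 3344 9324631 true, .edge 3293 350 false] [.edge 3326 0 false]))))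
(.node 2 (.node 1 (.leaf (.eq 1210 17043521 [] [.plain 3346 23998555 false])) (.leaf (.mov 1167 13510735 false [.plain 3347 17784927 true, .edge 3284 322 false]))) (.node 1 (.leaf (.eq 1206 21198913 [] [.plain 3345 17043521 false, .plain 540 17176643 false])) (.node 1 (.leaf (.eq 1206 17043521 [] [.plain 3349 27994177 false])) (.leaf (.eqT 88 7292999 false [.plain 3350 16918615 true, .edge 3272 59 false] [.edge 1428 0 false])))))))
(.node 8 (.node 4 (.node 2 (.node 1 (.leaf (.eq 1205 4859987 [.plain 3335 4859987 false] [.plain 3351 17043521 false, .plain 1434 17043521 false])) (.leaf (.eq 489 17043521 [] [.plain 3352 10960981 false]))) (.node 1 (.leaf (.eqT 88 10971209 true [.plain 3353 19738689 true, .edge 1811 295 false] [.edge 678 0 false])) (.leaf (.eqT 88 32125001 false [.plain 3353 17193045 true, .edge 1812 529 false] [.edge 541 0 false]))))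
(.node 2 (.node 1 (.leaf (.eq 490 17043521 [] [.plain 3355 17717335 false])) (.leaf (.eqT 84 13310023 false [.plain 3356 31598687 true, .edge 3334 1030 false] [.edge 3325 0 false]))) (.node 1 (.leaf (.eq 1209 17043521 [] [.plain 3357 17764429 false])) (.leaf (.eq 488 19683403 [] [.plain 3354 17043521 false, .plain 604 17633347 false, .plain 676 25565259 false])))))
(.node 4 (.node 2 (.node 1 (.leaf (.eq 488 17043521 [] [.plain 3359 19746905 false])) (.leaf (.eqT 88 31801425 false [.plain 3360 17768513 true, .edge 1809 569 false] [.edge 512 0 false]))) (.node 1 (.leaf (.eq 487 25720909 [] [.plain 3361 17043521 false, .plain 519 17043521 false])) (.leaf (.eq 487 17043521 [] [.plain 3362 9197647 false]))))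
(.node 2 (.node 1 (.leaf (.eqT 66 13310023 true [.plain 3363 27875403 true, .edge 1807 798 false] [.edge 1467 0 false])) (.leaf (.eq 84 11221085 [] [.plain 3364 17043521 false, .plain 1555 9269331 false]))) (.node 1 (.leaf (.eq 174 17043521 [] [.plain 3365 21913673 true])) (.node 1 (.leaf (.eqT 84 31801425 true [.plain 3366 21842015 true, .edge 3059 897 false] [.edge 1790 0 false])) (.leaf (.eqT 84 11495495 true [.plain 3366 21127255 true, .edge 3068 1096 false] [.edge 1804 0 false]))))))))
(.node 17 (.node 8 (.node 4 (.node 2 (.node 1 (.leaf (.eqT 84 10971209 true [.plain 3366 4874329 true, .edge 3080 300 false] [.edge 1795 0 false])) (.leaf (.eqT 84 25385043 true [.plain 3366 32002141 true, .edge 3109 995 false] [.edge 1818 0 false]))) (.node 1 (.leaf (.eq 1111 17117249 [] [.plain 3370 17043521 false, .plain 3356 27406413 false])) (.leaf (.eq 1111 17043521 [] [.plain 3371 17119297 false]))))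
(.node 2 (.node 1 (.leaf (.eqT 84 9056345 false [.plain 3372 27529283 true, .edge 3113 1384 false] [.edge 3326 0 false])) (.leaf (.eq 1167 17043521 [] [.plain 3373 4608073 true]))) (.node 1 (.leaf (.mov 1112 19085399 false [.plain 3374 6572097 true, .edge 3202 570 false])) (.leaf (.mov 1112 4808797 false [.plain 3374 19206217 true, .edge 3219 1532 false])))))
(.node 4 (.node 2 (.node 1 (.leaf (.eqT 1112 31801425 false [.plain 3374 11368519 true, .edge 3348 730 false] [.edge 3114 0 false])) (.leaf (.eq 1209 8542281 [.plain 3358 8542281 false, .plain 3374 29761625 false] [.plain 3377 17043521 false]))) (.node 1 (.leaf (.eq 1113 17043521 [] [.plain 3378 17043521 true])) (.leaf (.eq 1093 17043521 [] [.plain 3369 21506125 false]))))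
(.node 2 (.node 1 (.leaf (.eqT 480 17043521 false [.plain 3380 8609887 true, .edge 3083 415 false] [.edge 3337 0 false])) (.leaf (.eq 1196 17043521 [] [.plain 3381 17524813 true]))) (.node 1 (.leaf (.eq 1090 17043521 [] [.plain 3368 27791433 false])) (.node 1 (.leaf (.eq 1087 9197649 [.plain 3103 9197649 false] [.plain 3367 17043521 false])) (.leaf (.eq 477 17043521 [] [.plain 3384 25458779 true])))))))
(.node 9 (.node 4 (.node 2 (.node 1 (.leaf (.eqT 167 6776923 false [.plain 3385 19624029 true, .edge 3340 472 false] [.edge 2558 0 false])) (.leaf (.eq 1189 21131347 [] [.plain 3386 17043521 false, .plain 2774 17043521 false, .plain 2871 29628495 false]))) (.node 1 (.leaf (.eq 1189 17043521 [] [.plain 3387 25829467 false])) (.leaf (.eqT 202 7292999 false [.plain 3388 11300959 true, .edge 3250 1366 false] [.edge 2875 0 false]))))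
(.node 2 (.node 1 (.leaf (.eq 1192 17522769 [.plain 3342 17522769 false] [.plain 3389 17043521 false, .plain 2563 17715295 false])) (.leaf (.eq 511 17043521 [] [.plain 3390 19667023 false]))) (.node 1 (.leaf (.eqT 144 4808797 false [.plain 3391 21833819 true, .edge 1833 807 false] [.edge 918 0 false])) (.node 1 (.leaf (.eq 512 17461315 [.plain 1844 17461315 false] [.plain 3392 17043521 false])) (.leaf (.eq 467 17043521 [] [.plain 3393 23670855 false]))))))
(.node 4 (.node 2 (.node 1 (.leaf (.eqT 167 6776923 false [.plain 3394 26157131 true, .edge 1900 683 false] [.edge 2558 0 false])) (.leaf (.eq 540 23355473 [] [.plain 3395 17043521 false, .plain 2774 17043521 false, .plain 2871 29628495 false]))) (.node 1 (.leaf (.eq 540 17043521 [] [.plain 3396 12875853 false])) (.leaf (.eqT 202 6776923 false [.plain 3397 17764433 true, .edge 1891 376 false] [.edge 2873 0 false]))))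
(.node 2 (.node 1 (.leaf (.eq 539 29700175 [] [.plain 3398 17043521 false, .plain 2878 13178973 false])) (.leaf (.eq 539 17043521 [] [.plain 3399 21313607 false]))) (.node 1 (.leaf (.eqT 170 32125001 false [.plain 3400 17528899 true, .edge 1889 1080 false] [.edge 2882 0 false])) (.node 1 (.leaf (.eq 517 19681369 [] [.plain 3401 17043521 false, .plain 2871 17786949 false])) (.leaf (.eq 517 17043521 [] [.plain 3402 19748937 false])))))))))
(.node 35 (.node 17 (.node 8 (.node 4 (.node 2 (.node 1 (.leaf (.eqT 202 17059919 true [.plain 3403 9197657 true, .edge 1846 868 false] [.edge 2932 0 false])) (.leaf (.eq 88 31922257 [] [.plain 3404 17043521 false, .plain 2915 27545665 false]))) (.node 1 (.leaf (.eq 177 17043521 [] [.plain 3405 25432149 true])) (.leaf (.mov 88 10971209 false [.plain 3406 17457221 true, .edge 960 1451 false]))))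
(.node 2 (.node 1 (.leaf (.eqT 88 13310023 false [.plain 3406 11014227 true, .edge 1012 369 false] [.edge 1506 0 false])) (.leaf (.eqT 88 13510735 true [.plain 3406 7020625 true, .edge 3118 1059 false] [.edge 1863 0 false]))) (.node 1 (.leaf (.eq 1122 17043521 [] [.plain 3409 17584195 false])) (.leaf (.mov 529 17059919 true [.plain 3410 17567821 true, .edge 3119 976 false])))))
(.node 4 (.node 2 (.node 1 (.leaf (.eqT 529 13510735 false [.plain 3410 13113421 true, .edge 3135 1075 false] [.edge 1867 0 false])) (.leaf (.eq 1127 17043521 [] [.plain 3412 17567839 false]))) (.node 1 (.leaf (.mov 530 17059919 true [.plain 3413 17584209 true, .edge 3136 1338 false])) (.leaf (.eq 198 31735877 [.plain 2885 31735877 false] [.plain 3408 17043521 false]))))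
(.node 2 (.node 1 (.leaf (.eq 356 17043521 [] [.plain 3415 4999247 true])) (.leaf (.mov 157 13310023 false [.plain 3416 17524819 true, .edge 1494 1513 false]))) (.node 1 (.leaf (.eqT 157 32125001 false [.plain 3416 25831519 true, .edge 1535 1425 false] [.edge 2778 0 false])) (.node 1 (.leaf (.eqT 157 6776923 false [.plain 3416 21438551 true, .edge 1742 911 false] [.edge 2750 0 false])) (.leaf (.eqT 157 31801425 false [.plain 3416 27611225 true, .edge 1757 673 false] [.edge 2786 0 false])))))))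
(.node 9 (.node 4 (.node 2 (.node 1 (.leaf (.eq 947 17043521 [] [.plain 3420 19556447 true])) (.leaf (.eq 933 17043521 [] [.plain 3419 13398091 true]))) (.node 1 (.leaf (.mov 458 32125001 false [.plain 3422 17784923 true, .edge 2741 738 false])) (.leaf (.eqT 458 32125001 false [.plain 1729 31797335 true, .edge 3423 1283 false] [.edge 3423 0 false]))))
(.node 2 (.node 1 (.leaf (.eq 932 17043521 [] [.plain 3424 21915723 false])) (.leaf (.mov 932 23928925 false [.plain 3425 17643585 true, .edge 2735 187 false]))) (.node 1 (.leaf (.eqT 932 23928925 false [.plain 2738 23492683 true, .edge 3426 47 false] [.edge 3426 0 false])) (.node 1 (.leaf (.eqT 932 23928925 false [.plain 2739 23492701 true, .edge 3426 959 false] [.edge 3426 0 false])) (.leaf (.eq 912 17043521 [] [.plain 3428 11475025 false]))))))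
(.node 4 (.node 2 (.node 1 (.leaf (.mov 912 29904967 true [.plain 3429 8933463 true, .edge 2715 555 false])) (.leaf (.eq 912 17043521 [] [.plain 3427 11212885 false]))) (.node 1 (.leaf (.eqT 912 17043521 true [.plain 3431 29626437 true, .edge 3430 1293 false] [.edge 2710 0 false])) (.leaf (.eq 913 11087953 [.plain 2718 11087953 false] [.plain 3432 17043521 false]))))
(.node 2 (.node 1 (.leaf (.eq 911 17043521 [] [.plain 3433 17043535 true])) (.leaf (.eqT 150 7292999 false [.plain 3434 9254979 true, .edge 2720 575 false] [.edge 2764 0 false]))) (.node 1 (.leaf (.mov 150 31801425 false [.plain 3434 7037005 true, .edge 2733 866 false])) (.node 1 (.leaf (.eqT 150 31801425 false [.plain 1571 31604815 true, .edge 3436 1368 false] [.edge 3436 0 false])) (.leaf (.eqT 150 13510735 false [.plain 3434 25776193 true, .edge 2752 118 false] [.edge 865 0 false]))))))))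
(.node 17 (.node 8 (.node 4 (.node 2 (.node 1 (.leaf (.eq 936 17043521 [] [.plain 3438 17174615 false])) (.leaf (.eqT 157 9056345 false [.plain 3439 9187423 true, .edge 2755 898 false] [.edge 2853 0 false]))) (.node 1 (.leaf (.eq 985 17043521 [] [.plain 3440 29503553 true])) (.leaf (.eq 929 17043521 [] [.plain 3437 19554381 false]))))
(.node 2 (.node 1 (.leaf (.eqT 929 17043521 false [.plain 3442 17174611 true, .edge 2724 1277 false] [.edge 2724 0 false])) (.leaf (.eq 928 17043521 [] [.plain 3443 19621979 false]))) (.node 1 (.leaf (.eq 938 17043521 [] [.plain 3435 25499737 true])) (.leaf (.mov 928 10971209 false [.plain 3445 17643609 true, .edge 2759 678 false])))))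
(.node 4 (.node 2 (.node 1 (.leaf (.mov 928 31801425 false [.plain 2722 31799377 true, .edge 3446 398 false])) (.leaf (.mov 928 9056345 false [.plain 3444 9060441 true, .edge 3447 1180 false]))) (.node 1 (.leaf (.mov 928 13310023 false [.plain 2722 13314119 true, .edge 3448 865 false])) (.leaf (.eq 946 17043521 [] [.plain 3418 17043521 true]))))
(.node 2 (.node 1 (.leaf (.eqT 353 4808797 false [.plain 3450 19691605 true, .edge 2780 374 false] [.edge 1522 0 false])) (.leaf (.eqT 353 17043521 false [.plain 3450 8542287 true, .edge 2845 1513 false] [.edge 1479 0 false]))) (.node 1 (.leaf (.eq 980 17043521 [] [.plain 3452 9320519 false])) (.node 1 (.leaf (.mov 352 32125001 false [.plain 3453 17717333 true, .edge 2836 1199 false])) (.leaf (.mov 352 10971209 false [.plain 1476 10641473 true, .edge 3454 276 false])))))))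
(.node 9 (.node 4 (.node 2 (.node 1 (.leaf (.mov 352 7292999 false [.plain 1477 7231553 true, .edge 3455 231 false])) (.leaf (.mov 352 31801425 false [.plain 1476 32131149 true, .edge 3456 373 false]))) (.node 1 (.leaf (.eq 947 17133659 [.plain 3421 17133659 false] [.plain 3451 17043521 false, .plain 1534 17459281 false, .plain 3416 21370953 false])) (.leaf (.eq 462 17043521 [] [.plain 3458 4810825 false]))))
(.node 2 (.node 1 (.leaf (.eqT 157 17043521 false [.plain 3459 17061969 true, .edge 1744 378 false] [.edge 866 0 false])) (.leaf (.eq 440 17043521 [] [.plain 3460 10633303 false]))) (.node 1 (.leaf (.eqT 150 13310023 false [.plain 3461 17569885 true, .edge 1759 321 false] [.edge 1573 0 false])) (.node 1 (.leaf (.eq 466 17043521 [] [.plain 3462 17262665 false])) (.leaf (.eqT 157 7292999 false [.plain 3463 6772801 true, .edge 1763 354 false] [.edge 2779 0 false]))))))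
(.node 4 (.node 2 (.node 1 (.leaf (.eq 467 17444935 [.plain 3394 17444935 false] [.plain 3464 17043521 false, .plain 3450 16988233 false])) (.leaf (.eq 353 17043521 [] [.plain 3465 8984669 true]))) (.node 1 (.leaf (.eqT 167 13310023 false [.plain 3466 21117001 true, .edge 1524 1391 false] [.edge 2938 0 false])) (.leaf (.eq 362 17512519 [.plain 1534 17512519 false, .plain 3416 23924811 false] [.plain 3467 17043521 false, .plain 2623 17641549 false, .plain 2774 25829445 false, .plain 2871 4859995 false]))))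
(.node 2 (.node 1 (.leaf (.eq 202 17043521 [] [.plain 3468 30156885 true])) (.leaf (.eqT 157 32131155 true [.plain 3469 17061977 true, .edge 3127 564 false] [.edge 2795 0 false]))) (.node 1 (.leaf (.eq 1125 11358299 [.plain 3134 11358299 false, .plain 3469 31926351 false] [.plain 3470 17043521 false])) (.node 1 (.leaf (.eq 950 17043521 [] [.plain 3471 17659991 true])) (.leaf (.eqT 157 32125001 false [.plain 3472 6826053 true, .edge 2821 548 false] [.edge 2778 0 false]))))))))))

/-- The reasons. -/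
def caseDFullSrcRRLLR : Tab Src :=
(.node 69 (.node 34 (.node 17 (.node 8 (.node 4 (.node 2 (.node 1 (.leaf (.eqT 157 9056345 false [.plain 3472 17002581 true, .edge 2846 1429 false] [.edge 2853 0 false])) (.leaf (.eq 983 17246295 [] [.plain 3474 17043521 false, .plain 3441 21372993 false]))) (.node 1 (.leaf (.eq 983 17043521 [] [.plain 3475 16986207 false])) (.leaf (.mov 937 10971209 false [.plain 3476 10704961 true, .edge 2847 30 false]))))
(.node 2 (.node 1 (.leaf (.mov 937 13310023 false [.plain 2757 13332553 true, .edge 3477 1183 false])) (.leaf (.eq 958 4792389 [] [.plain 3473 17043521 false, .plain 3450 17043521 false, .plain 3466 15212635 false]))) (.node 1 (.leaf (.eq 958 17043521 [] [.plain 3479 10633297 false])) (.leaf (.mov 167 32131155 true [.plain 3480 9007177 true, .edge 2812 1268 false])))))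
(.node 4 (.node 2 (.node 1 (.leaf (.eqT 167 7292999 false [.plain 3480 27856975 true, .edge 2813 1495 false] [.edge 2609 0 false])) (.leaf (.eq 959 17578065 [.plain 2820 17578065 false, .plain 3472 13115467 false] [.plain 3482 17043521 false]))) (.node 1 (.leaf (.eq 837 17043521 [] [.plain 3483 23423059 true])) (.leaf (.eqT 157 10971209 false [.plain 3484 31668297 true, .edge 2961 70 false] [.edge 2785 0 false]))))
(.node 2 (.node 1 (.leaf (.eq 1014 17510487 [] [.plain 3485 17043521 false, .plain 3421 19691589 false, .plain 3459 25577539 false])) (.leaf (.eq 1014 17043521 [] [.plain 3486 17786953 false]))) (.node 1 (.leaf (.eqT 157 32125001 false [.plain 3487 19157085 true, .edge 2962 437 false] [.edge 2778 0 false])) (.node 1 (.leaf (.eq 1015 16939093 [.plain 2965 16939093 false] [.plain 3488 17043521 false, .plain 3450 17043521 false, .plain 3466 15212635 false])) (.leaf (.eq 167 17043521 [] [.plain 3489 4997199 false])))))))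
(.node 8 (.node 4 (.node 2 (.node 1 (.leaf (.mov 167 27529303 false [.plain 3490 17045599 true, .edge 907 40 false])) (.leaf (.mov 167 32125001 false [.plain 3490 9058397 true, .edge 2558 1471 false]))) (.node 1 (.leaf (.mov 167 13510735 true [.plain 3490 19800147 true, .edge 3013 121 false])) (.leaf (.eqT 167 19085399 false [.plain 3490 23277649 true, .edge 3169 96 false] [.edge 2598 0 false]))))
(.node 2 (.node 1 (.leaf (.mov 167 11495495 true [.plain 3490 24076377 true, .edge 3481 231 false])) (.leaf (.eq 1135 21841987 [] [.plain 3494 17043521 false, .plain 2943 15274063 false, .plain 3406 32067663 false]))) (.node 1 (.leaf (.eq 1135 17043521 [] [.plain 3496 6707267 false])) (.leaf (.eqT 88 7292999 false [.plain 3497 17117251 true, .edge 3159 1343 false] [.edge 1428 0 false])))))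
(.node 4 (.node 2 (.node 1 (.leaf (.eq 1132 27988063 [] [.plain 3498 17043521 false, .plain 1434 17043521 false])) (.leaf (.eq 1132 17043521 [] [.plain 3499 15601749 false]))) (.node 1 (.leaf (.eqT 88 4808797 false [.plain 3500 19101785 true, .edge 3149 434 false] [.edge 1505 0 false])) (.leaf (.eq 1133 17127515 [.plain 3156 17127515 false, .plain 3410 19863639 false] [.plain 3501 17043521 false, .plain 3416 12861525 false]))))
(.node 2 (.node 1 (.leaf (.eq 529 17043521 [] [.plain 3502 19880005 false])) (.leaf (.eqT 157 32125001 false [.plain 3503 9181279 true, .edge 1867 207 false] [.edge 2778 0 false]))) (.node 1 (.leaf (.eqT 157 32125001 true [.plain 3503 9181279 true, .edge 3411 751 false] [.edge 2808 0 false])) (.node 1 (.leaf (.eq 1123 27555913 [.plain 3125 27555913 false, .plain 3410 8943693 false, .plain 3503 9197647 false] [.plain 3505 17043521 false])) (.leaf (.eq 955 17043521 [] [.plain 3506 15294551 true]))))))))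
(.node 17 (.node 8 (.node 4 (.node 2 (.node 1 (.leaf (.eqT 157 13510735 false [.plain 3507 17180741 true, .edge 2802 635 false] [.edge 2886 0 false])) (.leaf (.eqT 157 27529303 false [.plain 3507 19730515 true, .edge 2834 1449 false] [.edge 906 0 false]))) (.node 1 (.leaf (.eq 979 17043521 [] [.plain 3509 17260629 false])) (.leaf (.eqT 167 4808797 false [.plain 3510 5124181 true, .edge 2835 220 false] [.edge 2967 0 false]))))
(.node 2 (.node 1 (.leaf (.eq 980 16932957 [.plain 3453 16932957 false] [.plain 3511 17043521 false])) (.leaf (.eq 1016 17043521 [] [.plain 3512 17043521 true]))) (.node 1 (.leaf (.eqT 352 10971209 false [.plain 3513 19865669 true, .edge 2968 647 false] [.edge 3455 0 false])) (.leaf (.eq 1017 17770589 [] [.plain 3514 17043521 false, .plain 3510 29579355 false])))))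
(.node 4 (.node 2 (.node 1 (.leaf (.eq 1017 17043521 [] [.plain 3515 17002571 false])) (.leaf (.eq 954 16920661 [] [.plain 3508 17043521 false, .plain 1008 17043551 false, .plain 3406 27531351 false]))) (.node 1 (.leaf (.eq 954 17043521 [] [.plain 3517 17178713 false])) (.leaf (.eqT 88 13510735 true [.plain 3518 19230803 true, .edge 2800 1225 false] [.edge 1863 0 false]))))
(.node 2 (.node 1 (.leaf (.eq 953 19140699 [] [.plain 3519 17043521 false, .plain 3503 17043521 false])) (.leaf (.eq 953 17043521 [] [.plain 3520 19140697 false]))) (.node 1 (.leaf (.eqT 157 13310023 true [.plain 3521 27816025 true, .edge 2799 161 false] [.edge 2797 0 false])) (.node 1 (.leaf (.eq 954 9254995 [.plain 3518 9254995 false] [.plain 3522 17043521 false])) (.leaf (.eq 952 17043521 [] [.plain 3523 9179203 true])))))))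
(.node 9 (.node 4 (.node 2 (.node 1 (.leaf (.eq 530 17702999 [] [.plain 3504 17043521 false, .plain 3450 17043521 false, .plain 3466 15212635 false])) (.leaf (.eq 530 17043521 [] [.plain 3525 16937039 false]))) (.node 1 (.leaf (.eqT 167 31801425 true [.plain 3526 19689543 true, .edge 3414 74 false] [.edge 3000 0 false])) (.leaf (.eq 1128 19140681 [.plain 3146 19140681 false, .plain 3413 19691585 false, .plain 3526 19232855 false] [.plain 3527 17043521 false]))))
(.node 2 (.node 1 (.leaf (.eq 1028 17043521 [] [.plain 3528 17117261 true])) (.leaf (.eqT 167 31801425 false [.plain 3529 17576021 true, .edge 2995 310 false] [.edge 2966 0 false]))) (.node 1 (.leaf (.eq 1027 13520971 [] [.plain 3530 17043521 false, .plain 3487 19816521 false])) (.node 1 (.leaf (.eq 1027 17043521 [] [.plain 3531 25587791 false])) (.leaf (.eqT 157 13310023 true [.plain 3532 17569875 true, .edge 2993 1088 false] [.edge 2797 0 false]))))))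
(.node 4 (.node 2 (.node 1 (.leaf (.eq 1026 28190795 [] [.plain 3533 17043521 false, .plain 3524 25694275 false])) (.leaf (.eq 1026 17043521 [] [.plain 3534 21194821 false]))) (.node 1 (.leaf (.eqT 88 31801425 false [.plain 3535 17190985 true, .edge 2991 42 false] [.edge 512 0 false])) (.leaf (.eq 1025 6912071 [] [.plain 3536 17043521 false, .plain 519 17043521 false]))))
(.node 2 (.node 1 (.leaf (.eq 1025 17043521 [] [.plain 3537 11487313 false])) (.leaf (.eqT 66 19085399 true [.plain 3538 19142745 true, .edge 2989 1366 false] [.edge 1440 0 false]))) (.node 1 (.leaf (.eq 338 17043521 [] [.plain 3539 9205849 true])) (.node 1 (.leaf (.eqT 167 29904967 false [.plain 3540 21510233 true, .edge 1492 17 false] [.edge 2973 0 false])) (.leaf (.eq 353 19101789 [.plain 3466 19101789 false] [.plain 3541 17043521 false, .plain 3516 19691589 false])))))))))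
(.node 35 (.node 17 (.node 8 (.node 4 (.node 2 (.node 1 (.leaf (.eq 167 17043521 [] [.plain 3542 9310275 false])) (.leaf (.mov 167 17059919 true [.plain 3543 29636697 true, .edge 3001 113 false]))) (.node 1 (.leaf (.mov 167 17043521 true [.plain 3543 12875847 true, .edge 3012 1459 false])) (.leaf (.eqT 167 25385043 true [.plain 3543 16984135 true, .edge 3495 1210 false] [.edge 2987 0 false]))))
(.node 2 (.node 1 (.leaf (.eq 957 26095697 [] [.plain 3546 17043521 false, .plain 3108 8917069 false, .plain 3366 24057923 false])) (.leaf (.eq 957 17043521 [] [.plain 3547 13525069 false]))) (.node 1 (.leaf (.eqT 84 4808797 false [.plain 3548 17043535 true, .edge 2810 972 false] [.edge 1667 0 false])) (.leaf (.eq 949 17043521 [] [.plain 3549 27594831 false])))))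
(.node 4 (.node 2 (.node 1 (.leaf (.mov 423 4544593 true [.plain 3550 19675223 true, .edge 2789 819 false])) (.leaf (.mov 423 31801425 true [.plain 1657 31797339 true, .edge 3551 1311 false]))) (.node 1 (.leaf (.eqT 157 29904967 true [.plain 3472 25505875 true, .edge 3552 610 true] [.edge 2794 0 false])) (.leaf (.mov 423 9056345 false [.plain 3550 4747347 true, .edge 2822 406 false]))))
(.node 2 (.node 1 (.leaf (.mov 423 23928925 false [.plain 1657 23949383 true, .edge 3554 417 false])) (.leaf (.eq 423 13443153 [] [.plain 3553 17043521 false, .plain 3472 25786447 false]))) (.node 1 (.leaf (.eq 423 17043521 [] [.plain 3556 14831695 false])) (.node 1 (.leaf (.eqT 157 10971209 false [.plain 3557 24000599 true, .edge 3555 1319 false] [.edge 2785 0 false])) (.leaf (.eq 975 17592407 [] [.plain 3558 17043521 false, .plain 3421 19691589 false, .plain 3459 25577539 false])))))))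
(.node 9 (.node 4 (.node 2 (.node 1 (.leaf (.eq 975 17043521 [] [.plain 3559 17576031 false])) (.leaf (.eqT 157 10971209 false [.plain 3560 17135687 true, .edge 2823 1423 false] [.edge 2785 0 false]))) (.node 1 (.leaf (.eqT 157 31801425 false [.plain 3560 15667291 true, .edge 2824 1095 false] [.edge 2786 0 false])) (.leaf (.eq 976 17119317 [] [.plain 3562 17043521 false, .plain 3421 19556447 false, .plain 3459 21252177 false]))))
(.node 2 (.node 1 (.leaf (.eq 976 17043521 [] [.plain 3563 17117277 false])) (.leaf (.eqT 157 7292999 false [.plain 3564 21903443 true, .edge 3026 1049 false] [.edge 2779 0 false]))) (.node 1 (.leaf (.eqT 157 19085399 false [.plain 3564 29501515 true, .edge 3039 474 false] [.edge 895 0 false])) (.node 1 (.leaf (.eq 1057 4546633 [] [.plain 3566 17043521 false, .plain 905 17043521 false])) (.leaf (.eq 1057 17043521 [] [.plain 3567 15024203 false]))))))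
(.node 4 (.node 2 (.node 1 (.leaf (.eqT 157 13510735 false [.plain 3568 17043545 true, .edge 3030 447 false] [.edge 2886 0 false])) (.leaf (.eq 1056 11276377 [] [.plain 3569 17043521 false, .plain 1008 17043551 false, .plain 3406 27531351 false]))) (.node 1 (.leaf (.eq 1056 17043521 [] [.plain 3570 27856969 false])) (.leaf (.eqT 88 23928925 false [.plain 3571 17703005 true, .edge 3028 428 false] [.edge 1773 0 false]))))
(.node 2 (.node 1 (.leaf (.eq 1019 8925271 [] [.plain 3572 17043521 false, .plain 3394 4927561 false])) (.leaf (.eq 1019 17043521 [] [.plain 3573 8933471 false]))) (.node 1 (.leaf (.eqT 167 25385043 true [.plain 3574 11368543 true, .edge 2975 1404 false] [.edge 2987 0 false])) (.node 1 (.leaf (.eq 1020 25778265 [] [.plain 3575 17043521 false, .plain 3108 8917069 false, .plain 3366 24057923 false])) (.leaf (.eq 1020 17043521 [] [.plain 3576 11350097 false]))))))))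
(.node 17 (.node 8 (.node 4 (.node 2 (.node 1 (.leaf (.eq 1045 10641473 [] [.plain 3565 17043521 false, .plain 3450 16988233 false, .plain 3466 11016285 false])) (.leaf (.eq 1045 17043521 [] [.plain 3578 23666753 false]))) (.node 1 (.leaf (.eqT 167 4808797 false [.plain 3579 16916567 true, .edge 3017 152 false] [.edge 2967 0 false])) (.leaf (.eq 1044 15032385 [] [.plain 3580 17043521 false, .plain 3513 17043521 false]))))
(.node 2 (.node 1 (.leaf (.eq 1044 17043521 [] [.plain 3581 15032385 false])) (.leaf (.mov 352 13310023 false [.plain 3582 17780819 true, .edge 3015 741 false]))) (.node 1 (.leaf (.mov 352 6776923 false [.plain 1476 6578271 true, .edge 3583 1466 false])) (.leaf (.mov 352 23928925 false [.plain 1477 23883851 true, .edge 3584 197 false])))))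
(.node 4 (.node 2 (.node 1 (.leaf (.mov 352 9056345 false [.plain 1476 9320531 true, .edge 3585 323 false])) (.leaf (.eq 949 15229021 [.plain 3550 15229021 false, .plain 3557 7282777 false] [.plain 3561 17043521 false, .plain 3421 19691589 false, .plain 3459 25577539 false]))) (.node 1 (.leaf (.eq 157 17043521 [] [.plain 3587 25440333 false])) (.leaf (.mov 157 11495495 true [.plain 3588 11368523 true, .edge 2900 1008 false]))))
(.node 2 (.node 1 (.leaf (.eqT 157 13310023 false [.plain 3588 12802137 true, .edge 3417 890 false] [.edge 3417 0 false])) (.leaf (.eq 339 17043521 [] [.plain 3590 14903389 false]))) (.node 1 (.leaf (.mov 339 6776923 false [.plain 3591 17262657 true, .edge 1450 534 false])) (.node 1 (.leaf (.eqT 339 13310023 false [.plain 3591 32184385 true, .edge 1507 312 false] [.edge 1507 0 false])) (.leaf (.eq 359 17043525 [.plain 1518 17043525 false] [.plain 3593 17043521 false, .plain 1518 17043521 false])))))))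
(.node 9 (.node 4 (.node 2 (.node 1 (.leaf (.eq 256 17043521 [] [.plain 3594 25837651 false])) (.leaf (.eqT 256 31801425 false [.plain 3595 31801423 true, .edge 1375 1282 false] [.edge 1375 0 false]))) (.node 1 (.leaf (.eq 298 17043521 [] [.plain 3596 7022671 false])) (.leaf (.eqT 298 17043521 false [.plain 3597 17174613 true, .edge 1365 1441 false] [.edge 1365 0 false]))))
(.node 2 (.node 1 (.leaf (.eq 297 17043521 [] [.plain 3598 31799371 false])) (.leaf (.eqT 297 17043521 false [.plain 3599 17584223 true, .edge 1361 1325 false] [.edge 1361 0 false]))) (.node 1 (.leaf (.eq 243 17043521 [] [.plain 3600 19341383 false])) (.node 1 (.leaf (.eqT 243 9056345 false [.plain 3601 9377859 true, .edge 1339 457 false] [.edge 1339 0 false])) (.leaf (.eq 275 17043521 [] [.plain 3602 10637393 false]))))))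
(.node 4 (.node 2 (.node 1 (.leaf (.eqT 275 29904967 false [.plain 3603 29911131 true, .edge 1316 24 false] [.edge 1316 0 false])) (.leaf (.eq 274 19624007 [.plain 1340 19624007 false] [.plain 3604 17043521 false, .plain 1340 19877967 false]))) (.node 1 (.leaf (.eq 263 17043521 [] [.plain 3605 19101761 false])) (.leaf (.eqT 263 11495495 true [.plain 3606 10709063 true, .edge 1341 260 false] [.edge 1341 0 false]))))
(.node 2 (.node 1 (.leaf (.eq 275 17043521 [] [.plain 3607 27799641 false])) (.leaf (.eqT 275 29904967 false [.plain 3608 29894745 true, .edge 1316 1283 false] [.edge 1316 0 false]))) (.node 1 (.leaf (.eq 274 19560535 [.plain 1340 19560535 false] [.plain 3609 17043521 false, .plain 1340 19877967 false])) (.node 1 (.leaf (.eq 263 17043521 [] [.plain 3610 19099729 false])) (.leaf (.eqT 263 10971209 false [.plain 3611 11167811 true, .edge 1253 1448 false] [.edge 1253 0 false]))))))))))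

/-- The reasons. -/
def caseDFullSrcRRLL : Tab Src := .node 139 caseDFullSrcRRLLL caseDFullSrcRRLLR

/-- The reasons. -/
def caseDFullSrcRRLRL : Tab Src :=
(.node 69 (.node 34 (.node 17 (.node 8 (.node 4 (.node 2 (.node 1 (.leaf (.eq 264 17524815 [.plain 1260 17524815 false] [.plain 3612 17043521 false, .plain 1260 17043521 false])) (.leaf (.eq 234 17043521 [] [.plain 3613 25892953 false]))) (.node 1 (.leaf (.eqT 234 17043521 false [.plain 3614 17053779 true, .edge 1143 1140 false] [.edge 1143 0 false])) (.leaf (.mov 234 7292999 false [.plain 3614 7288899 true, .edge 1266 701 false]))))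
(.node 2 (.node 1 (.leaf (.mov 234 32125001 false [.plain 1149 32327755 true, .edge 3616 750 false])) (.leaf (.eq 49 17043521 [] [.plain 3615 31875141 false]))) (.node 1 (.leaf (.eqT 49 19085399 false [.plain 3618 12795977 true, .edge 1243 724 false] [.edge 367 0 false])) (.leaf (.eq 261 17043521 [] [.plain 3619 11153497 false])))))
(.node 4 (.node 2 (.node 1 (.leaf (.eqT 56 4808797 false [.plain 3620 23273541 true, .edge 1251 1130 false] [.edge 1409 0 false])) (.leaf (.eq 328 17043521 [] [.plain 3621 29577311 true]))) (.node 1 (.leaf (.mov 260 10971209 false [.plain 3622 23347267 true, .edge 1413 1338 false])) (.leaf (.mov 260 7292999 false [.plain 1231 7297119 true, .edge 3623 109 false]))))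
(.node 2 (.node 1 (.leaf (.mov 260 13310023 false [.plain 1232 13322313 true, .edge 3624 1340 false])) (.leaf (.mov 260 6776923 false [.plain 1231 6781011 true, .edge 3625 979 false]))) (.node 1 (.leaf (.eqT 327 27529303 false [.edge 3626 1110 true] [.edge 1401 0 false])) (.node 1 (.leaf (.eq 260 11407445 [] [.plain 3627 17043521 false, .plain 3622 17043521 false])) (.leaf (.eq 260 17043521 [] [.plain 3628 32051291 false])))))))
(.node 8 (.node 4 (.node 2 (.node 1 (.leaf (.eqT 260 17043521 false [.plain 3629 17059915 true, .edge 1227 970 false] [.edge 1227 0 false])) (.leaf (.eq 259 17043521 [] [.plain 3630 23556191 false]))) (.node 1 (.leaf (.eqT 259 17043521 false [.plain 3631 17764435 true, .edge 1218 1150 false] [.edge 1218 0 false])) (.leaf (.eq 242 17043521 [] [.plain 3632 11493461 false]))))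
(.node 2 (.node 1 (.leaf (.eqT 242 17043521 false [.plain 3633 17061971 true, .edge 1189 1151 false] [.edge 1189 0 false])) (.leaf (.eq 247 17043521 [] [.plain 3634 17786965 false]))) (.node 1 (.leaf (.eqT 247 32125001 false [.plain 3635 31731797 true, .edge 1198 796 false] [.edge 1198 0 false])) (.leaf (.eq 256 17043521 [] [.plain 3636 17004617 false])))))
(.node 4 (.node 2 (.node 1 (.leaf (.eqT 256 31801425 false [.plain 3637 31604803 true, .edge 1375 24 false] [.edge 1375 0 false])) (.leaf (.mov 256 13310023 false [.plain 3637 13506627 true, .edge 1519 731 false]))) (.node 1 (.leaf (.mov 256 6776923 false [.plain 1201 6645825 true, .edge 3639 738 false])) (.leaf (.mov 256 27529303 false [.plain 1202 27660363 true, .edge 3640 1440 false]))))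
(.node 2 (.node 1 (.leaf (.mov 256 29904967 false [.plain 1201 29839443 true, .edge 3641 37 false])) (.leaf (.eq 298 17043521 [] [.plain 3638 7037023 false]))) (.node 1 (.leaf (.eqT 298 17043521 false [.plain 3643 17764439 true, .edge 1365 959 false] [.edge 1365 0 false])) (.node 1 (.leaf (.eq 297 17043521 [] [.plain 3644 32192597 false])) (.leaf (.eqT 297 17043521 false [.plain 3645 16916573 true, .edge 1361 136 false] [.edge 1361 0 false]))))))))
(.node 17 (.node 8 (.node 4 (.node 2 (.node 1 (.leaf (.eq 243 17043521 [] [.plain 3646 19355717 false])) (.leaf (.eqT 243 19085399 true [.plain 3647 19339335 true, .edge 1336 1514 false] [.edge 1336 0 false]))) (.node 1 (.leaf (.eq 52 17043521 [] [.plain 3648 19748945 false])) (.leaf (.eqT 52 25385043 true [.plain 3649 25370711 true, .edge 1271 622 false] [.edge 355 0 false]))))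
(.node 2 (.node 1 (.leaf (.eqT 52 32125001 true [.plain 3649 32118879 true, .edge 1281 922 false] [.edge 1279 0 false])) (.leaf (.eq 271 17043521 [] [.plain 3651 11300939 false]))) (.node 1 (.leaf (.eqT 271 4808797 false [.plain 3652 7020635 true, .edge 1342 410 false] [.edge 1299 0 false])) (.leaf (.eqT 271 29904967 false [.plain 3652 31856729 true, .edge 1343 1520 false] [.edge 1317 0 false])))))
(.node 4 (.node 2 (.node 1 (.leaf (.eq 293 17043521 [] [.plain 3654 17569879 false])) (.leaf (.mov 285 13510735 false [.plain 3655 13115465 true, .edge 1346 1060 false]))) (.node 1 (.leaf (.eq 293 17459275 [.plain 3655 17459275 false] [.plain 3653 17043521 false])) (.leaf (.eq 285 17043521 [] [.plain 3657 17440835 false]))))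
(.node 2 (.node 1 (.leaf (.mov 278 10971209 false [.plain 3658 11341899 true, .edge 3656 780 false])) (.leaf (.mov 278 32125001 false [.plain 1302 31733847 true, .edge 3659 28 false]))) (.node 1 (.leaf (.mov 278 7292999 false [.plain 1303 7229507 true, .edge 3660 67 false])) (.node 1 (.leaf (.mov 278 31801425 false [.plain 1302 32196687 true, .edge 3661 1366 false])) (.leaf (.eq 268 11341915 [.plain 1335 11341915 false] [.plain 3650 17043521 false, .plain 365 17043521 false])))))))
(.node 9 (.node 4 (.node 2 (.node 1 (.leaf (.eq 243 17043521 [] [.plain 3663 13176923 false])) (.leaf (.eqT 52 19085399 false [.plain 3664 19877961 true, .edge 1360 1073 false] [.edge 380 0 false]))) (.node 1 (.leaf (.eq 297 16918615 [] [.plain 3665 17043521 false, .plain 390 17043521 false])) (.leaf (.eq 297 17043521 [] [.plain 3666 16982107 false]))))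
(.node 2 (.node 1 (.leaf (.eqT 52 6776923 false [.plain 3667 5191753 true, .edge 1366 448 false] [.edge 421 0 false])) (.leaf (.eq 298 17043521 [] [.plain 3668 17190995 false]))) (.node 1 (.leaf (.eqT 69 32125001 false [.plain 3669 31672405 true, .edge 1367 1459 false] [.edge 1045 0 false])) (.node 1 (.leaf (.eq 299 16984143 [.plain 1374 16984143 false] [.plain 3670 17043521 false, .plain 1051 17043521 false])) (.leaf (.eq 256 17043521 [] [.plain 3671 4876375 false]))))))
(.node 4 (.node 2 (.node 1 (.leaf (.eqT 69 13510735 false [.plain 3672 8917059 true, .edge 3642 1210 false] [.edge 1137 0 false])) (.leaf (.eq 339 17043521 [] [.plain 3673 13127745 false]))) (.node 1 (.leaf (.mov 231 13310023 true [.plain 3674 25825359 true, .edge 1454 1187 false])) (.leaf (.mov 231 32125001 true [.plain 1141 4862045 true, .edge 3675 1316 false]))))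
(.node 2 (.node 1 (.leaf (.eqT 231 10971209 false [.plain 3674 6709339 true, .edge 3592 1198 false] [.edge 1359 0 false])) (.leaf (.eq 338 17510481 [.plain 3540 17510481 false] [.plain 3677 17043521 false, .plain 3655 21526599 false, .plain 3658 21131343 false]))) (.node 1 (.leaf (.eq 278 17043521 [] [.plain 3678 21237837 true])) (.node 1 (.leaf (.eqT 167 23928925 false [.plain 3679 26165327 true, .edge 3662 135 false] [.edge 937 0 false])) (.leaf (.eq 294 17698891 [.plain 1357 17698891 false] [.plain 3680 17043521 false])))))))))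
(.node 35 (.node 17 (.node 8 (.node 4 (.node 2 (.node 1 (.leaf (.eq 231 17043521 [] [.plain 3681 27791445 false])) (.leaf (.mov 170 9056345 false [.plain 3682 29958223 true, .edge 1427 128 false]))) (.node 1 (.leaf (.eqT 170 31801425 true [.plain 3682 21198937 true, .edge 3676 129 false] [.edge 3040 0 false])) (.leaf (.eq 340 27856969 [.plain 1464 27856969 false, .plain 3674 25587797 false, .plain 3682 21461085 false] [.plain 3684 17043521 false]))))
(.node 2 (.node 1 (.leaf (.eq 1066 17043521 [] [.plain 3685 17043521 true])) (.leaf (.eqT 170 4808797 true [.plain 3686 8943691 true, .edge 3041 1373 false] [.edge 3050 0 false]))) (.node 1 (.leaf (.eq 1069 17043521 [] [.plain 3687 31926357 true])) (.leaf (.eqT 170 7292999 false [.plain 3688 17125441 true, .edge 3045 1272 false] [.edge 2881 0 false])))))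
(.node 4 (.node 2 (.node 1 (.leaf (.eq 1068 17584193 [] [.plain 3689 17043521 false, .plain 2871 17059907 false, .plain 3469 4798533 false])) (.leaf (.eq 1068 17043521 [] [.plain 3690 17584193 false]))) (.node 1 (.leaf (.eqT 157 13510735 false [.plain 3691 16932951 true, .edge 3044 277 false] [.edge 2886 0 false])) (.leaf (.eq 1069 17576021 [.plain 3688 17576021 false] [.plain 3692 17043521 false, .plain 1008 17043551 false, .plain 3406 27531351 false]))))
(.node 2 (.node 1 (.leaf (.eq 170 17043521 [] [.plain 3693 7157849 false])) (.leaf (.mov 88 17059919 true [.plain 3694 17260631 true, .edge 2879 1000 false]))) (.node 1 (.leaf (.mov 88 25385043 true [.plain 510 25778269 true, .edge 3695 915 false])) (.node 1 (.leaf (.eqT 88 32125001 false [.plain 3694 31598659 true, .edge 3683 953 false] [.edge 541 0 false])) (.leaf (.eq 323 17043521 [] [.plain 3697 21192779 false])))))))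
(.node 9 (.node 4 (.node 2 (.node 1 (.leaf (.eqT 84 9056345 false [.plain 3698 9332813 true, .edge 1397 504 false] [.edge 3326 0 false])) (.leaf (.eq 324 17004629 [] [.plain 3699 17043521 false, .plain 3374 21774425 false]))) (.node 1 (.leaf (.eq 1112 17043521 [] [.plain 3700 17719383 true])) (.leaf (.eqT 324 32125001 false [.plain 3701 31735885 true, .edge 3114 1175 false] [.edge 1610 0 false]))))
(.node 2 (.node 1 (.leaf (.mov 324 19085399 false [.plain 3701 19626063 true, .edge 3375 871 false])) (.leaf (.mov 324 13510735 false [.plain 3701 13176919 true, .edge 3376 746 false]))) (.node 1 (.leaf (.mov 324 23928925 false [.plain 1399 23273545 true, .edge 3704 1454 false])) (.node 1 (.leaf (.eq 1113 17045577 [.plain 3379 17045577 false, .plain 3701 9388101 false] [.plain 3702 17043521 false])) (.leaf (.eq 393 17043521 [] [.plain 3706 16920655 true]))))))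
(.node 4 (.node 2 (.node 1 (.leaf (.eqT 324 19085399 false [.plain 3707 31803469 true, .edge 1588 1127 false] [.edge 3703 0 false])) (.leaf (.eq 394 17195091 [.plain 1594 17195091 false, .plain 3682 6826053 false, .plain 3694 10899531 false] [.plain 3708 17043521 false, .plain 3205 17256523 false]))) (.node 1 (.leaf (.eq 180 17043521 [] [.plain 3709 11079753 true])) (.leaf (.eqT 88 10971209 false [.plain 3710 11096149 true, .edge 3206 1069 false] [.edge 3407 0 false]))))
(.node 2 (.node 1 (.leaf (.eq 1167 7161951 [.plain 3374 7161951 false, .plain 3701 19099721 false] [.plain 3711 17043521 false])) (.leaf (.eq 324 17043521 [] [.plain 3712 19816515 false]))) (.node 1 (.leaf (.eqT 43 13310023 false [.plain 3713 25903175 true, .edge 1609 788 false] [.edge 963 0 false])) (.node 1 (.leaf (.eqT 43 7292999 false [.plain 3713 28258375 true, .edge 3705 1051 false] [.edge 650 0 false])) (.leaf (.eq 1169 13465671 [] [.plain 3715 17043521 false, .plain 662 17043521 false]))))))))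
(.node 17 (.node 8 (.node 4 (.node 2 (.node 1 (.leaf (.eq 1169 17043521 [] [.plain 3716 23998543 false])) (.leaf (.eqT 43 23928925 false [.plain 3717 25378889 true, .edge 3222 1148 false] [.edge 950 0 false]))) (.node 1 (.leaf (.eq 1149 32051283 [] [.plain 3718 17043521 false, .plain 3366 4733021 false])) (.leaf (.eq 1149 17043521 [] [.plain 3719 11407433 false]))))
(.node 2 (.node 1 (.leaf (.eqT 84 31801425 true [.plain 3720 9195597 true, .edge 3175 1420 false] [.edge 1790 0 false])) (.leaf (.eq 1150 27881537 [] [.plain 3721 17043521 false, .plain 3385 25450579 false]))) (.node 1 (.leaf (.eq 1150 17043521 [] [.plain 3722 11294785 false])) (.leaf (.eqT 167 9056345 false [.plain 3723 19165273 true, .edge 3199 615 false] [.edge 909 0 false])))))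
(.node 4 (.node 2 (.node 1 (.leaf (.eq 1158 19607645 [] [.plain 3724 17043521 false, .plain 916 17043521 false])) (.leaf (.eq 1158 17043521 [] [.plain 3725 19816535 false]))) (.node 1 (.leaf (.eqT 144 13510735 false [.plain 3726 16988255 true, .edge 3186 787 false] [.edge 2564 0 false])) (.leaf (.eq 1148 25770063 [] [.plain 3727 17043521 false, .plain 2774 19540055 false, .plain 2871 13246539 false, .plain 3469 4671565 false]))))
(.node 2 (.node 1 (.leaf (.eq 1148 17043521 [] [.plain 3728 11366469 false])) (.leaf (.eqT 157 29904967 false [.plain 3729 11089993 true, .edge 3185 867 false] [.edge 2887 0 false]))) (.node 1 (.leaf (.eq 1158 17004619 [.plain 3726 17004619 false] [.plain 3730 17043521 false, .plain 1008 17586249 false, .plain 3406 11292753 false])) (.node 1 (.leaf (.eq 144 17043521 [] [.plain 3731 26171461 false])) (.leaf (.eqT 88 25385043 true [.plain 3732 25315417 true, .edge 2922 1351 false] [.edge 3696 0 false])))))))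
(.node 9 (.node 4 (.node 2 (.node 1 (.leaf (.eq 1001 11278425 [.plain 2924 11278425 false] [.plain 3733 17043521 false])) (.leaf (.eq 158 17043521 [] [.plain 3734 23558239 false]))) (.node 1 (.leaf (.eqT 43 11495495 true [.plain 3735 27662407 true, .edge 2946 1383 false] [.edge 647 0 false])) (.leaf (.eq 1009 9269329 [] [.plain 3736 17043521 false, .plain 618 25450561 false, .plain 644 25432153 false]))))
(.node 2 (.node 1 (.leaf (.eq 1009 17043521 [] [.plain 3737 27801691 false])) (.leaf (.eqT 43 10971209 false [.plain 3738 19664969 true, .edge 2947 995 false] [.edge 563 0 false]))) (.node 1 (.leaf (.eq 1010 16988225 [] [.plain 3739 17043521 false, .plain 569 17043521 false])) (.node 1 (.leaf (.eq 1010 17043521 [] [.plain 3740 17180737 false])) (.leaf (.eqT 43 31801425 false [.plain 3741 15366211 true, .edge 2948 204 false] [.edge 291 0 false]))))))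
(.node 4 (.node 2 (.node 1 (.leaf (.eq 1011 17526875 [.plain 2960 17526875 false] [.plain 3742 17043521 false])) (.leaf (.eq 150 17043521 [] [.plain 3743 21508163 false]))) (.node 1 (.leaf (.eqT 25 19085399 false [.plain 3744 27672653 true, .edge 3436 636 false] [.edge 226 0 false])) (.leaf (.eq 929 19740753 [] [.plain 3745 17043521 false, .plain 236 17043521 false]))))
(.node 2 (.node 1 (.leaf (.eq 929 17043521 [] [.plain 3746 19691603 false])) (.leaf (.eqT 25 17043521 false [.plain 3747 16937033 true, .edge 2724 338 false] [.edge 175 0 false]))) (.node 1 (.leaf (.eq 928 17043521 [] [.plain 3748 19683413 false])) (.node 1 (.leaf (.eqT 19 10971209 false [.plain 3749 4481099 true, .edge 3449 320 false] [.edge 771 0 false])) (.leaf (.eq 937 17043521 [] [.plain 3750 9388097 false]))))))))))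

/-- The reasons. -/
def caseDFullSrcRRLRR : Tab Src :=
(.node 69 (.node 34 (.node 17 (.node 8 (.node 4 (.node 2 (.node 1 (.leaf (.eqT 139 19085399 false [.plain 3751 13310017 true, .edge 3478 1045 false] [.edge 798 0 false])) (.leaf (.eq 984 17043521 [] [.plain 3752 17659991 false]))) (.node 1 (.leaf (.eqT 141 29904967 false [.plain 3753 9246791 true, .edge 2848 1357 false] [.edge 2462 0 false])) (.leaf (.eq 985 17125459 [.plain 3441 17125459 false, .plain 3751 14827597 false] [.plain 3754 17043521 false]))))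
(.node 2 (.node 1 (.leaf (.eq 750 17043521 [] [.plain 3755 4483167 true])) (.leaf (.eqT 139 4808797 false [.plain 3756 27674711 true, .edge 2464 1167 false] [.edge 778 0 false]))) (.node 1 (.leaf (.eq 756 17043521 [] [.plain 3757 17659979 false])) (.leaf (.eqT 138 23928925 false [.plain 3758 19816519 true, .edge 2465 1129 false] [.edge 2217 0 false])))))
(.node 4 (.node 2 (.node 1 (.leaf (.eq 757 17721437 [.plain 2468 17721437 false] [.plain 3759 17043521 false, .plain 2222 17506373 false])) (.leaf (.eq 141 17043521 [] [.plain 3760 15212617 false]))) (.node 1 (.leaf (.eqT 141 19085399 false [.plain 3761 6895683 true, .edge 2470 1356 false] [.edge 2424 0 false])) (.leaf (.eqT 141 17043521 true [.plain 3761 8917081 true, .edge 2492 462 false] [.edge 2492 0 false]))))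
(.node 2 (.node 1 (.leaf (.eqT 141 4544593 true [.plain 3761 10639455 true, .edge 2493 554 false] [.edge 2474 0 false])) (.leaf (.eqT 141 4808797 true [.plain 3761 19030091 true, .edge 2506 56 false] [.edge 2472 0 false]))) (.node 1 (.leaf (.eq 789 25505883 [.plain 2701 25505883 false] [.plain 3765 17043521 false])) (.node 1 (.leaf (.eq 761 17043521 [] [.plain 3766 11098195 true])) (.leaf (.eq 775 17043521 [] [.plain 3764 25442371 false])))))))
(.node 8 (.node 4 (.node 2 (.node 1 (.leaf (.mov 764 19085399 false [.plain 3768 4927571 true, .edge 2494 510 false])) (.leaf (.eqT 764 17043521 false [.plain 3768 11343947 true, .edge 2505 1525 false] [.edge 2477 0 false]))) (.node 1 (.leaf (.eq 781 17043521 [] [.plain 3770 19540049 false])) (.leaf (.mov 771 19085399 false [.plain 3771 17193031 true, .edge 2496 722 false]))))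
(.node 2 (.node 1 (.leaf (.eq 775 27529297 [.plain 3768 27529297 false] [.plain 3763 17043521 false, .plain 3768 17053777 false])) (.leaf (.eq 764 17043521 [] [.plain 3773 19732569 false]))) (.node 1 (.leaf (.eqT 764 17043521 false [.plain 3774 8941657 true, .edge 2524 1533 false] [.edge 2477 0 false])) (.leaf (.eqT 764 4808797 false [.plain 3774 19019851 true, .edge 3769 393 false] [.edge 2540 0 false])))))
(.node 4 (.node 2 (.node 1 (.leaf (.eq 780 17197139 [] [.plain 3776 17043521 false, .plain 2556 17043521 false])) (.leaf (.eq 780 17043521 [] [.plain 3777 17528915 false]))) (.node 1 (.leaf (.eqT 692 4808797 false [.plain 3778 19802181 true, .edge 2495 1377 false] [.edge 2539 0 false])) (.leaf (.eq 781 17262669 [.plain 3771 17262669 false] [.plain 3779 17043521 false]))))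
(.node 2 (.node 1 (.leaf (.eq 794 17043521 [] [.plain 3780 10707021 true])) (.leaf (.mov 771 6776923 false [.plain 3781 16988237 true, .edge 2525 1350 false]))) (.node 1 (.leaf (.eq 794 17768519 [.plain 3781 17768519 false] [.plain 3775 17043521 false])) (.node 1 (.leaf (.eq 771 17043521 [] [.plain 3783 31723593 false])) (.leaf (.mov 771 25385043 true [.plain 3784 10704981 true, .edge 2479 953 false]))))))))
(.node 17 (.node 8 (.node 4 (.node 2 (.node 1 (.leaf (.mov 771 9056345 false [.plain 3784 19542093 true, .edge 3772 946 false])) (.leaf (.eq 756 19034189 [.plain 3758 19034189 false] [.plain 3762 17043521 false, .plain 2434 17043521 false]))) (.node 1 (.leaf (.eq 646 17043521 [] [.plain 3787 6639697 true])) (.leaf (.eqT 138 31801425 false [.plain 3788 24078429 true, .edge 2241 467 false] [.edge 2357 0 false]))))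
(.node 2 (.node 1 (.leaf (.eq 692 17043521 [] [.plain 3789 17258561 true])) (.leaf (.mov 645 19085399 false [.plain 3790 11079773 true, .edge 2539 412 false]))) (.node 1 (.leaf (.eqT 645 17043521 false [.plain 3790 15214671 true, .edge 2557 379 false] [.edge 2227 0 false])) (.leaf (.eq 764 17043521 [] [.plain 3792 11276379 false])))))
(.node 4 (.node 2 (.node 1 (.leaf (.eqT 644 17043521 false [.plain 3793 19689557 true, .edge 3769 550 false] [.edge 2225 0 false])) (.leaf (.eq 780 16916547 [.plain 3778 16916547 false, .plain 3790 29909083 false] [.plain 3794 17043521 false]))) (.node 1 (.leaf (.eq 645 17043521 [] [.plain 3795 17633351 false])) (.leaf (.eqT 618 4808797 false [.plain 3796 19359821 true, .edge 3791 991 false] [.edge 2155 0 false]))))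
(.node 2 (.node 1 (.leaf (.eq 794 4812893 [.plain 3781 4812893 false] [.plain 3797 17043521 false])) (.leaf (.eq 771 17043521 [] [.plain 3798 19036231 false]))) (.node 1 (.leaf (.mov 625 19085399 false [.plain 3799 17635411 true, .edge 2478 1357 false])) (.node 1 (.leaf (.mov 625 31801425 false [.plain 3799 29501529 true, .edge 3782 697 false])) (.leaf (.mov 625 11495495 true [.plain 3799 8878171 true, .edge 3785 194 false])))))))
(.node 9 (.node 4 (.node 2 (.node 1 (.leaf (.mov 625 7292999 false [.plain 3799 4552795 true, .edge 3786 727 false])) (.leaf (.eqT 618 4808797 false [.plain 3796 19359821 true, .plain 3790 23670875 true, .plain 3778 19757143 true, .edge 3803 1315 true] [.edge 2155 0 false]))) (.node 1 (.leaf (.eq 625 17043521 [] [.plain 3804 6572125 false])) (.leaf (.eqT 625 10971209 true [.plain 3805 25632855 true, .edge 3802 914 false] [.edge 2156 0 false]))))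
(.node 2 (.node 1 (.leaf (.eq 772 25514051 [.plain 2489 25514051 false, .plain 3799 28268621 false] [.plain 3806 17043521 false])) (.leaf (.eq 626 17043521 [] [.plain 3807 17043521 true]))) (.node 1 (.leaf (.eqT 625 19085399 false [.plain 3808 15607877 true, .edge 2166 538 false] [.edge 3800 0 false])) (.node 1 (.leaf (.eq 629 17528905 [] [.plain 3809 17043521 false, .plain 3793 17045587 false])) (.leaf (.eq 644 17043521 [] [.plain 3810 19691589 true]))))))
(.node 4 (.node 2 (.node 1 (.leaf (.mov 629 23928925 false [.plain 3811 21198929 true, .edge 2226 1056 false])) (.leaf (.eqT 618 29904967 false [.plain 3796 17586261 true, .edge 3812 1184 true] [.edge 2224 0 false]))) (.node 1 (.leaf (.eq 629 25653335 [] [.plain 3813 17043521 false, .plain 3811 17043521 false])) (.leaf (.eq 629 17043521 [] [.plain 3814 15683673 false]))))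
(.node 2 (.node 1 (.leaf (.eqT 629 19085399 false [.plain 3815 8605773 true, .edge 3812 1326 false] [.edge 2167 0 false])) (.leaf (.eq 645 16932953 [.plain 3796 16932953 false] [.plain 3816 17043521 false, .plain 2173 17043521 false]))) (.node 1 (.leaf (.eq 618 17043521 [] [.plain 3817 8876109 false])) (.node 1 (.leaf (.eqT 618 17043521 true [.plain 3818 9263193 true, .edge 2126 1386 false] [.edge 2126 0 false])) (.leaf (.eqT 618 4808797 false [.plain 3818 19560523 true, .edge 2193 1307 false] [.edge 2155 0 false])))))))))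
(.node 35 (.node 17 (.node 8 (.node 4 (.node 2 (.node 1 (.leaf (.eq 637 17043521 [] [.plain 3820 17109081 false])) (.leaf (.mov 625 32125001 false [.plain 3821 32190529 true, .edge 2194 854 false]))) (.node 1 (.leaf (.eqT 625 32125001 false [.plain 3805 15364175 true, .edge 3822 1515 false] [.edge 3822 0 false])) (.leaf (.eq 638 17043521 [] [.plain 3823 17111113 false]))))
(.node 2 (.node 1 (.leaf (.mov 638 4808797 false [.plain 3824 4939841 true, .edge 2195 1510 false])) (.leaf (.eq 131 17043521 [] [.plain 3819 11495509 false]))) (.node 1 (.leaf (.mov 131 9056345 false [.plain 3826 8544329 true, .edge 2234 1343 false])) (.leaf (.mov 131 13510735 false [.plain 721 13314123 true, .edge 3827 1081 false])))))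
(.node 4 (.node 2 (.node 1 (.leaf (.mov 131 13310023 false [.plain 722 13510723 true, .edge 3828 873 false])) (.leaf (.mov 131 29904967 false [.plain 721 29511757 true, .edge 3829 1075 false]))) (.node 1 (.leaf (.eqT 138 13310023 false [.plain 3788 25575503 true, .edge 3830 263 true] [.edge 757 0 false])) (.leaf (.eq 139 17043521 [] [.plain 3831 17043521 true]))))
(.node 2 (.node 1 (.leaf (.eqT 131 31801425 true [.plain 3832 11231317 true, .edge 2418 324 false] [.edge 2128 0 false])) (.leaf (.eq 732 17043521 [] [.plain 3833 9203793 false]))) (.node 1 (.leaf (.eqT 618 19085399 false [.plain 3834 21504069 true, .edge 2423 1102 false] [.edge 2193 0 false])) (.node 1 (.leaf (.eq 737 17643591 [] [.plain 3835 17043521 false, .plain 3821 17043521 false])) (.leaf (.eq 737 17043521 [] [.plain 3836 17657951 false])))))))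
(.node 9 (.node 4 (.node 2 (.node 1 (.leaf (.eqT 625 32125001 false [.plain 3837 31809615 true, .edge 2453 394 false] [.edge 3822 0 false])) (.leaf (.eq 750 16982095 [.plain 3756 16982095 false, .plain 3832 31737941 false] [.plain 3838 17043521 false]))) (.node 1 (.leaf (.eq 638 17043521 [] [.plain 3839 17635405 true])) (.leaf (.eqT 131 32125001 false [.plain 3840 25759815 true, .edge 3825 1503 false] [.edge 781 0 false]))))
(.node 2 (.node 1 (.leaf (.eq 639 17586251 [.plain 2201 17586251 false] [.plain 3841 17043521 false])) (.leaf (.eq 607 17043521 [] [.plain 3842 29904987 false]))) (.node 1 (.leaf (.eqT 141 31801425 false [.plain 3843 19621971 true, .edge 2255 1210 false] [.edge 2523 0 false])) (.node 1 (.leaf (.eq 622 15296593 [] [.plain 3844 17043521 false, .plain 2698 10901587 false])) (.leaf (.eq 622 17043521 [] [.plain 3845 10909771 false]))))))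
(.node 4 (.node 2 (.node 1 (.leaf (.eqT 141 31801425 true [.plain 3846 11104321 true, .edge 2144 1006 false] [.edge 2471 0 false])) (.leaf (.eqT 141 29904967 false [.plain 3846 17528915 true, .edge 2145 1456 false] [.edge 2462 0 false]))) (.node 1 (.leaf (.eq 623 17244243 [.plain 2152 17244243 false] [.plain 3848 17043521 false, .plain 3756 14958677 false, .plain 3832 23605321 false])) (.leaf (.eq 615 17043521 [] [.plain 3849 27928669 false]))))
(.node 2 (.node 1 (.leaf (.eqT 131 17043521 true [.plain 3850 11096143 true, .edge 2116 454 false] [.edge 2124 0 false])) (.leaf (.eq 616 17043521 [] [.plain 3851 25432129 false]))) (.node 1 (.leaf (.mov 616 4808797 false [.plain 3852 6842435 true, .edge 2141 794 false])) (.node 1 (.leaf (.mov 616 19085399 false [.plain 2118 6907971 true, .edge 3853 393 false])) (.leaf (.eq 621 25432141 [] [.plain 3847 17043521 false, .plain 3767 17043521 false]))))))))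
(.node 17 (.node 8 (.node 4 (.node 2 (.node 1 (.leaf (.eq 621 17043521 [] [.plain 3855 25432141 false])) (.leaf (.eqT 138 17043521 false [.plain 3856 17176657 true, .edge 2142 1024 false] [.edge 751 0 false]))) (.node 1 (.leaf (.eq 616 17043521 [] [.plain 3857 8992839 false])) (.leaf (.eqT 132 4808797 false [.plain 3858 19030087 true, .edge 3854 837 false] [.edge 2258 0 false]))))
(.node 2 (.node 1 (.leaf (.eq 621 16918615 [.plain 3856 16918615 false] [.plain 3859 17043521 false])) (.leaf (.eq 651 17043521 [] [.plain 3860 17700941 true]))) (.node 1 (.leaf (.eqT 138 17043521 false [.plain 3861 17643611 true, .edge 2257 817 false] [.edge 751 0 false])) (.leaf (.eqT 138 32125001 false [.plain 3861 31746113 true, .edge 2355 924 false] [.edge 2359 0 false])))))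
(.node 4 (.node 2 (.node 1 (.leaf (.eq 689 8867929 [] [.plain 3863 17043521 false, .plain 3790 17176657 false, .plain 3796 12736577 false])) (.leaf (.eq 689 17043521 [] [.plain 3864 32008271 false]))) (.node 1 (.leaf (.eqT 618 13510735 false [.plain 3865 7284807 true, .edge 2344 610 false] [.edge 2165 0 false])) (.leaf (.eq 690 17127499 [.plain 2351 17127499 false, .plain 3861 6973521 false] [.plain 3866 17043521 false, .plain 3808 11358293 false]))))
(.node 2 (.node 1 (.leaf (.eq 625 17043521 [] [.plain 3867 17004639 true])) (.leaf (.eqT 138 7292999 false [.plain 3868 31735879 true, .edge 3801 97 false] [.edge 2366 0 false]))) (.node 1 (.leaf (.eq 764 8935511 [.plain 3793 8935511 false, .plain 3811 11343963 false] [.plain 3869 17043521 false])) (.node 1 (.leaf (.eq 693 17043521 [] [.plain 3870 19099739 true])) (.leaf (.mov 629 7292999 false [.plain 3871 15601735 true, .edge 2385 554 false])))))))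
(.node 9 (.node 4 (.node 2 (.node 1 (.leaf (.mov 629 27529303 false [.plain 3815 12863553 true, .edge 3872 311 false])) (.leaf (.eq 132 17043521 [] [.plain 3862 19148895 false]))) (.node 1 (.leaf (.eqT 132 23928925 false [.plain 3874 21762135 true, .edge 2014 673 false] [.edge 2013 0 false])) (.leaf (.eqT 132 10971209 true [.plain 3874 8812625 true, .edge 2276 65 false] [.edge 2271 0 false]))))
(.node 2 (.node 1 (.leaf (.eqT 132 32131155 true [.plain 3874 30105667 true, .edge 2285 284 false] [.edge 2285 0 false])) (.leaf (.eq 664 17043521 [] [.plain 3877 9195593 false]))) (.node 1 (.leaf (.eqT 664 29904967 false [.plain 3878 29778009 true, .edge 2300 595 false] [.edge 2299 0 false])) (.node 1 (.leaf (.eq 666 17043521 [] [.plain 3879 25516097 false])) (.leaf (.eqT 666 27529303 false [.plain 3880 27553879 true, .edge 2313 1430 false] [.edge 2313 0 false]))))))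
(.node 4 (.node 2 (.node 1 (.leaf (.eq 665 17043521 [] [.plain 3881 19357791 false])) (.leaf (.eqT 665 7292999 false [.plain 3882 6637633 true, .edge 2330 1155 false] [.edge 2330 0 false]))) (.node 1 (.leaf (.eq 685 17764439 [.plain 2341 17764439 false] [.plain 3883 17043521 false, .plain 2341 17043521 false])) (.leaf (.eq 654 17043521 [] [.plain 3884 12929117 false]))))
(.node 2 (.node 1 (.leaf (.mov 654 4808797 false [.plain 3885 5134419 true, .edge 2329 1484 false])) (.leaf (.mov 654 13510735 false [.plain 2268 13176921 true, .edge 3886 306 false]))) (.node 1 (.leaf (.eq 657 17043521 [] [.plain 3876 17135697 false])) (.node 1 (.leaf (.eqT 657 19085399 false [.plain 3888 19034199 true, .edge 2314 658 false] [.edge 2314 0 false])) (.leaf (.mov 657 29904967 false [.plain 3888 29958215 true, .edge 2342 1364 false]))))))))))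

/-- The reasons. -/
def caseDFullSrcRRLR : Tab Src := .node 139 caseDFullSrcRRLRL caseDFullSrcRRLRR

/-- The reasons. -/
def caseDFullSrcRRL : Tab Src := .node 278 caseDFullSrcRRLL caseDFullSrcRRLR

/-- The reasons. -/
def caseDFullSrcRRRLL : Tab Src :=
(.node 69 (.node 34 (.node 17 (.node 8 (.node 4 (.node 2 (.node 1 (.leaf (.eq 677 17043521 [] [.plain 3889 17649745 false])) (.leaf (.mov 677 31801425 false [.plain 3891 32192591 true, .edge 2315 869 false]))) (.node 1 (.leaf (.eq 580 17043521 [] [.plain 3875 29827151 false])) (.leaf (.eqT 580 17043521 false [.plain 3893 17584205 true, .edge 2004 1378 false] [.edge 2004 0 false]))))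
(.node 2 (.node 1 (.leaf (.eq 579 17043521 [] [.plain 3894 27596885 false])) (.leaf (.eqT 579 17043521 false [.plain 3895 17070163 true, .edge 2001 1411 false] [.edge 2001 0 false]))) (.node 1 (.leaf (.eq 555 17043521 [] [.plain 3896 25563219 false])) (.leaf (.eqT 555 29904967 false [.plain 3897 29888583 true, .edge 1966 857 false] [.edge 1966 0 false])))))
(.node 4 (.node 2 (.node 1 (.leaf (.eq 568 17043521 [] [.plain 3898 17045571 false])) (.leaf (.eqT 568 13510735 false [.plain 3899 13508685 true, .edge 1970 1259 false] [.edge 1970 0 false]))) (.node 1 (.leaf (.eq 569 17043521 [] [.plain 3900 17569861 false])) (.leaf (.eqT 569 13510735 false [.plain 3901 13506639 true, .edge 1971 1353 false] [.edge 1971 0 false]))))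
(.node 2 (.node 1 (.leaf (.eq 570 17068115 [.plain 1977 17068115 false] [.plain 3902 17043521 false, .plain 1977 17043521 false])) (.leaf (.eq 549 17043521 [] [.plain 3903 13590619 false]))) (.node 1 (.leaf (.eqT 549 17043521 false [.plain 3904 17651805 true, .edge 1922 1229 false] [.edge 1922 0 false])) (.node 1 (.leaf (.eq 128 17043521 [] [.plain 3905 7231565 false])) (.leaf (.eqT 128 19085399 false [.plain 3906 19085389 true, .edge 2436 1251 false] [.edge 2436 0 false])))))))
(.node 8 (.node 4 (.node 2 (.node 1 (.leaf (.eq 747 17178715 [.plain 2692 17178715 false] [.plain 3907 17043521 false, .plain 2692 17197143 false])) (.leaf (.eq 148 17043521 [] [.plain 3908 11157587 false]))) (.node 1 (.leaf (.eqT 148 17043521 true [.plain 3909 25432133 true, .edge 835 732 false] [.edge 830 0 false])) (.leaf (.eq 149 11098193 [.plain 838 11098193 false] [.plain 3910 17043521 false]))))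
(.node 2 (.node 1 (.leaf (.eq 147 17043521 [] [.plain 3911 17043535 true])) (.leaf (.eqT 25 32125001 false [.plain 3912 15226959 true, .edge 2685 1339 false] [.edge 801 0 false]))) (.node 1 (.leaf (.eq 138 28268625 [] [.plain 3913 17043521 false, .plain 3732 17446983 false])) (.leaf (.eq 138 17043521 [] [.plain 3914 31875167 false])))))
(.node 4 (.node 2 (.node 1 (.leaf (.eqT 88 11495495 true [.plain 3915 27686997 true, .edge 2702 1067 false] [.edge 1850 0 false])) (.leaf (.eq 524 17043521 [] [.plain 3916 17043521 true]))) (.node 1 (.leaf (.eqT 141 10971209 false [.plain 3917 8943707 true, .edge 1862 143 false] [.edge 786 0 false])) (.leaf (.eq 526 19353695 [] [.plain 3918 17043521 false, .plain 793 17043521 false, .plain 3832 10639425 false]))))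
(.node 2 (.node 1 (.leaf (.eq 526 17043521 [] [.plain 3919 19814491 false])) (.leaf (.eqT 131 10971209 false [.plain 3920 17059917 true, .edge 1853 712 false] [.edge 2234 0 false]))) (.node 1 (.leaf (.eq 525 19017823 [] [.plain 3921 17043521 false, .plain 3788 24068179 false, .plain 3915 31811669 false])) (.node 1 (.leaf (.eq 525 17043521 [] [.plain 3922 19275861 false])) (.leaf (.eqT 88 32125001 false [.plain 3923 19691613 true, .edge 1852 558 false] [.edge 541 0 false]))))))))
(.node 17 (.node 8 (.node 4 (.node 2 (.node 1 (.leaf (.eq 526 17592389 [.plain 3920 17592389 false] [.plain 3924 17043521 false])) (.leaf (.eq 131 17043521 [] [.plain 3925 21198919 false]))) (.node 1 (.leaf (.eqT 84 10971209 false [.plain 3926 11032661 true, .edge 3830 233 false] [.edge 1668 0 false])) (.leaf (.eq 646 11485267 [.plain 3788 11485267 false, .plain 3915 32184393 false] [.plain 3927 17043521 false, .plain 3557 32071769 false]))))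
(.node 2 (.node 1 (.leaf (.eq 157 17043521 [] [.plain 3928 30019669 true])) (.leaf (.eqT 88 17043521 true [.plain 3929 17180759 true, .edge 3589 918 false] [.edge 1869 0 false]))) (.node 1 (.leaf (.eq 991 17649749 [.plain 2926 17649749 false, .plain 3732 17045597 false] [.plain 3930 17043521 false, .plain 1887 19167321 false])) (.leaf (.eq 446 17043521 [] [.plain 3931 17440847 true])))))
(.node 4 (.node 2 (.node 1 (.leaf (.eqT 88 27529303 false [.plain 3932 27672641 true, .edge 1902 1078 false] [.edge 1504 0 false])) (.leaf (.eq 543 16982109 [] [.plain 3933 17043521 false, .plain 3416 23871583 false, .plain 3929 9189445 false]))) (.node 1 (.leaf (.eq 543 17043521 [] [.plain 3934 16918623 false])) (.leaf (.eqT 88 10971209 false [.plain 3935 31664207 true, .edge 1903 844 false] [.edge 3407 0 false]))))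
(.node 2 (.node 1 (.leaf (.eq 544 17508423 [.plain 1913 17508423 false] [.plain 3936 17043521 false])) (.leaf (.eq 430 17043521 [] [.plain 3937 12931155 false]))) (.node 1 (.leaf (.eqT 43 31801425 false [.plain 3938 12730461 true, .edge 1693 1167 false] [.edge 291 0 false])) (.node 1 (.leaf (.eq 431 17641561 [.plain 1700 17641561 false] [.plain 3939 17043521 false])) (.leaf (.eq 77 17043521 [] [.plain 3940 21194819 false])))))))
(.node 9 (.node 4 (.node 2 (.node 1 (.leaf (.eqT 25 17059919 true [.plain 3941 17512515 true, .edge 681 1199 false] [.edge 840 0 false])) (.leaf (.eq 148 17043521 [] [.plain 3942 11038789 true]))) (.node 1 (.leaf (.eqT 14 13510735 false [.plain 3943 19206209 true, .edge 2655 329 false] [.edge 282 0 false])) (.leaf (.eq 877 17567809 [.plain 2695 17567809 false] [.plain 3944 17043521 false]))))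
(.node 2 (.node 1 (.leaf (.eq 141 17043521 [] [.plain 3945 6711383 false])) (.leaf (.eqT 43 32131155 true [.plain 3946 9121861 true, .edge 2493 814 false] [.edge 985 0 false]))) (.node 1 (.leaf (.eq 775 27807819 [.plain 3768 27807819 false, .plain 3793 11294801 false, .plain 3811 8927319 false] [.plain 3947 17043521 false, .plain 2878 19730521 false, .plain 3694 19556421 false])) (.node 1 (.leaf (.eq 629 17043521 [] [.plain 3948 32051265 false])) (.leaf (.eqT 88 6776923 false [.plain 3949 13586503 true, .edge 3873 580 false] [.edge 1774 0 false]))))))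
(.node 4 (.node 2 (.node 1 (.leaf (.eq 718 8865877 [] [.plain 3950 17043521 false, .plain 3394 6977609 false])) (.leaf (.eq 718 17043521 [] [.plain 3951 6842461 false]))) (.node 1 (.leaf (.eqT 167 13310023 false [.plain 3952 17444929 true, .edge 2376 519 false] [.edge 2938 0 false])) (.leaf (.eq 717 10645597 [] [.plain 3953 17043521 false, .plain 2623 17641549 false, .plain 2774 25829445 false, .plain 2871 4859995 false, .plain 3469 14901335 false, .plain 3929 32321619 false]))))
(.node 2 (.node 1 (.leaf (.eq 717 17043521 [] [.plain 3954 32055365 false])) (.leaf (.eqT 88 10971209 false [.plain 3955 17768533 true, .edge 2374 947 false] [.edge 3407 0 false]))) (.node 1 (.leaf (.eq 705 17043521 [] [.plain 3956 17770585 false])) (.node 1 (.leaf (.eqT 43 4808797 false [.plain 3957 23228493 true, .edge 2387 1405 false] [.edge 948 0 false])) (.leaf (.eq 725 17635401 [] [.plain 3958 17043521 false, .plain 3366 23623769 false])))))))))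
(.node 35 (.node 17 (.node 8 (.node 4 (.node 2 (.node 1 (.leaf (.eq 725 17043521 [] [.plain 3959 17635419 false])) (.leaf (.eqT 84 13510735 false [.plain 3960 23468127 true, .edge 2388 1232 false] [.edge 1784 0 false]))) (.node 1 (.leaf (.eq 726 17119311 [.plain 2398 17119311 false] [.plain 3961 17043521 false])) (.leaf (.eq 612 17043521 [] [.plain 3962 14837839 false]))))
(.node 2 (.node 1 (.leaf (.mov 475 10971209 false [.plain 3963 16986203 true, .edge 2099 209 false])) (.leaf (.mov 475 13310023 false [.plain 1778 13332561 true, .edge 3964 473 false]))) (.node 1 (.leaf (.eqT 475 13510735 false [.plain 3963 6912075 true, .edge 2688 1291 false] [.edge 1831 0 false])) (.leaf (.eq 871 17043521 [] [.plain 3966 29704263 false])))))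
(.node 4 (.node 2 (.node 1 (.leaf (.eq 871 17043521 [.plain 3967 17043521 false] [.plain 2642 17043521 false, .plain 3967 17651807 false])) (.leaf (.eq 501 17043521 [] [.plain 3968 13465681 false]))) (.node 1 (.leaf (.eqT 501 29904967 false [.plain 3969 27807827 true, .edge 1823 1334 false] [.edge 1823 0 false])) (.leaf (.eq 502 17174597 [.plain 1830 17174597 false] [.plain 3970 17043521 false, .plain 1830 17043521 false]))))
(.node 2 (.node 1 (.leaf (.eq 475 17043521 [] [.plain 3971 25374813 false])) (.leaf (.eqT 475 13310023 false [.plain 3972 29579335 true, .edge 3965 260 false] [.edge 3965 0 false]))) (.node 1 (.leaf (.eq 598 17043521 [] [.plain 3973 25374793 false])) (.node 1 (.leaf (.eqT 598 17043521 false [.plain 3974 17045571 true, .edge 2059 1281 false] [.edge 2059 0 false])) (.leaf (.eq 597 17043521 [] [.plain 3975 26103883 false])))))))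
(.node 9 (.node 4 (.node 2 (.node 1 (.leaf (.eqT 597 17043521 true [.plain 3976 17068121 true, .edge 2053 260 false] [.edge 2053 0 false])) (.leaf (.eq 129 17043521 [] [.plain 3977 13525085 false]))) (.node 1 (.leaf (.eqT 129 4544593 true [.plain 3978 4730955 true, .edge 2037 551 false] [.edge 2037 0 false])) (.leaf (.eq 587 17043521 [] [.plain 3979 9181263 false]))))
(.node 2 (.node 1 (.leaf (.eqT 587 27529303 false [.plain 3980 9244759 true, .edge 2068 71 false] [.edge 2068 0 false])) (.leaf (.eq 606 17043521 [] [.plain 3981 17512519 false]))) (.node 1 (.leaf (.mov 606 13510735 false [.plain 3982 13176897 true, .edge 2071 237 false])) (.node 1 (.leaf (.mov 606 29904967 false [.plain 2070 29761607 true, .edge 3983 1075 false])) (.leaf (.eqT 43 32125001 false [.plain 3946 9128031 true, .plain 3843 17698909 true, .edge 3984 1327 true] [.edge 273 0 false]))))))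
(.node 4 (.node 2 (.node 1 (.leaf (.eq 606 4733013 [] [.plain 3985 17043521 false, .plain 280 17043521 false])) (.leaf (.eq 606 17043521 [] [.plain 3986 9125977 false]))) (.node 1 (.leaf (.eqT 14 17043521 false [.plain 3987 17051725 true, .edge 2067 923 false] [.edge 95 0 false])) (.leaf (.eq 587 17043521 [] [.plain 3988 25890909 false]))))
(.node 2 (.node 1 (.leaf (.eqT 7 4808797 false [.plain 3989 32055361 true, .edge 2051 983 false] [.edge 410 0 false])) (.leaf (.eq 594 17043521 [] [.plain 3990 11343945 false]))) (.node 1 (.leaf (.eqT 66 13310023 true [.plain 3991 11358291 true, .edge 2041 1404 false] [.edge 1467 0 false])) (.node 1 (.leaf (.eq 593 10899547 [] [.plain 3992 17043521 false, .plain 1555 9269331 false, .plain 3366 30158937 false])) (.leaf (.eq 593 17043521 [] [.plain 3993 32073807 false]))))))))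
(.node 17 (.node 8 (.node 4 (.node 2 (.node 1 (.leaf (.eqT 84 17043521 false [.plain 3994 16984151 true, .edge 2039 526 false] [.edge 484 0 false])) (.leaf (.eq 586 17043521 [] [.plain 3995 27875409 false]))) (.node 1 (.leaf (.eqT 74 17043521 false [.plain 3996 8935509 true, .edge 2065 287 false] [.edge 473 0 false])) (.leaf (.eq 602 17117263 [] [.plain 3997 17043521 false, .plain 3941 17043521 false]))))
(.node 2 (.node 1 (.leaf (.eq 602 17043521 [] [.plain 3998 17119303 false])) (.leaf (.eqT 25 17043521 false [.plain 3999 16932935 true, .edge 2064 1164 false] [.edge 175 0 false]))) (.node 1 (.leaf (.eq 586 32057411 [.plain 3996 32057411 false] [.plain 4000 17043521 false])) (.leaf (.eq 74 17043521 [] [.plain 4001 19542103 false])))))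
(.node 4 (.node 2 (.node 1 (.leaf (.eqT 19 7292999 false [.plain 4002 25628755 true, .edge 1685 1228 false] [.edge 770 0 false])) (.leaf (.eq 427 27619403 [] [.plain 4003 17043521 false, .plain 3832 4939861 false, .plain 3926 16939103 false]))) (.node 1 (.leaf (.eq 427 17043521 [] [.plain 4004 25516105 false])) (.leaf (.eqT 84 4808797 false [.plain 4005 21506121 true, .edge 1690 999 false] [.edge 1667 0 false]))))
(.node 2 (.node 1 (.leaf (.eq 426 4745285 [] [.plain 4006 17043521 false, .plain 3557 23672921 false, .plain 3929 4679753 false])) (.leaf (.eq 426 17043521 [] [.plain 4007 8863825 false]))) (.node 1 (.leaf (.eqT 88 32125001 false [.plain 4008 32004163 true, .edge 1674 141 false] [.edge 541 0 false])) (.node 1 (.leaf (.eq 427 17125445 [.plain 4005 17125445 false] [.plain 4009 17043521 false])) (.leaf (.eq 84 17043521 [] [.plain 4010 27547725 false])))))))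
(.node 9 (.node 4 (.node 2 (.node 1 (.leaf (.eqT 84 7292999 false [.plain 4011 6711381 true, .edge 3326 1387 false] [.edge 1785 0 false])) (.leaf (.eq 1167 8798301 [.plain 3374 8798301 false, .plain 3701 17043527 false, .plain 3713 17651801 false] [.plain 4012 17043521 false]))) (.node 1 (.leaf (.eq 475 17043521 [] [.plain 4013 19554369 true])) (.leaf (.eqT 43 31801425 false [.plain 4014 21833817 true, .edge 3965 869 false] [.edge 291 0 false]))))
(.node 2 (.node 1 (.leaf (.eq 598 17043521 [] [.plain 4015 25522257 false])) (.leaf (.eqT 25 17043521 false [.plain 4016 17786959 true, .edge 2059 744 false] [.edge 175 0 false]))) (.node 1 (.leaf (.eq 597 17043521 [] [.plain 4017 25694297 false])) (.node 1 (.leaf (.eqT 19 17059919 true [.plain 4018 11022425 true, .edge 2053 227 false] [.edge 156 0 false])) (.leaf (.eq 129 19542097 [] [.plain 4019 17043521 false, .plain 162 17043521 false]))))))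
(.node 4 (.node 2 (.node 1 (.leaf (.eq 129 17043521 [] [.plain 4020 19884115 false])) (.leaf (.eqT 19 32125001 true [.plain 4021 29954131 true, .edge 2037 661 false] [.edge 685 0 false]))) (.node 1 (.leaf (.eq 587 9007173 [.plain 3989 9007173 false] [.plain 4022 17043521 false])) (.leaf (.eq 128 17043521 [] [.plain 4023 11368539 true]))))
(.node 2 (.node 1 (.leaf (.eqT 7 10971209 true [.plain 4024 31942723 true, .edge 1929 470 false] [.edge 542 0 false])) (.leaf (.eqT 7 13310023 false [.plain 4024 30087243 true, .edge 1989 610 false] [.edge 96 0 false]))) (.node 1 (.leaf (.eq 577 17043521 [] [.plain 4026 26163275 false])) (.node 1 (.leaf (.eqT 14 23928925 false [.plain 4027 13465671 true, .edge 1999 412 false] [.edge 287 0 false])) (.leaf (.eq 576 17043521 [] [.plain 4028 8601669 false]))))))))))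

/-- The reasons. -/
def caseDFullSrcRRRLR : Tab Src :=
(.node 69 (.node 34 (.node 17 (.node 8 (.node 4 (.node 2 (.node 1 (.leaf (.eqT 43 6776923 false [.plain 4029 17784903 true, .edge 1981 1018 false] [.edge 951 0 false])) (.leaf (.eq 575 27684953 [] [.plain 4030 17043521 false, .plain 3366 21524561 false]))) (.node 1 (.leaf (.eq 575 17043521 [] [.plain 4031 13588563 false])) (.leaf (.eqT 84 17043521 false [.plain 4032 17111115 true, .edge 1979 854 false] [.edge 484 0 false]))))
(.node 2 (.node 1 (.leaf (.eq 560 17584221 [] [.plain 4033 17043521 false, .plain 4002 25516101 false])) (.leaf (.eq 560 17043521 [] [.plain 4034 17584221 false]))) (.node 1 (.leaf (.eqT 19 23928925 false [.plain 4035 31873103 true, .edge 1954 522 false] [.edge 769 0 false])) (.leaf (.eq 561 17133633 [] [.plain 4036 17043521 false, .plain 3832 13576263 false, .plain 3926 17174623 false])))))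
(.node 4 (.node 2 (.node 1 (.leaf (.eq 561 17043521 [] [.plain 4037 17135681 false])) (.leaf (.eqT 84 17059919 true [.plain 4038 17584215 true, .edge 1955 1194 false] [.edge 1796 0 false]))) (.node 1 (.leaf (.eq 562 17594433 [.plain 1965 17594433 false, .plain 4038 17578069 false] [.plain 4039 17043521 false])) (.leaf (.eq 480 17043521 [] [.plain 4040 25718859 true]))))
(.node 2 (.node 1 (.leaf (.eqT 84 13510735 false [.plain 4041 29909077 true, .edge 3338 26 false] [.edge 1784 0 false])) (.leaf (.eq 1196 17193045 [.plain 3382 17193045 false] [.plain 4042 17043521 false, .plain 4014 19216463 false]))) (.node 1 (.leaf (.eq 1092 17043521 [] [.plain 4043 19216473 false])) (.node 1 (.leaf (.eqT 43 32125001 true [.plain 4044 11294809 true, .edge 3072 350 false] [.edge 970 0 false])) (.leaf (.eq 1091 27922511 [] [.plain 4045 17043521 false, .plain 3710 17070153 false])))))))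
(.node 8 (.node 4 (.node 2 (.node 1 (.leaf (.eq 1091 17043521 [] [.plain 4046 13570137 false])) (.leaf (.eqT 88 31801425 false [.plain 4047 17442911 true, .edge 3070 1094 false] [.edge 512 0 false]))) (.node 1 (.leaf (.eq 1090 17576011 [.plain 3383 17576011 false] [.plain 4048 17043521 false, .plain 519 17043521 false])) (.leaf (.eq 481 17043521 [] [.plain 4049 27873349 false]))))
(.node 2 (.node 1 (.leaf (.eq 555 17569859 [] [.plain 4025 17043521 false, .plain 1161 17043521 false])) (.leaf (.eq 555 17043521 [] [.plain 4051 17569859 false]))) (.node 1 (.leaf (.eqT 56 23928925 false [.plain 4052 19619919 true, .edge 1935 630 false] [.edge 1164 0 false])) (.leaf (.eqT 56 6776923 false [.plain 4052 21180495 true, .edge 2002 1346 false] [.edge 1162 0 false])))))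
(.node 4 (.node 2 (.node 1 (.leaf (.eq 579 17512527 [] [.plain 4054 17043521 false, .plain 1121 17176661 false])) (.leaf (.eq 579 17043521 [] [.plain 4055 17721413 false]))) (.node 1 (.leaf (.eqT 69 32125001 false [.plain 4056 15601729 true, .edge 2003 239 false] [.edge 1045 0 false])) (.leaf (.eq 580 17764437 [] [.plain 4057 17043521 false, .plain 1051 17043521 false]))))
(.node 2 (.node 1 (.leaf (.eq 580 17043521 [] [.plain 4058 17764437 false])) (.leaf (.eqT 69 19085399 false [.plain 4059 32139345 true, .edge 2005 1135 false] [.edge 1123 0 false]))) (.node 1 (.leaf (.eq 581 17258571 [.plain 2012 17258571 false] [.plain 4060 17043521 false, .plain 560 17782855 false])) (.node 1 (.leaf (.eq 132 17043521 [] [.plain 4061 15339611 false])) (.leaf (.eqT 66 32131155 true [.plain 4062 6766665 true, .edge 2285 848 false] [.edge 1468 0 false]))))))))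
(.node 17 (.node 8 (.node 4 (.node 2 (.node 1 (.leaf (.eq 664 27531331 [] [.plain 4063 17043521 false, .plain 1555 25778249 false, .plain 3366 23623763 false])) (.leaf (.eq 664 17043521 [] [.plain 4064 27531331 false]))) (.node 1 (.leaf (.eqT 84 23928925 false [.plain 4065 23296081 true, .edge 2300 437 false] [.edge 530 0 false])) (.leaf (.eq 666 7022683 [] [.plain 4066 17043521 false, .plain 540 17176643 false]))))
(.node 2 (.node 1 (.leaf (.eq 666 17043521 [] [.plain 4067 25380957 false])) (.leaf (.eqT 88 10971209 false [.plain 4068 9246789 true, .edge 2313 683 false] [.edge 3407 0 false]))) (.node 1 (.leaf (.eq 665 17043521 [] [.plain 4069 19691609 false])) (.leaf (.eqT 43 13310023 false [.plain 4070 25380955 true, .edge 2330 1344 false] [.edge 963 0 false])))))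
(.node 4 (.node 2 (.node 1 (.leaf (.eq 685 17446993 [.plain 2341 17446993 false] [.plain 4071 17043521 false, .plain 3406 17053769 false])) (.leaf (.eq 654 17043521 [] [.plain 4072 12937293 false]))) (.node 1 (.leaf (.eqT 88 4808797 false [.plain 4073 25448539 true, .edge 3887 967 false] [.edge 1505 0 false])) (.leaf (.eq 682 32266327 [] [.plain 4074 17043521 false, .plain 3416 12861525 false, .plain 3929 25432159 false]))))
(.node 2 (.node 1 (.leaf (.eq 682 17043521 [] [.plain 4075 30042181 false])) (.leaf (.eqT 88 13510735 false [.plain 4076 17176669 true, .edge 2320 1414 false] [.edge 1775 0 false]))) (.node 1 (.leaf (.eq 681 14837829 [] [.plain 4077 17043521 false, .plain 3394 9269319 false])) (.node 1 (.leaf (.eq 681 17043521 [] [.plain 4078 30220361 false])) (.leaf (.eqT 167 29904967 false [.plain 4079 16918623 true, .edge 2318 350 false] [.edge 2973 0 false])))))))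
(.node 9 (.node 4 (.node 2 (.node 1 (.leaf (.eq 657 17641547 [] [.plain 4080 17043521 false, .plain 3516 19691589 false])) (.leaf (.eq 657 17043521 [] [.plain 4081 17659993 false]))) (.node 1 (.leaf (.eqT 167 17043521 true [.plain 4082 8917085 true, .edge 2277 675 false] [.edge 3545 0 false])) (.leaf (.eqT 167 4808797 false [.plain 4082 19030099 true, .edge 2314 751 false] [.edge 2967 0 false]))))
(.node 2 (.node 1 (.leaf (.eqT 167 17043521 false [.plain 4082 8917085 true, .edge 3890 219 false] [.edge 907 0 false])) (.leaf (.eq 688 17002575 [] [.plain 4085 17043521 false, .plain 3929 25516101 false]))) (.node 1 (.leaf (.eq 688 17043521 [] [.plain 4086 17770583 false])) (.node 1 (.leaf (.eqT 88 13510735 false [.plain 4087 25370717 true, .edge 2343 103 false] [.edge 1775 0 false])) (.leaf (.eq 689 17524823 [.plain 3865 17524823 false] [.plain 4088 17043521 false, .plain 3394 9269319 false]))))))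
(.node 4 (.node 2 (.node 1 (.leaf (.eq 618 17043521 [] [.plain 4089 21590093 false])) (.leaf (.eqT 167 13510735 true [.plain 4090 11276383 true, .edge 2134 548 false] [.edge 3493 0 false]))) (.node 1 (.leaf (.eq 619 25718865 [.plain 2140 25718865 false, .plain 4090 25702493 false] [.plain 4091 17043521 false])) (.leaf (.eq 1039 17043521 [] [.plain 4092 27793473 true]))))
(.node 2 (.node 1 (.leaf (.eq 677 17256535 [] [.plain 4084 17043521 false, .plain 3513 17043521 false])) (.leaf (.eq 677 17043521 [] [.plain 4094 17780807 false]))) (.node 1 (.leaf (.eqT 352 31801425 false [.plain 4095 13451339 true, .edge 3892 1017 false] [.edge 3457 0 false])) (.node 1 (.leaf (.eq 678 17528909 [] [.plain 4096 17043521 false, .plain 3510 25587791 false])) (.leaf (.eq 678 17043521 [] [.plain 4097 17197143 false])))))))))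
(.node 35 (.node 17 (.node 8 (.node 4 (.node 2 (.node 1 (.leaf (.eqT 167 4808797 false [.plain 4098 17643607 true, .edge 2316 1122 false] [.edge 2967 0 false])) (.leaf (.eq 677 21958723 [.plain 4095 21958723 false] [.plain 4099 17043521 false, .plain 3513 17043521 false]))) (.node 1 (.leaf (.eq 352 17043521 [] [.plain 4100 19664975 false])) (.leaf (.eqT 352 23928925 false [.plain 4101 32329801 true, .edge 3586 779 false] [.edge 3585 0 false]))))
(.node 2 (.node 1 (.leaf (.eq 1033 17043521 [] [.plain 4102 21895245 false])) (.leaf (.mov 1033 9056345 false [.plain 4103 17584217 true, .edge 3007 888 false]))) (.node 1 (.leaf (.mov 1033 13510735 false [.plain 4103 28012623 true, .edge 4104 169 false])) (.leaf (.eq 658 27531345 [.plain 2283 27531345 false, .plain 4082 27801695 false] [.plain 4083 17043521 false])))))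
(.node 4 (.node 2 (.node 1 (.leaf (.eq 1033 17043521 [] [.plain 4106 16916553 true])) (.leaf (.eqT 167 13310023 false [.plain 4107 13525069 true, .edge 4105 846 false] [.edge 2938 0 false]))) (.node 1 (.leaf (.eq 1032 19085405 [] [.plain 4108 17043521 false, .plain 2623 17641549 false, .plain 2774 25829445 false, .plain 2871 4859995 false, .plain 3469 14901335 false, .plain 3929 32321619 false])) (.leaf (.eq 1032 17043521 [] [.plain 4109 19277909 false]))))
(.node 2 (.node 1 (.leaf (.eqT 88 32131155 true [.plain 4110 9261129 true, .edge 3005 1394 false] [.edge 1864 0 false])) (.leaf (.eq 1031 25385053 [] [.plain 4111 17043521 false, .plain 3503 9246785 false, .plain 3929 30093397 false]))) (.node 1 (.leaf (.eq 1031 17043521 [] [.plain 4112 13510747 false])) (.node 1 (.leaf (.eqT 88 31801425 false [.plain 4113 17197147 true, .edge 3003 597 false] [.edge 512 0 false])) (.leaf (.eq 1030 17461343 [] [.plain 4114 17043521 false, .plain 519 17043521 false])))))))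
(.node 9 (.node 4 (.node 2 (.node 1 (.leaf (.eq 1030 17043521 [] [.plain 4115 17195079 false])) (.leaf (.eq 556 17068121 [] [.plain 4053 17043521 false, .plain 1121 17633365 false]))) (.node 1 (.leaf (.eq 556 17043521 [] [.plain 4117 17068121 false])) (.leaf (.mov 69 10971209 true [.plain 4118 25309261 true, .edge 1936 833 false]))))
(.node 2 (.node 1 (.leaf (.eq 387 17457221 [] [.plain 3714 17043521 false, .plain 3406 17053769 false])) (.leaf (.eq 387 17043521 [] [.plain 4120 17457241 false]))) (.node 1 (.leaf (.eqT 88 32125001 false [.plain 4121 19081299 true, .edge 1580 1519 false] [.edge 541 0 false])) (.node 1 (.leaf (.eq 388 17698887 [.plain 1586 17698887 false] [.plain 4122 17043521 false])) (.leaf (.eq 385 17043521 [] [.plain 4123 19683405 false]))))))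
(.node 4 (.node 2 (.node 1 (.leaf (.eqT 84 19085399 true [.plain 4124 27883595 true, .edge 1575 1208 false] [.edge 1806 0 false])) (.leaf (.eq 69 21315677 [] [.plain 4125 17043521 false, .plain 3363 17043521 false]))) (.node 1 (.leaf (.eq 69 17043521 [] [.plain 4126 4542555 false])) (.leaf (.eqT 66 27529303 false [.plain 4127 27674713 true, .edge 1122 708 false] [.edge 402 0 false]))))
(.node 2 (.node 1 (.leaf (.eqT 66 17059919 true [.plain 4127 17719377 true, .edge 4119 506 false] [.edge 1436 0 false])) (.leaf (.eq 557 11368515 [.plain 1946 11368515 false, .plain 4118 8548437 false, .plain 4127 28256337 false] [.plain 4129 17043521 false]))) (.node 1 (.leaf (.eq 335 17043521 [] [.plain 4130 27553859 true])) (.node 1 (.leaf (.eq 94 15296581 [.plain 1161 15296581 false] [.plain 4128 17043521 false, .plain 409 17043521 false])) (.leaf (.eq 56 17043521 [] [.plain 4132 32139349 false]))))))))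
(.node 17 (.node 8 (.node 4 (.node 2 (.node 1 (.leaf (.eqT 7 31801425 false [.plain 4133 31942741 true, .edge 1410 801 false] [.edge 412 0 false])) (.leaf (.eq 328 13373515 [.plain 3622 13373515 false] [.plain 4134 17043521 false]))) (.node 1 (.leaf (.eq 260 17043521 [] [.plain 4135 9261129 false])) (.leaf (.eqT 66 17043521 false [.plain 4136 17659971 true, .edge 1227 1165 false] [.edge 392 0 false]))))
(.node 2 (.node 1 (.leaf (.eq 259 17043521 [] [.plain 4137 23408729 false])) (.leaf (.eqT 52 17043521 false [.plain 4138 17528899 true, .edge 1218 1080 false] [.edge 345 0 false]))) (.node 1 (.leaf (.eq 242 17043521 [] [.plain 4139 11294815 false])) (.leaf (.eqT 49 19085399 false [.plain 4140 17440835 true, .edge 1189 948 false] [.edge 367 0 false])))))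
(.node 4 (.node 2 (.node 1 (.leaf (.eq 247 17717335 [] [.plain 4141 17043521 false, .plain 4133 17262679 false])) (.leaf (.eq 247 17043521 [] [.plain 4142 17258565 false]))) (.node 1 (.leaf (.eqT 7 17043521 false [.plain 4143 17000541 true, .edge 1188 374 false] [.edge 58 0 false])) (.leaf (.eq 242 19271751 [.plain 4140 19271751 false] [.plain 4144 17043521 false]))))
(.node 2 (.node 1 (.leaf (.eq 49 17043521 [] [.plain 4145 17444951 false])) (.leaf (.eqT 4 6776923 false [.plain 4146 11147335 true, .edge 1146 962 false] [.edge 298 0 false]))) (.node 1 (.leaf (.eq 234 17043521 [] [.plain 4147 17246277 false])) (.node 1 (.leaf (.eqT 46 29904967 false [.plain 4148 29571147 true, .edge 3617 1493 false] [.edge 444 0 false])) (.leaf (.eq 263 11429953 [] [.plain 4149 17043521 false, .plain 4127 10971219 false])))))))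
(.node 9 (.node 4 (.node 2 (.node 1 (.leaf (.eq 263 17043521 [] [.plain 4150 21575745 false])) (.leaf (.eqT 66 29904967 false [.plain 4151 30093395 true, .edge 1253 867 false] [.edge 420 0 false]))) (.node 1 (.leaf (.eq 264 17004619 [.plain 1260 17004619 false, .plain 4148 25450561 false] [.plain 4152 17043521 false])) (.leaf (.eq 52 17043521 [] [.plain 4153 13504583 true]))))
(.node 2 (.node 1 (.leaf (.eqT 46 29904967 true [.plain 4154 29775967 true, .edge 1281 157 false] [.edge 1063 0 false])) (.leaf (.eq 271 17043521 [] [.plain 4155 19167297 false]))) (.node 1 (.leaf (.eqT 214 13510735 false [.plain 4156 19814477 true, .edge 1345 1443 false] [.edge 1085 0 false])) (.node 1 (.leaf (.eq 293 17068123 [.plain 3655 17068123 false, .plain 3658 17594453 false, .plain 3679 17260631 false] [.plain 4157 17043521 false])) (.leaf (.eq 217 17043521 [] [.plain 4158 17463365 true]))))))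
(.node 4 (.node 2 (.node 1 (.leaf (.eqT 167 4808797 false [.plain 4159 17702987 true, .edge 1081 431 false] [.edge 2967 0 false])) (.leaf (.eq 214 19275841 [] [.plain 4160 17043521 false, .plain 3513 17043521 false]))) (.node 1 (.leaf (.eq 352 17043521 [] [.plain 4161 24004683 true])) (.leaf (.mov 214 23928925 false [.plain 4162 17766465 true, .edge 1473 1170 false]))))
(.node 2 (.node 1 (.leaf (.mov 214 9056345 false [.plain 1071 23357511 true, .edge 4163 1267 false])) (.leaf (.mov 214 10971209 false [.plain 1071 12933199 true, .edge 4164 963 false]))) (.node 1 (.leaf (.mov 214 31801425 false [.plain 1071 9396295 true, .edge 4165 1108 false])) (.node 1 (.leaf (.mov 214 32125001 false [.plain 1072 11167837 true, .edge 4165 1077 false])) (.leaf (.mov 214 7292999 false [.plain 1071 29571165 true, .edge 4167 868 false]))))))))))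

/-- The reasons. -/
def caseDFullSrcRRRL : Tab Src := .node 139 caseDFullSrcRRRLL caseDFullSrcRRRLR

/-- The reasons. -/
def caseDFullSrcRRRRL : Tab Src :=
(.node 69 (.node 34 (.node 17 (.node 8 (.node 4 (.node 2 (.node 1 (.leaf (.mov 214 13310023 false [.plain 1071 21383263 true, .edge 4168 1154 false])) (.leaf (.mov 214 6776923 false [.plain 1071 12802129 true, .edge 4169 797 false]))) (.node 1 (.leaf (.eqT 167 4808797 false [.plain 3540 25776219 true, .edge 4170 1234 true] [.edge 2967 0 false])) (.leaf (.eq 214 23410757 [] [.plain 4171 17043521 false, .plain 3513 17043521 false, .plain 4162 7163993 false]))))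
(.node 2 (.node 1 (.leaf (.eq 214 17043521 [] [.plain 4172 31797325 false])) (.leaf (.mov 214 13510735 true [.plain 4173 27555929 true, .edge 1061 45 false]))) (.node 1 (.leaf (.mov 214 13310023 true [.plain 1071 21383263 true, .edge 4174 1057 false])) (.leaf (.mov 214 10971209 true [.plain 1072 4675655 true, .edge 4175 457 false])))))
(.node 4 (.node 2 (.node 1 (.leaf (.mov 214 4808797 true [.plain 1071 16916553 true, .edge 4176 771 false])) (.leaf (.mov 214 25385043 true [.plain 1071 4999247 true, .edge 4177 644 false]))) (.node 1 (.leaf (.mov 214 29904967 true [.plain 1071 19798089 true, .edge 4178 222 false])) (.leaf (.mov 214 32131155 true [.plain 4173 25712725 true, .edge 1073 1479 false]))))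
(.node 2 (.node 1 (.leaf (.mov 214 32125001 true [.plain 1071 24078401 true, .edge 4180 215 false])) (.leaf (.mov 214 11495495 true [.plain 1072 21960793 true, .edge 4181 621 false]))) (.node 1 (.leaf (.mov 214 31801425 true [.plain 1071 9396295 true, .edge 4182 1013 false])) (.node 1 (.leaf (.mov 214 19085399 true [.plain 1071 4794433 true, .edge 4183 774 false])) (.leaf (.mov 214 4544593 true [.plain 1071 8550493 true, .edge 4184 1073 false])))))))
(.node 8 (.node 4 (.node 2 (.node 1 (.leaf (.mov 1 19085399 false [.edge 22 0 false, .plain 28 17043521 false])) (.leaf (.mov 1 17043521 true [.edge 165 0 false, .plain 254 19683417 false]))) (.node 1 (.leaf (.mov 1 10971209 true [.edge 168 0 false, .plain 254 27859027 false])) (.leaf (.mov 1 17059919 true [.edge 166 0 false, .plain 254 19667035 false]))))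
(.node 2 (.node 1 (.leaf (.mov 1 19085399 true [.edge 163 0 false, .plain 254 17043521 false])) (.leaf (.mov 1 25385043 true [.edge 167 0 false, .plain 254 8925267 false]))) (.node 1 (.leaf (.mov 1 11495495 true [.edge 169 0 false, .plain 254 27553859 false])) (.leaf (.mov 4 32125001 true [.edge 329 0 false, .plain 4146 27793481 false])))))
(.node 4 (.node 2 (.node 1 (.leaf (.mov 4 10971209 true [.edge 323 0 false, .plain 4146 27883585 false])) (.leaf (.mov 4 4808797 true [.edge 320 0 false, .plain 4146 19230809 false]))) (.node 1 (.leaf (.mov 4 29904967 true [.edge 322 0 false, .plain 4146 17592403 false])) (.leaf (.mov 4 13310023 true [.edge 324 0 false, .plain 4146 11104345 false]))))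
(.node 2 (.node 1 (.leaf (.mov 4 13510735 true [.edge 316 0 false, .plain 4146 17043521 false])) (.leaf (.mov 4 17059919 true [.edge 50 0 false, .plain 56 17043521 false]))) (.node 1 (.leaf (.mov 4 19085399 true [.edge 325 0 false, .plain 4146 19157065 false])) (.node 1 (.leaf (.mov 4 31801425 true [.edge 326 0 false, .plain 4146 25768017 false])) (.leaf (.mov 4 25385043 true [.edge 321 0 false, .plain 4146 9263179 false]))))))))
(.node 17 (.node 8 (.node 4 (.node 2 (.node 1 (.leaf (.mov 4 32131155 true [.edge 327 0 false, .plain 4146 25702475 false])) (.leaf (.mov 4 11495495 true [.edge 318 0 false, .plain 4146 27603017 false]))) (.node 1 (.leaf (.mov 4 4544593 true [.edge 319 0 false, .plain 4146 27539521 false])) (.leaf (.mov 7 19085399 false [.edge 83 0 false, .plain 93 17043521 false]))))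
(.node 2 (.node 1 (.leaf (.mov 7 17043521 true [.edge 545 0 false, .plain 1161 25432155 false, .plain 4133 16937025 false])) (.leaf (.mov 7 32125001 true [.edge 461 0 false, .plain 4002 11286595 false]))) (.node 1 (.leaf (.mov 7 10971209 true [.edge 542 0 false, .plain 1161 17043521 false, .plain 4133 25317459 false])) (.leaf (.mov 7 4808797 true [.edge 464 0 false, .plain 4002 27594841 false])))))
(.node 4 (.node 2 (.node 1 (.leaf (.mov 7 29904967 true [.edge 462 0 false, .plain 4002 9009227 false])) (.leaf (.mov 7 13310023 true [.edge 459 0 false, .plain 4002 17043521 false]))) (.node 1 (.leaf (.mov 7 13510735 true [.edge 463 0 false, .plain 4002 9195601 false])) (.leaf (.mov 7 17059919 true [.edge 544 0 false, .plain 1161 11341913 false, .plain 4133 16922705 false]))))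
(.node 2 (.node 1 (.leaf (.mov 7 31801425 true [.edge 466 0 false, .plain 4002 11016267 false])) (.leaf (.mov 7 25385043 true [.edge 72 0 false, .plain 82 17043521 false]))) (.node 1 (.leaf (.mov 7 32131155 true [.edge 465 0 false, .plain 4002 11089993 false])) (.node 1 (.leaf (.mov 7 11495495 true [.edge 543 0 false, .plain 1161 17068107 false, .plain 4133 26095705 false])) (.leaf (.mov 7 4544593 true [.edge 460 0 false, .plain 4002 9252937 false])))))))
(.node 9 (.node 4 (.node 2 (.node 1 (.leaf (.mov 14 32125001 false [.edge 134 0 false, .plain 140 17043521 false])) (.leaf (.mov 14 10971209 false [.edge 111 0 false, .plain 118 17043521 false]))) (.node 1 (.leaf (.mov 14 19085399 false [.edge 260 0 false, .plain 225 17246273 false, .plain 257 19232833 false])) (.leaf (.mov 14 31801425 false [.edge 261 0 false, .plain 225 17457243 false, .plain 257 19664987 false]))))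
(.node 2 (.node 1 (.leaf (.mov 14 17043521 true [.edge 584 0 false, .plain 680 17133641 false, .plain 3941 17764427 false])) (.leaf (.mov 14 32125001 true [.edge 573 0 false, .plain 648 9254977 false]))) (.node 1 (.leaf (.mov 14 10971209 true [.edge 259 0 false, .plain 214 11038803 false, .plain 257 11032649 false])) (.node 1 (.leaf (.mov 14 4808797 true [.edge 579 0 false, .plain 680 9252931 false, .plain 3941 8876097 false])) (.leaf (.mov 14 29904967 true [.edge 572 0 false, .plain 648 11024457 false]))))))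
(.node 4 (.node 2 (.node 1 (.leaf (.mov 14 13310023 true [.edge 570 0 false, .plain 648 17043521 false])) (.leaf (.mov 14 13510735 true [.edge 580 0 false, .plain 680 27553881 false, .plain 3941 28258395 false]))) (.node 1 (.leaf (.mov 14 17059919 true [.edge 585 0 false, .plain 680 17651785 false, .plain 3941 17463371 false])) (.leaf (.mov 14 19085399 true [.edge 583 0 false, .plain 680 19667009 false, .plain 3941 19019843 false]))))
(.node 2 (.node 1 (.leaf (.mov 14 31801425 true [.edge 581 0 false, .plain 680 19157059 false, .plain 3941 19607617 false])) (.leaf (.mov 14 25385043 true [.edge 582 0 false, .plain 680 11286611 false, .plain 3941 10909777 false]))) (.node 1 (.leaf (.mov 14 32131155 true [.edge 577 0 false, .plain 680 17043521 false, .plain 3941 17004611 false])) (.node 1 (.leaf (.mov 14 11495495 true [.edge 258 0 false, .plain 214 25694283 false, .plain 257 25718851 false])) (.leaf (.mov 14 4544593 true [.edge 574 0 false, .plain 648 9261129 false])))))))))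
(.node 35 (.node 17 (.node 8 (.node 4 (.node 2 (.node 1 (.leaf (.mov 19 32125001 false [.edge 768 0 false, .plain 3832 15622213 false, .plain 3926 17256527 false])) (.leaf (.mov 19 10971209 false [.edge 771 0 false, .plain 3832 13572177 false, .plain 3926 17178693 false]))) (.node 1 (.leaf (.mov 19 23928925 false [.edge 769 0 false, .plain 3832 13576263 false, .plain 3926 17174623 false])) (.leaf (.mov 19 13310023 false [.edge 772 0 false, .plain 3832 15618115 false, .plain 3926 17260613 false]))))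
(.node 2 (.node 1 (.leaf (.mov 19 7292999 false [.edge 770 0 false, .plain 3832 4939861 false, .plain 3926 16939103 false])) (.leaf (.mov 19 31801425 false [.edge 773 0 false, .plain 3832 13576273 false, .plain 3926 17174601 false]))) (.node 1 (.leaf (.mov 19 9056345 false [.edge 767 0 false, .plain 3832 13588575 false, .plain 3926 17195099 false])) (.leaf (.mov 19 6776923 false [.edge 774 0 false, .plain 3832 6959195 false, .plain 3926 16982085 false])))))
(.node 4 (.node 2 (.node 1 (.leaf (.mov 19 32125001 true [.edge 685 0 false, .plain 4024 25768009 false])) (.leaf (.mov 19 10971209 true [.edge 713 0 false, .plain 4021 25770079 false]))) (.node 1 (.leaf (.mov 19 4808797 true [.edge 686 0 false, .plain 4024 19683417 false])) (.leaf (.mov 19 29904967 true [.edge 682 0 false, .plain 4024 17043521 false]))))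
(.node 2 (.node 1 (.leaf (.mov 19 13310023 true [.edge 711 0 false, .plain 4021 8990799 false])) (.leaf (.mov 19 13510735 true [.edge 710 0 false, .plain 4021 17592391 false]))) (.node 1 (.leaf (.mov 19 17059919 true [.edge 156 0 false, .plain 162 17043521 false])) (.node 1 (.leaf (.mov 19 19085399 true [.edge 683 0 false, .plain 4024 19232859 false])) (.leaf (.mov 19 31801425 true [.edge 712 0 false, .plain 4021 25784389 false])))))))
(.node 9 (.node 4 (.node 2 (.node 1 (.leaf (.mov 19 25385043 true [.edge 709 0 false, .plain 4021 11014237 false])) (.leaf (.mov 19 32131155 true [.edge 684 0 false, .plain 4024 25458771 false]))) (.node 1 (.leaf (.mov 19 11495495 true [.edge 687 0 false, .plain 4024 25434195 false])) (.leaf (.mov 19 4544593 true [.edge 708 0 false, .plain 4021 25784397 false]))))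
(.node 2 (.node 1 (.leaf (.mov 25 32125001 false [.edge 801 0 false, .plain 3732 17446983 false])) (.leaf (.mov 25 10971209 false [.edge 800 0 false, .plain 3732 17043521 false]))) (.node 1 (.leaf (.mov 25 4808797 false [.edge 804 0 false, .plain 3732 17178691 false])) (.node 1 (.leaf (.mov 25 29904967 false [.edge 805 0 false, .plain 3732 17512537 false])) (.leaf (.mov 25 13510735 false [.edge 802 0 false, .plain 3732 17242205 false]))))))
(.node 4 (.node 2 (.node 1 (.leaf (.mov 25 7292999 false [.edge 806 0 false, .plain 3732 17068119 false])) (.leaf (.mov 25 27529303 false [.edge 803 0 false, .plain 3732 16918621 false]))) (.node 1 (.leaf (.mov 25 19085399 false [.edge 226 0 false, .plain 236 17043521 false])) (.leaf (.mov 25 31801425 false [.edge 807 0 false, .plain 3732 17242177 false]))))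
(.node 2 (.node 1 (.leaf (.mov 25 17043521 true [.edge 821 0 false, .plain 3912 9197635 false])) (.leaf (.mov 25 32125001 true [.edge 845 0 false, .plain 3744 27605065 false]))) (.node 1 (.leaf (.mov 25 10971209 true [.edge 839 0 false, .plain 3943 17651805 false])) (.node 1 (.leaf (.mov 25 4808797 true [.edge 849 0 false, .plain 3744 17569881 false])) (.leaf (.mov 25 29904967 true [.edge 847 0 false, .plain 3744 27613259 false]))))))))
(.node 17 (.node 8 (.node 4 (.node 2 (.node 1 (.leaf (.mov 25 13310023 true [.edge 846 0 false, .plain 3744 25694275 false])) (.leaf (.mov 25 13510735 true [.edge 848 0 false, .plain 3744 19165265 false]))) (.node 1 (.leaf (.mov 25 17059919 true [.edge 840 0 false, .plain 3943 9009247 false])) (.leaf (.mov 25 31801425 true [.edge 841 0 false, .plain 3744 17043521 false]))))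
(.node 2 (.node 1 (.leaf (.mov 25 25385043 true [.edge 189 0 false, .plain 199 17043521 false])) (.leaf (.mov 25 32131155 true [.edge 843 0 false, .plain 3744 19206209 false]))) (.node 1 (.leaf (.mov 25 11495495 true [.edge 819 0 false, .plain 3912 17043521 false])) (.leaf (.mov 25 4544593 true [.edge 844 0 false, .plain 3744 27594817 false])))))
(.node 4 (.node 2 (.node 1 (.leaf (.mov 43 32125001 false [.edge 273 0 false, .plain 280 17043521 false])) (.leaf (.mov 43 10971209 false [.edge 563 0 false, .plain 569 17043521 false]))) (.node 1 (.leaf (.mov 43 4808797 false [.edge 948 0 false, .plain 3366 23623769 false])) (.leaf (.mov 43 23928925 false [.edge 950 0 false, .plain 3366 4733021 false]))))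
(.node 2 (.node 1 (.leaf (.mov 43 29904967 false [.edge 961 0 false, .plain 3406 17117249 false])) (.leaf (.mov 43 13310023 false [.edge 963 0 false, .plain 3406 17053769 false]))) (.node 1 (.leaf (.mov 43 13510735 false [.edge 959 0 false, .plain 3406 17043521 false])) (.node 1 (.leaf (.mov 43 7292999 false [.edge 650 0 false, .plain 662 17043521 false])) (.leaf (.mov 43 27529303 false [.edge 949 0 false, .plain 3366 15208543 false])))))))
(.node 9 (.node 4 (.node 2 (.node 1 (.leaf (.mov 43 19085399 false [.edge 651 0 false, .plain 662 17262675 false])) (.leaf (.mov 43 9056345 false [.edge 962 0 false, .plain 3406 17242205 false]))) (.node 1 (.leaf (.mov 43 6776923 false [.edge 951 0 false, .plain 3366 21524561 false])) (.leaf (.mov 43 17043521 true [.edge 979 0 false, .plain 2878 17578065 false, .plain 3694 17719365 false]))))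
(.node 2 (.node 1 (.leaf (.mov 43 32125001 true [.edge 970 0 false, .plain 3710 17070153 false])) (.leaf (.mov 43 10971209 true [.edge 646 0 false, .plain 618 9187409 false, .plain 644 9205849 false]))) (.node 1 (.leaf (.mov 43 4808797 true [.edge 984 0 false, .plain 2878 11022417 false, .plain 3694 10633295 false])) (.node 1 (.leaf (.mov 43 29904967 true [.edge 972 0 false, .plain 3710 25770051 false])) (.leaf (.mov 43 13310023 true [.edge 971 0 false, .plain 3710 27594833 false]))))))
(.node 4 (.node 2 (.node 1 (.leaf (.mov 43 13510735 true [.edge 983 0 false, .plain 2878 25522251 false, .plain 3694 25372767 false])) (.leaf (.mov 43 17059919 true [.edge 977 0 false, .plain 2878 17043521 false, .plain 3694 17506383 false]))) (.node 1 (.leaf (.mov 43 19085399 true [.edge 980 0 false, .plain 2878 19222601 false, .plain 3694 19015765 false])) (.leaf (.mov 43 31801425 true [.edge 982 0 false, .plain 2878 17125465 false, .plain 3694 16984133 false]))))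
(.node 2 (.node 1 (.leaf (.mov 43 25385043 true [.edge 981 0 false, .plain 2878 11079747 false, .plain 3694 10897495 false])) (.leaf (.mov 43 32131155 true [.edge 985 0 false, .plain 2878 19730521 false, .plain 3694 19556421 false]))) (.node 1 (.leaf (.mov 43 11495495 true [.edge 647 0 false, .plain 618 25450561 false, .plain 644 25432153 false])) (.node 1 (.leaf (.mov 43 4544593 true [.edge 968 0 false, .plain 3710 17043521 false])) (.leaf (.mov 46 32125001 false [.edge 446 0 false, .plain 4127 27928641 false]))))))))))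

/-- The reasons. -/
def caseDFullSrcRRRRR : Tab Src :=
(.node 69 (.node 34 (.node 17 (.node 8 (.node 4 (.node 2 (.node 1 (.leaf (.mov 46 10971209 false [.edge 451 0 false, .plain 4127 31668289 false])) (.leaf (.mov 46 4808797 false [.edge 445 0 false, .plain 4127 4673625 false]))) (.node 1 (.leaf (.mov 46 23928925 false [.edge 443 0 false, .plain 4127 4477009 false])) (.leaf (.mov 46 29904967 false [.edge 444 0 false, .plain 4127 10971219 false]))))
(.node 2 (.node 1 (.leaf (.mov 46 13310023 false [.edge 441 0 false, .plain 4127 28256333 false])) (.leaf (.mov 46 13510735 false [.edge 449 0 false, .plain 4127 28190807 false]))) (.node 1 (.leaf (.mov 46 7292999 false [.edge 450 0 false, .plain 4127 21958729 false])) (.leaf (.mov 46 27529303 false [.edge 448 0 false, .plain 4127 14973013 false])))))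
(.node 4 (.node 2 (.node 1 (.leaf (.mov 46 19085399 false [.edge 309 0 false, .plain 315 17043521 false])) (.leaf (.mov 46 31801425 false [.edge 447 0 false, .plain 4127 27732051 false]))) (.node 1 (.leaf (.mov 46 9056345 false [.edge 440 0 false, .plain 4127 15038543 false])) (.leaf (.mov 46 6776923 false [.edge 442 0 false, .plain 4127 6707285 false]))))
(.node 2 (.node 1 (.leaf (.mov 46 17043521 true [.edge 1055 0 false, .plain 1118 8990787 false, .plain 4154 17780815 false])) (.leaf (.mov 46 10971209 true [.edge 1057 0 false, .plain 1118 17633363 false, .plain 4154 26161239 false]))) (.node 1 (.leaf (.mov 46 17059919 true [.edge 1054 0 false, .plain 1118 11104321 false, .plain 4154 17242205 false])) (.node 1 (.leaf (.mov 46 19085399 true [.edge 1053 0 false, .plain 1118 11024467 false, .plain 4154 19880029 false])) (.leaf (.mov 46 25385043 true [.edge 1052 0 false, .plain 1118 17043521 false, .plain 4154 10909765 false])))))))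
(.node 8 (.node 4 (.node 2 (.node 1 (.leaf (.mov 46 11495495 true [.edge 1056 0 false, .plain 1118 11366465 false, .plain 4154 25376861 false])) (.leaf (.mov 66 17043521 false [.edge 392 0 false, .plain 4154 29511765 false]))) (.node 1 (.leaf (.mov 66 4808797 false [.edge 562 0 false, .plain 1121 7100499 false, .plain 4127 19337285 false])) (.leaf (.mov 66 29904967 false [.edge 420 0 false, .plain 4154 25825351 false]))))
(.node 2 (.node 1 (.leaf (.mov 66 13510735 false [.edge 452 0 false, .plain 458 17043521 false])) (.leaf (.mov 66 27529303 false [.edge 402 0 false, .plain 409 17043521 false]))) (.node 1 (.leaf (.mov 66 19085399 false [.edge 561 0 false, .plain 1121 24057937 false, .plain 4127 19681367 false])) (.leaf (.mov 66 17043521 true [.edge 1435 0 false, .plain 4131 17043521 false])))))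
(.node 4 (.node 2 (.node 1 (.leaf (.mov 66 32125001 true [.edge 1469 0 false, .plain 1555 25456723 false, .plain 3366 29702217 false])) (.leaf (.mov 66 10971209 true [.edge 1438 0 false, .plain 3540 11358273 false]))) (.node 1 (.leaf (.mov 66 4808797 true [.edge 1444 0 false, .plain 3540 27799625 false])) (.leaf (.mov 66 29904967 true [.edge 1443 0 false, .plain 3540 8990801 false]))))
(.node 2 (.node 1 (.leaf (.mov 66 13310023 true [.edge 1467 0 false, .plain 1555 9269331 false, .plain 3366 30158937 false])) (.leaf (.mov 66 13510735 true [.edge 1465 0 false, .plain 1555 17043521 false, .plain 3366 4552787 false]))) (.node 1 (.leaf (.mov 66 17059919 true [.edge 1436 0 false, .plain 4131 27547715 false])) (.node 1 (.leaf (.mov 66 19085399 true [.edge 1440 0 false, .plain 3540 25704521 false])) (.leaf (.mov 66 31801425 true [.edge 1442 0 false, .plain 3540 9261139 false]))))))))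
(.node 17 (.node 8 (.node 4 (.node 2 (.node 1 (.leaf (.mov 66 25385043 true [.edge 1437 0 false, .plain 3540 17043521 false])) (.leaf (.mov 66 32131155 true [.edge 1468 0 false, .plain 1555 25778249 false, .plain 3366 23623763 false]))) (.node 1 (.leaf (.mov 66 11495495 true [.edge 1439 0 false, .plain 3540 9246803 false])) (.leaf (.mov 66 4544593 true [.edge 1441 0 false, .plain 3540 11360345 false]))))
(.node 2 (.node 1 (.leaf (.mov 84 17043521 false [.edge 484 0 false, .plain 4002 25516101 false])) (.leaf (.mov 84 32125001 false [.edge 1783 0 false, .plain 4014 19681365 false]))) (.node 1 (.leaf (.mov 84 10971209 false [.edge 1668 0 false, .plain 3557 32071769 false, .plain 3929 13373513 false])) (.leaf (.mov 84 4808797 false [.edge 1667 0 false, .plain 3557 23672921 false, .plain 3929 4679753 false])))))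
(.node 4 (.node 2 (.node 1 (.leaf (.mov 84 23928925 false [.edge 530 0 false, .plain 540 17176643 false])) (.leaf (.mov 84 29904967 false [.edge 1786 0 false, .plain 4014 19730499 false]))) (.node 1 (.leaf (.mov 84 13310023 false [.edge 3325 0 false, .plain 3374 23543875 false, .plain 3701 17522759 false, .plain 3713 16918619 false])) (.leaf (.mov 84 13510735 false [.edge 1784 0 false, .plain 4014 19216463 false]))))
(.node 2 (.node 1 (.leaf (.mov 84 7292999 false [.edge 1785 0 false, .plain 4014 19621953 false])) (.leaf (.mov 84 27529303 false [.edge 1669 0 false, .plain 3557 29970505 false, .plain 3929 15345753 false]))) (.node 1 (.leaf (.mov 84 19085399 false [.edge 492 0 false, .plain 502 17043521 false])) (.node 1 (.leaf (.mov 84 31801425 false [.edge 1666 0 false, .plain 3557 27865173 false, .plain 3929 8802373 false])) (.leaf (.mov 84 9056345 false [.edge 3326 0 false, .plain 3374 21774425 false, .plain 3701 17444959 false, .plain 3713 17004629 false])))))))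
(.node 9 (.node 4 (.node 2 (.node 1 (.leaf (.mov 84 6776923 false [.edge 528 0 false, .plain 540 17043521 false])) (.leaf (.mov 84 17043521 true [.edge 1805 0 false, .plain 4050 8998989 false]))) (.node 1 (.leaf (.mov 84 32125001 true [.edge 1793 0 false, .plain 3385 17127505 false])) (.leaf (.mov 84 10971209 true [.edge 1795 0 false, .plain 4041 17043521 false]))))
(.node 2 (.node 1 (.leaf (.mov 84 4808797 true [.edge 1789 0 false, .plain 3385 9195595 false])) (.leaf (.mov 84 29904967 true [.edge 1788 0 false, .plain 3385 25497683 false]))) (.node 1 (.leaf (.mov 84 13310023 true [.edge 1794 0 false, .plain 3385 8943705 false])) (.node 1 (.leaf (.mov 84 13510735 true [.edge 1787 0 false, .plain 3385 17043521 false])) (.leaf (.mov 84 17059919 true [.edge 1796 0 false, .plain 4041 9195611 false]))))))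
(.node 4 (.node 2 (.node 1 (.leaf (.mov 84 19085399 true [.edge 1806 0 false, .plain 3363 17043521 false])) (.leaf (.mov 84 31801425 true [.edge 1790 0 false, .plain 3385 25450579 false]))) (.node 1 (.leaf (.mov 84 25385043 true [.edge 1818 0 false, .plain 3356 27406413 false])) (.leaf (.mov 84 32131155 true [.edge 1792 0 false, .plain 3385 17135697 false]))))
(.node 2 (.node 1 (.leaf (.mov 84 11495495 true [.edge 1804 0 false, .plain 4050 17635405 false])) (.leaf (.mov 84 4544593 true [.edge 1791 0 false, .plain 3385 25516121 false]))) (.node 1 (.leaf (.mov 88 17043521 false [.edge 504 0 false, .plain 3941 4991053 false])) (.node 1 (.leaf (.mov 88 4808797 false [.edge 1505 0 false, .plain 3416 12861525 false, .plain 3929 25432159 false])) (.leaf (.mov 88 23928925 false [.edge 1773 0 false, .plain 3394 4927561 false])))))))))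
(.node 35 (.node 17 (.node 8 (.node 4 (.node 2 (.node 1 (.leaf (.mov 88 29904967 false [.edge 1772 0 false, .plain 3394 25516123 false])) (.leaf (.mov 88 13310023 false [.edge 1506 0 false, .plain 3416 6766685 false, .plain 3929 31924305 false]))) (.node 1 (.leaf (.mov 88 13510735 false [.edge 1775 0 false, .plain 3394 9269319 false])) (.leaf (.mov 88 7292999 false [.edge 1428 0 false, .plain 1434 17043521 false]))))
(.node 2 (.node 1 (.leaf (.mov 88 27529303 false [.edge 1504 0 false, .plain 3416 23871583 false, .plain 3929 9189445 false])) (.leaf (.mov 88 19085399 false [.edge 679 0 false, .plain 629 17174619 false, .plain 676 19339333 false]))) (.node 1 (.leaf (.mov 88 31801425 false [.edge 512 0 false, .plain 519 17043521 false])) (.leaf (.mov 88 9056345 false [.edge 1503 0 false, .plain 3416 9060431 false, .plain 3929 4878425 false])))))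
(.node 4 (.node 2 (.node 1 (.leaf (.mov 88 6776923 false [.edge 1774 0 false, .plain 3394 6977609 false])) (.leaf (.mov 88 17043521 true [.edge 1869 0 false, .plain 1887 19167321 false, .plain 3932 16932959 false]))) (.node 1 (.leaf (.mov 88 32125001 true [.edge 1845 0 false, .plain 3403 17043521 false, .plain 3469 25696325 false, .plain 3929 23226455 false])) (.leaf (.mov 88 10971209 true [.edge 678 0 false, .plain 604 17633347 false, .plain 676 25565259 false]))))
(.node 2 (.node 1 (.leaf (.mov 88 4808797 true [.edge 1865 0 false, .plain 3503 27793475 false, .plain 3929 23558223 false])) (.leaf (.mov 88 29904967 true [.edge 1849 0 false, .plain 3403 25458763 false, .plain 3469 17592405 false, .plain 3929 5195855 false]))) (.node 1 (.leaf (.mov 88 13310023 true [.edge 1848 0 false, .plain 3403 27545689 false, .plain 3469 19748941 false, .plain 3929 13254741 false])) (.node 1 (.leaf (.mov 88 13510735 true [.edge 1863 0 false, .plain 3503 17043521 false, .plain 3929 13588573 false]))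 (.leaf (.mov 88 19085399 true [.edge 1868 0 false, .plain 1887 17043521 false, .plain 3932 19818591 false])))))))
(.node 9 (.node 4 (.node 2 (.node 1 (.leaf (.mov 88 31801425 true [.edge 1866 0 false, .plain 3503 25450579 false, .plain 3929 31600725 false])) (.leaf (.mov 88 32131155 true [.edge 1864 0 false, .plain 3503 9246785 false, .plain 3929 30093397 false]))) (.node 1 (.leaf (.mov 88 11495495 true [.edge 1850 0 false, .plain 3917 17043521 false, .plain 3946 19294283 false])) (.leaf (.mov 88 4544593 true [.edge 1847 0 false, .plain 3403 17576025 false, .plain 3469 8927317 false, .plain 3929 31860807 false]))))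
(.node 2 (.node 1 (.leaf (.mov 167 17043521 false [.edge 907 0 false, .plain 3929 25516101 false])) (.leaf (.mov 167 32125001 false [.edge 3492 0 false, .plain 2774 16920659 false, .plain 2871 25311321 false, .plain 3469 23937101 false, .plain 3929 11096149 false]))) (.node 1 (.leaf (.mov 167 10971209 false [.edge 2833 0 false, .plain 3564 31989829 false, .plain 3929 6905947 false])) (.node 1 (.leaf (.mov 167 4808797 false [.edge 2967 0 false, .plain 3513 17043521 false, .plain 4162 7163993 false])) (.leaf (.mov 167 23928925 false [.edge 937 0 false, .plain 3694 4603971 false]))))))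
(.node 4 (.node 2 (.node 1 (.leaf (.mov 167 29904967 false [.edge 2973 0 false, .plain 3516 19691589 false])) (.leaf (.mov 167 13310023 false [.edge 2938 0 false, .plain 2623 17641549 false, .plain 2774 25829445 false, .plain 2871 4859995 false, .plain 3469 14901335 false, .plain 3929 32321619 false]))) (.node 1 (.leaf (.mov 167 13510735 false [.edge 3169 0 false, .plain 3497 26167387 false])) (.leaf (.mov 167 7292999 false [.edge 2609 0 false, .plain 3484 12941391 false, .plain 3929 24055887 false]))))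
(.node 2 (.node 1 (.leaf (.mov 167 27529303 false [.edge 3491 0 false, .plain 3929 9261151 false])) (.leaf (.mov 167 19085399 false [.edge 2598 0 false, .plain 2943 15274063 false, .plain 3406 32067663 false]))) (.node 1 (.leaf (.mov 167 31801425 false [.edge 2966 0 false, .plain 3487 19816521 false, .plain 3929 7098449 false])) (.node 1 (.leaf (.mov 167 9056345 false [.edge 909 0 false, .plain 916 17043521 false, .plain 3732 15622223 false])) (.leaf (.mov 167 6776923 false [.edge 2558 0 false, .plain 2774 17043521 false, .plain 2871 29628495 false, .plain 3469 28262487 false, .plain 3929 15294539 false]))))))))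
(.node 17 (.node 8 (.node 4 (.node 2 (.node 1 (.leaf (.mov 167 17043521 true [.edge 3545 0 false, .plain 4107 16916549 false])) (.leaf (.mov 167 32125001 true [.edge 2974 0 false, .plain 3574 17043521 false]))) (.node 1 (.leaf (.mov 167 10971209 true [.edge 3013 0 false, .plain 4093 17043521 false])) (.leaf (.mov 167 4808797 true [.edge 2988 0 false, .plain 3538 17043521 false]))))
(.node 2 (.node 1 (.leaf (.mov 167 29904967 true [.edge 3012 0 false, .plain 4107 26159181 false])) (.leaf (.mov 167 13310023 true [.edge 2980 0 false, .plain 3577 27611229 false]))) (.node 1 (.leaf (.mov 167 13510735 true [.edge 3493 0 false, .plain 4093 9246785 false])) (.leaf (.mov 167 17059919 true [.edge 3544 0 false, .plain 4116 17135691 false])))))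
(.node 4 (.node 2 (.node 1 (.leaf (.mov 167 19085399 true [.edge 2981 0 false, .plain 3107 17043521 false])) (.leaf (.mov 167 31801425 true [.edge 3000 0 false, .plain 3529 17119301 false]))) (.node 1 (.leaf (.mov 167 25385043 true [.edge 2987 0 false, .plain 3108 8917069 false, .plain 3366 24057923 false])) (.leaf (.mov 167 32131155 true [.edge 3481 0 false, .plain 3548 17002563 false]))))
(.node 2 (.node 1 (.leaf (.mov 167 11495495 true [.edge 3495 0 false, .plain 3548 8616027 false])) (.leaf (.mov 167 4544593 true [.edge 3001 0 false, .plain 4116 17043521 false]))) (.node 1 (.leaf (.mov 214 17043521 false [.edge 1083 0 false, .plain 4159 17068125 false])) (.node 1 (.leaf (.mov 214 32125001 false [.edge 4167 0 false, .plain 3540 13178953 false])) (.leaf (.mov 214 10971209 false [.edge 4165 0 false, .plain 3540 32057439 false])))))))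
(.node 9 (.node 4 (.node 2 (.node 1 (.leaf (.mov 214 4808797 false [.edge 1084 0 false, .plain 4159 17651785 false])) (.leaf (.mov 214 23928925 false [.edge 4163 0 false, .plain 3540 6912075 false]))) (.node 1 (.leaf (.mov 214 29904967 false [.edge 1082 0 false, .plain 4159 17524807 false])) (.leaf (.mov 214 13310023 false [.edge 4169 0 false, .plain 3540 29970499 false]))))
(.node 2 (.node 1 (.leaf (.mov 214 13510735 false [.edge 1085 0 false, .plain 4159 17260633 false])) (.leaf (.mov 214 7292999 false [.edge 4168 0 false, .plain 3540 29970527 false]))) (.node 1 (.leaf (.mov 214 27529303 false [.edge 1086 0 false, .plain 4159 17068117 false])) (.node 1 (.leaf (.mov 214 19085399 false [.edge 1080 0 false, .plain 4159 17043521 false])) (.leaf (.mov 214 31801425 false [.edge 4166 0 false, .plain 3540 29958231 false]))))))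
(.node 4 (.node 2 (.node 1 (.leaf (.mov 214 9056345 false [.edge 4164 0 false, .plain 3540 21573703 false])) (.leaf (.mov 214 6776923 false [.edge 4170 0 false, .plain 3540 13195335 false]))) (.node 1 (.leaf (.mov 214 32125001 true [.edge 4181 0 false, .plain 1079 19746907 false])) (.leaf (.mov 214 17059919 true [.edge 1073 0 false, .plain 1079 17043521 false]))))
(.node 2 (.node 1 (.leaf (.mov 214 19085399 true [.edge 4184 0 false, .plain 1079 27883587 false])) (.leaf (.mov 214 31801425 true [.edge 4183 0 false, .plain 1079 19667009 false]))) (.node 1 (.leaf (.mov 214 32131155 true [.edge 4180 0 false, .plain 1079 11302979 false])) (.node 1 (.leaf (.mov 214 11495495 true [.edge 4182 0 false, .plain 1079 19730499 false])) (.leaf (.mov 214 4544593 true [.edge 4185 0 false, .plain 1079 9271369 false]))))))))))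

/-- The reasons. -/
def caseDFullSrcRRRR : Tab Src := .node 139 caseDFullSrcRRRRL caseDFullSrcRRRRR

/-- The reasons. -/
def caseDFullSrcRRR : Tab Src := .node 278 caseDFullSrcRRRL caseDFullSrcRRRR

/-- The reasons. -/
def caseDFullSrcRR : Tab Src := .node 556 caseDFullSrcRRL caseDFullSrcRRR

/-- The reasons. -/
def caseDFullSrcR : Tab Src := .node 1112 caseDFullSrcRL caseDFullSrcRR

/-- The reasons. -/
def caseDFullSrc : Tab Src := .node 2223 caseDFullSrcL caseDFullSrcR

/-- The definitions. -/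
def caseDFullDefsLLL : Tab (ℕ × ℕ × Bool) :=
(.node 76 (.node 38 (.node 19 (.node 9 (.node 4 (.node 2 (.node 1 (.leaf (0, 17043521, false)) (.leaf (0, 29904967, false))) (.node 1 (.leaf (1, 19085399, false)) (.leaf (2, 19085399, false))))
(.node 2 (.node 1 (.leaf (0, 25385043, true)) (.leaf (4, 17059919, true))) (.node 1 (.leaf (5, 17059919, true)) (.node 1 (.leaf (4, 27529303, false)) (.leaf (7, 25385043, true))))))
(.node 5 (.node 2 (.node 1 (.leaf (8, 4808797, false)) (.leaf (9, 10971209, true))) (.node 1 (.leaf (7, 19085399, false)) (.node 1 (.leaf (11, 19085399, false)) (.leaf (12, 19085399, true)))))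
(.node 2 (.node 1 (.leaf (7, 6776923, false)) (.leaf (14, 10971209, false))) (.node 1 (.leaf (15, 13310023, false)) (.node 1 (.leaf (14, 32125001, false)) (.leaf (17, 19085399, false)))))))
(.node 9 (.node 4 (.node 2 (.node 1 (.leaf (1, 32125001, true)) (.leaf (19, 17059919, true))) (.node 1 (.leaf (20, 17059919, true)) (.leaf (1, 19085399, true))))
(.node 2 (.node 1 (.leaf (22, 17059919, true)) (.leaf (23, 17059919, true))) (.node 1 (.leaf (19, 27529303, false)) (.node 1 (.leaf (25, 25385043, true)) (.leaf (26, 4808797, false))))))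
(.node 5 (.node 2 (.node 1 (.leaf (27, 10971209, true)) (.leaf (22, 29904967, false))) (.node 1 (.leaf (29, 17043521, true)) (.node 1 (.leaf (30, 17043521, false)) (.leaf (31, 19085399, true)))))
(.node 2 (.node 1 (.leaf (29, 19085399, false)) (.leaf (33, 19085399, false))) (.node 1 (.leaf (34, 17043521, true)) (.node 1 (.leaf (25, 19085399, false)) (.leaf (36, 19085399, false))))))))
(.node 19 (.node 9 (.node 4 (.node 2 (.node 1 (.leaf (37, 19085399, true)) (.leaf (22, 19085399, false))) (.node 1 (.leaf (39, 10971209, false)) (.leaf (40, 13310023, false))))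
(.node 2 (.node 1 (.leaf (41, 29904967, false)) (.leaf (25, 23928925, false))) (.node 1 (.leaf (43, 32125001, false)) (.node 1 (.leaf (44, 27529303, false)) (.leaf (4, 10971209, false))))))
(.node 5 (.node 2 (.node 1 (.leaf (46, 19085399, false)) (.leaf (47, 19085399, false))) (.node 1 (.leaf (4, 13510735, true)) (.node 1 (.leaf (49, 17059919, true)) (.leaf (50, 17059919, true)))))
(.node 2 (.node 1 (.leaf (49, 27529303, false)) (.leaf (52, 25385043, true))) (.node 1 (.leaf (53, 4808797, false)) (.node 1 (.leaf (54, 10971209, true)) (.leaf (49, 17043521, false)))))))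
(.node 9 (.node 4 (.node 2 (.node 1 (.leaf (56, 19085399, true)) (.leaf (57, 19085399, false))) (.node 1 (.leaf (58, 11495495, true)) (.leaf (52, 19085399, false))))
(.node 2 (.node 1 (.leaf (60, 19085399, false)) (.leaf (61, 19085399, true))) (.node 1 (.leaf (56, 19085399, false)) (.node 1 (.leaf (63, 19085399, false)) (.leaf (64, 25385043, true))))))
(.node 5 (.node 2 (.node 1 (.leaf (52, 13310023, false)) (.leaf (66, 27529303, false))) (.node 1 (.leaf (67, 9056345, false)) (.node 1 (.leaf (52, 6776923, false)) (.leaf (69, 10971209, false)))))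
(.node 2 (.node 1 (.leaf (70, 13310023, false)) (.leaf (66, 13510735, false))) (.node 1 (.leaf (72, 19085399, false)) (.node 1 (.leaf (7, 13310023, true)) (.leaf (74, 17059919, true)))))))))
(.node 38 (.node 19 (.node 9 (.node 4 (.node 2 (.node 1 (.leaf (75, 17059919, true)) (.leaf (74, 17043521, false))) (.node 1 (.leaf (77, 19085399, true)) (.leaf (78, 19085399, false))))
(.node 2 (.node 1 (.leaf (79, 11495495, true)) (.leaf (77, 19085399, false))) (.node 1 (.leaf (81, 19085399, false)) (.node 1 (.leaf (82, 25385043, true)) (.leaf (74, 27529303, false))))))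
(.node 5 (.node 2 (.node 1 (.leaf (84, 19085399, false)) (.leaf (85, 19085399, false))) (.node 1 (.leaf (86, 19085399, true)) (.node 1 (.leaf (77, 23928925, false)) (.leaf (88, 31801425, false)))))
(.node 2 (.node 1 (.leaf (89, 27529303, false)) (.leaf (84, 6776923, false))) (.node 1 (.leaf (91, 10971209, false)) (.node 1 (.leaf (92, 13310023, false)) (.leaf (7, 10971209, true)))))))
(.node 9 (.node 4 (.node 2 (.node 1 (.leaf (94, 4808797, false)) (.leaf (95, 10971209, false))) (.node 1 (.leaf (96, 6776923, false)) (.leaf (97, 10971209, false))))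
(.node 2 (.node 1 (.leaf (95, 7292999, false)) (.leaf (99, 7292999, false))) (.node 1 (.leaf (100, 7292999, false)) (.node 1 (.leaf (43, 10971209, false)) (.leaf (102, 19085399, false))))))
(.node 5 (.node 2 (.node 1 (.leaf (14, 13310023, true)) (.leaf (104, 17059919, true))) (.node 1 (.leaf (105, 17059919, true)) (.node 1 (.leaf (14, 32131155, true)) (.leaf (107, 27529303, false)))))
(.node 2 (.node 1 (.leaf (108, 25385043, true)) (.leaf (109, 4808797, false))) (.node 1 (.leaf (110, 10971209, true)) (.node 1 (.leaf (104, 29904967, false)) (.leaf (112, 17043521, true))))))))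
(.node 19 (.node 9 (.node 4 (.node 2 (.node 1 (.leaf (113, 17043521, false)) (.leaf (114, 19085399, true))) (.node 1 (.leaf (108, 19085399, false)) (.leaf (116, 19085399, false))))
(.node 2 (.node 1 (.leaf (117, 19085399, true)) (.leaf (112, 29904967, false))) (.node 1 (.leaf (119, 13510735, false)) (.node 1 (.leaf (120, 27529303, false)) (.leaf (43, 7292999, false))))))
(.node 5 (.node 2 (.node 1 (.leaf (122, 10971209, false)) (.leaf (123, 13310023, false))) (.node 1 (.leaf (108, 9056345, false)) (.node 1 (.leaf (125, 23928925, false)) (.leaf (126, 32125001, false)))))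
(.node 2 (.node 1 (.leaf (19, 29904967, true)) (.leaf (128, 17059919, true))) (.node 1 (.leaf (129, 17059919, true)) (.node 1 (.leaf (129, 4808797, false)) (.leaf (131, 11495495, true)))))))
(.node 10 (.node 5 (.node 2 (.node 1 (.leaf (132, 13510735, false)) (.leaf (133, 17059919, true))) (.node 1 (.leaf (131, 19085399, false)) (.node 1 (.leaf (135, 19085399, false)) (.leaf (136, 11495495, true)))))
(.node 2 (.node 1 (.leaf (132, 17043521, false)) (.leaf (138, 13310023, false))) (.node 1 (.leaf (139, 27529303, false)) (.node 1 (.leaf (131, 7292999, false)) (.leaf (141, 10971209, false))))))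
(.node 5 (.node 2 (.node 1 (.leaf (142, 13310023, false)) (.leaf (25, 10971209, false))) (.node 1 (.leaf (144, 19085399, false)) (.node 1 (.leaf (145, 19085399, false)) (.leaf (25, 11495495, true)))))
(.node 2 (.node 1 (.leaf (147, 17059919, true)) (.leaf (148, 17059919, true))) (.node 1 (.leaf (25, 31801425, true)) (.node 1 (.leaf (150, 17059919, true)) (.leaf (151, 17059919, true))))))))))

/-- The definitions. -/
def caseDFullDefsLLR : Tab (ℕ × ℕ × Bool) :=
(.node 76 (.node 38 (.node 19 (.node 9 (.node 4 (.node 2 (.node 1 (.leaf (148, 29904967, false)) (.leaf (153, 17059919, true))) (.node 1 (.leaf (154, 17043521, false)) (.leaf (155, 19085399, true))))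
(.node 2 (.node 1 (.leaf (150, 13510735, false)) (.leaf (157, 17059919, true))) (.node 1 (.leaf (158, 17043521, false)) (.node 1 (.leaf (159, 19085399, true)) (.leaf (154, 19085399, false))))))
(.node 5 (.node 2 (.node 1 (.leaf (161, 19085399, false)) (.leaf (162, 17043521, true))) (.node 1 (.leaf (157, 19085399, false)) (.node 1 (.leaf (164, 19085399, false)) (.leaf (165, 17059919, true)))))
(.node 2 (.node 1 (.leaf (157, 27529303, false)) (.leaf (167, 9056345, false))) (.node 1 (.leaf (168, 23928925, false)) (.node 1 (.leaf (150, 4808797, false)) (.leaf (170, 31801425, false)))))))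
(.node 9 (.node 4 (.node 2 (.node 1 (.leaf (171, 27529303, false)) (.leaf (172, 23928925, false))) (.node 1 (.leaf (158, 13510735, false)) (.leaf (174, 29904967, false))))
(.node 2 (.node 1 (.leaf (175, 13510735, false)) (.leaf (43, 13510735, false))) (.node 1 (.leaf (177, 19085399, false)) (.node 1 (.leaf (178, 19085399, false)) (.leaf (43, 4544593, true))))))
(.node 5 (.node 2 (.node 1 (.leaf (180, 17059919, true)) (.leaf (181, 17059919, true))) (.node 1 (.leaf (43, 17059919, true)) (.node 1 (.leaf (183, 17059919, true)) (.leaf (184, 17059919, true)))))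
(.node 2 (.node 1 (.leaf (183, 17043521, false)) (.leaf (186, 19085399, true))) (.node 1 (.leaf (187, 19085399, false)) (.node 1 (.leaf (188, 11495495, true)) (.leaf (180, 29904967, false))))))))
(.node 19 (.node 9 (.node 4 (.node 2 (.node 1 (.leaf (190, 17043521, true)) (.leaf (191, 17043521, false))) (.node 1 (.leaf (192, 19085399, true)) (.leaf (180, 17043521, false))))
(.node 2 (.node 1 (.leaf (194, 19085399, false)) (.leaf (195, 19085399, false))) (.node 1 (.leaf (196, 25385043, true)) (.node 1 (.leaf (186, 23928925, false)) (.leaf (198, 31801425, false))))))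
(.node 5 (.node 2 (.node 1 (.leaf (199, 27529303, false)) (.leaf (183, 29904967, false))) (.node 1 (.leaf (201, 29904967, false)) (.node 1 (.leaf (202, 13510735, false)) (.leaf (203, 27529303, false)))))
(.node 2 (.node 1 (.leaf (183, 4808797, false)) (.leaf (205, 31801425, false))) (.node 1 (.leaf (206, 27529303, false)) (.node 1 (.leaf (207, 23928925, false)) (.leaf (69, 32125001, false)))))))
(.node 9 (.node 4 (.node 2 (.node 1 (.leaf (209, 19085399, false)) (.leaf (46, 25385043, true))) (.node 1 (.leaf (211, 17059919, true)) (.leaf (212, 17059919, true))))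
(.node 2 (.node 1 (.leaf (46, 4544593, true)) (.leaf (214, 17059919, true))) (.node 1 (.leaf (215, 17059919, true)) (.node 1 (.leaf (214, 19085399, false)) (.leaf (217, 11495495, true))))))
(.node 5 (.node 2 (.node 1 (.leaf (218, 13510735, false)) (.leaf (219, 17059919, true))) (.node 1 (.leaf (211, 19085399, false)) (.node 1 (.leaf (221, 19085399, false)) (.leaf (222, 19085399, false)))))
(.node 2 (.node 1 (.leaf (223, 11495495, true)) (.leaf (217, 19085399, false))) (.node 1 (.leaf (225, 19085399, false)) (.node 1 (.leaf (226, 11495495, true)) (.leaf (221, 32125001, false)))))))))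
(.node 38 (.node 19 (.node 9 (.node 4 (.node 2 (.node 1 (.leaf (228, 27529303, false)) (.leaf (229, 23928925, false))) (.node 1 (.leaf (217, 10971209, false)) (.leaf (231, 13310023, false))))
(.node 2 (.node 1 (.leaf (232, 29904967, false)) (.leaf (49, 6776923, false))) (.node 1 (.leaf (234, 19085399, false)) (.node 1 (.leaf (235, 19085399, false)) (.leaf (49, 11495495, true))))))
(.node 5 (.node 2 (.node 1 (.leaf (237, 17059919, true)) (.leaf (238, 17059919, true))) (.node 1 (.leaf (94, 13510735, false)) (.node 1 (.leaf (240, 17059919, true)) (.leaf (49, 4544593, true)))))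
(.node 2 (.node 1 (.leaf (242, 27529303, false)) (.leaf (243, 25385043, true))) (.node 1 (.leaf (244, 4808797, false)) (.node 1 (.leaf (245, 10971209, true)) (.leaf (242, 19085399, false)))))))
(.node 9 (.node 4 (.node 2 (.node 1 (.leaf (247, 19085399, false)) (.leaf (248, 19085399, false))) (.node 1 (.leaf (249, 11495495, true)) (.leaf (49, 19085399, true))))
(.node 2 (.node 1 (.leaf (251, 29904967, false)) (.leaf (252, 19085399, false))) (.node 1 (.leaf (253, 19085399, false)) (.node 1 (.leaf (254, 17043521, true)) (.leaf (247, 7292999, false))))))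
(.node 5 (.node 2 (.node 1 (.leaf (256, 10971209, false)) (.leaf (257, 13310023, false))) (.node 1 (.leaf (242, 4808797, false)) (.node 1 (.leaf (259, 32125001, false)) (.leaf (260, 29904967, false)))))
(.node 2 (.node 1 (.leaf (261, 4808797, false)) (.leaf (243, 6776923, false))) (.node 1 (.leaf (263, 10971209, false)) (.node 1 (.leaf (264, 13310023, false)) (.leaf (256, 32125001, false))))))))
(.node 19 (.node 9 (.node 4 (.node 2 (.node 1 (.leaf (266, 19085399, false)) (.leaf (52, 17043521, true))) (.node 1 (.leaf (268, 17059919, true)) (.leaf (269, 17059919, true))))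
(.node 2 (.node 1 (.leaf (52, 31801425, true)) (.leaf (271, 17059919, true))) (.node 1 (.leaf (272, 17059919, true)) (.node 1 (.leaf (268, 27529303, false)) (.leaf (274, 25385043, true))))))
(.node 5 (.node 2 (.node 1 (.leaf (275, 4808797, false)) (.leaf (276, 10971209, true))) (.node 1 (.leaf (271, 4808797, false)) (.node 1 (.leaf (278, 10971209, true)) (.leaf (279, 13510735, false)))))
(.node 2 (.node 1 (.leaf (280, 17059919, true)) (.leaf (274, 19085399, false))) (.node 1 (.leaf (282, 19085399, false)) (.node 1 (.leaf (283, 19085399, true)) (.leaf (271, 29904967, false)))))))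
(.node 10 (.node 5 (.node 2 (.node 1 (.leaf (285, 19085399, false)) (.leaf (286, 19085399, false))) (.node 1 (.leaf (287, 17043521, true)) (.node 1 (.leaf (268, 17043521, false)) (.leaf (289, 23928925, false)))))
(.node 2 (.node 1 (.leaf (290, 31801425, false)) (.leaf (291, 27529303, false))) (.node 1 (.leaf (271, 13510735, false)) (.node 1 (.leaf (293, 29904967, false)) (.leaf (294, 4808797, false))))))
(.node 5 (.node 2 (.node 1 (.leaf (295, 31801425, false)) (.leaf (243, 19085399, false))) (.node 1 (.leaf (297, 6776923, false)) (.node 1 (.leaf (298, 7292999, false)) (.leaf (299, 7292999, false)))))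
(.node 2 (.node 1 (.leaf (69, 31801425, false)) (.leaf (301, 19085399, false))) (.node 1 (.leaf (56, 13510735, true)) (.node 1 (.leaf (303, 17059919, true)) (.leaf (304, 17059919, true))))))))))

/-- The definitions. -/
def caseDFullDefsLL : Tab (ℕ × ℕ × Bool) := .node 153 caseDFullDefsLLL caseDFullDefsLLR

/-- The definitions. -/
def caseDFullDefsLRL : Tab (ℕ × ℕ × Bool) :=
(.node 76 (.node 38 (.node 19 (.node 9 (.node 4 (.node 2 (.node 1 (.leaf (56, 10971209, true)) (.leaf (306, 4808797, false))) (.node 1 (.leaf (307, 10971209, true)) (.leaf (308, 13510735, false))))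
(.node 2 (.node 1 (.leaf (309, 17059919, true)) (.leaf (56, 17059919, true))) (.node 1 (.leaf (311, 17043521, false)) (.node 1 (.leaf (312, 19085399, true)) (.leaf (313, 19085399, false))))))
(.node 5 (.node 2 (.node 1 (.leaf (314, 11495495, true)) (.leaf (307, 19085399, false))) (.node 1 (.leaf (316, 19085399, false)) (.node 1 (.leaf (317, 10971209, true)) (.leaf (303, 27529303, false)))))
(.node 2 (.node 1 (.leaf (319, 19085399, false)) (.leaf (320, 19085399, false))) (.node 1 (.leaf (321, 19085399, true)) (.node 1 (.leaf (303, 19085399, false)) (.leaf (323, 7292999, false)))))))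
(.node 9 (.node 4 (.node 2 (.node 1 (.leaf (324, 10971209, false)) (.leaf (325, 13310023, false))) (.node 1 (.leaf (319, 13310023, false)) (.leaf (327, 27529303, false))))
(.node 2 (.node 1 (.leaf (328, 9056345, false)) (.leaf (323, 10971209, false))) (.node 1 (.leaf (330, 13310023, false)) (.node 1 (.leaf (331, 29904967, false)) (.leaf (88, 7292999, false))))))
(.node 5 (.node 2 (.node 1 (.leaf (333, 19085399, false)) (.leaf (66, 17043521, true))) (.node 1 (.leaf (335, 17059919, true)) (.node 1 (.leaf (336, 17059919, true)) (.leaf (66, 25385043, true)))))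
(.node 2 (.node 1 (.leaf (338, 17043521, false)) (.leaf (339, 19085399, true))) (.node 1 (.leaf (340, 19085399, false)) (.node 1 (.leaf (341, 11495495, true)) (.leaf (66, 13510735, true))))))))
(.node 19 (.node 9 (.node 4 (.node 2 (.node 1 (.leaf (343, 19085399, false)) (.leaf (344, 11495495, true))) (.node 1 (.leaf (345, 13510735, false)) (.leaf (346, 17059919, true))))
(.node 2 (.node 1 (.leaf (335, 19085399, false)) (.leaf (348, 19085399, false))) (.node 1 (.leaf (349, 19085399, false)) (.node 1 (.leaf (350, 11495495, true)) (.leaf (338, 4808797, false))))))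
(.node 5 (.node 2 (.node 1 (.leaf (352, 19085399, false)) (.leaf (353, 19085399, false))) (.node 1 (.leaf (354, 10971209, true)) (.node 1 (.leaf (339, 23928925, false)) (.leaf (356, 31801425, false)))))
(.node 2 (.node 1 (.leaf (357, 27529303, false)) (.leaf (339, 13310023, false))) (.node 1 (.leaf (359, 29904967, false)) (.node 1 (.leaf (360, 13510735, false)) (.leaf (353, 29904967, false)))))))
(.node 9 (.node 4 (.node 2 (.node 1 (.leaf (362, 27529303, false)) (.leaf (363, 23928925, false))) (.node 1 (.leaf (343, 4808797, false)) (.leaf (365, 7292999, false))))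
(.node 2 (.node 1 (.leaf (366, 7292999, false)) (.leaf (367, 7292999, false))) (.node 1 (.leaf (231, 23928925, false)) (.node 1 (.leaf (369, 19085399, false)) (.leaf (69, 32125001, true))))))
(.node 5 (.node 2 (.node 1 (.leaf (371, 17059919, true)) (.leaf (372, 17059919, true))) (.node 1 (.leaf (69, 17059919, true)) (.node 1 (.leaf (374, 17059919, true)) (.leaf (375, 17059919, true)))))
(.node 2 (.node 1 (.leaf (371, 4808797, false)) (.leaf (377, 10971209, true))) (.node 1 (.leaf (378, 13510735, false)) (.node 1 (.leaf (379, 17059919, true)) (.leaf (374, 27529303, false)))))))))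
(.node 38 (.node 19 (.node 9 (.node 4 (.node 2 (.node 1 (.leaf (381, 19085399, false)) (.leaf (382, 19085399, false))) (.node 1 (.leaf (383, 19085399, true)) (.leaf (69, 4808797, true))))
(.node 2 (.node 1 (.leaf (385, 17043521, false)) (.leaf (386, 19085399, false))) (.node 1 (.leaf (387, 19085399, false)) (.node 1 (.leaf (388, 25385043, true)) (.leaf (387, 23928925, false))))))
(.node 5 (.node 2 (.node 1 (.leaf (390, 7292999, false)) (.leaf (391, 10971209, false))) (.node 1 (.leaf (386, 6776923, false)) (.node 1 (.leaf (393, 7292999, false)) (.leaf (394, 7292999, false)))))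
(.node 2 (.node 1 (.leaf (386, 23928925, false)) (.leaf (396, 31801425, false))) (.node 1 (.leaf (397, 27529303, false)) (.node 1 (.leaf (387, 9056345, false)) (.leaf (399, 6776923, false)))))))
(.node 9 (.node 4 (.node 2 (.node 1 (.leaf (400, 10971209, false)) (.leaf (74, 10971209, false))) (.node 1 (.leaf (402, 19085399, false)) (.leaf (403, 19085399, false))))
(.node 2 (.node 1 (.leaf (74, 10971209, true)) (.leaf (405, 17059919, true))) (.node 1 (.leaf (406, 17059919, true)) (.node 1 (.leaf (74, 4808797, true)) (.leaf (408, 17059919, true))))))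
(.node 5 (.node 2 (.node 1 (.leaf (409, 17059919, true)) (.leaf (408, 29904967, false))) (.node 1 (.leaf (411, 17043521, true)) (.node 1 (.leaf (412, 17043521, false)) (.leaf (413, 19085399, true)))))
(.node 2 (.node 1 (.leaf (409, 29904967, false)) (.leaf (415, 19085399, false))) (.node 1 (.leaf (416, 19085399, false)) (.node 1 (.leaf (417, 17059919, true)) (.leaf (406, 4808797, false))))))))
(.node 19 (.node 9 (.node 4 (.node 2 (.node 1 (.leaf (419, 19085399, false)) (.leaf (420, 19085399, false))) (.node 1 (.leaf (421, 11495495, true)) (.leaf (415, 29904967, false))))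
(.node 2 (.node 1 (.leaf (423, 4808797, false)) (.leaf (424, 31801425, false))) (.node 1 (.leaf (411, 13510735, false)) (.node 1 (.leaf (426, 29904967, false)) (.leaf (427, 13510735, false))))))
(.node 5 (.node 2 (.node 1 (.leaf (406, 13510735, false)) (.leaf (429, 4808797, false))) (.node 1 (.leaf (430, 31801425, false)) (.node 1 (.leaf (431, 29904967, false)) (.leaf (77, 4808797, false)))))
(.node 2 (.node 1 (.leaf (433, 19085399, false)) (.leaf (434, 19085399, false))) (.node 1 (.leaf (77, 10971209, true)) (.node 1 (.leaf (436, 17059919, true)) (.leaf (437, 17059919, true)))))))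
(.node 10 (.node 5 (.node 2 (.node 1 (.leaf (77, 29904967, true)) (.leaf (439, 17059919, true))) (.node 1 (.leaf (440, 17059919, true)) (.node 1 (.leaf (437, 17043521, false)) (.leaf (442, 25385043, true)))))
(.node 2 (.node 1 (.leaf (443, 4808797, false)) (.leaf (444, 10971209, true))) (.node 1 (.leaf (439, 4808797, false)) (.node 1 (.leaf (446, 10971209, true)) (.leaf (447, 13510735, false))))))
(.node 5 (.node 2 (.node 1 (.leaf (448, 17059919, true)) (.leaf (77, 17059919, true))) (.node 1 (.leaf (450, 17043521, false)) (.node 1 (.leaf (451, 19085399, false)) (.leaf (452, 19085399, false)))))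
(.node 2 (.node 1 (.leaf (453, 25385043, true)) (.leaf (447, 27529303, false))) (.node 1 (.leaf (455, 19085399, false)) (.node 1 (.leaf (456, 19085399, true)) (.leaf (439, 17043521, false))))))))))

/-- The definitions. -/
def caseDFullDefsLRR : Tab (ℕ × ℕ × Bool) :=
(.node 77 (.node 38 (.node 19 (.node 9 (.node 4 (.node 2 (.node 1 (.leaf (458, 9056345, false)) (.leaf (459, 9056345, false))) (.node 1 (.leaf (460, 9056345, false)) (.leaf (440, 4808797, false))))
(.node 2 (.node 1 (.leaf (462, 7292999, false)) (.leaf (463, 10971209, false))) (.node 1 (.leaf (464, 13310023, false)) (.node 1 (.leaf (440, 19085399, false)) (.leaf (466, 31801425, false))))))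
(.node 5 (.node 2 (.node 1 (.leaf (467, 27529303, false)) (.leaf (468, 23928925, false))) (.node 1 (.leaf (77, 17043521, true)) (.node 1 (.leaf (470, 19085399, false)) (.leaf (471, 32125001, false)))))
(.node 2 (.node 1 (.leaf (472, 27529303, false)) (.leaf (473, 23928925, false))) (.node 1 (.leaf (423, 29904967, false)) (.node 1 (.leaf (475, 19085399, false)) (.leaf (84, 13510735, true)))))))
(.node 9 (.node 4 (.node 2 (.node 1 (.leaf (477, 17059919, true)) (.leaf (478, 17059919, true))) (.node 1 (.leaf (84, 10971209, true)) (.leaf (480, 17059919, true))))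
(.node 2 (.node 1 (.leaf (481, 17059919, true)) (.leaf (477, 4808797, false))) (.node 1 (.leaf (483, 10971209, true)) (.node 1 (.leaf (484, 13510735, false)) (.leaf (485, 17059919, true))))))
(.node 5 (.node 2 (.node 1 (.leaf (84, 19085399, true)) (.leaf (487, 29904967, false))) (.node 1 (.leaf (488, 17043521, true)) (.node 1 (.leaf (489, 17043521, false)) (.leaf (490, 19085399, true)))))
(.node 2 (.node 1 (.leaf (477, 27529303, false)) (.leaf (492, 19085399, false))) (.node 1 (.leaf (493, 19085399, false)) (.node 1 (.leaf (494, 19085399, true)) (.leaf (477, 29904967, false))))))))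
(.node 19 (.node 9 (.node 4 (.node 2 (.node 1 (.leaf (496, 19085399, false)) (.leaf (497, 19085399, false))) (.node 1 (.leaf (498, 17043521, true)) (.leaf (481, 13510735, false))))
(.node 2 (.node 1 (.leaf (500, 13510735, false)) (.leaf (501, 29904967, false))) (.node 1 (.leaf (502, 13510735, false)) (.node 1 (.leaf (493, 6776923, false)) (.leaf (504, 32125001, false))))))
(.node 5 (.node 2 (.node 1 (.leaf (505, 29904967, false)) (.leaf (480, 13510735, false))) (.node 1 (.leaf (507, 4808797, false)) (.node 1 (.leaf (508, 32125001, false)) (.leaf (509, 29904967, false)))))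
(.node 2 (.node 1 (.leaf (477, 17043521, false)) (.leaf (511, 13310023, false))) (.node 1 (.leaf (512, 29904967, false)) (.node 1 (.leaf (513, 13510735, false)) (.leaf (467, 13510735, false)))))))
(.node 10 (.node 5 (.node 2 (.node 1 (.leaf (515, 19085399, false)) (.leaf (88, 32125001, true))) (.node 1 (.leaf (517, 17059919, true)) (.node 1 (.leaf (518, 17059919, true)) (.leaf (517, 17043521, false)))))
(.node 2 (.node 1 (.leaf (520, 19085399, true)) (.leaf (521, 19085399, false))) (.node 1 (.leaf (522, 11495495, true)) (.node 1 (.leaf (88, 11495495, true)) (.leaf (524, 4808797, false))))))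
(.node 5 (.node 2 (.node 1 (.leaf (525, 19085399, false)) (.leaf (526, 19085399, false))) (.node 1 (.leaf (527, 10971209, true)) (.node 1 (.leaf (88, 13510735, true)) (.leaf (529, 13510735, false)))))
(.node 2 (.node 1 (.leaf (530, 27529303, false)) (.leaf (531, 9056345, false))) (.node 1 (.leaf (532, 23928925, false)) (.node 1 (.leaf (88, 19085399, true)) (.leaf (534, 19085399, false)))))))))
(.node 38 (.node 19 (.node 9 (.node 4 (.node 2 (.node 1 (.leaf (535, 10971209, false)) (.leaf (536, 13310023, false))) (.node 1 (.leaf (537, 29904967, false)) (.leaf (517, 19085399, false))))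
(.node 2 (.node 1 (.leaf (539, 10971209, false)) (.leaf (540, 13310023, false))) (.node 1 (.leaf (541, 29904967, false)) (.node 1 (.leaf (446, 10971209, false)) (.leaf (543, 6776923, false))))))
(.node 5 (.node 2 (.node 1 (.leaf (544, 10971209, false)) (.leaf (545, 13310023, false))) (.node 1 (.leaf (132, 27529303, false)) (.node 1 (.leaf (547, 19085399, false)) (.leaf (128, 7292999, false)))))
(.node 2 (.node 1 (.leaf (549, 19085399, false)) (.leaf (550, 19085399, false))) (.node 1 (.leaf (128, 19085399, true)) (.node 1 (.leaf (552, 17059919, true)) (.leaf (553, 17059919, true)))))))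
(.node 9 (.node 4 (.node 2 (.node 1 (.leaf (128, 13510735, true)) (.leaf (555, 17043521, false))) (.node 1 (.leaf (556, 19085399, true)) (.leaf (557, 19085399, false))))
(.node 2 (.node 1 (.leaf (558, 11495495, true)) (.leaf (128, 31801425, true))) (.node 1 (.leaf (560, 13510735, false)) (.node 1 (.leaf (561, 17059919, true)) (.leaf (562, 17043521, false))))))
(.node 5 (.node 2 (.node 1 (.leaf (563, 19085399, true)) (.leaf (556, 19085399, false))) (.node 1 (.leaf (565, 19085399, false)) (.node 1 (.leaf (566, 25385043, true)) (.leaf (555, 29904967, false)))))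
(.node 2 (.node 1 (.leaf (568, 29904967, false)) (.leaf (569, 13510735, false))) (.node 1 (.leaf (570, 27529303, false)) (.node 1 (.leaf (568, 27529303, false)) (.leaf (572, 23928925, false))))))))
(.node 19 (.node 9 (.node 4 (.node 2 (.node 1 (.leaf (573, 31801425, false)) (.leaf (560, 17043521, false))) (.node 1 (.leaf (575, 13310023, false)) (.leaf (576, 29904967, false))))
(.node 2 (.node 1 (.leaf (577, 13510735, false)) (.leaf (555, 13510735, false))) (.node 1 (.leaf (579, 27529303, false)) (.node 1 (.leaf (580, 9056345, false)) (.leaf (581, 23928925, false))))))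
(.node 5 (.node 2 (.node 1 (.leaf (129, 31801425, false)) (.leaf (583, 19085399, false))) (.node 1 (.leaf (584, 19085399, false)) (.node 1 (.leaf (129, 32131155, true)) (.leaf (586, 17059919, true)))))
(.node 2 (.node 1 (.leaf (587, 17059919, true)) (.leaf (587, 17043521, false))) (.node 1 (.leaf (589, 25385043, true)) (.node 1 (.leaf (590, 4808797, false)) (.leaf (591, 10971209, true)))))))
(.node 10 (.node 5 (.node 2 (.node 1 (.leaf (586, 27529303, false)) (.leaf (593, 25385043, true))) (.node 1 (.leaf (594, 4808797, false)) (.node 1 (.leaf (595, 10971209, true)) (.leaf (129, 25385043, true)))))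
(.node 2 (.node 1 (.leaf (597, 13510735, false)) (.leaf (598, 19085399, false))) (.node 1 (.leaf (599, 19085399, false)) (.node 1 (.leaf (600, 17059919, true)) (.leaf (586, 4808797, false))))))
(.node 5 (.node 2 (.node 1 (.leaf (602, 19085399, false)) (.leaf (603, 19085399, false))) (.node 1 (.leaf (604, 10971209, true)) (.node 1 (.leaf (587, 13510735, false)) (.leaf (606, 4808797, false)))))
(.node 2 (.node 1 (.leaf (607, 31801425, false)) (.leaf (608, 29904967, false))) (.node 1 (.leaf (138, 6776923, false)) (.node 1 (.leaf (610, 7292999, false)) (.leaf (598, 13510735, false))))))))))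

/-- The definitions. -/
def caseDFullDefsLR : Tab (ℕ × ℕ × Bool) := .node 153 caseDFullDefsLRL caseDFullDefsLRR

/-- The definitions. -/
def caseDFullDefsL : Tab (ℕ × ℕ × Bool) := .node 306 caseDFullDefsLL caseDFullDefsLR

/-- The definitions. -/
def caseDFullDefsRLL : Tab (ℕ × ℕ × Bool) :=
(.node 76 (.node 38 (.node 19 (.node 9 (.node 4 (.node 2 (.node 1 (.leaf (612, 27529303, false)) (.leaf (613, 9056345, false))) (.node 1 (.leaf (131, 25385043, true)) (.leaf (615, 17059919, true))))
(.node 2 (.node 1 (.leaf (616, 17059919, true)) (.leaf (131, 4544593, true))) (.node 1 (.leaf (618, 17059919, true)) (.node 1 (.leaf (619, 17059919, true)) (.leaf (616, 29904967, false))))))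
(.node 5 (.node 2 (.node 1 (.leaf (621, 17059919, true)) (.leaf (622, 17043521, false))) (.node 1 (.leaf (623, 19085399, true)) (.node 1 (.leaf (618, 4808797, false)) (.leaf (625, 10971209, true)))))
(.node 2 (.node 1 (.leaf (626, 13510735, false)) (.leaf (627, 17059919, true))) (.node 1 (.leaf (626, 27529303, false)) (.node 1 (.leaf (629, 19085399, false)) (.leaf (630, 19085399, true)))))))
(.node 9 (.node 4 (.node 2 (.node 1 (.leaf (131, 10971209, true)) (.leaf (632, 4808797, false))) (.node 1 (.leaf (633, 19085399, false)) (.leaf (634, 19085399, false))))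
(.node 2 (.node 1 (.leaf (635, 10971209, true)) (.leaf (618, 19085399, false))) (.node 1 (.leaf (637, 32125001, false)) (.node 1 (.leaf (638, 27529303, false)) (.leaf (639, 23928925, false))))))
(.node 5 (.node 2 (.node 1 (.leaf (633, 31801425, false)) (.leaf (641, 27529303, false))) (.node 1 (.leaf (642, 23928925, false)) (.node 1 (.leaf (618, 29904967, false)) (.leaf (644, 27529303, false)))))
(.node 2 (.node 1 (.leaf (645, 23928925, false)) (.leaf (646, 31801425, false))) (.node 1 (.leaf (622, 4808797, false)) (.node 1 (.leaf (648, 31801425, false)) (.leaf (649, 29904967, false))))))))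
(.node 19 (.node 9 (.node 4 (.node 2 (.node 1 (.leaf (132, 19085399, false)) (.leaf (651, 19085399, false))) (.node 1 (.leaf (652, 19085399, false)) (.leaf (132, 6776923, false))))
(.node 2 (.node 1 (.leaf (654, 19085399, false)) (.leaf (655, 19085399, false))) (.node 1 (.leaf (132, 11495495, true)) (.node 1 (.leaf (657, 17059919, true)) (.leaf (658, 17059919, true))))))
(.node 5 (.node 2 (.node 1 (.leaf (657, 13510735, false)) (.leaf (660, 17059919, true))) (.node 1 (.leaf (661, 17043521, false)) (.node 1 (.leaf (662, 19085399, true)) (.leaf (132, 13510735, true)))))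
(.node 2 (.node 1 (.leaf (664, 4808797, false)) (.leaf (665, 10971209, true))) (.node 1 (.leaf (666, 13510735, false)) (.node 1 (.leaf (667, 17059919, true)) (.leaf (665, 19085399, false)))))))
(.node 9 (.node 4 (.node 2 (.node 1 (.leaf (669, 19085399, false)) (.leaf (670, 10971209, true))) (.node 1 (.leaf (132, 13310023, true)) (.leaf (672, 17043521, false))))
(.node 2 (.node 1 (.leaf (673, 19085399, false)) (.leaf (674, 19085399, false))) (.node 1 (.leaf (675, 25385043, true)) (.node 1 (.leaf (657, 19085399, false)) (.leaf (677, 10971209, false))))))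
(.node 5 (.node 2 (.node 1 (.leaf (678, 13310023, false)) (.leaf (679, 29904967, false))) (.node 1 (.leaf (657, 17043521, false)) (.node 1 (.leaf (681, 9056345, false)) (.leaf (682, 9056345, false)))))
(.node 2 (.node 1 (.leaf (683, 9056345, false)) (.leaf (665, 7292999, false))) (.node 1 (.leaf (685, 7292999, false)) (.node 1 (.leaf (686, 7292999, false)) (.leaf (657, 4808797, false)))))))))
(.node 38 (.node 19 (.node 9 (.node 4 (.node 2 (.node 1 (.leaf (688, 10971209, false)) (.leaf (689, 6776923, false))) (.node 1 (.leaf (690, 10971209, false)) (.leaf (138, 27529303, false))))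
(.node 2 (.node 1 (.leaf (692, 19085399, false)) (.leaf (693, 19085399, false))) (.node 1 (.leaf (138, 31801425, true)) (.node 1 (.leaf (695, 17059919, true)) (.leaf (696, 17059919, true))))))
(.node 5 (.node 2 (.node 1 (.leaf (138, 10971209, true)) (.leaf (698, 17059919, true))) (.node 1 (.leaf (699, 17059919, true)) (.node 1 (.leaf (698, 27529303, false)) (.leaf (701, 25385043, true)))))
(.node 2 (.node 1 (.leaf (702, 4808797, false)) (.leaf (703, 10971209, true))) (.node 1 (.leaf (138, 32131155, true)) (.node 1 (.leaf (705, 4808797, false)) (.leaf (706, 10971209, true)))))))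
(.node 9 (.node 4 (.node 2 (.node 1 (.leaf (707, 13510735, false)) (.leaf (708, 17059919, true))) (.node 1 (.leaf (698, 4808797, false)) (.leaf (710, 19085399, false))))
(.node 2 (.node 1 (.leaf (711, 19085399, false)) (.leaf (712, 10971209, true))) (.node 1 (.leaf (711, 4808797, false)) (.node 1 (.leaf (714, 7292999, false)) (.leaf (715, 7292999, false))))))
(.node 5 (.node 2 (.node 1 (.leaf (705, 17043521, false)) (.leaf (717, 6776923, false))) (.node 1 (.leaf (718, 7292999, false)) (.node 1 (.leaf (719, 7292999, false)) (.leaf (695, 19085399, false)))))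
(.node 2 (.node 1 (.leaf (721, 10971209, false)) (.leaf (722, 13310023, false))) (.node 1 (.leaf (723, 29904967, false)) (.node 1 (.leaf (705, 19085399, false)) (.leaf (725, 10971209, false))))))))
(.node 19 (.node 9 (.node 4 (.node 2 (.node 1 (.leaf (726, 13310023, false)) (.leaf (727, 29904967, false))) (.node 1 (.leaf (139, 17059919, true)) (.leaf (729, 17059919, true))))
(.node 2 (.node 1 (.leaf (730, 17059919, true)) (.leaf (139, 4808797, true))) (.node 1 (.leaf (732, 19085399, false)) (.node 1 (.leaf (733, 11495495, true)) (.leaf (734, 13510735, false))))))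
(.node 5 (.node 2 (.node 1 (.leaf (735, 17059919, true)) (.leaf (732, 17043521, false))) (.node 1 (.leaf (737, 19085399, true)) (.node 1 (.leaf (738, 19085399, false)) (.leaf (739, 11495495, true)))))
(.node 2 (.node 1 (.leaf (141, 19085399, false)) (.leaf (741, 19085399, false))) (.node 1 (.leaf (742, 11495495, true)) (.node 1 (.leaf (646, 13310023, false)) (.leaf (744, 10971209, false)))))))
(.node 10 (.node 5 (.node 2 (.node 1 (.leaf (745, 13310023, false)) (.leaf (128, 17043521, false))) (.node 1 (.leaf (747, 6776923, false)) (.node 1 (.leaf (748, 7292999, false)) (.leaf (737, 23928925, false)))))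
(.node 2 (.node 1 (.leaf (750, 31801425, false)) (.leaf (751, 27529303, false))) (.node 1 (.leaf (733, 10971209, false)) (.node 1 (.leaf (753, 13310023, false)) (.leaf (754, 29904967, false))))))
(.node 5 (.node 2 (.node 1 (.leaf (750, 7292999, false)) (.leaf (756, 19085399, false))) (.node 1 (.leaf (141, 9056345, false)) (.node 1 (.leaf (758, 19085399, false)) (.leaf (759, 19085399, false)))))
(.node 2 (.node 1 (.leaf (141, 31801425, true)) (.leaf (761, 17059919, true))) (.node 1 (.leaf (762, 17059919, true)) (.node 1 (.leaf (141, 32125001, true)) (.leaf (764, 17059919, true))))))))))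

/-- The definitions. -/
def caseDFullDefsRLR : Tab (ℕ × ℕ × Bool) :=
(.node 77 (.node 38 (.node 19 (.node 9 (.node 4 (.node 2 (.node 1 (.leaf (765, 17059919, true)) (.leaf (764, 27529303, false))) (.node 1 (.leaf (767, 25385043, true)) (.leaf (768, 4808797, false))))
(.node 2 (.node 1 (.leaf (769, 10971209, true)) (.leaf (764, 17043521, false))) (.node 1 (.leaf (771, 19085399, true)) (.node 1 (.leaf (772, 19085399, false)) (.leaf (773, 11495495, true))))))
(.node 5 (.node 2 (.node 1 (.leaf (141, 17059919, true)) (.leaf (775, 29904967, false))) (.node 1 (.leaf (776, 19085399, false)) (.node 1 (.leaf (777, 19085399, false)) (.leaf (778, 17043521, true)))))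
(.node 2 (.node 1 (.leaf (775, 27529303, false)) (.leaf (780, 19085399, false))) (.node 1 (.leaf (781, 19085399, false)) (.node 1 (.leaf (782, 19085399, true)) (.leaf (141, 32131155, true)))))))
(.node 9 (.node 4 (.node 2 (.node 1 (.leaf (784, 27529303, false)) (.leaf (785, 23928925, false))) (.node 1 (.leaf (786, 32125001, false)) (.leaf (787, 27529303, false))))
(.node 2 (.node 1 (.leaf (141, 10971209, true)) (.leaf (789, 27529303, false))) (.node 1 (.leaf (790, 9056345, false)) (.node 1 (.leaf (791, 23928925, false)) (.leaf (792, 32125001, false))))))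
(.node 5 (.node 2 (.node 1 (.leaf (764, 29904967, false)) (.leaf (794, 4808797, false))) (.node 1 (.leaf (795, 31801425, false)) (.node 1 (.leaf (796, 29904967, false)) (.leaf (764, 4808797, false)))))
(.node 2 (.node 1 (.leaf (798, 7292999, false)) (.leaf (799, 7292999, false))) (.node 1 (.leaf (800, 7292999, false)) (.node 1 (.leaf (167, 6776923, false)) (.leaf (802, 19085399, false))))))))
(.node 19 (.node 9 (.node 4 (.node 2 (.node 1 (.leaf (144, 13510735, true)) (.leaf (804, 17059919, true))) (.node 1 (.leaf (805, 17059919, true)) (.leaf (144, 31801425, true))))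
(.node 2 (.node 1 (.leaf (807, 17059919, true)) (.leaf (808, 17059919, true))) (.node 1 (.leaf (807, 19085399, false)) (.node 1 (.leaf (810, 11495495, true)) (.leaf (811, 13510735, false))))))
(.node 5 (.node 2 (.node 1 (.leaf (812, 17059919, true)) (.leaf (807, 4808797, false))) (.node 1 (.leaf (814, 10971209, true)) (.node 1 (.leaf (815, 13510735, false)) (.leaf (816, 17059919, true)))))
(.node 2 (.node 1 (.leaf (144, 11495495, true)) (.leaf (818, 13510735, false))) (.node 1 (.leaf (819, 19085399, false)) (.node 1 (.leaf (820, 19085399, false)) (.leaf (821, 17059919, true)))))))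
(.node 10 (.node 5 (.node 2 (.node 1 (.leaf (144, 19085399, true)) (.leaf (823, 17043521, false))) (.node 1 (.leaf (824, 19085399, false)) (.node 1 (.leaf (825, 19085399, false)) (.leaf (826, 25385043, true)))))
(.node 2 (.node 1 (.leaf (144, 25385043, true)) (.leaf (828, 19085399, false))) (.node 1 (.leaf (829, 32125001, false)) (.node 1 (.leaf (830, 27529303, false)) (.leaf (831, 23928925, false))))))
(.node 5 (.node 2 (.node 1 (.leaf (820, 32125001, false)) (.leaf (833, 4808797, false))) (.node 1 (.leaf (834, 31801425, false)) (.node 1 (.leaf (804, 13510735, false)) (.leaf (836, 4808797, false)))))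
(.node 2 (.node 1 (.leaf (837, 32125001, false)) (.leaf (838, 29904967, false))) (.node 1 (.leaf (818, 29904967, false)) (.node 1 (.leaf (840, 13510735, false)) (.leaf (841, 29904967, false)))))))))
(.node 38 (.node 19 (.node 9 (.node 4 (.node 2 (.node 1 (.leaf (842, 13510735, false)) (.leaf (147, 23928925, false))) (.node 1 (.leaf (844, 19085399, false)) (.leaf (845, 19085399, false))))
(.node 2 (.node 1 (.leaf (147, 4808797, true)) (.leaf (847, 17059919, true))) (.node 1 (.leaf (848, 17059919, true)) (.node 1 (.leaf (147, 13310023, true)) (.leaf (850, 29904967, false))))))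
(.node 5 (.node 2 (.node 1 (.leaf (851, 17043521, true)) (.leaf (852, 17043521, false))) (.node 1 (.leaf (853, 19085399, true)) (.node 1 (.leaf (847, 13510735, false)) (.leaf (855, 17059919, true)))))
(.node 2 (.node 1 (.leaf (856, 17043521, false)) (.leaf (857, 19085399, true))) (.node 1 (.leaf (147, 32131155, true)) (.node 1 (.leaf (859, 4808797, false)) (.leaf (860, 19085399, false)))))))
(.node 9 (.node 4 (.node 2 (.node 1 (.leaf (861, 19085399, false)) (.leaf (862, 10971209, true))) (.node 1 (.leaf (153, 19085399, false)) (.leaf (864, 19085399, false))))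
(.node 2 (.node 1 (.leaf (865, 17043521, true)) (.leaf (860, 32125001, false))) (.node 1 (.leaf (867, 29904967, false)) (.node 1 (.leaf (868, 4808797, false)) (.leaf (850, 13510735, false))))))
(.node 5 (.node 2 (.node 1 (.leaf (870, 27529303, false)) (.leaf (871, 9056345, false))) (.node 1 (.leaf (872, 23928925, false)) (.node 1 (.leaf (856, 13510735, false)) (.leaf (874, 29904967, false)))))
(.node 2 (.node 1 (.leaf (875, 13510735, false)) (.leaf (148, 17043521, false))) (.node 1 (.leaf (877, 19085399, false)) (.node 1 (.leaf (878, 19085399, false)) (.leaf (148, 25385043, true))))))))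
(.node 19 (.node 9 (.node 4 (.node 2 (.node 1 (.leaf (880, 17059919, true)) (.leaf (881, 17059919, true))) (.node 1 (.leaf (148, 11495495, true)) (.leaf (883, 17059919, true))))
(.node 2 (.node 1 (.leaf (884, 17059919, true)) (.leaf (148, 29904967, true))) (.node 1 (.leaf (886, 4808797, false)) (.node 1 (.leaf (887, 10971209, true)) (.leaf (888, 13510735, false))))))
(.node 5 (.node 2 (.node 1 (.leaf (889, 17059919, true)) (.leaf (161, 11495495, true))) (.node 1 (.leaf (891, 27529303, false)) (.node 1 (.leaf (892, 25385043, true)) (.leaf (886, 19085399, false)))))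
(.node 2 (.node 1 (.leaf (894, 19085399, false)) (.leaf (895, 19085399, false))) (.node 1 (.leaf (896, 11495495, true)) (.node 1 (.leaf (883, 27529303, false)) (.leaf (898, 19085399, false)))))))
(.node 10 (.node 5 (.node 2 (.node 1 (.leaf (899, 19085399, false)) (.leaf (900, 19085399, true))) (.node 1 (.leaf (883, 19085399, false)) (.node 1 (.leaf (902, 10971209, false)) (.leaf (903, 13310023, false)))))
(.node 2 (.node 1 (.leaf (904, 29904967, false)) (.leaf (902, 31801425, false))) (.node 1 (.leaf (906, 29904967, false)) (.node 1 (.leaf (907, 4808797, false)) (.leaf (170, 19085399, false))))))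
(.node 5 (.node 2 (.node 1 (.leaf (909, 19085399, false)) (.leaf (150, 13510735, true))) (.node 1 (.leaf (911, 17059919, true)) (.node 1 (.leaf (912, 17059919, true)) (.leaf (150, 32125001, true)))))
(.node 2 (.node 1 (.leaf (914, 17043521, false)) (.leaf (915, 19085399, true))) (.node 1 (.leaf (916, 19085399, false)) (.node 1 (.leaf (917, 11495495, true)) (.leaf (150, 4544593, true))))))))))

/-- The definitions. -/
def caseDFullDefsRL : Tab (ℕ × ℕ × Bool) := .node 153 caseDFullDefsRLL caseDFullDefsRLR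

/-- The definitions. -/
def caseDFullDefsRRL : Tab (ℕ × ℕ × Bool) :=
(.node 76 (.node 38 (.node 19 (.node 9 (.node 4 (.node 2 (.node 1 (.leaf (919, 17043521, false)) (.leaf (920, 19085399, true))) (.node 1 (.leaf (921, 19085399, false)) (.leaf (922, 11495495, true))))
(.node 2 (.node 1 (.leaf (912, 17043521, false)) (.leaf (924, 19085399, false))) (.node 1 (.leaf (925, 19085399, false)) (.node 1 (.leaf (926, 19085399, true)) (.leaf (911, 27529303, false))))))
(.node 5 (.node 2 (.node 1 (.leaf (928, 19085399, false)) (.leaf (929, 19085399, false))) (.node 1 (.leaf (930, 19085399, true)) (.node 1 (.leaf (912, 4808797, false)) (.leaf (932, 10971209, false)))))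
(.node 2 (.node 1 (.leaf (933, 13310023, false)) (.leaf (934, 29904967, false))) (.node 1 (.leaf (911, 29904967, false)) (.node 1 (.leaf (936, 13510735, false)) (.leaf (937, 29904967, false)))))))
(.node 9 (.node 4 (.node 2 (.node 1 (.leaf (938, 13510735, false)) (.leaf (919, 29904967, false))) (.node 1 (.leaf (940, 29904967, false)) (.leaf (941, 13510735, false))))
(.node 2 (.node 1 (.leaf (942, 27529303, false)) (.leaf (802, 7292999, false))) (.node 1 (.leaf (944, 31801425, false)) (.node 1 (.leaf (157, 32125001, false)) (.leaf (946, 19085399, false))))))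
(.node 5 (.node 2 (.node 1 (.leaf (947, 19085399, false)) (.leaf (157, 4544593, true))) (.node 1 (.leaf (949, 17059919, true)) (.node 1 (.leaf (950, 17059919, true)) (.leaf (157, 31801425, true)))))
(.node 2 (.node 1 (.leaf (952, 29904967, false)) (.leaf (953, 17043521, true))) (.node 1 (.leaf (954, 17043521, false)) (.node 1 (.leaf (955, 19085399, true)) (.leaf (949, 27529303, false))))))))
(.node 19 (.node 9 (.node 4 (.node 2 (.node 1 (.leaf (957, 25385043, true)) (.leaf (958, 4808797, false))) (.node 1 (.leaf (959, 10971209, true)) (.leaf (952, 13510735, false))))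
(.node 2 (.node 1 (.leaf (961, 19085399, false)) (.leaf (962, 19085399, false))) (.node 1 (.leaf (963, 17059919, true)) (.node 1 (.leaf (157, 10971209, true)) (.leaf (965, 13510735, false))))))
(.node 5 (.node 2 (.node 1 (.leaf (966, 19085399, false)) (.leaf (967, 19085399, false))) (.node 1 (.leaf (968, 17059919, true)) (.node 1 (.leaf (157, 25385043, true)) (.leaf (970, 13510735, false)))))
(.node 2 (.node 1 (.leaf (971, 4808797, false)) (.leaf (972, 32125001, false))) (.node 1 (.leaf (973, 29904967, false)) (.node 1 (.leaf (949, 29904967, false)) (.leaf (975, 13510735, false)))))))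
(.node 9 (.node 4 (.node 2 (.node 1 (.leaf (976, 29904967, false)) (.leaf (977, 13510735, false))) (.node 1 (.leaf (955, 19085399, false)) (.leaf (979, 13310023, false))))
(.node 2 (.node 1 (.leaf (980, 29904967, false)) (.leaf (981, 13510735, false))) (.node 1 (.leaf (950, 17043521, false)) (.node 1 (.leaf (983, 13310023, false)) (.leaf (984, 27529303, false))))))
(.node 5 (.node 2 (.node 1 (.leaf (985, 9056345, false)) (.leaf (158, 19085399, false))) (.node 1 (.leaf (987, 19085399, false)) (.node 1 (.leaf (988, 19085399, false)) (.leaf (202, 27529303, false)))))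
(.node 2 (.node 1 (.leaf (158, 13310023, true)) (.leaf (991, 17059919, true))) (.node 1 (.leaf (992, 17059919, true)) (.node 1 (.leaf (158, 4544593, true)) (.leaf (994, 17059919, true)))))))))
(.node 38 (.node 19 (.node 9 (.node 4 (.node 2 (.node 1 (.leaf (995, 17059919, true)) (.leaf (991, 4808797, false))) (.node 1 (.leaf (997, 10971209, true)) (.leaf (998, 13510735, false))))
(.node 2 (.node 1 (.leaf (999, 17059919, true)) (.leaf (144, 17043521, true))) (.node 1 (.leaf (994, 19085399, false)) (.node 1 (.leaf (1002, 19085399, false)) (.leaf (1003, 19085399, false))))))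
(.node 5 (.node 2 (.node 1 (.leaf (1004, 11495495, true)) (.leaf (1002, 10971209, false))) (.node 1 (.leaf (1006, 13310023, false)) (.node 1 (.leaf (1007, 29904967, false)) (.leaf (158, 25385043, true)))))
(.node 2 (.node 1 (.leaf (1009, 19085399, false)) (.leaf (1010, 10971209, false))) (.node 1 (.leaf (1011, 13310023, false)) (.node 1 (.leaf (1012, 29904967, false)) (.leaf (837, 10971209, false)))))))
(.node 9 (.node 4 (.node 2 (.node 1 (.leaf (1014, 19085399, false)) (.leaf (167, 4808797, false))) (.node 1 (.leaf (1016, 19085399, false)) (.leaf (1017, 19085399, false))))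
(.node 2 (.node 1 (.leaf (167, 32125001, true)) (.leaf (1019, 17059919, true))) (.node 1 (.leaf (1020, 17059919, true)) (.node 1 (.leaf (167, 19085399, true)) (.leaf (1022, 17059919, true))))))
(.node 5 (.node 2 (.node 1 (.leaf (1023, 17059919, true)) (.leaf (167, 4808797, true))) (.node 1 (.leaf (1025, 4808797, false)) (.node 1 (.leaf (1026, 10971209, true)) (.leaf (1027, 13510735, false)))))
(.node 2 (.node 1 (.leaf (1028, 17059919, true)) (.leaf (167, 4544593, true))) (.node 1 (.leaf (1030, 17043521, false)) (.node 1 (.leaf (1031, 19085399, true)) (.leaf (1032, 19085399, false))))))))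
(.node 19 (.node 9 (.node 4 (.node 2 (.node 1 (.leaf (1033, 11495495, true)) (.leaf (1028, 27529303, false))) (.node 1 (.leaf (1035, 19085399, false)) (.leaf (1036, 19085399, false))))
(.node 2 (.node 1 (.leaf (1037, 25385043, true)) (.leaf (167, 10971209, true))) (.node 1 (.leaf (1039, 27529303, false)) (.node 1 (.leaf (1040, 19085399, false)) (.leaf (1041, 19085399, false))))))
(.node 5 (.node 2 (.node 1 (.leaf (1042, 19085399, true)) (.leaf (1033, 10971209, false))) (.node 1 (.leaf (1044, 23928925, false)) (.node 1 (.leaf (1045, 32125001, false)) (.leaf (1046, 27529303, false)))))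
(.node 2 (.node 1 (.leaf (1039, 29904967, false)) (.leaf (1048, 29904967, false))) (.node 1 (.leaf (1049, 13510735, false)) (.node 1 (.leaf (1050, 27529303, false)) (.leaf (1020, 19085399, false)))))))
(.node 10 (.node 5 (.node 2 (.node 1 (.leaf (1052, 31801425, false)) (.leaf (1053, 27529303, false))) (.node 1 (.leaf (1054, 23928925, false)) (.node 1 (.leaf (1019, 29904967, false)) (.leaf (1056, 27529303, false)))))
(.node 2 (.node 1 (.leaf (1057, 23928925, false)) (.leaf (1058, 31801425, false))) (.node 1 (.leaf (170, 23928925, false)) (.node 1 (.leaf (1060, 19085399, false)) (.leaf (1061, 19085399, false))))))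
(.node 5 (.node 2 (.node 1 (.leaf (170, 17059919, true)) (.leaf (1063, 17059919, true))) (.node 1 (.leaf (1064, 17059919, true)) (.node 1 (.leaf (170, 31801425, true)) (.leaf (1066, 29904967, false)))))
(.node 2 (.node 1 (.leaf (1067, 17043521, true)) (.leaf (1068, 17043521, false))) (.node 1 (.leaf (1069, 19085399, true)) (.node 1 (.leaf (1069, 13310023, false)) (.leaf (1071, 19085399, false))))))))))

/-- The definitions. -/
def caseDFullDefsRRR : Tab (ℕ × ℕ × Bool) :=
(.node 77 (.node 38 (.node 19 (.node 9 (.node 4 (.node 2 (.node 1 (.leaf (1072, 19085399, false)) (.leaf (1073, 17059919, true))) (.node 1 (.leaf (1064, 27529303, false)) (.leaf (1075, 19085399, false))))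
(.node 2 (.node 1 (.leaf (1076, 19085399, false)) (.leaf (1077, 25385043, true))) (.node 1 (.leaf (170, 13510735, true)) (.node 1 (.leaf (1079, 13510735, false)) (.leaf (1080, 27529303, false))))))
(.node 5 (.node 2 (.node 1 (.leaf (1081, 9056345, false)) (.leaf (1082, 23928925, false))) (.node 1 (.leaf (174, 9056345, false)) (.node 1 (.leaf (1084, 19085399, false)) (.leaf (1085, 19085399, false)))))
(.node 2 (.node 1 (.leaf (174, 32125001, true)) (.leaf (1087, 17059919, true))) (.node 1 (.leaf (1088, 17059919, true)) (.node 1 (.leaf (174, 19085399, true)) (.leaf (1090, 17043521, false)))))))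
(.node 9 (.node 4 (.node 2 (.node 1 (.leaf (1091, 19085399, true)) (.leaf (1092, 19085399, false))) (.node 1 (.leaf (1093, 11495495, true)) (.leaf (1087, 13510735, false))))
(.node 2 (.node 1 (.leaf (1095, 19085399, false)) (.leaf (1096, 19085399, false))) (.node 1 (.leaf (1097, 17059919, true)) (.node 1 (.leaf (1087, 19085399, false)) (.leaf (1099, 19085399, false))))))
(.node 5 (.node 2 (.node 1 (.leaf (1100, 19085399, false)) (.leaf (1101, 11495495, true))) (.node 1 (.leaf (1087, 29904967, false)) (.node 1 (.leaf (1103, 29904967, false)) (.leaf (1104, 13510735, false)))))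
(.node 2 (.node 1 (.leaf (1105, 27529303, false)) (.leaf (1090, 4808797, false))) (.node 1 (.leaf (1107, 10971209, false)) (.node 1 (.leaf (1108, 6776923, false)) (.leaf (1109, 10971209, false))))))))
(.node 19 (.node 9 (.node 4 (.node 2 (.node 1 (.leaf (174, 29904967, true)) (.leaf (1111, 19085399, false))) (.node 1 (.leaf (1112, 31801425, false)) (.leaf (1113, 29904967, false))))
(.node 2 (.node 1 (.leaf (1114, 4808797, false)) (.leaf (177, 31801425, false))) (.node 1 (.leaf (1116, 19085399, false)) (.node 1 (.leaf (1117, 19085399, false)) (.leaf (177, 10971209, false))))))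
(.node 5 (.node 2 (.node 1 (.leaf (1119, 19085399, false)) (.leaf (1120, 19085399, false))) (.node 1 (.leaf (177, 4808797, true)) (.node 1 (.leaf (1122, 17059919, true)) (.leaf (1123, 17059919, true)))))
(.node 2 (.node 1 (.leaf (202, 13510735, true)) (.leaf (1125, 17059919, true))) (.node 1 (.leaf (1122, 29904967, false)) (.node 1 (.leaf (1127, 17043521, true)) (.leaf (1128, 17043521, false)))))))
(.node 10 (.node 5 (.node 2 (.node 1 (.leaf (1129, 19085399, true)) (.leaf (1122, 17043521, false))) (.node 1 (.leaf (1131, 19085399, false)) (.node 1 (.leaf (1132, 19085399, false)) (.leaf (1133, 25385043, true)))))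
(.node 2 (.node 1 (.leaf (1132, 23928925, false)) (.leaf (1135, 7292999, false))) (.node 1 (.leaf (1136, 10971209, false)) (.node 1 (.leaf (180, 10971209, false)) (.leaf (1138, 19085399, false))))))
(.node 5 (.node 2 (.node 1 (.leaf (1139, 19085399, false)) (.leaf (180, 25385043, true))) (.node 1 (.leaf (1141, 17059919, true)) (.node 1 (.leaf (1142, 17059919, true)) (.leaf (1142, 29904967, false)))))
(.node 2 (.node 1 (.leaf (1144, 17059919, true)) (.leaf (1145, 17043521, false))) (.node 1 (.leaf (1146, 19085399, true)) (.node 1 (.leaf (180, 29904967, true)) (.leaf (1148, 13510735, false)))))))))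
(.node 38 (.node 19 (.node 9 (.node 4 (.node 2 (.node 1 (.leaf (1149, 17059919, true)) (.leaf (1150, 17043521, false))) (.node 1 (.leaf (1151, 19085399, true)) (.leaf (180, 32125001, true))))
(.node 2 (.node 1 (.leaf (1153, 29904967, false)) (.leaf (1154, 19085399, false))) (.node 1 (.leaf (1155, 19085399, false)) (.node 1 (.leaf (1156, 17043521, true)) (.leaf (1148, 4808797, false))))))
(.node 5 (.node 2 (.node 1 (.leaf (1158, 19085399, false)) (.leaf (1159, 19085399, false))) (.node 1 (.leaf (1160, 10971209, true)) (.node 1 (.leaf (1141, 13510735, false)) (.leaf (1162, 27529303, false)))))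
(.node 2 (.node 1 (.leaf (1163, 9056345, false)) (.leaf (1164, 23928925, false))) (.node 1 (.leaf (1158, 7292999, false)) (.node 1 (.leaf (1166, 7292999, false)) (.leaf (1167, 7292999, false)))))))
(.node 9 (.node 4 (.node 2 (.node 1 (.leaf (1149, 4808797, false)) (.leaf (1169, 32125001, false))) (.node 1 (.leaf (1170, 29904967, false)) (.leaf (1153, 13510735, false))))
(.node 2 (.node 1 (.leaf (1172, 13510735, false)) (.leaf (1173, 27529303, false))) (.node 1 (.leaf (1174, 9056345, false)) (.node 1 (.leaf (1167, 31801425, false)) (.leaf (190, 13510735, false))))))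
(.node 5 (.node 2 (.node 1 (.leaf (1177, 19085399, false)) (.leaf (1178, 19085399, false))) (.node 1 (.leaf (190, 10971209, true)) (.node 1 (.leaf (1180, 17059919, true)) (.leaf (1181, 17059919, true)))))
(.node 2 (.node 1 (.leaf (190, 31801425, true)) (.leaf (1183, 13510735, false))) (.node 1 (.leaf (1184, 17059919, true)) (.node 1 (.leaf (1185, 17043521, false)) (.leaf (1186, 19085399, true))))))))
(.node 19 (.node 9 (.node 4 (.node 2 (.node 1 (.leaf (1183, 19085399, false)) (.leaf (1188, 11495495, true))) (.node 1 (.leaf (1189, 13510735, false)) (.leaf (1190, 17059919, true))))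
(.node 2 (.node 1 (.leaf (1189, 27529303, false)) (.leaf (1192, 19085399, false))) (.node 1 (.leaf (1193, 19085399, true)) (.node 1 (.leaf (190, 32131155, true)) (.leaf (1195, 17043521, false))))))
(.node 5 (.node 2 (.node 1 (.leaf (1196, 9056345, false)) (.leaf (1197, 9056345, false))) (.node 1 (.leaf (1198, 9056345, false)) (.node 1 (.leaf (191, 19085399, false)) (.leaf (1200, 32125001, false)))))
(.node 2 (.node 1 (.leaf (1201, 27529303, false)) (.leaf (1202, 23928925, false))) (.node 1 (.leaf (190, 17059919, true)) (.node 1 (.leaf (1204, 13510735, false)) (.leaf (1205, 13510735, false)))))))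
(.node 10 (.node 5 (.node 2 (.node 1 (.leaf (1206, 27529303, false)) (.leaf (1207, 9056345, false))) (.node 1 (.leaf (1204, 27529303, false)) (.node 1 (.leaf (1209, 23928925, false)) (.leaf (1210, 32125001, false)))))
(.node 2 (.node 1 (.leaf (1211, 27529303, false)) (.leaf (191, 6776923, false))) (.node 1 (.leaf (1213, 19085399, false)) (.node 1 (.leaf (1214, 19085399, false)) (.leaf (191, 13510735, true))))))
(.node 5 (.node 2 (.node 1 (.leaf (1216, 17059919, true)) (.leaf (1217, 17059919, true))) (.node 1 (.leaf (191, 4544593, true)) (.node 1 (.leaf (1219, 17059919, true)) (.leaf (1220, 17059919, true)))))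
(.node 2 (.node 1 (.leaf (191, 17059919, true)) (.leaf (1222, 17043521, false))) (.node 1 (.leaf (1223, 19085399, true)) (.node 1 (.leaf (1224, 19085399, false)) (.leaf (1225, 11495495, true))))))))))

/-- The definitions. -/
def caseDFullDefsRR : Tab (ℕ × ℕ × Bool) := .node 153 caseDFullDefsRRL caseDFullDefsRRR

/-- The definitions. -/
def caseDFullDefsR : Tab (ℕ × ℕ × Bool) := .node 307 caseDFullDefsRL caseDFullDefsRR

/-- The definitions. -/
def caseDFullDefs : Tab (ℕ × ℕ × Bool) := .node 613 caseDFullDefsL caseDFullDefsR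

/-- The relators. -/
def caseDFullRels : List (List Let) :=
  [[.t false, .h 19140673, .t false, .h 19140673, .t false, .h 19140673, .h 17764419],
  [.t true, .h 17043525, .t true, .h 17043525, .t true, .h 17043525, .h 17633345],
  [.t true, .t false, .h 19273823, .t true, .h 19216469, .t false, .h 16920641, .t true, .h 17586255],
  [.t true, .t false, .h 19273823, .t false, .h 19337301, .t false, .h 16920641, .t true, .h 19216459],
  [.t true, .t false, .h 8802373, .t false, .h 26161217, .t false, .h 25825365, .t false, .h 27727943],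
  [.t true, .t false, .h 8802373, .t false, .h 11417683, .t false, .h 25915461, .t false, .h 27474013]]

/-- The enumeration. -/
def caseDFull : EnumD := ⟨1227, caseDFullDefs, 4447, caseDFullFacts, caseDFullSrc, caseDFullRels⟩

/-- The origin of the relators. -/
def caseDFullFrom : List (Bool × ℕ) := [(true, 0), (true, 1), (true, 2), (true, 3)]

/-- The stabiliser. -/
def caseDFullN0Els : Tab ℕ :=
(.leaf 17043521)

/-- Its index. -/
def caseDFullN0Ix : BT ℕ :=
(.node 17043521 0 .tip .tip)

/-- The reasons. -/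
def caseDFullN0How : Tab (ℕ × ℕ) :=
(.leaf (0, 0))

/-- The node. -/
def caseDFullN0Node : NodeD := ⟨0, 1, caseDFullN0Els, caseDFullN0Ix, caseDFullN0How, fun b => bif b then (.node 7 (.node 3 (.node 1 (.leaf 33) (.node 1 (.leaf 41) (.leaf 39)))
(.node 2 (.node 1 (.leaf 31) (.leaf 29)) (.node 1 (.leaf 38) (.leaf 43))))
(.node 3 (.node 1 (.leaf 35) (.node 1 (.leaf 32) (.leaf 40)))
(.node 2 (.node 1 (.leaf 37) (.leaf 36)) (.node 1 (.leaf 34) (.leaf 42))))) else (.node 7 (.node 3 (.node 1 (.leaf 11) (.node 1 (.leaf 6) (.leaf 2)))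
(.node 2 (.node 1 (.leaf 15) (.leaf 10)) (.node 1 (.leaf 5) (.leaf 13))))
(.node 3 (.node 1 (.leaf 8) (.node 1 (.leaf 9) (.leaf 14)))
(.node 2 (.node 1 (.leaf 16) (.leaf 4)) (.node 1 (.leaf 7) (.leaf 12)))))⟩

/-- The stabiliser. -/
def caseDFullN1ElsLL : Tab ℕ :=
(.node 192 (.node 96 (.node 48 (.node 24 (.node 12 (.node 6 (.node 3 (.node 1 (.leaf 17043521) (.node 1 (.leaf 17061981) (.leaf 17780809))) (.node 1 (.leaf 17659981) (.node 1 (.leaf 17043539) (.leaf 17176661))))
(.node 3 (.node 1 (.leaf 17641539) (.node 1 (.leaf 17766483) (.leaf 17567831))) (.node 1 (.leaf 17195075) (.node 1 (.leaf 17641561) (.leaf 17512535)))))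
(.node 6 (.node 3 (.node 1 (.leaf 17061961) (.node 1 (.leaf 17061967) (.leaf 17780827))) (.node 1 (.leaf 17659999) (.node 1 (.leaf 17190991) (.leaf 17586265))))
(.node 3 (.node 1 (.leaf 17784927) (.node 1 (.leaf 17659973) (.leaf 16937049))) (.node 1 (.leaf 17043541) (.node 1 (.leaf 17127501) (.leaf 17180747))))))
(.node 12 (.node 6 (.node 3 (.node 1 (.leaf 17586267) (.node 1 (.leaf 17256527) (.leaf 17119307))) (.node 1 (.leaf 17180743) (.node 1 (.leaf 16982095) (.leaf 17766487))))
(.node 3 (.node 1 (.leaf 16937027) (.node 1 (.leaf 17043535) (.leaf 17526879))) (.node 1 (.leaf 17135681) (.node 1 (.leaf 16918607) (.leaf 17043527)))))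
(.node 6 (.node 3 (.node 1 (.leaf 17176641) (.node 1 (.leaf 17641559) (.leaf 17176647))) (.node 1 (.leaf 17641553) (.node 1 (.leaf 17766465) (.leaf 17567813))))
(.node 3 (.node 1 (.leaf 17195089) (.node 1 (.leaf 17641547) (.leaf 17512517))) (.node 1 (.leaf 17061979) (.node 1 (.leaf 17109059) (.leaf 17770583)))))))
(.node 24 (.node 12 (.node 6 (.node 3 (.node 1 (.leaf 17567815) (.node 1 (.leaf 17700929) (.leaf 17133655))) (.node 1 (.leaf 17770569) (.node 1 (.leaf 17440833) (.leaf 17191001))))
(.node 3 (.node 1 (.leaf 17512543) (.node 1 (.leaf 17061953) (.leaf 16922705))) (.node 1 (.leaf 17117277) (.node 1 (.leaf 17508417) (.leaf 17780829)))))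
(.node 6 (.node 3 (.node 1 (.leaf 17659993) (.node 1 (.leaf 17109057) (.leaf 17242183))) (.node 1 (.leaf 17578065) (.node 1 (.leaf 17195101) (.leaf 17459271))))
(.node 3 (.node 1 (.leaf 17780813) (.node 1 (.leaf 17700931) (.leaf 17133653))) (.node 1 (.leaf 17242181) (.node 1 (.leaf 17702997) (.leaf 17133663))))))
(.node 12 (.node 6 (.node 3 (.node 1 (.leaf 17528897) (.node 1 (.leaf 17586255) (.leaf 17459275))) (.node 1 (.leaf 17780801) (.node 1 (.leaf 17000529) (.leaf 17719369))))
(.node 3 (.node 1 (.leaf 17461313) (.node 1 (.leaf 17780831) (.leaf 17127497))) (.node 1 (.leaf 17180751) (.node 1 (.leaf 16922699) (.leaf 17117255)))))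
(.node 6 (.node 3 (.node 1 (.leaf 17508443) (.node 1 (.leaf 17061971) (.leaf 17780807))) (.node 1 (.leaf 17659971) (.node 1 (.leaf 17576009) (.leaf 16932949))))
(.node 3 (.node 1 (.leaf 17117253) (.node 1 (.leaf 16988235) (.leaf 17569877))) (.node 1 (.leaf 16932945) (.node 1 (.leaf 17721419) (.leaf 17526849))))))))
(.node 48 (.node 24 (.node 12 (.node 6 (.node 3 (.node 1 (.leaf 17780815) (.node 1 (.leaf 17659979) (.leaf 17191003))) (.node 1 (.leaf 17586253) (.node 1 (.leaf 17784907) (.leaf 17659985))))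
(.node 3 (.node 1 (.leaf 16937037) (.node 1 (.leaf 17191005) (.leaf 17586251))) (.node 1 (.leaf 17784909) (.node 1 (.leaf 17659991) (.leaf 16937035)))))
(.node 6 (.node 3 (.node 1 (.leaf 17127519) (.node 1 (.leaf 17180761) (.leaf 17586249))) (.node 1 (.leaf 17256541) (.node 1 (.leaf 17119321) (.leaf 17180757))))
(.node 3 (.node 1 (.leaf 16982109) (.node 1 (.leaf 17766469) (.leaf 16937041))) (.node 1 (.leaf 17043549) (.node 1 (.leaf 17526861) (.leaf 17135699))))))
(.node 12 (.node 6 (.node 3 (.node 1 (.leaf 16918621) (.node 1 (.leaf 17176659) (.leaf 17641541))) (.node 1 (.leaf 17127517) (.node 1 (.leaf 17715273) (.leaf 17592397))))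
(.node 3 (.node 1 (.leaf 17784915) (.node 1 (.leaf 17000521) (.leaf 17176643))) (.node 1 (.leaf 17256543) (.node 1 (.leaf 17119323) (.leaf 17715275)))))
(.node 6 (.node 3 (.node 1 (.leaf 17244251) (.node 1 (.leaf 17119313) (.leaf 16920669))) (.node 1 (.leaf 17567809) (.node 1 (.leaf 17000535) (.leaf 17176669))))
(.node 3 (.node 1 (.leaf 17459277) (.node 1 (.leaf 17260629) (.leaf 16988253))) (.node 1 (.leaf 17176657) (.node 1 (.leaf 17109077) (.leaf 17770561)))))))
(.node 24 (.node 12 (.node 6 (.node 3 (.node 1 (.leaf 17526871) (.node 1 (.leaf 17135689) (.leaf 16918599))) (.node 1 (.leaf 17176649) (.node 1 (.leaf 17641567) (.leaf 17594453))))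
(.node 3 (.node 1 (.leaf 17522779) (.node 1 (.leaf 17135691) (.leaf 17461335))) (.node 1 (.leaf 17584219) (.node 1 (.leaf 17522765) (.leaf 17262679)))))
(.node 6 (.node 3 (.node 1 (.leaf 16922717) (.node 1 (.leaf 17766471) (.leaf 17567811))) (.node 1 (.leaf 17195095) (.node 1 (.leaf 17641549) (.leaf 17512515))))
(.node 3 (.node 1 (.leaf 17592399) (.node 1 (.leaf 17651785) (.leaf 17721423))) (.node 1 (.leaf 17592407) (.node 1 (.leaf 16939081) (.leaf 17109063))))))
(.node 12 (.node 6 (.node 3 (.node 1 (.leaf 16982097) (.node 1 (.leaf 17766473) (.leaf 17440857))) (.node 1 (.leaf 17705043) (.node 1 (.leaf 17002569) (.leaf 17567827))))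
(.node 3 (.node 1 (.leaf 17195079) (.node 1 (.leaf 17061983) (.leaf 17244249))) (.node 1 (.leaf 17119315) (.node 1 (.leaf 16920671) (.leaf 17651787)))))
(.node 6 (.node 3 (.node 1 (.leaf 17721421) (.node 1 (.leaf 17721425) (.leaf 16998473))) (.node 1 (.leaf 17242177) (.node 1 (.leaf 16920661) (.leaf 17567817))))
(.node 3 (.node 1 (.leaf 17510489) (.node 1 (.leaf 17643607) (.leaf 16934985))) (.node 1 (.leaf 17567825) (.node 1 (.leaf 17700951) (.leaf 17133633)))))))))
(.node 96 (.node 48 (.node 24 (.node 12 (.node 6 (.node 3 (.node 1 (.leaf 17440853) (.node 1 (.leaf 17705055) (.leaf 17002565))) (.node 1 (.leaf 17766491) (.node 1 (.leaf 17567839) (.leaf 17195083))))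
(.node 3 (.node 1 (.leaf 17246295) (.node 1 (.leaf 17446989) (.leaf 17705053))) (.node 1 (.leaf 17506389) (.node 1 (.leaf 17258573) (.leaf 17447001)))))
(.node 6 (.node 3 (.node 1 (.leaf 17641557) (.node 1 (.leaf 17195093) (.leaf 17109061))) (.node 1 (.leaf 17242179) (.node 1 (.leaf 17578069) (.leaf 17195097))))
(.node 3 (.node 1 (.leaf 17459267) (.node 1 (.leaf 17594447) (.leaf 17522753))) (.node 1 (.leaf 17135697) (.node 1 (.leaf 17461325) (.leaf 17584193))))))
(.node 12 (.node 6 (.node 3 (.node 1 (.leaf 17522775) (.node 1 (.leaf 17262669) (.leaf 16922695))) (.node 1 (.leaf 17176667) (.node 1 (.leaf 17766493) (.leaf 17567833))))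
(.node 3 (.node 1 (.leaf 17195085) (.node 1 (.leaf 17512537) (.leaf 17061959))) (.node 1 (.leaf 17594445) (.node 1 (.leaf 17002577) (.leaf 17111133)))))
(.node 6 (.node 3 (.node 1 (.leaf 16918617) (.node 1 (.leaf 17244241) (.leaf 17512521))) (.node 1 (.leaf 17461327) (.node 1 (.leaf 17584195) (.leaf 17002579))))
(.node 3 (.node 1 (.leaf 17193037) (.node 1 (.leaf 17117259) (.leaf 17244245))) (.node 1 (.leaf 17512525) (.node 1 (.leaf 17703005) (.leaf 17442903)))))))
(.node 24 (.node 12 (.node 6 (.node 3 (.node 1 (.leaf 17256525) (.node 1 (.leaf 17512539) (.leaf 17576023))) (.node 1 (.leaf 16932939) (.node 1 (.leaf 17766485) (.leaf 17195077))))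
(.node 3 (.node 1 (.leaf 17512529) (.node 1 (.leaf 17109079) (.leaf 17770563))) (.node 1 (.leaf 17700949) (.node 1 (.leaf 17133635) (.leaf 17770589)))))
(.node 6 (.node 3 (.node 1 (.leaf 17190989) (.node 1 (.leaf 17512523) (.leaf 17061973))) (.node 1 (.leaf 16922693) (.node 1 (.leaf 17117257) (.leaf 17508437))))
(.node 3 (.node 1 (.leaf 17109073) (.node 1 (.leaf 17770565) (.leaf 17567829))) (.node 1 (.leaf 17700947) (.node 1 (.leaf 17133637) (.leaf 17770587))))))
(.node 12 (.node 6 (.node 3 (.node 1 (.leaf 17440851) (.node 1 (.leaf 17190987) (.leaf 16922691))) (.node 1 (.leaf 17117263) (.node 1 (.leaf 17508435) (.leaf 17109075))))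
(.node 3 (.node 1 (.leaf 17242197) (.node 1 (.leaf 17578051) (.leaf 17195087))) (.node 1 (.leaf 17459285) (.node 1 (.leaf 17700945) (.leaf 17133639)))))
(.node 6 (.node 3 (.node 1 (.leaf 17242199) (.node 1 (.leaf 17702983) (.leaf 17133645))) (.node 1 (.leaf 17528915) (.node 1 (.leaf 17586269) (.leaf 17459289))))
(.node 3 (.node 1 (.leaf 17780819) (.node 1 (.leaf 17000515) (.leaf 17719387))) (.node 1 (.leaf 17461331) (.node 1 (.leaf 17127515) (.leaf 17180765))))))))
(.node 48 (.node 24 (.node 12 (.node 6 (.node 3 (.node 1 (.leaf 16922713) (.node 1 (.leaf 17117269) (.leaf 17508425))) (.node 1 (.leaf 17780821) (.node 1 (.leaf 17576027) (.leaf 16932935))))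
(.node 3 (.node 1 (.leaf 17117271) (.node 1 (.leaf 16988249) (.leaf 17569863))) (.node 1 (.leaf 16932931) (.node 1 (.leaf 17721433) (.leaf 17526867)))))
(.node 6 (.node 3 (.node 1 (.leaf 17190985) (.node 1 (.leaf 17586271) (.leaf 17784921))) (.node 1 (.leaf 16937055) (.node 1 (.leaf 17578049) (.leaf 17633365))))
(.node 3 (.node 1 (.leaf 17262657) (.node 1 (.leaf 17578073) (.leaf 17510485))) (.node 1 (.leaf 17440845) (.node 1 (.leaf 17190997) (.leaf 16982085))))))
(.node 12 (.node 6 (.node 3 (.node 1 (.leaf 17246287) (.node 1 (.leaf 17446997) (.leaf 17784905))) (.node 1 (.leaf 17043537) (.node 1 (.leaf 17702981) (.leaf 17133647))))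
(.node 3 (.node 1 (.leaf 17528913) (.node 1 (.leaf 17633367) (.leaf 17262659))) (.node 1 (.leaf 17457237) (.node 1 (.leaf 17715293) (.leaf 17528923)))))
(.node 6 (.node 3 (.node 1 (.leaf 17586261) (.node 1 (.leaf 16939077) (.leaf 17657945))) (.node 1 (.leaf 17524821) (.node 1 (.leaf 17256537) (.leaf 17119325))))
(.node 3 (.node 1 (.leaf 16982107) (.node 1 (.leaf 17246289) (.leaf 17446987))) (.node 1 (.leaf 17190983) (.node 1 (.leaf 17586257) (.leaf 17784919)))))))
(.node 24 (.node 12 (.node 6 (.node 3 (.node 1 (.leaf 17705049) (.node 1 (.leaf 17002563) (.leaf 17246291))) (.node 1 (.leaf 16916571) (.node 1 (.leaf 17698883) (.leaf 17659995))))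
(.node 3 (.node 1 (.leaf 17784923) (.node 1 (.leaf 17127499) (.leaf 17715295))) (.node 1 (.leaf 17592411) (.node 1 (.leaf 17784901) (.leaf 17000543)))))
(.node 6 (.node 3 (.node 1 (.leaf 17576001) (.node 1 (.leaf 16932957) (.leaf 17117261))) (.node 1 (.leaf 16988227) (.node 1 (.leaf 17569885) (.leaf 16932953))))
(.node 3 (.node 1 (.leaf 17721411) (.node 1 (.leaf 17526857) (.leaf 17190995))) (.node 1 (.leaf 17586245) (.node 1 (.leaf 17784899) (.leaf 16937029))))))
(.node 12 (.node 6 (.node 3 (.node 1 (.leaf 17043529) (.node 1 (.leaf 17576003) (.leaf 17125459))) (.node 1 (.leaf 17508421) (.node 1 (.leaf 17702989) (.leaf 16937045))))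
(.node 3 (.node 1 (.leaf 16988225) (.node 1 (.leaf 17569887) (.leaf 17446991))) (.node 1 (.leaf 17764419) (.node 1 (.leaf 17135703) (.leaf 17703003)))))
(.node 6 (.node 3 (.node 1 (.leaf 17244243) (.node 1 (.leaf 16984153) (.leaf 16937031))) (.node 1 (.leaf 17594457) (.node 1 (.leaf 17127513) (.leaf 17180767))))
(.node 3 (.node 1 (.leaf 17256539) (.node 1 (.leaf 17119327) (.leaf 17180755))) (.node 1 (.leaf 17766467) (.node 1 (.leaf 16937047) (.leaf 17043547))))))))))

/-- The stabiliser. -/
def caseDFullN1ElsLR : Tab ℕ :=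
(.node 192 (.node 96 (.node 48 (.node 24 (.node 12 (.node 6 (.node 3 (.node 1 (.leaf 17526859) (.node 1 (.leaf 17135701) (.leaf 16918619))) (.node 1 (.leaf 17578075) (.node 1 (.leaf 17510487) (.leaf 17070149))))
(.node 3 (.node 1 (.leaf 17703001) (.node 1 (.leaf 17442899) (.leaf 17256521))) (.node 1 (.leaf 17510479) (.node 1 (.leaf 17127507) (.leaf 16920643)))))
(.node 6 (.node 3 (.node 1 (.leaf 17053773) (.node 1 (.leaf 17506387) (.leaf 17715277))) (.node 1 (.leaf 17592393) (.node 1 (.leaf 17000527) (.leaf 17719383))))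
(.node 3 (.node 1 (.leaf 17461343) (.node 1 (.leaf 17127511) (.leaf 17180753))) (.node 1 (.leaf 17260621) (.node 1 (.leaf 16988229) (.leaf 17719381))))))
(.node 12 (.node 6 (.node 3 (.node 1 (.leaf 16934991) (.node 1 (.leaf 17240133) (.leaf 17051727))) (.node 1 (.leaf 17256523) (.node 1 (.leaf 17119311) (.leaf 17180739))))
(.node 3 (.node 1 (.leaf 16982091) (.node 1 (.leaf 17176663) (.leaf 17641537))) (.node 1 (.leaf 17262671) (.node 1 (.leaf 17457239) (.leaf 17528921)))))
(.node 6 (.node 3 (.node 1 (.leaf 17586263) (.node 1 (.leaf 16939079) (.leaf 17657947))) (.node 1 (.leaf 17524823) (.node 1 (.leaf 17766481) (.leaf 17070151))))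
(.node 3 (.node 1 (.leaf 17442897) (.node 1 (.leaf 17442893) (.leaf 17256535))) (.node 1 (.leaf 16984135) (.node 1 (.leaf 17178703) (.leaf 17444951)))))))
(.node 24 (.node 12 (.node 6 (.node 3 (.node 1 (.leaf 17651791) (.node 1 (.leaf 17721417) (.leaf 16939085))) (.node 1 (.leaf 17657937) (.node 1 (.leaf 17524829) (.leaf 17256529))))
(.node 3 (.node 1 (.leaf 17119317) (.node 1 (.leaf 17068111) (.leaf 16916547))) (.node 1 (.leaf 17657939) (.node 1 (.leaf 17004621) (.leaf 17045571)))))
(.node 6 (.node 3 (.node 1 (.leaf 16916551) (.node 1 (.leaf 17180749) (.leaf 17119309))) (.node 1 (.leaf 17061963) (.node 1 (.leaf 17244237) (.leaf 17119303))))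
(.node 3 (.node 1 (.leaf 16920651) (.node 1 (.leaf 17260609) (.leaf 16988233))) (.node 1 (.leaf 17719385) (.node 1 (.leaf 16934979) (.leaf 17240137))))))
(.node 12 (.node 6 (.node 3 (.node 1 (.leaf 16988239) (.node 1 (.leaf 17051715) (.leaf 17440863))) (.node 1 (.leaf 17127493) (.node 1 (.leaf 17586259) (.leaf 17256519))))
(.node 3 (.node 1 (.leaf 17119299) (.node 1 (.leaf 16982087) (.leaf 17766495))) (.node 1 (.leaf 17260611) (.node 1 (.leaf 17524825) (.leaf 17717331)))))
(.node 6 (.node 3 (.node 1 (.leaf 17461319) (.node 1 (.leaf 17070169) (.leaf 16982103))) (.node 1 (.leaf 16934977) (.node 1 (.leaf 17240139) (.leaf 17524827))))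
(.node 3 (.node 1 (.leaf 17111107) (.node 1 (.leaf 17705045) (.leaf 17070157))) (.node 1 (.leaf 16982083) (.node 1 (.leaf 17659987) (.leaf 16937039))))))))
(.node 48 (.node 24 (.node 12 (.node 6 (.node 3 (.node 1 (.leaf 17043523) (.node 1 (.leaf 16982105) (.leaf 17715279))) (.node 1 (.leaf 17592395) (.node 1 (.leaf 17651789) (.leaf 17592403))))
(.node 3 (.node 1 (.leaf 16982101) (.node 1 (.leaf 17766477) (.leaf 17440861))) (.node 1 (.leaf 17705047) (.node 1 (.leaf 17002573) (.leaf 17576025)))))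
(.node 6 (.node 3 (.node 1 (.leaf 17446999) (.node 1 (.leaf 17125449) (.leaf 17508447))) (.node 1 (.leaf 17702999) (.node 1 (.leaf 16988251) (.leaf 17569861))))
(.node 3 (.node 1 (.leaf 17000517) (.node 1 (.leaf 17764441) (.leaf 17135693))) (.node 1 (.leaf 17702977) (.node 1 (.leaf 17244233) (.leaf 16984131))))))
(.node 12 (.node 6 (.node 3 (.node 1 (.leaf 17700953) (.node 1 (.leaf 16937053) (.leaf 17594435))) (.node 1 (.leaf 17190977) (.node 1 (.leaf 17784913) (.leaf 17127491))))
(.node 3 (.node 1 (.leaf 17180741) (.node 1 (.leaf 17256513) (.leaf 17119301))) (.node 1 (.leaf 17180745) (.node 1 (.leaf 16982081) (.leaf 17766489)))))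
(.node 6 (.node 3 (.node 1 (.leaf 17526865) (.node 1 (.leaf 17135695) (.leaf 16918593))) (.node 1 (.leaf 17176655) (.node 1 (.leaf 17125451) (.leaf 17051735))))
(.node 3 (.node 1 (.leaf 17440843) (.node 1 (.leaf 17125441) (.leaf 17782871))) (.node 1 (.leaf 17594449) (.node 1 (.leaf 17721437) (.leaf 17262663)))))))
(.node 24 (.node 12 (.node 6 (.node 3 (.node 1 (.leaf 17457247) (.node 1 (.leaf 17715287) (.leaf 17135711))) (.node 1 (.leaf 16918609) (.node 1 (.leaf 17641563) (.leaf 17000519))))
(.node 3 (.node 1 (.leaf 17764443) (.node 1 (.leaf 17051733) (.leaf 17440841))) (.node 1 (.leaf 17174599) (.node 1 (.leaf 17045569) (.leaf 17768535)))))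
(.node 6 (.node 3 (.node 1 (.leaf 17135709) (.node 1 (.leaf 17584205) (.leaf 17457243))) (.node 1 (.leaf 17715283) (.node 1 (.leaf 17526853) (.leaf 17135707))))
(.node 3 (.node 1 (.leaf 16918613) (.node 1 (.leaf 16998465) (.leaf 17242185))) (.node 1 (.leaf 17457241) (.node 1 (.leaf 17197123) (.leaf 16986185))))))
(.node 12 (.node 6 (.node 3 (.node 1 (.leaf 16918595) (.node 1 (.leaf 17594451) (.leaf 17002575))) (.node 1 (.leaf 17244239) (.node 1 (.leaf 17180737) (.leaf 16982089))))
(.node 3 (.node 1 (.leaf 17526873) (.node 1 (.leaf 17135687) (.leaf 16918601))) (.node 1 (.leaf 17592409) (.node 1 (.leaf 17784903) (.leaf 17000541)))))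
(.node 6 (.node 3 (.node 1 (.leaf 16920649) (.node 1 (.leaf 17176645) (.leaf 17770581))) (.node 1 (.leaf 17526851) (.node 1 (.leaf 16918611) (.leaf 17594433))))
(.node 3 (.node 1 (.leaf 17522767) (.node 1 (.leaf 17461315) (.leaf 17584207))) (.node 1 (.leaf 17522777) (.node 1 (.leaf 16922697) (.leaf 17127503)))))))))
(.node 96 (.node 48 (.node 24 (.node 12 (.node 6 (.node 3 (.node 1 (.leaf 17715291) (.node 1 (.leaf 17592415) (.leaf 17784897))) (.node 1 (.leaf 17000539) (.node 1 (.leaf 17119305) (.leaf 17715289))))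
(.node 3 (.node 1 (.leaf 16920655) (.node 1 (.leaf 17459295) (.leaf 17260615))) (.node 1 (.leaf 17770579) (.node 1 (.leaf 17594439) (.leaf 17522761)))))
(.node 6 (.node 3 (.node 1 (.leaf 17135705) (.node 1 (.leaf 17461317) (.leaf 17584201))) (.node 1 (.leaf 17522783) (.node 1 (.leaf 17262661) (.leaf 16922703))))
(.node 3 (.node 1 (.leaf 17592413) (.node 1 (.leaf 17651803) (.leaf 17592389))) (.node 1 (.leaf 16939099) (.node 1 (.leaf 17705025) (.leaf 17002587))))))
(.node 12 (.node 6 (.node 3 (.node 1 (.leaf 17061965) (.node 1 (.leaf 17244235) (.leaf 17119297))) (.node 1 (.leaf 16920653) (.node 1 (.leaf 17651801) (.leaf 17721439))))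
(.node 3 (.node 1 (.leaf 16998491) (.node 1 (.leaf 17242195) (.leaf 16920647))) (.node 1 (.leaf 17567835) (.node 1 (.leaf 17510475) (.leaf 17643589)))))
(.node 6 (.node 3 (.node 1 (.leaf 16935003) (.node 1 (.leaf 17700933) (.leaf 17133651))) (.node 1 (.leaf 17440839) (.node 1 (.leaf 17705037) (.leaf 17002583))))
(.node 3 (.node 1 (.leaf 17567821) (.node 1 (.leaf 17246277) (.leaf 17447007))) (.node 1 (.leaf 17705039) (.node 1 (.leaf 17506375) (.leaf 17258591)))))))
(.node 24 (.node 12 (.node 6 (.node 3 (.node 1 (.leaf 17641543) (.node 1 (.leaf 17242193) (.leaf 17578055))) (.node 1 (.leaf 17459281) (.node 1 (.leaf 17594461) (.leaf 17522771))))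
(.node 3 (.node 1 (.leaf 17135683) (.node 1 (.leaf 17584211) (.leaf 17522757))) (.node 1 (.leaf 17262687) (.node 1 (.leaf 16922709) (.leaf 17766479)))))
(.node 6 (.node 3 (.node 1 (.leaf 17567819) (.node 1 (.leaf 17195103) (.leaf 17594463))) (.node 1 (.leaf 17111119) (.node 1 (.leaf 16918603) (.leaf 17244227))))
(.node 3 (.node 1 (.leaf 17461341) (.node 1 (.leaf 17584209) (.leaf 17002561))) (.node 1 (.leaf 17193055) (.node 1 (.leaf 17117273) (.leaf 17244231))))))
(.node 12 (.node 6 (.node 3 (.node 1 (.leaf 17702991) (.node 1 (.leaf 17442885) (.leaf 17576005))) (.node 1 (.leaf 17770577) (.node 1 (.leaf 17700935) (.leaf 17133649))))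
(.node 3 (.node 1 (.leaf 17770575) (.node 1 (.leaf 17191007) (.leaf 16922711))) (.node 1 (.leaf 17117275) (.node 1 (.leaf 17508423) (.leaf 17592391)))))
(.node 6 (.node 3 (.node 1 (.leaf 16939097) (.node 1 (.leaf 17051723) (.leaf 17244229))) (.node 1 (.leaf 16984143) (.node 1 (.leaf 16939073) (.leaf 17109071))))
(.node 3 (.node 1 (.leaf 17528927) (.node 1 (.leaf 17068099) (.leaf 16916559))) (.node 1 (.leaf 17459265) (.node 1 (.leaf 17260633) (.leaf 16988241))))))))
(.node 48 (.node 24 (.node 12 (.node 6 (.node 3 (.node 1 (.leaf 17109081) (.node 1 (.leaf 17770573) (.leaf 17719363))) (.node 1 (.leaf 17461323) (.node 1 (.leaf 17260635) (.leaf 17524801))))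
(.node 3 (.node 1 (.leaf 17717323) (.node 1 (.leaf 17070145) (.leaf 17770591))) (.node 1 (.leaf 17440855) (.node 1 (.leaf 17780825) (.leaf 17659997)))))
(.node 6 (.node 3 (.node 1 (.leaf 17721409) (.node 1 (.leaf 16998489) (.leaf 16920645))) (.node 1 (.leaf 17510473) (.node 1 (.leaf 17643591) (.leaf 16935001))))
(.node 3 (.node 1 (.leaf 17051721) (.node 1 (.leaf 16984141) (.leaf 17442889))) (.node 1 (.leaf 17768513) (.node 1 (.leaf 17004633) (.leaf 17633345))))))
(.node 12 (.node 6 (.node 3 (.node 1 (.leaf 17262677) (.node 1 (.leaf 17510467) (.leaf 17643597))) (.node 1 (.leaf 16934995) (.node 1 (.leaf 17700941) (.leaf 17133659))))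
(.node 3 (.node 1 (.leaf 17053761) (.node 1 (.leaf 17506399) (.leaf 17643599))) (.node 1 (.leaf 17444931) (.node 1 (.leaf 17059935) (.leaf 17506377)))))
(.node 6 (.node 3 (.node 1 (.leaf 17043543) (.node 1 (.leaf 17702979) (.leaf 17133641))) (.node 1 (.leaf 17528919) (.node 1 (.leaf 17719389) (.leaf 17461333))))
(.node 3 (.node 1 (.leaf 17260613) (.node 1 (.leaf 17524831) (.leaf 17717333))) (.node 1 (.leaf 17070175) (.node 1 (.leaf 17109067) (.leaf 17567823)))))))
(.node 24 (.node 12 (.node 6 (.node 3 (.node 1 (.leaf 17700937) (.node 1 (.leaf 17190993) (.leaf 17719391))) (.node 1 (.leaf 16934981) (.node 1 (.leaf 17240143) (.leaf 17051717))))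
(.node 3 (.node 1 (.leaf 17717335) (.node 1 (.leaf 16934983) (.leaf 17125471))) (.node 1 (.leaf 17246299) (.node 1 (.leaf 17641551) (.leaf 17512513)))))
(.node 6 (.node 3 (.node 1 (.leaf 17440837) (.node 1 (.leaf 17578071) (.leaf 17633347))) (.node 1 (.leaf 17578063) (.node 1 (.leaf 17440859) (.leaf 17190979))))
(.node 3 (.node 1 (.leaf 16982099) (.node 1 (.leaf 17246297) (.leaf 17446979))) (.node 1 (.leaf 17594437) (.node 1 (.leaf 17002585) (.leaf 17111125))))))
(.node 12 (.node 6 (.node 3 (.node 1 (.leaf 17584203) (.node 1 (.leaf 17193029) (.leaf 17117251))) (.node 1 (.leaf 17244253) (.node 1 (.leaf 17442911) (.leaf 17256517))))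
(.node 3 (.node 1 (.leaf 17512531) (.node 1 (.leaf 17576031) (.leaf 17109087))) (.node 1 (.leaf 17770571) (.node 1 (.leaf 17700957) (.leaf 17133643)))))
(.node 6 (.node 3 (.node 1 (.leaf 17190981) (.node 1 (.leaf 16922701) (.leaf 17117249))) (.node 1 (.leaf 17508445) (.node 1 (.leaf 17111127) (.leaf 17174617))))
(.node 3 (.node 1 (.leaf 17576013) (.node 1 (.leaf 17262675) (.leaf 16998481))) (.node 1 (.leaf 17242201) (.node 1 (.leaf 17117265) (.leaf 17508429))))))))))

/-- The stabiliser. -/
def caseDFullN1ElsL : Tab ℕ := .node 384 caseDFullN1ElsLL caseDFullN1ElsLR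

/-- The stabiliser. -/
def caseDFullN1ElsRL : Tab ℕ :=
(.node 192 (.node 96 (.node 48 (.node 24 (.node 12 (.node 6 (.node 3 (.node 1 (.leaf 17659975) (.node 1 (.leaf 17459273) (.leaf 17193031))) (.node 1 (.leaf 17070171) (.node 1 (.leaf 17782857) (.leaf 17059933))))
(.node 3 (.node 1 (.leaf 17178713) (.node 1 (.leaf 17117267) (.leaf 17569859))) (.node 1 (.leaf 16998471) (.node 1 (.leaf 17242191) (.leaf 17457245)))))
(.node 6 (.node 3 (.node 1 (.leaf 17715285) (.node 1 (.leaf 16998469) (.leaf 17786975))) (.node 1 (.leaf 17463381) (.node 1 (.leaf 17576015) (.leaf 17446977))))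
(.node 3 (.node 1 (.leaf 17578053) (.node 1 (.leaf 17195081) (.leaf 17459283))) (.node 1 (.leaf 17528917) (.node 1 (.leaf 17780811) (.leaf 17180763))))))
(.node 12 (.node 6 (.node 3 (.node 1 (.leaf 16922719) (.node 1 (.leaf 17508431) (.leaf 17576029))) (.node 1 (.leaf 16932929) (.node 1 (.leaf 16988255) (.leaf 17569857))))
(.node 3 (.node 1 (.leaf 16932933) (.node 1 (.leaf 17526869) (.leaf 16939075))) (.node 1 (.leaf 17109069) (.node 1 (.leaf 17528925) (.leaf 17068097)))))
(.node 6 (.node 3 (.node 1 (.leaf 16916557) (.node 1 (.leaf 17633363) (.leaf 17242189))) (.node 1 (.leaf 17197127) (.node 1 (.leaf 16986189) (.leaf 17702995))))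
(.node 3 (.node 1 (.leaf 17528901) (.node 1 (.leaf 17068121) (.leaf 16916565))) (.node 1 (.leaf 17657927) (.node 1 (.leaf 17524811) (.leaf 17068123)))))))
(.node 24 (.node 12 (.node 6 (.node 3 (.node 1 (.leaf 17463365) (.node 1 (.leaf 17649739) (.leaf 17633361))) (.node 1 (.leaf 17578077) (.node 1 (.leaf 17510481) (.leaf 17246281))))
(.node 3 (.node 1 (.leaf 17446995) (.node 1 (.leaf 17705027) (.leaf 17506379))) (.node 1 (.leaf 17258579) (.node 1 (.leaf 17446983) (.leaf 17109083)))))
(.node 6 (.node 3 (.node 1 (.leaf 17242205) (.node 1 (.leaf 17578059) (.leaf 17459293))) (.node 1 (.leaf 17780823) (.node 1 (.leaf 17246283) (.leaf 17698907))))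
(.node 3 (.node 1 (.leaf 17002589) (.node 1 (.leaf 17258577) (.leaf 16916545))) (.node 1 (.leaf 17719375) (.node 1 (.leaf 17526855) (.leaf 17043525))))))
(.node 12 (.node 6 (.node 3 (.node 1 (.leaf 17702993) (.node 1 (.leaf 17459279) (.leaf 17780805))) (.node 1 (.leaf 17000533) (.node 1 (.leaf 17719373) (.leaf 17784925))))
(.node 3 (.node 1 (.leaf 16937051) (.node 1 (.leaf 16984129) (.leaf 17700955))) (.node 1 (.leaf 17442891) (.node 1 (.leaf 17768515) (.leaf 17004635)))))
(.node 6 (.node 3 (.node 1 (.leaf 17510465) (.node 1 (.leaf 16934993) (.leaf 17700943))) (.node 1 (.leaf 17133657) (.node 1 (.leaf 17053763) (.leaf 17506397))))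
(.node 3 (.node 1 (.leaf 17444929) (.node 1 (.leaf 17051713) (.leaf 17197125))) (.node 1 (.leaf 16986191) (.node 1 (.leaf 17457219) (.leaf 17197145))))))))
(.node 48 (.node 24 (.node 12 (.node 6 (.node 3 (.node 1 (.leaf 16986195) (.node 1 (.leaf 17043545) (.leaf 17786945))) (.node 1 (.leaf 17463371) (.node 1 (.leaf 17197147) (.leaf 17522755))))
(.node 3 (.node 1 (.leaf 17782859) (.node 1 (.leaf 17463391) (.leaf 17070147))) (.node 1 (.leaf 17703007) (.node 1 (.leaf 17442901) (.leaf 17053769)))))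
(.node 6 (.node 3 (.node 1 (.leaf 17506391) (.node 1 (.leaf 17444939) (.leaf 17059927))) (.node 1 (.leaf 17506369) (.node 1 (.leaf 16939089) (.leaf 17242203))))
(.node 3 (.node 1 (.leaf 17043551) (.node 1 (.leaf 17702987) (.leaf 17053771))) (.node 1 (.leaf 16986183) (.node 1 (.leaf 17635419) (.leaf 16935007))))))
(.node 12 (.node 6 (.node 3 (.node 1 (.leaf 17528911) (.node 1 (.leaf 17444937) (.leaf 17059925))) (.node 1 (.leaf 16986181) (.node 1 (.leaf 17657933) (.leaf 17528907))))
(.node 3 (.node 1 (.leaf 17195099) (.node 1 (.leaf 17528903) (.leaf 17262683))) (.node 1 (.leaf 17528909) (.node 1 (.leaf 17586243) (.leaf 16939091)))))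
(.node 6 (.node 3 (.node 1 (.leaf 17657935) (.node 1 (.leaf 17524803) (.leaf 17246279))) (.node 1 (.leaf 17698903) (.node 1 (.leaf 17659983) (.leaf 17506373))))
(.node 3 (.node 1 (.leaf 17258589) (.node 1 (.leaf 17510493) (.leaf 17584199))) (.node 1 (.leaf 17659977) (.node 1 (.leaf 17070167) (.leaf 17651783)))))))
(.node 24 (.node 12 (.node 6 (.node 3 (.node 1 (.leaf 17260619) (.node 1 (.leaf 17109065) (.leaf 17700939))) (.node 1 (.leaf 17133661) (.node 1 (.leaf 17528905) (.leaf 17586247))))
(.node 3 (.node 1 (.leaf 17000537) (.node 1 (.leaf 17719361) (.leaf 17461321))) (.node 1 (.leaf 17127489) (.node 1 (.leaf 17698901) (.leaf 16939093)))))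
(.node 6 (.node 3 (.node 1 (.leaf 17698889) (.node 1 (.leaf 17569871) (.leaf 17641555))) (.node 1 (.leaf 17051743) (.node 1 (.leaf 17633359) (.leaf 17719377))))
(.node 3 (.node 1 (.leaf 17461337) (.node 1 (.leaf 17510495) (.leaf 17584197))) (.node 1 (.leaf 16939095) (.node 1 (.leaf 17719379) (.leaf 17240131))))))
(.node 12 (.node 6 (.node 3 (.node 1 (.leaf 17633371) (.node 1 (.leaf 17719365) (.leaf 17061975))) (.node 1 (.leaf 17508439) (.node 1 (.leaf 17578079) (.leaf 17510483))))
(.node 3 (.node 1 (.leaf 17000523) (.node 1 (.leaf 17461339) (.leaf 17260617))) (.node 1 (.leaf 16934987) (.node 1 (.leaf 17240129) (.leaf 16988231)))))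
(.node 6 (.node 3 (.node 1 (.leaf 17111117) (.node 1 (.leaf 16982093) (.leaf 17111111))) (.node 1 (.leaf 17174595) (.node 1 (.leaf 17262665) (.leaf 17721427))))
(.node 3 (.node 1 (.leaf 16998475) (.node 1 (.leaf 17193053) (.leaf 17246275))) (.node 1 (.leaf 17782867) (.node 1 (.leaf 17059911) (.leaf 17178691)))))))))
(.node 96 (.node 48 (.node 24 (.node 12 (.node 6 (.node 3 (.node 1 (.leaf 17569881) (.node 1 (.leaf 17721413) (.leaf 16998493))) (.node 1 (.leaf 17457223) (.node 1 (.leaf 16998495) (.leaf 17786949))))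
(.node 3 (.node 1 (.leaf 17463375) (.node 1 (.leaf 17061957) (.leaf 17576021))) (.node 1 (.leaf 17447003) (.node 1 (.leaf 17125445) (.leaf 17770585)))))
(.node 6 (.node 3 (.node 1 (.leaf 17770567) (.node 1 (.leaf 17440847) (.leaf 17190999))) (.node 1 (.leaf 17195091) (.node 1 (.leaf 17780803) (.leaf 17242187))))
(.node 3 (.node 1 (.leaf 17586241) (.node 1 (.leaf 17459269) (.leaf 17719367))) (.node 1 (.leaf 17780817) (.node 1 (.leaf 17127495) (.leaf 17576007))))))
(.node 12 (.node 6 (.node 3 (.node 1 (.leaf 16932955) (.node 1 (.leaf 17569883) (.leaf 16932959))) (.node 1 (.leaf 17526863) (.node 1 (.leaf 17111109) (.leaf 17174593))))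
(.node 3 (.node 1 (.leaf 17651795) (.node 1 (.leaf 17260639) (.leaf 16988247))) (.node 1 (.leaf 17174603) (.node 1 (.leaf 17764431) (.leaf 17635401)))))
(.node 6 (.node 3 (.node 1 (.leaf 17197151) (.node 1 (.leaf 17446985) (.leaf 17125463))) (.node 1 (.leaf 17442881) (.node 1 (.leaf 16984137) (.leaf 17442883))))
(.node 3 (.node 1 (.leaf 17768523) (.node 1 (.leaf 17004627) (.leaf 17633355))) (.node 1 (.leaf 16988245) (.node 1 (.leaf 17569867) (.leaf 16932943)))))))
(.node 24 (.node 12 (.node 6 (.node 3 (.node 1 (.leaf 17721429) (.node 1 (.leaf 16937025) (.leaf 17043533))) (.node 1 (.leaf 17246273) (.node 1 (.leaf 17782865) (.leaf 17059909))))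
(.node 3 (.node 1 (.leaf 17178689) (.node 1 (.leaf 17526877) (.leaf 17651793))) (.node 1 (.leaf 17260637) (.node 1 (.leaf 17786959) (.leaf 17717321)))))
(.node 6 (.node 3 (.node 1 (.leaf 17786961) (.node 1 (.leaf 16932937) (.leaf 17569865))) (.node 1 (.leaf 17569873) (.node 1 (.leaf 17764437) (.leaf 17442887))))
(.node 3 (.node 1 (.leaf 17768527) (.node 1 (.leaf 17004631) (.leaf 17576019))) (.node 1 (.leaf 17117279) (.node 1 (.leaf 17526875) (.leaf 17178695))))))
(.node 12 (.node 6 (.node 3 (.node 1 (.leaf 17444959) (.node 1 (.leaf 17768525) (.leaf 17004629))) (.node 1 (.leaf 17178693) (.node 1 (.leaf 17721415) (.leaf 17125461))))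
(.node 3 (.node 1 (.leaf 17262681) (.node 1 (.leaf 17457217) (.leaf 16932947))) (.node 1 (.leaf 16988237) (.node 1 (.leaf 17569875) (.leaf 16932951)))))
(.node 6 (.node 3 (.node 1 (.leaf 17578061) (.node 1 (.leaf 17784911) (.leaf 16932941))) (.node 1 (.leaf 17721431) (.node 1 (.leaf 17125447) (.leaf 17508433))))
(.node 3 (.node 1 (.leaf 17764439) (.node 1 (.leaf 16937043) (.leaf 17578067))) (.node 1 (.leaf 17633351) (.node 1 (.leaf 17510471) (.leaf 17246301))))))))
(.node 48 (.node 24 (.node 12 (.node 6 (.node 3 (.node 1 (.leaf 17528899) (.node 1 (.leaf 17633349) (.leaf 17262673))) (.node 1 (.leaf 17657931) (.node 1 (.leaf 17524807) (.leaf 17705035))))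
(.node 3 (.node 1 (.leaf 16916553) (.node 1 (.leaf 17698897) (.leaf 17000525))) (.node 1 (.leaf 17576017) (.node 1 (.leaf 16988243) (.leaf 17569869)))))
(.node 6 (.node 3 (.node 1 (.leaf 17447005) (.node 1 (.leaf 17764433) (.leaf 17135685))) (.node 1 (.leaf 17702985) (.node 1 (.leaf 17244225) (.leaf 16984139))))
(.node 3 (.node 1 (.leaf 17594443) (.node 1 (.leaf 17578057) (.leaf 17510469))) (.node 1 (.leaf 16920657) (.node 1 (.leaf 17053791) (.leaf 16935005))))))
(.node 12 (.node 6 (.node 3 (.node 1 (.leaf 17240151) (.node 1 (.leaf 17051741) (.leaf 17262685))) (.node 1 (.leaf 17457221) (.node 1 (.leaf 17657929) (.leaf 17524805))))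
(.node 3 (.node 1 (.leaf 17070165) (.node 1 (.leaf 16984149) (.leaf 17178717))) (.node 1 (.leaf 17444933) (.node 1 (.leaf 17651805) (.leaf 17721435)))))
(.node 6 (.node 3 (.node 1 (.leaf 16939103) (.node 1 (.leaf 17657923) (.leaf 17524815))) (.node 1 (.leaf 17256515) (.node 1 (.leaf 17068125) (.leaf 16916561))))
(.node 3 (.node 1 (.leaf 17657921) (.node 1 (.leaf 17004639) (.leaf 17045585))) (.node 1 (.leaf 17061977) (.node 1 (.leaf 17244255) (.leaf 16920665)))))))
(.node 24 (.node 12 (.node 6 (.node 3 (.node 1 (.leaf 17260627) (.node 1 (.leaf 17719371) (.leaf 17240155))) (.node 1 (.leaf 17051729) (.node 1 (.leaf 17256533) (.leaf 17260625))))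
(.node 3 (.node 1 (.leaf 17717313) (.node 1 (.leaf 17070155) (.leaf 17240153))) (.node 1 (.leaf 17524809) (.node 1 (.leaf 17111121) (.leaf 17705031)))))
(.node 6 (.node 3 (.node 1 (.leaf 17659969) (.node 1 (.leaf 17651807) (.leaf 17592385))) (.node 1 (.leaf 17705029) (.node 1 (.leaf 17002591) (.leaf 17576011))))
(.node 3 (.node 1 (.leaf 17446981) (.node 1 (.leaf 17125467) (.leaf 17569879))) (.node 1 (.leaf 17764427) (.node 1 (.leaf 16984145) (.leaf 17127505))))))
(.node 12 (.node 6 (.node 3 (.node 1 (.leaf 17180759) (.node 1 (.leaf 17256531) (.leaf 17119319))) (.node 1 (.leaf 17766475) (.node 1 (.leaf 17125465) (.leaf 17782853))))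
(.node 3 (.node 1 (.leaf 17457229) (.node 1 (.leaf 17715269) (.leaf 17641545))) (.node 1 (.leaf 17764425) (.node 1 (.leaf 17051719) (.leaf 17174613)))))
(.node 6 (.node 3 (.node 1 (.leaf 17045587) (.node 1 (.leaf 17768517) (.leaf 17584223))) (.node 1 (.leaf 17457225) (.node 1 (.leaf 17715265) (.leaf 16998483))))
(.node 3 (.node 1 (.leaf 17457227) (.node 1 (.leaf 17197137) (.leaf 16986203))) (.node 1 (.leaf 17784917) (.node 1 (.leaf 16920667) (.leaf 17522781))))))))))

/-- The stabiliser. -/
def caseDFullN1ElsRR : Tab ℕ :=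
(.node 192 (.node 96 (.node 48 (.node 24 (.node 12 (.node 6 (.node 3 (.node 1 (.leaf 17461329) (.node 1 (.leaf 17584221) (.leaf 17522763))) (.node 1 (.leaf 16922715) (.node 1 (.leaf 16920659) (.leaf 17053789))))
(.node 3 (.node 1 (.leaf 17506371) (.node 1 (.leaf 17715267) (.leaf 17786953))) (.node 1 (.leaf 17463363) (.node 1 (.leaf 17053765) (.leaf 17506395)))))
(.node 6 (.node 3 (.node 1 (.leaf 17643593) (.node 1 (.leaf 16934999) (.leaf 17053767))) (.node 1 (.leaf 16986187) (.node 1 (.leaf 17635415) (.leaf 17246303))))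
(.node 3 (.node 1 (.leaf 16916567) (.node 1 (.leaf 17698895) (.leaf 17000531))) (.node 1 (.leaf 17176665) (.node 1 (.leaf 17258567) (.leaf 17698893))))))
(.node 12 (.node 6 (.node 3 (.node 1 (.leaf 17000513) (.node 1 (.leaf 17176651) (.leaf 17459291))) (.node 1 (.leaf 17512519) (.node 1 (.leaf 17442909) (.leaf 16984151))))
(.node 3 (.node 1 (.leaf 17178719) (.node 1 (.leaf 17444935) (.leaf 16939101))) (.node 1 (.leaf 17524813) (.node 1 (.leaf 17068127) (.leaf 16916563)))))
(.node 6 (.node 3 (.node 1 (.leaf 17004637) (.node 1 (.leaf 17070173) (.leaf 17786955))) (.node 1 (.leaf 17463361) (.node 1 (.leaf 17197149) (.leaf 16986199))))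
(.node 3 (.node 1 (.leaf 17786951) (.node 1 (.leaf 17174615) (.leaf 16986193))) (.node 1 (.leaf 16984155) (.node 1 (.leaf 17068117) (.leaf 16916569)))))))
(.node 24 (.node 12 (.node 6 (.node 3 (.node 1 (.leaf 17045593) (.node 1 (.leaf 16916573) (.leaf 17510477))) (.node 1 (.leaf 17715271) (.node 1 (.leaf 17061969) (.leaf 17244247))))
(.node 3 (.node 1 (.leaf 17068119) (.node 1 (.leaf 17463369) (.leaf 17649735))) (.node 1 (.leaf 17524817) (.node 1 (.leaf 16920641) (.leaf 17045595)))))
(.node 6 (.node 3 (.node 1 (.leaf 17643587) (.node 1 (.leaf 16920663) (.leaf 17643585))) (.node 1 (.leaf 17705033) (.node 1 (.leaf 17258585) (.leaf 16916555))))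
(.node 3 (.node 1 (.leaf 17698899) (.node 1 (.leaf 17051737) (.leaf 17633353))) (.node 1 (.leaf 17127509) (.node 1 (.leaf 17109085) (.leaf 17258587))))))
(.node 12 (.node 6 (.node 3 (.node 1 (.leaf 17510491) (.node 1 (.leaf 17258581) (.leaf 17070161))) (.node 1 (.leaf 17651777) (.node 1 (.leaf 17260623) (.leaf 17717343))))
(.node 3 (.node 1 (.leaf 17592401) (.node 1 (.leaf 16939087) (.leaf 17459287))) (.node 1 (.leaf 17717341) (.node 1 (.leaf 17125443) (.leaf 17440835)))))
(.node 6 (.node 3 (.node 1 (.leaf 17782879) (.node 1 (.leaf 17764435) (.leaf 17174607))) (.node 1 (.leaf 17045577) (.node 1 (.leaf 17768543) (.leaf 17262667))))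
(.node 3 (.node 1 (.leaf 17457235) (.node 1 (.leaf 17457233) (.leaf 17197131))) (.node 1 (.leaf 16986177) (.node 1 (.leaf 17043531) (.leaf 17594459))))))))
(.node 48 (.node 24 (.node 12 (.node 6 (.node 3 (.node 1 (.leaf 17002567) (.node 1 (.leaf 17111115) (.leaf 17176671))) (.node 1 (.leaf 17567837) (.node 1 (.leaf 17176653) (.leaf 17594441))))
(.node 3 (.node 1 (.leaf 17522759) (.node 1 (.leaf 17522769) (.leaf 16922689))) (.node 1 (.leaf 17782877) (.node 1 (.leaf 17193025) (.leaf 17649749)))))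
(.node 6 (.node 3 (.node 1 (.leaf 17002581) (.node 1 (.leaf 17111129) (.leaf 16984157))) (.node 1 (.leaf 16984159) (.node 1 (.leaf 17178711) (.leaf 17444943))))
(.node 3 (.node 1 (.leaf 17651799) (.node 1 (.leaf 17584215) (.leaf 17512541))) (.node 1 (.leaf 17061955) (.node 1 (.leaf 17174605) (.leaf 17045579))))))
(.node 12 (.node 6 (.node 3 (.node 1 (.leaf 17768541) (.node 1 (.leaf 16922707) (.leaf 17633357))) (.node 1 (.leaf 17197121) (.node 1 (.leaf 17240149) (.leaf 17197133))))
(.node 3 (.node 1 (.leaf 17522773) (.node 1 (.leaf 17584213) (.leaf 17193051))) (.node 1 (.leaf 17444953) (.node 1 (.leaf 17768521) (.leaf 17004625)))))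
(.node 6 (.node 3 (.node 1 (.leaf 17444955) (.node 1 (.leaf 17111131) (.leaf 17592387))) (.node 1 (.leaf 17195073) (.node 1 (.leaf 17111113) (.leaf 16918605))))
(.node 3 (.node 1 (.leaf 17193049) (.node 1 (.leaf 17512527) (.leaf 17506393))) (.node 1 (.leaf 17643595) (.node 1 (.leaf 16934997) (.leaf 17635413)))))))
(.node 24 (.node 12 (.node 6 (.node 3 (.node 1 (.leaf 17051725) (.node 1 (.leaf 17651779) (.leaf 16998479))) (.node 1 (.leaf 17643603) (.node 1 (.leaf 16934989) (.leaf 17635405))))
(.node 3 (.node 1 (.leaf 17643601) (.node 1 (.leaf 17444957) (.leaf 17059905))) (.node 1 (.leaf 17635407) (.node 1 (.leaf 17068101) (.leaf 17068103)))))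
(.node 6 (.node 3 (.node 1 (.leaf 17717325) (.node 1 (.leaf 17070163) (.leaf 17715281))) (.node 1 (.leaf 17592405) (.node 1 (.leaf 17717327) (.leaf 17051739))))
(.node 3 (.node 1 (.leaf 17111135) (.node 1 (.leaf 17705051) (.leaf 17258571))) (.node 1 (.leaf 16998477) (.node 1 (.leaf 17440849) (.leaf 17506385))))))
(.node 12 (.node 6 (.node 3 (.node 1 (.leaf 17258569) (.node 1 (.leaf 17508419) (.leaf 17463373))) (.node 1 (.leaf 16986197) (.node 1 (.leaf 16916575) (.leaf 17649733))))
(.node 3 (.node 1 (.leaf 17524819) (.node 1 (.leaf 17651781) (.leaf 17004623))) (.node 1 (.leaf 17004617) (.node 1 (.leaf 17659989) (.leaf 17768533)))))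
(.node 6 (.node 3 (.node 1 (.leaf 17444945) (.node 1 (.leaf 16918615) (.leaf 17764429))) (.node 1 (.leaf 16998485) (.node 1 (.leaf 16998467) (.leaf 17649743))))
(.node 3 (.node 1 (.leaf 16984147) (.node 1 (.leaf 17240159) (.leaf 17053781))) (.node 1 (.leaf 17651797) (.node 1 (.leaf 16998487) (.leaf 17242207)))))))))
(.node 96 (.node 48 (.node 24 (.node 12 (.node 6 (.node 3 (.node 1 (.leaf 17649741) (.node 1 (.leaf 17649751) (.leaf 17258561))) (.node 1 (.leaf 17643609) (.node 1 (.leaf 17240157) (.leaf 17457231))))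
(.node 3 (.node 1 (.leaf 17643611) (.node 1 (.leaf 17059915) (.leaf 17643613))) (.node 1 (.leaf 17053783) (.node 1 (.leaf 17444949) (.leaf 17059913)))))
(.node 6 (.node 3 (.node 1 (.leaf 17717315) (.node 1 (.leaf 17512533) (.leaf 17111123))) (.node 1 (.leaf 17068107) (.node 1 (.leaf 17764447) (.leaf 17641565))))
(.node 3 (.node 1 (.leaf 17246285) (.node 1 (.leaf 16916549) (.leaf 17698909))) (.node 1 (.leaf 17643615) (.node 1 (.leaf 17700959) (.leaf 17258565))))))
(.node 12 (.node 6 (.node 3 (.node 1 (.leaf 17446993) (.node 1 (.leaf 17053777) (.leaf 17506383))) (.node 1 (.leaf 17193047) (.node 1 (.leaf 16937033) (.leaf 17506381))))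
(.node 3 (.node 1 (.leaf 17068105) (.node 1 (.leaf 17764445) (.leaf 17053779))) (.node 1 (.leaf 17258583) (.node 1 (.leaf 17705041) (.leaf 17698911)))))
(.node 6 (.node 3 (.node 1 (.leaf 17125457) (.node 1 (.leaf 17782855) (.leaf 17782861))) (.node 1 (.leaf 17442895) (.node 1 (.leaf 16984133) (.leaf 17178701))))
(.node 3 (.node 1 (.leaf 17768519) (.node 1 (.leaf 17260631) (.leaf 17717319))) (.node 1 (.leaf 17197143) (.node 1 (.leaf 17442905) (.leaf 17178715)))))))
(.node 24 (.node 12 (.node 6 (.node 3 (.node 1 (.leaf 17442907) (.node 1 (.leaf 17768531) (.leaf 17004619))) (.node 1 (.leaf 17768529) (.node 1 (.leaf 17111105) (.leaf 17070159))))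
(.node 3 (.node 1 (.leaf 16982111) (.node 1 (.leaf 17002571) (.leaf 17258563))) (.node 1 (.leaf 17193027) (.node 1 (.leaf 17782863) (.leaf 17193043)))))
(.node 6 (.node 3 (.node 1 (.leaf 17786947) (.node 1 (.leaf 17059921) (.leaf 17178709))) (.node 1 (.leaf 17174621) (.node 1 (.leaf 17197141) (.leaf 16986207))))
(.node 3 (.node 1 (.leaf 16986205) (.node 1 (.leaf 17786957) (.leaf 17508441))) (.node 1 (.leaf 17717317) (.node 1 (.leaf 17240141) (.leaf 17698891))))))
(.node 12 (.node 6 (.node 3 (.node 1 (.leaf 17768539) (.node 1 (.leaf 17193035) (.leaf 17193045))) (.node 1 (.leaf 16918597) (.node 1 (.leaf 17193041) (.leaf 17193033))))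
(.node 3 (.node 1 (.leaf 17197139) (.node 1 (.leaf 16986201) (.leaf 17594455))) (.node 1 (.leaf 17584217) (.node 1 (.leaf 17782851) (.leaf 17463383)))))
(.node 6 (.node 3 (.node 1 (.leaf 17174619) (.node 1 (.leaf 17782849) (.leaf 17174623))) (.node 1 (.leaf 16918623) (.node 1 (.leaf 17508427) (.leaf 16939083))))
(.node 3 (.node 1 (.leaf 17068113) (.node 1 (.leaf 17717337) (.leaf 17643605))) (.node 1 (.leaf 17059917) (.node 1 (.leaf 17125453) (.leaf 17070153))))))))
(.node 48 (.node 24 (.node 12 (.node 6 (.node 3 (.node 1 (.leaf 17782875) (.node 1 (.leaf 17059919) (.leaf 17178699))) (.node 1 (.leaf 17463367) (.node 1 (.leaf 17068115) (.leaf 17657941))))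
(.node 3 (.node 1 (.leaf 17649753) (.node 1 (.leaf 17444947) (.leaf 17051731))) (.node 1 (.leaf 17786963) (.node 1 (.leaf 17463385) (.leaf 17197129)))))
(.node 6 (.node 3 (.node 1 (.leaf 17782873) (.node 1 (.leaf 17053787) (.leaf 17053785))) (.node 1 (.leaf 17657951) (.node 1 (.leaf 17657949) (.leaf 17246293))))
(.node 3 (.node 1 (.leaf 17698885) (.node 1 (.leaf 17258575) (.leaf 17698887))) (.node 1 (.leaf 17633373) (.node 1 (.leaf 17240145) (.leaf 17240147))))))
(.node 12 (.node 6 (.node 3 (.node 1 (.leaf 17174609) (.node 1 (.leaf 17193039) (.leaf 17178705))) (.node 1 (.leaf 17786967) (.node 1 (.leaf 17463389) (.leaf 17174611))))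
(.node 3 (.node 1 (.leaf 17768537) (.node 1 (.leaf 17004609) (.leaf 17633369))) (.node 1 (.leaf 17178707) (.node 1 (.leaf 17786973) (.leaf 17717339)))))
(.node 6 (.node 3 (.node 1 (.leaf 17764423) (.node 1 (.leaf 17004613) (.leaf 17444941))) (.node 1 (.leaf 17004615) (.node 1 (.leaf 17764421) (.leaf 17657943))))
(.node 3 (.node 1 (.leaf 17649755) (.node 1 (.leaf 17633375) (.leaf 17649731))) (.node 1 (.leaf 17045597) (.node 1 (.leaf 17649729) (.leaf 16986179)))))))
(.node 24 (.node 12 (.node 6 (.node 3 (.node 1 (.leaf 17463387) (.node 1 (.leaf 17635403) (.leaf 17635393))) (.node 1 (.leaf 17717329) (.node 1 (.leaf 17635395) (.leaf 17635417))))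
(.node 3 (.node 1 (.leaf 17657925) (.node 1 (.leaf 17045591) (.leaf 17045589))) (.node 1 (.leaf 17125455) (.node 1 (.leaf 17068109) (.leaf 17698905)))))
(.node 6 (.node 3 (.node 1 (.leaf 17174601) (.node 1 (.leaf 17178697) (.leaf 17786969))) (.node 1 (.leaf 17125469) (.node 1 (.leaf 17045581) (.leaf 17786971))))
(.node 3 (.node 1 (.leaf 17463377) (.node 1 (.leaf 17463379) (.leaf 17045599))) (.node 1 (.leaf 17045575) (.node 1 (.leaf 17045573) (.leaf 17635409))))))
(.node 12 (.node 6 (.node 3 (.node 1 (.leaf 17635411) (.node 1 (.leaf 17782869) (.leaf 17059923))) (.node 1 (.leaf 17786965) (.node 1 (.leaf 17649747) (.leaf 17004611))))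
(.node 3 (.node 1 (.leaf 17045583) (.node 1 (.leaf 17649745) (.leaf 17053775))) (.node 1 (.leaf 17635423) (.node 1 (.leaf 17635421) (.leaf 17059907)))))
(.node 6 (.node 3 (.node 1 (.leaf 17240135) (.node 1 (.leaf 17197135) (.leaf 17698881))) (.node 1 (.leaf 17764417) (.node 1 (.leaf 17174597) (.leaf 17635397))))
(.node 3 (.node 1 (.leaf 17635399) (.node 1 (.leaf 17649757) (.leaf 17649759))) (.node 1 (.leaf 17059929) (.node 1 (.leaf 17059931) (.leaf 17649737))))))))))

/-- The stabiliser. -/
def caseDFullN1ElsR : Tab ℕ := .node 384 caseDFullN1ElsRL caseDFullN1ElsRR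

/-- The stabiliser. -/
def caseDFullN1Els : Tab ℕ := .node 768 caseDFullN1ElsL caseDFullN1ElsR

/-- Its index. -/
def caseDFullN1Ix : BT ℕ :=
(.node 17440833 52
(.node 17109057 61
(.node 16998465 547
(.node 16937025 1009
(.node 16922689 1256
(.node 16918609 531
(.node 16916569 1199
(.node 16916557 804
(.node 16916551 444 (.node 16916547 440 (.node 16916545 836 .tip .tip) (.node 16916549 1363 .tip .tip)) (.node 16916555 1217 (.node 16916553 1062 .tip .tip) .tip))
(.node 16916563 1187 (.node 16916561 1097 (.node 16916559 668 .tip .tip) .tip) (.node 16916567 1170 (.node 16916565 812 .tip .tip) .tip)))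
(.node 16918597 1419
(.node 16916575 1324 (.node 16916573 1201 (.node 16916571 339 .tip .tip) .tip) (.node 16918595 552 (.node 16918593 518 .tip .tip) .tip))
(.node 16918603 640 (.node 16918601 560 (.node 16918599 146 .tip .tip) .tip) (.node 16918607 34 (.node 16918605 1289 .tip .tip) .tip))))
(.node 16920649 564
(.node 16918621 120
(.node 16918615 1333 (.node 16918613 546 (.node 16918611 568 .tip .tip) .tip) (.node 16918619 386 (.node 16918617 228 .tip .tip) .tip))
(.node 16920643 395 (.node 16920641 1210 (.node 16918623 1431 .tip .tip) .tip) (.node 16920647 608 (.node 16920645 686 .tip .tip) .tip)))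
(.node 16920661 184
(.node 16920655 582 (.node 16920653 603 (.node 16920651 450 .tip .tip) .tip) (.node 16920659 1156 (.node 16920657 1077 .tip .tip) .tip))
(.node 16920667 1150 (.node 16920665 1103 (.node 16920663 1213 .tip .tip) .tip) (.node 16920671 178 (.node 16920669 134 .tip .tip) .tip)))))
(.node 16932945 93
(.node 16922713 288
(.node 16922701 757
(.node 16922695 218 (.node 16922693 255 (.node 16922691 266 .tip .tip) .tip) (.node 16922699 82 (.node 16922697 574 .tip .tip) .tip))
(.node 16922707 1273 (.node 16922705 56 (.node 16922703 593 .tip .tip) .tip) (.node 16922711 656 (.node 16922709 634 .tip .tip) .tip)))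
(.node 16932933 798
(.node 16922719 792 (.node 16922717 156 (.node 16922715 1155 .tip .tip) .tip) (.node 16932931 297 (.node 16932929 795 .tip .tip) .tip))
(.node 16932939 243 (.node 16932937 1021 (.node 16932935 293 .tip .tip) .tip) (.node 16932943 1007 (.node 16932941 1046 .tip .tip) .tip))))
(.node 16934985 188
(.node 16932957 349
(.node 16932951 1043 (.node 16932949 89 (.node 16932947 1040 .tip .tip) .tip) (.node 16932955 984 (.node 16932953 353 .tip .tip) .tip))
(.node 16934979 454 (.node 16934977 471 (.node 16932959 986 .tip .tip) .tip) (.node 16934983 727 (.node 16934981 723 .tip .tip) .tip)))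
(.node 16934997 1294
(.node 16934991 408 (.node 16934989 1300 (.node 16934987 945 .tip .tip) .tip) (.node 16934995 699 (.node 16934993 853 .tip .tip) .tip))
(.node 16935003 612 (.node 16935001 689 (.node 16934999 1165 .tip .tip) .tip) (.node 16935007 887 (.node 16935005 1079 .tip .tip) .tip))))))
(.node 16984129 847
(.node 16939089 880
(.node 16937049 20
(.node 16937037 102
(.node 16937031 374 (.node 16937029 359 (.node 16937027 30 .tip .tip) .tip) (.node 16937035 107 (.node 16937033 1372 .tip .tip) .tip))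
(.node 16937043 1051 (.node 16937041 116 (.node 16937039 479 .tip .tip) .tip) (.node 16937047 382 (.node 16937045 365 .tip .tip) .tip)))
(.node 16939077 325
(.node 16937055 303 (.node 16937053 505 (.node 16937051 846 .tip .tip) .tip) (.node 16939075 800 (.node 16939073 664 .tip .tip) .tip))
(.node 16939083 1433 (.node 16939081 166 (.node 16939079 421 .tip .tip) .tip) (.node 16939087 1231 (.node 16939085 434 .tip .tip) .tip))))
(.node 16982089 557
(.node 16939101 1184
(.node 16939095 933 (.node 16939093 923 (.node 16939091 899 .tip .tip) .tip) (.node 16939099 597 (.node 16939097 660 .tip .tip) .tip))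
(.node 16982083 477 (.node 16982081 514 (.node 16939103 1092 .tip .tip) .tip) (.node 16982087 463 (.node 16982085 311 .tip .tip) .tip)))
(.node 16982101 486
(.node 16982095 28 (.node 16982093 949 (.node 16982091 414 .tip .tip) .tip) (.node 16982099 738 (.node 16982097 168 .tip .tip) .tip))
(.node 16982107 330 (.node 16982105 481 (.node 16982103 470 .tip .tip) .tip) (.node 16982111 1398 (.node 16982109 114 .tip .tip) .tip)))))
(.node 16986193 1196
(.node 16984153 373
(.node 16984141 691
(.node 16984135 429 (.node 16984133 1384 (.node 16984131 503 .tip .tip) .tip) (.node 16984139 1073 (.node 16984137 1000 .tip .tip) .tip))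
(.node 16984147 1338 (.node 16984145 1126 (.node 16984143 663 .tip .tip) .tip) (.node 16984151 1181 (.node 16984149 1087 .tip .tip) .tip)))
(.node 16986181 891
(.node 16984159 1263 (.node 16984157 1262 (.node 16984155 1197 .tip .tip) .tip) (.node 16986179 1487 (.node 16986177 1245 .tip .tip) .tip))
(.node 16986187 1167 (.node 16986185 551 (.node 16986183 885 .tip .tip) .tip) (.node 16986191 861 (.node 16986189 808 .tip .tip) .tip))))
(.node 16988233 452
(.node 16986205 1410
(.node 16986199 1193 (.node 16986197 1323 (.node 16986195 864 .tip .tip) .tip) (.node 16986203 1148 (.node 16986201 1423 .tip .tip) .tip))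
(.node 16988227 351 (.node 16988225 366 (.node 16986207 1409 .tip .tip) .tip) (.node 16988231 947 (.node 16988229 406 .tip .tip) .tip)))
(.node 16988245 1005
(.node 16988239 456 (.node 16988237 1041 (.node 16988235 91 .tip .tip) .tip) (.node 16988243 1066 (.node 16988241 671 .tip .tip) .tip))
(.node 16988251 496 (.node 16988249 295 (.node 16988247 992 .tip .tip) .tip) (.node 16988255 796 (.node 16988253 140 .tip .tip) .tip)))))))
(.node 17051713 859
(.node 17004609 1471
(.node 17000529 76
(.node 16998489 685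
(.node 16998477 1317
(.node 16998471 777 (.node 16998469 781 (.node 16998467 1336 .tip .tip) .tip) (.node 16998475 954 (.node 16998473 182 .tip .tip) .tip))
(.node 16998483 1145 (.node 16998481 764 (.node 16998479 1298 .tip .tip) .tip) (.node 16998487 1342 (.node 16998485 1335 .tip .tip) .tip)))
(.node 17000517 498
(.node 16998495 964 (.node 16998493 962 (.node 16998491 606 .tip .tip) .tip) (.node 17000515 283 (.node 17000513 1176 .tip .tip) .tip))
(.node 17000523 942 (.node 17000521 127 (.node 17000519 533 .tip .tip) .tip) (.node 17000527 400 (.node 17000525 1064 .tip .tip) .tip))))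
(.node 17002569 172
(.node 17000541 563
(.node 17000535 136 (.node 17000533 843 (.node 17000531 1172 .tip .tip) .tip) (.node 17000539 579 (.node 17000537 918 .tip .tip) .tip))
(.node 17002563 337 (.node 17002561 644 (.node 17000543 347 .tip .tip) .tip) (.node 17002567 1248 (.node 17002565 194 .tip .tip) .tip)))
(.node 17002581 1260
(.node 17002575 554 (.node 17002573 490 (.node 17002571 1399 .tip .tip) .tip) (.node 17002579 233 (.node 17002577 226 .tip .tip) .tip))
(.node 17002587 599 (.node 17002585 742 (.node 17002583 617 .tip .tip) .tip) (.node 17002591 1120 (.node 17002589 834 .tip .tip) .tip)))))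
(.node 17043537 315
(.node 17004633 694
(.node 17004621 442
(.node 17004615 1479 (.node 17004613 1477 (.node 17004611 1517 .tip .tip) .tip) (.node 17004619 1394 (.node 17004617 1329 .tip .tip) .tip))
(.node 17004627 1003 (.node 17004625 1283 (.node 17004623 1328 .tip .tip) .tip) (.node 17004631 1027 (.node 17004629 1034 .tip .tip) .tip)))
(.node 17043525 839
(.node 17004639 1099 (.node 17004637 1188 (.node 17004635 851 .tip .tip) .tip) (.node 17043523 480 (.node 17043521 0 .tip .tip) .tip))
(.node 17043531 1246 (.node 17043529 360 (.node 17043527 35 .tip .tip) .tip) (.node 17043535 31 (.node 17043533 1010 .tip .tip) .tip))))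
(.node 17045577 1239
(.node 17043549 117
(.node 17043543 708 (.node 17043541 21 (.node 17043539 4 .tip .tip) .tip) (.node 17043547 383 (.node 17043545 865 .tip .tip) .tip))
(.node 17045571 443 (.node 17045569 538 (.node 17043551 882 .tip .tip) .tip) (.node 17045575 1509 (.node 17045573 1510 .tip .tip) .tip)))
(.node 17045589 1496
(.node 17045583 1518 (.node 17045581 1504 (.node 17045579 1271 .tip .tip) .tip) (.node 17045587 1140 (.node 17045585 1100 .tip .tip) .tip))
(.node 17045595 1211 (.node 17045593 1200 (.node 17045591 1495 .tip .tip) .tip) (.node 17045599 1508 (.node 17045597 1485 .tip .tip) .tip))))))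
(.node 17061953 55
(.node 17053777 1369
(.node 17051737 1219
(.node 17051725 1296
(.node 17051719 1138 (.node 17051717 725 (.node 17051715 457 .tip .tip) .tip) (.node 17051723 661 (.node 17051721 690 .tip .tip) .tip))
(.node 17051731 1448 (.node 17051729 1107 (.node 17051727 410 .tip .tip) .tip) (.node 17051735 521 (.node 17051733 535 .tip .tip) .tip)))
(.node 17053765 1162
(.node 17051743 927 (.node 17051741 1081 (.node 17051739 1313 .tip .tip) .tip) (.node 17053763 856 (.node 17053761 702 .tip .tip) .tip))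
(.node 17053771 884 (.node 17053769 875 (.node 17053767 1166 .tip .tip) .tip) (.node 17053775 1520 (.node 17053773 396 .tip .tip) .tip))))
(.node 17059913 1355
(.node 17053789 1157
(.node 17053783 1353 (.node 17053781 1340 (.node 17053779 1376 .tip .tip) .tip) (.node 17053787 1453 (.node 17053785 1454 .tip .tip) .tip))
(.node 17059907 1523 (.node 17059905 1304 (.node 17053791 1078 .tip .tip) .tip) (.node 17059911 958 (.node 17059909 1013 .tip .tip) .tip)))
(.node 17059925 890
(.node 17059919 1441 (.node 17059917 1437 (.node 17059915 1351 .tip .tip) .tip) (.node 17059923 1514 (.node 17059921 1405 .tip .tip) .tip))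
(.node 17059931 1534 (.node 17059929 1533 (.node 17059927 878 .tip .tip) .tip) (.node 17059935 706 (.node 17059933 773 .tip .tip) .tip)))))
(.node 17068113 1434
(.node 17061977 1101
(.node 17061965 600
(.node 17061959 224 (.node 17061957 967 (.node 17061955 1269 .tip .tip) .tip) (.node 17061963 447 (.node 17061961 12 .tip .tip) .tip))
(.node 17061971 85 (.node 17061969 1204 (.node 17061967 13 .tip .tip) .tip) (.node 17061975 938 (.node 17061973 254 .tip .tip) .tip)))
(.node 17068101 1306
(.node 17061983 175 (.node 17061981 1 (.node 17061979 45 .tip .tip) .tip) (.node 17068099 667 (.node 17068097 803 .tip .tip) .tip))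
(.node 17068107 1359 (.node 17068105 1374 (.node 17068103 1307 .tip .tip) .tip) (.node 17068111 439 (.node 17068109 1498 .tip .tip) .tip))))
(.node 17070153 1439
(.node 17068125 1096
(.node 17068119 1206 (.node 17068117 1198 (.node 17068115 1444 .tip .tip) .tip) (.node 17068123 815 (.node 17068121 811 .tip .tip) .tip))
(.node 17070147 872 (.node 17070145 679 (.node 17068127 1186 .tip .tip) .tip) (.node 17070151 425 (.node 17070149 389 .tip .tip) .tip)))
(.node 17070165 1086
(.node 17070159 1397 (.node 17070157 476 (.node 17070155 1111 .tip .tip) .tip) (.node 17070163 1309 (.node 17070161 1226 .tip .tip) .tip))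
(.node 17070171 771 (.node 17070169 469 (.node 17070167 910 .tip .tip) .tip) (.node 17070175 717 (.node 17070173 1189 .tip .tip) .tip))))))))
(.node 17190977 507
(.node 17133633 191
(.node 17119297 602
(.node 17111121 1114
(.node 17109081 672
(.node 17109069 801
(.node 17109063 167 (.node 17109061 206 (.node 17109059 46 .tip .tip) .tip) (.node 17109067 718 (.node 17109065 913 .tip .tip) .tip))
(.node 17109075 269 (.node 17109073 258 (.node 17109071 665 .tip .tip) .tip) (.node 17109079 247 (.node 17109077 142 .tip .tip) .tip)))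
(.node 17111109 988
(.node 17109087 752 (.node 17109085 1222 (.node 17109083 827 .tip .tip) .tip) (.node 17111107 474 (.node 17111105 1396 .tip .tip) .tip))
(.node 17111115 1249 (.node 17111113 1288 (.node 17111111 950 .tip .tip) .tip) (.node 17111119 639 (.node 17111117 948 .tip .tip) .tip))))
(.node 17117257 256
(.node 17111133 227
(.node 17111127 760 (.node 17111125 743 (.node 17111123 1358 .tip .tip) .tip) (.node 17111131 1285 (.node 17111129 1261 .tip .tip) .tip))
(.node 17117251 746 (.node 17117249 758 (.node 17111135 1314 .tip .tip) .tip) (.node 17117255 83 (.node 17117253 90 .tip .tip) .tip)))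
(.node 17117269 289
(.node 17117263 267 (.node 17117261 350 (.node 17117259 235 .tip .tip) .tip) (.node 17117267 775 (.node 17117265 766 .tip .tip) .tip))
(.node 17117275 657 (.node 17117273 646 (.node 17117271 294 .tip .tip) .tip) (.node 17117279 1029 (.node 17117277 57 .tip .tip) .tip)))))
(.node 17125457 1380
(.node 17119321 112
(.node 17119309 446
(.node 17119303 449 (.node 17119301 512 (.node 17119299 462 .tip .tip) .tip) (.node 17119307 26 (.node 17119305 580 .tip .tip) .tip))
(.node 17119315 177 (.node 17119313 133 (.node 17119311 412 .tip .tip) .tip) (.node 17119319 1130 (.node 17119317 438 .tip .tip) .tip)))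
(.node 17125445 970
(.node 17119327 379 (.node 17119325 329 (.node 17119323 130 .tip .tip) .tip) (.node 17125443 1234 (.node 17125441 523 .tip .tip) .tip))
(.node 17125451 520 (.node 17125449 493 (.node 17125447 1048 .tip .tip) .tip) (.node 17125455 1497 (.node 17125453 1438 .tip .tip) .tip))))
(.node 17127497 80
(.node 17125469 1503
(.node 17125463 998 (.node 17125461 1037 (.node 17125459 362 .tip .tip) .tip) (.node 17125467 1123 (.node 17125465 1132 .tip .tip) .tip))
(.node 17127491 509 (.node 17127489 921 (.node 17125471 728 .tip .tip) .tip) (.node 17127495 982 (.node 17127493 459 .tip .tip) .tip)))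
(.node 17127509 1221
(.node 17127503 575 (.node 17127501 22 (.node 17127499 343 .tip .tip) .tip) (.node 17127507 394 (.node 17127505 1127 .tip .tip) .tip))
(.node 17127515 286 (.node 17127513 376 (.node 17127511 403 .tip .tip) .tip) (.node 17127519 108 (.node 17127517 123 .tip .tip) .tip))))))
(.node 17176641 36
(.node 17135697 213
(.node 17133657 855
(.node 17133645 278
(.node 17133639 275 (.node 17133637 262 (.node 17133635 250 .tip .tip) .tip) (.node 17133643 755 (.node 17133641 710 .tip .tip) .tip))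
(.node 17133651 614 (.node 17133649 653 (.node 17133647 317 .tip .tip) .tip) (.node 17133655 50 (.node 17133653 68 .tip .tip) .tip)))
(.node 17135685 1070
(.node 17133663 71 (.node 17133661 915 (.node 17133659 701 .tip .tip) .tip) (.node 17135683 630 (.node 17135681 33 .tip .tip) .tip))
(.node 17135691 151 (.node 17135689 145 (.node 17135687 559 .tip .tip) .tip) (.node 17135695 517 (.node 17135693 500 .tip .tip) .tip))))
(.node 17174601 1500
(.node 17135709 540
(.node 17135703 370 (.node 17135701 385 (.node 17135699 119 .tip .tip) .tip) (.node 17135707 545 (.node 17135705 588 .tip .tip) .tip))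
(.node 17174595 951 (.node 17174593 989 (.node 17135711 530 .tip .tip) .tip) (.node 17174599 537 (.node 17174597 1528 .tip .tip) .tip)))
(.node 17174613 1139
(.node 17174607 1238 (.node 17174605 1270 (.node 17174603 993 .tip .tip) .tip) (.node 17174611 1469 (.node 17174609 1464 .tip .tip) .tip))
(.node 17174619 1428 (.node 17174617 761 (.node 17174615 1195 .tip .tip) .tip) (.node 17174623 1430 (.node 17174621 1407 .tip .tip) .tip)))))
(.node 17178705 1466
(.node 17176665 1173
(.node 17176653 1252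
(.node 17176647 38 (.node 17176645 565 (.node 17176643 128 .tip .tip) .tip) (.node 17176651 1177 (.node 17176649 147 .tip .tip) .tip))
(.node 17176659 121 (.node 17176657 141 (.node 17176655 519 .tip .tip) .tip) (.node 17176663 415 (.node 17176661 5 .tip .tip) .tip)))
(.node 17178693 1035
(.node 17176671 1250 (.node 17176669 137 (.node 17176667 219 .tip .tip) .tip) (.node 17178691 959 (.node 17178689 1014 .tip .tip) .tip))
(.node 17178699 1442 (.node 17178697 1501 (.node 17178695 1031 .tip .tip) .tip) (.node 17178703 430 (.node 17178701 1385 .tip .tip) .tip))))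
(.node 17180745 513
(.node 17178717 1088
(.node 17178711 1264 (.node 17178709 1406 (.node 17178707 1473 .tip .tip) .tip) (.node 17178715 1391 (.node 17178713 774 .tip .tip) .tip))
(.node 17180739 413 (.node 17180737 556 (.node 17178719 1182 .tip .tip) .tip) (.node 17180743 27 (.node 17180741 510 .tip .tip) .tip)))
(.node 17180757 113
(.node 17180751 81 (.node 17180749 445 (.node 17180747 23 .tip .tip) .tip) (.node 17180755 380 (.node 17180753 404 .tip .tip) .tip))
(.node 17180763 791 (.node 17180761 109 (.node 17180759 1128 .tip .tip) .tip) (.node 17180767 377 (.node 17180765 287 .tip .tip) .tip)))))))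
(.node 17244225 1072
(.node 17197121 1275
(.node 17193041 1420
(.node 17191001 53
(.node 17190989 252
(.node 17190983 333 (.node 17190981 756 (.node 17190979 737 .tip .tip) .tip) (.node 17190987 265 (.node 17190985 300 .tip .tip) .tip))
(.node 17190995 356 (.node 17190993 721 (.node 17190991 16 .tip .tip) .tip) (.node 17190999 974 (.node 17190997 310 .tip .tip) .tip)))
(.node 17193029 745
(.node 17191007 655 (.node 17191005 103 (.node 17191003 98 .tip .tip) .tip) (.node 17193027 1401 (.node 17193025 1258 .tip .tip) .tip))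
(.node 17193035 1417 (.node 17193033 1421 (.node 17193031 770 .tip .tip) .tip) (.node 17193039 1465 (.node 17193037 234 .tip .tip) .tip))))
(.node 17195081 787
(.node 17193053 955
(.node 17193047 1371 (.node 17193045 1418 (.node 17193043 1403 .tip .tip) .tip) (.node 17193051 1280 (.node 17193049 1290 .tip .tip) .tip))
(.node 17195075 9 (.node 17195073 1287 (.node 17193055 645 .tip .tip) .tip) (.node 17195079 174 (.node 17195077 245 .tip .tip) .tip)))
(.node 17195093 205
(.node 17195087 272 (.node 17195085 222 (.node 17195083 197 .tip .tip) .tip) (.node 17195091 975 (.node 17195089 42 .tip .tip) .tip))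
(.node 17195099 894 (.node 17195097 209 (.node 17195095 159 .tip .tip) .tip) (.node 17195103 637 (.node 17195101 64 .tip .tip) .tip)))))
(.node 17240145 1462
(.node 17197145 863
(.node 17197133 1277
(.node 17197127 807 (.node 17197125 860 (.node 17197123 550 .tip .tip) .tip) (.node 17197131 1244 (.node 17197129 1451 .tip .tip) .tip))
(.node 17197139 1422 (.node 17197137 1147 (.node 17197135 1525 .tip .tip) .tip) (.node 17197143 1389 (.node 17197141 1408 .tip .tip) .tip)))
(.node 17240133 409
(.node 17197151 996 (.node 17197149 1192 (.node 17197147 868 .tip .tip) .tip) (.node 17240131 935 (.node 17240129 946 .tip .tip) .tip))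
(.node 17240139 472 (.node 17240137 455 (.node 17240135 1524 .tip .tip) .tip) (.node 17240143 724 (.node 17240141 1414 .tip .tip) .tip))))
(.node 17242185 548
(.node 17240157 1348
(.node 17240151 1080 (.node 17240149 1276 (.node 17240147 1463 .tip .tip) .tip) (.node 17240155 1106 (.node 17240153 1112 .tip .tip) .tip))
(.node 17242179 207 (.node 17242177 183 (.node 17240159 1339 .tip .tip) .tip) (.node 17242183 62 (.node 17242181 69 .tip .tip) .tip)))
(.node 17242197 270
(.node 17242191 778 (.node 17242189 806 (.node 17242187 977 .tip .tip) .tip) (.node 17242195 607 (.node 17242193 625 .tip .tip) .tip))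
(.node 17242203 881 (.node 17242201 765 (.node 17242199 276 .tip .tip) .tip) (.node 17242207 1343 (.node 17242205 828 .tip .tip) .tip))))))
(.node 17258561 1346
(.node 17246289 331
(.node 17244249 176
(.node 17244237 448
(.node 17244231 647 (.node 17244229 662 (.node 17244227 641 .tip .tip) .tip) (.node 17244235 601 (.node 17244233 502 .tip .tip) .tip))
(.node 17244243 372 (.node 17244241 229 (.node 17244239 555 .tip .tip) .tip) (.node 17244247 1205 (.node 17244245 236 .tip .tip) .tip)))
(.node 17246277 619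
(.node 17244255 1102 (.node 17244253 747 (.node 17244251 132 .tip .tip) .tip) (.node 17246275 956 (.node 17246273 1011 .tip .tip) .tip))
(.node 17246283 832 (.node 17246281 821 (.node 17246279 902 .tip .tip) .tip) (.node 17246287 312 (.node 17246285 1362 .tip .tip) .tip))))
(.node 17256521 392
(.node 17246301 1055
(.node 17246295 198 (.node 17246293 1457 (.node 17246291 338 .tip .tip) .tip) (.node 17246299 729 (.node 17246297 739 .tip .tip) .tip))
(.node 17256515 1095 (.node 17256513 511 (.node 17246303 1169 .tip .tip) .tip) (.node 17256519 461 (.node 17256517 749 .tip .tip) .tip)))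
(.node 17256533 1108
(.node 17256527 25 (.node 17256525 240 (.node 17256523 411 .tip .tip) .tip) (.node 17256531 1129 (.node 17256529 437 .tip .tip) .tip))
(.node 17256539 378 (.node 17256537 328 (.node 17256535 428 .tip .tip) .tip) (.node 17256543 129 (.node 17256541 111 .tip .tip) .tip)))))
(.node 17260625 1109
(.node 17258585 1216
(.node 17258573 202
(.node 17258567 1174 (.node 17258565 1367 (.node 17258563 1400 .tip .tip) .tip) (.node 17258571 1316 (.node 17258569 1320 .tip .tip) .tip))
(.node 17258579 825 (.node 17258577 835 (.node 17258575 1459 .tip .tip) .tip) (.node 17258583 1377 (.node 17258581 1225 .tip .tip) .tip)))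
(.node 17260613 714
(.node 17258591 623 (.node 17258589 906 (.node 17258587 1223 .tip .tip) .tip) (.node 17260611 465 (.node 17260609 451 .tip .tip) .tip))
(.node 17260619 912 (.node 17260617 944 (.node 17260615 584 .tip .tip) .tip) (.node 17260623 1228 (.node 17260621 405 .tip .tip) .tip))))
(.node 17262665 952
(.node 17260637 1017
(.node 17260631 1387 (.node 17260629 139 (.node 17260627 1104 .tip .tip) .tip) (.node 17260635 676 (.node 17260633 670 .tip .tip) .tip))
(.node 17262659 320 (.node 17262657 306 (.node 17260639 991 .tip .tip) .tip) (.node 17262663 527 (.node 17262661 592 .tip .tip) .tip)))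
(.node 17262677 696
(.node 17262671 417 (.node 17262669 217 (.node 17262667 1241 .tip .tip) .tip) (.node 17262675 763 (.node 17262673 1058 .tip .tip) .tip))
(.node 17262683 896 (.node 17262681 1038 (.node 17262679 155 .tip .tip) .tip) (.node 17262687 633 (.node 17262685 1082 .tip .tip) .tip)))))))))
(.node 17633345 695
(.node 17522753 212
(.node 17461313 78
(.node 17446977 785
(.node 17442897 426
(.node 17440857 170
(.node 17440845 309
(.node 17440839 615 (.node 17440837 732 (.node 17440835 1235 .tip .tip) .tip) (.node 17440843 522 (.node 17440841 536 .tip .tip) .tip))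
(.node 17440851 264 (.node 17440849 1318 (.node 17440847 973 .tip .tip) .tip) (.node 17440855 681 (.node 17440853 192 .tip .tip) .tip)))
(.node 17442885 649
(.node 17440863 458 (.node 17440861 488 (.node 17440859 736 .tip .tip) .tip) (.node 17442883 1001 (.node 17442881 999 .tip .tip) .tip))
(.node 17442891 849 (.node 17442889 692 (.node 17442887 1025 .tip .tip) .tip) (.node 17442895 1383 (.node 17442893 427 .tip .tip) .tip))))
(.node 17444937 889
(.node 17442909 1180
(.node 17442903 239 (.node 17442901 874 (.node 17442899 391 .tip .tip) .tip) (.node 17442907 1392 (.node 17442905 1390 .tip .tip) .tip))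
(.node 17444931 705 (.node 17444929 858 (.node 17442911 748 .tip .tip) .tip) (.node 17444935 1183 (.node 17444933 1089 .tip .tip) .tip)))
(.node 17444949 1354
(.node 17444943 1265 (.node 17444941 1478 (.node 17444939 877 .tip .tip) .tip) (.node 17444947 1447 (.node 17444945 1332 .tip .tip) .tip))
(.node 17444955 1284 (.node 17444953 1281 (.node 17444951 431 .tip .tip) .tip) (.node 17444959 1032 (.node 17444957 1303 .tip .tip) .tip)))))
(.node 17457233 1243
(.node 17447001 203
(.node 17446989 199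
(.node 17446983 826 (.node 17446981 1122 (.node 17446979 740 .tip .tip) .tip) (.node 17446987 332 (.node 17446985 997 .tip .tip) .tip))
(.node 17446995 822 (.node 17446993 1368 (.node 17446991 368 .tip .tip) .tip) (.node 17446999 492 (.node 17446997 313 .tip .tip) .tip)))
(.node 17457221 1083
(.node 17447007 620 (.node 17447005 1068 (.node 17447003 969 .tip .tip) .tip) (.node 17457219 862 (.node 17457217 1039 .tip .tip) .tip))
(.node 17457227 1146 (.node 17457225 1143 (.node 17457223 963 .tip .tip) .tip) (.node 17457231 1349 (.node 17457229 1134 .tip .tip) .tip))))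
(.node 17459273 769
(.node 17457245 779
(.node 17457239 418 (.node 17457237 321 (.node 17457235 1242 .tip .tip) .tip) (.node 17457243 542 (.node 17457241 549 .tip .tip) .tip))
(.node 17459267 210 (.node 17459265 669 (.node 17457247 528 .tip .tip) .tip) (.node 17459271 65 (.node 17459269 979 .tip .tip) .tip)))
(.node 17459285 273
(.node 17459279 841 (.node 17459277 138 (.node 17459275 74 .tip .tip) .tip) (.node 17459283 788 (.node 17459281 627 .tip .tip) .tip))
(.node 17459291 1178 (.node 17459289 281 (.node 17459287 1232 .tip .tip) .tip) (.node 17459295 583 (.node 17459293 830 .tip .tip) .tip))))))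
(.node 17508417 58
(.node 17463377 1506
(.node 17461337 930
(.node 17461325 214
(.node 17461319 468 (.node 17461317 589 (.node 17461315 571 .tip .tip) .tip) (.node 17461323 675 (.node 17461321 920 .tip .tip) .tip))
(.node 17461331 285 (.node 17461329 1152 (.node 17461327 231 .tip .tip) .tip) (.node 17461335 152 (.node 17461333 713 .tip .tip) .tip)))
(.node 17463365 816
(.node 17461343 402 (.node 17461341 642 (.node 17461339 943 .tip .tip) .tip) (.node 17463363 1161 (.node 17463361 1191 .tip .tip) .tip))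
(.node 17463371 867 (.node 17463369 1207 (.node 17463367 1443 .tip .tip) .tip) (.node 17463375 966 (.node 17463373 1322 .tip .tip) .tip))))
(.node 17506377 707
(.node 17463389 1468
(.node 17463383 1427 (.node 17463381 783 (.node 17463379 1507 .tip .tip) .tip) (.node 17463387 1488 (.node 17463385 1450 .tip .tip) .tip))
(.node 17506371 1158 (.node 17506369 879 (.node 17463391 871 .tip .tip) .tip) (.node 17506375 622 (.node 17506373 905 .tip .tip) .tip)))
(.node 17506389 201
(.node 17506383 1370 (.node 17506381 1373 (.node 17506379 824 .tip .tip) .tip) (.node 17506387 397 (.node 17506385 1319 .tip .tip) .tip))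
(.node 17506395 1163 (.node 17506393 1292 (.node 17506391 876 .tip .tip) .tip) (.node 17506399 703 (.node 17506397 857 .tip .tip) .tip)))))
(.node 17510481 820
(.node 17508441 1412
(.node 17508429 767
(.node 17508423 658 (.node 17508421 363 (.node 17508419 1321 .tip .tip) .tip) (.node 17508427 1432 (.node 17508425 290 .tip .tip) .tip))
(.node 17508435 268 (.node 17508433 1049 (.node 17508431 793 .tip .tip) .tip) (.node 17508439 939 (.node 17508437 257 .tip .tip) .tip)))
(.node 17510469 1076
(.node 17508447 494 (.node 17508445 759 (.node 17508443 84 .tip .tip) .tip) (.node 17510467 697 (.node 17510465 852 .tip .tip) .tip))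
(.node 17510475 610 (.node 17510473 687 (.node 17510471 1054 .tip .tip) .tip) (.node 17510479 393 (.node 17510477 1202 .tip .tip) .tip))))
(.node 17512521 230
(.node 17510493 907
(.node 17510487 388 (.node 17510485 308 (.node 17510483 941 .tip .tip) .tip) (.node 17510491 1224 (.node 17510489 186 .tip .tip) .tip))
(.node 17512515 161 (.node 17512513 731 (.node 17510495 931 .tip .tip) .tip) (.node 17512519 1179 (.node 17512517 44 .tip .tip) .tip)))
(.node 17512533 1357
(.node 17512527 1291 (.node 17512525 237 (.node 17512523 253 .tip .tip) .tip) (.node 17512531 750 (.node 17512529 246 .tip .tip) .tip))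
(.node 17512539 241 (.node 17512537 223 (.node 17512535 11 .tip .tip) .tip) (.node 17512543 54 (.node 17512541 1268 .tip .tip) .tip)))))))
(.node 17576001 348
(.node 17528897 72
(.node 17524817 1209
(.node 17522777 573
(.node 17522765 154
(.node 17522759 1254 (.node 17522757 632 (.node 17522755 869 .tip .tip) .tip) (.node 17522763 1154 (.node 17522761 587 .tip .tip) .tip))
(.node 17522771 629 (.node 17522769 1255 (.node 17522767 570 .tip .tip) .tip) (.node 17522775 216 (.node 17522773 1278 .tip .tip) .tip)))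
(.node 17524805 1085
(.node 17522783 591 (.node 17522781 1151 (.node 17522779 150 .tip .tip) .tip) (.node 17524803 901 (.node 17524801 677 .tip .tip) .tip))
(.node 17524811 814 (.node 17524809 1113 (.node 17524807 1060 .tip .tip) .tip) (.node 17524815 1094 (.node 17524813 1185 .tip .tip) .tip))))
(.node 17526857 355
(.node 17524829 436
(.node 17524823 423 (.node 17524821 327 (.node 17524819 1326 .tip .tip) .tip) (.node 17524827 473 (.node 17524825 466 .tip .tip) .tip))
(.node 17526851 567 (.node 17526849 95 (.node 17524831 715 .tip .tip) .tip) (.node 17526855 838 (.node 17526853 544 .tip .tip) .tip)))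
(.node 17526869 799
(.node 17526863 987 (.node 17526861 118 (.node 17526859 384 .tip .tip) .tip) (.node 17526867 299 (.node 17526865 516 .tip .tip) .tip))
(.node 17526875 1030 (.node 17526873 558 (.node 17526871 144 .tip .tip) .tip) (.node 17526879 32 (.node 17526877 1015 .tip .tip) .tip)))))
(.node 17567825 189
(.node 17528921 419
(.node 17528909 897
(.node 17528903 895 (.node 17528901 810 (.node 17528899 1056 .tip .tip) .tip) (.node 17528907 893 (.node 17528905 916 .tip .tip) .tip))
(.node 17528915 279 (.node 17528913 318 (.node 17528911 888 .tip .tip) .tip) (.node 17528919 711 (.node 17528917 789 .tip .tip) .tip)))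
(.node 17567813 41
(.node 17528927 666 (.node 17528925 802 (.node 17528923 323 .tip .tip) .tip) (.node 17567811 158 (.node 17567809 135 .tip .tip) .tip))
(.node 17567819 636 (.node 17567817 185 (.node 17567815 48 .tip .tip) .tip) (.node 17567823 719 (.node 17567821 618 .tip .tip) .tip))))
(.node 17569865 1022
(.node 17567837 1251
(.node 17567831 8 (.node 17567829 260 (.node 17567827 173 .tip .tip) .tip) (.node 17567835 609 (.node 17567833 221 .tip .tip) .tip))
(.node 17569859 776 (.node 17569857 797 (.node 17567839 196 .tip .tip) .tip) (.node 17569863 296 (.node 17569861 497 .tip .tip) .tip)))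
(.node 17569877 92
(.node 17569871 925 (.node 17569869 1067 (.node 17569867 1006 .tip .tip) .tip) (.node 17569875 1042 (.node 17569873 1023 .tip .tip) .tip))
(.node 17569883 985 (.node 17569881 960 (.node 17569879 1124 .tip .tip) .tip) (.node 17569887 367 (.node 17569885 352 .tip .tip) .tip))))))
(.node 17586241 978
(.node 17578065 63
(.node 17576025 491
(.node 17576013 762
(.node 17576007 983 (.node 17576005 650 (.node 17576003 361 .tip .tip) .tip) (.node 17576011 1121 (.node 17576009 88 .tip .tip) .tip))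
(.node 17576019 1028 (.node 17576017 1065 (.node 17576015 784 .tip .tip) .tip) (.node 17576023 242 (.node 17576021 968 .tip .tip) .tip)))
(.node 17578053 786
(.node 17576031 751 (.node 17576029 794 (.node 17576027 292 .tip .tip) .tip) (.node 17578051 271 (.node 17578049 304 .tip .tip) .tip))
(.node 17578059 829 (.node 17578057 1075 (.node 17578055 626 .tip .tip) .tip) (.node 17578063 735 (.node 17578061 1044 .tip .tip) .tip))))
(.node 17584201 590
(.node 17578077 819
(.node 17578071 733 (.node 17578069 208 (.node 17578067 1052 .tip .tip) .tip) (.node 17578075 387 (.node 17578073 307 .tip .tip) .tip))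
(.node 17584195 232 (.node 17584193 215 (.node 17578079 940 .tip .tip) .tip) (.node 17584199 908 (.node 17584197 932 .tip .tip) .tip)))
(.node 17584213 1279
(.node 17584207 572 (.node 17584205 541 (.node 17584203 744 .tip .tip) .tip) (.node 17584211 631 (.node 17584209 643 .tip .tip) .tip))
(.node 17584219 153 (.node 17584217 1425 (.node 17584215 1267 .tip .tip) .tip) (.node 17584223 1142 (.node 17584221 1153 .tip .tip) .tip)))))
(.node 17592401 1230
(.node 17586265 17
(.node 17586253 99
(.node 17586247 917 (.node 17586245 357 (.node 17586243 898 .tip .tip) .tip) (.node 17586251 104 (.node 17586249 110 .tip .tip) .tip))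
(.node 17586259 460 (.node 17586257 334 (.node 17586255 73 .tip .tip) .tip) (.node 17586263 420 (.node 17586261 324 .tip .tip) .tip)))
(.node 17592389 596
(.node 17586271 301 (.node 17586269 280 (.node 17586267 24 .tip .tip) .tip) (.node 17592387 1286 (.node 17592385 1118 .tip .tip) .tip))
(.node 17592395 483 (.node 17592393 399 (.node 17592391 659 .tip .tip) .tip) (.node 17592399 162 (.node 17592397 125 .tip .tip) .tip))))
(.node 17594441 1253
(.node 17592413 594
(.node 17592407 165 (.node 17592405 1311 (.node 17592403 485 .tip .tip) .tip) (.node 17592411 345 (.node 17592409 561 .tip .tip) .tip))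
(.node 17594435 506 (.node 17594433 569 (.node 17592415 577 .tip .tip) .tip) (.node 17594439 586 (.node 17594437 741 .tip .tip) .tip)))
(.node 17594453 149
(.node 17594447 211 (.node 17594445 225 (.node 17594443 1074 .tip .tip) .tip) (.node 17594451 553 (.node 17594449 525 .tip .tip) .tip))
(.node 17594459 1247 (.node 17594457 375 (.node 17594455 1424 .tip .tip) .tip) (.node 17594463 638 (.node 17594461 628 .tip .tip) .tip))))))))
(.node 17715265 1144
(.node 17657921 1098
(.node 17643585 1214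
(.node 17635409 1511
(.node 17633369 1472
(.node 17633357 1274
(.node 17633351 1053 (.node 17633349 1057 (.node 17633347 734 .tip .tip) .tip) (.node 17633355 1004 (.node 17633353 1220 .tip .tip) .tip))
(.node 17633363 805 (.node 17633361 818 (.node 17633359 928 .tip .tip) .tip) (.node 17633367 319 (.node 17633365 305 .tip .tip) .tip)))
(.node 17635397 1529
(.node 17633375 1483 (.node 17633373 1461 (.node 17633371 936 .tip .tip) .tip) (.node 17635395 1492 (.node 17635393 1490 .tip .tip) .tip))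
(.node 17635403 1489 (.node 17635401 995 (.node 17635399 1530 .tip .tip) .tip) (.node 17635407 1305 (.node 17635405 1301 .tip .tip) .tip))))
(.node 17641545 1136
(.node 17635421 1522
(.node 17635415 1168 (.node 17635413 1295 (.node 17635411 1512 .tip .tip) .tip) (.node 17635419 886 (.node 17635417 1493 .tip .tip) .tip))
(.node 17641539 6 (.node 17641537 416 (.node 17635423 1521 .tip .tip) .tip) (.node 17641543 624 (.node 17641541 122 .tip .tip) .tip)))
(.node 17641557 204
(.node 17641551 730 (.node 17641549 160 (.node 17641547 43 .tip .tip) .tip) (.node 17641555 926 (.node 17641553 39 .tip .tip) .tip))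
(.node 17641563 532 (.node 17641561 10 (.node 17641559 37 .tip .tip) .tip) (.node 17641567 148 (.node 17641565 1361 .tip .tip) .tip)))))
(.node 17649745 1519
(.node 17643609 1347
(.node 17643597 698
(.node 17643591 688 (.node 17643589 611 (.node 17643587 1212 .tip .tip) .tip) (.node 17643595 1293 (.node 17643593 1164 .tip .tip) .tip))
(.node 17643603 1299 (.node 17643601 1302 (.node 17643599 704 .tip .tip) .tip) (.node 17643607 187 (.node 17643605 1436 .tip .tip) .tip)))
(.node 17649733 1325
(.node 17643615 1365 (.node 17643613 1352 (.node 17643611 1350 .tip .tip) .tip) (.node 17649731 1484 (.node 17649729 1486 .tip .tip) .tip))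
(.node 17649739 817 (.node 17649737 1535 (.node 17649735 1208 .tip .tip) .tip) (.node 17649743 1337 (.node 17649741 1344 .tip .tip) .tip))))
(.node 17651785 163
(.node 17649757 1531
(.node 17649751 1345 (.node 17649749 1259 (.node 17649747 1516 .tip .tip) .tip) (.node 17649755 1482 (.node 17649753 1446 .tip .tip) .tip))
(.node 17651779 1297 (.node 17651777 1227 (.node 17649759 1532 .tip .tip) .tip) (.node 17651783 911 (.node 17651781 1327 .tip .tip) .tip)))
(.node 17651797 1341
(.node 17651791 432 (.node 17651789 484 (.node 17651787 179 .tip .tip) .tip) (.node 17651795 990 (.node 17651793 1016 .tip .tip) .tip))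
(.node 17651803 595 (.node 17651801 604 (.node 17651799 1266 .tip .tip) .tip) (.node 17651807 1117 (.node 17651805 1090 .tip .tip) .tip))))))
(.node 17700929 49
(.node 17659985 101
(.node 17657945 326
(.node 17657933 892
(.node 17657927 813 (.node 17657925 1494 (.node 17657923 1093 .tip .tip) .tip) (.node 17657931 1059 (.node 17657929 1084 .tip .tip) .tip))
(.node 17657939 441 (.node 17657937 435 (.node 17657935 900 .tip .tip) .tip) (.node 17657943 1481 (.node 17657941 1445 .tip .tip) .tip)))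
(.node 17659973 19
(.node 17657951 1455 (.node 17657949 1456 (.node 17657947 422 .tip .tip) .tip) (.node 17659971 87 (.node 17659969 1116 .tip .tip) .tip))
(.node 17659979 97 (.node 17659977 909 (.node 17659975 768 .tip .tip) .tip) (.node 17659983 904 (.node 17659981 3 .tip .tip) .tip))))
(.node 17698889 924
(.node 17659997 683
(.node 17659991 106 (.node 17659989 1330 (.node 17659987 478 .tip .tip) .tip) (.node 17659995 341 (.node 17659993 60 .tip .tip) .tip))
(.node 17698883 340 (.node 17698881 1526 (.node 17659999 15 .tip .tip) .tip) (.node 17698887 1460 (.node 17698885 1458 .tip .tip) .tip)))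
(.node 17698901 922
(.node 17698895 1171 (.node 17698893 1175 (.node 17698891 1415 .tip .tip) .tip) (.node 17698899 1218 (.node 17698897 1063 .tip .tip) .tip))
(.node 17698907 833 (.node 17698905 1499 (.node 17698903 903 .tip .tip) .tip) (.node 17698911 1379 (.node 17698909 1364 .tip .tip) .tip)))))
(.node 17702993 840
(.node 17700953 504
(.node 17700941 700
(.node 17700935 652 (.node 17700933 613 (.node 17700931 67 .tip .tip) .tip) (.node 17700939 914 (.node 17700937 720 .tip .tip) .tip))
(.node 17700947 261 (.node 17700945 274 (.node 17700943 854 .tip .tip) .tip) (.node 17700951 190 (.node 17700949 249 .tip .tip) .tip)))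
(.node 17702981 316
(.node 17700959 1366 (.node 17700957 754 (.node 17700955 848 .tip .tip) .tip) (.node 17702979 709 (.node 17702977 501 .tip .tip) .tip))
(.node 17702987 883 (.node 17702985 1071 (.node 17702983 277 .tip .tip) .tip) (.node 17702991 648 (.node 17702989 364 .tip .tip) .tip))))
(.node 17705033 1215
(.node 17703005 238
(.node 17702999 495 (.node 17702997 70 (.node 17702995 809 .tip .tip) .tip) (.node 17703003 371 (.node 17703001 390 .tip .tip) .tip))
(.node 17705027 823 (.node 17705025 598 (.node 17703007 873 .tip .tip) .tip) (.node 17705031 1115 (.node 17705029 1119 .tip .tip) .tip)))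
(.node 17705045 475
(.node 17705039 621 (.node 17705037 616 (.node 17705035 1061 .tip .tip) .tip) (.node 17705043 171 (.node 17705041 1378 .tip .tip) .tip))
(.node 17705051 1315 (.node 17705049 336 (.node 17705047 489 .tip .tip) .tip) (.node 17705055 193 (.node 17705053 200 .tip .tip) .tip)))))))
(.node 17768513 693
(.node 17721409 684
(.node 17717329 1491
(.node 17715289 581
(.node 17715277 398
(.node 17715271 1203 (.node 17715269 1135 (.node 17715267 1159 .tip .tip) .tip) (.node 17715275 131 (.node 17715273 124 .tip .tip) .tip))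
(.node 17715283 543 (.node 17715281 1310 (.node 17715279 482 .tip .tip) .tip) (.node 17715287 529 (.node 17715285 780 .tip .tip) .tip)))
(.node 17717317 1413
(.node 17715295 344 (.node 17715293 322 (.node 17715291 576 .tip .tip) .tip) (.node 17717315 1356 (.node 17717313 1110 .tip .tip) .tip))
(.node 17717323 678 (.node 17717321 1019 (.node 17717319 1388 .tip .tip) .tip) (.node 17717327 1312 (.node 17717325 1308 .tip .tip) .tip))))
(.node 17719369 77
(.node 17717341 1233
(.node 17717335 726 (.node 17717333 716 (.node 17717331 467 .tip .tip) .tip) (.node 17717339 1475 (.node 17717337 1435 .tip .tip) .tip))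
(.node 17719363 674 (.node 17719361 919 (.node 17717343 1229 .tip .tip) .tip) (.node 17719367 980 (.node 17719365 937 .tip .tip) .tip)))
(.node 17719381 407
(.node 17719375 837 (.node 17719373 844 (.node 17719371 1105 .tip .tip) .tip) (.node 17719379 934 (.node 17719377 929 .tip .tip) .tip))
(.node 17719387 284 (.node 17719385 453 (.node 17719383 401 .tip .tip) .tip) (.node 17719391 722 (.node 17719389 712 .tip .tip) .tip)))))
(.node 17764433 1069
(.node 17721433 298
(.node 17721421 180
(.node 17721415 1036 (.node 17721413 961 (.node 17721411 354 .tip .tip) .tip) (.node 17721419 94 (.node 17721417 433 .tip .tip) .tip))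
(.node 17721427 953 (.node 17721425 181 (.node 17721423 164 .tip .tip) .tip) (.node 17721431 1047 (.node 17721429 1008 .tip .tip) .tip)))
(.node 17764421 1480
(.node 17721439 605 (.node 17721437 526 (.node 17721435 1091 .tip .tip) .tip) (.node 17764419 369 (.node 17764417 1527 .tip .tip) .tip))
(.node 17764427 1125 (.node 17764425 1137 (.node 17764423 1476 .tip .tip) .tip) (.node 17764431 994 (.node 17764429 1334 .tip .tip) .tip))))
(.node 17766473 169
(.node 17764445 1375
(.node 17764439 1050 (.node 17764437 1024 (.node 17764435 1237 .tip .tip) .tip) (.node 17764443 534 (.node 17764441 499 .tip .tip) .tip))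
(.node 17766467 381 (.node 17766465 40 (.node 17764447 1360 .tip .tip) .tip) (.node 17766471 157 (.node 17766469 115 .tip .tip) .tip)))
(.node 17766485 244
(.node 17766479 635 (.node 17766477 487 (.node 17766475 1131 .tip .tip) .tip) (.node 17766483 7 (.node 17766481 424 .tip .tip) .tip))
(.node 17766491 195 (.node 17766489 515 (.node 17766487 29 .tip .tip) .tip) (.node 17766495 464 (.node 17766493 220 .tip .tip) .tip))))))
(.node 17782849 1429
(.node 17770577 651
(.node 17768537 1470
(.node 17768525 1033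
(.node 17768519 1386 (.node 17768517 1141 (.node 17768515 850 .tip .tip) .tip) (.node 17768523 1002 (.node 17768521 1282 .tip .tip) .tip))
(.node 17768531 1393 (.node 17768529 1395 (.node 17768527 1026 .tip .tip) .tip) (.node 17768535 539 (.node 17768533 1331 .tip .tip) .tip)))
(.node 17770565 259
(.node 17768543 1240 (.node 17768541 1272 (.node 17768539 1416 .tip .tip) .tip) (.node 17770563 248 (.node 17770561 143 .tip .tip) .tip))
(.node 17770571 753 (.node 17770569 51 (.node 17770567 972 .tip .tip) .tip) (.node 17770575 654 (.node 17770573 673 .tip .tip) .tip))))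
(.node 17780809 2
(.node 17770589 251
(.node 17770583 47 (.node 17770581 566 (.node 17770579 585 .tip .tip) .tip) (.node 17770587 263 (.node 17770585 971 .tip .tip) .tip))
(.node 17780803 976 (.node 17780801 75 (.node 17770591 680 .tip .tip) .tip) (.node 17780807 86 (.node 17780805 842 .tip .tip) .tip)))
(.node 17780821 291
(.node 17780815 96 (.node 17780813 66 (.node 17780811 790 .tip .tip) .tip) (.node 17780819 282 (.node 17780817 981 .tip .tip) .tip))
(.node 17780827 14 (.node 17780825 682 (.node 17780823 831 .tip .tip) .tip) (.node 17780831 79 (.node 17780829 59 .tip .tip) .tip)))))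
(.node 17784913 508
(.node 17782873 1452
(.node 17782861 1382
(.node 17782855 1381 (.node 17782853 1133 (.node 17782851 1426 .tip .tip) .tip) (.node 17782859 870 (.node 17782857 772 .tip .tip) .tip))
(.node 17782867 957 (.node 17782865 1012 (.node 17782863 1402 .tip .tip) .tip) (.node 17782871 524 (.node 17782869 1513 .tip .tip) .tip)))
(.node 17784901 346
(.node 17782879 1236 (.node 17782877 1257 (.node 17782875 1440 .tip .tip) .tip) (.node 17784899 358 (.node 17784897 578 .tip .tip) .tip))
(.node 17784907 100 (.node 17784905 314 (.node 17784903 562 .tip .tip) .tip) (.node 17784911 1045 (.node 17784909 105 .tip .tip) .tip))))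
(.node 17786953 1160
(.node 17784925 845
(.node 17784919 335 (.node 17784917 1149 (.node 17784915 126 .tip .tip) .tip) (.node 17784923 342 (.node 17784921 302 .tip .tip) .tip))
(.node 17786947 1404 (.node 17786945 866 (.node 17784927 18 .tip .tip) .tip) (.node 17786951 1194 (.node 17786949 965 .tip .tip) .tip)))
(.node 17786965 1515
(.node 17786959 1018 (.node 17786957 1411 (.node 17786955 1190 .tip .tip) .tip) (.node 17786963 1449 (.node 17786961 1020 .tip .tip) .tip))
(.node 17786971 1505 (.node 17786969 1502 (.node 17786967 1467 .tip .tip) .tip) (.node 17786975 782 (.node 17786973 1474 .tip .tip) .tip))))))))))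

/-- The reasons. -/
def caseDFullN1HowLL : Tab (ℕ × ℕ) :=
(.node 192 (.node 96 (.node 48 (.node 24 (.node 12 (.node 6 (.node 3 (.node 1 (.leaf (0, 0)) (.node 1 (.leaf (19, 0)) (.leaf (20, 0)))) (.node 1 (.leaf (21, 0)) (.node 1 (.leaf (19, 1)) (.leaf (20, 1)))))
(.node 3 (.node 1 (.leaf (21, 1)) (.node 1 (.leaf (19, 2)) (.leaf (20, 2)))) (.node 1 (.leaf (21, 2)) (.node 1 (.leaf (19, 3)) (.leaf (20, 3))))))
(.node 6 (.node 3 (.node 1 (.leaf (21, 3)) (.node 1 (.leaf (19, 4)) (.leaf (20, 4)))) (.node 1 (.leaf (21, 4)) (.node 1 (.leaf (19, 5)) (.leaf (20, 5)))))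
(.node 3 (.node 1 (.leaf (21, 5)) (.node 1 (.leaf (19, 6)) (.leaf (20, 6)))) (.node 1 (.leaf (21, 6)) (.node 1 (.leaf (20, 7)) (.leaf (21, 7)))))))
(.node 12 (.node 6 (.node 3 (.node 1 (.leaf (19, 8)) (.node 1 (.leaf (20, 8)) (.leaf (21, 8)))) (.node 1 (.leaf (19, 9)) (.node 1 (.leaf (20, 9)) (.leaf (21, 9)))))
(.node 3 (.node 1 (.leaf (20, 10)) (.node 1 (.leaf (21, 10)) (.leaf (19, 11)))) (.node 1 (.leaf (20, 11)) (.node 1 (.leaf (21, 11)) (.leaf (19, 12))))))
(.node 6 (.node 3 (.node 1 (.leaf (20, 12)) (.node 1 (.leaf (21, 12)) (.leaf (20, 13)))) (.node 1 (.leaf (21, 13)) (.node 1 (.leaf (19, 14)) (.leaf (20, 14)))))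
(.node 3 (.node 1 (.leaf (21, 14)) (.node 1 (.leaf (19, 15)) (.leaf (20, 15)))) (.node 1 (.leaf (21, 15)) (.node 1 (.leaf (20, 16)) (.leaf (21, 16))))))))
(.node 24 (.node 12 (.node 6 (.node 3 (.node 1 (.leaf (19, 17)) (.node 1 (.leaf (20, 17)) (.leaf (21, 17)))) (.node 1 (.leaf (19, 18)) (.node 1 (.leaf (20, 18)) (.leaf (21, 18)))))
(.node 3 (.node 1 (.leaf (20, 19)) (.node 1 (.leaf (21, 19)) (.leaf (19, 20)))) (.node 1 (.leaf (20, 20)) (.node 1 (.leaf (21, 20)) (.leaf (20, 21))))))
(.node 6 (.node 3 (.node 1 (.leaf (21, 21)) (.node 1 (.leaf (19, 22)) (.leaf (20, 22)))) (.node 1 (.leaf (21, 22)) (.node 1 (.leaf (19, 23)) (.leaf (20, 23)))))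
(.node 3 (.node 1 (.leaf (21, 23)) (.node 1 (.leaf (20, 24)) (.leaf (21, 24)))) (.node 1 (.leaf (19, 25)) (.node 1 (.leaf (21, 25)) (.leaf (19, 26)))))))
(.node 12 (.node 6 (.node 3 (.node 1 (.leaf (20, 26)) (.node 1 (.leaf (21, 26)) (.leaf (20, 27)))) (.node 1 (.leaf (21, 27)) (.node 1 (.leaf (19, 28)) (.leaf (20, 28)))))
(.node 3 (.node 1 (.leaf (21, 28)) (.node 1 (.leaf (19, 29)) (.leaf (20, 29)))) (.node 1 (.leaf (21, 29)) (.node 1 (.leaf (19, 30)) (.leaf (20, 30))))))
(.node 6 (.node 3 (.node 1 (.leaf (21, 30)) (.node 1 (.leaf (19, 31)) (.leaf (20, 31)))) (.node 1 (.leaf (21, 31)) (.node 1 (.leaf (20, 32)) (.leaf (21, 32)))))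
(.node 3 (.node 1 (.leaf (19, 33)) (.node 1 (.leaf (20, 33)) (.leaf (21, 33)))) (.node 1 (.leaf (19, 34)) (.node 1 (.leaf (20, 34)) (.leaf (21, 34)))))))))
(.node 48 (.node 24 (.node 12 (.node 6 (.node 3 (.node 1 (.leaf (20, 35)) (.node 1 (.leaf (21, 35)) (.leaf (19, 36)))) (.node 1 (.leaf (20, 36)) (.node 1 (.leaf (21, 36)) (.leaf (19, 37)))))
(.node 3 (.node 1 (.leaf (20, 37)) (.node 1 (.leaf (19, 38)) (.leaf (20, 38)))) (.node 1 (.leaf (21, 38)) (.node 1 (.leaf (19, 39)) (.leaf (20, 39))))))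
(.node 6 (.node 3 (.node 1 (.leaf (20, 40)) (.node 1 (.leaf (21, 40)) (.leaf (19, 41)))) (.node 1 (.leaf (20, 41)) (.node 1 (.leaf (21, 41)) (.leaf (19, 42)))))
(.node 3 (.node 1 (.leaf (20, 42)) (.node 1 (.leaf (21, 42)) (.leaf (20, 43)))) (.node 1 (.leaf (21, 43)) (.node 1 (.leaf (19, 44)) (.leaf (20, 44)))))))
(.node 12 (.node 6 (.node 3 (.node 1 (.leaf (21, 44)) (.node 1 (.leaf (20, 45)) (.leaf (21, 45)))) (.node 1 (.leaf (19, 46)) (.node 1 (.leaf (20, 46)) (.leaf (21, 46)))))
(.node 3 (.node 1 (.leaf (19, 47)) (.node 1 (.leaf (20, 47)) (.leaf (21, 47)))) (.node 1 (.leaf (20, 48)) (.node 1 (.leaf (21, 48)) (.leaf (19, 49))))))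
(.node 6 (.node 3 (.node 1 (.leaf (21, 49)) (.node 1 (.leaf (19, 50)) (.leaf (20, 50)))) (.node 1 (.leaf (21, 50)) (.node 1 (.leaf (20, 51)) (.leaf (21, 51)))))
(.node 3 (.node 1 (.leaf (19, 52)) (.node 1 (.leaf (20, 52)) (.leaf (21, 52)))) (.node 1 (.leaf (19, 53)) (.node 1 (.leaf (20, 53)) (.leaf (21, 53))))))))
(.node 24 (.node 12 (.node 6 (.node 3 (.node 1 (.leaf (19, 54)) (.node 1 (.leaf (20, 54)) (.leaf (21, 54)))) (.node 1 (.leaf (20, 55)) (.node 1 (.leaf (21, 55)) (.leaf (20, 56)))))
(.node 3 (.node 1 (.leaf (21, 56)) (.node 1 (.leaf (19, 57)) (.leaf (20, 57)))) (.node 1 (.leaf (21, 57)) (.node 1 (.leaf (19, 58)) (.leaf (20, 58))))))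
(.node 6 (.node 3 (.node 1 (.leaf (21, 58)) (.node 1 (.leaf (19, 59)) (.leaf (20, 59)))) (.node 1 (.leaf (21, 59)) (.node 1 (.leaf (19, 60)) (.leaf (20, 60)))))
(.node 3 (.node 1 (.leaf (21, 61)) (.node 1 (.leaf (20, 62)) (.leaf (21, 62)))) (.node 1 (.leaf (19, 63)) (.node 1 (.leaf (20, 63)) (.leaf (21, 63)))))))
(.node 12 (.node 6 (.node 3 (.node 1 (.leaf (20, 64)) (.node 1 (.leaf (21, 64)) (.leaf (19, 65)))) (.node 1 (.leaf (20, 65)) (.node 1 (.leaf (21, 65)) (.leaf (20, 66)))))
(.node 3 (.node 1 (.leaf (21, 66)) (.node 1 (.leaf (20, 67)) (.leaf (21, 67)))) (.node 1 (.leaf (19, 68)) (.node 1 (.leaf (20, 68)) (.leaf (20, 69))))))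
(.node 6 (.node 3 (.node 1 (.leaf (21, 69)) (.node 1 (.leaf (19, 70)) (.leaf (20, 70)))) (.node 1 (.leaf (21, 70)) (.node 1 (.leaf (20, 71)) (.leaf (21, 71)))))
(.node 3 (.node 1 (.leaf (19, 72)) (.node 1 (.leaf (20, 72)) (.leaf (21, 72)))) (.node 1 (.leaf (19, 73)) (.node 1 (.leaf (20, 73)) (.leaf (21, 73))))))))))
(.node 96 (.node 48 (.node 24 (.node 12 (.node 6 (.node 3 (.node 1 (.leaf (19, 74)) (.node 1 (.leaf (20, 74)) (.leaf (21, 74)))) (.node 1 (.leaf (19, 75)) (.node 1 (.leaf (20, 75)) (.leaf (21, 75)))))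
(.node 3 (.node 1 (.leaf (20, 76)) (.node 1 (.leaf (21, 76)) (.leaf (19, 77)))) (.node 1 (.leaf (20, 77)) (.node 1 (.leaf (21, 77)) (.leaf (19, 78))))))
(.node 6 (.node 3 (.node 1 (.leaf (20, 78)) (.node 1 (.leaf (21, 79)) (.leaf (19, 80)))) (.node 1 (.leaf (20, 80)) (.node 1 (.leaf (21, 80)) (.leaf (19, 81)))))
(.node 3 (.node 1 (.leaf (20, 81)) (.node 1 (.leaf (20, 82)) (.leaf (21, 82)))) (.node 1 (.leaf (19, 83)) (.node 1 (.leaf (20, 83)) (.leaf (21, 83)))))))
(.node 12 (.node 6 (.node 3 (.node 1 (.leaf (19, 84)) (.node 1 (.leaf (20, 84)) (.leaf (21, 84)))) (.node 1 (.leaf (20, 85)) (.node 1 (.leaf (19, 86)) (.leaf (20, 86)))))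
(.node 3 (.node 1 (.leaf (21, 86)) (.node 1 (.leaf (20, 87)) (.leaf (21, 87)))) (.node 1 (.leaf (19, 88)) (.node 1 (.leaf (20, 88)) (.leaf (21, 88))))))
(.node 6 (.node 3 (.node 1 (.leaf (19, 89)) (.node 1 (.leaf (20, 89)) (.leaf (21, 89)))) (.node 1 (.leaf (20, 90)) (.node 1 (.leaf (21, 90)) (.leaf (19, 91)))))
(.node 3 (.node 1 (.leaf (20, 92)) (.node 1 (.leaf (21, 92)) (.leaf (20, 93)))) (.node 1 (.leaf (21, 93)) (.node 1 (.leaf (19, 94)) (.leaf (20, 94))))))))
(.node 24 (.node 12 (.node 6 (.node 3 (.node 1 (.leaf (21, 94)) (.node 1 (.leaf (19, 95)) (.leaf (20, 95)))) (.node 1 (.leaf (21, 95)) (.node 1 (.leaf (19, 96)) (.leaf (21, 96)))))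
(.node 3 (.node 1 (.leaf (20, 97)) (.node 1 (.leaf (20, 98)) (.leaf (21, 98)))) (.node 1 (.leaf (20, 99)) (.node 1 (.leaf (21, 99)) (.leaf (19, 100))))))
(.node 6 (.node 3 (.node 1 (.leaf (21, 100)) (.node 1 (.leaf (20, 101)) (.leaf (21, 101)))) (.node 1 (.leaf (19, 102)) (.node 1 (.leaf (20, 102)) (.leaf (21, 102)))))
(.node 3 (.node 1 (.leaf (20, 103)) (.node 1 (.leaf (21, 103)) (.leaf (19, 104)))) (.node 1 (.leaf (20, 104)) (.node 1 (.leaf (21, 104)) (.leaf (19, 105)))))))
(.node 12 (.node 6 (.node 3 (.node 1 (.leaf (20, 105)) (.node 1 (.leaf (21, 105)) (.leaf (19, 107)))) (.node 1 (.leaf (20, 107)) (.node 1 (.leaf (21, 107)) (.leaf (19, 108)))))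
(.node 3 (.node 1 (.leaf (20, 108)) (.node 1 (.leaf (21, 108)) (.leaf (19, 109)))) (.node 1 (.leaf (20, 109)) (.node 1 (.leaf (20, 110)) (.leaf (21, 110))))))
(.node 6 (.node 3 (.node 1 (.leaf (19, 111)) (.node 1 (.leaf (21, 111)) (.leaf (19, 112)))) (.node 1 (.leaf (20, 112)) (.node 1 (.leaf (21, 112)) (.leaf (20, 113)))))
(.node 3 (.node 1 (.leaf (21, 113)) (.node 1 (.leaf (19, 114)) (.leaf (20, 114)))) (.node 1 (.leaf (21, 114)) (.node 1 (.leaf (20, 115)) (.leaf (21, 115)))))))))
(.node 48 (.node 24 (.node 12 (.node 6 (.node 3 (.node 1 (.leaf (19, 116)) (.node 1 (.leaf (20, 116)) (.leaf (21, 116)))) (.node 1 (.leaf (20, 117)) (.node 1 (.leaf (20, 118)) (.leaf (21, 118)))))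
(.node 3 (.node 1 (.leaf (19, 119)) (.node 1 (.leaf (20, 119)) (.leaf (21, 119)))) (.node 1 (.leaf (19, 120)) (.node 1 (.leaf (20, 120)) (.leaf (21, 120))))))
(.node 6 (.node 3 (.node 1 (.leaf (19, 121)) (.node 1 (.leaf (20, 121)) (.leaf (21, 121)))) (.node 1 (.leaf (20, 122)) (.node 1 (.leaf (21, 123)) (.leaf (20, 124)))))
(.node 3 (.node 1 (.leaf (21, 124)) (.node 1 (.leaf (19, 125)) (.leaf (20, 125)))) (.node 1 (.leaf (20, 126)) (.node 1 (.leaf (21, 126)) (.leaf (19, 127)))))))
(.node 12 (.node 6 (.node 3 (.node 1 (.leaf (20, 127)) (.node 1 (.leaf (21, 127)) (.leaf (21, 128)))) (.node 1 (.leaf (20, 129)) (.node 1 (.leaf (21, 129)) (.leaf (19, 130)))))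
(.node 3 (.node 1 (.leaf (20, 130)) (.node 1 (.leaf (20, 131)) (.leaf (21, 131)))) (.node 1 (.leaf (20, 132)) (.node 1 (.leaf (21, 132)) (.leaf (20, 133))))))
(.node 6 (.node 3 (.node 1 (.leaf (21, 133)) (.node 1 (.leaf (19, 134)) (.leaf (20, 134)))) (.node 1 (.leaf (21, 134)) (.node 1 (.leaf (20, 135)) (.leaf (21, 135)))))
(.node 3 (.node 1 (.leaf (19, 136)) (.node 1 (.leaf (20, 136)) (.leaf (21, 136)))) (.node 1 (.leaf (19, 137)) (.node 1 (.leaf (20, 137)) (.leaf (21, 137))))))))
(.node 24 (.node 12 (.node 6 (.node 3 (.node 1 (.leaf (20, 138)) (.node 1 (.leaf (21, 138)) (.leaf (19, 139)))) (.node 1 (.leaf (20, 139)) (.node 1 (.leaf (21, 139)) (.leaf (20, 140)))))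
(.node 3 (.node 1 (.leaf (21, 141)) (.node 1 (.leaf (19, 142)) (.leaf (20, 142)))) (.node 1 (.leaf (21, 142)) (.node 1 (.leaf (19, 143)) (.leaf (20, 143))))))
(.node 6 (.node 3 (.node 1 (.leaf (20, 144)) (.node 1 (.leaf (21, 144)) (.leaf (19, 145)))) (.node 1 (.leaf (20, 145)) (.node 1 (.leaf (21, 145)) (.leaf (19, 146)))))
(.node 3 (.node 1 (.leaf (20, 146)) (.node 1 (.leaf (21, 146)) (.leaf (19, 147)))) (.node 1 (.leaf (20, 147)) (.node 1 (.leaf (21, 147)) (.leaf (20, 148)))))))
(.node 12 (.node 6 (.node 3 (.node 1 (.leaf (21, 148)) (.node 1 (.leaf (19, 149)) (.leaf (21, 149)))) (.node 1 (.leaf (19, 150)) (.node 1 (.leaf (20, 150)) (.leaf (21, 150)))))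
(.node 3 (.node 1 (.leaf (20, 151)) (.node 1 (.leaf (21, 151)) (.leaf (19, 152)))) (.node 1 (.leaf (20, 153)) (.node 1 (.leaf (21, 153)) (.leaf (20, 154))))))
(.node 6 (.node 3 (.node 1 (.leaf (19, 155)) (.node 1 (.leaf (20, 155)) (.leaf (19, 156)))) (.node 1 (.leaf (20, 156)) (.node 1 (.leaf (20, 157)) (.leaf (21, 157)))))
(.node 3 (.node 1 (.leaf (20, 158)) (.node 1 (.leaf (21, 158)) (.leaf (19, 159)))) (.node 1 (.leaf (21, 159)) (.node 1 (.leaf (20, 160)) (.leaf (21, 160)))))))))))

/-- The reasons. -/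
def caseDFullN1HowLR : Tab (ℕ × ℕ) :=
(.node 192 (.node 96 (.node 48 (.node 24 (.node 12 (.node 6 (.node 3 (.node 1 (.leaf (19, 161)) (.node 1 (.leaf (20, 161)) (.leaf (21, 161)))) (.node 1 (.leaf (19, 162)) (.node 1 (.leaf (20, 162)) (.leaf (21, 163)))))
(.node 3 (.node 1 (.leaf (19, 164)) (.node 1 (.leaf (20, 164)) (.leaf (21, 164)))) (.node 1 (.leaf (20, 165)) (.node 1 (.leaf (21, 165)) (.leaf (19, 166))))))
(.node 6 (.node 3 (.node 1 (.leaf (20, 166)) (.node 1 (.leaf (21, 166)) (.leaf (20, 167)))) (.node 1 (.leaf (21, 167)) (.node 1 (.leaf (19, 168)) (.leaf (20, 168)))))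
(.node 3 (.node 1 (.leaf (21, 168)) (.node 1 (.leaf (20, 169)) (.leaf (21, 169)))) (.node 1 (.leaf (20, 170)) (.node 1 (.leaf (21, 170)) (.leaf (19, 171)))))))
(.node 12 (.node 6 (.node 3 (.node 1 (.leaf (20, 171)) (.node 1 (.leaf (21, 171)) (.leaf (20, 172)))) (.node 1 (.leaf (20, 173)) (.node 1 (.leaf (21, 173)) (.leaf (19, 174)))))
(.node 3 (.node 1 (.leaf (20, 174)) (.node 1 (.leaf (20, 175)) (.leaf (21, 175)))) (.node 1 (.leaf (19, 176)) (.node 1 (.leaf (20, 176)) (.leaf (20, 177))))))
(.node 6 (.node 3 (.node 1 (.leaf (21, 177)) (.node 1 (.leaf (19, 178)) (.leaf (20, 178)))) (.node 1 (.leaf (21, 178)) (.node 1 (.leaf (20, 179)) (.leaf (21, 179)))))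
(.node 3 (.node 1 (.leaf (20, 180)) (.node 1 (.leaf (20, 181)) (.leaf (21, 181)))) (.node 1 (.leaf (19, 182)) (.node 1 (.leaf (20, 182)) (.leaf (21, 182))))))))
(.node 24 (.node 12 (.node 6 (.node 3 (.node 1 (.leaf (20, 183)) (.node 1 (.leaf (21, 183)) (.leaf (19, 184)))) (.node 1 (.leaf (20, 184)) (.node 1 (.leaf (21, 184)) (.leaf (20, 185)))))
(.node 3 (.node 1 (.leaf (21, 185)) (.node 1 (.leaf (20, 186)) (.leaf (21, 186)))) (.node 1 (.leaf (19, 187)) (.node 1 (.leaf (20, 187)) (.leaf (21, 187))))))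
(.node 6 (.node 3 (.node 1 (.leaf (19, 188)) (.node 1 (.leaf (20, 188)) (.leaf (21, 189)))) (.node 1 (.leaf (20, 190)) (.node 1 (.leaf (21, 190)) (.leaf (19, 191)))))
(.node 3 (.node 1 (.leaf (20, 191)) (.node 1 (.leaf (20, 192)) (.leaf (21, 192)))) (.node 1 (.leaf (19, 193)) (.node 1 (.leaf (20, 193)) (.leaf (21, 193)))))))
(.node 12 (.node 6 (.node 3 (.node 1 (.leaf (19, 194)) (.node 1 (.leaf (20, 194)) (.leaf (21, 194)))) (.node 1 (.leaf (20, 195)) (.node 1 (.leaf (19, 196)) (.leaf (20, 196)))))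
(.node 3 (.node 1 (.leaf (21, 196)) (.node 1 (.leaf (20, 197)) (.leaf (21, 197)))) (.node 1 (.leaf (19, 198)) (.node 1 (.leaf (20, 198)) (.leaf (21, 198))))))
(.node 6 (.node 3 (.node 1 (.leaf (19, 199)) (.node 1 (.leaf (20, 199)) (.leaf (21, 199)))) (.node 1 (.leaf (20, 200)) (.node 1 (.leaf (21, 200)) (.leaf (19, 201)))))
(.node 3 (.node 1 (.leaf (20, 202)) (.node 1 (.leaf (21, 202)) (.leaf (20, 203)))) (.node 1 (.leaf (21, 203)) (.node 1 (.leaf (19, 204)) (.leaf (20, 204)))))))))
(.node 48 (.node 24 (.node 12 (.node 6 (.node 3 (.node 1 (.leaf (21, 204)) (.node 1 (.leaf (20, 205)) (.leaf (20, 206)))) (.node 1 (.leaf (21, 206)) (.node 1 (.leaf (20, 207)) (.leaf (19, 208)))))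
(.node 3 (.node 1 (.leaf (20, 209)) (.node 1 (.leaf (21, 209)) (.leaf (19, 210)))) (.node 1 (.leaf (20, 210)) (.node 1 (.leaf (21, 210)) (.leaf (19, 211))))))
(.node 6 (.node 3 (.node 1 (.leaf (20, 211)) (.node 1 (.leaf (21, 211)) (.leaf (19, 212)))) (.node 1 (.leaf (20, 212)) (.node 1 (.leaf (20, 213)) (.leaf (21, 213)))))
(.node 3 (.node 1 (.leaf (21, 214)) (.node 1 (.leaf (20, 215)) (.leaf (21, 215)))) (.node 1 (.leaf (20, 216)) (.node 1 (.leaf (19, 217)) (.leaf (20, 217)))))))
(.node 12 (.node 6 (.node 3 (.node 1 (.leaf (21, 217)) (.node 1 (.leaf (19, 218)) (.leaf (20, 218)))) (.node 1 (.leaf (19, 219)) (.node 1 (.leaf (21, 219)) (.leaf (20, 220)))))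
(.node 3 (.node 1 (.leaf (21, 220)) (.node 1 (.leaf (20, 221)) (.leaf (21, 221)))) (.node 1 (.leaf (19, 222)) (.node 1 (.leaf (20, 222)) (.leaf (21, 222))))))
(.node 6 (.node 3 (.node 1 (.leaf (19, 223)) (.node 1 (.leaf (20, 223)) (.leaf (21, 223)))) (.node 1 (.leaf (20, 224)) (.node 1 (.leaf (21, 225)) (.leaf (20, 226)))))
(.node 3 (.node 1 (.leaf (21, 226)) (.node 1 (.leaf (19, 227)) (.leaf (20, 227)))) (.node 1 (.leaf (21, 227)) (.node 1 (.leaf (20, 228)) (.leaf (19, 229))))))))
(.node 24 (.node 12 (.node 6 (.node 3 (.node 1 (.leaf (20, 229)) (.node 1 (.leaf (21, 229)) (.leaf (20, 230)))) (.node 1 (.leaf (21, 230)) (.node 1 (.leaf (20, 231)) (.leaf (21, 231)))))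
(.node 3 (.node 1 (.leaf (20, 232)) (.node 1 (.leaf (20, 233)) (.leaf (21, 233)))) (.node 1 (.leaf (19, 234)) (.node 1 (.leaf (20, 234)) (.leaf (21, 234))))))
(.node 6 (.node 3 (.node 1 (.leaf (19, 235)) (.node 1 (.leaf (21, 235)) (.leaf (20, 236)))) (.node 1 (.leaf (21, 236)) (.node 1 (.leaf (19, 237)) (.leaf (20, 237)))))
(.node 3 (.node 1 (.leaf (21, 237)) (.node 1 (.leaf (20, 238)) (.leaf (21, 238)))) (.node 1 (.leaf (19, 239)) (.node 1 (.leaf (20, 239)) (.leaf (21, 239)))))))
(.node 12 (.node 6 (.node 3 (.node 1 (.leaf (21, 241)) (.node 1 (.leaf (19, 242)) (.leaf (20, 242)))) (.node 1 (.leaf (20, 243)) (.node 1 (.leaf (19, 245)) (.leaf (20, 245)))))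
(.node 3 (.node 1 (.leaf (19, 246)) (.node 1 (.leaf (20, 246)) (.leaf (21, 246)))) (.node 1 (.leaf (21, 247)) (.node 1 (.leaf (19, 248)) (.leaf (20, 248))))))
(.node 6 (.node 3 (.node 1 (.leaf (20, 250)) (.node 1 (.leaf (19, 252)) (.leaf (21, 252)))) (.node 1 (.leaf (19, 253)) (.node 1 (.leaf (21, 253)) (.leaf (20, 255)))))
(.node 3 (.node 1 (.leaf (21, 255)) (.node 1 (.leaf (20, 256)) (.leaf (21, 256)))) (.node 1 (.leaf (19, 257)) (.node 1 (.leaf (21, 257)) (.leaf (19, 258))))))))))
(.node 96 (.node 48 (.node 24 (.node 12 (.node 6 (.node 3 (.node 1 (.leaf (20, 258)) (.node 1 (.leaf (21, 258)) (.leaf (19, 259)))) (.node 1 (.leaf (20, 259)) (.node 1 (.leaf (21, 260)) (.leaf (19, 261)))))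
(.node 3 (.node 1 (.leaf (20, 262)) (.node 1 (.leaf (19, 264)) (.leaf (20, 264)))) (.node 1 (.leaf (21, 265)) (.node 1 (.leaf (20, 266)) (.leaf (21, 266))))))
(.node 6 (.node 3 (.node 1 (.leaf (19, 267)) (.node 1 (.leaf (20, 267)) (.leaf (21, 267)))) (.node 1 (.leaf (19, 268)) (.node 1 (.leaf (20, 268)) (.leaf (21, 268)))))
(.node 3 (.node 1 (.leaf (21, 269)) (.node 1 (.leaf (20, 270)) (.leaf (19, 271)))) (.node 1 (.leaf (20, 271)) (.node 1 (.leaf (20, 273)) (.leaf (21, 273)))))))
(.node 12 (.node 6 (.node 3 (.node 1 (.leaf (20, 274)) (.node 1 (.leaf (21, 274)) (.leaf (19, 275)))) (.node 1 (.leaf (20, 275)) (.node 1 (.leaf (20, 276)) (.leaf (21, 276)))))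
(.node 3 (.node 1 (.leaf (20, 277)) (.node 1 (.leaf (21, 277)) (.leaf (20, 278)))) (.node 1 (.leaf (21, 278)) (.node 1 (.leaf (19, 279)) (.leaf (20, 279))))))
(.node 6 (.node 3 (.node 1 (.leaf (21, 279)) (.node 1 (.leaf (20, 280)) (.leaf (21, 280)))) (.node 1 (.leaf (19, 281)) (.node 1 (.leaf (20, 281)) (.leaf (21, 281)))))
(.node 3 (.node 1 (.leaf (20, 282)) (.node 1 (.leaf (20, 283)) (.leaf (21, 283)))) (.node 1 (.leaf (19, 284)) (.node 1 (.leaf (20, 284)) (.leaf (21, 284))))))))
(.node 24 (.node 12 (.node 6 (.node 3 (.node 1 (.leaf (20, 285)) (.node 1 (.leaf (20, 286)) (.leaf (21, 286)))) (.node 1 (.leaf (20, 287)) (.node 1 (.leaf (20, 288)) (.leaf (21, 288)))))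
(.node 3 (.node 1 (.leaf (19, 289)) (.node 1 (.leaf (21, 289)) (.leaf (19, 290)))) (.node 1 (.leaf (20, 290)) (.node 1 (.leaf (21, 290)) (.leaf (19, 291))))))
(.node 6 (.node 3 (.node 1 (.leaf (20, 291)) (.node 1 (.leaf (21, 291)) (.leaf (19, 292)))) (.node 1 (.leaf (21, 292)) (.node 1 (.leaf (19, 293)) (.leaf (20, 293)))))
(.node 3 (.node 1 (.leaf (20, 294)) (.node 1 (.leaf (21, 294)) (.leaf (19, 295)))) (.node 1 (.leaf (20, 296)) (.node 1 (.leaf (21, 296)) (.leaf (20, 297)))))))
(.node 12 (.node 6 (.node 3 (.node 1 (.leaf (19, 298)) (.node 1 (.leaf (20, 298)) (.leaf (20, 299)))) (.node 1 (.leaf (21, 300)) (.node 1 (.leaf (20, 301)) (.leaf (21, 301)))))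
(.node 3 (.node 1 (.leaf (19, 302)) (.node 1 (.leaf (21, 302)) (.leaf (19, 303)))) (.node 1 (.leaf (20, 303)) (.node 1 (.leaf (21, 303)) (.leaf (19, 304))))))
(.node 6 (.node 3 (.node 1 (.leaf (20, 304)) (.node 1 (.leaf (21, 305)) (.leaf (19, 306)))) (.node 1 (.leaf (20, 306)) (.node 1 (.leaf (20, 307)) (.leaf (21, 307)))))
(.node 3 (.node 1 (.leaf (19, 308)) (.node 1 (.leaf (20, 308)) (.leaf (21, 308)))) (.node 1 (.leaf (19, 309)) (.node 1 (.leaf (20, 309)) (.leaf (21, 309)))))))))
(.node 48 (.node 24 (.node 12 (.node 6 (.node 3 (.node 1 (.leaf (20, 310)) (.node 1 (.leaf (21, 310)) (.leaf (20, 311)))) (.node 1 (.leaf (21, 311)) (.node 1 (.leaf (19, 312)) (.leaf (20, 312)))))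
(.node 3 (.node 1 (.leaf (21, 312)) (.node 1 (.leaf (20, 313)) (.leaf (19, 314)))) (.node 1 (.leaf (20, 314)) (.node 1 (.leaf (20, 315)) (.leaf (21, 315))))))
(.node 6 (.node 3 (.node 1 (.leaf (19, 316)) (.node 1 (.leaf (20, 316)) (.leaf (20, 317)))) (.node 1 (.leaf (19, 318)) (.node 1 (.leaf (20, 318)) (.leaf (21, 318)))))
(.node 3 (.node 1 (.leaf (21, 319)) (.node 1 (.leaf (20, 320)) (.leaf (19, 321)))) (.node 1 (.leaf (20, 321)) (.node 1 (.leaf (21, 321)) (.leaf (20, 322)))))))
(.node 12 (.node 6 (.node 3 (.node 1 (.leaf (21, 322)) (.node 1 (.leaf (19, 323)) (.leaf (20, 323)))) (.node 1 (.leaf (21, 323)) (.node 1 (.leaf (20, 324)) (.leaf (21, 324)))))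
(.node 3 (.node 1 (.leaf (20, 325)) (.node 1 (.leaf (21, 325)) (.leaf (19, 326)))) (.node 1 (.leaf (20, 326)) (.node 1 (.leaf (21, 326)) (.leaf (19, 327))))))
(.node 6 (.node 3 (.node 1 (.leaf (20, 328)) (.node 1 (.leaf (21, 328)) (.leaf (19, 329)))) (.node 1 (.leaf (20, 329)) (.node 1 (.leaf (20, 330)) (.leaf (21, 330)))))
(.node 3 (.node 1 (.leaf (19, 331)) (.node 1 (.leaf (20, 331)) (.leaf (21, 331)))) (.node 1 (.leaf (20, 332)) (.node 1 (.leaf (20, 333)) (.leaf (19, 334))))))))
(.node 24 (.node 12 (.node 6 (.node 3 (.node 1 (.leaf (20, 334)) (.node 1 (.leaf (21, 335)) (.leaf (19, 336)))) (.node 1 (.leaf (20, 336)) (.node 1 (.leaf (21, 336)) (.leaf (20, 337)))))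
(.node 3 (.node 1 (.leaf (21, 338)) (.node 1 (.leaf (19, 339)) (.leaf (20, 340)))) (.node 1 (.leaf (21, 340)) (.node 1 (.leaf (19, 341)) (.leaf (20, 341))))))
(.node 6 (.node 3 (.node 1 (.leaf (20, 342)) (.node 1 (.leaf (21, 343)) (.leaf (20, 344)))) (.node 1 (.leaf (19, 345)) (.node 1 (.leaf (20, 346)) (.leaf (21, 346)))))
(.node 3 (.node 1 (.leaf (19, 347)) (.node 1 (.leaf (20, 347)) (.leaf (21, 347)))) (.node 1 (.leaf (19, 348)) (.node 1 (.leaf (20, 348)) (.leaf (21, 348)))))))
(.node 12 (.node 6 (.node 3 (.node 1 (.leaf (21, 350)) (.node 1 (.leaf (20, 352)) (.leaf (21, 352)))) (.node 1 (.leaf (20, 353)) (.node 1 (.leaf (20, 354)) (.leaf (21, 354)))))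
(.node 3 (.node 1 (.leaf (19, 355)) (.node 1 (.leaf (20, 355)) (.leaf (20, 356)))) (.node 1 (.leaf (21, 356)) (.node 1 (.leaf (20, 357)) (.leaf (21, 357))))))
(.node 6 (.node 3 (.node 1 (.leaf (21, 358)) (.node 1 (.leaf (19, 359)) (.leaf (20, 359)))) (.node 1 (.leaf (21, 359)) (.node 1 (.leaf (21, 361)) (.leaf (20, 362)))))
(.node 3 (.node 1 (.leaf (21, 362)) (.node 1 (.leaf (20, 363)) (.leaf (20, 364)))) (.node 1 (.leaf (21, 364)) (.node 1 (.leaf (20, 365)) (.leaf (21, 365)))))))))))

/-- The reasons. -/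
def caseDFullN1HowL : Tab (ℕ × ℕ) := .node 384 caseDFullN1HowLL caseDFullN1HowLR

/-- The reasons. -/
def caseDFullN1HowRL : Tab (ℕ × ℕ) :=
(.node 192 (.node 96 (.node 48 (.node 24 (.node 12 (.node 6 (.node 3 (.node 1 (.leaf (20, 366)) (.node 1 (.leaf (21, 366)) (.leaf (20, 367)))) (.node 1 (.leaf (20, 368)) (.node 1 (.leaf (19, 369)) (.leaf (20, 369)))))
(.node 3 (.node 1 (.leaf (21, 369)) (.node 1 (.leaf (19, 370)) (.leaf (21, 370)))) (.node 1 (.leaf (20, 371)) (.node 1 (.leaf (21, 371)) (.leaf (20, 372))))))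
(.node 6 (.node 3 (.node 1 (.leaf (21, 372)) (.node 1 (.leaf (19, 373)) (.leaf (20, 373)))) (.node 1 (.leaf (21, 373)) (.node 1 (.leaf (19, 375)) (.leaf (20, 375)))))
(.node 3 (.node 1 (.leaf (21, 376)) (.node 1 (.leaf (19, 377)) (.leaf (20, 377)))) (.node 1 (.leaf (20, 379)) (.node 1 (.leaf (19, 381)) (.leaf (21, 381)))))))
(.node 12 (.node 6 (.node 3 (.node 1 (.leaf (19, 382)) (.node 1 (.leaf (21, 382)) (.leaf (20, 384)))) (.node 1 (.leaf (21, 384)) (.node 1 (.leaf (20, 385)) (.leaf (21, 385)))))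
(.node 3 (.node 1 (.leaf (19, 386)) (.node 1 (.leaf (21, 386)) (.leaf (20, 387)))) (.node 1 (.leaf (21, 387)) (.node 1 (.leaf (19, 388)) (.leaf (20, 388))))))
(.node 6 (.node 3 (.node 1 (.leaf (21, 388)) (.node 1 (.leaf (21, 389)) (.leaf (21, 390)))) (.node 1 (.leaf (20, 391)) (.node 1 (.leaf (21, 391)) (.leaf (21, 392)))))
(.node 3 (.node 1 (.leaf (19, 393)) (.node 1 (.leaf (20, 393)) (.leaf (21, 393)))) (.node 1 (.leaf (20, 395)) (.node 1 (.leaf (21, 395)) (.leaf (19, 396))))))))
(.node 24 (.node 12 (.node 6 (.node 3 (.node 1 (.leaf (20, 396)) (.node 1 (.leaf (21, 396)) (.leaf (20, 398)))) (.node 1 (.leaf (19, 399)) (.node 1 (.leaf (20, 399)) (.leaf (20, 400)))))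
(.node 3 (.node 1 (.leaf (21, 400)) (.node 1 (.leaf (19, 401)) (.leaf (20, 401)))) (.node 1 (.leaf (21, 401)) (.node 1 (.leaf (19, 402)) (.leaf (19, 403))))))
(.node 6 (.node 3 (.node 1 (.leaf (20, 403)) (.node 1 (.leaf (21, 403)) (.leaf (20, 404)))) (.node 1 (.leaf (21, 404)) (.node 1 (.leaf (19, 405)) (.leaf (21, 405)))))
(.node 3 (.node 1 (.leaf (19, 406)) (.node 1 (.leaf (21, 407)) (.leaf (19, 408)))) (.node 1 (.leaf (21, 409)) (.node 1 (.leaf (20, 410)) (.leaf (20, 411)))))))
(.node 12 (.node 6 (.node 3 (.node 1 (.leaf (21, 411)) (.node 1 (.leaf (20, 413)) (.leaf (21, 413)))) (.node 1 (.leaf (19, 414)) (.node 1 (.leaf (20, 414)) (.leaf (21, 415)))))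
(.node 3 (.node 1 (.leaf (20, 416)) (.node 1 (.leaf (20, 417)) (.leaf (21, 417)))) (.node 1 (.leaf (19, 418)) (.node 1 (.leaf (20, 418)) (.leaf (21, 418))))))
(.node 6 (.node 3 (.node 1 (.leaf (19, 419)) (.node 1 (.leaf (21, 419)) (.leaf (20, 420)))) (.node 1 (.leaf (21, 420)) (.node 1 (.leaf (20, 421)) (.leaf (21, 421)))))
(.node 3 (.node 1 (.leaf (20, 422)) (.node 1 (.leaf (19, 425)) (.leaf (20, 426)))) (.node 1 (.leaf (21, 426)) (.node 1 (.leaf (19, 427)) (.leaf (20, 427)))))))))
(.node 48 (.node 24 (.node 12 (.node 6 (.node 3 (.node 1 (.leaf (21, 427)) (.node 1 (.leaf (20, 428)) (.leaf (20, 429)))) (.node 1 (.leaf (21, 429)) (.node 1 (.leaf (19, 430)) (.leaf (20, 430)))))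
(.node 3 (.node 1 (.leaf (21, 430)) (.node 1 (.leaf (19, 431)) (.leaf (21, 432)))) (.node 1 (.leaf (19, 433)) (.node 1 (.leaf (20, 433)) (.leaf (20, 434))))))
(.node 6 (.node 3 (.node 1 (.leaf (21, 434)) (.node 1 (.leaf (20, 435)) (.leaf (21, 435)))) (.node 1 (.leaf (19, 436)) (.node 1 (.leaf (21, 436)) (.leaf (19, 437)))))
(.node 3 (.node 1 (.leaf (20, 437)) (.node 1 (.leaf (21, 437)) (.leaf (19, 439)))) (.node 1 (.leaf (20, 439)) (.node 1 (.leaf (21, 439)) (.leaf (19, 440)))))))
(.node 12 (.node 6 (.node 3 (.node 1 (.leaf (21, 440)) (.node 1 (.leaf (20, 441)) (.leaf (21, 441)))) (.node 1 (.leaf (19, 442)) (.node 1 (.leaf (21, 443)) (.leaf (21, 444)))))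
(.node 3 (.node 1 (.leaf (19, 445)) (.node 1 (.leaf (20, 446)) (.leaf (19, 448)))) (.node 1 (.leaf (20, 449)) (.node 1 (.leaf (21, 449)) (.leaf (19, 450))))))
(.node 6 (.node 3 (.node 1 (.leaf (20, 450)) (.node 1 (.leaf (21, 450)) (.leaf (19, 451)))) (.node 1 (.leaf (21, 451)) (.node 1 (.leaf (20, 452)) (.leaf (20, 453)))))
(.node 3 (.node 1 (.leaf (21, 453)) (.node 1 (.leaf (21, 454)) (.leaf (20, 455)))) (.node 1 (.leaf (20, 456)) (.node 1 (.leaf (19, 457)) (.leaf (21, 457))))))))
(.node 24 (.node 12 (.node 6 (.node 3 (.node 1 (.leaf (20, 458)) (.node 1 (.leaf (19, 459)) (.leaf (20, 460)))) (.node 1 (.leaf (21, 460)) (.node 1 (.leaf (20, 462)) (.leaf (21, 462)))))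
(.node 3 (.node 1 (.leaf (19, 463)) (.node 1 (.leaf (20, 463)) (.leaf (21, 463)))) (.node 1 (.leaf (20, 464)) (.node 1 (.leaf (21, 465)) (.leaf (21, 466))))))
(.node 6 (.node 3 (.node 1 (.leaf (19, 467)) (.node 1 (.leaf (20, 467)) (.leaf (20, 468)))) (.node 1 (.leaf (19, 469)) (.node 1 (.leaf (21, 469)) (.leaf (20, 470)))))
(.node 3 (.node 1 (.leaf (21, 470)) (.node 1 (.leaf (21, 471)) (.leaf (20, 472)))) (.node 1 (.leaf (21, 473)) (.node 1 (.leaf (19, 475)) (.leaf (21, 475)))))))
(.node 12 (.node 6 (.node 3 (.node 1 (.leaf (21, 476)) (.node 1 (.leaf (20, 477)) (.leaf (21, 478)))) (.node 1 (.leaf (21, 479)) (.node 1 (.leaf (19, 483)) (.leaf (20, 483)))))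
(.node 3 (.node 1 (.leaf (19, 486)) (.node 1 (.leaf (21, 486)) (.leaf (20, 488)))) (.node 1 (.leaf (20, 489)) (.node 1 (.leaf (21, 489)) (.leaf (19, 490))))))
(.node 6 (.node 3 (.node 1 (.leaf (21, 491)) (.node 1 (.leaf (21, 492)) (.leaf (19, 493)))) (.node 1 (.leaf (20, 493)) (.node 1 (.leaf (20, 494)) (.leaf (19, 495)))))
(.node 3 (.node 1 (.leaf (20, 495)) (.node 1 (.leaf (20, 497)) (.leaf (20, 498)))) (.node 1 (.leaf (19, 499)) (.node 1 (.leaf (20, 499)) (.leaf (21, 499))))))))))
(.node 96 (.node 48 (.node 24 (.node 12 (.node 6 (.node 3 (.node 1 (.leaf (21, 500)) (.node 1 (.leaf (19, 501)) (.leaf (20, 501)))) (.node 1 (.leaf (20, 502)) (.node 1 (.leaf (19, 503)) (.leaf (20, 503)))))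
(.node 3 (.node 1 (.leaf (21, 503)) (.node 1 (.leaf (20, 504)) (.leaf (19, 506)))) (.node 1 (.leaf (20, 506)) (.node 1 (.leaf (21, 506)) (.leaf (21, 507))))))
(.node 6 (.node 3 (.node 1 (.leaf (19, 508)) (.node 1 (.leaf (20, 508)) (.leaf (21, 508)))) (.node 1 (.leaf (19, 510)) (.node 1 (.leaf (21, 510)) (.leaf (19, 511)))))
(.node 3 (.node 1 (.leaf (21, 512)) (.node 1 (.leaf (20, 513)) (.leaf (20, 514)))) (.node 1 (.leaf (19, 515)) (.node 1 (.leaf (20, 515)) (.leaf (20, 516)))))))
(.node 12 (.node 6 (.node 3 (.node 1 (.leaf (21, 516)) (.node 1 (.leaf (21, 517)) (.leaf (19, 518)))) (.node 1 (.leaf (21, 518)) (.node 1 (.leaf (19, 520)) (.leaf (20, 520)))))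
(.node 3 (.node 1 (.leaf (21, 521)) (.node 1 (.leaf (20, 522)) (.leaf (21, 522)))) (.node 1 (.leaf (20, 523)) (.node 1 (.leaf (19, 524)) (.leaf (20, 524))))))
(.node 6 (.node 3 (.node 1 (.leaf (21, 524)) (.node 1 (.leaf (20, 525)) (.leaf (21, 525)))) (.node 1 (.leaf (20, 526)) (.node 1 (.leaf (20, 527)) (.leaf (19, 528)))))
(.node 3 (.node 1 (.leaf (20, 528)) (.node 1 (.leaf (21, 528)) (.leaf (20, 529)))) (.node 1 (.leaf (20, 530)) (.node 1 (.leaf (21, 530)) (.leaf (19, 531))))))))
(.node 24 (.node 12 (.node 6 (.node 3 (.node 1 (.leaf (20, 531)) (.node 1 (.leaf (20, 532)) (.leaf (21, 532)))) (.node 1 (.leaf (20, 533)) (.node 1 (.leaf (19, 534)) (.leaf (20, 534)))))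
(.node 3 (.node 1 (.leaf (21, 534)) (.node 1 (.leaf (20, 535)) (.leaf (21, 535)))) (.node 1 (.leaf (20, 536)) (.node 1 (.leaf (21, 537)) (.leaf (20, 538))))))
(.node 6 (.node 3 (.node 1 (.leaf (19, 539)) (.node 1 (.leaf (20, 539)) (.leaf (21, 540)))) (.node 1 (.leaf (19, 541)) (.node 1 (.leaf (20, 541)) (.leaf (19, 542)))))
(.node 3 (.node 1 (.leaf (20, 542)) (.node 1 (.leaf (21, 542)) (.leaf (20, 544)))) (.node 1 (.leaf (19, 545)) (.node 1 (.leaf (21, 546)) (.leaf (20, 547)))))))
(.node 12 (.node 6 (.node 3 (.node 1 (.leaf (21, 547)) (.node 1 (.leaf (20, 549)) (.leaf (21, 549)))) (.node 1 (.leaf (19, 550)) (.node 1 (.leaf (20, 552)) (.leaf (21, 553)))))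
(.node 3 (.node 1 (.leaf (19, 555)) (.node 1 (.leaf (20, 555)) (.leaf (21, 558)))) (.node 1 (.leaf (20, 559)) (.node 1 (.leaf (21, 559)) (.leaf (19, 560))))))
(.node 6 (.node 3 (.node 1 (.leaf (19, 561)) (.node 1 (.leaf (21, 565)) (.leaf (19, 568)))) (.node 1 (.leaf (20, 568)) (.node 1 (.leaf (21, 569)) (.leaf (19, 570)))))
(.node 3 (.node 1 (.leaf (20, 572)) (.node 1 (.leaf (19, 574)) (.leaf (21, 575)))) (.node 1 (.leaf (20, 576)) (.node 1 (.leaf (20, 577)) (.leaf (20, 579)))))))))
(.node 48 (.node 24 (.node 12 (.node 6 (.node 3 (.node 1 (.leaf (20, 580)) (.node 1 (.leaf (20, 581)) (.leaf (21, 581)))) (.node 1 (.leaf (20, 582)) (.node 1 (.leaf (21, 582)) (.leaf (20, 583)))))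
(.node 3 (.node 1 (.leaf (20, 584)) (.node 1 (.leaf (21, 584)) (.leaf (20, 585)))) (.node 1 (.leaf (19, 586)) (.node 1 (.leaf (20, 588)) (.leaf (21, 588))))))
(.node 6 (.node 3 (.node 1 (.leaf (19, 589)) (.node 1 (.leaf (20, 590)) (.leaf (21, 590)))) (.node 1 (.leaf (20, 591)) (.node 1 (.leaf (19, 592)) (.leaf (20, 592)))))
(.node 3 (.node 1 (.leaf (20, 593)) (.node 1 (.leaf (19, 594)) (.leaf (20, 594)))) (.node 1 (.leaf (19, 597)) (.node 1 (.leaf (20, 597)) (.leaf (20, 598)))))))
(.node 12 (.node 6 (.node 3 (.node 1 (.leaf (21, 598)) (.node 1 (.leaf (20, 599)) (.leaf (19, 601)))) (.node 1 (.leaf (20, 601)) (.node 1 (.leaf (20, 603)) (.leaf (21, 603)))))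
(.node 3 (.node 1 (.leaf (21, 604)) (.node 1 (.leaf (19, 606)) (.leaf (20, 606)))) (.node 1 (.leaf (21, 606)) (.node 1 (.leaf (20, 607)) (.leaf (21, 607))))))
(.node 6 (.node 3 (.node 1 (.leaf (19, 608)) (.node 1 (.leaf (20, 608)) (.leaf (21, 608)))) (.node 1 (.leaf (20, 609)) (.node 1 (.leaf (20, 610)) (.leaf (21, 610)))))
(.node 3 (.node 1 (.leaf (19, 611)) (.node 1 (.leaf (20, 611)) (.leaf (21, 611)))) (.node 1 (.leaf (20, 613)) (.node 1 (.leaf (21, 613)) (.leaf (20, 614))))))))
(.node 24 (.node 12 (.node 6 (.node 3 (.node 1 (.leaf (20, 615)) (.node 1 (.leaf (19, 616)) (.leaf (21, 616)))) (.node 1 (.leaf (20, 617)) (.node 1 (.leaf (20, 618)) (.leaf (19, 619)))))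
(.node 3 (.node 1 (.leaf (21, 619)) (.node 1 (.leaf (20, 620)) (.leaf (21, 621)))) (.node 1 (.leaf (19, 622)) (.node 1 (.leaf (20, 623)) (.leaf (21, 623))))))
(.node 6 (.node 3 (.node 1 (.leaf (19, 624)) (.node 1 (.leaf (20, 625)) (.leaf (19, 626)))) (.node 1 (.leaf (20, 627)) (.node 1 (.leaf (21, 627)) (.leaf (19, 628)))))
(.node 3 (.node 1 (.leaf (20, 628)) (.node 1 (.leaf (21, 628)) (.leaf (21, 630)))) (.node 1 (.leaf (20, 631)) (.node 1 (.leaf (20, 633)) (.leaf (20, 635)))))))
(.node 12 (.node 6 (.node 3 (.node 1 (.leaf (21, 635)) (.node 1 (.leaf (20, 636)) (.leaf (21, 636)))) (.node 1 (.leaf (21, 637)) (.node 1 (.leaf (21, 638)) (.leaf (20, 639)))))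
(.node 3 (.node 1 (.leaf (20, 641)) (.node 1 (.leaf (21, 641)) (.leaf (20, 642)))) (.node 1 (.leaf (20, 643)) (.node 1 (.leaf (20, 644)) (.leaf (19, 645))))))
(.node 6 (.node 3 (.node 1 (.leaf (20, 645)) (.node 1 (.leaf (21, 645)) (.leaf (21, 646)))) (.node 1 (.leaf (20, 647)) (.node 1 (.leaf (21, 647)) (.leaf (20, 648)))))
(.node 3 (.node 1 (.leaf (19, 649)) (.node 1 (.leaf (20, 649)) (.leaf (21, 649)))) (.node 1 (.leaf (19, 651)) (.node 1 (.leaf (20, 653)) (.leaf (21, 656)))))))))))

/-- The reasons. -/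
def caseDFullN1HowRR : Tab (ℕ × ℕ) :=
(.node 192 (.node 96 (.node 48 (.node 24 (.node 12 (.node 6 (.node 3 (.node 1 (.leaf (20, 657)) (.node 1 (.leaf (21, 657)) (.leaf (19, 658)))) (.node 1 (.leaf (21, 658)) (.node 1 (.leaf (19, 660)) (.leaf (20, 660)))))
(.node 3 (.node 1 (.leaf (21, 660)) (.node 1 (.leaf (21, 662)) (.leaf (20, 663)))) (.node 1 (.leaf (21, 663)) (.node 1 (.leaf (20, 664)) (.leaf (21, 664))))))
(.node 6 (.node 3 (.node 1 (.leaf (20, 666)) (.node 1 (.leaf (21, 666)) (.leaf (19, 667)))) (.node 1 (.leaf (20, 667)) (.node 1 (.leaf (21, 667)) (.leaf (19, 670)))))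
(.node 3 (.node 1 (.leaf (20, 670)) (.node 1 (.leaf (21, 670)) (.leaf (20, 673)))) (.node 1 (.leaf (21, 673)) (.node 1 (.leaf (21, 674)) (.leaf (21, 676)))))))
(.node 12 (.node 6 (.node 3 (.node 1 (.leaf (20, 680)) (.node 1 (.leaf (21, 680)) (.leaf (19, 681)))) (.node 1 (.leaf (20, 683)) (.node 1 (.leaf (20, 684)) (.leaf (19, 685)))))
(.node 3 (.node 1 (.leaf (20, 685)) (.node 1 (.leaf (21, 685)) (.leaf (19, 686)))) (.node 1 (.leaf (21, 686)) (.node 1 (.leaf (20, 687)) (.leaf (21, 687))))))
(.node 6 (.node 3 (.node 1 (.leaf (20, 688)) (.node 1 (.leaf (19, 690)) (.leaf (20, 691)))) (.node 1 (.leaf (21, 691)) (.node 1 (.leaf (20, 692)) (.leaf (21, 692)))))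
(.node 3 (.node 1 (.leaf (19, 693)) (.node 1 (.leaf (21, 693)) (.leaf (19, 694)))) (.node 1 (.leaf (20, 696)) (.node 1 (.leaf (20, 697)) (.leaf (21, 697))))))))
(.node 24 (.node 12 (.node 6 (.node 3 (.node 1 (.leaf (21, 698)) (.node 1 (.leaf (19, 699)) (.leaf (21, 699)))) (.node 1 (.leaf (19, 700)) (.node 1 (.leaf (20, 700)) (.leaf (21, 700)))))
(.node 3 (.node 1 (.leaf (19, 702)) (.node 1 (.leaf (20, 702)) (.leaf (21, 702)))) (.node 1 (.leaf (19, 703)) (.node 1 (.leaf (21, 703)) (.leaf (21, 704))))))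
(.node 6 (.node 3 (.node 1 (.leaf (21, 706)) (.node 1 (.leaf (21, 707)) (.leaf (20, 711)))) (.node 1 (.leaf (19, 712)) (.node 1 (.leaf (21, 712)) (.leaf (20, 714)))))
(.node 3 (.node 1 (.leaf (21, 714)) (.node 1 (.leaf (19, 717)) (.leaf (21, 717)))) (.node 1 (.leaf (19, 718)) (.node 1 (.leaf (20, 721)) (.leaf (21, 722)))))))
(.node 12 (.node 6 (.node 3 (.node 1 (.leaf (21, 723)) (.node 1 (.leaf (19, 724)) (.leaf (19, 725)))) (.node 1 (.leaf (21, 725)) (.node 1 (.leaf (19, 729)) (.leaf (21, 729)))))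
(.node 3 (.node 1 (.leaf (19, 733)) (.node 1 (.leaf (20, 733)) (.leaf (19, 736)))) (.node 1 (.leaf (21, 739)) (.node 1 (.leaf (21, 741)) (.leaf (21, 742))))))
(.node 6 (.node 3 (.node 1 (.leaf (20, 743)) (.node 1 (.leaf (20, 744)) (.leaf (19, 745)))) (.node 1 (.leaf (20, 745)) (.node 1 (.leaf (21, 745)) (.leaf (19, 747)))))
(.node 3 (.node 1 (.leaf (20, 747)) (.node 1 (.leaf (19, 748)) (.leaf (20, 748)))) (.node 1 (.leaf (21, 748)) (.node 1 (.leaf (20, 749)) (.leaf (19, 751)))))))))
(.node 48 (.node 24 (.node 12 (.node 6 (.node 3 (.node 1 (.leaf (20, 751)) (.node 1 (.leaf (21, 751)) (.leaf (21, 753)))) (.node 1 (.leaf (21, 755)) (.node 1 (.leaf (19, 756)) (.leaf (20, 757)))))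
(.node 3 (.node 1 (.leaf (21, 757)) (.node 1 (.leaf (19, 759)) (.leaf (21, 759)))) (.node 1 (.leaf (20, 760)) (.node 1 (.leaf (19, 761)) (.leaf (20, 761))))))
(.node 6 (.node 3 (.node 1 (.leaf (20, 762)) (.node 1 (.leaf (21, 762)) (.leaf (20, 763)))) (.node 1 (.leaf (19, 764)) (.node 1 (.leaf (20, 764)) (.leaf (21, 764)))))
(.node 3 (.node 1 (.leaf (20, 765)) (.node 1 (.leaf (21, 766)) (.leaf (20, 768)))) (.node 1 (.leaf (21, 768)) (.node 1 (.leaf (19, 770)) (.leaf (20, 770)))))))
(.node 12 (.node 6 (.node 3 (.node 1 (.leaf (21, 770)) (.node 1 (.leaf (20, 771)) (.leaf (21, 771)))) (.node 1 (.leaf (21, 772)) (.node 1 (.leaf (20, 773)) (.leaf (19, 774)))))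
(.node 3 (.node 1 (.leaf (20, 774)) (.node 1 (.leaf (21, 775)) (.leaf (20, 776)))) (.node 1 (.leaf (21, 777)) (.node 1 (.leaf (20, 779)) (.leaf (21, 779))))))
(.node 6 (.node 3 (.node 1 (.leaf (21, 781)) (.node 1 (.leaf (21, 784)) (.leaf (19, 786)))) (.node 1 (.leaf (21, 790)) (.node 1 (.leaf (21, 794)) (.leaf (19, 795)))))
(.node 3 (.node 1 (.leaf (20, 797)) (.node 1 (.leaf (19, 799)) (.leaf (21, 800)))) (.node 1 (.leaf (20, 802)) (.node 1 (.leaf (21, 802)) (.leaf (21, 803))))))))
(.node 24 (.node 12 (.node 6 (.node 3 (.node 1 (.leaf (21, 805)) (.node 1 (.leaf (20, 806)) (.leaf (20, 809)))) (.node 1 (.leaf (20, 810)) (.node 1 (.leaf (21, 810)) (.leaf (21, 811)))))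
(.node 3 (.node 1 (.leaf (19, 813)) (.node 1 (.leaf (20, 813)) (.leaf (21, 813)))) (.node 1 (.leaf (21, 815)) (.node 1 (.leaf (21, 817)) (.leaf (20, 820))))))
(.node 6 (.node 3 (.node 1 (.leaf (21, 821)) (.node 1 (.leaf (20, 826)) (.leaf (20, 827)))) (.node 1 (.leaf (21, 827)) (.node 1 (.leaf (21, 832)) (.leaf (20, 834)))))
(.node 3 (.node 1 (.leaf (20, 835)) (.node 1 (.leaf (19, 837)) (.leaf (21, 837)))) (.node 1 (.leaf (20, 840)) (.node 1 (.leaf (19, 841)) (.leaf (20, 844)))))))
(.node 12 (.node 6 (.node 3 (.node 1 (.leaf (21, 844)) (.node 1 (.leaf (21, 846)) (.leaf (21, 847)))) (.node 1 (.leaf (21, 849)) (.node 1 (.leaf (19, 853)) (.leaf (21, 856)))))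
(.node 3 (.node 1 (.leaf (19, 857)) (.node 1 (.leaf (21, 859)) (.leaf (21, 862)))) (.node 1 (.leaf (19, 864)) (.node 1 (.leaf (21, 865)) (.leaf (19, 866))))))
(.node 6 (.node 3 (.node 1 (.leaf (19, 867)) (.node 1 (.leaf (20, 868)) (.leaf (21, 868)))) (.node 1 (.leaf (21, 871)) (.node 1 (.leaf (20, 873)) (.leaf (21, 875)))))
(.node 3 (.node 1 (.leaf (21, 877)) (.node 1 (.leaf (20, 878)) (.leaf (20, 880)))) (.node 1 (.leaf (20, 881)) (.node 1 (.leaf (20, 883)) (.leaf (21, 883))))))))))
(.node 96 (.node 48 (.node 24 (.node 12 (.node 6 (.node 3 (.node 1 (.leaf (21, 884)) (.node 1 (.leaf (19, 886)) (.leaf (20, 886)))) (.node 1 (.leaf (20, 888)) (.node 1 (.leaf (20, 890)) (.leaf (21, 891)))))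
(.node 3 (.node 1 (.leaf (19, 892)) (.node 1 (.leaf (21, 892)) (.leaf (20, 893)))) (.node 1 (.leaf (20, 899)) (.node 1 (.leaf (20, 900)) (.leaf (21, 900))))))
(.node 6 (.node 3 (.node 1 (.leaf (21, 902)) (.node 1 (.leaf (20, 904)) (.leaf (20, 906)))) (.node 1 (.leaf (20, 907)) (.node 1 (.leaf (20, 908)) (.leaf (19, 909)))))
(.node 3 (.node 1 (.leaf (19, 912)) (.node 1 (.leaf (20, 912)) (.leaf (21, 912)))) (.node 1 (.leaf (20, 916)) (.node 1 (.leaf (20, 917)) (.leaf (21, 919)))))))
(.node 12 (.node 6 (.node 3 (.node 1 (.leaf (19, 920)) (.node 1 (.leaf (20, 923)) (.leaf (21, 923)))) (.node 1 (.leaf (20, 925)) (.node 1 (.leaf (20, 926)) (.leaf (20, 929)))))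
(.node 3 (.node 1 (.leaf (20, 931)) (.node 1 (.leaf (20, 932)) (.leaf (20, 933)))) (.node 1 (.leaf (21, 934)) (.node 1 (.leaf (19, 937)) (.leaf (21, 944))))))
(.node 6 (.node 3 (.node 1 (.leaf (19, 948)) (.node 1 (.leaf (20, 948)) (.leaf (20, 950)))) (.node 1 (.leaf (20, 953)) (.node 1 (.leaf (19, 954)) (.leaf (20, 954)))))
(.node 3 (.node 1 (.leaf (21, 955)) (.node 1 (.leaf (19, 956)) (.leaf (21, 956)))) (.node 1 (.leaf (19, 959)) (.node 1 (.leaf (20, 961)) (.leaf (20, 962))))))))
(.node 24 (.node 12 (.node 6 (.node 3 (.node 1 (.leaf (19, 963)) (.node 1 (.leaf (20, 963)) (.leaf (21, 963)))) (.node 1 (.leaf (19, 965)) (.node 1 (.leaf (21, 968)) (.leaf (20, 969)))))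
(.node 3 (.node 1 (.leaf (20, 975)) (.node 1 (.leaf (21, 979)) (.leaf (21, 980)))) (.node 1 (.leaf (20, 985)) (.node 1 (.leaf (20, 988)) (.leaf (19, 993))))))
(.node 6 (.node 3 (.node 1 (.leaf (21, 993)) (.node 1 (.leaf (20, 994)) (.leaf (21, 994)))) (.node 1 (.leaf (20, 998)) (.node 1 (.leaf (20, 999)) (.leaf (21, 999)))))
(.node 3 (.node 1 (.leaf (21, 1001)) (.node 1 (.leaf (19, 1002)) (.leaf (21, 1009)))) (.node 1 (.leaf (21, 1011)) (.node 1 (.leaf (20, 1013)) (.leaf (21, 1017)))))))
(.node 12 (.node 6 (.node 3 (.node 1 (.leaf (19, 1018)) (.node 1 (.leaf (21, 1018)) (.leaf (21, 1020)))) (.node 1 (.leaf (19, 1021)) (.node 1 (.leaf (20, 1022)) (.leaf (20, 1023)))))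
(.node 3 (.node 1 (.leaf (20, 1025)) (.node 1 (.leaf (21, 1025)) (.leaf (19, 1028)))) (.node 1 (.leaf (21, 1029)) (.node 1 (.leaf (21, 1031)) (.leaf (19, 1032))))))
(.node 6 (.node 3 (.node 1 (.leaf (21, 1033)) (.node 1 (.leaf (21, 1035)) (.leaf (20, 1037)))) (.node 1 (.leaf (19, 1040)) (.node 1 (.leaf (21, 1051)) (.leaf (20, 1052)))))
(.node 3 (.node 1 (.leaf (20, 1054)) (.node 1 (.leaf (21, 1055)) (.leaf (20, 1056)))) (.node 1 (.leaf (21, 1059)) (.node 1 (.leaf (20, 1063)) (.leaf (20, 1068)))))))))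
(.node 48 (.node 24 (.node 12 (.node 6 (.node 3 (.node 1 (.leaf (19, 1069)) (.node 1 (.leaf (20, 1069)) (.leaf (21, 1069)))) (.node 1 (.leaf (21, 1073)) (.node 1 (.leaf (20, 1076)) (.leaf (20, 1077)))))
(.node 3 (.node 1 (.leaf (21, 1078)) (.node 1 (.leaf (20, 1084)) (.leaf (19, 1086)))) (.node 1 (.leaf (20, 1087)) (.node 1 (.leaf (21, 1087)) (.leaf (19, 1088))))))
(.node 6 (.node 3 (.node 1 (.leaf (21, 1088)) (.node 1 (.leaf (20, 1092)) (.leaf (19, 1096)))) (.node 1 (.leaf (21, 1100)) (.node 1 (.leaf (20, 1103)) (.leaf (19, 1104)))))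
(.node 3 (.node 1 (.leaf (21, 1104)) (.node 1 (.leaf (21, 1105)) (.leaf (21, 1109)))) (.node 1 (.leaf (21, 1111)) (.node 1 (.leaf (21, 1115)) (.leaf (21, 1119)))))))
(.node 12 (.node 6 (.node 3 (.node 1 (.leaf (20, 1123)) (.node 1 (.leaf (20, 1124)) (.leaf (21, 1125)))) (.node 1 (.leaf (20, 1126)) (.node 1 (.leaf (21, 1126)) (.leaf (20, 1132)))))
(.node 3 (.node 1 (.leaf (20, 1134)) (.node 1 (.leaf (21, 1134)) (.leaf (20, 1135)))) (.node 1 (.leaf (21, 1137)) (.node 1 (.leaf (21, 1139)) (.leaf (20, 1140))))))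
(.node 6 (.node 3 (.node 1 (.leaf (20, 1142)) (.node 1 (.leaf (21, 1143)) (.leaf (21, 1145)))) (.node 1 (.leaf (21, 1146)) (.node 1 (.leaf (20, 1153)) (.leaf (20, 1156)))))
(.node 3 (.node 1 (.leaf (21, 1157)) (.node 1 (.leaf (20, 1159)) (.leaf (21, 1162)))) (.node 1 (.leaf (21, 1164)) (.node 1 (.leaf (21, 1166)) (.leaf (21, 1180))))))))
(.node 24 (.node 12 (.node 6 (.node 3 (.node 1 (.leaf (21, 1181)) (.node 1 (.leaf (21, 1186)) (.leaf (21, 1198)))) (.node 1 (.leaf (20, 1200)) (.node 1 (.leaf (21, 1206)) (.leaf (19, 1208)))))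
(.node 3 (.node 1 (.leaf (20, 1210)) (.node 1 (.leaf (21, 1212)) (.leaf (21, 1214)))) (.node 1 (.leaf (20, 1218)) (.node 1 (.leaf (20, 1224)) (.leaf (21, 1228))))))
(.node 6 (.node 3 (.node 1 (.leaf (20, 1234)) (.node 1 (.leaf (21, 1237)) (.leaf (19, 1240)))) (.node 1 (.leaf (21, 1247)) (.node 1 (.leaf (20, 1258)) (.leaf (20, 1262)))))
(.node 3 (.node 1 (.leaf (21, 1262)) (.node 1 (.leaf (21, 1263)) (.leaf (21, 1293)))) (.node 1 (.leaf (21, 1299)) (.node 1 (.leaf (21, 1302)) (.leaf (21, 1306)))))))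
(.node 12 (.node 6 (.node 3 (.node 1 (.leaf (21, 1307)) (.node 1 (.leaf (20, 1314)) (.leaf (20, 1334)))) (.node 1 (.leaf (20, 1338)) (.node 1 (.leaf (21, 1340)) (.leaf (20, 1347)))))
(.node 3 (.node 1 (.leaf (21, 1350)) (.node 1 (.leaf (21, 1353)) (.leaf (19, 1359)))) (.node 1 (.leaf (21, 1359)) (.node 1 (.leaf (21, 1374)) (.leaf (20, 1375))))))
(.node 6 (.node 3 (.node 1 (.leaf (21, 1378)) (.node 1 (.leaf (21, 1381)) (.leaf (21, 1387)))) (.node 1 (.leaf (21, 1389)) (.node 1 (.leaf (21, 1393)) (.leaf (21, 1434)))))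
(.node 3 (.node 1 (.leaf (21, 1444)) (.node 1 (.leaf (21, 1453)) (.leaf (21, 1454)))) (.node 1 (.leaf (21, 1455)) (.node 1 (.leaf (21, 1456)) (.leaf (21, 1520)))))))))))

/-- The reasons. -/
def caseDFullN1HowR : Tab (ℕ × ℕ) := .node 384 caseDFullN1HowRL caseDFullN1HowRR

/-- The reasons. -/
def caseDFullN1How : Tab (ℕ × ℕ) := .node 768 caseDFullN1HowL caseDFullN1HowR

/-- The node. -/
def caseDFullN1Node : NodeD := ⟨1, 1536, caseDFullN1Els, caseDFullN1Ix, caseDFullN1How, fun b => bif b then (.node 7 (.node 3 (.node 1 (.leaf 4187) (.node 1 (.leaf 4189) (.leaf 4188)))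
(.node 2 (.node 1 (.leaf 4192) (.leaf 4191)) (.node 1 (.leaf 4190) (.leaf 149))))
(.node 3 (.node 1 (.leaf 147) (.node 1 (.leaf 148) (.leaf 146)))
(.node 2 (.node 1 (.leaf 145) (.leaf 143)) (.node 1 (.leaf 141) (.leaf 144))))) else (.node 7 (.node 3 (.node 1 (.leaf 121) (.node 1 (.leaf 119) (.leaf 130)))
(.node 2 (.node 1 (.leaf 129) (.leaf 124)) (.node 1 (.leaf 127) (.leaf 3))))
(.node 3 (.node 1 (.leaf 4186) (.node 1 (.leaf 120) (.leaf 122)))
(.node 2 (.node 1 (.leaf 128) (.leaf 125)) (.node 1 (.leaf 126) (.leaf 123)))))⟩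

/-- The stabiliser. -/
def caseDFullN4ElsLL : Tab ℕ :=
(.node 192 (.node 96 (.node 48 (.node 24 (.node 12 (.node 6 (.node 3 (.node 1 (.leaf 17043521) (.node 1 (.leaf 11040857) (.leaf 27621467))) (.node 1 (.leaf 27553867) (.node 1 (.leaf 19208259) (.leaf 25761857))))
(.node 3 (.node 1 (.leaf 25694283) (.node 1 (.leaf 9252939) (.leaf 19148873))) (.node 1 (.leaf 19216467) (.node 1 (.leaf 11350105) (.leaf 17117275)))))
(.node 6 (.node 3 (.node 1 (.leaf 17053761) (.node 1 (.leaf 9007195) (.leaf 27553881))) (.node 1 (.leaf 27621451) (.node 1 (.leaf 17578059) (.leaf 8927305))))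
(.node 3 (.node 1 (.leaf 8990801) (.node 1 (.leaf 19675203) (.leaf 11089985))) (.node 1 (.leaf 11022425) (.node 1 (.leaf 25456729) (.leaf 17592411))))))
(.node 12 (.node 6 (.node 3 (.node 1 (.leaf 17659987) (.node 1 (.leaf 11096147) (.leaf 25514065))) (.node 1 (.leaf 25450563) (.node 1 (.leaf 8998987) (.leaf 27545673))))
(.node 3 (.node 1 (.leaf 27613275) (.node 1 (.leaf 25524297) (.leaf 19691595))) (.node 1 (.leaf 19755073) (.node 1 (.leaf 8933441) (.leaf 25448515)))))
(.node 6 (.node 3 (.node 1 (.leaf 25516115) (.node 1 (.leaf 11030617) (.leaf 27611227))) (.node 1 (.leaf 27547723) (.node 1 (.leaf 25694275) (.leaf 25761867))))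
(.node 3 (.node 1 (.leaf 11350091) (.node 1 (.leaf 17117257) (.leaf 17053779))) (.node 1 (.leaf 9252955) (.node 1 (.leaf 19148889) (.leaf 19216451)))))))
(.node 24 (.node 12 (.node 6 (.node 3 (.node 1 (.leaf 27791427) (.node 1 (.leaf 11341889) (.leaf 11278417))) (.node 1 (.leaf 19157073) (.node 1 (.leaf 27873363) (.leaf 27809883))))
(.node 3 (.node 1 (.leaf 17059915) (.node 1 (.leaf 25710665) (.leaf 25778241))) (.node 1 (.leaf 27859017) (.node 1 (.leaf 9246795) (.leaf 9179225)))))
(.node 6 (.node 3 (.node 1 (.leaf 17125465) (.node 1 (.leaf 27807835) (.leaf 27875409))) (.node 1 (.leaf 19222595) (.node 1 (.leaf 25776193) (.leaf 25712715))))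
(.node 3 (.node 1 (.leaf 11286601) (.node 1 (.leaf 19216459) (.leaf 19148883))) (.node 1 (.leaf 27809875) (.node 1 (.leaf 11360337) (.leaf 11292737))))))
(.node 12 (.node 6 (.node 3 (.node 1 (.leaf 25712729) (.node 1 (.leaf 9197659) (.leaf 9261131))) (.node 1 (.leaf 17119307) (.node 1 (.leaf 27801673) (.leaf 27865155))))
(.node 3 (.node 1 (.leaf 9179203) (.node 1 (.leaf 17111129) (.leaf 11276371))) (.node 1 (.leaf 19206225) (.node 1 (.leaf 19142729) (.leaf 17051729)))))
(.node 6 (.node 3 (.node 1 (.leaf 25702483) (.node 1 (.leaf 25770075) (.leaf 11341915))) (.node 1 (.leaf 17109081) (.node 1 (.leaf 17045571) (.leaf 9244747))))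
(.node 3 (.node 1 (.leaf 19140681) (.node 1 (.leaf 19208275) (.leaf 9189467))) (.node 1 (.leaf 17053785) (.node 1 (.leaf 17117249) (.leaf 27875393))))))))
(.node 48 (.node 24 (.node 12 (.node 6 (.node 3 (.node 1 (.leaf 9263171) (.node 1 (.leaf 9195601) (.leaf 25778249))) (.node 1 (.leaf 11294795) (.node 1 (.leaf 11358297) (.leaf 19150937))))
(.node 3 (.node 1 (.leaf 27867227) (.node 1 (.leaf 27799635) (.leaf 11278419))) (.node 1 (.leaf 19208273) (.node 1 (.leaf 9181249) (.leaf 17109083)))))
(.node 6 (.node 3 (.node 1 (.leaf 19214403) (.node 1 (.leaf 25768001) (.leaf 25704523))) (.node 1 (.leaf 19206227) (.node 1 (.leaf 11343961) (.leaf 17111131))))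
(.node 3 (.node 1 (.leaf 19675211) (.node 1 (.leaf 11089993) (.leaf 11022417))) (.node 1 (.leaf 17578049) (.node 1 (.leaf 8927299) (.leaf 8990811))))))
(.node 12 (.node 6 (.node 3 (.node 1 (.leaf 25524315) (.node 1 (.leaf 19691609) (.leaf 19755091))) (.node 1 (.leaf 8933459) (.node 1 (.leaf 25448529) (.leaf 25516097))))
(.node 3 (.node 1 (.leaf 11030603) (.node 1 (.leaf 27611209) (.leaf 27547737))) (.node 1 (.leaf 25456713) (.node 1 (.leaf 17592395) (.leaf 17659971)))))
(.node 6 (.node 3 (.node 1 (.leaf 11096131) (.node 1 (.leaf 25514049) (.leaf 25450579))) (.node 1 (.leaf 8999003) (.node 1 (.leaf 27545689) (.leaf 27613259))))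
(.node 3 (.node 1 (.leaf 19738697) (.node 1 (.leaf 8990795) (.leaf 8927313))) (.node 1 (.leaf 25516113) (.node 1 (.leaf 19683411) (.leaf 19746905)))))))
(.node 24 (.node 12 (.node 6 (.node 3 (.node 1 (.leaf 27613251) (.node 1 (.leaf 17651777) (.leaf 17584203))) (.node 1 (.leaf 11087947) (.node 1 (.leaf 25505865) (.leaf 25442395))))
(.node 3 (.node 1 (.leaf 17659995) (.node 1 (.leaf 11104323) (.leaf 19757137))) (.node 1 (.leaf 9009235) (.node 1 (.leaf 8941641) (.leaf 11024467)))))
(.node 6 (.node 3 (.node 1 (.leaf 27605073) (.node 1 (.leaf 27537473) (.leaf 19691585))) (.node 1 (.leaf 11106371) (.node 1 (.leaf 11038811) (.leaf 17594443))))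
(.node 3 (.node 1 (.leaf 8943689) (.node 1 (.leaf 9007185) (.leaf 17641537))) (.node 1 (.leaf 11022403) (.node 1 (.leaf 11090009) (.leaf 25450585))))))
(.node 12 (.node 6 (.node 3 (.node 1 (.leaf 17586267) (.node 1 (.leaf 17649747) (.leaf 27547721))) (.node 1 (.leaf 19748939) (.node 1 (.leaf 19681347) (.leaf 8925251))))
(.node 3 (.node 1 (.leaf 25440321) (.node 1 (.leaf 25507921) (.leaf 19755089))) (.node 1 (.leaf 9007187) (.node 1 (.leaf 17657945) (.leaf 11106369)))))
(.node 6 (.node 3 (.node 1 (.leaf 8992859) (.node 1 (.leaf 27539545) (.leaf 27603019))) (.node 1 (.leaf 9009233) (.node 1 (.leaf 19689539) (.leaf 11104321))))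
(.node 3 (.node 1 (.leaf 17659993) (.node 1 (.leaf 17592403) (.leaf 8998995))) (.node 1 (.leaf 27545681) (.node 1 (.leaf 11096137) (.leaf 25514059)))))))))
(.node 96 (.node 48 (.node 24 (.node 12 (.node 6 (.node 3 (.node 1 (.leaf 19757145) (.node 1 (.leaf 9009243) (.leaf 8941633))) (.node 1 (.leaf 25497665) (.node 1 (.leaf 19664963) (.leaf 19732553))))
(.node 3 (.node 1 (.leaf 27594835) (.node 1 (.leaf 17633361) (.leaf 17569883))) (.node 1 (.leaf 19689553) (.node 1 (.leaf 11104339) (.leaf 11040843)))))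
(.node 6 (.node 3 (.node 1 (.leaf 27529291) (.node 1 (.leaf 19730505) (.leaf 19667009))) (.node 1 (.leaf 25432153) (.node 1 (.leaf 17567835) (.leaf 17635411))))
(.node 3 (.node 1 (.leaf 8935505) (.node 1 (.leaf 25514051) (.leaf 19732547))) (.node 1 (.leaf 8984641) (.node 1 (.leaf 8917083) (.leaf 17635403))))))
(.node 12 (.node 6 (.node 3 (.node 1 (.leaf 11016265) (.node 1 (.leaf 11079763) (.leaf 27547731))) (.node 1 (.leaf 19748945) (.node 1 (.leaf 19681369) (.leaf 8943683))))
(.node 3 (.node 1 (.leaf 25458753) (.node 1 (.leaf 25522257) (.leaf 27611201))) (.node 1 (.leaf 17649731) (.node 1 (.leaf 17586249) (.leaf 9009225)))))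
(.node 6 (.node 3 (.node 1 (.leaf 27555915) (.node 1 (.leaf 27619417) (.leaf 11106387))) (.node 1 (.leaf 25524305) (.node 1 (.leaf 25456707) (.leaf 11032649))))
(.node 3 (.node 1 (.leaf 27545691) (.node 1 (.leaf 19667035) (.leaf 11081817))) (.node 1 (.leaf 11014209) (.node 1 (.leaf 17569873) (.leaf 8919123)))))))
(.node 24 (.node 12 (.node 6 (.node 3 (.node 1 (.leaf 8982603) (.node 1 (.leaf 25516107) (.leaf 19683401))) (.node 1 (.leaf 19746883) (.node 1 (.leaf 8941635) (.leaf 25456705))))
(.node 3 (.node 1 (.leaf 27555913) (.node 1 (.leaf 25448537) (.leaf 17584219))) (.node 1 (.leaf 17651795) (.node 1 (.leaf 25458755) (.leaf 9007179)))))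
(.node 6 (.node 3 (.node 1 (.leaf 27553865) (.node 1 (.leaf 19755081) (.leaf 11030593))) (.node 1 (.leaf 27611203) (.node 1 (.leaf 8933467) (.leaf 25516105))))
(.node 3 (.node 1 (.leaf 17657929) (.node 1 (.leaf 11038795) (.leaf 11106385))) (.node 1 (.leaf 25434193) (.node 1 (.leaf 17569875) (.leaf 17633371))))))
(.node 12 (.node 6 (.node 3 (.node 1 (.leaf 27531329) (.node 1 (.leaf 19664971) (.leaf 17594435))) (.node 1 (.leaf 8943681) (.node 1 (.leaf 9007193) (.leaf 27596889))))
(.node 3 (.node 1 (.leaf 17635419) (.node 1 (.leaf 17567825) (.leaf 25499721))) (.node 1 (.leaf 19667019) (.node 1 (.leaf 19730497) (.leaf 11098179)))))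
(.node 6 (.node 3 (.node 1 (.leaf 25448531) (.node 1 (.leaf 17633363) (.leaf 11014225))) (.node 1 (.leaf 11081803) (.node 1 (.leaf 19730521) (.leaf 8982619))))
(.node 3 (.node 1 (.leaf 8919105) (.node 1 (.leaf 27613249) (.leaf 17651779))) (.node 1 (.leaf 17584201) (.node 1 (.leaf 9007177) (.leaf 27621465))))))))
(.node 48 (.node 24 (.node 12 (.node 6 (.node 3 (.node 1 (.leaf 19746899) (.node 1 (.leaf 19683419) (.leaf 25524307))) (.node 1 (.leaf 9001051) (.node 1 (.leaf 27611211) (.leaf 17567819))))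
(.node 3 (.node 1 (.leaf 8917065) (.node 1 (.leaf 8984657) (.leaf 11079745))) (.node 1 (.leaf 11016281) (.node 1 (.leaf 9009227) (.leaf 27619419)))))
(.node 6 (.node 3 (.node 1 (.leaf 25514057) (.node 1 (.leaf 19681355) (.leaf 19748929))) (.node 1 (.leaf 25522259) (.node 1 (.leaf 27859009) (.leaf 9246787))))
(.node 3 (.node 1 (.leaf 9179217) (.node 1 (.leaf 17125457) (.leaf 27807827))) (.node 1 (.leaf 27875417) (.node 1 (.leaf 19222603) (.leaf 25776201))))))
(.node 12 (.node 6 (.node 3 (.node 1 (.leaf 25712707) (.node 1 (.leaf 27791433) (.leaf 11341899))) (.node 1 (.leaf 11278427) (.node 1 (.leaf 19157083) (.leaf 27873369))))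
(.node 3 (.node 1 (.leaf 27809873) (.node 1 (.leaf 17059905) (.leaf 25710659))) (.node 1 (.leaf 25778251) (.node 1 (.leaf 9189449) (.leaf 17053771)))))
(.node 6 (.node 3 (.node 1 (.leaf 17117267) (.node 1 (.leaf 27875411) (.leaf 9263185))) (.node 1 (.leaf 9195587) (.node 1 (.leaf 25778267) (.leaf 11294809))))
(.node 3 (.node 1 (.leaf 11358283) (.node 1 (.leaf 19150923) (.leaf 27867209))) (.node 1 (.leaf 27799617) (.node 1 (.leaf 11278401) (.leaf 19140699)))))))
(.node 24 (.node 12 (.node 6 (.node 3 (.node 1 (.leaf 9181267) (.node 1 (.leaf 17045585) (.leaf 17109065))) (.node 1 (.leaf 19214417) (.node 1 (.leaf 25768019) (.leaf 25704537))))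
(.node 3 (.node 1 (.leaf 9246809) (.node 1 (.leaf 19142747) (.leaf 19206209))) (.node 1 (.leaf 11343947) (.node 1 (.leaf 17111113) (.leaf 17043539)))))
(.node 6 (.node 3 (.node 1 (.leaf 11286617) (.node 1 (.leaf 19216475) (.leaf 19148867))) (.node 1 (.leaf 27809859) (.node 1 (.leaf 11360321) (.leaf 11292753))))
(.node 3 (.node 1 (.leaf 25712713) (.node 1 (.leaf 9197643) (.leaf 9261147))) (.node 1 (.leaf 17119323) (.node 1 (.leaf 27801689) (.leaf 27865171))))))
(.node 12 (.node 6 (.node 3 (.node 1 (.leaf 9179219) (.node 1 (.leaf 17043537) (.leaf 11276355))) (.node 1 (.leaf 19142745) (.node 1 (.leaf 17051713) (.leaf 25702467))))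
(.node 3 (.node 1 (.leaf 25770059) (.node 1 (.leaf 17045587) (.leaf 9244763))) (.node 1 (.leaf 19140697) (.node 1 (.leaf 11278403) (.leaf 11341905)))))
(.node 6 (.node 3 (.node 1 (.leaf 17059921) (.node 1 (.leaf 25710675) (.leaf 19157065))) (.node 1 (.leaf 27873355) (.node 1 (.leaf 9181251) (.leaf 17045569))))
(.node 3 (.node 1 (.leaf 27883609) (.node 1 (.leaf 9271387) (.leaf 9203785))) (.node 1 (.leaf 25786449) (.node 1 (.leaf 11302995) (.leaf 11366465))))))))))

/-- The stabiliser. -/
def caseDFullN4ElsLR : Tab ℕ :=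
(.node 192 (.node 96 (.node 48 (.node 24 (.node 12 (.node 6 (.node 3 (.node 1 (.leaf 9244755) (.node 1 (.leaf 19140689) (.leaf 19208267))) (.node 1 (.leaf 25720907) (.node 1 (.leaf 9205833) (.leaf 9269337))))
(.node 3 (.node 1 (.leaf 27818051) (.node 1 (.leaf 11368513) (.leaf 11300945))) (.node 1 (.leaf 17127507) (.node 1 (.leaf 27873371) (.leaf 9203803)))))
(.node 6 (.node 3 (.node 1 (.leaf 17068121) (.node 1 (.leaf 17135681) (.leaf 11300939))) (.node 1 (.leaf 19230793) (.node 1 (.leaf 19167313) (.leaf 25712721))))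
(.node 3 (.node 1 (.leaf 9197651) (.node 1 (.leaf 9261123) (.leaf 27793497))) (.node 1 (.leaf 27856979) (.node 1 (.leaf 25776217) (.leaf 11292763))))))
(.node 12 (.node 6 (.node 3 (.node 1 (.leaf 11360329) (.node 1 (.leaf 17045577) (.leaf 25696331))) (.node 1 (.leaf 25759811) (.node 1 (.leaf 19142737) (.leaf 27859027))))
(.node 3 (.node 1 (.leaf 27791451) (.node 1 (.leaf 19224649) (.leaf 25710657))) (.node 1 (.leaf 9269313) (.node 1 (.leaf 19165251) (.leaf 19232857)))))
(.node 6 (.node 3 (.node 1 (.leaf 11366483) (.node 1 (.leaf 17133649) (.leaf 17070155))) (.node 1 (.leaf 27875403) (.node 1 (.leaf 9263177) (.leaf 9195611))))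
(.node 3 (.node 1 (.leaf 27791449) (.node 1 (.leaf 25696329) (.leaf 27807811))) (.node 1 (.leaf 11358273) (.node 1 (.leaf 11294801) (.leaf 27793499)))))))
(.node 24 (.node 12 (.node 6 (.node 3 (.node 1 (.leaf 17043531) (.node 1 (.leaf 25694281) (.leaf 9179209))) (.node 1 (.leaf 19222617) (.node 1 (.leaf 25776219) (.leaf 17125441))))
(.node 3 (.node 1 (.leaf 27875401) (.node 1 (.leaf 11276361) (.leaf 19206219))) (.node 1 (.leaf 19142739) (.node 1 (.leaf 27816019) (.leaf 11366481)))))
(.node 6 (.node 3 (.node 1 (.leaf 11302977) (.node 1 (.leaf 25718873) (.leaf 9271371))) (.node 1 (.leaf 11343963) (.node 1 (.leaf 17043523) (.leaf 25784387))))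
(.node 3 (.node 1 (.leaf 11300929) (.node 1 (.leaf 11368531) (.leaf 27881545))) (.node 1 (.leaf 9269323) (.node 1 (.leaf 9205849) (.leaf 19159131))))))
(.node 12 (.node 6 (.node 3 (.node 1 (.leaf 27807825) (.node 1 (.leaf 11302993) (.leaf 19232851))) (.node 1 (.leaf 19165259) (.node 1 (.leaf 9205827) (.leaf 17070145))))
(.node 3 (.node 1 (.leaf 17133657) (.node 1 (.leaf 25778265) (.leaf 11294811))) (.node 1 (.leaf 11358281) (.node 1 (.leaf 17043529) (.leaf 25761859)))))
(.node 6 (.node 3 (.node 1 (.leaf 9263169) (.node 1 (.leaf 27859025) (.leaf 17061953))) (.node 1 (.leaf 25776203) (.node 1 (.leaf 11368523) (.leaf 17135689))))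
(.node 3 (.node 1 (.leaf 17068115) (.node 1 (.leaf 19167321) (.leaf 19230787))) (.node 1 (.leaf 17045579) (.node 1 (.leaf 25759809) (.leaf 27873353))))))))
(.node 48 (.node 24 (.node 12 (.node 6 (.node 3 (.node 1 (.leaf 9197657) (.node 1 (.leaf 27856977) (.leaf 25712723))) (.node 1 (.leaf 9197649) (.node 1 (.leaf 9261121) (.leaf 11360345))))
(.node 3 (.node 1 (.leaf 11292745) (.node 1 (.leaf 17051721) (.leaf 25702475))) (.node 1 (.leaf 25770051) (.node 1 (.leaf 11341891) (.leaf 17109057)))))
(.node 6 (.node 3 (.node 1 (.leaf 17045595) (.node 1 (.leaf 17119313) (.leaf 27801683))) (.node 1 (.leaf 27865177) (.node 1 (.leaf 17043547) (.leaf 17111107))))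
(.node 3 (.node 1 (.leaf 25776209) (.node 1 (.leaf 11292755) (.leaf 25696323))) (.node 1 (.leaf 25759819) (.node 1 (.leaf 27859035) (.leaf 27791443))))))
(.node 12 (.node 6 (.node 3 (.node 1 (.leaf 9195603) (.node 1 (.leaf 17127497) (.leaf 27865161))) (.node 1 (.leaf 9189465) (.node 1 (.leaf 11284547) (.leaf 11352145))))
(.node 3 (.node 1 (.leaf 19159105) (.node 1 (.leaf 19222619) (.leaf 25702491))) (.node 1 (.leaf 9187417) (.node 1 (.leaf 9254985) (.leaf 11350097)))))
(.node 6 (.node 3 (.node 1 (.leaf 11286593) (.node 1 (.leaf 9261145) (.leaf 17111115))) (.node 1 (.leaf 27793481) (.node 1 (.leaf 27856963) (.leaf 25761875))))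
(.node 3 (.node 1 (.leaf 25694297) (.node 1 (.leaf 17125467) (.leaf 25770049))) (.node 1 (.leaf 11286595) (.node 1 (.leaf 27867211) (.leaf 9187419)))))))
(.node 24 (.node 12 (.node 6 (.node 3 (.node 1 (.leaf 11294793) (.node 1 (.leaf 19224651) (.leaf 19157075))) (.node 1 (.leaf 11284545) (.node 1 (.leaf 27865163) (.leaf 27801667))))
(.node 3 (.node 1 (.leaf 25768011) (.node 1 (.leaf 11284553) (.leaf 11352155))) (.node 1 (.leaf 17070171) (.node 1 (.leaf 25720921) (.leaf 25784401)))))
(.node 6 (.node 3 (.node 1 (.leaf 19167299) (.node 1 (.leaf 27883585) (.leaf 27816009))) (.node 1 (.leaf 25704513) (.node 1 (.leaf 9189443) (.leaf 9252947))))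
(.node 3 (.node 1 (.leaf 25718875) (.node 1 (.leaf 17135691) (.leaf 27818057))) (.node 1 (.leaf 27881539) (.node 1 (.leaf 11343937) (.leaf 17043545))))))
(.node 12 (.node 6 (.node 3 (.node 1 (.leaf 25784409) (.node 1 (.leaf 11300955) (.leaf 11368521))) (.node 1 (.leaf 27881555) (.node 1 (.leaf 9269329) (.leaf 27856985))))
(.node 3 (.node 1 (.leaf 27793489) (.node 1 (.leaf 11284561) (.leaf 19214419))) (.node 1 (.leaf 9187395) (.node 1 (.leaf 17119321) (.leaf 9246801)))))
(.node 6 (.node 3 (.node 1 (.leaf 19206217) (.node 1 (.leaf 25718857) (.leaf 9203787))) (.node 1 (.leaf 27816001) (.node 1 (.leaf 11366467) (.leaf 25696337))))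
(.node 3 (.node 1 (.leaf 25759833) (.node 1 (.leaf 11352153) (.leaf 17109067))) (.node 1 (.leaf 27859011) (.node 1 (.leaf 17117273) (.leaf 11286611)))))))))
(.node 96 (.node 48 (.node 24 (.node 12 (.node 6 (.node 3 (.node 1 (.leaf 19216465) (.node 1 (.leaf 25770065) (.leaf 11341897))) (.node 1 (.leaf 27867217) (.node 1 (.leaf 9254995) (.leaf 9187393))))
(.node 3 (.node 1 (.leaf 17133633) (.node 1 (.leaf 27816003) (.leaf 27883593))) (.node 1 (.leaf 19230811) (.node 1 (.leaf 25720915) (.leaf 27799641)))))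
(.node 6 (.node 3 (.node 1 (.leaf 11350107) (.node 1 (.leaf 11286603) (.leaf 27818049))) (.node 1 (.leaf 17068113) (.node 1 (.leaf 25718867) (.leaf 25786459))))
(.node 3 (.node 1 (.leaf 9181273) (.node 1 (.leaf 17109059) (.leaf 27883587))) (.node 1 (.leaf 9271361) (.node 1 (.leaf 9203795) (.leaf 25786443))))))
(.node 12 (.node 6 (.node 3 (.node 1 (.leaf 11302985) (.node 1 (.leaf 11366491) (.leaf 27859033))) (.node 1 (.leaf 27791441) (.node 1 (.leaf 11286609) (.leaf 19148875))))
(.node 3 (.node 1 (.leaf 17051715) (.node 1 (.leaf 11278409) (.leaf 19140691))) (.node 1 (.leaf 27818067) (.node 1 (.leaf 11368529) (.leaf 9205851)))))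
(.node 6 (.node 3 (.node 1 (.leaf 11284563) (.node 1 (.leaf 19150921) (.leaf 25694291))) (.node 1 (.leaf 25761883) (.node 1 (.leaf 17053763) (.leaf 11294787))))
(.node 3 (.node 1 (.leaf 11358289) (.node 1 (.leaf 19214427) (.leaf 25768025))) (.node 1 (.leaf 25704531) (.node 1 (.leaf 9246803) (.leaf 19150915)))))))
(.node 24 (.node 12 (.node 6 (.node 3 (.node 1 (.leaf 27867201) (.node 1 (.leaf 27799625) (.leaf 9181275))) (.node 1 (.leaf 17045593) (.node 1 (.leaf 9195585) (.leaf 25759827))))
(.node 3 (.node 1 (.leaf 25696345) (.node 1 (.leaf 27791435) (.leaf 27799643))) (.node 1 (.leaf 25702481) (.node 1 (.leaf 9187411) (.leaf 9254979)))))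
(.node 6 (.node 3 (.node 1 (.leaf 11360339) (.node 1 (.leaf 17127505) (.leaf 27865153))) (.node 1 (.leaf 9252931) (.node 1 (.leaf 9189457) (.leaf 27807819))))
(.node 3 (.node 1 (.leaf 27856987) (.node 1 (.leaf 27793491) (.leaf 25694273))) (.node 1 (.leaf 25761865) (.node 1 (.leaf 9261129) (.leaf 19157067))))))
(.node 12 (.node 6 (.node 3 (.node 1 (.leaf 19224657) (.node 1 (.leaf 25704529) (.leaf 9189459))) (.node 1 (.leaf 11284555) (.node 1 (.leaf 17061977) (.leaf 9187409))))
(.node 3 (.node 1 (.leaf 25770057) (.node 1 (.leaf 27867219) (.leaf 19208257))) (.node 1 (.leaf 25702489) (.node 1 (.leaf 9254987) (.leaf 19230795)))))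
(.node 6 (.node 3 (.node 1 (.leaf 25784393) (.node 1 (.leaf 25720899) (.leaf 17133651))) (.node 1 (.leaf 27816017) (.node 1 (.leaf 27883611) (.leaf 11350081))))
(.node 3 (.node 1 (.leaf 17068097) (.node 1 (.leaf 25718851) (.leaf 19165273))) (.node 1 (.leaf 27881563) (.node 1 (.leaf 9244753) (.leaf 19208265))))))))
(.node 48 (.node 24 (.node 12 (.node 6 (.node 3 (.node 1 (.leaf 25720905) (.node 1 (.leaf 9205835) (.leaf 9269339))) (.node 1 (.leaf 11368515) (.node 1 (.leaf 11300947) (.leaf 25694289))))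
(.node 3 (.node 1 (.leaf 25761881) (.node 1 (.leaf 9252937) (.leaf 11303001))) (.node 1 (.leaf 11366475) (.node 1 (.leaf 27883601) (.leaf 9271379)))))
(.node 6 (.node 3 (.node 1 (.leaf 9203777) (.node 1 (.leaf 9189441) (.leaf 25704515))) (.node 1 (.leaf 9246811) (.node 1 (.leaf 19206211) (.leaf 11352129))))
(.node 3 (.node 1 (.leaf 27883603) (.node 1 (.leaf 27816027) (.leaf 25784385))) (.node 1 (.leaf 17135705) (.node 1 (.leaf 27818075) (.leaf 27881553))))))
(.node 12 (.node 6 (.node 3 (.node 1 (.leaf 19232835) (.node 1 (.leaf 25786433) (.leaf 25718859))) (.node 1 (.leaf 25696339) (.node 1 (.leaf 25759835) (.leaf 9179227))))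
(.node 3 (.node 1 (.leaf 17111105) (.node 1 (.leaf 27881537) (.leaf 9269315))) (.node 1 (.leaf 9205841) (.node 1 (.leaf 11368537) (.leaf 17641545)))))
(.node 6 (.node 3 (.node 1 (.leaf 11022411) (.node 1 (.leaf 11090001) (.leaf 25450577))) (.node 1 (.leaf 17586259) (.node 1 (.leaf 17649755) (.leaf 27547713))))
(.node 3 (.node 1 (.leaf 19748931) (.node 1 (.leaf 8925259) (.leaf 25440329))) (.node 1 (.leaf 25507929) (.node 1 (.leaf 19755097) (.leaf 17657937)))))))
(.node 24 (.node 12 (.node 6 (.node 3 (.node 1 (.leaf 11038803) (.node 1 (.leaf 11106377) (.leaf 8992851))) (.node 1 (.leaf 27539537) (.node 1 (.leaf 27603011) (.leaf 17592387))))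
(.node 3 (.node 1 (.leaf 9009241) (.node 1 (.leaf 19689547) (.leaf 11104329))) (.node 1 (.leaf 11040849) (.node 1 (.leaf 19738691) (.leaf 8990785)))))
(.node 6 (.node 3 (.node 1 (.leaf 8927323) (.node 1 (.leaf 25516123) (.leaf 19683417))) (.node 1 (.leaf 27613257) (.node 1 (.leaf 17651787) (.leaf 17584193))))
(.node 3 (.node 1 (.leaf 11087937) (.node 1 (.leaf 25505859) (.leaf 25442385))) (.node 1 (.leaf 17659985) (.node 1 (.leaf 11040851) (.leaf 19757147))))))
(.node 12 (.node 6 (.node 3 (.node 1 (.leaf 11024473) (.node 1 (.leaf 27605083) (.leaf 27537483))) (.node 1 (.leaf 11038801) (.node 1 (.leaf 17594433) (.leaf 19755099))))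
(.node 3 (.node 1 (.leaf 19691603) (.node 1 (.leaf 11030611) (.leaf 27611217))) (.node 1 (.leaf 8933449) (.node 1 (.leaf 25448523) (.leaf 17657947)))))
(.node 6 (.node 3 (.node 1 (.leaf 11038809) (.node 1 (.leaf 25434179) (.leaf 17569857))) (.node 1 (.leaf 17633353) (.node 1 (.leaf 27531347) (.leaf 19732561))))
(.node 3 (.node 1 (.leaf 19664985) (.node 1 (.leaf 17594449) (.leaf 8943699))) (.node 1 (.leaf 27596875) (.node 1 (.leaf 17635401) (.leaf 17567811))))))))))

/-- The stabiliser. -/
def caseDFullN4ElsL : Tab ℕ := .node 384 caseDFullN4ElsLL caseDFullN4ElsLR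

/-- The stabiliser. -/
def caseDFullN4ElsRL : Tab ℕ :=
(.node 192 (.node 96 (.node 48 (.node 24 (.node 12 (.node 6 (.node 3 (.node 1 (.leaf 25499739) (.node 1 (.leaf 19667033) (.leaf 19730515))) (.node 1 (.leaf 11098193) (.node 1 (.leaf 25448513) (.leaf 17633345))))
(.node 3 (.node 1 (.leaf 11014211) (.node 1 (.leaf 19730507) (.leaf 8982601))) (.node 1 (.leaf 27613267) (.node 1 (.leaf 17651793) (.leaf 25522243)))))
(.node 6 (.node 3 (.node 1 (.leaf 25458769) (.node 1 (.leaf 27545667) (.leaf 19746881))) (.node 1 (.leaf 11038793) (.node 1 (.leaf 27619403) (.leaf 27555931))))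
(.node 3 (.node 1 (.leaf 8941651) (.node 1 (.leaf 25456721) (.leaf 25524289))) (.node 1 (.leaf 9001033) (.node 1 (.leaf 27611225) (.leaf 17567833))))))
(.node 12 (.node 6 (.node 3 (.node 1 (.leaf 8984643) (.node 1 (.leaf 19664977) (.leaf 11016267))) (.node 1 (.leaf 25450571) (.node 1 (.leaf 17649729) (.leaf 25524291))))
(.node 3 (.node 1 (.leaf 27619401) (.node 1 (.leaf 25514075) (.leaf 19748947))) (.node 1 (.leaf 25522241) (.node 1 (.leaf 27621449) (.leaf 17659977)))))
(.node 6 (.node 3 (.node 1 (.leaf 8998979) (.node 1 (.leaf 27545665) (.leaf 11096153))) (.node 1 (.leaf 25450569) (.node 1 (.leaf 19757129) (.leaf 8941649))))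
(.node 3 (.node 1 (.leaf 25497681) (.node 1 (.leaf 19664979) (.leaf 19732569))) (.node 1 (.leaf 27594819) (.node 1 (.leaf 17569867) (.leaf 19689537)))))))
(.node 24 (.node 12 (.node 6 (.node 3 (.node 1 (.leaf 11040859) (.node 1 (.leaf 27529307) (.leaf 19667025))) (.node 1 (.leaf 25432137) (.node 1 (.leaf 17635395) (.leaf 8935489))))
(.node 3 (.node 1 (.leaf 25514067) (.node 1 (.leaf 19732563) (.leaf 8917067))) (.node 1 (.leaf 11079747) (.node 1 (.leaf 27547715) (.leaf 19681353)))))
(.node 6 (.node 3 (.node 1 (.leaf 11040841) (.node 1 (.leaf 27553883) (.leaf 17586265))) (.node 1 (.leaf 25456723) (.node 1 (.leaf 11032665) (.leaf 27545675))))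
(.node 3 (.node 1 (.leaf 11081801) (.node 1 (.leaf 8919107) (.leaf 27555929))) (.node 1 (.leaf 25448521) (.node 1 (.leaf 25458771) (.leaf 27613265))))))
(.node 12 (.node 6 (.node 3 (.node 1 (.leaf 17584217) (.node 1 (.leaf 19683395) (.leaf 19746889))) (.node 1 (.leaf 11024457) (.node 1 (.leaf 27605067) (.leaf 27537499))))
(.node 3 (.node 1 (.leaf 19691611) (.node 1 (.leaf 11106393) (.leaf 11038785))) (.node 1 (.leaf 11087955) (.node 1 (.leaf 25505873) (.leaf 25442371)))))
(.node 6 (.node 3 (.node 1 (.leaf 11040833) (.node 1 (.leaf 11104347) (.leaf 27545683))) (.node 1 (.leaf 19746897) (.node 1 (.leaf 17649745) (.leaf 11098185))))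
(.node 3 (.node 1 (.leaf 25442377) (.node 1 (.leaf 17641539) (.leaf 19740763))) (.node 1 (.leaf 19673171) (.node 1 (.leaf 8935513) (.leaf 8998977))))))))
(.node 48 (.node 24 (.node 12 (.node 6 (.node 3 (.node 1 (.leaf 27605057) (.node 1 (.leaf 17643587) (.leaf 17576009))) (.node 1 (.leaf 19675219) (.node 1 (.leaf 19738713) (.leaf 17584195))))
(.node 3 (.node 1 (.leaf 11104331) (.node 1 (.leaf 25522249) (.leaf 25458779))) (.node 1 (.leaf 27553873) (.node 1 (.leaf 27621443) (.leaf 11096129)))))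
(.node 6 (.node 3 (.node 1 (.leaf 27537497) (.node 1 (.leaf 19738715) (.leaf 25440331))) (.node 1 (.leaf 17643585) (.node 1 (.leaf 19748937) (.leaf 9001035))))
(.node 3 (.node 1 (.leaf 8933457) (.node 1 (.leaf 19740761) (.leaf 25442379))) (.node 1 (.leaf 25505883) (.node 1 (.leaf 27539531) (.leaf 19740745))))))
(.node 12 (.node 6 (.node 3 (.node 1 (.leaf 19673153) (.node 1 (.leaf 11016257) (.leaf 27596867))) (.node 1 (.leaf 27529299) (.node 1 (.leaf 8919131) (.leaf 25434201))))
(.node 3 (.node 1 (.leaf 25497673) (.node 1 (.leaf 27603033) (.leaf 17641563))) (.node 1 (.leaf 17578065) (.node 1 (.leaf 27594817) (.leaf 25432155)))))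
(.node 6 (.node 3 (.node 1 (.leaf 19689561) (.node 1 (.leaf 11040835) (.leaf 27529283))) (.node 1 (.leaf 19667017) (.node 1 (.leaf 25432145) (.leaf 17567827))))
(.node 3 (.node 1 (.leaf 19740755) (.node 1 (.leaf 8992849) (.leaf 17643611))) (.node 1 (.leaf 11087939) (.node 1 (.leaf 27594825) (.leaf 17633355)))))))
(.node 24 (.node 12 (.node 6 (.node 3 (.node 1 (.leaf 25497689) (.node 1 (.leaf 19664987) (.leaf 27619411))) (.node 1 (.leaf 27555907) (.node 1 (.leaf 19673155) (.leaf 11106379))))
(.node 3 (.node 1 (.leaf 25456731) (.node 1 (.leaf 11089987) (.leaf 19738705))) (.node 1 (.leaf 8990803) (.node 1 (.leaf 27537491) (.leaf 19691593)))))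
(.node 6 (.node 3 (.node 1 (.leaf 25440339) (.node 1 (.leaf 17576017) (.leaf 17643609))) (.node 1 (.leaf 11079769) (.node 1 (.leaf 25497691) (.leaf 25434185))))
(.node 3 (.node 1 (.leaf 8982593) (.node 1 (.leaf 27596881) (.leaf 25507907))) (.node 1 (.leaf 19675201) (.node 1 (.leaf 19738699) (.leaf 25499737))))))
(.node 12 (.node 6 (.node 3 (.node 1 (.leaf 11014227) (.node 1 (.leaf 27594833) (.leaf 17657923))) (.node 1 (.leaf 11106395) (.node 1 (.leaf 25434203) (.leaf 17569881))))
(.node 3 (.node 1 (.leaf 27531339) (.node 1 (.leaf 19664961) (.leaf 19738707))) (.node 1 (.leaf 8927307) (.node 1 (.leaf 11024475) (.leaf 8943697)))))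
(.node 6 (.node 3 (.node 1 (.leaf 25499729) (.node 1 (.leaf 19667027) (.leaf 17635393))) (.node 1 (.leaf 19740753) (.node 1 (.leaf 8925257) (.leaf 27621457))))
(.node 3 (.node 1 (.leaf 27553857) (.node 1 (.leaf 11022427) (.leaf 19748955))) (.node 1 (.leaf 19681363) (.node 1 (.leaf 8992833) (.leaf 27539523)))))))))
(.node 96 (.node 48 (.node 24 (.node 12 (.node 6 (.node 3 (.node 1 (.leaf 27603025) (.node 1 (.leaf 17592401) (.leaf 8925275))) (.node 1 (.leaf 25440345) (.node 1 (.leaf 25507913) (.leaf 17657921))))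
(.node 3 (.node 1 (.leaf 11038787) (.node 1 (.leaf 17649753) (.leaf 27555921))) (.node 1 (.leaf 27619395) (.node 1 (.leaf 25524299) (.leaf 25507905)))))
(.node 6 (.node 3 (.node 1 (.leaf 27605075) (.node 1 (.leaf 17643601) (.leaf 17576027))) (.node 1 (.leaf 19683409) (.node 1 (.leaf 11098195) (.leaf 25442393))))
(.node 3 (.node 1 (.leaf 17578075) (.node 1 (.leaf 17641555) (.leaf 8933451))) (.node 1 (.leaf 9001043) (.node 1 (.leaf 27603027) (.leaf 17641553))))))
(.node 12 (.node 6 (.node 3 (.node 1 (.leaf 19740747) (.node 1 (.leaf 11032643) (.leaf 17643603))) (.node 1 (.leaf 27537481) (.node 1 (.leaf 25440337) (.leaf 27605059))))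
(.node 3 (.node 1 (.leaf 17576011) (.node 1 (.leaf 27529289) (.leaf 27596891))) (.node 1 (.leaf 11079761) (.node 1 (.leaf 25497683) (.leaf 25434177)))))
(.node 6 (.node 3 (.node 1 (.leaf 19675225) (.node 1 (.leaf 11014233) (.leaf 27594843))) (.node 1 (.leaf 8917059) (.node 1 (.leaf 25432129) (.leaf 17594451))))
(.node 3 (.node 1 (.leaf 27596873) (.node 1 (.leaf 17567809) (.leaf 19730513))) (.node 1 (.leaf 27621459) (.node 1 (.leaf 27553859) (.leaf 17578057)))))))
(.node 24 (.node 12 (.node 6 (.node 3 (.node 1 (.leaf 25434195) (.node 1 (.leaf 17633369) (.leaf 17641561))) (.node 1 (.leaf 27603035) (.node 1 (.leaf 17592385) (.leaf 19673177))))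
(.node 3 (.node 1 (.leaf 27529305) (.node 1 (.leaf 11081795) (.leaf 25499713))) (.node 1 (.leaf 25432147) (.node 1 (.leaf 8984667) (.leaf 27531353)))))
(.node 6 (.node 3 (.node 1 (.leaf 27594827) (.node 1 (.leaf 27619409) (.leaf 27555905))) (.node 1 (.leaf 17659969) (.node 1 (.leaf 11104345) (.leaf 19667011))))
(.node 3 (.node 1 (.leaf 19689563) (.node 1 (.leaf 27529281) (.leaf 19730499))) (.node 1 (.leaf 17635417) (.node 1 (.leaf 19732545) (.leaf 11032657))))))
(.node 12 (.node 6 (.node 3 (.node 1 (.leaf 11081793) (.node 1 (.leaf 17569865) (.leaf 8919115))) (.node 1 (.leaf 8982611) (.node 1 (.leaf 19746907) (.leaf 8941659))))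
(.node 3 (.node 1 (.leaf 27619393) (.node 1 (.leaf 8935499) (.leaf 25514073))) (.node 1 (.leaf 8917057) (.node 1 (.leaf 17635409) (.leaf 11016275)))))
(.node 6 (.node 3 (.node 1 (.leaf 11079753) (.node 1 (.leaf 27621441) (.leaf 8943705))) (.node 1 (.leaf 25522251) (.node 1 (.leaf 8941657) (.leaf 9009217))))
(.node 3 (.node 1 (.leaf 17633347) (.node 1 (.leaf 19673163) (.leaf 11087945))) (.node 1 (.leaf 11024465) (.node 1 (.leaf 17576001) (.leaf 11089995))))))))
(.node 48 (.node 24 (.node 12 (.node 6 (.node 3 (.node 1 (.leaf 8927297) (.node 1 (.leaf 27531331) (.leaf 19664969))) (.node 1 (.leaf 8927315) (.node 1 (.leaf 25505857) (.leaf 11016259))))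
(.node 3 (.node 1 (.leaf 19755083) (.node 1 (.leaf 19691587) (.leaf 17657939))) (.node 1 (.leaf 17594457) (.node 1 (.leaf 11090011) (.leaf 8992835)))))
(.node 6 (.node 3 (.node 1 (.leaf 27539521) (.node 1 (.leaf 11081809) (.leaf 11014217))) (.node 1 (.leaf 19757131) (.node 1 (.leaf 25432139) (.leaf 17567817))))
(.node 3 (.node 1 (.leaf 19740739) (.node 1 (.leaf 17643595) (.leaf 17578073))) (.node 1 (.leaf 8990787) (.node 1 (.leaf 19675217) (.leaf 11090003))))))
(.node 12 (.node 6 (.node 3 (.node 1 (.leaf 8925249) (.node 1 (.leaf 25440323) (.leaf 25507923))) (.node 1 (.leaf 8919113) (.node 1 (.leaf 8982609) (.leaf 17592409))))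
(.node 3 (.node 1 (.leaf 11081819) (.node 1 (.leaf 27537489) (.leaf 25505867))) (.node 1 (.leaf 17594459) (.node 1 (.leaf 11079771) (.leaf 8984651)))))
(.node 6 (.node 3 (.node 1 (.leaf 8917073) (.node 1 (.leaf 19689545) (.leaf 19757123))) (.node 1 (.leaf 27531345) (.node 1 (.leaf 19681361) (.leaf 11032651))))
(.node 3 (.node 1 (.leaf 8933465) (.node 1 (.leaf 9001025) (.leaf 17649737))) (.node 1 (.leaf 8935515) (.node 1 (.leaf 11079755) (.leaf 27553875)))))))
(.node 24 (.node 12 (.node 6 (.node 3 (.node 1 (.leaf 17659979) (.node 1 (.leaf 11030601) (.leaf 8919121))) (.node 1 (.leaf 25497667) (.node 1 (.leaf 19748953) (.leaf 17584211))))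
(.node 3 (.node 1 (.leaf 27603017) (.node 1 (.leaf 17641547) (.leaf 25505881))) (.node 1 (.leaf 19673179) (.node 1 (.leaf 17651803) (.leaf 17643593)))))
(.node 6 (.node 3 (.node 1 (.leaf 8992857) (.node 1 (.leaf 27555923) (.leaf 8935491))) (.node 1 (.leaf 25450561) (.node 1 (.leaf 17586241) (.leaf 19683393))))
(.node 3 (.node 1 (.leaf 11030619) (.node 1 (.leaf 27539547) (.leaf 19673169))) (.node 1 (.leaf 19746891) (.node 1 (.leaf 8998985) (.leaf 8935507))))))
(.node 12 (.node 6 (.node 3 (.node 1 (.leaf 11087963) (.node 1 (.leaf 11024451) (.leaf 17576019))) (.node 1 (.leaf 8925265) (.node 1 (.leaf 8992841) (.leaf 19757121))))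
(.node 3 (.node 1 (.leaf 11022409) (.node 1 (.leaf 8933443) (.leaf 17592393))) (.node 1 (.leaf 27613273) (.node 1 (.leaf 8919129) (.leaf 25516121)))))
(.node 6 (.node 3 (.node 1 (.leaf 11014235) (.node 1 (.leaf 17657931) (.leaf 19757139))) (.node 1 (.leaf 11030595) (.node 1 (.leaf 11098201) (.leaf 19681371))))
(.node 3 (.node 1 (.leaf 11032641) (.node 1 (.leaf 19755075) (.leaf 17586257))) (.node 1 (.leaf 17649739) (.node 1 (.leaf 25442387) (.leaf 19740737))))))))))

/-- The stabiliser. -/
def caseDFullN4ElsRR : Tab ℕ :=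
(.node 192 (.node 96 (.node 48 (.node 24 (.node 12 (.node 6 (.node 3 (.node 1 (.leaf 19673161) (.node 1 (.leaf 25507915) (.leaf 19675209))) (.node 1 (.leaf 11022419) (.node 1 (.leaf 8990809) (.leaf 11096145))))
(.node 3 (.node 1 (.leaf 11032667) (.node 1 (.leaf 17651801) (.leaf 25458777))) (.node 1 (.leaf 17594441) (.node 1 (.leaf 19675227) (.leaf 11022401)))))
(.node 6 (.node 3 (.node 1 (.leaf 9001027) (.node 1 (.leaf 27611219) (.leaf 8984649))) (.node 1 (.leaf 17586243) (.node 1 (.leaf 11014219) (.leaf 17576025))))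
(.node 3 (.node 1 (.leaf 11024459) (.node 1 (.leaf 19738689) (.leaf 8927321))) (.node 1 (.leaf 19732555) (.node 1 (.leaf 9007171) (.leaf 17578051))))))
(.node 12 (.node 6 (.node 3 (.node 1 (.leaf 11087953) (.node 1 (.leaf 25505875) (.leaf 25442369))) (.node 1 (.leaf 8990793) (.node 1 (.leaf 27605081) (.leaf 27539539))))
(.node 3 (.node 1 (.leaf 17569859) (.node 1 (.leaf 8982617) (.leaf 11081811))) (.node 1 (.leaf 8984659) (.node 1 (.leaf 9001049) (.leaf 8999001)))))
(.node 6 (.node 3 (.node 1 (.leaf 11030609) (.node 1 (.leaf 11098187) (.leaf 19683403))) (.node 1 (.leaf 11096139) (.node 1 (.leaf 17651785) (.leaf 19681345))))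
(.node 3 (.node 1 (.leaf 27603009) (.node 1 (.leaf 17578067) (.leaf 17576003))) (.node 1 (.leaf 25507931) (.node 1 (.leaf 11098177) (.leaf 11016273)))))))
(.node 24 (.node 12 (.node 6 (.node 3 (.node 1 (.leaf 17586251) (.node 1 (.leaf 19689555) (.leaf 8935497))) (.node 1 (.leaf 9001041) (.node 1 (.leaf 8998993) (.leaf 11087961))))
(.node 3 (.node 1 (.leaf 11024449) (.node 1 (.leaf 8925267) (.leaf 8992843))) (.node 1 (.leaf 8943707) (.node 1 (.leaf 9179201) (.leaf 19222609)))))
(.node 6 (.node 3 (.node 1 (.leaf 25776211) (.node 1 (.leaf 17125449) (.leaf 11276353))) (.node 1 (.leaf 11366489) (.node 1 (.leaf 25718865) (.leaf 9271363))))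
(.node 3 (.node 1 (.leaf 11343955) (.node 1 (.leaf 17111121) (.leaf 25784395))) (.node 1 (.leaf 11300937) (.node 1 (.leaf 11368539) (.leaf 19159123))))))
(.node 12 (.node 6 (.node 3 (.node 1 (.leaf 27807833) (.node 1 (.leaf 19232859) (.leaf 17070153))) (.node 1 (.leaf 25778257) (.node 1 (.leaf 11294803) (.leaf 25710683))))
(.node 3 (.node 1 (.leaf 9195609) (.node 1 (.leaf 25696321) (.leaf 17109073))) (.node 1 (.leaf 17061961) (.node 1 (.leaf 25776195) (.leaf 17068123)))))
(.node 6 (.node 3 (.node 1 (.leaf 27809867) (.node 1 (.leaf 11292761) (.leaf 25759817))) (.node 1 (.leaf 27873345) (.node 1 (.leaf 17059931) (.leaf 25710681))))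
(.node 3 (.node 1 (.leaf 19157059) (.node 1 (.leaf 27809865) (.leaf 9181257))) (.node 1 (.leaf 17109075) (.node 1 (.leaf 9271377) (.leaf 9203779))))))))
(.node 48 (.node 24 (.node 12 (.node 6 (.node 3 (.node 1 (.leaf 9244761) (.node 1 (.leaf 25720897) (.leaf 9269331))) (.node 1 (.leaf 17127513) (.node 1 (.leaf 27873361) (.leaf 9203793))))
(.node 3 (.node 1 (.leaf 19167323) (.node 1 (.leaf 25712731) (.leaf 11360323))) (.node 1 (.leaf 19224643) (.node 1 (.leaf 25710667) (.leaf 19165257)))))
(.node 6 (.node 3 (.node 1 (.leaf 17133659) (.node 1 (.leaf 27807817) (.leaf 25778259))) (.node 1 (.leaf 11358275) (.node 1 (.leaf 9263195) (.leaf 9195593))))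
(.node 3 (.node 1 (.leaf 19214409) (.node 1 (.leaf 9246785) (.leaf 19142723))) (.node 1 (.leaf 19206233) (.node 1 (.leaf 19150929) (.leaf 19208281))))))
(.node 12 (.node 6 (.node 3 (.node 1 (.leaf 19140673) (.node 1 (.leaf 25710673) (.leaf 19159113))) (.node 1 (.leaf 11286619) (.node 1 (.leaf 9254993) (.leaf 17127491))))
(.node 3 (.node 1 (.leaf 17059929) (.node 1 (.leaf 11284571) (.leaf 11352137))) (.node 1 (.leaf 9252945) (.node 1 (.leaf 11358299) (.leaf 19140683)))))
(.node 6 (.node 3 (.node 1 (.leaf 27856969) (.node 1 (.leaf 27793473) (.leaf 19157081))) (.node 1 (.leaf 27801675) (.node 1 (.leaf 11284569) (.leaf 9197641))))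
(.node 3 (.node 1 (.leaf 17061963) (.node 1 (.leaf 17125459) (.leaf 27799627))) (.node 1 (.leaf 9187401) (.node 1 (.leaf 9255001) (.leaf 19230809)))))))
(.node 24 (.node 12 (.node 6 (.node 3 (.node 1 (.leaf 25784411) (.node 1 (.leaf 25720913) (.leaf 11350099))) (.node 1 (.leaf 25786457) (.node 1 (.leaf 9244739) (.leaf 19208283))))
(.node 3 (.node 1 (.leaf 25720923) (.node 1 (.leaf 9269321) (.leaf 17051731))) (.node 1 (.leaf 19150939) (.node 1 (.leaf 25786441) (.leaf 11302987)))))
(.node 6 (.node 3 (.node 1 (.leaf 25759825) (.node 1 (.leaf 25696347) (.leaf 9255003))) (.node 1 (.leaf 19142731) (.node 1 (.leaf 27791425) (.leaf 19148891))))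
(.node 3 (.node 1 (.leaf 17053777) (.node 1 (.leaf 9246793) (.leaf 27801681))) (.node 1 (.leaf 11352147) (.node 1 (.leaf 17070169) (.leaf 25784403))))))
(.node 12 (.node 6 (.node 3 (.node 1 (.leaf 27865179) (.node 1 (.leaf 9252953) (.leaf 9189451))) (.node 1 (.leaf 19232849) (.node 1 (.leaf 25786451) (.leaf 11276379))))
(.node 3 (.node 1 (.leaf 19142721) (.node 1 (.leaf 9271385) (.leaf 17117259))) (.node 1 (.leaf 19214401) (.node 1 (.leaf 17111123) (.leaf 11300953)))))
(.node 6 (.node 3 (.node 1 (.leaf 17119305) (.node 1 (.leaf 19216449) (.leaf 9197633))) (.node 1 (.leaf 9261137) (.node 1 (.leaf 17051737) (.leaf 25770067))))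
(.node 3 (.node 1 (.leaf 11341907) (.node 1 (.leaf 17119297) (.leaf 11276377))) (.node 1 (.leaf 19206235) (.node 1 (.leaf 11292739) (.leaf 27859019)))))))))
(.node 96 (.node 48 (.node 24 (.node 12 (.node 6 (.node 3 (.node 1 (.leaf 25768017) (.node 1 (.leaf 9263187) (.leaf 19159121))) (.node 1 (.leaf 27799619) (.node 1 (.leaf 17125451) (.leaf 17061969))))
(.node 3 (.node 1 (.leaf 9187403) (.node 1 (.leaf 19224667) (.leaf 25704521))) (.node 1 (.leaf 25768027) (.node 1 (.leaf 11352139) (.leaf 19167315)))))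
(.node 6 (.node 3 (.node 1 (.leaf 27816025) (.node 1 (.leaf 17135707) (.leaf 27818073))) (.node 1 (.leaf 11343953) (.node 1 (.leaf 9205843) (.leaf 25761873))))
(.node 3 (.node 1 (.leaf 25694299) (.node 1 (.leaf 11350089) (.leaf 11302979))) (.node 1 (.leaf 11341913) (.node 1 (.leaf 19165275) (.leaf 27881561))))))
(.node 12 (.node 6 (.node 3 (.node 1 (.leaf 27818065) (.node 1 (.leaf 11278425) (.leaf 19140675))) (.node 1 (.leaf 9244737) (.node 1 (.leaf 11300931) (.leaf 9203801))))
(.node 3 (.node 1 (.leaf 19224659) (.node 1 (.leaf 11366473) (.leaf 17133643))) (.node 1 (.leaf 17070161) (.node 1 (.leaf 17127499) (.leaf 27873347)))))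
(.node 6 (.node 3 (.node 1 (.leaf 19230801) (.node 1 (.leaf 19167305) (.leaf 27856971))) (.node 1 (.leaf 11303003) (.node 1 (.leaf 9271369) (.leaf 17117265))))
(.node 3 (.node 1 (.leaf 27867225) (.node 1 (.leaf 9179211) (.leaf 11276369))) (.node 1 (.leaf 11343939) (.node 1 (.leaf 19148865) (.leaf 17051739)))))))
(.node 24 (.node 12 (.node 6 (.node 3 (.node 1 (.leaf 19165267) (.node 1 (.leaf 19232841) (.leaf 9181259))) (.node 1 (.leaf 27818059) (.node 1 (.leaf 11350083) (.leaf 17053787))))
(.node 3 (.node 1 (.leaf 19148881) (.node 1 (.leaf 27801691) (.leaf 27865169))) (.node 1 (.leaf 17133641) (.node 1 (.leaf 17070163) (.leaf 19165249)))))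
(.node 6 (.node 3 (.node 1 (.leaf 19167297) (.node 1 (.leaf 17068107) (.leaf 17135699))) (.node 1 (.leaf 9244745) (.node 1 (.leaf 9261139) (.leaf 17125443))))
(.node 3 (.node 1 (.leaf 17127489) (.node 1 (.leaf 19167307) (.leaf 11278411))) (.node 1 (.leaf 19222601) (.node 1 (.leaf 9197635) (.leaf 27867203))))))
(.node 12 (.node 6 (.node 3 (.node 1 (.leaf 9254977) (.node 1 (.leaf 11294785) (.leaf 17127515))) (.node 1 (.leaf 27809881) (.node 1 (.leaf 9263193) (.leaf 19222593))))
(.node 3 (.node 1 (.leaf 25702465) (.node 1 (.leaf 9195595) (.leaf 17059913))) (.node 1 (.leaf 19150913) (.node 1 (.leaf 17119315) (.leaf 19216457)))))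
(.node 6 (.node 3 (.node 1 (.leaf 25778243) (.node 1 (.leaf 17133635) (.leaf 27875395))) (.node 1 (.leaf 19232833) (.node 1 (.leaf 11276363) (.leaf 9181265))))
(.node 3 (.node 1 (.leaf 19159107) (.node 1 (.leaf 19224665) (.leaf 11292747))) (.node 1 (.leaf 27799633) (.node 1 (.leaf 19224641) (.leaf 27793475))))))))
(.node 48 (.node 24 (.node 12 (.node 6 (.node 3 (.node 1 (.leaf 11343945) (.node 1 (.leaf 9252929) (.leaf 19216473))) (.node 1 (.leaf 17061979) (.node 1 (.leaf 17068105) (.leaf 11360347))))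
(.node 3 (.node 1 (.leaf 19232843) (.node 1 (.leaf 11352131) (.leaf 19214411))) (.node 1 (.leaf 17117251) (.node 1 (.leaf 19150931) (.leaf 17053769)))))
(.node 6 (.node 3 (.node 1 (.leaf 25768003) (.node 1 (.leaf 17070147) (.leaf 19165265))) (.node 1 (.leaf 17061955) (.node 1 (.leaf 17059907) (.leaf 19222611))))
(.node 3 (.node 1 (.leaf 19159115) (.node 1 (.leaf 9263179) (.leaf 25770073))) (.node 1 (.leaf 19159129) (.node 1 (.leaf 19230803) (.leaf 11360331))))))
(.node 12 (.node 6 (.node 3 (.node 1 (.leaf 17061971) (.node 1 (.leaf 17059923) (.leaf 19214425))) (.node 1 (.leaf 17051723) (.node 1 (.leaf 11358291) (.leaf 25768009))))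
(.node 3 (.node 1 (.leaf 25786435) (.node 1 (.leaf 25704539) (.leaf 25718849))) (.node 1 (.leaf 17135697) (.node 1 (.leaf 27793483) (.leaf 17119299)))))
(.node 6 (.node 3 (.node 1 (.leaf 25702473) (.node 1 (.leaf 27856961) (.leaf 27875419))) (.node 1 (.leaf 27809857) (.node 1 (.leaf 27807809) (.leaf 27816011))))
(.node 3 (.node 1 (.leaf 19157057) (.node 1 (.leaf 27801665) (.leaf 9205825))) (.node 1 (.leaf 27883595) (.node 1 (.leaf 17135683) (.leaf 27881547)))))))
(.node 24 (.node 12 (.node 6 (.node 3 (.node 1 (.leaf 25712705) (.node 1 (.leaf 19230785) (.leaf 17068099))) (.node 1 (.leaf 27547729) (.node 1 (.leaf 9009219) (.leaf 11098203))))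
(.node 3 (.node 1 (.leaf 8943691) (.node 1 (.leaf 25458761) (.leaf 25522265))) (.node 1 (.leaf 8982595) (.node 1 (.leaf 27596883) (.leaf 9007169)))))
(.node 6 (.node 3 (.node 1 (.leaf 27596865) (.node 1 (.leaf 27531337) (.leaf 8941643))) (.node 1 (.leaf 25524313) (.node 1 (.leaf 27529297) (.leaf 11104337))))
(.node 3 (.node 1 (.leaf 19691601) (.node 1 (.leaf 25456715) (.leaf 11032659))) (.node 1 (.leaf 25499715) (.node 1 (.leaf 19732571) (.leaf 25432131))))))
(.node 12 (.node 6 (.node 3 (.node 1 (.leaf 25499731) (.node 1 (.leaf 19730523) (.leaf 25448539))) (.node 1 (.leaf 25458763) (.node 1 (.leaf 25499723) (.leaf 8917081))))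
(.node 3 (.node 1 (.leaf 17584209) (.node 1 (.leaf 11096155) (.leaf 25440347))) (.node 1 (.leaf 25516099) (.node 1 (.leaf 8925273) (.leaf 27547739)))))
(.node 6 (.node 3 (.node 1 (.leaf 25450587) (.node 1 (.leaf 8984665) (.leaf 25522267))) (.node 1 (.leaf 11016283) (.node 1 (.leaf 8917075) (.leaf 27537475))))
(.node 3 (.node 1 (.leaf 27539529) (.node 1 (.leaf 27531355) (.leaf 27594841))) (.node 1 (.leaf 27605065) (.node 1 (.leaf 25497675) (.leaf 25434187))))))))))

/-- The stabiliser. -/
def caseDFullN4ElsR : Tab ℕ := .node 384 caseDFullN4ElsRL caseDFullN4ElsRR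

/-- The stabiliser. -/
def caseDFullN4Els : Tab ℕ := .node 768 caseDFullN4ElsL caseDFullN4ElsR

/-- Its index. -/
def caseDFullN4Ix : BT ℕ :=
(.node 19140673 1272
(.node 11276353 1214
(.node 9244737 1371
(.node 8998977 863
(.node 8941633 194
(.node 8927297 1056
(.node 8919121 1106
(.node 8917081 1517
(.node 8917067 824 (.node 8917059 999 (.node 8917057 1041 .tip .tip) (.node 8917065 294 .tip .tip)) (.node 8917075 1528 (.node 8917073 1092 .tip .tip) .tip))
(.node 8919107 835 (.node 8919105 282 (.node 8917083 214 .tip .tip) .tip) (.node 8919115 1034 (.node 8919113 1083 .tip .tip) .tip)))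
(.node 8925257 952
(.node 8919131 892 (.node 8919129 1138 (.node 8919123 239 .tip .tip) .tip) (.node 8925251 173 (.node 8925249 1080 .tip .tip) .tip))
(.node 8925267 1207 (.node 8925265 1131 (.node 8925259 715 .tip .tip) .tip) (.node 8925275 962 (.node 8925273 1522 .tip .tip) .tip))))
(.node 8933457 882
(.node 8927321 1172
(.node 8927307 945 (.node 8927305 17 (.node 8927299 118 .tip .tip) .tip) (.node 8927315 1059 (.node 8927313 140 .tip .tip) .tip))
(.node 8933443 1135 (.node 8933441 34 (.node 8927323 732 .tip .tip) .tip) (.node 8933451 980 (.node 8933449 753 .tip .tip) .tip)))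
(.node 8935497 1202
(.node 8933467 256 (.node 8933465 1098 (.node 8933459 123 .tip .tip) .tip) (.node 8935491 1118 (.node 8935489 821 .tip .tip) .tip))
(.node 8935507 1127 (.node 8935505 210 (.node 8935499 1039 .tip .tip) .tip) (.node 8935515 1101 (.node 8935513 862 .tip .tip) .tip)))))
(.node 8984641 213
(.node 8943697 947
(.node 8941657 1048
(.node 8941643 1502 (.node 8941641 154 (.node 8941635 244 .tip .tip) .tip) (.node 8941651 786 (.node 8941649 809 .tip .tip) .tip))
(.node 8943683 221 (.node 8943681 267 (.node 8941659 1037 .tip .tip) .tip) (.node 8943691 1494 (.node 8943689 162 .tip .tip) .tip)))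
(.node 8982601 776
(.node 8943707 1209 (.node 8943705 1046 (.node 8943699 764 .tip .tip) .tip) (.node 8982595 1497 (.node 8982593 930 .tip .tip) .tip))
(.node 8982611 1035 (.node 8982609 1084 (.node 8982603 240 .tip .tip) .tip) (.node 8982619 281 (.node 8982617 1183 .tip .tip) .tip))))
(.node 8990801 18
(.node 8984665 1525
(.node 8984651 1091 (.node 8984649 1166 (.node 8984643 792 .tip .tip) .tip) (.node 8984659 1185 (.node 8984657 295 .tip .tip) .tip))
(.node 8990787 1077 (.node 8990785 731 (.node 8984667 1018 .tip .tip) .tip) (.node 8990795 139 (.node 8990793 1179 .tip .tip) .tip)))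
(.node 8992841 1132
(.node 8990811 119 (.node 8990809 1156 (.node 8990803 921 .tip .tip) .tip) (.node 8992835 1067 (.node 8992833 958 .tip .tip) .tip))
(.node 8992851 722 (.node 8992849 907 (.node 8992843 1208 .tip .tip) .tip) (.node 8992859 180 (.node 8992857 1116 .tip .tip) .tip))))))
(.node 9187393 581
(.node 9009217 1049
(.node 9001041 1203
(.node 8999001 1187
(.node 8998987 28 (.node 8998985 1126 (.node 8998979 804 .tip .tip) .tip) (.node 8998995 188 (.node 8998993 1204 .tip .tip) .tip))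
(.node 9001027 1164 (.node 9001025 1099 (.node 8999003 135 .tip .tip) .tip) (.node 9001035 881 (.node 9001033 789 .tip .tip) .tip)))
(.node 9007177 286
(.node 9001051 291 (.node 9001049 1186 (.node 9001043 981 .tip .tip) .tip) (.node 9007171 1174 (.node 9007169 1499 .tip .tip) .tip))
(.node 9007187 177 (.node 9007185 163 (.node 9007179 251 .tip .tip) .tip) (.node 9007195 13 (.node 9007193 268 .tip .tip) .tip))))
(.node 9179217 306
(.node 9009241 726
(.node 9009227 298 (.node 9009225 227 (.node 9009219 1492 .tip .tip) .tip) (.node 9009235 153 (.node 9009233 183 .tip .tip) .tip))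
(.node 9179203 78 (.node 9179201 1210 (.node 9009243 193 .tip .tip) .tip) (.node 9179211 1387 (.node 9179209 434 .tip .tip) .tip)))
(.node 9181257 1244
(.node 9179227 701 (.node 9179225 59 (.node 9179219 360 .tip .tip) .tip) (.node 9181251 376 (.node 9181249 106 .tip .tip) .tip))
(.node 9181267 336 (.node 9181265 1433 (.node 9181259 1394 .tip .tip) .tip) (.node 9181275 626 (.node 9181273 594 .tip .tip) .tip)))))
(.node 9197633 1334
(.node 9189457 640
(.node 9187417 513
(.node 9187403 1350 (.node 9187401 1293 (.node 9187395 561 .tip .tip) .tip) (.node 9187411 634 (.node 9187409 653 .tip .tip) .tip))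
(.node 9189443 544 (.node 9189441 685 (.node 9187419 527 .tip .tip) .tip) (.node 9189451 1322 (.node 9189449 322 .tip .tip) .tip)))
(.node 9195593 1265
(.node 9189467 92 (.node 9189465 507 (.node 9189459 650 .tip .tip) .tip) (.node 9195587 327 (.node 9195585 628 .tip .tip) .tip))
(.node 9195603 504 (.node 9195601 97 (.node 9195595 1423 .tip .tip) .tip) (.node 9195611 425 (.node 9195609 1230 .tip .tip) .tip))))
(.node 9203793 1253
(.node 9197657 480
(.node 9197643 355 (.node 9197641 1289 (.node 9197635 1414 .tip .tip) .tip) (.node 9197651 402 (.node 9197649 483 .tip .tip) .tip))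
(.node 9203779 1247 (.node 9203777 684 (.node 9197659 73 .tip .tip) .tip) (.node 9203787 566 (.node 9203785 380 .tip .tip) .tip)))
(.node 9205833 388
(.node 9203803 395 (.node 9203801 1373 (.node 9203795 598 .tip .tip) .tip) (.node 9205827 460 (.node 9205825 1484 .tip .tip) .tip))
(.node 9205843 1360 (.node 9205841 705 (.node 9205835 673 .tip .tip) .tip) (.node 9205851 611 (.node 9205849 454 .tip .tip) .tip)))))))
(.node 11030593 254
(.node 9269313 417
(.node 9254977 1416
(.node 9246801 563
(.node 9244761 1248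
(.node 9244747 89 (.node 9244745 1407 (.node 9244739 1300 .tip .tip) .tip) (.node 9244755 384 (.node 9244753 670 .tip .tip) .tip))
(.node 9246787 305 (.node 9246785 1267 (.node 9244763 368 .tip .tip) .tip) (.node 9246795 58 (.node 9246793 1315 .tip .tip) .tip)))
(.node 9252937 679
(.node 9246811 687 (.node 9246809 342 (.node 9246803 622 .tip .tip) .tip) (.node 9252931 639 (.node 9252929 1441 .tip .tip) .tip))
(.node 9252947 545 (.node 9252945 1281 (.node 9252939 7 .tip .tip) .tip) (.node 9252955 45 (.node 9252953 1321 .tip .tip) .tip))))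
(.node 9261137 1335
(.node 9255001 1294
(.node 9254987 658 (.node 9254985 514 (.node 9254979 635 .tip .tip) .tip) (.node 9254995 580 (.node 9254993 1276 .tip .tip) .tip))
(.node 9261123 403 (.node 9261121 484 (.node 9255003 1310 .tip .tip) .tip) (.node 9261131 74 (.node 9261129 646 .tip .tip) .tip)))
(.node 9263177 424
(.node 9261147 356 (.node 9261145 517 (.node 9261139 1408 .tip .tip) .tip) (.node 9263171 96 (.node 9263169 468 .tip .tip) .tip))
(.node 9263187 1345 (.node 9263185 326 (.node 9263179 1459 .tip .tip) .tip) (.node 9263195 1264 (.node 9263193 1420 .tip .tip) .tip)))))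
(.node 11016257 889
(.node 9271377 1246
(.node 9269337 389
(.node 9269323 453 (.node 9269321 1303 (.node 9269315 704 .tip .tip) .tip) (.node 9269331 1250 (.node 9269329 556 .tip .tip) .tip))
(.node 9271363 1217 (.node 9271361 597 (.node 9269339 674 .tip .tip) .tip) (.node 9271371 446 (.node 9271369 1384 .tip .tip) .tip)))
(.node 11014217 1070
(.node 9271387 379 (.node 9271385 1327 (.node 9271379 683 .tip .tip) .tip) (.node 11014211 774 (.node 11014209 237 .tip .tip) .tip))
(.node 11014227 936 (.node 11014225 278 (.node 11014219 1168 .tip .tip) .tip) (.node 11014235 1140 (.node 11014233 997 .tip .tip) .tip))))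
(.node 11022417 116
(.node 11016281 297
(.node 11016267 794 (.node 11016265 216 (.node 11016259 1061 .tip .tip) .tip) (.node 11016275 1043 (.node 11016273 1199 .tip .tip) .tip))
(.node 11022403 165 (.node 11022401 1163 (.node 11016283 1527 .tip .tip) .tip) (.node 11022411 708 (.node 11022409 1134 .tip .tip) .tip)))
(.node 11024457 843
(.node 11022427 955 (.node 11022425 21 (.node 11022419 1155 .tip .tip) .tip) (.node 11024451 1129 (.node 11024449 1206 .tip .tip) .tip))
(.node 11024467 155 (.node 11024465 1053 (.node 11024459 1170 .tip .tip) .tip) (.node 11024475 946 (.node 11024473 744 .tip .tip) .tip))))))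
(.node 11087937 738
(.node 11040833 852
(.node 11032657 1031
(.node 11030617 37
(.node 11030603 126 (.node 11030601 1105 (.node 11030595 1143 .tip .tip) .tip) (.node 11030611 751 (.node 11030609 1188 .tip .tip) .tip))
(.node 11032643 985 (.node 11032641 1146 (.node 11030619 1122 .tip .tip) .tip) (.node 11032651 1097 (.node 11032649 233 .tip .tip) .tip)))
(.node 11038793 783
(.node 11032667 1158 (.node 11032665 832 (.node 11032659 1508 .tip .tip) .tip) (.node 11038787 966 (.node 11038785 848 .tip .tip) .tip))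
(.node 11038803 720 (.node 11038801 747 (.node 11038795 259 .tip .tip) .tip) (.node 11038811 160 (.node 11038809 756 .tip .tip) .tip))))
(.node 11079761 993
(.node 11040857 1
(.node 11040843 203 (.node 11040841 828 (.node 11040835 901 .tip .tip) .tip) (.node 11040851 742 (.node 11040849 729 .tip .tip) .tip))
(.node 11079747 825 (.node 11079745 296 (.node 11040859 816 .tip .tip) .tip) (.node 11079755 1102 (.node 11079753 1044 .tip .tip) .tip)))
(.node 11081801 834
(.node 11079771 1090 (.node 11079769 927 (.node 11079763 217 .tip .tip) .tip) (.node 11081795 1015 (.node 11081793 1032 .tip .tip) .tip))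
(.node 11081811 1184 (.node 11081809 1069 (.node 11081803 279 .tip .tip) .tip) (.node 11081819 1086 (.node 11081817 236 .tip .tip) .tip)))))
(.node 11098177 1198
(.node 11090001 709
(.node 11087961 1205
(.node 11087947 147 (.node 11087945 1052 (.node 11087939 909 .tip .tip) .tip) (.node 11087955 849 (.node 11087953 1176 .tip .tip) .tip))
(.node 11089987 919 (.node 11089985 20 (.node 11087963 1128 .tip .tip) .tip) (.node 11089995 1055 (.node 11089993 115 .tip .tip) .tip)))
(.node 11096137 190
(.node 11090011 1066 (.node 11090009 166 (.node 11090003 1079 .tip .tip) .tip) (.node 11096131 132 (.node 11096129 875 .tip .tip) .tip))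
(.node 11096147 25 (.node 11096145 1157 (.node 11096139 1191 .tip .tip) .tip) (.node 11096155 1519 (.node 11096153 806 .tip .tip) .tip))))
(.node 11104337 1505
(.node 11098201 1144
(.node 11098187 1189 (.node 11098185 857 (.node 11098179 275 .tip .tip) .tip) (.node 11098195 976 (.node 11098193 771 .tip .tip) .tip))
(.node 11104323 151 (.node 11104321 185 (.node 11098203 1493 .tip .tip) .tip) (.node 11104331 870 (.node 11104329 728 .tip .tip) .tip)))
(.node 11106377 721
(.node 11104347 853 (.node 11104345 1024 (.node 11104339 202 .tip .tip) .tip) (.node 11106371 159 (.node 11106369 179 .tip .tip) .tip))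
(.node 11106387 230 (.node 11106385 260 (.node 11106379 917 .tip .tip) .tip) (.node 11106395 939 (.node 11106393 847 .tip .tip) .tip))))))))
(.node 17109057 491
(.node 11358273 429
(.node 11300929 450
(.node 11286593 516
(.node 11278417 50
(.node 11276377 1340
(.node 11276363 1432 (.node 11276361 439 (.node 11276355 362 .tip .tip) .tip) (.node 11276371 80 (.node 11276369 1388 .tip .tip) .tip))
(.node 11278403 370 (.node 11278401 334 (.node 11276379 1325 .tip .tip) .tip) (.node 11278411 1412 (.node 11278409 607 .tip .tip) .tip)))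
(.node 11284553 535
(.node 11278427 315 (.node 11278425 1369 (.node 11278419 104 .tip .tip) .tip) (.node 11284547 508 (.node 11284545 531 .tip .tip) .tip))
(.node 11284563 612 (.node 11284561 559 (.node 11284555 651 .tip .tip) .tip) (.node 11284571 1279 (.node 11284569 1288 .tip .tip) .tip))))
(.node 11292753 353
(.node 11286617 348
(.node 11286603 589 (.node 11286601 66 (.node 11286595 525 .tip .tip) .tip) (.node 11286611 575 (.node 11286609 604 .tip .tip) .tip))
(.node 11292739 1342 (.node 11292737 71 (.node 11286619 1275 .tip .tip) .tip) (.node 11292747 1436 (.node 11292745 486 .tip .tip) .tip)))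
(.node 11294793 528
(.node 11292763 407 (.node 11292761 1237 (.node 11292755 499 .tip .tip) .tip) (.node 11294787 617 (.node 11294785 1417 .tip .tip) .tip))
(.node 11294803 1228 (.node 11294801 430 (.node 11294795 99 .tip .tip) .tip) (.node 11294811 464 (.node 11294809 329 .tip .tip) .tip)))))
(.node 11343937 550
(.node 11302993 457
(.node 11300953 1331
(.node 11300939 398 (.node 11300937 1221 (.node 11300931 1372 .tip .tip) .tip) (.node 11300947 676 (.node 11300945 392 .tip .tip) .tip))
(.node 11302979 1364 (.node 11302977 444 (.node 11300955 553 .tip .tip) .tip) (.node 11302987 1307 (.node 11302985 600 .tip .tip) .tip)))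
(.node 11341897 578
(.node 11303003 1383 (.node 11303001 680 (.node 11302995 382 .tip .tip) .tip) (.node 11341891 490 (.node 11341889 49 .tip .tip) .tip))
(.node 11341907 1338 (.node 11341905 371 (.node 11341899 314 .tip .tip) .tip) (.node 11341915 86 (.node 11341913 1365 .tip .tip) .tip))))
(.node 11350097 515
(.node 11343961 112
(.node 11343947 345 (.node 11343945 1440 (.node 11343939 1389 .tip .tip) .tip) (.node 11343955 1218 (.node 11343953 1359 .tip .tip) .tip))
(.node 11350083 1396 (.node 11350081 665 (.node 11343963 447 .tip .tip) .tip) (.node 11350091 42 (.node 11350089 1363 .tip .tip) .tip)))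
(.node 11352137 1280
(.node 11350107 588 (.node 11350105 10 (.node 11350099 1298 .tip .tip) .tip) (.node 11352131 1447 (.node 11352129 689 .tip .tip) .tip))
(.node 11352147 1317 (.node 11352145 509 (.node 11352139 1354 .tip .tip) .tip) (.node 11352155 536 (.node 11352153 571 .tip .tip) .tip))))))
(.node 17051713 364
(.node 11368513 391
(.node 11360337 70
(.node 11358297 100
(.node 11358283 330 (.node 11358281 465 (.node 11358275 1263 .tip .tip) .tip) (.node 11358291 1468 (.node 11358289 618 .tip .tip) .tip))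
(.node 11360323 1256 (.node 11360321 352 (.node 11358299 1282 .tip .tip) .tip) (.node 11360331 1463 (.node 11360329 408 .tip .tip) .tip)))
(.node 11366473 1375
(.node 11360347 1445 (.node 11360345 485 (.node 11360339 636 .tip .tip) .tip) (.node 11366467 568 (.node 11366465 383 .tip .tip) .tip))
(.node 11366483 420 (.node 11366481 443 (.node 11366475 681 .tip .tip) .tip) (.node 11366491 601 (.node 11366489 1215 .tip .tip) .tip))))
(.node 17043537 361
(.node 11368537 706
(.node 11368523 472 (.node 11368521 554 (.node 11368515 675 .tip .tip) .tip) (.node 11368531 451 (.node 11368529 610 .tip .tip) .tip))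
(.node 17043523 448 (.node 17043521 0 (.node 11368539 1222 .tip .tip) .tip) (.node 17043531 432 (.node 17043529 466 .tip .tip) .tip)))
(.node 17045577 409
(.node 17043547 496 (.node 17043545 551 (.node 17043539 347 .tip .tip) .tip) (.node 17045571 88 (.node 17045569 377 .tip .tip) .tip))
(.node 17045587 367 (.node 17045585 337 (.node 17045579 477 .tip .tip) .tip) (.node 17045595 492 (.node 17045593 627 .tip .tip) .tip)))))
(.node 17061953 470
(.node 17053777 1314
(.node 17051737 1336
(.node 17051723 1467 (.node 17051721 487 (.node 17051715 606 .tip .tip) .tip) (.node 17051731 1304 (.node 17051729 83 .tip .tip) .tip))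
(.node 17053763 616 (.node 17053761 12 (.node 17051739 1391 .tip .tip) .tip) (.node 17053771 323 (.node 17053769 1451 .tip .tip) .tip)))
(.node 17059913 1424
(.node 17053787 1397 (.node 17053785 93 (.node 17053779 44 .tip .tip) .tip) (.node 17059907 1456 (.node 17059905 319 .tip .tip) .tip))
(.node 17059923 1465 (.node 17059921 372 (.node 17059915 54 .tip .tip) .tip) (.node 17059931 1240 (.node 17059929 1278 .tip .tip) .tip))))
(.node 17068113 591
(.node 17061977 652
(.node 17061963 1290 (.node 17061961 1233 (.node 17061955 1455 .tip .tip) .tip) (.node 17061971 1464 (.node 17061969 1349 .tip .tip) .tip))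
(.node 17068099 1490 (.node 17068097 666 (.node 17061979 1443 .tip .tip) .tip) (.node 17068107 1405 (.node 17068105 1444 .tip .tip) .tip)))
(.node 17070153 1226
(.node 17068123 1235 (.node 17068121 396 (.node 17068115 474 .tip .tip) .tip) (.node 17070147 1453 (.node 17070145 461 .tip .tip) .tip))
(.node 17070163 1402 (.node 17070161 1377 (.node 17070155 422 .tip .tip) .tip) (.node 17070171 537 (.node 17070169 1318 .tip .tip) .tip)))))))
(.node 17584193 737
(.node 17133633 582
(.node 17119297 1339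
(.node 17111121 1219
(.node 17109081 87
(.node 17109067 572 (.node 17109065 338 (.node 17109059 595 .tip .tip) .tip) (.node 17109075 1245 (.node 17109073 1232 .tip .tip) .tip))
(.node 17111107 497 (.node 17111105 702 (.node 17109083 107 .tip .tip) .tip) (.node 17111115 518 (.node 17111113 346 .tip .tip) .tip)))
(.node 17117257 43
(.node 17111131 113 (.node 17111129 79 (.node 17111123 1330 .tip .tip) .tip) (.node 17117251 1449 (.node 17117249 94 .tip .tip) .tip))
(.node 17117267 324 (.node 17117265 1385 (.node 17117259 1328 .tip .tip) .tip) (.node 17117275 11 (.node 17117273 574 .tip .tip) .tip))))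
(.node 17125457 307
(.node 17119321 562
(.node 17119307 75 (.node 17119305 1332 (.node 17119299 1475 .tip .tip) .tip) (.node 17119315 1426 (.node 17119313 493 .tip .tip) .tip))
(.node 17125443 1409 (.node 17125441 437 (.node 17119323 357 .tip .tip) .tip) (.node 17125451 1348 (.node 17125449 1213 .tip .tip) .tip)))
(.node 17127497 505
(.node 17125467 523 (.node 17125465 60 (.node 17125459 1291 .tip .tip) .tip) (.node 17127491 1277 (.node 17127489 1410 .tip .tip) .tip))
(.node 17127507 393 (.node 17127505 637 (.node 17127499 1378 .tip .tip) .tip) (.node 17127515 1418 (.node 17127513 1251 .tip .tip) .tip)))))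
(.node 17569857 758
(.node 17135697 1473
(.node 17133657 462
(.node 17133643 1376 (.node 17133641 1401 (.node 17133635 1429 .tip .tip) .tip) (.node 17133651 662 (.node 17133649 421 .tip .tip) .tip))
(.node 17135683 1486 (.node 17135681 397 (.node 17133659 1260 .tip .tip) .tip) (.node 17135691 547 (.node 17135689 473 .tip .tip) .tip)))
(.node 17567817 1073
(.node 17135707 1357 (.node 17135705 693 (.node 17135699 1406 .tip .tip) .tip) (.node 17567811 767 (.node 17567809 1003 .tip .tip) .tip))
(.node 17567827 905 (.node 17567825 271 (.node 17567819 293 .tip .tip) .tip) (.node 17567835 208 (.node 17567833 791 .tip .tip) .tip))))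
(.node 17576017 925
(.node 17569881 941
(.node 17569867 814 (.node 17569865 1033 (.node 17569859 1182 .tip .tip) .tip) (.node 17569875 262 (.node 17569873 238 .tip .tip) .tip))
(.node 17576003 1196 (.node 17576001 1054 (.node 17569883 200 .tip .tip) .tip) (.node 17576011 990 (.node 17576009 866 .tip .tip) .tip)))
(.node 17578057 1007
(.node 17576027 974 (.node 17576025 1169 (.node 17576019 1130 .tip .tip) .tip) (.node 17578051 1175 (.node 17578049 117 .tip .tip) .tip))
(.node 17578067 1195 (.node 17578065 897 (.node 17578059 16 .tip .tip) .tip) (.node 17578075 978 (.node 17578073 1076 .tip .tip) .tip))))))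
(.node 17641537 164
(.node 17594433 748
(.node 17586257 1148
(.node 17584217 840
(.node 17584203 146 (.node 17584201 285 (.node 17584195 869 .tip .tip) .tip) (.node 17584211 1109 (.node 17584209 1518 .tip .tip) .tip))
(.node 17586243 1167 (.node 17586241 1120 (.node 17584219 248 .tip .tip) .tip) (.node 17586251 1200 (.node 17586249 226 .tip .tip) .tip)))
(.node 17592393 1136
(.node 17586267 168 (.node 17586265 830 (.node 17586259 711 .tip .tip) .tip) (.node 17592387 725 (.node 17592385 1012 .tip .tip) .tip))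
(.node 17592403 187 (.node 17592401 961 (.node 17592395 130 .tip .tip) .tip) (.node 17592411 23 (.node 17592409 1085 .tip .tip) .tip))))
(.node 17633361 199
(.node 17594457 1065
(.node 17594443 161 (.node 17594441 1161 (.node 17594435 266 .tip .tip) .tip) (.node 17594451 1001 (.node 17594449 763 .tip .tip) .tip))
(.node 17633347 1050 (.node 17633345 773 (.node 17594459 1089 .tip .tip) .tip) (.node 17633355 911 (.node 17633353 759 .tip .tip) .tip)))
(.node 17635401 766
(.node 17633371 263 (.node 17633369 1009 (.node 17633363 277 .tip .tip) .tip) (.node 17635395 820 (.node 17635393 950 .tip .tip) .tip))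
(.node 17635411 209 (.node 17635409 1042 (.node 17635403 215 .tip .tip) .tip) (.node 17635419 270 (.node 17635417 1029 .tip .tip) .tip)))))
(.node 17651777 145
(.node 17643601 973
(.node 17641561 1010
(.node 17641547 1111 (.node 17641545 707 (.node 17641539 859 .tip .tip) .tip) (.node 17641555 979 (.node 17641553 983 .tip .tip) .tip))
(.node 17643587 865 (.node 17643585 879 (.node 17641563 896 .tip .tip) .tip) (.node 17643595 1075 (.node 17643593 1115 .tip .tip) .tip)))
(.node 17649737 1100
(.node 17643611 908 (.node 17643609 926 (.node 17643603 986 .tip .tip) .tip) (.node 17649731 225 (.node 17649729 796 .tip .tip) .tip))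
(.node 17649747 169 (.node 17649745 856 (.node 17649739 1149 .tip .tip) .tip) (.node 17649755 712 (.node 17649753 967 .tip .tip) .tip))))
(.node 17657937 719
(.node 17651801 1159
(.node 17651787 736 (.node 17651785 1192 (.node 17651779 284 .tip .tip) .tip) (.node 17651795 249 (.node 17651793 778 .tip .tip) .tip))
(.node 17657923 938 (.node 17657921 965 (.node 17651803 1114 .tip .tip) .tip) (.node 17657931 1141 (.node 17657929 258 .tip .tip) .tip)))
(.node 17659977 803
(.node 17657947 755 (.node 17657945 178 (.node 17657939 1064 .tip .tip) .tip) (.node 17659971 131 (.node 17659969 1023 .tip .tip) .tip))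
(.node 17659987 24 (.node 17659985 741 (.node 17659979 1104 .tip .tip) .tip) (.node 17659995 150 (.node 17659993 186 .tip .tip) .tip)))))))))
(.node 25694273 644
(.node 19730497 274
(.node 19222593 1421
(.node 19165249 1403
(.node 19150913 1425
(.node 19142737 412
(.node 19140697 369
(.node 19140683 1283 (.node 19140681 90 (.node 19140675 1370 .tip .tip) .tip) (.node 19140691 608 (.node 19140689 385 .tip .tip) .tip))
(.node 19142723 1268 (.node 19142721 1326 (.node 19140699 335 .tip .tip) .tip) (.node 19142731 1311 (.node 19142729 82 .tip .tip) .tip)))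
(.node 19148873 8
(.node 19142747 343 (.node 19142745 363 (.node 19142739 441 .tip .tip) .tip) (.node 19148867 350 (.node 19148865 1390 .tip .tip) .tip))
(.node 19148883 68 (.node 19148881 1398 (.node 19148875 605 .tip .tip) .tip) (.node 19148891 1313 (.node 19148889 46 .tip .tip) .tip))))
(.node 19157073 51
(.node 19150937 101
(.node 19150923 331 (.node 19150921 613 (.node 19150915 623 .tip .tip) .tip) (.node 19150931 1450 (.node 19150929 1270 .tip .tip) .tip))
(.node 19157059 1242 (.node 19157057 1482 (.node 19150939 1305 .tip .tip) .tip) (.node 19157067 647 (.node 19157065 374 .tip .tip) .tip)))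
(.node 19159113 1274
(.node 19157083 316 (.node 19157081 1286 (.node 19157075 530 .tip .tip) .tip) (.node 19159107 1434 (.node 19159105 510 .tip .tip) .tip))
(.node 19159123 1223 (.node 19159121 1346 (.node 19159115 1458 .tip .tip) .tip) (.node 19159131 455 (.node 19159129 1461 .tip .tip) .tip)))))
(.node 19208257 656
(.node 19167313 400
(.node 19165273 668
(.node 19165259 459 (.node 19165257 1259 (.node 19165251 418 .tip .tip) .tip) (.node 19165267 1392 (.node 19165265 1454 .tip .tip) .tip))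
(.node 19167299 540 (.node 19167297 1404 (.node 19165275 1366 .tip .tip) .tip) (.node 19167307 1411 (.node 19167305 1381 .tip .tip) .tip)))
(.node 19206217 564
(.node 19167323 1254 (.node 19167321 475 (.node 19167315 1355 .tip .tip) .tip) (.node 19206211 688 (.node 19206209 344 .tip .tip) .tip))
(.node 19206227 111 (.node 19206225 81 (.node 19206219 440 .tip .tip) .tip) (.node 19206235 1341 (.node 19206233 1269 .tip .tip) .tip))))
(.node 19214417 339
(.node 19208281 1271
(.node 19208267 386 (.node 19208265 671 (.node 19208259 4 .tip .tip) .tip) (.node 19208275 91 (.node 19208273 105 .tip .tip) .tip))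
(.node 19214403 108 (.node 19214401 1329 (.node 19208283 1301 .tip .tip) .tip) (.node 19214411 1448 (.node 19214409 1266 .tip .tip) .tip)))
(.node 19216457 1427
(.node 19214427 619 (.node 19214425 1466 (.node 19214419 560 .tip .tip) .tip) (.node 19216451 47 (.node 19216449 1333 .tip .tip) .tip))
(.node 19216467 9 (.node 19216465 576 (.node 19216459 67 .tip .tip) .tip) (.node 19216475 349 (.node 19216473 1442 .tip .tip) .tip))))))
(.node 19673153 888
(.node 19232833 1431
(.node 19224657 648
(.node 19222617 435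
(.node 19222603 310 (.node 19222601 1413 (.node 19222595 63 .tip .tip) .tip) (.node 19222611 1457 (.node 19222609 1211 .tip .tip) .tip))
(.node 19224643 1257 (.node 19224641 1438 (.node 19222619 511 .tip .tip) .tip) (.node 19224651 529 (.node 19224649 415 .tip .tip) .tip)))
(.node 19230793 399
(.node 19224667 1351 (.node 19224665 1435 (.node 19224659 1374 .tip .tip) .tip) (.node 19230787 476 (.node 19230785 1489 .tip .tip) .tip))
(.node 19230803 1462 (.node 19230801 1380 (.node 19230795 659 .tip .tip) .tip) (.node 19230811 585 (.node 19230809 1295 .tip .tip) .tip))))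
(.node 19664977 793
(.node 19232857 419
(.node 19232843 1446 (.node 19232841 1393 (.node 19232835 696 .tip .tip) .tip) (.node 19232851 458 (.node 19232849 1323 .tip .tip) .tip))
(.node 19664963 196 (.node 19664961 943 (.node 19232859 1225 .tip .tip) .tip) (.node 19664971 265 (.node 19664969 1058 .tip .tip) .tip)))
(.node 19667017 903
(.node 19664987 913 (.node 19664985 762 (.node 19664979 811 .tip .tip) .tip) (.node 19667011 1025 (.node 19667009 206 .tip .tip) .tip))
(.node 19667027 949 (.node 19667025 818 (.node 19667019 273 .tip .tip) .tip) (.node 19667035 235 (.node 19667033 769 .tip .tip) .tip)))))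
(.node 19683393 1121
(.node 19675217 1078
(.node 19673177 1013
(.node 19673163 1051 (.node 19673161 1152 (.node 19673155 916 .tip .tip) .tip) (.node 19673171 861 (.node 19673169 1124 .tip .tip) .tip))
(.node 19675203 19 (.node 19675201 933 (.node 19673179 1113 .tip .tip) .tip) (.node 19675211 114 (.node 19675209 1154 .tip .tip) .tip)))
(.node 19681353 827
(.node 19675227 1162 (.node 19675225 996 (.node 19675219 867 .tip .tip) .tip) (.node 19681347 172 (.node 19681345 1193 .tip .tip) .tip))
(.node 19681363 957 (.node 19681361 1096 (.node 19681355 301 .tip .tip) .tip) (.node 19681371 1145 (.node 19681369 220 .tip .tip) .tip))))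
(.node 19689553 201
(.node 19683417 734
(.node 19683403 1190 (.node 19683401 242 (.node 19683395 841 .tip .tip) .tip) (.node 19683411 142 (.node 19683409 975 .tip .tip) .tip))
(.node 19689539 184 (.node 19689537 815 (.node 19683419 289 .tip .tip) .tip) (.node 19689547 727 (.node 19689545 1093 .tip .tip) .tip)))
(.node 19691593 923
(.node 19689563 1026 (.node 19689561 900 (.node 19689555 1201 .tip .tip) .tip) (.node 19691587 1063 (.node 19691585 158 .tip .tip) .tip))
(.node 19691603 750 (.node 19691601 1506 (.node 19691595 32 .tip .tip) .tip) (.node 19691611 846 (.node 19691609 121 .tip .tip) .tip)))))))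
(.node 25448513 772
(.node 19755073 33
(.node 19740737 1151
(.node 19732561 761
(.node 19730521 280
(.node 19730507 775 (.node 19730505 205 (.node 19730499 1028 .tip .tip) .tip) (.node 19730515 770 (.node 19730513 1004 .tip .tip) .tip))
(.node 19732547 212 (.node 19732545 1030 (.node 19730523 1513 .tip .tip) .tip) (.node 19732555 1173 (.node 19732553 197 .tip .tip) .tip)))
(.node 19738697 138
(.node 19732571 1510 (.node 19732569 812 (.node 19732563 823 .tip .tip) .tip) (.node 19738691 730 (.node 19738689 1171 .tip .tip) .tip))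
(.node 19738707 944 (.node 19738705 920 (.node 19738699 934 .tip .tip) .tip) (.node 19738715 877 (.node 19738713 868 .tip .tip) .tip))))
(.node 19746897 855
(.node 19740761 883
(.node 19740747 984 (.node 19740745 887 (.node 19740739 1074 .tip .tip) .tip) (.node 19740755 906 (.node 19740753 951 .tip .tip) .tip))
(.node 19746883 243 (.node 19746881 782 (.node 19740763 860 .tip .tip) .tip) (.node 19746891 1125 (.node 19746889 842 .tip .tip) .tip)))
(.node 19748937 880
(.node 19746907 1036 (.node 19746905 143 (.node 19746899 288 .tip .tip) .tip) (.node 19748931 714 (.node 19748929 302 .tip .tip) .tip))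
(.node 19748947 800 (.node 19748945 219 (.node 19748939 171 .tip .tip) .tip) (.node 19748955 956 (.node 19748953 1108 .tip .tip) .tip)))))
(.node 25434177 995
(.node 19757137 152
(.node 19755097 718
(.node 19755083 1062 (.node 19755081 253 (.node 19755075 1147 .tip .tip) .tip) (.node 19755091 122 (.node 19755089 176 .tip .tip) .tip))
(.node 19757123 1094 (.node 19757121 1133 (.node 19755099 749 .tip .tip) .tip) (.node 19757131 1071 (.node 19757129 808 .tip .tip) .tip)))
(.node 25432137 819
(.node 19757147 743 (.node 19757145 192 (.node 19757139 1142 .tip .tip) .tip) (.node 25432131 1511 (.node 25432129 1000 .tip .tip) .tip))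
(.node 25432147 1017 (.node 25432145 904 (.node 25432139 1072 .tip .tip) .tip) (.node 25432155 899 (.node 25432153 207 .tip .tip) .tip))))
(.node 25440337 988
(.node 25434201 893
(.node 25434187 1535 (.node 25434185 929 (.node 25434179 757 .tip .tip) .tip) (.node 25434195 1008 (.node 25434193 261 .tip .tip) .tip))
(.node 25440323 1081 (.node 25440321 174 (.node 25434203 940 .tip .tip) .tip) (.node 25440331 878 (.node 25440329 716 .tip .tip) .tip)))
(.node 25442377 858
(.node 25440347 1520 (.node 25440345 963 (.node 25440339 924 .tip .tip) .tip) (.node 25442371 851 (.node 25442369 1178 .tip .tip) .tip))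
(.node 25442387 1150 (.node 25442385 740 (.node 25442379 884 .tip .tip) .tip) (.node 25442395 149 (.node 25442393 977 .tip .tip) .tip))))))
(.node 25505857 1060
(.node 25458753 222
(.node 25450577 710
(.node 25448537 247
(.node 25448523 754 (.node 25448521 837 (.node 25448515 35 .tip .tip) .tip) (.node 25448531 276 (.node 25448529 124 .tip .tip) .tip))
(.node 25450563 27 (.node 25450561 1119 (.node 25448539 1514 .tip .tip) .tip) (.node 25450571 795 (.node 25450569 807 .tip .tip) .tip)))
(.node 25456713 129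
(.node 25450587 1524 (.node 25450585 167 (.node 25450579 134 .tip .tip) .tip) (.node 25456707 232 (.node 25456705 245 .tip .tip) .tip))
(.node 25456723 831 (.node 25456721 787 (.node 25456715 1507 .tip .tip) .tip) (.node 25456731 918 (.node 25456729 22 .tip .tip) .tip))))
(.node 25497681 810
(.node 25458777 1160
(.node 25458763 1515 (.node 25458761 1495 (.node 25458755 250 .tip .tip) .tip) (.node 25458771 838 (.node 25458769 780 .tip .tip) .tip))
(.node 25497667 1107 (.node 25497665 195 (.node 25458779 872 .tip .tip) .tip) (.node 25497675 1534 (.node 25497673 894 .tip .tip) .tip)))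
(.node 25499721 272
(.node 25497691 928 (.node 25497689 912 (.node 25497683 994 .tip .tip) .tip) (.node 25499715 1509 (.node 25499713 1016 .tip .tip) .tip))
(.node 25499731 1512 (.node 25499729 948 (.node 25499723 1516 .tip .tip) .tip) (.node 25499739 768 (.node 25499737 935 .tip .tip) .tip)))))
(.node 25516097 125
(.node 25507921 175
(.node 25505881 1112
(.node 25505867 1088 (.node 25505865 148 (.node 25505859 739 .tip .tip) .tip) (.node 25505875 1177 (.node 25505873 850 .tip .tip) .tip))
(.node 25507907 932 (.node 25507905 971 (.node 25505883 885 .tip .tip) .tip) (.node 25507915 1153 (.node 25507913 964 .tip .tip) .tip)))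
(.node 25514057 300
(.node 25507931 1197 (.node 25507929 717 (.node 25507923 1082 .tip .tip) .tip) (.node 25514051 211 (.node 25514049 133 .tip .tip) .tip))
(.node 25514067 822 (.node 25514065 26 (.node 25514059 191 .tip .tip) .tip) (.node 25514075 799 (.node 25514073 1040 .tip .tip) .tip))))
(.node 25522257 223
(.node 25516121 1139
(.node 25516107 241 (.node 25516105 257 (.node 25516099 1521 .tip .tip) .tip) (.node 25516115 36 (.node 25516113 141 .tip .tip) .tip))
(.node 25522243 779 (.node 25522241 801 (.node 25516123 733 .tip .tip) .tip) (.node 25522251 1047 (.node 25522249 871 .tip .tip) .tip)))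
(.node 25524297 31
(.node 25522267 1526 (.node 25522265 1496 (.node 25522259 303 .tip .tip) .tip) (.node 25524291 797 (.node 25524289 788 .tip .tip) .tip))
(.node 25524307 290 (.node 25524305 231 (.node 25524299 970 .tip .tip) .tip) (.node 25524315 120 (.node 25524313 1503 .tip .tip) .tip))))))))
(.node 27594817 898
(.node 25776193 64
(.node 25718849 1472
(.node 25704513 543
(.node 25696337 569
(.node 25694297 522
(.node 25694283 6 (.node 25694281 433 (.node 25694275 40 .tip .tip) .tip) (.node 25694291 614 (.node 25694289 677 .tip .tip) .tip))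
(.node 25696323 500 (.node 25696321 1231 (.node 25694299 1362 .tip .tip) .tip) (.node 25696331 410 (.node 25696329 427 .tip .tip) .tip)))
(.node 25702473 1476
(.node 25696347 1309 (.node 25696345 630 (.node 25696339 699 .tip .tip) .tip) (.node 25702467 365 (.node 25702465 1422 .tip .tip) .tip))
(.node 25702483 84 (.node 25702481 633 (.node 25702475 488 .tip .tip) .tip) (.node 25702491 512 (.node 25702489 657 .tip .tip) .tip))))
(.node 25710673 1273
(.node 25704537 341
(.node 25704523 110 (.node 25704521 1352 (.node 25704515 686 .tip .tip) .tip) (.node 25704531 621 (.node 25704529 649 .tip .tip) .tip))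
(.node 25710659 320 (.node 25710657 416 (.node 25704539 1471 .tip .tip) .tip) (.node 25710667 1258 (.node 25710665 55 .tip .tip) .tip)))
(.node 25712713 354
(.node 25710683 1229 (.node 25710681 1241 (.node 25710675 373 .tip .tip) .tip) (.node 25712707 312 (.node 25712705 1488 .tip .tip) .tip))
(.node 25712723 482 (.node 25712721 401 (.node 25712715 65 .tip .tip) .tip) (.node 25712731 1255 (.node 25712729 72 .tip .tip) .tip)))))
(.node 25761857 5
(.node 25720913 1297
(.node 25718873 445
(.node 25718859 698 (.node 25718857 565 (.node 25718851 667 .tip .tip) .tip) (.node 25718867 592 (.node 25718865 1216 .tip .tip) .tip))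
(.node 25720899 661 (.node 25720897 1249 (.node 25718875 546 .tip .tip) .tip) (.node 25720907 387 (.node 25720905 672 .tip .tip) .tip)))
(.node 25759817 1238
(.node 25720923 1302 (.node 25720921 538 (.node 25720915 586 .tip .tip) .tip) (.node 25759811 411 (.node 25759809 478 .tip .tip) .tip))
(.node 25759827 629 (.node 25759825 1308 (.node 25759819 501 .tip .tip) .tip) (.node 25759835 700 (.node 25759833 570 .tip .tip) .tip))))
(.node 25768017 1344
(.node 25761881 678
(.node 25761867 41 (.node 25761865 645 (.node 25761859 467 .tip .tip) .tip) (.node 25761875 521 (.node 25761873 1361 .tip .tip) .tip))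
(.node 25768003 1452 (.node 25768001 109 (.node 25761883 615 .tip .tip) .tip) (.node 25768011 534 (.node 25768009 1469 .tip .tip) .tip)))
(.node 25770057 654
(.node 25768027 1353 (.node 25768025 620 (.node 25768019 340 .tip .tip) .tip) (.node 25770051 489 (.node 25770049 524 .tip .tip) .tip))
(.node 25770067 1337 (.node 25770065 577 (.node 25770059 366 .tip .tip) .tip) (.node 25770075 85 (.node 25770073 1460 .tip .tip) .tip))))))
(.node 27537473 157
(.node 25786433 697
(.node 25778257 1227
(.node 25776217 406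
(.node 25776203 471 (.node 25776201 311 (.node 25776195 1234 .tip .tip) .tip) (.node 25776211 1212 (.node 25776209 498 .tip .tip) .tip))
(.node 25778243 1428 (.node 25778241 56 (.node 25776219 436 .tip .tip) .tip) (.node 25778251 321 (.node 25778249 98 .tip .tip) .tip)))
(.node 25784393 660
(.node 25778267 328 (.node 25778265 463 (.node 25778259 1262 .tip .tip) .tip) (.node 25784387 449 (.node 25784385 692 .tip .tip) .tip))
(.node 25784403 1319 (.node 25784401 539 (.node 25784395 1220 .tip .tip) .tip) (.node 25784411 1296 (.node 25784409 552 .tip .tip) .tip))))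
(.node 27529297 1504
(.node 25786457 1299
(.node 25786443 599 (.node 25786441 1306 (.node 25786435 1470 .tip .tip) .tip) (.node 25786451 1324 (.node 25786449 381 .tip .tip) .tip))
(.node 27529283 902 (.node 27529281 1027 (.node 25786459 593 .tip .tip) .tip) (.node 27529291 204 (.node 27529289 991 .tip .tip) .tip)))
(.node 27531337 1501
(.node 27529307 817 (.node 27529305 1014 (.node 27529299 891 .tip .tip) .tip) (.node 27531331 1057 (.node 27531329 264 .tip .tip) .tip))
(.node 27531347 760 (.node 27531345 1095 (.node 27531339 942 .tip .tip) .tip) (.node 27531355 1531 (.node 27531353 1019 .tip .tip) .tip)))))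
(.node 27547713 713
(.node 27539537 723
(.node 27537497 876
(.node 27537483 746 (.node 27537481 987 (.node 27537475 1529 .tip .tip) .tip) (.node 27537491 922 (.node 27537489 1087 .tip .tip) .tip))
(.node 27539523 959 (.node 27539521 1068 (.node 27537499 845 .tip .tip) .tip) (.node 27539531 886 (.node 27539529 1530 .tip .tip) .tip)))
(.node 27545673 29
(.node 27539547 1123 (.node 27539545 181 (.node 27539539 1181 .tip .tip) .tip) (.node 27545667 781 (.node 27545665 805 .tip .tip) .tip))
(.node 27545683 854 (.node 27545681 189 (.node 27545675 833 .tip .tip) .tip) (.node 27545691 234 (.node 27545689 136 .tip .tip) .tip))))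
(.node 27553873 873
(.node 27547737 128
(.node 27547723 39 (.node 27547721 170 (.node 27547715 826 .tip .tip) .tip) (.node 27547731 218 (.node 27547729 1491 .tip .tip) .tip))
(.node 27553859 1006 (.node 27553857 954 (.node 27547739 1523 .tip .tip) .tip) (.node 27553867 3 (.node 27553865 252 .tip .tip) .tip)))
(.node 27555913 246
(.node 27553883 829 (.node 27553881 14 (.node 27553875 1103 .tip .tip) .tip) (.node 27555907 915 (.node 27555905 1022 .tip .tip) .tip))
(.node 27555923 1117 (.node 27555921 968 (.node 27555915 228 .tip .tip) .tip) (.node 27555931 785 (.node 27555929 836 .tip .tip) .tip)))))))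
(.node 27807809 1480
(.node 27619393 1038
(.node 27605057 864
(.node 27596881 931
(.node 27594841 1532
(.node 27594827 1020 (.node 27594825 910 (.node 27594819 813 .tip .tip) .tip) (.node 27594835 198 (.node 27594833 937 .tip .tip) .tip))
(.node 27596867 890 (.node 27596865 1500 (.node 27594843 998 .tip .tip) .tip) (.node 27596875 765 (.node 27596873 1002 .tip .tip) .tip)))
(.node 27603017 1110
(.node 27596891 992 (.node 27596889 269 (.node 27596883 1498 .tip .tip) .tip) (.node 27603011 724 (.node 27603009 1194 .tip .tip) .tip))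
(.node 27603027 982 (.node 27603025 960 (.node 27603019 182 .tip .tip) .tip) (.node 27603035 1011 (.node 27603033 895 .tip .tip) .tip))))
(.node 27611217 752
(.node 27605081 1180
(.node 27605067 844 (.node 27605065 1533 (.node 27605059 989 .tip .tip) .tip) (.node 27605075 972 (.node 27605073 156 .tip .tip) .tip))
(.node 27611203 255 (.node 27611201 224 (.node 27605083 745 .tip .tip) .tip) (.node 27611211 292 (.node 27611209 127 .tip .tip) .tip)))
(.node 27613257 735
(.node 27611227 38 (.node 27611225 790 (.node 27611219 1165 .tip .tip) .tip) (.node 27613251 144 (.node 27613249 283 .tip .tip) .tip))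
(.node 27613267 777 (.node 27613265 839 (.node 27613259 137 .tip .tip) .tip) (.node 27613275 30 (.node 27613273 1137 .tip .tip) .tip)))))
(.node 27793473 1285
(.node 27621457 953
(.node 27619417 229
(.node 27619403 784 (.node 27619401 798 (.node 27619395 969 .tip .tip) .tip) (.node 27619411 914 (.node 27619409 1021 .tip .tip) .tip))
(.node 27621443 874 (.node 27621441 1045 (.node 27619419 299 .tip .tip) .tip) (.node 27621451 15 (.node 27621449 802 .tip .tip) .tip)))
(.node 27791433 313
(.node 27621467 2 (.node 27621465 287 (.node 27621459 1005 .tip .tip) .tip) (.node 27791427 48 (.node 27791425 1312 .tip .tip) .tip))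
(.node 27791443 503 (.node 27791441 603 (.node 27791435 631 .tip .tip) .tip) (.node 27791451 414 (.node 27791449 426 .tip .tip) .tip))))
(.node 27799633 1437
(.node 27793497 404
(.node 27793483 1474 (.node 27793481 519 (.node 27793475 1439 .tip .tip) .tip) (.node 27793491 643 (.node 27793489 558 .tip .tip) .tip))
(.node 27799619 1347 (.node 27799617 333 (.node 27793499 431 .tip .tip) .tip) (.node 27799627 1292 (.node 27799625 625 .tip .tip) .tip)))
(.node 27801673 76
(.node 27799643 632 (.node 27799641 587 (.node 27799635 103 .tip .tip) .tip) (.node 27801667 533 (.node 27801665 1483 .tip .tip) .tip))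
(.node 27801683 494 (.node 27801681 1316 (.node 27801675 1287 .tip .tip) .tip) (.node 27801691 1399 (.node 27801689 358 .tip .tip) .tip))))))
(.node 27865153 638
(.node 27818049 590
(.node 27809873 318
(.node 27807833 1224
(.node 27807819 641 (.node 27807817 1261 (.node 27807811 428 .tip .tip) .tip) (.node 27807827 308 (.node 27807825 456 .tip .tip) .tip))
(.node 27809859 351 (.node 27809857 1479 (.node 27807835 61 .tip .tip) .tip) (.node 27809867 1236 (.node 27809865 1243 .tip .tip) .tip)))
(.node 27816009 542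
(.node 27809883 53 (.node 27809881 1419 (.node 27809875 69 .tip .tip) .tip) (.node 27816003 583 (.node 27816001 567 .tip .tip) .tip))
(.node 27816019 442 (.node 27816017 663 (.node 27816011 1481 .tip .tip) .tip) (.node 27816027 691 (.node 27816025 1356 .tip .tip) .tip))))
(.node 27856977 481
(.node 27818073 1358
(.node 27818059 1395 (.node 27818057 548 (.node 27818051 390 .tip .tip) .tip) (.node 27818067 609 (.node 27818065 1368 .tip .tip) .tip))
(.node 27856963 520 (.node 27856961 1477 (.node 27818075 694 .tip .tip) .tip) (.node 27856971 1382 (.node 27856969 1284 .tip .tip) .tip)))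
(.node 27859017 57
(.node 27856987 642 (.node 27856985 557 (.node 27856979 405 .tip .tip) .tip) (.node 27859011 573 (.node 27859009 304 .tip .tip) .tip))
(.node 27859027 413 (.node 27859025 469 (.node 27859019 1343 .tip .tip) .tip) (.node 27859035 502 (.node 27859033 602 .tip .tip) .tip)))))
(.node 27875393 95
(.node 27867217 579
(.node 27865177 495
(.node 27865163 532 (.node 27865161 506 (.node 27865155 77 .tip .tip) .tip) (.node 27865171 359 (.node 27865169 1400 .tip .tip) .tip))
(.node 27867203 1415 (.node 27867201 624 (.node 27865179 1320 .tip .tip) .tip) (.node 27867211 526 (.node 27867209 332 .tip .tip) .tip)))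
(.node 27873353 479
(.node 27867227 102 (.node 27867225 1386 (.node 27867219 655 .tip .tip) .tip) (.node 27873347 1379 (.node 27873345 1239 .tip .tip) .tip))
(.node 27873363 52 (.node 27873361 1252 (.node 27873355 375 .tip .tip) .tip) (.node 27873371 394 (.node 27873369 317 .tip .tip) .tip))))
(.node 27881553 695
(.node 27875417 309
(.node 27875403 423 (.node 27875401 438 (.node 27875395 1430 .tip .tip) .tip) (.node 27875411 325 (.node 27875409 62 .tip .tip) .tip))
(.node 27881539 549 (.node 27881537 703 (.node 27875419 1478 .tip .tip) .tip) (.node 27881547 1487 (.node 27881545 452 .tip .tip) .tip)))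
(.node 27883593 584
(.node 27881563 669 (.node 27881561 1367 (.node 27881555 555 .tip .tip) .tip) (.node 27883587 596 (.node 27883585 541 .tip .tip) .tip))
(.node 27883603 690 (.node 27883601 682 (.node 27883595 1485 .tip .tip) .tip) (.node 27883611 664 (.node 27883609 378 .tip .tip) .tip))))))))))

/-- The reasons. -/
def caseDFullN4HowLL : Tab (ℕ × ℕ) :=
(.node 192 (.node 96 (.node 48 (.node 24 (.node 12 (.node 6 (.node 3 (.node 1 (.leaf (0, 0)) (.node 1 (.leaf (47, 0)) (.leaf (48, 0)))) (.node 1 (.leaf (49, 0)) (.node 1 (.leaf (47, 1)) (.leaf (48, 1)))))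
(.node 3 (.node 1 (.leaf (49, 1)) (.node 1 (.leaf (47, 2)) (.leaf (48, 2)))) (.node 1 (.leaf (49, 2)) (.node 1 (.leaf (47, 3)) (.leaf (48, 3))))))
(.node 6 (.node 3 (.node 1 (.leaf (49, 3)) (.node 1 (.leaf (47, 4)) (.leaf (48, 4)))) (.node 1 (.leaf (49, 4)) (.node 1 (.leaf (47, 5)) (.leaf (48, 5)))))
(.node 3 (.node 1 (.leaf (49, 5)) (.node 1 (.leaf (47, 6)) (.leaf (48, 6)))) (.node 1 (.leaf (49, 6)) (.node 1 (.leaf (47, 7)) (.leaf (48, 7)))))))
(.node 12 (.node 6 (.node 3 (.node 1 (.leaf (49, 7)) (.node 1 (.leaf (47, 8)) (.leaf (48, 8)))) (.node 1 (.leaf (49, 8)) (.node 1 (.leaf (47, 9)) (.leaf (48, 9)))))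
(.node 3 (.node 1 (.leaf (49, 9)) (.node 1 (.leaf (47, 10)) (.leaf (48, 10)))) (.node 1 (.leaf (49, 10)) (.node 1 (.leaf (47, 11)) (.leaf (48, 11))))))
(.node 6 (.node 3 (.node 1 (.leaf (49, 11)) (.node 1 (.leaf (47, 12)) (.leaf (48, 12)))) (.node 1 (.leaf (49, 12)) (.node 1 (.leaf (48, 13)) (.leaf (49, 13)))))
(.node 3 (.node 1 (.leaf (47, 14)) (.node 1 (.leaf (48, 14)) (.leaf (49, 14)))) (.node 1 (.leaf (47, 15)) (.node 1 (.leaf (48, 15)) (.leaf (49, 15))))))))
(.node 24 (.node 12 (.node 6 (.node 3 (.node 1 (.leaf (47, 16)) (.node 1 (.leaf (48, 16)) (.leaf (49, 16)))) (.node 1 (.leaf (47, 17)) (.node 1 (.leaf (48, 17)) (.leaf (49, 17)))))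
(.node 3 (.node 1 (.leaf (47, 18)) (.node 1 (.leaf (48, 18)) (.leaf (49, 18)))) (.node 1 (.leaf (47, 19)) (.node 1 (.leaf (48, 19)) (.leaf (49, 19))))))
(.node 6 (.node 3 (.node 1 (.leaf (47, 20)) (.node 1 (.leaf (48, 20)) (.leaf (49, 20)))) (.node 1 (.leaf (47, 21)) (.node 1 (.leaf (48, 21)) (.leaf (49, 21)))))
(.node 3 (.node 1 (.leaf (47, 22)) (.node 1 (.leaf (48, 22)) (.leaf (49, 22)))) (.node 1 (.leaf (47, 23)) (.node 1 (.leaf (48, 23)) (.leaf (49, 23)))))))
(.node 12 (.node 6 (.node 3 (.node 1 (.leaf (47, 24)) (.node 1 (.leaf (48, 24)) (.leaf (49, 24)))) (.node 1 (.leaf (47, 25)) (.node 1 (.leaf (48, 25)) (.leaf (49, 25)))))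
(.node 3 (.node 1 (.leaf (47, 26)) (.node 1 (.leaf (49, 26)) (.leaf (47, 27)))) (.node 1 (.leaf (48, 27)) (.node 1 (.leaf (49, 27)) (.leaf (47, 28))))))
(.node 6 (.node 3 (.node 1 (.leaf (48, 28)) (.node 1 (.leaf (49, 28)) (.leaf (47, 29)))) (.node 1 (.leaf (48, 29)) (.node 1 (.leaf (49, 29)) (.leaf (47, 30)))))
(.node 3 (.node 1 (.leaf (48, 30)) (.node 1 (.leaf (49, 30)) (.leaf (47, 31)))) (.node 1 (.leaf (48, 31)) (.node 1 (.leaf (49, 31)) (.leaf (47, 32)))))))))
(.node 48 (.node 24 (.node 12 (.node 6 (.node 3 (.node 1 (.leaf (48, 32)) (.node 1 (.leaf (49, 32)) (.leaf (47, 33)))) (.node 1 (.leaf (48, 33)) (.node 1 (.leaf (49, 33)) (.leaf (47, 34)))))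
(.node 3 (.node 1 (.leaf (48, 34)) (.node 1 (.leaf (49, 34)) (.leaf (47, 35)))) (.node 1 (.leaf (48, 35)) (.node 1 (.leaf (47, 36)) (.leaf (49, 36))))))
(.node 6 (.node 3 (.node 1 (.leaf (47, 37)) (.node 1 (.leaf (48, 37)) (.leaf (49, 37)))) (.node 1 (.leaf (49, 38)) (.node 1 (.leaf (47, 39)) (.leaf (48, 39)))))
(.node 3 (.node 1 (.leaf (47, 40)) (.node 1 (.leaf (48, 40)) (.leaf (49, 40)))) (.node 1 (.leaf (47, 41)) (.node 1 (.leaf (48, 41)) (.leaf (49, 41)))))))
(.node 12 (.node 6 (.node 3 (.node 1 (.leaf (47, 42)) (.node 1 (.leaf (48, 42)) (.leaf (49, 42)))) (.node 1 (.leaf (47, 43)) (.node 1 (.leaf (48, 43)) (.leaf (49, 43)))))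
(.node 3 (.node 1 (.leaf (47, 44)) (.node 1 (.leaf (48, 44)) (.leaf (49, 44)))) (.node 1 (.leaf (47, 45)) (.node 1 (.leaf (48, 45)) (.leaf (49, 45))))))
(.node 6 (.node 3 (.node 1 (.leaf (47, 46)) (.node 1 (.leaf (48, 46)) (.leaf (49, 46)))) (.node 1 (.leaf (47, 47)) (.node 1 (.leaf (48, 47)) (.leaf (49, 47)))))
(.node 3 (.node 1 (.leaf (47, 48)) (.node 1 (.leaf (48, 48)) (.leaf (49, 48)))) (.node 1 (.leaf (47, 49)) (.node 1 (.leaf (48, 49)) (.leaf (49, 49))))))))
(.node 24 (.node 12 (.node 6 (.node 3 (.node 1 (.leaf (47, 50)) (.node 1 (.leaf (48, 50)) (.leaf (49, 50)))) (.node 1 (.leaf (47, 51)) (.node 1 (.leaf (48, 51)) (.leaf (49, 51)))))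
(.node 3 (.node 1 (.leaf (47, 52)) (.node 1 (.leaf (49, 52)) (.leaf (47, 53)))) (.node 1 (.leaf (48, 53)) (.node 1 (.leaf (49, 53)) (.leaf (47, 54))))))
(.node 6 (.node 3 (.node 1 (.leaf (48, 54)) (.node 1 (.leaf (49, 54)) (.leaf (47, 55)))) (.node 1 (.leaf (48, 55)) (.node 1 (.leaf (49, 55)) (.leaf (47, 56)))))
(.node 3 (.node 1 (.leaf (48, 56)) (.node 1 (.leaf (49, 56)) (.leaf (47, 57)))) (.node 1 (.leaf (48, 57)) (.node 1 (.leaf (49, 57)) (.leaf (47, 58)))))))
(.node 12 (.node 6 (.node 3 (.node 1 (.leaf (48, 58)) (.node 1 (.leaf (49, 58)) (.leaf (47, 59)))) (.node 1 (.leaf (48, 59)) (.node 1 (.leaf (49, 59)) (.leaf (47, 60)))))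
(.node 3 (.node 1 (.leaf (48, 60)) (.node 1 (.leaf (49, 60)) (.leaf (47, 61)))) (.node 1 (.leaf (48, 61)) (.node 1 (.leaf (47, 62)) (.leaf (49, 62))))))
(.node 6 (.node 3 (.node 1 (.leaf (47, 63)) (.node 1 (.leaf (48, 63)) (.leaf (49, 63)))) (.node 1 (.leaf (49, 64)) (.node 1 (.leaf (47, 65)) (.leaf (48, 65)))))
(.node 3 (.node 1 (.leaf (48, 66)) (.node 1 (.leaf (49, 66)) (.leaf (47, 67)))) (.node 1 (.leaf (48, 67)) (.node 1 (.leaf (47, 68)) (.leaf (48, 68))))))))))
(.node 96 (.node 48 (.node 24 (.node 12 (.node 6 (.node 3 (.node 1 (.leaf (47, 69)) (.node 1 (.leaf (48, 69)) (.leaf (49, 69)))) (.node 1 (.leaf (47, 70)) (.node 1 (.leaf (48, 70)) (.leaf (49, 70)))))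
(.node 3 (.node 1 (.leaf (47, 71)) (.node 1 (.leaf (48, 71)) (.leaf (49, 71)))) (.node 1 (.leaf (47, 72)) (.node 1 (.leaf (48, 72)) (.leaf (49, 72))))))
(.node 6 (.node 3 (.node 1 (.leaf (47, 73)) (.node 1 (.leaf (48, 73)) (.leaf (49, 73)))) (.node 1 (.leaf (47, 74)) (.node 1 (.leaf (48, 74)) (.leaf (49, 74)))))
(.node 3 (.node 1 (.leaf (47, 75)) (.node 1 (.leaf (49, 75)) (.leaf (47, 76)))) (.node 1 (.leaf (48, 76)) (.node 1 (.leaf (49, 76)) (.leaf (47, 77)))))))
(.node 12 (.node 6 (.node 3 (.node 1 (.leaf (48, 77)) (.node 1 (.leaf (49, 77)) (.leaf (47, 78)))) (.node 1 (.leaf (48, 78)) (.node 1 (.leaf (49, 78)) (.leaf (47, 79)))))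
(.node 3 (.node 1 (.leaf (48, 79)) (.node 1 (.leaf (49, 79)) (.leaf (47, 80)))) (.node 1 (.leaf (48, 80)) (.node 1 (.leaf (49, 80)) (.leaf (47, 81))))))
(.node 6 (.node 3 (.node 1 (.leaf (48, 81)) (.node 1 (.leaf (49, 81)) (.leaf (47, 82)))) (.node 1 (.leaf (48, 82)) (.node 1 (.leaf (49, 82)) (.leaf (47, 83)))))
(.node 3 (.node 1 (.leaf (49, 83)) (.node 1 (.leaf (47, 84)) (.leaf (48, 84)))) (.node 1 (.leaf (49, 84)) (.node 1 (.leaf (47, 85)) (.leaf (48, 85))))))))
(.node 24 (.node 12 (.node 6 (.node 3 (.node 1 (.leaf (49, 85)) (.node 1 (.leaf (47, 86)) (.leaf (48, 86)))) (.node 1 (.leaf (49, 86)) (.node 1 (.leaf (47, 87)) (.leaf (48, 87)))))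
(.node 3 (.node 1 (.leaf (49, 88)) (.node 1 (.leaf (47, 89)) (.leaf (48, 89)))) (.node 1 (.leaf (49, 89)) (.node 1 (.leaf (49, 90)) (.leaf (47, 91))))))
(.node 6 (.node 3 (.node 1 (.leaf (48, 91)) (.node 1 (.leaf (48, 92)) (.leaf (47, 93)))) (.node 1 (.leaf (48, 93)) (.node 1 (.leaf (47, 94)) (.leaf (49, 94)))))
(.node 3 (.node 1 (.leaf (47, 95)) (.node 1 (.leaf (48, 95)) (.leaf (49, 95)))) (.node 1 (.leaf (47, 96)) (.node 1 (.leaf (48, 96)) (.leaf (49, 96)))))))
(.node 12 (.node 6 (.node 3 (.node 1 (.leaf (47, 97)) (.node 1 (.leaf (49, 97)) (.leaf (47, 98)))) (.node 1 (.leaf (48, 98)) (.node 1 (.leaf (49, 98)) (.leaf (47, 99)))))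
(.node 3 (.node 1 (.leaf (48, 99)) (.node 1 (.leaf (49, 99)) (.leaf (47, 100)))) (.node 1 (.leaf (48, 100)) (.node 1 (.leaf (49, 100)) (.leaf (47, 101))))))
(.node 6 (.node 3 (.node 1 (.leaf (49, 101)) (.node 1 (.leaf (47, 102)) (.leaf (48, 102)))) (.node 1 (.leaf (49, 102)) (.node 1 (.leaf (47, 103)) (.leaf (48, 103)))))
(.node 3 (.node 1 (.leaf (49, 103)) (.node 1 (.leaf (47, 104)) (.leaf (48, 104)))) (.node 1 (.leaf (49, 104)) (.node 1 (.leaf (47, 105)) (.leaf (49, 105)))))))))
(.node 48 (.node 24 (.node 12 (.node 6 (.node 3 (.node 1 (.leaf (48, 106)) (.node 1 (.leaf (49, 106)) (.leaf (49, 107)))) (.node 1 (.leaf (47, 108)) (.node 1 (.leaf (49, 108)) (.leaf (47, 109)))))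
(.node 3 (.node 1 (.leaf (48, 109)) (.node 1 (.leaf (49, 109)) (.leaf (48, 110)))) (.node 1 (.leaf (49, 110)) (.node 1 (.leaf (47, 111)) (.leaf (49, 111))))))
(.node 6 (.node 3 (.node 1 (.leaf (47, 112)) (.node 1 (.leaf (48, 112)) (.leaf (49, 112)))) (.node 1 (.leaf (49, 113)) (.node 1 (.leaf (47, 114)) (.leaf (48, 114)))))
(.node 3 (.node 1 (.leaf (49, 114)) (.node 1 (.leaf (47, 115)) (.leaf (48, 115)))) (.node 1 (.leaf (49, 115)) (.node 1 (.leaf (47, 116)) (.leaf (48, 116)))))))
(.node 12 (.node 6 (.node 3 (.node 1 (.leaf (49, 116)) (.node 1 (.leaf (47, 117)) (.leaf (48, 117)))) (.node 1 (.leaf (49, 117)) (.node 1 (.leaf (47, 118)) (.leaf (48, 118)))))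
(.node 3 (.node 1 (.leaf (49, 118)) (.node 1 (.leaf (47, 119)) (.leaf (48, 119)))) (.node 1 (.leaf (49, 119)) (.node 1 (.leaf (47, 120)) (.leaf (48, 120))))))
(.node 6 (.node 3 (.node 1 (.leaf (49, 120)) (.node 1 (.leaf (47, 121)) (.leaf (48, 121)))) (.node 1 (.leaf (49, 121)) (.node 1 (.leaf (47, 122)) (.leaf (48, 122)))))
(.node 3 (.node 1 (.leaf (49, 122)) (.node 1 (.leaf (47, 123)) (.leaf (48, 123)))) (.node 1 (.leaf (49, 123)) (.node 1 (.leaf (47, 124)) (.leaf (49, 124))))))))
(.node 24 (.node 12 (.node 6 (.node 3 (.node 1 (.leaf (47, 125)) (.node 1 (.leaf (48, 125)) (.leaf (49, 125)))) (.node 1 (.leaf (47, 126)) (.node 1 (.leaf (48, 126)) (.leaf (49, 126)))))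
(.node 3 (.node 1 (.leaf (47, 127)) (.node 1 (.leaf (48, 127)) (.leaf (49, 127)))) (.node 1 (.leaf (47, 128)) (.node 1 (.leaf (48, 128)) (.leaf (49, 128))))))
(.node 6 (.node 3 (.node 1 (.leaf (47, 129)) (.node 1 (.leaf (48, 129)) (.leaf (49, 129)))) (.node 1 (.leaf (47, 130)) (.node 1 (.leaf (48, 130)) (.leaf (49, 130)))))
(.node 3 (.node 1 (.leaf (47, 131)) (.node 1 (.leaf (48, 131)) (.leaf (49, 131)))) (.node 1 (.leaf (47, 132)) (.node 1 (.leaf (48, 132)) (.leaf (49, 132)))))))
(.node 12 (.node 6 (.node 3 (.node 1 (.leaf (47, 133)) (.node 1 (.leaf (48, 133)) (.leaf (47, 134)))) (.node 1 (.leaf (49, 134)) (.node 1 (.leaf (47, 135)) (.leaf (48, 135)))))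
(.node 3 (.node 1 (.leaf (49, 135)) (.node 1 (.leaf (49, 136)) (.leaf (47, 137)))) (.node 1 (.leaf (48, 137)) (.node 1 (.leaf (48, 138)) (.leaf (49, 138))))))
(.node 6 (.node 3 (.node 1 (.leaf (47, 139)) (.node 1 (.leaf (48, 139)) (.leaf (47, 140)))) (.node 1 (.leaf (48, 140)) (.node 1 (.leaf (47, 141)) (.leaf (48, 141)))))
(.node 3 (.node 1 (.leaf (47, 142)) (.node 1 (.leaf (48, 142)) (.leaf (49, 142)))) (.node 1 (.leaf (47, 143)) (.node 1 (.leaf (48, 143)) (.leaf (49, 143)))))))))))

/-- The reasons. -/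
def caseDFullN4HowLR : Tab (ℕ × ℕ) :=
(.node 192 (.node 96 (.node 48 (.node 24 (.node 12 (.node 6 (.node 3 (.node 1 (.leaf (47, 144)) (.node 1 (.leaf (48, 144)) (.leaf (49, 144)))) (.node 1 (.leaf (47, 145)) (.node 1 (.leaf (48, 145)) (.leaf (49, 145)))))
(.node 3 (.node 1 (.leaf (47, 146)) (.node 1 (.leaf (48, 146)) (.leaf (49, 146)))) (.node 1 (.leaf (47, 147)) (.node 1 (.leaf (49, 147)) (.leaf (47, 148))))))
(.node 6 (.node 3 (.node 1 (.leaf (48, 148)) (.node 1 (.leaf (49, 148)) (.leaf (47, 149)))) (.node 1 (.leaf (48, 149)) (.node 1 (.leaf (49, 149)) (.leaf (47, 150)))))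
(.node 3 (.node 1 (.leaf (48, 150)) (.node 1 (.leaf (49, 150)) (.leaf (48, 151)))) (.node 1 (.leaf (49, 151)) (.node 1 (.leaf (47, 152)) (.leaf (48, 152)))))))
(.node 12 (.node 6 (.node 3 (.node 1 (.leaf (49, 152)) (.node 1 (.leaf (47, 153)) (.leaf (48, 153)))) (.node 1 (.leaf (49, 153)) (.node 1 (.leaf (47, 154)) (.leaf (48, 154)))))
(.node 3 (.node 1 (.leaf (49, 154)) (.node 1 (.leaf (47, 155)) (.leaf (49, 155)))) (.node 1 (.leaf (47, 156)) (.node 1 (.leaf (48, 156)) (.leaf (49, 156))))))
(.node 6 (.node 3 (.node 1 (.leaf (47, 157)) (.node 1 (.leaf (48, 157)) (.leaf (49, 157)))) (.node 1 (.leaf (47, 158)) (.node 1 (.leaf (48, 158)) (.leaf (49, 158)))))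
(.node 3 (.node 1 (.leaf (48, 159)) (.node 1 (.leaf (49, 160)) (.leaf (47, 161)))) (.node 1 (.leaf (48, 161)) (.node 1 (.leaf (49, 161)) (.leaf (49, 162))))))))
(.node 24 (.node 12 (.node 6 (.node 3 (.node 1 (.leaf (47, 163)) (.node 1 (.leaf (48, 163)) (.leaf (48, 164)))) (.node 1 (.leaf (47, 165)) (.node 1 (.leaf (48, 165)) (.leaf (47, 166)))))
(.node 3 (.node 1 (.leaf (49, 166)) (.node 1 (.leaf (47, 167)) (.leaf (48, 167)))) (.node 1 (.leaf (49, 167)) (.node 1 (.leaf (47, 168)) (.leaf (48, 168))))))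
(.node 6 (.node 3 (.node 1 (.leaf (49, 168)) (.node 1 (.leaf (47, 169)) (.leaf (49, 169)))) (.node 1 (.leaf (47, 170)) (.node 1 (.leaf (49, 170)) (.leaf (47, 171)))))
(.node 3 (.node 1 (.leaf (48, 171)) (.node 1 (.leaf (49, 171)) (.leaf (47, 172)))) (.node 1 (.leaf (48, 172)) (.node 1 (.leaf (49, 172)) (.leaf (47, 173)))))))
(.node 12 (.node 6 (.node 3 (.node 1 (.leaf (49, 173)) (.node 1 (.leaf (47, 174)) (.leaf (48, 174)))) (.node 1 (.leaf (49, 174)) (.node 1 (.leaf (47, 175)) (.leaf (48, 175)))))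
(.node 3 (.node 1 (.leaf (49, 175)) (.node 1 (.leaf (47, 176)) (.leaf (48, 176)))) (.node 1 (.leaf (49, 176)) (.node 1 (.leaf (47, 177)) (.leaf (49, 177))))))
(.node 6 (.node 3 (.node 1 (.leaf (49, 178)) (.node 1 (.leaf (49, 179)) (.leaf (47, 180)))) (.node 1 (.leaf (49, 180)) (.node 1 (.leaf (47, 181)) (.leaf (48, 181)))))
(.node 3 (.node 1 (.leaf (49, 181)) (.node 1 (.leaf (48, 182)) (.leaf (49, 182)))) (.node 1 (.leaf (47, 183)) (.node 1 (.leaf (49, 183)) (.leaf (47, 184)))))))))
(.node 48 (.node 24 (.node 12 (.node 6 (.node 3 (.node 1 (.leaf (49, 184)) (.node 1 (.leaf (49, 185)) (.leaf (47, 186)))) (.node 1 (.leaf (48, 186)) (.node 1 (.leaf (49, 186)) (.leaf (48, 187)))))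
(.node 3 (.node 1 (.leaf (49, 187)) (.node 1 (.leaf (47, 188)) (.leaf (48, 188)))) (.node 1 (.leaf (49, 188)) (.node 1 (.leaf (47, 189)) (.leaf (48, 189))))))
(.node 6 (.node 3 (.node 1 (.leaf (49, 189)) (.node 1 (.leaf (47, 190)) (.leaf (48, 190)))) (.node 1 (.leaf (49, 190)) (.node 1 (.leaf (48, 191)) (.leaf (49, 191)))))
(.node 3 (.node 1 (.leaf (47, 192)) (.node 1 (.leaf (48, 192)) (.leaf (48, 193)))) (.node 1 (.leaf (49, 193)) (.node 1 (.leaf (48, 194)) (.leaf (49, 194)))))))
(.node 12 (.node 6 (.node 3 (.node 1 (.leaf (47, 195)) (.node 1 (.leaf (49, 195)) (.leaf (47, 196)))) (.node 1 (.leaf (49, 196)) (.node 1 (.leaf (48, 197)) (.leaf (49, 197)))))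
(.node 3 (.node 1 (.leaf (48, 198)) (.node 1 (.leaf (49, 198)) (.leaf (47, 199)))) (.node 1 (.leaf (48, 199)) (.node 1 (.leaf (49, 199)) (.leaf (48, 200))))))
(.node 6 (.node 3 (.node 1 (.leaf (49, 200)) (.node 1 (.leaf (48, 201)) (.leaf (47, 202)))) (.node 1 (.leaf (48, 202)) (.node 1 (.leaf (49, 202)) (.leaf (48, 203)))))
(.node 3 (.node 1 (.leaf (49, 203)) (.node 1 (.leaf (48, 204)) (.leaf (47, 205)))) (.node 1 (.leaf (48, 205)) (.node 1 (.leaf (47, 206)) (.leaf (49, 206))))))))
(.node 24 (.node 12 (.node 6 (.node 3 (.node 1 (.leaf (47, 207)) (.node 1 (.leaf (48, 207)) (.leaf (49, 207)))) (.node 1 (.leaf (49, 208)) (.node 1 (.leaf (48, 210)) (.leaf (49, 210)))))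
(.node 3 (.node 1 (.leaf (47, 212)) (.node 1 (.leaf (48, 212)) (.leaf (49, 212)))) (.node 1 (.leaf (47, 213)) (.node 1 (.leaf (48, 213)) (.leaf (49, 213))))))
(.node 6 (.node 3 (.node 1 (.leaf (47, 214)) (.node 1 (.leaf (48, 214)) (.leaf (49, 214)))) (.node 1 (.leaf (47, 215)) (.node 1 (.leaf (48, 215)) (.leaf (49, 215)))))
(.node 3 (.node 1 (.leaf (49, 216)) (.node 1 (.leaf (47, 217)) (.leaf (48, 217)))) (.node 1 (.leaf (49, 217)) (.node 1 (.leaf (47, 218)) (.leaf (49, 218)))))))
(.node 12 (.node 6 (.node 3 (.node 1 (.leaf (47, 219)) (.node 1 (.leaf (48, 219)) (.leaf (49, 219)))) (.node 1 (.leaf (47, 220)) (.node 1 (.leaf (48, 220)) (.leaf (48, 221)))))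
(.node 3 (.node 1 (.leaf (49, 221)) (.node 1 (.leaf (47, 222)) (.leaf (48, 222)))) (.node 1 (.leaf (47, 223)) (.node 1 (.leaf (49, 223)) (.leaf (47, 224))))))
(.node 6 (.node 3 (.node 1 (.leaf (49, 224)) (.node 1 (.leaf (47, 225)) (.leaf (48, 225)))) (.node 1 (.leaf (47, 226)) (.node 1 (.leaf (48, 226)) (.leaf (48, 227)))))
(.node 3 (.node 1 (.leaf (49, 227)) (.node 1 (.leaf (47, 228)) (.leaf (47, 230)))) (.node 1 (.leaf (49, 230)) (.node 1 (.leaf (49, 231)) (.leaf (47, 232))))))))))
(.node 96 (.node 48 (.node 24 (.node 12 (.node 6 (.node 3 (.node 1 (.leaf (48, 232)) (.node 1 (.leaf (48, 233)) (.leaf (47, 234)))) (.node 1 (.leaf (47, 235)) (.node 1 (.leaf (48, 235)) (.leaf (49, 235)))))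
(.node 3 (.node 1 (.leaf (47, 236)) (.node 1 (.leaf (48, 236)) (.leaf (49, 236)))) (.node 1 (.leaf (47, 237)) (.node 1 (.leaf (49, 237)) (.leaf (47, 238))))))
(.node 6 (.node 3 (.node 1 (.leaf (48, 238)) (.node 1 (.leaf (49, 238)) (.leaf (49, 239)))) (.node 1 (.leaf (47, 240)) (.node 1 (.leaf (48, 240)) (.leaf (49, 240)))))
(.node 3 (.node 1 (.leaf (47, 241)) (.node 1 (.leaf (49, 241)) (.leaf (47, 242)))) (.node 1 (.leaf (48, 242)) (.node 1 (.leaf (49, 242)) (.leaf (47, 243)))))))
(.node 12 (.node 6 (.node 3 (.node 1 (.leaf (48, 243)) (.node 1 (.leaf (49, 243)) (.leaf (48, 244)))) (.node 1 (.leaf (49, 244)) (.node 1 (.leaf (47, 245)) (.leaf (49, 245)))))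
(.node 3 (.node 1 (.leaf (49, 246)) (.node 1 (.leaf (47, 247)) (.leaf (49, 247)))) (.node 1 (.leaf (47, 248)) (.node 1 (.leaf (48, 248)) (.leaf (48, 249))))))
(.node 6 (.node 3 (.node 1 (.leaf (47, 250)) (.node 1 (.leaf (49, 250)) (.leaf (48, 251)))) (.node 1 (.leaf (49, 251)) (.node 1 (.leaf (49, 252)) (.leaf (48, 253)))))
(.node 3 (.node 1 (.leaf (49, 253)) (.node 1 (.leaf (47, 254)) (.leaf (48, 254)))) (.node 1 (.leaf (49, 254)) (.node 1 (.leaf (47, 255)) (.leaf (47, 256))))))))
(.node 24 (.node 12 (.node 6 (.node 3 (.node 1 (.leaf (48, 256)) (.node 1 (.leaf (49, 256)) (.leaf (47, 257)))) (.node 1 (.leaf (48, 257)) (.node 1 (.leaf (48, 258)) (.leaf (48, 259)))))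
(.node 3 (.node 1 (.leaf (49, 259)) (.node 1 (.leaf (48, 260)) (.leaf (47, 262)))) (.node 1 (.leaf (47, 263)) (.node 1 (.leaf (48, 263)) (.leaf (49, 263))))))
(.node 6 (.node 3 (.node 1 (.leaf (47, 264)) (.node 1 (.leaf (48, 264)) (.leaf (47, 265)))) (.node 1 (.leaf (48, 265)) (.node 1 (.leaf (49, 265)) (.leaf (47, 266)))))
(.node 3 (.node 1 (.leaf (48, 267)) (.node 1 (.leaf (49, 267)) (.leaf (48, 268)))) (.node 1 (.leaf (49, 268)) (.node 1 (.leaf (47, 269)) (.leaf (48, 269)))))))
(.node 12 (.node 6 (.node 3 (.node 1 (.leaf (49, 269)) (.node 1 (.leaf (47, 270)) (.leaf (48, 270)))) (.node 1 (.leaf (49, 271)) (.node 1 (.leaf (48, 272)) (.leaf (49, 273)))))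
(.node 3 (.node 1 (.leaf (47, 274)) (.node 1 (.leaf (49, 275)) (.leaf (48, 276)))) (.node 1 (.leaf (47, 277)) (.node 1 (.leaf (49, 277)) (.leaf (47, 278))))))
(.node 6 (.node 3 (.node 1 (.leaf (48, 278)) (.node 1 (.leaf (49, 278)) (.leaf (47, 279)))) (.node 1 (.leaf (48, 279)) (.node 1 (.leaf (49, 279)) (.leaf (49, 280)))))
(.node 3 (.node 1 (.leaf (47, 281)) (.node 1 (.leaf (48, 281)) (.leaf (47, 282)))) (.node 1 (.leaf (48, 282)) (.node 1 (.leaf (47, 283)) (.leaf (49, 283)))))))))
(.node 48 (.node 24 (.node 12 (.node 6 (.node 3 (.node 1 (.leaf (47, 284)) (.node 1 (.leaf (48, 284)) (.leaf (49, 284)))) (.node 1 (.leaf (48, 285)) (.node 1 (.leaf (49, 285)) (.leaf (48, 286)))))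
(.node 3 (.node 1 (.leaf (49, 286)) (.node 1 (.leaf (47, 287)) (.leaf (48, 288)))) (.node 1 (.leaf (49, 288)) (.node 1 (.leaf (47, 289)) (.leaf (48, 289))))))
(.node 6 (.node 3 (.node 1 (.leaf (49, 289)) (.node 1 (.leaf (47, 290)) (.leaf (48, 291)))) (.node 1 (.leaf (47, 292)) (.node 1 (.leaf (49, 292)) (.leaf (48, 293)))))
(.node 3 (.node 1 (.leaf (48, 294)) (.node 1 (.leaf (49, 294)) (.leaf (49, 295)))) (.node 1 (.leaf (47, 296)) (.node 1 (.leaf (48, 296)) (.leaf (49, 296)))))))
(.node 12 (.node 6 (.node 3 (.node 1 (.leaf (47, 297)) (.node 1 (.leaf (48, 297)) (.leaf (49, 297)))) (.node 1 (.leaf (48, 298)) (.node 1 (.leaf (49, 298)) (.leaf (47, 300)))))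
(.node 3 (.node 1 (.leaf (49, 300)) (.node 1 (.leaf (47, 301)) (.leaf (48, 301)))) (.node 1 (.leaf (49, 301)) (.node 1 (.leaf (49, 302)) (.leaf (47, 304))))))
(.node 6 (.node 3 (.node 1 (.leaf (48, 304)) (.node 1 (.leaf (49, 304)) (.leaf (47, 305)))) (.node 1 (.leaf (48, 305)) (.node 1 (.leaf (49, 305)) (.leaf (47, 306)))))
(.node 3 (.node 1 (.leaf (48, 306)) (.node 1 (.leaf (47, 307)) (.leaf (48, 307)))) (.node 1 (.leaf (49, 307)) (.node 1 (.leaf (47, 308)) (.leaf (47, 309))))))))
(.node 24 (.node 12 (.node 6 (.node 3 (.node 1 (.leaf (48, 309)) (.node 1 (.leaf (49, 309)) (.leaf (47, 310)))) (.node 1 (.leaf (48, 310)) (.node 1 (.leaf (49, 310)) (.leaf (47, 311)))))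
(.node 3 (.node 1 (.leaf (49, 311)) (.node 1 (.leaf (47, 312)) (.leaf (48, 312)))) (.node 1 (.leaf (49, 312)) (.node 1 (.leaf (47, 313)) (.leaf (48, 313))))))
(.node 6 (.node 3 (.node 1 (.leaf (49, 313)) (.node 1 (.leaf (47, 314)) (.leaf (48, 314)))) (.node 1 (.leaf (47, 315)) (.node 1 (.leaf (48, 315)) (.leaf (49, 315)))))
(.node 3 (.node 1 (.leaf (47, 316)) (.node 1 (.leaf (48, 316)) (.leaf (49, 316)))) (.node 1 (.leaf (47, 317)) (.node 1 (.leaf (48, 317)) (.leaf (47, 318)))))))
(.node 12 (.node 6 (.node 3 (.node 1 (.leaf (47, 319)) (.node 1 (.leaf (48, 319)) (.leaf (49, 319)))) (.node 1 (.leaf (49, 320)) (.node 1 (.leaf (47, 321)) (.leaf (48, 322)))))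
(.node 3 (.node 1 (.leaf (49, 322)) (.node 1 (.leaf (47, 323)) (.leaf (48, 323)))) (.node 1 (.leaf (47, 324)) (.node 1 (.leaf (48, 324)) (.leaf (47, 325))))))
(.node 6 (.node 3 (.node 1 (.leaf (48, 325)) (.node 1 (.leaf (47, 326)) (.leaf (48, 326)))) (.node 1 (.leaf (49, 326)) (.node 1 (.leaf (47, 327)) (.leaf (48, 327)))))
(.node 3 (.node 1 (.leaf (49, 327)) (.node 1 (.leaf (47, 328)) (.leaf (48, 328)))) (.node 1 (.leaf (47, 329)) (.node 1 (.leaf (48, 329)) (.leaf (49, 329)))))))))))

/-- The reasons. -/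
def caseDFullN4HowL : Tab (ℕ × ℕ) := .node 384 caseDFullN4HowLL caseDFullN4HowLR

/-- The reasons. -/
def caseDFullN4HowRL : Tab (ℕ × ℕ) :=
(.node 192 (.node 96 (.node 48 (.node 24 (.node 12 (.node 6 (.node 3 (.node 1 (.leaf (47, 330)) (.node 1 (.leaf (48, 330)) (.leaf (49, 330)))) (.node 1 (.leaf (47, 331)) (.node 1 (.leaf (49, 331)) (.leaf (47, 332)))))
(.node 3 (.node 1 (.leaf (48, 332)) (.node 1 (.leaf (47, 333)) (.leaf (48, 333)))) (.node 1 (.leaf (47, 334)) (.node 1 (.leaf (48, 334)) (.leaf (48, 335))))))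
(.node 6 (.node 3 (.node 1 (.leaf (49, 335)) (.node 1 (.leaf (47, 336)) (.leaf (48, 336)))) (.node 1 (.leaf (47, 337)) (.node 1 (.leaf (48, 337)) (.leaf (49, 337)))))
(.node 3 (.node 1 (.leaf (47, 338)) (.node 1 (.leaf (48, 338)) (.leaf (49, 338)))) (.node 1 (.leaf (47, 339)) (.node 1 (.leaf (49, 339)) (.leaf (47, 340)))))))
(.node 12 (.node 6 (.node 3 (.node 1 (.leaf (49, 340)) (.node 1 (.leaf (47, 341)) (.leaf (49, 341)))) (.node 1 (.leaf (47, 342)) (.node 1 (.leaf (49, 342)) (.leaf (48, 343)))))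
(.node 3 (.node 1 (.leaf (49, 344)) (.node 1 (.leaf (47, 345)) (.leaf (49, 345)))) (.node 1 (.leaf (49, 346)) (.node 1 (.leaf (48, 347)) (.leaf (48, 348))))))
(.node 6 (.node 3 (.node 1 (.leaf (47, 349)) (.node 1 (.leaf (48, 349)) (.leaf (47, 350)))) (.node 1 (.leaf (49, 350)) (.node 1 (.leaf (47, 351)) (.leaf (49, 351)))))
(.node 3 (.node 1 (.leaf (47, 352)) (.node 1 (.leaf (48, 352)) (.leaf (49, 352)))) (.node 1 (.leaf (47, 353)) (.node 1 (.leaf (49, 353)) (.leaf (47, 354))))))))
(.node 24 (.node 12 (.node 6 (.node 3 (.node 1 (.leaf (49, 354)) (.node 1 (.leaf (47, 355)) (.leaf (49, 355)))) (.node 1 (.leaf (47, 356)) (.node 1 (.leaf (49, 356)) (.leaf (47, 357)))))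
(.node 3 (.node 1 (.leaf (49, 357)) (.node 1 (.leaf (47, 358)) (.leaf (49, 358)))) (.node 1 (.leaf (49, 359)) (.node 1 (.leaf (47, 360)) (.leaf (49, 360))))))
(.node 6 (.node 3 (.node 1 (.leaf (47, 361)) (.node 1 (.leaf (49, 361)) (.leaf (49, 362)))) (.node 1 (.leaf (49, 363)) (.node 1 (.leaf (47, 364)) (.leaf (49, 364)))))
(.node 3 (.node 1 (.leaf (48, 365)) (.node 1 (.leaf (48, 366)) (.leaf (49, 367)))) (.node 1 (.leaf (47, 368)) (.node 1 (.leaf (49, 369)) (.leaf (47, 370)))))))
(.node 12 (.node 6 (.node 3 (.node 1 (.leaf (49, 370)) (.node 1 (.leaf (48, 371)) (.leaf (49, 371)))) (.node 1 (.leaf (47, 372)) (.node 1 (.leaf (48, 372)) (.leaf (49, 372)))))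
(.node 3 (.node 1 (.leaf (47, 373)) (.node 1 (.leaf (48, 373)) (.leaf (49, 373)))) (.node 1 (.leaf (47, 374)) (.node 1 (.leaf (48, 374)) (.leaf (49, 374))))))
(.node 6 (.node 3 (.node 1 (.leaf (48, 375)) (.node 1 (.leaf (49, 375)) (.leaf (47, 376)))) (.node 1 (.leaf (48, 376)) (.node 1 (.leaf (47, 378)) (.leaf (49, 378)))))
(.node 3 (.node 1 (.leaf (47, 379)) (.node 1 (.leaf (49, 379)) (.leaf (48, 380)))) (.node 1 (.leaf (49, 380)) (.node 1 (.leaf (48, 381)) (.leaf (49, 381)))))))))
(.node 48 (.node 24 (.node 12 (.node 6 (.node 3 (.node 1 (.leaf (47, 382)) (.node 1 (.leaf (48, 382)) (.leaf (49, 382)))) (.node 1 (.leaf (48, 383)) (.node 1 (.leaf (49, 383)) (.leaf (48, 384)))))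
(.node 3 (.node 1 (.leaf (47, 385)) (.node 1 (.leaf (48, 385)) (.leaf (49, 385)))) (.node 1 (.leaf (48, 386)) (.node 1 (.leaf (49, 386)) (.leaf (48, 387))))))
(.node 6 (.node 3 (.node 1 (.leaf (47, 388)) (.node 1 (.leaf (48, 388)) (.leaf (47, 389)))) (.node 1 (.leaf (49, 389)) (.node 1 (.leaf (47, 390)) (.leaf (48, 390)))))
(.node 3 (.node 1 (.leaf (49, 390)) (.node 1 (.leaf (49, 391)) (.leaf (48, 393)))) (.node 1 (.leaf (49, 393)) (.node 1 (.leaf (47, 395)) (.leaf (48, 395)))))))
(.node 12 (.node 6 (.node 3 (.node 1 (.leaf (49, 395)) (.node 1 (.leaf (47, 396)) (.leaf (48, 396)))) (.node 1 (.leaf (49, 396)) (.node 1 (.leaf (47, 397)) (.leaf (48, 397)))))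
(.node 3 (.node 1 (.leaf (49, 397)) (.node 1 (.leaf (47, 398)) (.leaf (48, 398)))) (.node 1 (.leaf (49, 398)) (.node 1 (.leaf (49, 399)) (.leaf (49, 400))))))
(.node 6 (.node 3 (.node 1 (.leaf (47, 401)) (.node 1 (.leaf (49, 401)) (.leaf (47, 402)))) (.node 1 (.leaf (49, 402)) (.node 1 (.leaf (47, 403)) (.leaf (48, 403)))))
(.node 3 (.node 1 (.leaf (47, 404)) (.node 1 (.leaf (48, 404)) (.leaf (47, 405)))) (.node 1 (.leaf (49, 405)) (.node 1 (.leaf (47, 407)) (.leaf (48, 407))))))))
(.node 24 (.node 12 (.node 6 (.node 3 (.node 1 (.leaf (47, 408)) (.node 1 (.leaf (48, 408)) (.leaf (48, 409)))) (.node 1 (.leaf (49, 409)) (.node 1 (.leaf (47, 410)) (.leaf (47, 412)))))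
(.node 3 (.node 1 (.leaf (49, 412)) (.node 1 (.leaf (49, 413)) (.leaf (47, 414)))) (.node 1 (.leaf (48, 414)) (.node 1 (.leaf (48, 415)) (.leaf (47, 416))))))
(.node 6 (.node 3 (.node 1 (.leaf (47, 417)) (.node 1 (.leaf (48, 417)) (.leaf (49, 417)))) (.node 1 (.leaf (47, 418)) (.node 1 (.leaf (48, 418)) (.leaf (49, 418)))))
(.node 3 (.node 1 (.leaf (47, 419)) (.node 1 (.leaf (49, 419)) (.leaf (47, 420)))) (.node 1 (.leaf (48, 420)) (.node 1 (.leaf (49, 420)) (.leaf (49, 421)))))))
(.node 12 (.node 6 (.node 3 (.node 1 (.leaf (47, 422)) (.node 1 (.leaf (48, 422)) (.leaf (47, 423)))) (.node 1 (.leaf (49, 423)) (.node 1 (.leaf (47, 424)) (.leaf (48, 424)))))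
(.node 3 (.node 1 (.leaf (47, 425)) (.node 1 (.leaf (49, 425)) (.leaf (47, 426)))) (.node 1 (.leaf (49, 426)) (.node 1 (.leaf (49, 427)) (.leaf (49, 428))))))
(.node 6 (.node 3 (.node 1 (.leaf (47, 429)) (.node 1 (.leaf (48, 429)) (.leaf (48, 430)))) (.node 1 (.leaf (47, 431)) (.node 1 (.leaf (49, 431)) (.leaf (48, 432)))))
(.node 3 (.node 1 (.leaf (49, 432)) (.node 1 (.leaf (49, 433)) (.leaf (48, 434)))) (.node 1 (.leaf (49, 434)) (.node 1 (.leaf (47, 435)) (.leaf (48, 435))))))))))
(.node 96 (.node 48 (.node 24 (.node 12 (.node 6 (.node 3 (.node 1 (.leaf (49, 435)) (.node 1 (.leaf (47, 436)) (.leaf (47, 437)))) (.node 1 (.leaf (48, 437)) (.node 1 (.leaf (49, 437)) (.leaf (47, 438)))))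
(.node 3 (.node 1 (.leaf (48, 438)) (.node 1 (.leaf (48, 439)) (.leaf (48, 440)))) (.node 1 (.leaf (49, 440)) (.node 1 (.leaf (48, 441)) (.leaf (47, 443))))))
(.node 6 (.node 3 (.node 1 (.leaf (47, 444)) (.node 1 (.leaf (48, 444)) (.leaf (49, 444)))) (.node 1 (.leaf (47, 445)) (.node 1 (.leaf (48, 445)) (.leaf (47, 446)))))
(.node 3 (.node 1 (.leaf (48, 446)) (.node 1 (.leaf (49, 446)) (.leaf (48, 449)))) (.node 1 (.leaf (49, 449)) (.node 1 (.leaf (47, 450)) (.leaf (48, 450)))))))
(.node 12 (.node 6 (.node 3 (.node 1 (.leaf (49, 451)) (.node 1 (.leaf (48, 452)) (.leaf (49, 453)))) (.node 1 (.leaf (47, 454)) (.node 1 (.leaf (49, 455)) (.leaf (47, 457)))))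
(.node 3 (.node 1 (.leaf (49, 457)) (.node 1 (.leaf (48, 458)) (.leaf (49, 458)))) (.node 1 (.leaf (47, 459)) (.node 1 (.leaf (48, 459)) (.leaf (49, 459))))))
(.node 6 (.node 3 (.node 1 (.leaf (49, 460)) (.node 1 (.leaf (47, 461)) (.leaf (48, 461)))) (.node 1 (.leaf (47, 462)) (.node 1 (.leaf (48, 462)) (.leaf (47, 463)))))
(.node 3 (.node 1 (.leaf (47, 464)) (.node 1 (.leaf (49, 464)) (.leaf (49, 465)))) (.node 1 (.leaf (48, 466)) (.node 1 (.leaf (49, 466)) (.leaf (47, 467))))))))
(.node 24 (.node 12 (.node 6 (.node 3 (.node 1 (.leaf (47, 468)) (.node 1 (.leaf (49, 468)) (.leaf (47, 469)))) (.node 1 (.leaf (48, 470)) (.node 1 (.leaf (47, 471)) (.leaf (48, 472)))))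
(.node 3 (.node 1 (.leaf (49, 474)) (.node 1 (.leaf (47, 475)) (.leaf (48, 475)))) (.node 1 (.leaf (49, 475)) (.node 1 (.leaf (47, 476)) (.leaf (48, 476))))))
(.node 6 (.node 3 (.node 1 (.leaf (49, 476)) (.node 1 (.leaf (48, 477)) (.leaf (49, 477)))) (.node 1 (.leaf (47, 479)) (.node 1 (.leaf (49, 479)) (.leaf (49, 480)))))
(.node 3 (.node 1 (.leaf (47, 482)) (.node 1 (.leaf (47, 483)) (.leaf (48, 483)))) (.node 1 (.leaf (49, 484)) (.node 1 (.leaf (49, 485)) (.leaf (47, 487)))))))
(.node 12 (.node 6 (.node 3 (.node 1 (.leaf (48, 488)) (.node 1 (.leaf (47, 489)) (.leaf (48, 489)))) (.node 1 (.leaf (49, 489)) (.node 1 (.leaf (49, 490)) (.leaf (47, 491)))))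
(.node 3 (.node 1 (.leaf (48, 492)) (.node 1 (.leaf (47, 493)) (.leaf (49, 493)))) (.node 1 (.leaf (49, 494)) (.node 1 (.leaf (47, 495)) (.leaf (48, 495))))))
(.node 6 (.node 3 (.node 1 (.leaf (49, 495)) (.node 1 (.leaf (48, 496)) (.leaf (47, 497)))) (.node 1 (.leaf (49, 497)) (.node 1 (.leaf (48, 498)) (.leaf (49, 498)))))
(.node 3 (.node 1 (.leaf (48, 499)) (.node 1 (.leaf (47, 500)) (.leaf (48, 500)))) (.node 1 (.leaf (49, 500)) (.node 1 (.leaf (47, 501)) (.leaf (49, 502)))))))))
(.node 48 (.node 24 (.node 12 (.node 6 (.node 3 (.node 1 (.leaf (49, 503)) (.node 1 (.leaf (47, 504)) (.leaf (49, 504)))) (.node 1 (.leaf (47, 505)) (.node 1 (.leaf (49, 505)) (.leaf (48, 506)))))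
(.node 3 (.node 1 (.leaf (48, 507)) (.node 1 (.leaf (49, 507)) (.leaf (48, 508)))) (.node 1 (.leaf (49, 508)) (.node 1 (.leaf (47, 510)) (.leaf (47, 511))))))
(.node 6 (.node 3 (.node 1 (.leaf (48, 511)) (.node 1 (.leaf (48, 512)) (.leaf (49, 512)))) (.node 1 (.leaf (48, 513)) (.node 1 (.leaf (47, 517)) (.leaf (48, 517)))))
(.node 3 (.node 1 (.leaf (47, 519)) (.node 1 (.leaf (47, 520)) (.leaf (47, 521)))) (.node 1 (.leaf (49, 521)) (.node 1 (.leaf (47, 522)) (.leaf (48, 522)))))))
(.node 12 (.node 6 (.node 3 (.node 1 (.leaf (47, 523)) (.node 1 (.leaf (48, 523)) (.leaf (49, 523)))) (.node 1 (.leaf (48, 524)) (.node 1 (.leaf (49, 524)) (.leaf (49, 525)))))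
(.node 3 (.node 1 (.leaf (49, 526)) (.node 1 (.leaf (48, 529)) (.leaf (48, 530)))) (.node 1 (.leaf (49, 531)) (.node 1 (.leaf (49, 532)) (.leaf (48, 533))))))
(.node 6 (.node 3 (.node 1 (.leaf (49, 533)) (.node 1 (.leaf (48, 536)) (.leaf (49, 536)))) (.node 1 (.leaf (49, 537)) (.node 1 (.leaf (47, 538)) (.leaf (49, 538)))))
(.node 3 (.node 1 (.leaf (48, 539)) (.node 1 (.leaf (49, 539)) (.leaf (47, 541)))) (.node 1 (.leaf (49, 542)) (.node 1 (.leaf (48, 543)) (.leaf (47, 544))))))))
(.node 24 (.node 12 (.node 6 (.node 3 (.node 1 (.leaf (49, 545)) (.node 1 (.leaf (49, 546)) (.leaf (47, 547)))) (.node 1 (.leaf (49, 547)) (.node 1 (.leaf (49, 550)) (.leaf (47, 552)))))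
(.node 3 (.node 1 (.leaf (47, 553)) (.node 1 (.leaf (48, 553)) (.leaf (47, 554)))) (.node 1 (.leaf (48, 554)) (.node 1 (.leaf (47, 555)) (.leaf (49, 556))))))
(.node 6 (.node 3 (.node 1 (.leaf (48, 558)) (.node 1 (.leaf (47, 561)) (.leaf (47, 562)))) (.node 1 (.leaf (48, 562)) (.node 1 (.leaf (48, 563)) (.leaf (47, 565)))))
(.node 3 (.node 1 (.leaf (49, 565)) (.node 1 (.leaf (47, 566)) (.leaf (49, 566)))) (.node 1 (.leaf (47, 567)) (.node 1 (.leaf (48, 567)) (.leaf (49, 567)))))))
(.node 12 (.node 6 (.node 3 (.node 1 (.leaf (48, 569)) (.node 1 (.leaf (49, 569)) (.leaf (47, 570)))) (.node 1 (.leaf (48, 570)) (.node 1 (.leaf (49, 570)) (.leaf (49, 571)))))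
(.node 3 (.node 1 (.leaf (48, 573)) (.node 1 (.leaf (47, 574)) (.leaf (49, 575)))) (.node 1 (.leaf (49, 576)) (.node 1 (.leaf (48, 577)) (.leaf (47, 578))))))
(.node 6 (.node 3 (.node 1 (.leaf (48, 579)) (.node 1 (.leaf (49, 580)) (.leaf (48, 581)))) (.node 1 (.leaf (48, 584)) (.node 1 (.leaf (49, 584)) (.leaf (47, 586)))))
(.node 3 (.node 1 (.leaf (49, 586)) (.node 1 (.leaf (49, 588)) (.leaf (47, 593)))) (.node 1 (.leaf (47, 596)) (.node 1 (.leaf (47, 597)) (.leaf (48, 598)))))))))))

/-- The reasons. -/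
def caseDFullN4HowRR : Tab (ℕ × ℕ) :=
(.node 192 (.node 96 (.node 48 (.node 24 (.node 12 (.node 6 (.node 3 (.node 1 (.leaf (49, 598)) (.node 1 (.leaf (47, 601)) (.leaf (48, 601)))) (.node 1 (.leaf (48, 602)) (.node 1 (.leaf (48, 603)) (.leaf (47, 605)))))
(.node 3 (.node 1 (.leaf (47, 606)) (.node 1 (.leaf (48, 607)) (.leaf (49, 608)))) (.node 1 (.leaf (49, 612)) (.node 1 (.leaf (47, 614)) (.leaf (49, 614))))))
(.node 6 (.node 3 (.node 1 (.leaf (47, 619)) (.node 1 (.leaf (49, 619)) (.leaf (49, 620)))) (.node 1 (.leaf (48, 622)) (.node 1 (.leaf (48, 624)) (.leaf (47, 629)))))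
(.node 3 (.node 1 (.leaf (49, 630)) (.node 1 (.leaf (47, 631)) (.leaf (49, 631)))) (.node 1 (.leaf (49, 636)) (.node 1 (.leaf (48, 641)) (.leaf (47, 645)))))))
(.node 12 (.node 6 (.node 3 (.node 1 (.leaf (47, 647)) (.node 1 (.leaf (48, 647)) (.leaf (49, 647)))) (.node 1 (.leaf (47, 648)) (.node 1 (.leaf (49, 648)) (.leaf (49, 652)))))
(.node 3 (.node 1 (.leaf (47, 654)) (.node 1 (.leaf (49, 654)) (.leaf (48, 657)))) (.node 1 (.leaf (47, 659)) (.node 1 (.leaf (49, 660)) (.leaf (48, 663))))))
(.node 6 (.node 3 (.node 1 (.leaf (48, 664)) (.node 1 (.leaf (49, 664)) (.leaf (47, 667)))) (.node 1 (.leaf (49, 669)) (.node 1 (.leaf (49, 670)) (.leaf (47, 672)))))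
(.node 3 (.node 1 (.leaf (47, 676)) (.node 1 (.leaf (47, 678)) (.leaf (49, 680)))) (.node 1 (.leaf (47, 681)) (.node 1 (.leaf (49, 682)) (.leaf (49, 686))))))))
(.node 24 (.node 12 (.node 6 (.node 3 (.node 1 (.leaf (48, 687)) (.node 1 (.leaf (48, 689)) (.leaf (49, 691)))) (.node 1 (.leaf (49, 692)) (.node 1 (.leaf (49, 697)) (.leaf (48, 699)))))
(.node 3 (.node 1 (.leaf (49, 699)) (.node 1 (.leaf (48, 700)) (.leaf (49, 700)))) (.node 1 (.leaf (47, 702)) (.node 1 (.leaf (48, 707)) (.leaf (47, 708))))))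
(.node 6 (.node 3 (.node 1 (.leaf (48, 708)) (.node 1 (.leaf (47, 709)) (.leaf (47, 710)))) (.node 1 (.leaf (48, 711)) (.node 1 (.leaf (47, 712)) (.leaf (49, 712)))))
(.node 3 (.node 1 (.leaf (47, 713)) (.node 1 (.leaf (48, 713)) (.leaf (47, 714)))) (.node 1 (.leaf (48, 714)) (.node 1 (.leaf (49, 714)) (.leaf (47, 715)))))))
(.node 12 (.node 6 (.node 3 (.node 1 (.leaf (49, 715)) (.node 1 (.leaf (48, 716)) (.leaf (48, 717)))) (.node 1 (.leaf (47, 718)) (.node 1 (.leaf (48, 718)) (.leaf (47, 719)))))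
(.node 3 (.node 1 (.leaf (48, 719)) (.node 1 (.leaf (49, 720)) (.leaf (47, 721)))) (.node 1 (.leaf (47, 722)) (.node 1 (.leaf (49, 722)) (.leaf (49, 723))))))
(.node 6 (.node 3 (.node 1 (.leaf (47, 725)) (.node 1 (.leaf (49, 725)) (.leaf (49, 726)))) (.node 1 (.leaf (47, 727)) (.node 1 (.leaf (47, 731)) (.leaf (48, 731)))))
(.node 3 (.node 1 (.leaf (47, 732)) (.node 1 (.leaf (49, 732)) (.leaf (47, 733)))) (.node 1 (.leaf (49, 733)) (.node 1 (.leaf (48, 734)) (.leaf (49, 734)))))))))
(.node 48 (.node 24 (.node 12 (.node 6 (.node 3 (.node 1 (.leaf (47, 735)) (.node 1 (.leaf (47, 736)) (.leaf (49, 736)))) (.node 1 (.leaf (47, 738)) (.node 1 (.leaf (49, 738)) (.leaf (47, 739)))))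
(.node 3 (.node 1 (.leaf (49, 740)) (.node 1 (.leaf (47, 741)) (.leaf (49, 743)))) (.node 1 (.leaf (47, 744)) (.node 1 (.leaf (49, 744)) (.leaf (48, 745))))))
(.node 6 (.node 3 (.node 1 (.leaf (48, 746)) (.node 1 (.leaf (47, 748)) (.leaf (47, 749)))) (.node 1 (.leaf (49, 749)) (.node 1 (.leaf (48, 750)) (.leaf (49, 750)))))
(.node 3 (.node 1 (.leaf (47, 751)) (.node 1 (.leaf (47, 752)) (.leaf (48, 752)))) (.node 1 (.leaf (49, 752)) (.node 1 (.leaf (47, 753)) (.leaf (48, 754)))))))
(.node 12 (.node 6 (.node 3 (.node 1 (.leaf (49, 754)) (.node 1 (.leaf (47, 755)) (.leaf (49, 757)))) (.node 1 (.leaf (49, 758)) (.node 1 (.leaf (49, 759)) (.leaf (48, 760)))))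
(.node 3 (.node 1 (.leaf (49, 760)) (.node 1 (.leaf (48, 761)) (.leaf (49, 761)))) (.node 1 (.leaf (48, 762)) (.node 1 (.leaf (48, 763)) (.leaf (47, 764))))))
(.node 6 (.node 3 (.node 1 (.leaf (48, 764)) (.node 1 (.leaf (49, 764)) (.leaf (48, 765)))) (.node 1 (.leaf (47, 767)) (.node 1 (.leaf (49, 767)) (.leaf (47, 768)))))
(.node 3 (.node 1 (.leaf (48, 768)) (.node 1 (.leaf (49, 768)) (.leaf (48, 771)))) (.node 1 (.leaf (48, 773)) (.node 1 (.leaf (49, 773)) (.leaf (47, 774))))))))
(.node 24 (.node 12 (.node 6 (.node 3 (.node 1 (.leaf (48, 774)) (.node 1 (.leaf (49, 774)) (.leaf (49, 775)))) (.node 1 (.leaf (49, 776)) (.node 1 (.leaf (47, 777)) (.leaf (49, 777)))))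
(.node 3 (.node 1 (.leaf (47, 778)) (.node 1 (.leaf (49, 778)) (.leaf (48, 779)))) (.node 1 (.leaf (49, 780)) (.node 1 (.leaf (47, 782)) (.leaf (48, 782))))))
(.node 6 (.node 3 (.node 1 (.leaf (48, 783)) (.node 1 (.leaf (49, 783)) (.leaf (47, 784)))) (.node 1 (.leaf (47, 786)) (.node 1 (.leaf (49, 786)) (.leaf (49, 787)))))
(.node 3 (.node 1 (.leaf (48, 788)) (.node 1 (.leaf (47, 790)) (.leaf (47, 791)))) (.node 1 (.leaf (48, 791)) (.node 1 (.leaf (47, 792)) (.leaf (49, 792)))))))
(.node 12 (.node 6 (.node 3 (.node 1 (.leaf (47, 793)) (.node 1 (.leaf (48, 793)) (.leaf (49, 793)))) (.node 1 (.leaf (47, 794)) (.node 1 (.leaf (48, 794)) (.leaf (47, 795)))))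
(.node 3 (.node 1 (.leaf (49, 795)) (.node 1 (.leaf (49, 796)) (.leaf (49, 797)))) (.node 1 (.leaf (49, 798)) (.node 1 (.leaf (49, 799)) (.leaf (48, 800))))))
(.node 6 (.node 3 (.node 1 (.leaf (49, 801)) (.node 1 (.leaf (49, 802)) (.leaf (48, 803)))) (.node 1 (.leaf (49, 803)) (.node 1 (.leaf (47, 804)) (.leaf (49, 804)))))
(.node 3 (.node 1 (.leaf (47, 805)) (.node 1 (.leaf (47, 806)) (.leaf (47, 807)))) (.node 1 (.leaf (48, 807)) (.node 1 (.leaf (48, 808)) (.leaf (48, 809))))))))))
(.node 96 (.node 48 (.node 24 (.node 12 (.node 6 (.node 3 (.node 1 (.leaf (47, 812)) (.node 1 (.leaf (47, 813)) (.leaf (48, 813)))) (.node 1 (.leaf (47, 814)) (.node 1 (.leaf (48, 817)) (.leaf (49, 817)))))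
(.node 3 (.node 1 (.leaf (49, 818)) (.node 1 (.leaf (48, 819)) (.leaf (47, 820)))) (.node 1 (.leaf (47, 823)) (.node 1 (.leaf (49, 823)) (.leaf (47, 824))))))
(.node 6 (.node 3 (.node 1 (.leaf (49, 824)) (.node 1 (.leaf (47, 825)) (.leaf (48, 825)))) (.node 1 (.leaf (47, 826)) (.node 1 (.leaf (49, 827)) (.leaf (48, 828)))))
(.node 3 (.node 1 (.leaf (49, 828)) (.node 1 (.leaf (47, 829)) (.leaf (49, 830)))) (.node 1 (.leaf (47, 833)) (.node 1 (.leaf (47, 835)) (.leaf (48, 835)))))))
(.node 12 (.node 6 (.node 3 (.node 1 (.leaf (49, 835)) (.node 1 (.leaf (47, 837)) (.leaf (49, 837)))) (.node 1 (.leaf (47, 839)) (.node 1 (.leaf (49, 840)) (.leaf (49, 841)))))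
(.node 3 (.node 1 (.leaf (47, 843)) (.node 1 (.leaf (47, 845)) (.leaf (48, 845)))) (.node 1 (.leaf (49, 845)) (.node 1 (.leaf (47, 849)) (.leaf (49, 849))))))
(.node 6 (.node 3 (.node 1 (.leaf (48, 851)) (.node 1 (.leaf (49, 851)) (.leaf (49, 853)))) (.node 1 (.leaf (48, 855)) (.node 1 (.leaf (49, 856)) (.leaf (47, 857)))))
(.node 3 (.node 1 (.leaf (49, 857)) (.node 1 (.leaf (48, 859)) (.leaf (48, 860)))) (.node 1 (.leaf (49, 860)) (.node 1 (.leaf (47, 862)) (.leaf (47, 863))))))))
(.node 24 (.node 12 (.node 6 (.node 3 (.node 1 (.leaf (48, 864)) (.node 1 (.leaf (49, 864)) (.leaf (48, 865)))) (.node 1 (.leaf (47, 869)) (.node 1 (.leaf (47, 873)) (.leaf (49, 873)))))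
(.node 3 (.node 1 (.leaf (48, 874)) (.node 1 (.leaf (48, 875)) (.leaf (49, 875)))) (.node 1 (.leaf (48, 876)) (.node 1 (.leaf (49, 876)) (.leaf (49, 878))))))
(.node 6 (.node 3 (.node 1 (.leaf (49, 884)) (.node 1 (.leaf (48, 885)) (.leaf (49, 885)))) (.node 1 (.leaf (48, 888)) (.node 1 (.leaf (47, 890)) (.leaf (48, 891)))))
(.node 3 (.node 1 (.leaf (49, 894)) (.node 1 (.leaf (48, 895)) (.leaf (49, 897)))) (.node 1 (.leaf (49, 898)) (.node 1 (.leaf (49, 900)) (.leaf (47, 903)))))))
(.node 12 (.node 6 (.node 3 (.node 1 (.leaf (48, 903)) (.node 1 (.leaf (47, 904)) (.leaf (47, 909)))) (.node 1 (.leaf (48, 909)) (.node 1 (.leaf (47, 910)) (.leaf (49, 910)))))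
(.node 3 (.node 1 (.leaf (47, 911)) (.node 1 (.leaf (47, 912)) (.leaf (48, 912)))) (.node 1 (.leaf (48, 914)) (.node 1 (.leaf (48, 915)) (.leaf (48, 918))))))
(.node 6 (.node 3 (.node 1 (.leaf (49, 921)) (.node 1 (.leaf (48, 922)) (.leaf (47, 923)))) (.node 1 (.leaf (48, 924)) (.node 1 (.leaf (49, 925)) (.leaf (48, 926)))))
(.node 3 (.node 1 (.leaf (49, 929)) (.node 1 (.leaf (49, 931)) (.leaf (47, 940)))) (.node 1 (.leaf (47, 941)) (.node 1 (.leaf (47, 946)) (.leaf (49, 947)))))))))
(.node 48 (.node 24 (.node 12 (.node 6 (.node 3 (.node 1 (.leaf (49, 951)) (.node 1 (.leaf (47, 953)) (.leaf (49, 953)))) (.node 1 (.leaf (47, 958)) (.node 1 (.leaf (49, 959)) (.leaf (48, 961)))))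
(.node 3 (.node 1 (.leaf (48, 963)) (.node 1 (.leaf (47, 968)) (.leaf (49, 969)))) (.node 1 (.leaf (49, 970)) (.node 1 (.leaf (47, 980)) (.leaf (47, 981))))))
(.node 6 (.node 3 (.node 1 (.leaf (49, 981)) (.node 1 (.leaf (49, 987)) (.leaf (48, 989)))) (.node 1 (.leaf (49, 991)) (.node 1 (.leaf (48, 994)) (.leaf (48, 995)))))
(.node 3 (.node 1 (.leaf (49, 995)) (.node 1 (.leaf (47, 998)) (.leaf (47, 1004)))) (.node 1 (.leaf (49, 1008)) (.node 1 (.leaf (49, 1011)) (.leaf (48, 1012)))))))
(.node 12 (.node 6 (.node 3 (.node 1 (.leaf (49, 1014)) (.node 1 (.leaf (49, 1019)) (.leaf (49, 1021)))) (.node 1 (.leaf (49, 1022)) (.node 1 (.leaf (47, 1027)) (.leaf (47, 1030)))))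
(.node 3 (.node 1 (.leaf (49, 1035)) (.node 1 (.leaf (47, 1042)) (.leaf (49, 1043)))) (.node 1 (.leaf (47, 1044)) (.node 1 (.leaf (49, 1046)) (.leaf (49, 1047))))))
(.node 6 (.node 3 (.node 1 (.leaf (47, 1050)) (.node 1 (.leaf (47, 1051)) (.leaf (49, 1055)))) (.node 1 (.leaf (49, 1059)) (.node 1 (.leaf (48, 1066)) (.leaf (48, 1069)))))
(.node 3 (.node 1 (.leaf (49, 1072)) (.node 1 (.leaf (47, 1073)) (.leaf (47, 1082)))) (.node 1 (.leaf (49, 1086)) (.node 1 (.leaf (49, 1088)) (.leaf (49, 1090))))))))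
(.node 24 (.node 12 (.node 6 (.node 3 (.node 1 (.leaf (47, 1104)) (.node 1 (.leaf (49, 1110)) (.leaf (48, 1177)))) (.node 1 (.leaf (47, 1210)) (.node 1 (.leaf (49, 1212)) (.leaf (48, 1216)))))
(.node 3 (.node 1 (.leaf (47, 1219)) (.node 1 (.leaf (48, 1219)) (.leaf (49, 1219)))) (.node 1 (.leaf (47, 1225)) (.node 1 (.leaf (49, 1225)) (.leaf (49, 1227))))))
(.node 6 (.node 3 (.node 1 (.leaf (47, 1228)) (.node 1 (.leaf (47, 1230)) (.leaf (47, 1232)))) (.node 1 (.leaf (49, 1232)) (.node 1 (.leaf (49, 1235)) (.leaf (49, 1239)))))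
(.node 3 (.node 1 (.leaf (47, 1241)) (.node 1 (.leaf (48, 1245)) (.leaf (49, 1249)))) (.node 1 (.leaf (48, 1254)) (.node 1 (.leaf (49, 1256)) (.leaf (48, 1260)))))))
(.node 12 (.node 6 (.node 3 (.node 1 (.leaf (49, 1260)) (.node 1 (.leaf (49, 1263)) (.leaf (49, 1270)))) (.node 1 (.leaf (49, 1272)) (.node 1 (.leaf (47, 1282)) (.leaf (49, 1287)))))
(.node 3 (.node 1 (.leaf (47, 1296)) (.node 1 (.leaf (48, 1297)) (.leaf (47, 1303)))) (.node 1 (.leaf (48, 1305)) (.node 1 (.leaf (48, 1308)) (.leaf (49, 1314))))))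
(.node 6 (.node 3 (.node 1 (.leaf (47, 1315)) (.node 1 (.leaf (48, 1316)) (.leaf (49, 1330)))) (.node 1 (.leaf (49, 1352)) (.node 1 (.leaf (48, 1353)) (.leaf (47, 1360)))))
(.node 3 (.node 1 (.leaf (47, 1373)) (.node 1 (.leaf (49, 1377)) (.leaf (49, 1380)))) (.node 1 (.leaf (47, 1383)) (.node 1 (.leaf (48, 1392)) (.leaf (49, 1403)))))))))))

/-- The reasons. -/
def caseDFullN4HowR : Tab (ℕ × ℕ) := .node 384 caseDFullN4HowRL caseDFullN4HowRR

/-- The reasons. -/
def caseDFullN4How : Tab (ℕ × ℕ) := .node 768 caseDFullN4HowL caseDFullN4HowR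

/-- The node. -/
def caseDFullN4Node : NodeD := ⟨4, 1536, caseDFullN4Els, caseDFullN4Ix, caseDFullN4How, fun b => bif b then (.node 7 (.node 3 (.node 1 (.leaf 30) (.node 1 (.leaf 4199) (.leaf 4194)))
(.node 2 (.node 1 (.leaf 4204) (.leaf 4202)) (.node 1 (.leaf 4200) (.leaf 4201))))
(.node 3 (.node 1 (.leaf 4195) (.node 1 (.leaf 4205) (.leaf 4196)))
(.node 2 (.node 1 (.leaf 4203) (.leaf 4198)) (.node 1 (.leaf 4193) (.leaf 4197))))) else (.node 7 (.node 3 (.node 1 (.leaf 299) (.node 1 (.leaf 297) (.leaf 63)))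
(.node 2 (.node 1 (.leaf 61) (.leaf 294)) (.node 1 (.leaf 295) (.leaf 62))))
(.node 3 (.node 1 (.leaf 60) (.node 1 (.leaf 292) (.leaf 300)))
(.node 2 (.node 1 (.leaf 59) (.leaf 57)) (.node 1 (.leaf 296) (.leaf 298)))))⟩

/-- The stabiliser. -/
def caseDFullN7Els : Tab ℕ :=
(.node 128 (.node 64 (.node 32 (.node 16 (.node 8 (.node 4 (.node 2 (.node 1 (.leaf 17043521) (.leaf 17633375)) (.node 1 (.leaf 17045585) (.leaf 16932945)))
(.node 2 (.node 1 (.leaf 16934989) (.leaf 17043539)) (.node 1 (.leaf 17635407) (.leaf 16918607))))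
(.node 4 (.node 2 (.node 1 (.leaf 16916545) (.leaf 17635405)) (.node 1 (.leaf 16998465) (.leaf 17000543)))
(.node 2 (.node 1 (.leaf 17522783) (.leaf 16934977)) (.node 1 (.leaf 17584193) (.leaf 17586253)))))
(.node 8 (.node 4 (.node 2 (.node 1 (.leaf 17524801) (.leaf 16932957)) (.node 1 (.leaf 17649757) (.leaf 17651795)))
(.node 2 (.node 1 (.leaf 17633357) (.leaf 17045571)) (.node 1 (.leaf 16932931) (.leaf 16935007))))
(.node 4 (.node 2 (.node 1 (.leaf 17045569) (.leaf 16984159)) (.node 1 (.leaf 16982099) (.leaf 17508435)))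
(.node 2 (.node 1 (.leaf 16916575) (.leaf 17125471)) (.node 1 (.leaf 17127489) (.leaf 17506399))))))
(.node 16 (.node 8 (.node 4 (.node 2 (.node 1 (.leaf 16918609) (.leaf 17059921)) (.node 1 (.leaf 17061965) (.leaf 17633373)))
(.node 2 (.node 1 (.leaf 16984157) (.leaf 16982097)) (.node 1 (.leaf 17457229) (.leaf 17000529))))
(.node 4 (.node 2 (.node 1 (.leaf 17586257) (.leaf 17584223)) (.node 1 (.leaf 17459281) (.leaf 16998479)))
(.node 2 (.node 1 (.leaf 17651791) (.leaf 17649731)) (.node 1 (.leaf 17524815) (.leaf 17569871)))))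
(.node 8 (.node 4 (.node 2 (.node 1 (.leaf 17567825) (.leaf 17524813)) (.node 1 (.leaf 17649745) (.leaf 17651807)))
(.node 2 (.node 1 (.leaf 17440849) (.leaf 17442893)) (.node 1 (.leaf 17127505) (.leaf 17584221))))
(.node 4 (.node 2 (.node 1 (.leaf 17506397) (.leaf 17508419)) (.node 1 (.leaf 17522769) (.leaf 17635409)))
(.node 2 (.node 1 (.leaf 17522771) (.leaf 17584205)) (.node 1 (.leaf 17586241) (.leaf 17059905)))))))
(.node 32 (.node 16 (.node 8 (.node 4 (.node 2 (.node 1 (.leaf 17651789) (.leaf 17440851)) (.node 1 (.leaf 17635421) (.leaf 16918621)))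
(.node 2 (.node 1 (.leaf 16916563) (.leaf 17635423)) (.node 1 (.leaf 16998483) (.leaf 17000525))))
(.node 4 (.node 2 (.node 1 (.leaf 17522765) (.leaf 16934995)) (.node 1 (.leaf 17584211) (.leaf 17586271)))
(.node 2 (.node 1 (.leaf 17524819) (.leaf 16932943)) (.node 1 (.leaf 17649743) (.leaf 17651777)))))
(.node 8 (.node 4 (.node 2 (.node 1 (.leaf 17043537) (.leaf 16998481)) (.node 1 (.leaf 17000527) (.leaf 17442881)))
(.node 2 (.node 1 (.leaf 16982095) (.leaf 17127503)) (.node 1 (.leaf 17125459) (.leaf 17440847))))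
(.node 4 (.node 2 (.node 1 (.leaf 16984131) (.leaf 17061955)) (.node 1 (.leaf 17059933) (.leaf 17506371)))
(.node 2 (.node 1 (.leaf 17111107) (.leaf 17109071)) (.node 1 (.leaf 17506369) (.leaf 17059919))))))
(.node 16 (.node 8 (.node 4 (.node 2 (.node 1 (.leaf 17061971) (.leaf 17459279)) (.node 1 (.leaf 17457217) (.leaf 17586255)))
(.node 2 (.node 1 (.leaf 17125457) (.leaf 17524817)) (.node 1 (.leaf 17522781) (.leaf 17508431))))
(.node 4 (.node 2 (.node 1 (.leaf 17045583) (.leaf 17508429)) (.node 1 (.leaf 17125441) (.leaf 17127519)))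
(.node 2 (.node 1 (.leaf 17649759) (.leaf 17061953)) (.node 1 (.leaf 17459277) (.leaf 16918605)))))
(.node 8 (.node 4 (.node 2 (.node 1 (.leaf 16916547) (.leaf 17442883)) (.node 1 (.leaf 16982093) (.leaf 17127501)))
(.node 2 (.node 1 (.leaf 17440845) (.leaf 16984129)) (.node 1 (.leaf 17059935) (.leaf 17459293))))
(.node 4 (.node 2 (.node 1 (.leaf 17567837) (.leaf 17569857)) (.node 1 (.leaf 17459295) (.leaf 17649741)))
(.node 2 (.node 1 (.leaf 17508447) (.leaf 17442899)) (.node 1 (.leaf 17633345) (.leaf 17457219))))))))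
(.node 64 (.node 32 (.node 16 (.node 8 (.node 4 (.node 2 (.node 1 (.leaf 17584209) (.leaf 17061969)) (.node 1 (.leaf 16934993) (.leaf 17633347)))
(.node 2 (.node 1 (.leaf 17567839) (.leaf 16982111)) (.node 1 (.leaf 16984145) (.leaf 17109087))))
(.node 4 (.node 2 (.node 1 (.leaf 17059917) (.leaf 17440863)) (.node 1 (.leaf 17506387) (.leaf 17045581)))
(.node 2 (.node 1 (.leaf 17440861) (.leaf 17109085)) (.node 1 (.leaf 17111123) (.leaf 17125443)))))
(.node 8 (.node 4 (.node 2 (.node 1 (.leaf 17442897) (.leaf 16916561)) (.node 1 (.leaf 17043523) (.leaf 16932941)))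
(.node 2 (.node 1 (.leaf 17045599) (.leaf 17524803)) (.node 1 (.leaf 17569859) (.leaf 17586269))))
(.node 4 (.node 2 (.node 1 (.leaf 17127517) (.leaf 17506385)) (.node 1 (.leaf 17457233) (.leaf 17508445)))
(.node 2 (.node 1 (.leaf 16982109) (.leaf 17045587)) (.node 1 (.leaf 16984141) (.leaf 16982081))))))
(.node 16 (.node 8 (.node 4 (.node 2 (.node 1 (.leaf 17508417) (.leaf 16916557)) (.node 1 (.leaf 17125453) (.leaf 17127507)))
(.node 2 (.node 1 (.leaf 17506381) (.leaf 16918595)) (.node 1 (.leaf 17059907) (.leaf 17061983))))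
(.node 4 (.node 2 (.node 1 (.leaf 17633359) (.leaf 16984143)) (.node 1 (.leaf 16982083) (.leaf 17457247)))
(.node 2 (.node 1 (.leaf 17000515) (.leaf 17586243)) (.node 1 (.leaf 17459267) (.leaf 16998493)))))
(.node 8 (.node 4 (.node 2 (.node 1 (.leaf 17651805) (.leaf 17524829)) (.node 1 (.leaf 17569885) (.leaf 17567811)))
(.node 2 (.node 1 (.leaf 17524831) (.leaf 17440835)) (.node 1 (.leaf 17442911) (.leaf 17127491))))
(.node 4 (.node 2 (.node 1 (.leaf 17584207) (.leaf 17506383)) (.node 1 (.leaf 17508433) (.leaf 17522755)))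
(.node 2 (.node 1 (.leaf 17635395) (.leaf 17522753)) (.node 1 (.leaf 17586259) (.leaf 17059923)))))))
(.node 32 (.node 16 (.node 8 (.node 4 (.node 2 (.node 1 (.leaf 17440833) (.leaf 16932929)) (.node 1 (.leaf 16935005) (.leaf 17457245)))
(.node 2 (.node 1 (.leaf 17000513) (.leaf 17459265)) (.node 1 (.leaf 16998495) (.leaf 17649747))))
(.node 4 (.node 2 (.node 1 (.leaf 17109073) (.leaf 17111135)) (.node 1 (.leaf 17043551) (.leaf 17442909)))
(.node 2 (.node 1 (.leaf 17125455) (.leaf 16916559)) (.node 1 (.leaf 17043549) (.leaf 17109075)))))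
(.node 8 (.node 4 (.node 2 (.node 1 (.leaf 17000531) (.leaf 17567827)) (.node 1 (.leaf 17649729) (.leaf 17459283)))
(.node 2 (.node 1 (.leaf 17635393) (.leaf 17569869)) (.node 1 (.leaf 17457231) (.leaf 16934991))))
(.node 4 (.node 2 (.node 1 (.leaf 16918593) (.leaf 17635411)) (.node 1 (.leaf 17111133) (.leaf 17442895)))
(.node 2 (.node 1 (.leaf 16916573) (.leaf 17125469)) (.node 1 (.leaf 16918611) (.leaf 17061967))))))
(.node 16 (.node 8 (.node 4 (.node 2 (.node 1 (.leaf 17061981) (.leaf 17111117)) (.node 1 (.leaf 17111119) (.leaf 17109059)))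
(.node 2 (.node 1 (.leaf 17043533) (.leaf 17043535)) (.node 1 (.leaf 17567809) (.leaf 16932947))))
(.node 4 (.node 2 (.node 1 (.leaf 17109057) (.leaf 16998467)) (.node 1 (.leaf 17000541) (.leaf 17111121)))
(.node 2 (.node 1 (.leaf 17457235) (.leaf 17522767)) (.node 1 (.leaf 17045597) (.leaf 16918623)))))
(.node 8 (.node 4 (.node 2 (.node 1 (.leaf 16984147) (.leaf 17567823)) (.node 1 (.leaf 17569875) (.leaf 17633363)))
(.node 2 (.node 1 (.leaf 17584195) (.leaf 16934979)) (.node 1 (.leaf 17633361) (.leaf 17567821))))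
(.node 4 (.node 2 (.node 1 (.leaf 17109069) (.leaf 17111105)) (.node 1 (.leaf 16932959) (.leaf 17569873)))
(.node 2 (.node 1 (.leaf 17651779) (.leaf 17651793)) (.node 1 (.leaf 16998477) (.leaf 17569887)))))))))

/-- Its index. -/
def caseDFullN7Ix : BT ℕ :=
(.node 17440833 192
(.node 17043521 0
(.node 16982081 159
(.node 16932929 193
(.node 16918593 216
(.node 16916561 145
(.node 16916557 161 (.node 16916547 112 (.node 16916545 8 .tip .tip) .tip) (.node 16916559 205 .tip .tip))
(.node 16916573 220 (.node 16916563 68 .tip .tip) (.node 16916575 28 .tip .tip)))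
(.node 16918609 32
(.node 16918605 111 (.node 16918595 165 .tip .tip) (.node 16918607 7 .tip .tip))
(.node 16918621 67 (.node 16918611 222 .tip .tip) (.node 16918623 239 .tip .tip))))
(.node 16934977 13
(.node 16932945 3
(.node 16932941 147 (.node 16932931 22 .tip .tip) (.node 16932943 77 .tip .tip))
(.node 16932957 17 (.node 16932947 231 .tip .tip) (.node 16932959 250 .tip .tip)))
(.node 16934993 130
(.node 16934989 4 (.node 16934979 245 .tip .tip) (.node 16934991 215 .tip .tip))
(.node 16935005 194 (.node 16934995 73 .tip .tip) (.node 16935007 23 .tip .tip)))))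
(.node 16998465 10
(.node 16984129 117
(.node 16982097 37
(.node 16982093 114 (.node 16982083 170 .tip .tip) (.node 16982095 84 .tip .tip))
(.node 16982109 156 (.node 16982099 26 .tip .tip) (.node 16982111 133 .tip .tip)))
(.node 16984145 134
(.node 16984141 158 (.node 16984131 88 .tip .tip) (.node 16984143 169 .tip .tip))
(.node 16984157 36 (.node 16984147 240 .tip .tip) (.node 16984159 25 .tip .tip))))
(.node 17000513 196
(.node 16998481 81
(.node 16998477 254 (.node 16998467 233 .tip .tip) (.node 16998479 43 .tip .tip))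
(.node 16998493 175 (.node 16998483 70 .tip .tip) (.node 16998495 198 .tip .tip)))
(.node 17000529 39
(.node 17000525 71 (.node 17000515 172 .tip .tip) (.node 17000527 82 .tip .tip))
(.node 17000541 234 (.node 17000531 208 .tip .tip) (.node 17000543 11 .tip .tip))))))
(.node 17109057 232
(.node 17059905 63
(.node 17045569 24
(.node 17043537 80
(.node 17043533 228 (.node 17043523 146 .tip .tip) (.node 17043535 229 .tip .tip))
(.node 17043549 206 (.node 17043539 5 .tip .tip) (.node 17043551 202 .tip .tip)))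
(.node 17045585 2
(.node 17045581 139 (.node 17045571 21 .tip .tip) (.node 17045583 104 .tip .tip))
(.node 17045597 238 (.node 17045587 157 .tip .tip) (.node 17045599 148 .tip .tip))))
(.node 17061953 109
(.node 17059921 33
(.node 17059917 136 (.node 17059907 166 .tip .tip) (.node 17059919 95 .tip .tip))
(.node 17059933 90 (.node 17059923 191 .tip .tip) (.node 17059935 118 .tip .tip)))
(.node 17061969 129
(.node 17061965 34 (.node 17061955 89 .tip .tip) (.node 17061967 223 .tip .tip))
(.node 17061981 224 (.node 17061971 96 .tip .tip) (.node 17061983 167 .tip .tip)))))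
(.node 17125441 106
(.node 17111105 249
(.node 17109073 200
(.node 17109069 248 (.node 17109059 227 .tip .tip) (.node 17109071 93 .tip .tip))
(.node 17109085 141 (.node 17109075 207 .tip .tip) (.node 17109087 135 .tip .tip)))
(.node 17111121 235
(.node 17111117 225 (.node 17111107 92 .tip .tip) (.node 17111119 226 .tip .tip))
(.node 17111133 218 (.node 17111123 142 .tip .tip) (.node 17111135 201 .tip .tip))))
(.node 17127489 30
(.node 17125457 100
(.node 17125453 162 (.node 17125443 143 .tip .tip) (.node 17125455 204 .tip .tip))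
(.node 17125469 221 (.node 17125459 86 .tip .tip) (.node 17125471 29 .tip .tip)))
(.node 17127505 54
(.node 17127501 115 (.node 17127491 183 .tip .tip) (.node 17127503 85 .tip .tip))
(.node 17127517 152 (.node 17127507 163 .tip .tip) (.node 17127519 107 .tip .tip)))))))
(.node 17567809 230
(.node 17506369 94
(.node 17457217 98
(.node 17442881 83
(.node 17440849 52
(.node 17440845 116 (.node 17440835 181 .tip .tip) (.node 17440847 87 .tip .tip))
(.node 17440861 140 (.node 17440851 65 .tip .tip) (.node 17440863 137 .tip .tip)))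
(.node 17442897 144
(.node 17442893 53 (.node 17442883 113 .tip .tip) (.node 17442895 219 .tip .tip))
(.node 17442909 203 (.node 17442899 125 .tip .tip) (.node 17442911 182 .tip .tip))))
(.node 17459265 197
(.node 17457233 154
(.node 17457229 38 (.node 17457219 127 .tip .tip) (.node 17457231 214 .tip .tip))
(.node 17457245 195 (.node 17457235 236 .tip .tip) (.node 17457247 171 .tip .tip)))
(.node 17459281 42
(.node 17459277 110 (.node 17459267 174 .tip .tip) (.node 17459279 97 .tip .tip))
(.node 17459293 119 (.node 17459283 211 .tip .tip) (.node 17459295 122 .tip .tip)))))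
(.node 17522753 189
(.node 17508417 160
(.node 17506385 153
(.node 17506381 164 (.node 17506371 91 .tip .tip) (.node 17506383 185 .tip .tip))
(.node 17506397 56 (.node 17506387 138 .tip .tip) (.node 17506399 31 .tip .tip)))
(.node 17508433 186
(.node 17508429 105 (.node 17508419 57 .tip .tip) (.node 17508431 103 .tip .tip))
(.node 17508445 155 (.node 17508435 27 .tip .tip) (.node 17508447 124 .tip .tip))))
(.node 17524801 16
(.node 17522769 58
(.node 17522765 72 (.node 17522755 187 .tip .tip) (.node 17522767 237 .tip .tip))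
(.node 17522781 102 (.node 17522771 60 .tip .tip) (.node 17522783 12 .tip .tip)))
(.node 17524817 101
(.node 17524813 49 (.node 17524803 149 .tip .tip) (.node 17524815 46 .tip .tip))
(.node 17524829 177 (.node 17524819 76 .tip .tip) (.node 17524831 180 .tip .tip))))))
(.node 17633345 126
(.node 17584193 14
(.node 17569857 121
(.node 17567825 48
(.node 17567821 247 (.node 17567811 179 .tip .tip) (.node 17567823 241 .tip .tip))
(.node 17567837 120 (.node 17567827 209 .tip .tip) (.node 17567839 132 .tip .tip)))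
(.node 17569873 251
(.node 17569869 213 (.node 17569859 150 .tip .tip) (.node 17569871 47 .tip .tip))
(.node 17569885 178 (.node 17569875 242 .tip .tip) (.node 17569887 255 .tip .tip))))
(.node 17586241 62
(.node 17584209 128
(.node 17584205 61 (.node 17584195 244 .tip .tip) (.node 17584207 184 .tip .tip))
(.node 17584221 55 (.node 17584211 74 .tip .tip) (.node 17584223 41 .tip .tip)))
(.node 17586257 40
(.node 17586253 15 (.node 17586243 173 .tip .tip) (.node 17586255 99 .tip .tip))
(.node 17586269 151 (.node 17586259 190 .tip .tip) (.node 17586271 75 .tip .tip)))))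
(.node 17649729 210
(.node 17635393 212
(.node 17633361 246
(.node 17633357 20 (.node 17633347 131 .tip .tip) (.node 17633359 168 .tip .tip))
(.node 17633373 35 (.node 17633363 243 .tip .tip) (.node 17633375 1 .tip .tip)))
(.node 17635409 59
(.node 17635405 9 (.node 17635395 188 .tip .tip) (.node 17635407 6 .tip .tip))
(.node 17635421 66 (.node 17635411 217 .tip .tip) (.node 17635423 69 .tip .tip))))
(.node 17651777 79
(.node 17649745 50
(.node 17649741 123 (.node 17649731 45 .tip .tip) (.node 17649743 78 .tip .tip))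
(.node 17649757 18 (.node 17649747 199 .tip .tip) (.node 17649759 108 .tip .tip)))
(.node 17651793 253
(.node 17651789 64 (.node 17651779 252 .tip .tip) (.node 17651791 44 .tip .tip))
(.node 17651805 176 (.node 17651795 19 .tip .tip) (.node 17651807 51 .tip .tip))))))))

/-- The reasons. -/
def caseDFullN7How : Tab (ℕ × ℕ) :=
(.node 128 (.node 64 (.node 32 (.node 16 (.node 8 (.node 4 (.node 2 (.node 1 (.leaf (0, 0)) (.leaf (68, 0))) (.node 1 (.leaf (69, 0)) (.leaf (70, 0))))
(.node 2 (.node 1 (.leaf (71, 0)) (.leaf (68, 1))) (.node 1 (.leaf (69, 1)) (.leaf (70, 1)))))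
(.node 4 (.node 2 (.node 1 (.leaf (71, 1)) (.leaf (68, 2))) (.node 1 (.leaf (70, 2)) (.leaf (71, 2))))
(.node 2 (.node 1 (.leaf (68, 3)) (.leaf (69, 3))) (.node 1 (.leaf (70, 3)) (.leaf (71, 3))))))
(.node 8 (.node 4 (.node 2 (.node 1 (.leaf (68, 4)) (.leaf (69, 4))) (.node 1 (.leaf (70, 4)) (.leaf (71, 4))))
(.node 2 (.node 1 (.leaf (68, 5)) (.leaf (69, 5))) (.node 1 (.leaf (70, 5)) (.leaf (71, 5)))))
(.node 4 (.node 2 (.node 1 (.leaf (68, 6)) (.leaf (70, 6))) (.node 1 (.leaf (71, 6)) (.leaf (68, 7))))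
(.node 2 (.node 1 (.leaf (69, 7)) (.leaf (70, 7))) (.node 1 (.leaf (71, 7)) (.leaf (68, 8)))))))
(.node 16 (.node 8 (.node 4 (.node 2 (.node 1 (.leaf (69, 8)) (.leaf (70, 8))) (.node 1 (.leaf (71, 8)) (.leaf (69, 9))))
(.node 2 (.node 1 (.leaf (70, 9)) (.leaf (71, 9))) (.node 1 (.leaf (68, 10)) (.leaf (69, 10)))))
(.node 4 (.node 2 (.node 1 (.leaf (70, 10)) (.leaf (71, 10))) (.node 1 (.leaf (68, 11)) (.leaf (69, 11))))
(.node 2 (.node 1 (.leaf (70, 11)) (.leaf (71, 11))) (.node 1 (.leaf (69, 12)) (.leaf (70, 12))))))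
(.node 8 (.node 4 (.node 2 (.node 1 (.leaf (71, 12)) (.leaf (68, 13))) (.node 1 (.leaf (70, 13)) (.leaf (71, 13))))
(.node 2 (.node 1 (.leaf (70, 14)) (.leaf (71, 14))) (.node 1 (.leaf (68, 15)) (.leaf (69, 15)))))
(.node 4 (.node 2 (.node 1 (.leaf (70, 15)) (.leaf (71, 15))) (.node 1 (.leaf (69, 16)) (.leaf (70, 16))))
(.node 2 (.node 1 (.leaf (68, 17)) (.leaf (70, 17))) (.node 1 (.leaf (71, 17)) (.leaf (68, 18))))))))
(.node 32 (.node 16 (.node 8 (.node 4 (.node 2 (.node 1 (.leaf (69, 18)) (.leaf (71, 18))) (.node 1 (.leaf (69, 20)) (.leaf (70, 20))))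
(.node 2 (.node 1 (.leaf (71, 20)) (.leaf (68, 21))) (.node 1 (.leaf (70, 21)) (.leaf (71, 21)))))
(.node 4 (.node 2 (.node 1 (.leaf (68, 22)) (.leaf (69, 22))) (.node 1 (.leaf (70, 22)) (.leaf (71, 22))))
(.node 2 (.node 1 (.leaf (68, 23)) (.leaf (69, 23))) (.node 1 (.leaf (70, 23)) (.leaf (71, 23))))))
(.node 8 (.node 4 (.node 2 (.node 1 (.leaf (69, 24)) (.leaf (70, 24))) (.node 1 (.leaf (71, 24)) (.leaf (68, 25))))
(.node 2 (.node 1 (.leaf (69, 25)) (.leaf (70, 25))) (.node 1 (.leaf (71, 25)) (.leaf (68, 26)))))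
(.node 4 (.node 2 (.node 1 (.leaf (69, 26)) (.leaf (70, 26))) (.node 1 (.leaf (71, 26)) (.leaf (69, 27))))
(.node 2 (.node 1 (.leaf (70, 27)) (.leaf (71, 27))) (.node 1 (.leaf (68, 28)) (.leaf (70, 28)))))))
(.node 16 (.node 8 (.node 4 (.node 2 (.node 1 (.leaf (71, 28)) (.leaf (70, 29))) (.node 1 (.leaf (71, 29)) (.leaf (68, 30))))
(.node 2 (.node 1 (.leaf (69, 30)) (.leaf (70, 30))) (.node 1 (.leaf (71, 30)) (.leaf (69, 31)))))
(.node 4 (.node 2 (.node 1 (.leaf (70, 31)) (.leaf (68, 32))) (.node 1 (.leaf (70, 32)) (.leaf (71, 32))))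
(.node 2 (.node 1 (.leaf (68, 33)) (.leaf (69, 33))) (.node 1 (.leaf (71, 33)) (.leaf (70, 35))))))
(.node 8 (.node 4 (.node 2 (.node 1 (.leaf (71, 35)) (.leaf (68, 36))) (.node 1 (.leaf (69, 36)) (.leaf (70, 36))))
(.node 2 (.node 1 (.leaf (68, 37)) (.leaf (69, 37))) (.node 1 (.leaf (71, 37)) (.leaf (69, 38)))))
(.node 4 (.node 2 (.node 1 (.leaf (70, 38)) (.leaf (71, 38))) (.node 1 (.leaf (68, 39)) (.leaf (71, 39))))
(.node 2 (.node 1 (.leaf (71, 40)) (.leaf (71, 41))) (.node 1 (.leaf (70, 42)) (.leaf (68, 43)))))))))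
(.node 64 (.node 32 (.node 16 (.node 8 (.node 4 (.node 2 (.node 1 (.leaf (71, 43)) (.leaf (68, 44))) (.node 1 (.leaf (68, 46)) (.leaf (71, 46))))
(.node 2 (.node 1 (.leaf (69, 47)) (.leaf (70, 47))) (.node 1 (.leaf (71, 47)) (.leaf (68, 48)))))
(.node 4 (.node 2 (.node 1 (.leaf (68, 50)) (.leaf (71, 50))) (.node 1 (.leaf (71, 51)) (.leaf (71, 52))))
(.node 2 (.node 1 (.leaf (69, 53)) (.leaf (70, 53))) (.node 1 (.leaf (71, 53)) (.leaf (68, 55))))))
(.node 8 (.node 4 (.node 2 (.node 1 (.leaf (71, 55)) (.leaf (68, 56))) (.node 1 (.leaf (71, 56)) (.leaf (68, 58))))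
(.node 2 (.node 1 (.leaf (68, 59)) (.leaf (69, 60))) (.node 1 (.leaf (70, 60)) (.leaf (69, 61)))))
(.node 4 (.node 2 (.node 1 (.leaf (68, 62)) (.leaf (70, 62))) (.node 1 (.leaf (70, 63)) (.leaf (70, 64))))
(.node 2 (.node 1 (.leaf (68, 65)) (.leaf (68, 66))) (.node 1 (.leaf (70, 66)) (.leaf (71, 66)))))))
(.node 16 (.node 8 (.node 4 (.node 2 (.node 1 (.leaf (68, 67)) (.leaf (69, 67))) (.node 1 (.leaf (70, 67)) (.leaf (71, 67))))
(.node 2 (.node 1 (.leaf (68, 68)) (.leaf (69, 68))) (.node 1 (.leaf (70, 68)) (.leaf (71, 68)))))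
(.node 4 (.node 2 (.node 1 (.leaf (69, 69)) (.leaf (70, 69))) (.node 1 (.leaf (71, 69)) (.leaf (68, 70))))
(.node 2 (.node 1 (.leaf (69, 70)) (.leaf (70, 70))) (.node 1 (.leaf (68, 71)) (.leaf (69, 71))))))
(.node 8 (.node 4 (.node 2 (.node 1 (.leaf (70, 71)) (.leaf (69, 72))) (.node 1 (.leaf (70, 72)) (.leaf (71, 72))))
(.node 2 (.node 1 (.leaf (68, 73)) (.leaf (70, 74))) (.node 1 (.leaf (71, 74)) (.leaf (68, 75)))))
(.node 4 (.node 2 (.node 1 (.leaf (69, 75)) (.leaf (70, 75))) (.node 1 (.leaf (71, 75)) (.leaf (69, 76))))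
(.node 2 (.node 1 (.leaf (70, 76)) (.leaf (68, 77))) (.node 1 (.leaf (71, 77)) (.leaf (68, 78))))))))
(.node 32 (.node 16 (.node 8 (.node 4 (.node 2 (.node 1 (.leaf (71, 78)) (.leaf (70, 80))) (.node 1 (.leaf (71, 80)) (.leaf (68, 81))))
(.node 2 (.node 1 (.leaf (69, 81)) (.leaf (68, 82))) (.node 1 (.leaf (69, 82)) (.leaf (71, 82)))))
(.node 4 (.node 2 (.node 1 (.leaf (70, 83)) (.leaf (71, 83))) (.node 1 (.leaf (70, 87)) (.leaf (68, 88))))
(.node 2 (.node 1 (.leaf (71, 88)) (.leaf (68, 91))) (.node 1 (.leaf (71, 91)) (.leaf (69, 92))))))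
(.node 8 (.node 4 (.node 2 (.node 1 (.leaf (70, 92)) (.leaf (68, 93))) (.node 1 (.leaf (68, 95)) (.leaf (71, 95))))
(.node 2 (.node 1 (.leaf (71, 97)) (.leaf (71, 98))) (.node 1 (.leaf (71, 100)) (.leaf (68, 101)))))
(.node 4 (.node 2 (.node 1 (.leaf (68, 103)) (.leaf (68, 104))) (.node 1 (.leaf (70, 105)) (.leaf (70, 108))))
(.node 2 (.node 1 (.leaf (69, 111)) (.leaf (70, 111))) (.node 1 (.leaf (69, 112)) (.leaf (71, 112)))))))
(.node 16 (.node 8 (.node 4 (.node 2 (.node 1 (.leaf (70, 114)) (.leaf (68, 121))) (.node 1 (.leaf (70, 124)) (.leaf (71, 124))))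
(.node 2 (.node 1 (.leaf (68, 126)) (.leaf (68, 131))) (.node 1 (.leaf (68, 141)) (.leaf (71, 141)))))
(.node 4 (.node 2 (.node 1 (.leaf (70, 144)) (.leaf (70, 157))) (.node 1 (.leaf (71, 157)) (.leaf (70, 160))))
(.node 2 (.node 1 (.leaf (71, 162)) (.leaf (71, 163))) (.node 1 (.leaf (70, 164)) (.leaf (70, 168))))))
(.node 8 (.node 4 (.node 2 (.node 1 (.leaf (69, 170)) (.leaf (70, 171))) (.node 1 (.leaf (71, 171)) (.leaf (70, 174))))
(.node 2 (.node 1 (.leaf (71, 175)) (.leaf (68, 177))) (.node 1 (.leaf (71, 177)) (.leaf (69, 178)))))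
(.node 4 (.node 2 (.node 1 (.leaf (68, 179)) (.leaf (71, 182))) (.node 1 (.leaf (68, 187)) (.leaf (70, 189))))
(.node 2 (.node 1 (.leaf (71, 194)) (.leaf (70, 196))) (.node 1 (.leaf (69, 234)) (.leaf (71, 236))))))))))

/-- The node. -/
def caseDFullN7Node : NodeD := ⟨7, 256, caseDFullN7Els, caseDFullN7Ix, caseDFullN7How, fun b => bif b then (.node 7 (.node 3 (.node 1 (.leaf 4207) (.node 1 (.leaf 4214) (.leaf 4209)))
(.node 2 (.node 1 (.leaf 4218) (.leaf 4216)) (.node 1 (.leaf 255) (.leaf 4215))))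
(.node 3 (.node 1 (.leaf 4210) (.node 1 (.leaf 4219) (.leaf 4211)))
(.node 2 (.node 1 (.leaf 4217) (.leaf 4213)) (.node 1 (.leaf 4208) (.leaf 4212))))) else (.node 7 (.node 3 (.node 1 (.leaf 412) (.node 1 (.leaf 413) (.leaf 414)))
(.node 2 (.node 1 (.leaf 410) (.leaf 96)) (.node 1 (.leaf 97) (.leaf 58))))
(.node 3 (.node 1 (.leaf 4206) (.node 1 (.leaf 416) (.leaf 417)))
(.node 2 (.node 1 (.leaf 411) (.leaf 415)) (.node 1 (.leaf 98) (.leaf 94)))))⟩

/-- The stabiliser. -/
def caseDFullN14Els : Tab ℕ :=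
(.node 64 (.node 32 (.node 16 (.node 8 (.node 4 (.node 2 (.node 1 (.leaf 17043521) (.leaf 17567831)) (.node 1 (.leaf 17109057) (.leaf 17633349)))
(.node 2 (.node 1 (.leaf 17764421) (.leaf 17174595)) (.node 1 (.leaf 17698881) (.leaf 7161933))))
(.node 4 (.node 2 (.node 1 (.leaf 17633367) (.leaf 17109075)) (.node 1 (.leaf 17240147) (.leaf 17698901)))
(.node 2 (.node 1 (.leaf 17174615) (.leaf 6637643)) (.node 1 (.leaf 17567813) (.leaf 17698885)))))
(.node 8 (.node 4 (.node 2 (.node 1 (.leaf 17240131) (.leaf 17764417)) (.node 1 (.leaf 7096399) (.leaf 17174593)))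
(.node 2 (.node 1 (.leaf 17764423) (.leaf 17240133)) (.node 1 (.leaf 6572123) (.leaf 17633351))))
(.node 4 (.node 2 (.node 1 (.leaf 17109061) (.leaf 6703199)) (.node 1 (.leaf 17567811) (.leaf 7293003)))
(.node 2 (.node 1 (.leaf 6768729) (.leaf 7227483)) (.node 1 (.leaf 7096397) (.leaf 7293023))))))
(.node 16 (.node 8 (.node 4 (.node 2 (.node 1 (.leaf 6572111) (.leaf 6768717)) (.node 1 (.leaf 17043539) (.leaf 17174611)))
(.node 2 (.node 1 (.leaf 17764437) (.leaf 17240151)) (.node 1 (.leaf 6572105) (.leaf 17698903))))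
(.node 4 (.node 2 (.node 1 (.leaf 17240145) (.leaf 17764435)) (.node 1 (.leaf 7096413) (.leaf 17109073)))
(.node 2 (.node 1 (.leaf 17633363) (.leaf 7227481)) (.node 1 (.leaf 17043541) (.leaf 6703197)))))
(.node 8 (.node 4 (.node 2 (.node 1 (.leaf 6572107) (.leaf 7096393)) (.node 1 (.leaf 17240129) (.leaf 17698887)))
(.node 2 (.node 1 (.leaf 17174597) (.leaf 6637657)) (.node 1 (.leaf 17567815) (.leaf 17043525))))
(.node 4 (.node 2 (.node 1 (.leaf 6768733) (.leaf 17633347)) (.node 1 (.leaf 7227465) (.leaf 6703195)))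
(.node 2 (.node 1 (.leaf 7293017) (.leaf 7161935)) (.node 1 (.leaf 7227485) (.leaf 6637645)))))))
(.node 32 (.node 16 (.node 8 (.node 4 (.node 2 (.node 1 (.leaf 6703183) (.leaf 17043523)) (.node 1 (.leaf 17567809) (.leaf 7293001)))
(.node 2 (.node 1 (.leaf 17109063) (.leaf 7227471)) (.node 1 (.leaf 6637659) (.leaf 6703177))))
(.node 4 (.node 2 (.node 1 (.leaf 7161945) (.leaf 17240135)) (.node 1 (.leaf 6572121) (.leaf 7096395)))
(.node 2 (.node 1 (.leaf 6637641) (.leaf 6768735)) (.node 1 (.leaf 6572109) (.leaf 7293021)))))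
(.node 8 (.node 4 (.node 2 (.node 1 (.leaf 7096415) (.leaf 6637663)) (.node 1 (.leaf 7227467) (.leaf 6703193)))
(.node 2 (.node 1 (.leaf 7293019) (.leaf 17567829)) (.node 1 (.leaf 7227487) (.leaf 6637647))))
(.node 4 (.node 2 (.node 1 (.leaf 6703181) (.leaf 17174613)) (.node 1 (.leaf 17764439) (.leaf 17174609)))
(.node 2 (.node 1 (.leaf 17698899) (.leaf 7161951)) (.node 1 (.leaf 17043537) (.leaf 17567827))))))
(.node 16 (.node 8 (.node 4 (.node 2 (.node 1 (.leaf 17109077) (.leaf 7161931)) (.node 1 (.leaf 17043543) (.leaf 6768719)))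
(.node 2 (.node 1 (.leaf 17633361) (.leaf 7161949)) (.node 1 (.leaf 17764433) (.leaf 6768731))))
(.node 4 (.node 2 (.node 1 (.leaf 7161929) (.leaf 17698883)) (.node 1 (.leaf 17109059) (.leaf 17633345)))
(.node 2 (.node 1 (.leaf 17043527) (.leaf 7293005)) (.node 1 (.leaf 6768715) (.leaf 7096411)))))
(.node 8 (.node 4 (.node 2 (.node 1 (.leaf 17174599) (.leaf 6572125)) (.node 1 (.leaf 17633365) (.leaf 17240149)))
(.node 2 (.node 1 (.leaf 6637661) (.leaf 7161947)) (.node 1 (.leaf 6703179) (.leaf 7293007))))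
(.node 4 (.node 2 (.node 1 (.leaf 6768713) (.leaf 7096409)) (.node 1 (.leaf 7227469) (.leaf 6572127)))
(.node 2 (.node 1 (.leaf 17567825) (.leaf 17109079)) (.node 1 (.leaf 17698897) (.leaf 17764419))))))))

/-- Its index. -/
def caseDFullN14Ix : BT ℕ :=
(.node 17043521 0
(.node 7096393 49
(.node 6703177 71
(.node 6637641 76
(.node 6572121 74
(.node 6572109 78 (.node 6572107 48 (.node 6572105 38 .tip .tip) .tip) (.node 6572111 32 .tip .tip))
(.node 6572125 113 (.node 6572123 22 .tip .tip) (.node 6572127 123 .tip .tip)))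
(.node 6637657 53
(.node 6637645 63 (.node 6637643 13 .tip .tip) (.node 6637647 87 .tip .tip))
(.node 6637661 116 (.node 6637659 70 .tip .tip) (.node 6637663 81 .tip .tip))))
(.node 6768713 120
(.node 6703193 83
(.node 6703181 88 (.node 6703179 118 .tip .tip) (.node 6703183 64 .tip .tip))
(.node 6703197 47 (.node 6703195 59 .tip .tip) (.node 6703199 25 .tip .tip)))
(.node 6768729 28
(.node 6768717 33 (.node 6768715 110 .tip .tip) (.node 6768719 99 .tip .tip))
(.node 6768733 56 (.node 6768731 103 .tip .tip) (.node 6768735 77 .tip .tip)))))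
(.node 7227465 58
(.node 7161929 104
(.node 7096409 121
(.node 7096397 30 (.node 7096395 75 .tip .tip) (.node 7096399 18 .tip .tip))
(.node 7096413 42 (.node 7096411 111 .tip .tip) (.node 7096415 80 .tip .tip)))
(.node 7161945 72
(.node 7161933 7 (.node 7161931 97 .tip .tip) (.node 7161935 61 .tip .tip))
(.node 7161949 101 (.node 7161947 117 .tip .tip) (.node 7161951 93 .tip .tip))))
(.node 7293001 67
(.node 7227481 45
(.node 7227469 122 (.node 7227467 82 .tip .tip) (.node 7227471 69 .tip .tip))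
(.node 7227485 62 (.node 7227483 29 .tip .tip) (.node 7227487 86 .tip .tip)))
(.node 7293017 60
(.node 7293005 109 (.node 7293003 27 .tip .tip) (.node 7293007 119 .tip .tip))
(.node 7293021 79 (.node 7293019 84 .tip .tip) (.node 7293023 31 .tip .tip))))))
(.node 17567809 66
(.node 17174593 19
(.node 17109057 2
(.node 17043537 94
(.node 17043525 55 (.node 17043523 65 .tip .tip) (.node 17043527 108 .tip .tip))
(.node 17043541 46 (.node 17043539 34 .tip .tip) (.node 17043543 98 .tip .tip)))
(.node 17109073 43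
(.node 17109061 24 (.node 17109059 106 .tip .tip) (.node 17109063 68 .tip .tip))
(.node 17109077 96 (.node 17109075 9 .tip .tip) (.node 17109079 125 .tip .tip))))
(.node 17240129 50
(.node 17174609 91
(.node 17174597 52 (.node 17174595 5 .tip .tip) (.node 17174599 112 .tip .tip))
(.node 17174613 89 (.node 17174611 35 .tip .tip) (.node 17174615 12 .tip .tip)))
(.node 17240145 40
(.node 17240133 21 (.node 17240131 16 .tip .tip) (.node 17240135 73 .tip .tip))
(.node 17240149 115 (.node 17240147 10 .tip .tip) (.node 17240151 37 .tip .tip)))))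
(.node 17698881 6
(.node 17633345 107
(.node 17567825 124
(.node 17567813 14 (.node 17567811 26 .tip .tip) (.node 17567815 54 .tip .tip))
(.node 17567829 85 (.node 17567827 95 .tip .tip) (.node 17567831 1 .tip .tip)))
(.node 17633361 100
(.node 17633349 3 (.node 17633347 57 .tip .tip) (.node 17633351 23 .tip .tip))
(.node 17633365 114 (.node 17633363 44 .tip .tip) (.node 17633367 8 .tip .tip))))
(.node 17764417 17
(.node 17698897 126
(.node 17698885 15 (.node 17698883 105 .tip .tip) (.node 17698887 51 .tip .tip))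
(.node 17698901 11 (.node 17698899 92 .tip .tip) (.node 17698903 39 .tip .tip)))
(.node 17764433 102
(.node 17764421 4 (.node 17764419 127 .tip .tip) (.node 17764423 20 .tip .tip))
(.node 17764437 36 (.node 17764435 41 .tip .tip) (.node 17764439 90 .tip .tip)))))))

/-- The reasons. -/
def caseDFullN14How : Tab (ℕ × ℕ) :=
(.node 64 (.node 32 (.node 16 (.node 8 (.node 4 (.node 2 (.node 1 (.leaf (0, 0)) (.leaf (105, 0))) (.node 1 (.leaf (106, 0)) (.leaf (107, 0))))
(.node 2 (.node 1 (.leaf (108, 0)) (.leaf (109, 0))) (.node 1 (.leaf (110, 0)) (.leaf (132, 0)))))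
(.node 4 (.node 2 (.node 1 (.leaf (106, 1)) (.leaf (107, 1))) (.node 1 (.leaf (108, 1)) (.leaf (109, 1))))
(.node 2 (.node 1 (.leaf (110, 1)) (.leaf (132, 1))) (.node 1 (.leaf (107, 2)) (.leaf (108, 2))))))
(.node 8 (.node 4 (.node 2 (.node 1 (.leaf (109, 2)) (.leaf (110, 2))) (.node 1 (.leaf (132, 2)) (.leaf (108, 3))))
(.node 2 (.node 1 (.leaf (109, 3)) (.leaf (110, 3))) (.node 1 (.leaf (132, 3)) (.leaf (109, 4)))))
(.node 4 (.node 2 (.node 1 (.leaf (110, 4)) (.leaf (132, 4))) (.node 1 (.leaf (110, 5)) (.leaf (132, 5))))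
(.node 2 (.node 1 (.leaf (132, 6)) (.leaf (105, 7))) (.node 1 (.leaf (106, 7)) (.leaf (107, 7)))))))
(.node 16 (.node 8 (.node 4 (.node 2 (.node 1 (.leaf (109, 7)) (.leaf (110, 7))) (.node 1 (.leaf (107, 8)) (.leaf (108, 8))))
(.node 2 (.node 1 (.leaf (109, 8)) (.leaf (110, 8))) (.node 1 (.leaf (132, 8)) (.leaf (108, 9)))))
(.node 4 (.node 2 (.node 1 (.leaf (109, 9)) (.leaf (110, 9))) (.node 1 (.leaf (132, 9)) (.leaf (109, 10))))
(.node 2 (.node 1 (.leaf (110, 10)) (.leaf (132, 10))) (.node 1 (.leaf (110, 11)) (.leaf (105, 13))))))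
(.node 8 (.node 4 (.node 2 (.node 1 (.leaf (106, 13)) (.leaf (109, 13))) (.node 1 (.leaf (108, 14)) (.leaf (109, 14))))
(.node 2 (.node 1 (.leaf (110, 14)) (.leaf (132, 14))) (.node 1 (.leaf (109, 15)) (.leaf (110, 15)))))
(.node 4 (.node 2 (.node 1 (.leaf (132, 15)) (.leaf (110, 16))) (.node 1 (.leaf (132, 16)) (.leaf (132, 17))))
(.node 2 (.node 1 (.leaf (105, 18)) (.leaf (106, 18))) (.node 1 (.leaf (107, 18)) (.leaf (109, 18))))))))
(.node 32 (.node 16 (.node 8 (.node 4 (.node 2 (.node 1 (.leaf (110, 18)) (.leaf (109, 19))) (.node 1 (.leaf (110, 19)) (.leaf (132, 19))))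
(.node 2 (.node 1 (.leaf (110, 20)) (.leaf (132, 21))) (.node 1 (.leaf (106, 22)) (.leaf (107, 22)))))
(.node 4 (.node 2 (.node 1 (.leaf (109, 22)) (.leaf (110, 23))) (.node 1 (.leaf (132, 23)) (.leaf (132, 24))))
(.node 2 (.node 1 (.leaf (105, 25)) (.leaf (106, 25))) (.node 1 (.leaf (107, 25)) (.leaf (109, 25))))))
(.node 8 (.node 4 (.node 2 (.node 1 (.leaf (110, 25)) (.leaf (132, 26))) (.node 1 (.leaf (106, 27)) (.leaf (106, 28))))
(.node 2 (.node 1 (.leaf (106, 29)) (.leaf (132, 29))) (.node 1 (.leaf (107, 30)) (.leaf (109, 30)))))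
(.node 4 (.node 2 (.node 1 (.leaf (110, 30)) (.leaf (132, 32))) (.node 1 (.leaf (108, 34)) (.leaf (109, 34))))
(.node 2 (.node 1 (.leaf (110, 34)) (.leaf (132, 34))) (.node 1 (.leaf (109, 35)) (.leaf (110, 35)))))))
(.node 16 (.node 8 (.node 4 (.node 2 (.node 1 (.leaf (110, 36)) (.leaf (109, 38))) (.node 1 (.leaf (110, 39)) (.leaf (132, 39))))
(.node 2 (.node 1 (.leaf (110, 40)) (.leaf (106, 42))) (.node 1 (.leaf (110, 43)) (.leaf (109, 45)))))
(.node 4 (.node 2 (.node 1 (.leaf (109, 48)) (.leaf (132, 49))) (.node 1 (.leaf (109, 50)) (.leaf (110, 50))))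
(.node 2 (.node 1 (.leaf (110, 51)) (.leaf (132, 52))) (.node 1 (.leaf (107, 53)) (.leaf (109, 53))))))
(.node 8 (.node 4 (.node 2 (.node 1 (.leaf (110, 54)) (.leaf (132, 57))) (.node 1 (.leaf (132, 60)) (.leaf (132, 63))))
(.node 2 (.node 1 (.leaf (132, 66)) (.leaf (107, 67))) (.node 1 (.leaf (109, 67)) (.leaf (106, 69)))))
(.node 4 (.node 2 (.node 1 (.leaf (107, 70)) (.leaf (109, 70))) (.node 1 (.leaf (132, 73)) (.leaf (106, 81))))
(.node 2 (.node 1 (.leaf (132, 86)) (.leaf (110, 90))) (.node 1 (.leaf (110, 94)) (.leaf (132, 97)))))))))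

/-- The node. -/
def caseDFullN14Node : NodeD := ⟨14, 128, caseDFullN14Els, caseDFullN14Ix, caseDFullN14How, fun b => bif b then (.node 7 (.node 3 (.node 1 (.leaf 4224) (.node 1 (.leaf 4231) (.leaf 4226)))
(.node 2 (.node 1 (.leaf 4236) (.leaf 4234)) (.node 1 (.leaf 4232) (.leaf 4233))))
(.node 3 (.node 1 (.leaf 4227) (.node 1 (.leaf 4237) (.leaf 4228)))
(.node 2 (.node 1 (.leaf 4235) (.leaf 4230)) (.node 1 (.leaf 4225) (.leaf 4229))))) else (.node 7 (.node 3 (.node 1 (.leaf 4223) (.node 1 (.leaf 133) (.leaf 281)))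
(.node 2 (.node 1 (.leaf 284) (.leaf 286)) (.node 1 (.leaf 287) (.leaf 95))))
(.node 3 (.node 1 (.leaf 4222) (.node 1 (.leaf 4221) (.leaf 4220)))
(.node 2 (.node 1 (.leaf 282) (.leaf 283)) (.node 1 (.leaf 285) (.leaf 288)))))⟩

/-- The stabiliser. -/
def caseDFullN19Els : Tab ℕ :=
(.node 96 (.node 48 (.node 24 (.node 12 (.node 6 (.node 3 (.node 1 (.leaf 17043521) (.node 1 (.leaf 9187401) (.leaf 19746897))) (.node 1 (.leaf 9197641) (.node 1 (.leaf 25710673) (.leaf 11079745))))
(.node 3 (.node 1 (.leaf 25696337) (.node 1 (.leaf 27539531) (.leaf 17111107))) (.node 1 (.leaf 27529291) (.node 1 (.leaf 25704529) (.leaf 11106369)))))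
(.node 6 (.node 3 (.node 1 (.leaf 25718865) (.node 1 (.leaf 27603017) (.leaf 17053761))) (.node 1 (.leaf 19683411) (.node 1 (.leaf 9254987) (.leaf 19673171))))
(.node 3 (.node 1 (.leaf 17061953) (.node 1 (.leaf 27621449) (.leaf 17068097))) (.node 1 (.leaf 8984643) (.node 1 (.leaf 9001027) (.leaf 11350089))))))
(.node 12 (.node 6 (.node 3 (.node 1 (.leaf 11358281) (.node 1 (.leaf 8990787) (.leaf 25720913))) (.node 1 (.leaf 9007171) (.node 1 (.leaf 17070145) (.leaf 27613257))))
(.node 3 (.node 1 (.leaf 17059905) (.node 1 (.leaf 9261131) (.leaf 17051713))) (.node 1 (.leaf 27594825) (.node 1 (.leaf 17045569) (.leaf 11016259)))))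
(.node 6 (.node 3 (.node 1 (.leaf 25778259) (.node 1 (.leaf 11030595) (.leaf 9181257))) (.node 1 (.leaf 19757137) (.node 1 (.leaf 9203785) (.leaf 25507915))))
(.node 3 (.node 1 (.leaf 25499723) (.node 1 (.leaf 27873361) (.leaf 27856977))) (.node 1 (.leaf 25514059) (.node 1 (.leaf 25522251) (.leaf 9205833)))))))
(.node 24 (.node 12 (.node 6 (.node 3 (.node 1 (.leaf 19732561) (.node 1 (.leaf 9179209) (.leaf 25759827))) (.node 1 (.leaf 9195593) (.node 1 (.leaf 19738705) (.leaf 9189449))))
(.node 3 (.node 1 (.leaf 11286603) (.node 1 (.leaf 19730513) (.leaf 11302987))) (.node 1 (.leaf 19755089) (.node 1 (.leaf 27809875) (.leaf 27791443)))))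
(.node 6 (.node 3 (.node 1 (.leaf 27801683) (.node 1 (.leaf 9009219) (.leaf 27816019))) (.node 1 (.leaf 11276363) (.node 1 (.leaf 27596873) (.leaf 19740753))))
(.node 3 (.node 1 (.leaf 11292747) (.node 1 (.leaf 19748945) (.leaf 11038787))) (.node 1 (.leaf 25768019) (.node 1 (.leaf 11024451) (.leaf 27867217))))))
(.node 12 (.node 6 (.node 3 (.node 1 (.leaf 27883601) (.node 1 (.leaf 25786451) (.leaf 17651795))) (.node 1 (.leaf 17643603) (.node 1 (.leaf 19206209) (.leaf 19214401))))
(.node 3 (.node 1 (.leaf 17633363) (.node 1 (.leaf 17657939) (.leaf 11089985))) (.node 1 (.leaf 25702481) (.node 1 (.leaf 17117251) (.leaf 25694289)))))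
(.node 6 (.node 3 (.node 1 (.leaf 11096129) (.node 1 (.leaf 25712721) (.leaf 11087937))) (.node 1 (.leaf 27818067) (.node 1 (.leaf 11104321) (.leaf 19142723))))
(.node 3 (.node 1 (.leaf 19148867) (.node 1 (.leaf 19159107) (.leaf 25524299))) (.node 1 (.leaf 19165251) (.node 1 (.leaf 27799635) (.leaf 11098177))))))))
(.node 48 (.node 24 (.node 12 (.node 6 (.node 3 (.node 1 (.leaf 11081793) (.node 1 (.leaf 27553867) (.leaf 17125443))) (.node 1 (.leaf 27547723) (.node 1 (.leaf 19224641) (.leaf 19232833))))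
(.node 3 (.node 1 (.leaf 17135683) (.node 1 (.leaf 8917057) (.leaf 25761875))) (.node 1 (.leaf 27555915) (.node 1 (.leaf 17127491) (.leaf 27545675)))))
(.node 6 (.node 3 (.node 1 (.leaf 8933441) (.node 1 (.leaf 27531339) (.leaf 17119299))) (.node 1 (.leaf 27537483) (.node 1 (.leaf 25440329) (.leaf 25458761))))
(.node 3 (.node 1 (.leaf 17133635) (.node 1 (.leaf 25448521) (.leaf 11294795))) (.node 1 (.leaf 25434185) (.node 1 (.leaf 17109059) (.leaf 25784403))))))
(.node 12 (.node 6 (.node 3 (.node 1 (.leaf 8927297) (.node 1 (.leaf 11022403) (.leaf 11040835))) (.node 1 (.leaf 8943681) (.node 1 (.leaf 17641555) (.leaf 17649747))))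
(.node 3 (.node 1 (.leaf 17659987) (.node 1 (.leaf 17635411) (.leaf 25497675))) (.node 1 (.leaf 27611209) (.node 1 (.leaf 19167299) (.leaf 27619401)))))
(.node 6 (.node 3 (.node 1 (.leaf 11278411) (.node 1 (.leaf 11300939) (.leaf 19157059))) (.node 1 (.leaf 27605065) (.node 1 (.leaf 19689555) (.leaf 9244747))))
(.node 3 (.node 1 (.leaf 19667027) (.node 1 (.leaf 11343945) (.leaf 11368521))) (.node 1 (.leaf 9271371) (.node 1 (.leaf 19691603) (.leaf 9246795)))))))
(.node 24 (.node 12 (.node 6 (.node 3 (.node 1 (.leaf 19664979) (.node 1 (.leaf 25432137) (.leaf 19675219))) (.node 1 (.leaf 9263179) (.node 1 (.leaf 19681363) (.leaf 17584209))))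
(.node 3 (.node 1 (.leaf 17594449) (.node 1 (.leaf 9269323) (.leaf 17567825))) (.node 1 (.leaf 27793491) (.node 1 (.leaf 17578065) (.leaf 9252939)))))
(.node 6 (.node 3 (.node 1 (.leaf 25450569) (.node 1 (.leaf 8998979) (.leaf 8982595))) (.node 1 (.leaf 8992835) (.node 1 (.leaf 19222593) (.leaf 19230785))))
(.node 3 (.node 1 (.leaf 11366473) (.node 1 (.leaf 11341897) (.leaf 8935489))) (.node 1 (.leaf 27859025) (.node 1 (.leaf 11360329) (.leaf 11352137))))))
(.node 12 (.node 6 (.node 3 (.node 1 (.leaf 8941633) (.node 1 (.leaf 27865169) (.leaf 25770067))) (.node 1 (.leaf 19216449) (.node 1 (.leaf 19208257) (.leaf 19140675))))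
(.node 3 (.node 1 (.leaf 19150915) (.node 1 (.leaf 17576017) (.leaf 11032643))) (.node 1 (.leaf 11014211) (.node 1 (.leaf 8925249) (.leaf 25776211)))))
(.node 6 (.node 3 (.node 1 (.leaf 17569873) (.node 1 (.leaf 25505867) (.leaf 25516107))) (.node 1 (.leaf 27881553) (.node 1 (.leaf 27875409) (.leaf 25456713))))
(.node 3 (.node 1 (.leaf 11284555) (.node 1 (.leaf 27807827) (.leaf 17592401))) (.node 1 (.leaf 17586257) (.node 1 (.leaf 8919105) (.leaf 25442377)))))))))

/-- Its index. -/
def caseDFullN19Ix : BT ℕ :=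
(.node 19140675 173
(.node 11276363 63
(.node 9244747 137
(.node 8998979 157
(.node 8941633 168
(.node 8927297 120 (.node 8919105 190 (.node 8917057 103 .tip .tip) (.node 8925249 178 .tip .tip)) (.node 8935489 164 (.node 8933441 108 .tip .tip) .tip))
(.node 8984643 21 (.node 8982595 158 (.node 8943681 123 .tip .tip) .tip) (.node 8992835 159 (.node 8990787 25 .tip .tip) .tip)))
(.node 9187401 1
(.node 9009219 61 (.node 9007171 27 (.node 9001027 22 .tip .tip) .tip) (.node 9181257 38 (.node 9179209 49 .tip .tip) .tip))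
(.node 9197641 3 (.node 9195593 51 (.node 9189449 53 .tip .tip) .tip) (.node 9205833 47 (.node 9203785 40 .tip .tip) .tip))))
(.node 11030595 37
(.node 9269323 151
(.node 9254987 16 (.node 9252939 155 (.node 9246795 143 .tip .tip) .tip) (.node 9263179 147 (.node 9261131 31 .tip .tip) .tip))
(.node 11016259 35 (.node 11014211 177 (.node 9271371 141 .tip .tip) .tip) (.node 11024451 70 (.node 11022403 121 .tip .tip) .tip)))
(.node 11087937 86
(.node 11040835 122 (.node 11038787 68 (.node 11032643 176 .tip .tip) .tip) (.node 11081793 96 (.node 11079745 5 .tip .tip) .tip))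
(.node 11098177 95 (.node 11096129 84 (.node 11089985 80 .tip .tip) .tip) (.node 11106369 11 (.node 11104321 88 .tip .tip) .tip)))))
(.node 17109059 118
(.node 11358281 24
(.node 11300939 133
(.node 11286603 54 (.node 11284555 186 (.node 11278411 132 .tip .tip) .tip) (.node 11294795 116 (.node 11292747 66 .tip .tip) .tip))
(.node 11343945 139 (.node 11341897 163 (.node 11302987 56 .tip .tip) .tip) (.node 11352137 167 (.node 11350089 23 .tip .tip) .tip)))
(.node 17051713 32
(.node 11368521 140 (.node 11366473 162 (.node 11360329 166 .tip .tip) .tip) (.node 17045569 34 (.node 17043521 0 .tip .tip) .tip))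
(.node 17061953 18 (.node 17059905 30 (.node 17053761 14 .tip .tip) .tip) (.node 17070145 28 (.node 17068097 20 .tip .tip) .tip))))
(.node 17584209 149
(.node 17133635 114
(.node 17119299 110 (.node 17117251 82 (.node 17111107 8 .tip .tip) .tip) (.node 17127491 106 (.node 17125443 98 .tip .tip) .tip))
(.node 17569873 180 (.node 17567825 152 (.node 17135683 102 .tip .tip) .tip) (.node 17578065 154 (.node 17576017 175 .tip .tip) .tip)))
(.node 17641555 124
(.node 17594449 150 (.node 17592401 188 (.node 17586257 189 .tip .tip) .tip) (.node 17635411 127 (.node 17633363 78 .tip .tip) .tip))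
(.node 17651795 74 (.node 17649747 125 (.node 17643603 75 .tip .tip) .tip) (.node 17659987 126 (.node 17657939 79 .tip .tip) .tip))))))
(.node 25694289 83
(.node 19730513 55
(.node 19222593 160
(.node 19165251 93
(.node 19150915 174 (.node 19148867 90 (.node 19142723 89 .tip .tip) .tip) (.node 19159107 91 (.node 19157059 134 .tip .tip) .tip))
(.node 19208257 172 (.node 19206209 76 (.node 19167299 130 .tip .tip) .tip) (.node 19216449 171 (.node 19214401 77 .tip .tip) .tip)))
(.node 19673171 17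
(.node 19232833 101 (.node 19230785 161 (.node 19224641 100 .tip .tip) .tip) (.node 19667027 138 (.node 19664979 144 .tip .tip) .tip))
(.node 19683411 15 (.node 19681363 148 (.node 19675219 146 .tip .tip) .tip) (.node 19691603 142 (.node 19689555 136 .tip .tip) .tip))))
(.node 25448521 115
(.node 19755089 57
(.node 19740753 65 (.node 19738705 52 (.node 19732561 48 .tip .tip) .tip) (.node 19748945 67 (.node 19746897 2 .tip .tip) .tip))
(.node 25434185 117 (.node 25432137 145 (.node 19757137 39 .tip .tip) .tip) (.node 25442377 191 (.node 25440329 112 .tip .tip) .tip)))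
(.node 25505867 181
(.node 25458761 113 (.node 25456713 185 (.node 25450569 156 .tip .tip) .tip) (.node 25499723 42 (.node 25497675 128 .tip .tip) .tip))
(.node 25516107 182 (.node 25514059 45 (.node 25507915 41 .tip .tip) .tip) (.node 25524299 92 (.node 25522251 46 .tip .tip) .tip)))))
(.node 27594825 33
(.node 25776211 179
(.node 25718865 12
(.node 25704529 10 (.node 25702481 81 (.node 25696337 6 .tip .tip) .tip) (.node 25712721 85 (.node 25710673 4 .tip .tip) .tip))
(.node 25761875 104 (.node 25759827 50 (.node 25720913 26 .tip .tip) .tip) (.node 25770067 170 (.node 25768019 69 .tip .tip) .tip)))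
(.node 27537483 111
(.node 25786451 73 (.node 25784403 119 (.node 25778259 36 .tip .tip) .tip) (.node 27531339 109 (.node 27529291 9 .tip .tip) .tip))
(.node 27547723 99 (.node 27545675 107 (.node 27539531 7 .tip .tip) .tip) (.node 27555915 105 (.node 27553867 97 .tip .tip) .tip))))
(.node 27807827 187
(.node 27619401 131
(.node 27605065 135 (.node 27603017 13 (.node 27596873 64 .tip .tip) .tip) (.node 27613257 29 (.node 27611209 129 .tip .tip) .tip))
(.node 27793491 153 (.node 27791443 59 (.node 27621449 19 .tip .tip) .tip) (.node 27801683 60 (.node 27799635 94 .tip .tip) .tip)))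
(.node 27865169 169
(.node 27818067 87 (.node 27816019 62 (.node 27809875 58 .tip .tip) .tip) (.node 27859025 165 (.node 27856977 44 .tip .tip) .tip))
(.node 27875409 184 (.node 27873361 43 (.node 27867217 71 .tip .tip) .tip) (.node 27883601 72 (.node 27881553 183 .tip .tip) .tip)))))))

/-- The reasons. -/
def caseDFullN19How : Tab (ℕ × ℕ) :=
(.node 96 (.node 48 (.node 24 (.node 12 (.node 6 (.node 3 (.node 1 (.leaf (0, 0)) (.node 1 (.leaf (153, 0)) (.leaf (154, 0)))) (.node 1 (.leaf (155, 0)) (.node 1 (.leaf (153, 1)) (.leaf (154, 1)))))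
(.node 3 (.node 1 (.leaf (155, 1)) (.node 1 (.leaf (153, 2)) (.leaf (154, 2)))) (.node 1 (.leaf (155, 2)) (.node 1 (.leaf (153, 3)) (.leaf (154, 3))))))
(.node 6 (.node 3 (.node 1 (.leaf (155, 3)) (.node 1 (.leaf (154, 4)) (.leaf (155, 4)))) (.node 1 (.leaf (153, 5)) (.node 1 (.leaf (154, 5)) (.leaf (155, 5)))))
(.node 3 (.node 1 (.leaf (153, 6)) (.node 1 (.leaf (154, 6)) (.leaf (155, 6)))) (.node 1 (.leaf (153, 7)) (.node 1 (.leaf (155, 7)) (.leaf (153, 8)))))))
(.node 12 (.node 6 (.node 3 (.node 1 (.leaf (155, 8)) (.node 1 (.leaf (153, 9)) (.leaf (154, 9)))) (.node 1 (.leaf (155, 9)) (.node 1 (.leaf (153, 10)) (.leaf (154, 10)))))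
(.node 3 (.node 1 (.leaf (155, 10)) (.node 1 (.leaf (154, 11)) (.leaf (153, 12)))) (.node 1 (.leaf (154, 12)) (.node 1 (.leaf (155, 12)) (.leaf (153, 13))))))
(.node 6 (.node 3 (.node 1 (.leaf (154, 13)) (.node 1 (.leaf (155, 13)) (.leaf (153, 14)))) (.node 1 (.leaf (154, 14)) (.node 1 (.leaf (155, 14)) (.leaf (153, 15)))))
(.node 3 (.node 1 (.leaf (155, 15)) (.node 1 (.leaf (153, 16)) (.leaf (155, 16)))) (.node 1 (.leaf (153, 17)) (.node 1 (.leaf (155, 17)) (.leaf (153, 18))))))))
(.node 24 (.node 12 (.node 6 (.node 3 (.node 1 (.leaf (154, 18)) (.node 1 (.leaf (155, 18)) (.leaf (154, 19)))) (.node 1 (.leaf (153, 20)) (.node 1 (.leaf (154, 20)) (.leaf (155, 20)))))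
(.node 3 (.node 1 (.leaf (154, 21)) (.node 1 (.leaf (153, 22)) (.leaf (154, 22)))) (.node 1 (.leaf (155, 22)) (.node 1 (.leaf (153, 23)) (.leaf (155, 23))))))
(.node 6 (.node 3 (.node 1 (.leaf (153, 24)) (.node 1 (.leaf (154, 24)) (.leaf (155, 24)))) (.node 1 (.leaf (154, 25)) (.node 1 (.leaf (154, 26)) (.leaf (153, 27)))))
(.node 3 (.node 1 (.leaf (154, 27)) (.node 1 (.leaf (155, 27)) (.leaf (153, 29)))) (.node 1 (.leaf (154, 29)) (.node 1 (.leaf (155, 29)) (.leaf (153, 31)))))))
(.node 12 (.node 6 (.node 3 (.node 1 (.leaf (155, 31)) (.node 1 (.leaf (154, 33)) (.leaf (153, 35)))) (.node 1 (.leaf (155, 35)) (.node 1 (.leaf (153, 36)) (.leaf (155, 36)))))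
(.node 3 (.node 1 (.leaf (153, 37)) (.node 1 (.leaf (155, 37)) (.leaf (154, 38)))) (.node 1 (.leaf (155, 38)) (.node 1 (.leaf (154, 39)) (.leaf (153, 40))))))
(.node 6 (.node 3 (.node 1 (.leaf (154, 40)) (.node 1 (.leaf (155, 40)) (.leaf (153, 42)))) (.node 1 (.leaf (154, 42)) (.node 1 (.leaf (155, 42)) (.leaf (153, 43)))))
(.node 3 (.node 1 (.leaf (155, 43)) (.node 1 (.leaf (153, 44)) (.leaf (154, 44)))) (.node 1 (.leaf (155, 44)) (.node 1 (.leaf (154, 45)) (.leaf (153, 46)))))))))
(.node 48 (.node 24 (.node 12 (.node 6 (.node 3 (.node 1 (.leaf (155, 46)) (.node 1 (.leaf (153, 48)) (.leaf (154, 48)))) (.node 1 (.leaf (155, 48)) (.node 1 (.leaf (153, 50)) (.leaf (155, 50)))))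
(.node 3 (.node 1 (.leaf (154, 52)) (.node 1 (.leaf (154, 54)) (.leaf (155, 54)))) (.node 1 (.leaf (153, 55)) (.node 1 (.leaf (154, 55)) (.leaf (155, 55))))))
(.node 6 (.node 3 (.node 1 (.leaf (154, 56)) (.node 1 (.leaf (153, 57)) (.leaf (154, 57)))) (.node 1 (.leaf (155, 57)) (.node 1 (.leaf (154, 58)) (.leaf (154, 59)))))
(.node 3 (.node 1 (.leaf (155, 59)) (.node 1 (.leaf (154, 60)) (.leaf (154, 61)))) (.node 1 (.leaf (154, 62)) (.node 1 (.leaf (155, 62)) (.leaf (153, 63)))))))
(.node 12 (.node 6 (.node 3 (.node 1 (.leaf (154, 63)) (.node 1 (.leaf (153, 64)) (.leaf (155, 64)))) (.node 1 (.leaf (154, 66)) (.node 1 (.leaf (153, 68)) (.leaf (155, 68)))))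
(.node 3 (.node 1 (.leaf (153, 70)) (.node 1 (.leaf (155, 70)) (.leaf (154, 72)))) (.node 1 (.leaf (153, 75)) (.node 1 (.leaf (154, 75)) (.leaf (155, 75))))))
(.node 6 (.node 3 (.node 1 (.leaf (153, 77)) (.node 1 (.leaf (155, 77)) (.leaf (154, 78)))) (.node 1 (.leaf (155, 79)) (.node 1 (.leaf (153, 80)) (.leaf (154, 80)))))
(.node 3 (.node 1 (.leaf (155, 80)) (.node 1 (.leaf (153, 82)) (.leaf (155, 82)))) (.node 1 (.leaf (154, 84)) (.node 1 (.leaf (153, 86)) (.leaf (154, 86))))))))
(.node 24 (.node 12 (.node 6 (.node 3 (.node 1 (.leaf (155, 86)) (.node 1 (.leaf (154, 87)) (.leaf (153, 88)))) (.node 1 (.leaf (154, 88)) (.node 1 (.leaf (155, 88)) (.leaf (154, 89)))))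
(.node 3 (.node 1 (.leaf (154, 90)) (.node 1 (.leaf (155, 90)) (.leaf (154, 91)))) (.node 1 (.leaf (154, 92)) (.node 1 (.leaf (154, 93)) (.leaf (155, 93))))))
(.node 6 (.node 3 (.node 1 (.leaf (154, 94)) (.node 1 (.leaf (153, 97)) (.leaf (155, 97)))) (.node 1 (.leaf (155, 99)) (.node 1 (.leaf (153, 104)) (.leaf (155, 104)))))
(.node 3 (.node 1 (.leaf (153, 106)) (.node 1 (.leaf (155, 106)) (.leaf (155, 112)))) (.node 1 (.leaf (154, 113)) (.node 1 (.leaf (153, 114)) (.leaf (155, 114)))))))
(.node 12 (.node 6 (.node 3 (.node 1 (.leaf (153, 115)) (.node 1 (.leaf (154, 115)) (.leaf (153, 116)))) (.node 1 (.leaf (153, 119)) (.node 1 (.leaf (155, 119)) (.leaf (154, 125)))))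
(.node 3 (.node 1 (.leaf (154, 126)) (.node 1 (.leaf (154, 130)) (.leaf (153, 131)))) (.node 1 (.leaf (155, 131)) (.node 1 (.leaf (154, 132)) (.leaf (155, 133))))))
(.node 6 (.node 3 (.node 1 (.leaf (154, 134)) (.node 1 (.leaf (155, 136)) (.leaf (155, 138)))) (.node 1 (.leaf (153, 143)) (.node 1 (.leaf (155, 151)) (.leaf (153, 152)))))
(.node 3 (.node 1 (.leaf (154, 158)) (.node 1 (.leaf (155, 162)) (.leaf (155, 164)))) (.node 1 (.leaf (155, 168)) (.node 1 (.leaf (155, 185)) (.leaf (154, 187))))))))))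

/-- The node. -/
def caseDFullN19Node : NodeD := ⟨19, 192, caseDFullN19Els, caseDFullN19Ix, caseDFullN19How, fun b => bif b then (.node 7 (.node 3 (.node 1 (.leaf 142) (.node 1 (.leaf 4252) (.leaf 4247)))
(.node 2 (.node 1 (.leaf 4257) (.leaf 4255)) (.node 1 (.leaf 4253) (.leaf 4254))))
(.node 3 (.node 1 (.leaf 4248) (.node 1 (.leaf 4258) (.leaf 4249)))
(.node 2 (.node 1 (.leaf 4256) (.leaf 4251)) (.node 1 (.leaf 4246) (.leaf 4250))))) else (.node 7 (.node 3 (.node 1 (.leaf 4243) (.node 1 (.leaf 4242) (.leaf 180)))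
(.node 2 (.node 1 (.leaf 176) (.leaf 4241)) (.node 1 (.leaf 4240) (.leaf 178))))
(.node 3 (.node 1 (.leaf 177) (.node 1 (.leaf 4239) (.leaf 4238)))
(.node 2 (.node 1 (.leaf 179) (.leaf 174)) (.node 1 (.leaf 4244) (.leaf 4245)))))⟩

/-- The stabiliser. -/
def caseDFullN25Els : Tab ℕ :=
(.node 16 (.node 8 (.node 4 (.node 2 (.node 1 (.leaf 17043521) (.leaf 17111107)) (.node 1 (.leaf 17567809) (.leaf 16984157)))
(.node 2 (.node 1 (.leaf 17109057) (.leaf 17635395)) (.node 1 (.leaf 16916575) (.leaf 17045571))))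
(.node 4 (.node 2 (.node 1 (.leaf 17000525) (.leaf 17633345)) (.node 1 (.leaf 17508445) (.leaf 16918621)))
(.node 2 (.node 1 (.leaf 16982111) (.leaf 16932943)) (.node 1 (.leaf 17569859) (.leaf 17440863)))))
(.node 8 (.node 4 (.node 2 (.node 1 (.leaf 17524813) (.leaf 16934989)) (.node 1 (.leaf 16998479) (.leaf 17059921)))
(.node 2 (.node 1 (.leaf 17442909) (.leaf 17506399)) (.node 1 (.leaf 17457231) (.leaf 17127507))))
(.node 4 (.node 2 (.node 1 (.leaf 17584209) (.leaf 17459277)) (.node 1 (.leaf 17522767) (.leaf 17125457)))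
(.node 2 (.node 1 (.leaf 17061971) (.leaf 17651795)) (.node 1 (.leaf 17649745) (.leaf 17586259))))))

/-- Its index. -/
def caseDFullN25Ix : BT ℕ :=
(.node 17440863 15
(.node 17043521 0
(.node 16982111 12
(.node 16932943 13 (.node 16918621 11 (.node 16916575 6 .tip .tip) .tip) (.node 16934989 17 .tip .tip))
(.node 16998479 18 (.node 16984157 3 .tip .tip) (.node 17000525 8 .tip .tip)))
(.node 17109057 4
(.node 17059921 19 (.node 17045571 7 .tip .tip) (.node 17061971 28 .tip .tip))
(.node 17125457 27 (.node 17111107 1 .tip .tip) (.node 17127507 23 .tip .tip))))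
(.node 17567809 2
(.node 17506399 21
(.node 17457231 22 (.node 17442909 20 .tip .tip) (.node 17459277 25 .tip .tip))
(.node 17522767 26 (.node 17508445 10 .tip .tip) (.node 17524813 16 .tip .tip)))
(.node 17633345 9
(.node 17584209 24 (.node 17569859 14 .tip .tip) (.node 17586259 31 .tip .tip))
(.node 17649745 30 (.node 17635395 5 .tip .tip) (.node 17651795 29 .tip .tip)))))

/-- The reasons. -/
def caseDFullN25How : Tab (ℕ × ℕ) :=
(.node 16 (.node 8 (.node 4 (.node 2 (.node 1 (.leaf (0, 0)) (.leaf (185, 0))) (.node 1 (.leaf (186, 0)) (.leaf (187, 0))))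
(.node 2 (.node 1 (.leaf (188, 0)) (.leaf (186, 1))) (.node 1 (.leaf (187, 1)) (.leaf (188, 1)))))
(.node 4 (.node 2 (.node 1 (.leaf (187, 2)) (.leaf (188, 2))) (.node 1 (.leaf (186, 3)) (.leaf (188, 3))))
(.node 2 (.node 1 (.leaf (187, 4)) (.leaf (187, 5))) (.node 1 (.leaf (188, 5)) (.leaf (186, 6))))))
(.node 8 (.node 4 (.node 2 (.node 1 (.leaf (186, 8)) (.leaf (188, 8))) (.node 1 (.leaf (187, 9)) (.leaf (187, 10))))
(.node 2 (.node 1 (.leaf (188, 10)) (.leaf (186, 12))) (.node 1 (.leaf (186, 13)) (.leaf (187, 15)))))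
(.node 4 (.node 2 (.node 1 (.leaf (187, 16)) (.leaf (188, 16))) (.node 1 (.leaf (186, 18)) (.leaf (188, 19))))
(.node 2 (.node 1 (.leaf (187, 20)) (.leaf (187, 22))) (.node 1 (.leaf (188, 24)) (.leaf (187, 25)))))))

/-- The node. -/
def caseDFullN25Node : NodeD := ⟨25, 32, caseDFullN25Els, caseDFullN25Ix, caseDFullN25How, fun b => bif b then (.node 7 (.node 3 (.node 1 (.leaf 4268) (.node 1 (.leaf 4275) (.leaf 4270)))
(.node 2 (.node 1 (.leaf 4279) (.leaf 4277)) (.node 1 (.leaf 649) (.leaf 4276))))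
(.node 3 (.node 1 (.leaf 4271) (.node 1 (.leaf 4280) (.leaf 4272)))
(.node 2 (.node 1 (.leaf 4278) (.leaf 4274)) (.node 1 (.leaf 4269) (.leaf 4273))))) else (.node 7 (.node 3 (.node 1 (.leaf 4267) (.node 1 (.leaf 4264) (.leaf 4262)))
(.node 2 (.node 1 (.leaf 4261) (.leaf 266)) (.node 1 (.leaf 262) (.leaf 175))))
(.node 3 (.node 1 (.leaf 4266) (.node 1 (.leaf 4260) (.leaf 4259)))
(.node 2 (.node 1 (.leaf 4263) (.leaf 4265)) (.node 1 (.leaf 265) (.leaf 264)))))⟩

/-- The stabiliser. -/
def caseDFullN43Els : Tab ℕ :=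
(.node 8 (.node 4 (.node 2 (.node 1 (.leaf 17043521) (.leaf 17567831)) (.node 1 (.leaf 17698885) (.leaf 17043543)))
(.node 2 (.node 1 (.leaf 5128271) (.leaf 17174611)) (.node 1 (.leaf 17567809) (.leaf 4603977))))
(.node 4 (.node 2 (.node 1 (.leaf 17698899) (.leaf 4472927)) (.node 1 (.leaf 5128281) (.leaf 4997209)))
(.node 2 (.node 1 (.leaf 17174597) (.leaf 4603999)) (.node 1 (.leaf 4472905) (.leaf 4997199)))))

/-- Its index. -/
def caseDFullN43Ix : BT ℕ :=
(.node 17043521 0
(.node 4997199 15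
(.node 4603977 7 (.node 4472927 9 (.node 4472905 14 .tip .tip) .tip) (.node 4603999 13 .tip .tip))
(.node 5128271 4 (.node 4997209 11 .tip .tip) (.node 5128281 10 .tip .tip)))
(.node 17567809 6
(.node 17174597 12 (.node 17043543 3 .tip .tip) (.node 17174611 5 .tip .tip))
(.node 17698885 2 (.node 17567831 1 .tip .tip) (.node 17698899 8 .tip .tip))))

/-- The reasons. -/
def caseDFullN43How : Tab (ℕ × ℕ) :=
(.node 8 (.node 4 (.node 2 (.node 1 (.leaf (0, 0)) (.leaf (270, 0))) (.node 1 (.leaf (271, 0)) (.leaf (272, 0))))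
(.node 2 (.node 1 (.leaf (290, 0)) (.leaf (271, 1))) (.node 1 (.leaf (272, 1)) (.leaf (290, 1)))))
(.node 4 (.node 2 (.node 1 (.leaf (272, 2)) (.leaf (290, 2))) (.node 1 (.leaf (290, 3)) (.leaf (270, 4))))
(.node 2 (.node 1 (.leaf (272, 5)) (.leaf (290, 6))) (.node 1 (.leaf (290, 8)) (.leaf (270, 10))))))

/-- The node. -/
def caseDFullN43Node : NodeD := ⟨43, 16, caseDFullN43Els, caseDFullN43Ix, caseDFullN43How, fun b => bif b then (.node 7 (.node 3 (.node 1 (.leaf 4293) (.node 1 (.leaf 4300) (.leaf 4295)))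
(.node 2 (.node 1 (.leaf 4305) (.leaf 4303)) (.node 1 (.leaf 4301) (.leaf 4302))))
(.node 3 (.node 1 (.leaf 4296) (.node 1 (.leaf 4306) (.leaf 4297)))
(.node 2 (.node 1 (.leaf 4304) (.leaf 4299)) (.node 1 (.leaf 4294) (.leaf 4298))))) else (.node 7 (.node 3 (.node 1 (.leaf 291) (.node 1 (.leaf 4288) (.leaf 4285)))
(.node 2 (.node 1 (.leaf 4283) (.leaf 4286)) (.node 1 (.leaf 4284) (.leaf 263))))
(.node 3 (.node 1 (.leaf 4290) (.node 1 (.leaf 4282) (.leaf 4281)))
(.node 2 (.node 1 (.leaf 4287) (.leaf 4289)) (.node 1 (.leaf 4291) (.leaf 4292)))))⟩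

/-- The stabiliser. -/
def caseDFullN46Els : Tab ℕ :=
(.node 96 (.node 48 (.node 24 (.node 12 (.node 6 (.node 3 (.node 1 (.leaf 17043521) (.node 1 (.leaf 17127501) (.leaf 16998487))) (.node 1 (.leaf 17524803) (.node 1 (.leaf 17244253) (.leaf 17043537))))
(.node 3 (.node 1 (.leaf 17459273) (.node 1 (.leaf 16932943) (.leaf 17770561))) (.node 1 (.leaf 16918601) (.node 1 (.leaf 17651805) (.leaf 17125461)))))
(.node 6 (.node 3 (.node 1 (.leaf 17700953) (.node 1 (.leaf 17440847) (.leaf 17569867))) (.node 1 (.leaf 17258591) (.node 1 (.leaf 17197147) (.leaf 17135687))))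
(.node 3 (.node 1 (.leaf 17657951) (.node 1 (.leaf 16922699) (.leaf 17127517))) (.node 1 (.leaf 16998471) (.node 1 (.leaf 17524819) (.leaf 17244237))))))
(.node 12 (.node 6 (.node 3 (.node 1 (.leaf 17506375) (.node 1 (.leaf 17567809) (.leaf 17045579))) (.node 1 (.leaf 17190999) (.node 1 (.leaf 16984147) (.leaf 17649733))))
(.node 3 (.node 1 (.leaf 17764419) (.node 1 (.leaf 17719381) (.leaf 17053785))) (.node 1 (.leaf 17576003) (.node 1 (.leaf 17528901) (.leaf 17059921)))))
(.node 6 (.node 3 (.node 1 (.leaf 17586251) (.node 1 (.leaf 17174615) (.leaf 17567825))) (.node 1 (.leaf 17442905) (.node 1 (.leaf 16916575) (.leaf 17262657))))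
(.node 3 (.node 1 (.leaf 17705051) (.node 1 (.leaf 17780803) (.leaf 16920653))) (.node 1 (.leaf 17447003) (.node 1 (.leaf 17592403) (.leaf 17109077)))))))
(.node 24 (.node 12 (.node 6 (.node 3 (.node 1 (.leaf 17635405) (.node 1 (.leaf 17649749) (.leaf 17442889))) (.node 1 (.leaf 17719365) (.node 1 (.leaf 17174599) (.leaf 17463387))))
(.node 3 (.node 1 (.leaf 16937053) (.node 1 (.leaf 17643607) (.leaf 17070169))) (.node 1 (.leaf 17444957) (.node 1 (.leaf 17051731) (.leaf 17721419)))))
(.node 6 (.node 3 (.node 1 (.leaf 17195077) (.node 1 (.leaf 17508419) (.leaf 17578073))) (.node 1 (.leaf 17770577) (.node 1 (.leaf 16934985) (.leaf 17002561))))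
(.node 3 (.node 1 (.leaf 17717321) (.node 1 (.leaf 17459289) (.leaf 16932959))) (.node 1 (.leaf 16918617) (.node 1 (.leaf 17651789) (.leaf 17125445))))))
(.node 12 (.node 6 (.node 3 (.node 1 (.leaf 17700937) (.node 1 (.leaf 17440863) (.leaf 17569883))) (.node 1 (.leaf 17258575) (.node 1 (.leaf 17197131) (.leaf 17135703))))
(.node 3 (.node 1 (.leaf 17657935) (.node 1 (.leaf 16922715) (.leaf 17111133))) (.node 1 (.leaf 17633349) (.node 1 (.leaf 16982103) (.leaf 17784909)))))
(.node 6 (.node 3 (.node 1 (.leaf 17178709) (.node 1 (.leaf 17242191) (.leaf 17526865))) (.node 1 (.leaf 17004629) (.node 1 (.leaf 17641567) (.leaf 17061963))))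
(.node 3 (.node 1 (.leaf 17584209) (.node 1 (.leaf 16982087) (.leaf 17717337))) (.node 1 (.leaf 16988245) (.node 1 (.leaf 17510465) (.leaf 17594441))))))))
(.node 48 (.node 24 (.node 12 (.node 6 (.node 3 (.node 1 (.leaf 17119319) (.node 1 (.leaf 17133663) (.leaf 17721435))) (.node 1 (.leaf 16916559) (.node 1 (.leaf 17659991) (.leaf 17522759))))
(.node 3 (.node 1 (.leaf 17444941) (.node 1 (.leaf 17111117) (.leaf 17522775))) (.node 1 (.leaf 17000531) (.node 1 (.leaf 17768541) (.leaf 17195093)))))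
(.node 6 (.node 3 (.node 1 (.leaf 17528917) (.node 1 (.leaf 17117263) (.leaf 17508435))) (.node 1 (.leaf 17784925) (.node 1 (.leaf 17715287) (.leaf 17240131))))
(.node 3 (.node 1 (.leaf 17068099) (.node 1 (.leaf 17512517) (.leaf 17051715))) (.node 1 (.leaf 17461341) (.node 1 (.leaf 16986177) (.leaf 17004613))))))
(.node 12 (.node 6 (.node 3 (.node 1 (.leaf 17256531) (.node 1 (.leaf 17782863) (.leaf 17526849))) (.node 1 (.leaf 17246289) (.node 1 (.leaf 17061979) (.leaf 17000515))))
(.node 3 (.node 1 (.leaf 17180747) (.node 1 (.leaf 17786945) (.leaf 17715271))) (.node 1 (.leaf 17641551) (.node 1 (.leaf 17119303) (.leaf 17002577)))))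
(.node 6 (.node 3 (.node 1 (.leaf 17117279) (.node 1 (.leaf 17510481) (.leaf 17698903))) (.node 1 (.leaf 17176665) (.node 1 (.leaf 17059905) (.leaf 16988229))))
(.node 3 (.node 1 (.leaf 17780819) (.node 1 (.leaf 17633365) (.leaf 17592387))) (.node 1 (.leaf 17702997) (.node 1 (.leaf 17766495) (.leaf 17260621)))))))
(.node 24 (.node 12 (.node 6 (.node 3 (.node 1 (.leaf 17786961) (.node 1 (.leaf 17768525) (.leaf 17053769))) (.node 1 (.leaf 17457247) (.node 1 (.leaf 17045595) (.leaf 17178693))))
(.node 3 (.node 1 (.leaf 17576019) (.node 1 (.leaf 17584193) (.leaf 17698887))) (.node 1 (.leaf 17256515) (.node 1 (.leaf 17068115) (.leaf 17506391)))))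
(.node 6 (.node 3 (.node 1 (.leaf 17190983) (.node 1 (.leaf 16984131) (.leaf 17764435))) (.node 1 (.leaf 17586267) (.node 1 (.leaf 17262673) (.leaf 17705035))))
(.node 3 (.node 1 (.leaf 16920669) (.node 1 (.leaf 17446987) (.leaf 17109061))) (.node 1 (.leaf 17635421) (.node 1 (.leaf 17463371) (.leaf 16937037))))))
(.node 12 (.node 6 (.node 3 (.node 1 (.leaf 17643591) (.node 1 (.leaf 17070153) (.leaf 17578057))) (.node 1 (.leaf 16935001) (.node 1 (.leaf 17246273) (.leaf 17176649))))
(.node 3 (.node 1 (.leaf 16939099) (.node 1 (.leaf 17133647) (.leaf 17461325))) (.node 1 (.leaf 17240147) (.node 1 (.leaf 17457231) (.leaf 17702981)))))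
(.node 6 (.node 3 (.node 1 (.leaf 17193033) (.node 1 (.leaf 17242207) (.leaf 17260637))) (.node 1 (.leaf 17193049) (.node 1 (.leaf 17766479) (.leaf 17782879))))
(.node 3 (.node 1 (.leaf 16939083) (.node 1 (.leaf 17512533) (.leaf 17594457))) (.node 1 (.leaf 16986193) (.node 1 (.leaf 17180763) (.leaf 17659975)))))))))

/-- Its index. -/
def caseDFullN46Ix : BT ℕ :=
(.node 17440847 13
(.node 17109061 164
(.node 16998471 21
(.node 16937037 167
(.node 16922699 19
(.node 16918617 69 (.node 16916575 40 (.node 16916559 99 .tip .tip) (.node 16918601 9 .tip .tip)) (.node 16920669 162 (.node 16920653 44 .tip .tip) .tip))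
(.node 16932959 68 (.node 16932943 7 (.node 16922715 79 .tip .tip) .tip) (.node 16935001 171 (.node 16934985 64 .tip .tip) .tip)))
(.node 16984131 157
(.node 16939099 174 (.node 16939083 186 (.node 16937053 54 .tip .tip) .tip) (.node 16982103 82 (.node 16982087 91 .tip .tip) .tip))
(.node 16986193 189 (.node 16986177 118 (.node 16984147 28 .tip .tip) .tip) (.node 16988245 93 (.node 16988229 137 .tip .tip) .tip))))
(.node 17051715 116
(.node 17004613 119
(.node 17000531 105 (.node 17000515 125 (.node 16998487 2 .tip .tip) .tip) (.node 17002577 131 (.node 17002561 65 .tip .tip) .tip))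
(.node 17043537 5 (.node 17043521 0 (.node 17004629 87 .tip .tip) .tip) (.node 17045595 148 (.node 17045579 26 .tip .tip) .tip)))
(.node 17061963 89
(.node 17053785 32 (.node 17053769 146 (.node 17051731 58 .tip .tip) .tip) (.node 17059921 35 (.node 17059905 136 .tip .tip) .tip))
(.node 17068115 154 (.node 17068099 114 (.node 17061979 124 .tip .tip) .tip) (.node 17070169 56 (.node 17070153 169 .tip .tip) .tip)))))
(.node 17190983 156
(.node 17133647 175
(.node 17119303 130
(.node 17111133 80 (.node 17111117 103 (.node 17109077 47 .tip .tip) .tip) (.node 17117279 132 (.node 17117263 109 .tip .tip) .tip))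
(.node 17125461 11 (.node 17125445 71 (.node 17119319 96 .tip .tip) .tip) (.node 17127517 20 (.node 17127501 1 .tip .tip) .tip)))
(.node 17176649 173
(.node 17135703 77 (.node 17135687 17 (.node 17133663 97 .tip .tip) .tip) (.node 17174615 37 (.node 17174599 52 .tip .tip) .tip))
(.node 17178709 84 (.node 17178693 149 (.node 17176665 135 .tip .tip) .tip) (.node 17180763 190 (.node 17180747 126 .tip .tip) .tip))))
(.node 17244237 23
(.node 17197131 76
(.node 17193049 183 (.node 17193033 180 (.node 17190999 27 .tip .tip) .tip) (.node 17195093 107 (.node 17195077 60 .tip .tip) .tip))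
(.node 17240147 177 (.node 17240131 113 (.node 17197147 16 .tip .tip) .tip) (.node 17242207 181 (.node 17242191 85 .tip .tip) .tip)))
(.node 17258575 75
(.node 17246289 123 (.node 17246273 172 (.node 17244253 4 .tip .tip) .tip) (.node 17256531 120 (.node 17256515 153 .tip .tip) .tip))
(.node 17260637 182 (.node 17260621 143 (.node 17258591 15 .tip .tip) .tip) (.node 17262673 160 (.node 17262657 41 .tip .tip) .tip))))))
(.node 17633349 81
(.node 17522759 101
(.node 17461325 176
(.node 17446987 163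
(.node 17442905 39 (.node 17442889 50 (.node 17440863 73 .tip .tip) .tip) (.node 17444957 57 (.node 17444941 102 .tip .tip) .tip))
(.node 17457247 147 (.node 17457231 178 (.node 17447003 45 .tip .tip) .tip) (.node 17459289 67 (.node 17459273 6 .tip .tip) .tip)))
(.node 17508419 61
(.node 17463387 53 (.node 17463371 166 (.node 17461341 117 .tip .tip) .tip) (.node 17506391 155 (.node 17506375 24 .tip .tip) .tip))
(.node 17510481 133 (.node 17510465 94 (.node 17508435 110 .tip .tip) .tip) (.node 17512533 187 (.node 17512517 115 .tip .tip) .tip))))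
(.node 17576003 33
(.node 17528901 34
(.node 17524819 22 (.node 17524803 3 (.node 17522775 104 .tip .tip) .tip) (.node 17526865 86 (.node 17526849 122 .tip .tip) .tip))
(.node 17567825 38 (.node 17567809 25 (.node 17528917 108 .tip .tip) .tip) (.node 17569883 74 (.node 17569867 14 .tip .tip) .tip)))
(.node 17586251 36
(.node 17578073 62 (.node 17578057 170 (.node 17576019 150 .tip .tip) .tip) (.node 17584209 90 (.node 17584193 151 .tip .tip) .tip))
(.node 17592403 46 (.node 17592387 140 (.node 17586267 159 .tip .tip) .tip) (.node 17594457 188 (.node 17594441 95 .tip .tip) .tip)))))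
(.node 17715271 128
(.node 17657935 78
(.node 17643591 168
(.node 17635421 165 (.node 17635405 48 (.node 17633365 139 .tip .tip) .tip) (.node 17641567 88 (.node 17641551 129 .tip .tip) .tip))
(.node 17649749 49 (.node 17649733 29 (.node 17643607 55 .tip .tip) .tip) (.node 17651805 10 (.node 17651789 70 .tip .tip) .tip)))
(.node 17700937 72
(.node 17659991 100 (.node 17659975 191 (.node 17657951 18 .tip .tip) .tip) (.node 17698903 134 (.node 17698887 152 .tip .tip) .tip))
(.node 17702997 141 (.node 17702981 179 (.node 17700953 12 .tip .tip) .tip) (.node 17705051 42 (.node 17705035 161 .tip .tip) .tip))))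
(.node 17768525 145
(.node 17721419 59
(.node 17717337 92 (.node 17717321 66 (.node 17715287 112 .tip .tip) .tip) (.node 17719381 31 (.node 17719365 51 .tip .tip) .tip))
(.node 17764435 158 (.node 17764419 30 (.node 17721435 98 .tip .tip) .tip) (.node 17766495 142 (.node 17766479 184 .tip .tip) .tip)))
(.node 17782863 121
(.node 17770577 63 (.node 17770561 8 (.node 17768541 106 .tip .tip) .tip) (.node 17780819 138 (.node 17780803 43 .tip .tip) .tip))
(.node 17784925 111 (.node 17784909 83 (.node 17782879 185 .tip .tip) .tip) (.node 17786961 144 (.node 17786945 127 .tip .tip) .tip)))))))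

/-- The reasons. -/
def caseDFullN46How : Tab (ℕ × ℕ) :=
(.node 96 (.node 48 (.node 24 (.node 12 (.node 6 (.node 3 (.node 1 (.leaf (0, 0)) (.node 1 (.leaf (305, 0)) (.leaf (306, 0)))) (.node 1 (.leaf (307, 0)) (.node 1 (.leaf (308, 0)) (.leaf (305, 1)))))
(.node 3 (.node 1 (.leaf (306, 1)) (.node 1 (.leaf (307, 1)) (.leaf (308, 1)))) (.node 1 (.leaf (305, 2)) (.node 1 (.leaf (306, 2)) (.leaf (307, 2))))))
(.node 6 (.node 3 (.node 1 (.leaf (308, 2)) (.node 1 (.leaf (305, 3)) (.leaf (306, 3)))) (.node 1 (.leaf (308, 3)) (.node 1 (.leaf (305, 4)) (.leaf (306, 4)))))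
(.node 3 (.node 1 (.leaf (307, 4)) (.node 1 (.leaf (308, 4)) (.leaf (305, 5)))) (.node 1 (.leaf (306, 5)) (.node 1 (.leaf (307, 5)) (.leaf (308, 5)))))))
(.node 12 (.node 6 (.node 3 (.node 1 (.leaf (305, 6)) (.node 1 (.leaf (306, 6)) (.leaf (307, 6)))) (.node 1 (.leaf (308, 6)) (.node 1 (.leaf (305, 7)) (.leaf (306, 7)))))
(.node 3 (.node 1 (.leaf (308, 7)) (.node 1 (.leaf (305, 8)) (.leaf (306, 8)))) (.node 1 (.leaf (307, 8)) (.node 1 (.leaf (308, 8)) (.leaf (306, 9))))))
(.node 6 (.node 3 (.node 1 (.leaf (307, 9)) (.node 1 (.leaf (308, 9)) (.leaf (305, 10)))) (.node 1 (.leaf (306, 10)) (.node 1 (.leaf (307, 10)) (.leaf (308, 10)))))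
(.node 3 (.node 1 (.leaf (308, 11)) (.node 1 (.leaf (305, 12)) (.leaf (306, 12)))) (.node 1 (.leaf (307, 12)) (.node 1 (.leaf (308, 12)) (.leaf (306, 13))))))))
(.node 24 (.node 12 (.node 6 (.node 3 (.node 1 (.leaf (307, 13)) (.node 1 (.leaf (305, 14)) (.leaf (307, 14)))) (.node 1 (.leaf (308, 14)) (.node 1 (.leaf (305, 15)) (.leaf (306, 15)))))
(.node 3 (.node 1 (.leaf (307, 15)) (.node 1 (.leaf (308, 15)) (.leaf (307, 16)))) (.node 1 (.leaf (308, 16)) (.node 1 (.leaf (305, 17)) (.leaf (306, 17))))))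
(.node 6 (.node 3 (.node 1 (.leaf (307, 17)) (.node 1 (.leaf (308, 17)) (.leaf (305, 18)))) (.node 1 (.leaf (306, 18)) (.node 1 (.leaf (308, 18)) (.leaf (305, 19)))))
(.node 3 (.node 1 (.leaf (307, 19)) (.node 1 (.leaf (306, 20)) (.leaf (307, 20)))) (.node 1 (.leaf (305, 21)) (.node 1 (.leaf (306, 21)) (.leaf (307, 21)))))))
(.node 12 (.node 6 (.node 3 (.node 1 (.leaf (308, 21)) (.node 1 (.leaf (305, 22)) (.leaf (306, 22)))) (.node 1 (.leaf (308, 22)) (.node 1 (.leaf (305, 23)) (.leaf (306, 23)))))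
(.node 3 (.node 1 (.leaf (307, 23)) (.node 1 (.leaf (308, 23)) (.leaf (306, 24)))) (.node 1 (.leaf (307, 24)) (.node 1 (.leaf (306, 25)) (.leaf (308, 25))))))
(.node 6 (.node 3 (.node 1 (.leaf (308, 26)) (.node 1 (.leaf (305, 27)) (.leaf (306, 27)))) (.node 1 (.leaf (307, 27)) (.node 1 (.leaf (308, 27)) (.leaf (306, 28)))))
(.node 3 (.node 1 (.leaf (307, 28)) (.node 1 (.leaf (307, 29)) (.leaf (305, 30)))) (.node 1 (.leaf (306, 30)) (.node 1 (.leaf (307, 30)) (.leaf (308, 30)))))))))
(.node 48 (.node 24 (.node 12 (.node 6 (.node 3 (.node 1 (.leaf (307, 31)) (.node 1 (.leaf (305, 32)) (.leaf (307, 32)))) (.node 1 (.leaf (308, 32)) (.node 1 (.leaf (305, 33)) (.leaf (308, 33)))))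
(.node 3 (.node 1 (.leaf (305, 34)) (.node 1 (.leaf (305, 35)) (.leaf (306, 35)))) (.node 1 (.leaf (307, 35)) (.node 1 (.leaf (308, 35)) (.leaf (308, 36))))))
(.node 6 (.node 3 (.node 1 (.leaf (307, 37)) (.node 1 (.leaf (308, 37)) (.leaf (307, 38)))) (.node 1 (.leaf (308, 38)) (.node 1 (.leaf (308, 39)) (.leaf (308, 40)))))
(.node 3 (.node 1 (.leaf (307, 41)) (.node 1 (.leaf (308, 41)) (.leaf (306, 42)))) (.node 1 (.leaf (308, 42)) (.node 1 (.leaf (307, 43)) (.leaf (305, 44)))))))
(.node 12 (.node 6 (.node 3 (.node 1 (.leaf (306, 44)) (.node 1 (.leaf (307, 44)) (.leaf (305, 45)))) (.node 1 (.leaf (307, 46)) (.node 1 (.leaf (305, 47)) (.leaf (306, 47)))))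
(.node 3 (.node 1 (.leaf (308, 47)) (.node 1 (.leaf (308, 48)) (.leaf (308, 50)))) (.node 1 (.leaf (306, 51)) (.node 1 (.leaf (307, 51)) (.leaf (308, 51))))))
(.node 6 (.node 3 (.node 1 (.leaf (308, 52)) (.node 1 (.leaf (305, 53)) (.leaf (306, 53)))) (.node 1 (.leaf (307, 53)) (.node 1 (.leaf (308, 53)) (.leaf (305, 54)))))
(.node 3 (.node 1 (.leaf (306, 54)) (.node 1 (.leaf (308, 54)) (.leaf (305, 55)))) (.node 1 (.leaf (307, 55)) (.node 1 (.leaf (307, 57)) (.leaf (306, 58))))))))
(.node 24 (.node 12 (.node 6 (.node 3 (.node 1 (.leaf (307, 58)) (.node 1 (.leaf (305, 59)) (.leaf (307, 59)))) (.node 1 (.leaf (305, 61)) (.node 1 (.leaf (306, 61)) (.leaf (306, 62)))))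
(.node 3 (.node 1 (.leaf (307, 63)) (.node 1 (.leaf (306, 64)) (.leaf (308, 64)))) (.node 1 (.leaf (307, 65)) (.node 1 (.leaf (308, 66)) (.leaf (305, 67))))))
(.node 6 (.node 3 (.node 1 (.leaf (308, 67)) (.node 1 (.leaf (305, 68)) (.leaf (308, 68)))) (.node 1 (.leaf (307, 69)) (.node 1 (.leaf (308, 70)) (.leaf (308, 71)))))
(.node 3 (.node 1 (.leaf (306, 72)) (.node 1 (.leaf (307, 72)) (.leaf (306, 73)))) (.node 1 (.leaf (307, 73)) (.node 1 (.leaf (306, 75)) (.leaf (307, 75)))))))
(.node 12 (.node 6 (.node 3 (.node 1 (.leaf (308, 75)) (.node 1 (.leaf (307, 76)) (.leaf (305, 78)))) (.node 1 (.leaf (308, 78)) (.node 1 (.leaf (308, 80)) (.leaf (308, 82)))))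
(.node 3 (.node 1 (.leaf (308, 83)) (.node 1 (.leaf (306, 84)) (.leaf (307, 85)))) (.node 1 (.leaf (307, 86)) (.node 1 (.leaf (306, 89)) (.leaf (308, 89))))))
(.node 6 (.node 3 (.node 1 (.leaf (306, 93)) (.node 1 (.leaf (306, 94)) (.leaf (307, 97)))) (.node 1 (.leaf (308, 101)) (.node 1 (.leaf (307, 102)) (.leaf (308, 110)))))
(.node 3 (.node 1 (.leaf (308, 111)) (.node 1 (.leaf (305, 117)) (.leaf (305, 129)))) (.node 1 (.leaf (307, 138)) (.node 1 (.leaf (305, 143)) (.leaf (306, 143))))))))))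

/-- The node. -/
def caseDFullN46Node : NodeD := ⟨46, 192, caseDFullN46Els, caseDFullN46Ix, caseDFullN46How, fun b => bif b then (.node 7 (.node 3 (.node 1 (.leaf 4320) (.node 1 (.leaf 4322) (.leaf 4321)))
(.node 2 (.node 1 (.leaf 4325) (.leaf 4324)) (.node 1 (.leaf 4323) (.leaf 1064))))
(.node 3 (.node 1 (.leaf 1062) (.node 1 (.leaf 1060) (.leaf 1063)))
(.node 2 (.node 1 (.leaf 1066) (.leaf 1068)) (.node 1 (.leaf 1065) (.leaf 1067))))) else (.node 7 (.node 3 (.node 1 (.leaf 4317) (.node 1 (.leaf 4314) (.leaf 4311)))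
(.node 2 (.node 1 (.leaf 4309) (.leaf 4312)) (.node 1 (.leaf 4310) (.leaf 293))))
(.node 3 (.node 1 (.leaf 4316) (.node 1 (.leaf 4308) (.leaf 4307)))
(.node 2 (.node 1 (.leaf 4313) (.leaf 4315)) (.node 1 (.leaf 4318) (.leaf 4319)))))⟩

/-- The stabiliser. -/
def caseDFullN66Els : Tab ℕ :=
(.node 16 (.node 8 (.node 4 (.node 2 (.node 1 (.leaf 17043521) (.leaf 17053763)) (.node 1 (.leaf 17059907) (.leaf 17061969)))
(.node 2 (.node 1 (.leaf 17045577) (.leaf 8935495)) (.node 1 (.leaf 17070145) (.leaf 17068115))))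
(.node 4 (.node 2 (.node 1 (.leaf 17051723) (.leaf 8941647)) (.node 1 (.leaf 17045587) (.leaf 17061963)))
(.node 2 (.node 1 (.leaf 8919125) (.leaf 17059929)) (.node 1 (.leaf 8917061) (.leaf 8933453)))))
(.node 8 (.node 4 (.node 2 (.node 1 (.leaf 8943685) (.leaf 8933463)) (.node 1 (.leaf 17051729) (.leaf 17068105)))
(.node 2 (.node 1 (.leaf 8925277) (.leaf 17070171)) (.node 1 (.leaf 8927309) (.leaf 8943711))))
(.node 4 (.node 2 (.node 1 (.leaf 17043547) (.leaf 8917087)) (.node 1 (.leaf 8927319) (.leaf 8919119)))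
(.node 2 (.node 1 (.leaf 8925255) (.leaf 8935517)) (.node 1 (.leaf 8941653) (.leaf 17053785))))))

/-- Its index. -/
def caseDFullN66Ix : BT ℕ :=
(.node 17043521 0
(.node 8933453 15
(.node 8925255 28
(.node 8919119 27 (.node 8917087 25 (.node 8917061 14 .tip .tip) .tip) (.node 8919125 12 .tip .tip))
(.node 8927309 22 (.node 8925277 20 .tip .tip) (.node 8927319 26 .tip .tip)))
(.node 8941647 9
(.node 8935495 5 (.node 8933463 17 .tip .tip) (.node 8935517 29 .tip .tip))
(.node 8943685 16 (.node 8941653 30 .tip .tip) (.node 8943711 23 .tip .tip))))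
(.node 17059907 2
(.node 17051723 8
(.node 17045577 4 (.node 17043547 24 .tip .tip) (.node 17045587 10 .tip .tip))
(.node 17053763 1 (.node 17051729 18 .tip .tip) (.node 17053785 31 .tip .tip)))
(.node 17068105 19
(.node 17061963 11 (.node 17059929 13 .tip .tip) (.node 17061969 3 .tip .tip))
(.node 17070145 6 (.node 17068115 7 .tip .tip) (.node 17070171 21 .tip .tip)))))

/-- The reasons. -/
def caseDFullN66How : Tab (ℕ × ℕ) :=
(.node 16 (.node 8 (.node 4 (.node 2 (.node 1 (.leaf (0, 0)) (.leaf (398, 0))) (.node 1 (.leaf (399, 0)) (.leaf (400, 0))))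
(.node 2 (.node 1 (.leaf (401, 0)) (.leaf (419, 0))) (.node 1 (.leaf (399, 1)) (.leaf (400, 1)))))
(.node 4 (.node 2 (.node 1 (.leaf (401, 1)) (.leaf (419, 1))) (.node 1 (.leaf (400, 2)) (.leaf (401, 2))))
(.node 2 (.node 1 (.leaf (419, 2)) (.leaf (401, 3))) (.node 1 (.leaf (419, 3)) (.leaf (419, 4))))))
(.node 8 (.node 4 (.node 2 (.node 1 (.leaf (399, 5)) (.leaf (401, 5))) (.node 1 (.leaf (400, 6)) (.leaf (401, 6))))
(.node 2 (.node 1 (.leaf (419, 6)) (.leaf (401, 7))) (.node 1 (.leaf (419, 7)) (.leaf (401, 9)))))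
(.node 4 (.node 2 (.node 1 (.leaf (401, 10)) (.leaf (419, 11))) (.node 1 (.leaf (399, 12)) (.leaf (419, 13))))
(.node 2 (.node 1 (.leaf (399, 14)) (.leaf (401, 15))) (.node 1 (.leaf (401, 16)) (.leaf (401, 18)))))))

/-- The node. -/
def caseDFullN66Node : NodeD := ⟨66, 32, caseDFullN66Els, caseDFullN66Ix, caseDFullN66How, fun b => bif b then (.node 7 (.node 3 (.node 1 (.leaf 4332) (.node 1 (.leaf 4339) (.leaf 4334)))
(.node 2 (.node 1 (.leaf 4344) (.leaf 4342)) (.node 1 (.leaf 4340) (.leaf 4341))))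
(.node 3 (.node 1 (.leaf 4335) (.node 1 (.leaf 4345) (.leaf 4336)))
(.node 2 (.node 1 (.leaf 4343) (.leaf 4338)) (.node 1 (.leaf 4333) (.leaf 4337))))) else (.node 7 (.node 3 (.node 1 (.leaf 521) (.node 1 (.leaf 525) (.leaf 4328)))
(.node 2 (.node 1 (.leaf 4327) (.leaf 524)) (.node 1 (.leaf 520) (.leaf 4326))))
(.node 3 (.node 1 (.leaf 4331) (.node 1 (.leaf 522) (.leaf 526)))
(.node 2 (.node 1 (.leaf 4329) (.leaf 4330)) (.node 1 (.leaf 527) (.leaf 523)))))⟩

/-- The stabiliser. -/
def caseDFullN84Els : Tab ℕ :=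
(.node 12 (.node 6 (.node 3 (.node 1 (.leaf 17043521) (.node 1 (.leaf 16984157) (.leaf 17059905))) (.node 1 (.leaf 17528927) (.node 1 (.leaf 17000541) (.leaf 17594435))))
(.node 3 (.node 1 (.leaf 17508429) (.node 1 (.leaf 16988239) (.leaf 17715271))) (.node 1 (.leaf 17512543) (.node 1 (.leaf 17197125) (.leaf 17567825)))))
(.node 6 (.node 3 (.node 1 (.leaf 17053779) (.node 1 (.leaf 17721429) (.leaf 17578051))) (.node 1 (.leaf 17190999) (.node 1 (.leaf 17524813) (.leaf 17174615))))
(.node 3 (.node 1 (.leaf 17004623) (.node 1 (.leaf 17698887) (.leaf 17705045))) (.node 1 (.leaf 17180741) (.node 1 (.leaf 17584209) (.leaf 17070163))))))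

/-- Its index. -/
def caseDFullN84Ix : BT ℕ :=
(.node 17508429 6
(.node 17059905 2
(.node 17004623 18 (.node 16988239 7 (.node 16984157 1 .tip .tip) (.node 17000541 4 .tip .tip)) (.node 17053779 12 (.node 17043521 0 .tip .tip) .tip))
(.node 17180741 21 (.node 17174615 17 (.node 17070163 23 .tip .tip) .tip) (.node 17197125 10 (.node 17190999 15 .tip .tip) .tip)))
(.node 17584209 22
(.node 17528927 3 (.node 17524813 16 (.node 17512543 9 .tip .tip) .tip) (.node 17578051 14 (.node 17567825 11 .tip .tip) .tip))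
(.node 17705045 20 (.node 17698887 19 (.node 17594435 5 .tip .tip) .tip) (.node 17721429 13 (.node 17715271 8 .tip .tip) .tip))))

/-- The reasons. -/
def caseDFullN84How : Tab (ℕ × ℕ) :=
(.node 12 (.node 6 (.node 3 (.node 1 (.leaf (0, 0)) (.node 1 (.leaf (490, 0)) (.leaf (491, 0)))) (.node 1 (.leaf (4011, 0)) (.node 1 (.leaf (491, 1)) (.leaf (4011, 1)))))
(.node 3 (.node 1 (.leaf (490, 2)) (.node 1 (.leaf (4011, 2)) (.leaf (490, 3)))) (.node 1 (.leaf (491, 3)) (.node 1 (.leaf (4011, 3)) (.leaf (490, 4))))))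
(.node 6 (.node 3 (.node 1 (.leaf (4011, 4)) (.node 1 (.leaf (490, 5)) (.leaf (491, 5)))) (.node 1 (.leaf (4011, 5)) (.node 1 (.leaf (491, 6)) (.leaf (490, 7)))))
(.node 3 (.node 1 (.leaf (491, 7)) (.node 1 (.leaf (491, 8)) (.leaf (4011, 9)))) (.node 1 (.leaf (491, 10)) (.node 1 (.leaf (491, 11)) (.leaf (491, 12)))))))

/-- The node. -/
def caseDFullN84Node : NodeD := ⟨84, 24, caseDFullN84Els, caseDFullN84Ix, caseDFullN84How, fun b => bif b then (.node 7 (.node 3 (.node 1 (.leaf 4360) (.node 1 (.leaf 4367) (.leaf 4362)))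
(.node 2 (.node 1 (.leaf 4372) (.leaf 4370)) (.node 1 (.leaf 4368) (.leaf 4369))))
(.node 3 (.node 1 (.leaf 4363) (.node 1 (.leaf 4373) (.leaf 4364)))
(.node 2 (.node 1 (.leaf 4371) (.leaf 4366)) (.node 1 (.leaf 4361) (.leaf 4365))))) else (.node 7 (.node 3 (.node 1 (.leaf 4357) (.node 1 (.leaf 4354) (.leaf 4351)))
(.node 2 (.node 1 (.leaf 4349) (.leaf 4352)) (.node 1 (.leaf 4350) (.leaf 4346))))
(.node 3 (.node 1 (.leaf 4356) (.node 1 (.leaf 4348) (.leaf 4347)))
(.node 2 (.node 1 (.leaf 4353) (.leaf 4355)) (.node 1 (.leaf 4358) (.leaf 4359)))))⟩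

/-- The stabiliser. -/
def caseDFullN88Els : Tab ℕ :=
(.node 2 (.node 1 (.leaf 17043521) (.leaf 17240149)) (.node 1 (.leaf 17567825) (.leaf 17764421)))

/-- Its index. -/
def caseDFullN88Ix : BT ℕ :=
(.node 17567825 2 (.node 17240149 1 (.node 17043521 0 .tip .tip) .tip) (.node 17764421 3 .tip .tip))

/-- The reasons. -/
def caseDFullN88How : Tab (ℕ × ℕ) :=
(.node 2 (.node 1 (.leaf (0, 0)) (.leaf (510, 0))) (.node 1 (.leaf (511, 0)) (.leaf (511, 1))))

/-- The node. -/
def caseDFullN88Node : NodeD := ⟨88, 4, caseDFullN88Els, caseDFullN88Ix, caseDFullN88How, fun b => bif b then (.node 7 (.node 3 (.node 1 (.leaf 4386) (.node 1 (.leaf 3695) (.leaf 4388)))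
(.node 2 (.node 1 (.leaf 4396) (.leaf 3696)) (.node 1 (.leaf 4393) (.leaf 4394))))
(.node 3 (.node 1 (.leaf 4389) (.node 1 (.leaf 4397) (.leaf 4390)))
(.node 2 (.node 1 (.leaf 4395) (.leaf 4392)) (.node 1 (.leaf 4387) (.leaf 4391))))) else (.node 7 (.node 3 (.node 1 (.leaf 4383) (.node 1 (.leaf 4380) (.leaf 4377)))
(.node 2 (.node 1 (.leaf 4375) (.leaf 4378)) (.node 1 (.leaf 4376) (.leaf 4374))))
(.node 3 (.node 1 (.leaf 4382) (.node 1 (.leaf 3407) (.leaf 541)))
(.node 2 (.node 1 (.leaf 4379) (.leaf 4381)) (.node 1 (.leaf 4384) (.leaf 4385)))))⟩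

/-- The stabiliser. -/
def caseDFullN167Els : Tab ℕ :=
(.node 6 (.node 3 (.node 1 (.leaf 17043521) (.node 1 (.leaf 27531337) (.leaf 23355483))) (.node 1 (.leaf 31737945) (.node 1 (.leaf 29648979) (.leaf 12875847))))
(.node 3 (.node 1 (.leaf 21250129) (.node 1 (.leaf 14964813) (.leaf 4476997))) (.node 1 (.leaf 6582351) (.node 1 (.leaf 19148875) (.leaf 25442371)))))

/-- Its index. -/
def caseDFullN167Ix : BT ℕ :=
(.node 21250129 6
(.node 14964813 7 (.node 6582351 9 (.node 4476997 8 .tip .tip) (.node 12875847 5 .tip .tip)) (.node 19148875 10 (.node 17043521 0 .tip .tip) .tip))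
(.node 27531337 1 (.node 25442371 11 (.node 23355483 2 .tip .tip) .tip) (.node 31737945 3 (.node 29648979 4 .tip .tip) .tip)))

/-- The reasons. -/
def caseDFullN167How : Tab (ℕ × ℕ) :=
(.node 6 (.node 3 (.node 1 (.leaf (0, 0)) (.node 1 (.leaf (3490, 0)) (.leaf (3543, 0)))) (.node 1 (.leaf (3543, 1)) (.node 1 (.leaf (3490, 2)) (.leaf (3543, 2)))))
(.node 3 (.node 1 (.leaf (3490, 3)) (.node 1 (.leaf (3543, 3)) (.leaf (3543, 4)))) (.node 1 (.leaf (3490, 5)) (.node 1 (.leaf (3543, 8)) (.leaf (3543, 9))))))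

/-- The node. -/
def caseDFullN167Node : NodeD := ⟨167, 12, caseDFullN167Els, caseDFullN167Ix, caseDFullN167How, fun b => bif b then (.node 7 (.node 3 (.node 1 (.leaf 4412) (.node 1 (.leaf 4419) (.leaf 4414)))
(.node 2 (.node 1 (.leaf 4424) (.leaf 4422)) (.node 1 (.leaf 4420) (.leaf 4421))))
(.node 3 (.node 1 (.leaf 4415) (.node 1 (.leaf 4425) (.leaf 4416)))
(.node 2 (.node 1 (.leaf 4423) (.leaf 4418)) (.node 1 (.leaf 4413) (.leaf 4417))))) else (.node 7 (.node 3 (.node 1 (.leaf 4409) (.node 1 (.leaf 4406) (.leaf 4403)))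
(.node 2 (.node 1 (.leaf 4401) (.leaf 4404)) (.node 1 (.leaf 4402) (.leaf 4398))))
(.node 3 (.node 1 (.leaf 4408) (.node 1 (.leaf 4400) (.leaf 4399)))
(.node 2 (.node 1 (.leaf 4405) (.leaf 4407)) (.node 1 (.leaf 4410) (.leaf 4411)))))⟩

/-- The stabiliser. -/
def caseDFullN214Els : Tab ℕ :=
(.node 84 (.node 42 (.node 21 (.node 10 (.node 5 (.node 2 (.node 1 (.leaf 17043521) (.leaf 8999001)) (.node 1 (.leaf 25442377) (.node 1 (.leaf 29567053) (.leaf 19230787))))
(.node 2 (.node 1 (.leaf 27856971) (.leaf 15417439)) (.node 1 (.leaf 9263193) (.node 1 (.leaf 31860815) (.leaf 7297111)))))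
(.node 5 (.node 2 (.node 1 (.leaf 27473995) (.leaf 11024475)) (.node 1 (.leaf 25514057) (.node 1 (.leaf 5185621) (.leaf 19691587))))
(.node 3 (.node 1 (.leaf 12795997) (.node 1 (.leaf 23492679) (.leaf 25890889))) (.node 1 (.leaf 27621451) (.node 1 (.leaf 19740739) (.leaf 4874325))))))
(.node 10 (.node 5 (.node 2 (.node 1 (.leaf 13520989) (.leaf 19271747)) (.node 1 (.leaf 31604815) (.node 1 (.leaf 26159177) (.leaf 15364191))))
(.node 2 (.node 1 (.leaf 7098455) (.leaf 27816011)) (.node 1 (.leaf 21383237) (.node 1 (.leaf 11350107) (.leaf 7020631)))))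
(.node 5 (.node 2 (.node 1 (.leaf 31666255) (.leaf 28266571)) (.node 1 (.leaf 25702473) (.node 1 (.leaf 11276379) (.leaf 21915717))))
(.node 3 (.node 1 (.leaf 6778967) (.node 1 (.leaf 10702939) (.leaf 13246557))) (.node 1 (.leaf 27672651) (.node 1 (.leaf 5126229) (.leaf 23949383)))))))
(.node 21 (.node 10 (.node 5 (.node 2 (.node 1 (.leaf 17127489) (.leaf 15605855)) (.node 1 (.leaf 6709335) (.node 1 (.leaf 21196869) (.leaf 17446977))))
(.node 2 (.node 1 (.leaf 29843533) (.leaf 17705025)) (.node 1 (.leaf 4946005) (.node 1 (.leaf 13129821) (.leaf 27416651)))))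
(.node 5 (.node 2 (.node 1 (.leaf 11081819) (.leaf 32327759)) (.node 1 (.leaf 12873821) (.node 1 (.leaf 27928651) (.leaf 25315401))))
(.node 3 (.node 1 (.leaf 32258127) (.node 1 (.leaf 11233371) (.leaf 17569857))) (.node 1 (.leaf 24070215) (.node 1 (.leaf 13310045) (.leaf 25587785))))))
(.node 10 (.node 5 (.node 2 (.node 1 (.leaf 27531339) (.leaf 17649729)) (.node 1 (.leaf 23214151) (.node 1 (.leaf 17526849) (.leaf 7227479))))
(.node 2 (.node 1 (.leaf 25370697) (.leaf 21434437)) (.node 1 (.leaf 8943705) (.node 1 (.leaf 4671573) (.leaf 23291975)))))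
(.node 5 (.node 2 (.node 1 (.leaf 30095437) (.leaf 9310297)) (.node 1 (.leaf 14837855) (.node 1 (.leaf 8863833) (.leaf 21966917))))
(.node 3 (.node 1 (.leaf 6584407) (.node 1 (.leaf 25851977) (.leaf 13379677))) (.node 1 (.leaf 6895703) (.node 1 (.leaf 26099785) (.leaf 13439069))))))))
(.node 42 (.node 21 (.node 10 (.node 5 (.node 2 (.node 1 (.leaf 17784897) (.leaf 29759565)) (.node 1 (.leaf 19814467) (.node 1 (.leaf 12744797) (.leaf 10901595))))
(.node 2 (.node 1 (.leaf 19095619) (.leaf 15667295)) (.node 1 (.leaf 21592133) (.node 1 (.leaf 19353667) (.leaf 29976653)))))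
(.node 5 (.node 2 (.node 1 (.leaf 19605571) (.leaf 17262657)) (.node 1 (.leaf 29888589) (.node 1 (.leaf 11159643) (.leaf 4993109))))
(.node 3 (.node 1 (.leaf 9050201) (.node 1 (.leaf 19148867) (.leaf 25778249))) (.node 1 (.leaf 28192843) (.node 1 (.leaf 5056597) (.leaf 23617607))))))
(.node 10 (.node 5 (.node 2 (.node 1 (.leaf 4479061) (.leaf 21774405)) (.node 1 (.leaf 29511757) (.node 1 (.leaf 15210591) (.leaf 8808537))))
(.node 2 (.node 1 (.leaf 23347271) (.leaf 9203801)) (.node 1 (.leaf 32116815) (.node 1 (.leaf 9386073) (.leaf 23537735)))))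
(.node 5 (.node 2 (.node 1 (.leaf 28002379) (.leaf 21112901)) (.node 1 (.leaf 32202831) (.node 1 (.leaf 19013699) (.leaf 23670855))))
(.node 3 (.node 1 (.leaf 7159895) (.node 1 (.leaf 23400519) (.leaf 27729995))) (.node 1 (.leaf 14899295) (.node 1 (.leaf 10975323) (.leaf 6959191)))))))
(.node 21 (.node 10 (.node 5 (.node 2 (.node 1 (.leaf 17004609) (.leaf 4608085)) (.node 1 (.leaf 29700173) (.node 1 (.leaf 10645595) (.leaf 15032415))))
(.node 2 (.node 1 (.leaf 11485275) (.leaf 8544345)) (.node 1 (.leaf 14962783) (.node 1 (.leaf 21829701) (.leaf 25630793)))))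
(.node 5 (.node 2 (.node 1 (.leaf 31746127) (.leaf 30220365)) (.node 1 (.leaf 32055375) (.node 1 (.leaf 13592669) (.leaf 17178689))))
(.node 3 (.node 1 (.leaf 23992391) (.node 1 (.leaf 6826071) (.leaf 9121881))) (.node 1 (.leaf 19863619) (.node 1 (.leaf 15280223) (.leaf 31938639))))))
(.node 10 (.node 5 (.node 2 (.node 1 (.leaf 8603737) (.leaf 21258309)) (.node 1 (.leaf 30169165) (.node 1 (.leaf 21313605) (.leaf 30031949))))
(.node 2 (.node 1 (.leaf 32002127) (.leaf 12929117)) (.node 1 (.leaf 31791183) (.node 1 (.leaf 23863367) (.leaf 16920641)))))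
(.node 5 (.node 2 (.node 1 (.leaf 4745301) (.leaf 19556419)) (.node 1 (.leaf 4812885) (.node 1 (.leaf 13197405) (.leaf 15485023))))
(.node 3 (.node 1 (.leaf 4538453) (.node 1 (.leaf 15562847) (.leaf 11427931))) (.node 1 (.leaf 29640781) (.node 1 (.leaf 6645847) (.leaf 21504069)))))))))

/-- Its index. -/
def caseDFullN214Ix : BT ℕ :=
(.node 19013699 118
(.node 11159643 97
(.node 7159895 120
(.node 5126229 40
(.node 4812885 159
(.node 4608085 127 (.node 4538453 162 (.node 4479061 105 .tip .tip) .tip) (.node 4745301 157 (.node 4671573 71 .tip .tip) .tip))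
(.node 4993109 98 (.node 4946005 49 (.node 4874325 20 .tip .tip) .tip) (.node 5056597 103 .tip .tip)))
(.node 6826071 142
(.node 6645847 166 (.node 6584407 78 (.node 5185621 13 .tip .tip) .tip) (.node 6778967 36 (.node 6709335 44 .tip .tip) .tip))
(.node 7020631 30 (.node 6959191 125 (.node 6895703 81 .tip .tip) .tip) (.node 7098455 26 .tip .tip))))
(.node 9203801 111
(.node 8863833 76
(.node 8544345 132 (.node 7297111 9 (.node 7227479 67 .tip .tip) .tip) (.node 8808537 109 (.node 8603737 147 .tip .tip) .tip))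
(.node 9050201 99 (.node 8999001 1 (.node 8943705 70 .tip .tip) .tip) (.node 9121881 143 .tip .tip)))
(.node 10702939 37
(.node 9386073 113 (.node 9310297 74 (.node 9263193 7 .tip .tip) .tip) (.node 10645595 129 .tip .tip))
(.node 11024475 11 (.node 10975323 124 (.node 10901595 88 .tip .tip) .tip) (.node 11081819 52 .tip .tip)))))
(.node 15032415 130
(.node 13197405 160
(.node 12744797 87
(.node 11350107 29 (.node 11276379 34 (.node 11233371 58 .tip .tip) .tip) (.node 11485275 131 (.node 11427931 164 .tip .tip) .tip))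
(.node 12929117 153 (.node 12873821 54 (.node 12795997 15 .tip .tip) .tip) (.node 13129821 50 .tip .tip)))
(.node 13520989 21
(.node 13379677 80 (.node 13310045 61 (.node 13246557 38 .tip .tip) .tip) (.node 13439069 83 .tip .tip))
(.node 14899295 123 (.node 14837855 75 (.node 13592669 139 .tip .tip) .tip) (.node 14962783 133 .tip .tip))))
(.node 17043521 0
(.node 15562847 163
(.node 15364191 25 (.node 15280223 145 (.node 15210591 108 .tip .tip) .tip) (.node 15485023 161 (.node 15417439 6 .tip .tip) .tip))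
(.node 16920641 156 (.node 15667295 90 (.node 15605855 43 .tip .tip) .tip) (.node 17004609 126 .tip .tip)))
(.node 17526849 66
(.node 17262657 95 (.node 17178689 140 (.node 17127489 42 .tip .tip) .tip) (.node 17446977 46 .tip .tip))
(.node 17705025 48 (.node 17649729 64 (.node 17569857 59 .tip .tip) .tip) (.node 17784897 84 .tip .tip))))))
(.node 25702473 33
(.node 21829701 134
(.node 19863619 144
(.node 19556419 158
(.node 19230787 4 (.node 19148867 100 (.node 19095619 89 .tip .tip) .tip) (.node 19353667 92 (.node 19271747 22 .tip .tip) .tip))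
(.node 19740739 19 (.node 19691587 14 (.node 19605571 94 .tip .tip) .tip) (.node 19814467 86 .tip .tip)))
(.node 21383237 28
(.node 21258309 148 (.node 21196869 45 (.node 21112901 116 .tip .tip) .tip) (.node 21313605 150 .tip .tip))
(.node 21592133 91 (.node 21504069 167 (.node 21434437 69 .tip .tip) .tip) (.node 21774405 106 .tip .tip))))
(.node 23863367 155
(.node 23400519 121
(.node 23214151 65 (.node 21966917 77 (.node 21915717 35 .tip .tip) .tip) (.node 23347271 110 (.node 23291975 72 .tip .tip) .tip))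
(.node 23617607 104 (.node 23537735 114 (.node 23492679 16 .tip .tip) .tip) (.node 23670855 119 .tip .tip)))
(.node 25370697 68
(.node 24070215 60 (.node 23992391 141 (.node 23949383 41 .tip .tip) .tip) (.node 25315401 56 .tip .tip))
(.node 25587785 62 (.node 25514057 12 (.node 25442377 2 .tip .tip) .tip) (.node 25630793 135 .tip .tip)))))
(.node 29700173 128
(.node 27729995 122
(.node 27416651 51
(.node 25890889 17 (.node 25851977 79 (.node 25778249 101 .tip .tip) .tip) (.node 26159177 24 (.node 26099785 82 .tip .tip) .tip))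
(.node 27621451 18 (.node 27531339 63 (.node 27473995 10 .tip .tip) .tip) (.node 27672651 39 .tip .tip)))
(.node 28192843 102
(.node 27928651 55 (.node 27856971 5 (.node 27816011 27 .tip .tip) .tip) (.node 28002379 115 .tip .tip))
(.node 29567053 3 (.node 29511757 107 (.node 28266571 32 .tip .tip) .tip) (.node 29640781 165 .tip .tip))))
(.node 31746127 136
(.node 30095437 73
(.node 29888589 96 (.node 29843533 47 (.node 29759565 85 .tip .tip) .tip) (.node 30031949 151 (.node 29976653 93 .tip .tip) .tip))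
(.node 31604815 23 (.node 30220365 137 (.node 30169165 149 .tip .tip) .tip) (.node 31666255 31 .tip .tip)))
(.node 32055375 138
(.node 31938639 146 (.node 31860815 8 (.node 31791183 154 .tip .tip) .tip) (.node 32002127 152 .tip .tip))
(.node 32258127 57 (.node 32202831 117 (.node 32116815 112 .tip .tip) .tip) (.node 32327759 53 .tip .tip)))))))

/-- The reasons. -/
def caseDFullN214How : Tab (ℕ × ℕ) :=
(.node 84 (.node 42 (.node 21 (.node 10 (.node 5 (.node 2 (.node 1 (.leaf (0, 0)) (.leaf (1071, 0))) (.node 1 (.leaf (1072, 0)) (.node 1 (.leaf (4173, 0)) (.leaf (1071, 1)))))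
(.node 2 (.node 1 (.leaf (1072, 1)) (.leaf (4173, 1))) (.node 1 (.leaf (1071, 2)) (.node 1 (.leaf (4173, 2)) (.leaf (1071, 3))))))
(.node 5 (.node 2 (.node 1 (.leaf (1072, 3)) (.leaf (1071, 4))) (.node 1 (.leaf (1072, 4)) (.node 1 (.leaf (4173, 4)) (.leaf (1071, 5)))))
(.node 3 (.node 1 (.leaf (4173, 5)) (.node 1 (.leaf (1071, 6)) (.leaf (1072, 6)))) (.node 1 (.leaf (1071, 7)) (.node 1 (.leaf (1072, 7)) (.leaf (4173, 7)))))))
(.node 10 (.node 5 (.node 2 (.node 1 (.leaf (1071, 8)) (.leaf (1072, 8))) (.node 1 (.leaf (1071, 9)) (.node 1 (.leaf (1072, 9)) (.leaf (4173, 9)))))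
(.node 2 (.node 1 (.leaf (1071, 10)) (.leaf (1072, 11))) (.node 1 (.leaf (4173, 11)) (.node 1 (.leaf (1071, 12)) (.leaf (4173, 12))))))
(.node 5 (.node 2 (.node 1 (.leaf (1071, 13)) (.leaf (1072, 13))) (.node 1 (.leaf (1071, 14)) (.node 1 (.leaf (1072, 14)) (.leaf (4173, 14)))))
(.node 3 (.node 1 (.leaf (1071, 15)) (.node 1 (.leaf (1072, 15)) (.leaf (1071, 16)))) (.node 1 (.leaf (1072, 16)) (.node 1 (.leaf (4173, 16)) (.leaf (1071, 17))))))))
(.node 21 (.node 10 (.node 5 (.node 2 (.node 1 (.leaf (1072, 18)) (.leaf (4173, 18))) (.node 1 (.leaf (4173, 19)) (.node 1 (.leaf (1071, 20)) (.leaf (1072, 20)))))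
(.node 2 (.node 1 (.leaf (1071, 21)) (.leaf (1072, 21))) (.node 1 (.leaf (4173, 21)) (.node 1 (.leaf (1071, 22)) (.leaf (1072, 23))))))
(.node 5 (.node 2 (.node 1 (.leaf (4173, 23)) (.leaf (1071, 24))) (.node 1 (.leaf (4173, 24)) (.node 1 (.leaf (1072, 25)) (.leaf (1071, 26)))))
(.node 3 (.node 1 (.leaf (1072, 26)) (.node 1 (.leaf (4173, 26)) (.leaf (1071, 27)))) (.node 1 (.leaf (4173, 27)) (.node 1 (.leaf (1071, 28)) (.leaf (1072, 28)))))))
(.node 10 (.node 5 (.node 2 (.node 1 (.leaf (1071, 29)) (.leaf (1072, 29))) (.node 1 (.leaf (1071, 30)) (.node 1 (.leaf (1072, 30)) (.leaf (1071, 31)))))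
(.node 2 (.node 1 (.leaf (1072, 31)) (.leaf (4173, 31))) (.node 1 (.leaf (1072, 33)) (.node 1 (.leaf (4173, 33)) (.leaf (4173, 34))))))
(.node 5 (.node 2 (.node 1 (.leaf (1071, 35)) (.leaf (1072, 35))) (.node 1 (.leaf (1071, 36)) (.node 1 (.leaf (1072, 36)) (.leaf (4173, 36)))))
(.node 3 (.node 1 (.leaf (1071, 37)) (.node 1 (.leaf (1072, 38)) (.leaf (1071, 39)))) (.node 1 (.leaf (4173, 39)) (.node 1 (.leaf (1072, 40)) (.leaf (1072, 41)))))))))
(.node 42 (.node 21 (.node 10 (.node 5 (.node 2 (.node 1 (.leaf (4173, 41)) (.leaf (1071, 43))) (.node 1 (.leaf (1072, 43)) (.node 1 (.leaf (1071, 44)) (.leaf (1072, 44)))))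
(.node 2 (.node 1 (.leaf (1072, 45)) (.leaf (4173, 45))) (.node 1 (.leaf (1071, 46)) (.node 1 (.leaf (1072, 47)) (.leaf (1071, 48))))))
(.node 5 (.node 2 (.node 1 (.leaf (1072, 49)) (.leaf (1071, 50))) (.node 1 (.leaf (1072, 50)) (.node 1 (.leaf (4173, 50)) (.leaf (1071, 51)))))
(.node 3 (.node 1 (.leaf (4173, 51)) (.node 1 (.leaf (1071, 52)) (.leaf (1072, 52)))) (.node 1 (.leaf (1071, 53)) (.node 1 (.leaf (1072, 53)) (.leaf (4173, 53)))))))
(.node 10 (.node 5 (.node 2 (.node 1 (.leaf (1072, 54)) (.leaf (1071, 55))) (.node 1 (.leaf (1072, 56)) (.node 1 (.leaf (4173, 56)) (.leaf (4173, 57)))))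
(.node 2 (.node 1 (.leaf (1071, 58)) (.leaf (1072, 59))) (.node 1 (.leaf (1071, 60)) (.node 1 (.leaf (1072, 60)) (.leaf (1071, 61))))))
(.node 5 (.node 2 (.node 1 (.leaf (1072, 61)) (.leaf (4173, 63))) (.node 1 (.leaf (4173, 64)) (.node 1 (.leaf (1072, 65)) (.leaf (1071, 66)))))
(.node 3 (.node 1 (.leaf (1071, 68)) (.node 1 (.leaf (4173, 68)) (.leaf (1072, 69)))) (.node 1 (.leaf (1071, 71)) (.node 1 (.leaf (1072, 71)) (.leaf (1071, 72))))))))
(.node 21 (.node 10 (.node 5 (.node 2 (.node 1 (.leaf (1072, 72)) (.leaf (4173, 73))) (.node 1 (.leaf (1071, 74)) (.node 1 (.leaf (1072, 75)) (.leaf (1071, 76)))))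
(.node 2 (.node 1 (.leaf (1072, 77)) (.leaf (1071, 78))) (.node 1 (.leaf (1072, 78)) (.node 1 (.leaf (1071, 79)) (.leaf (1071, 80))))))
(.node 5 (.node 2 (.node 1 (.leaf (4173, 80)) (.leaf (1071, 82))) (.node 1 (.leaf (1071, 84)) (.node 1 (.leaf (1071, 85)) (.leaf (1072, 85)))))
(.node 3 (.node 1 (.leaf (4173, 87)) (.node 1 (.leaf (1071, 89)) (.leaf (4173, 92)))) (.node 1 (.leaf (1071, 93)) (.node 1 (.leaf (1072, 93)) (.leaf (1072, 95)))))))
(.node 10 (.node 5 (.node 2 (.node 1 (.leaf (4173, 96)) (.leaf (1071, 97))) (.node 1 (.leaf (1072, 98)) (.node 1 (.leaf (1071, 99)) (.leaf (1072, 99)))))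
(.node 2 (.node 1 (.leaf (1072, 108)) (.leaf (1071, 109))) (.node 1 (.leaf (1071, 113)) (.node 1 (.leaf (1071, 115)) (.leaf (1072, 116))))))
(.node 5 (.node 2 (.node 1 (.leaf (1071, 118)) (.leaf (1071, 119))) (.node 1 (.leaf (1072, 119)) (.node 1 (.leaf (4173, 120)) (.leaf (1071, 122)))))
(.node 3 (.node 1 (.leaf (1072, 130)) (.node 1 (.leaf (1072, 134)) (.leaf (1072, 141)))) (.node 1 (.leaf (4173, 142)) (.node 1 (.leaf (1071, 147)) (.leaf (4173, 153))))))))))

/-- The node. -/
def caseDFullN214Node : NodeD := ⟨214, 168, caseDFullN214Els, caseDFullN214Ix, caseDFullN214How, fun b => bif b then (.node 7 (.node 3 (.node 1 (.leaf 1061) (.node 1 (.leaf 4441) (.leaf 4176)))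
(.node 2 (.node 1 (.leaf 4445) (.leaf 4178)) (.node 1 (.leaf 4442) (.leaf 4443))))
(.node 3 (.node 1 (.leaf 4177) (.node 1 (.leaf 4446) (.leaf 4179)))
(.node 2 (.node 1 (.leaf 4444) (.leaf 4174)) (.node 1 (.leaf 4440) (.leaf 4175))))) else (.node 7 (.node 3 (.node 1 (.leaf 4437) (.node 1 (.leaf 4434) (.leaf 4431)))
(.node 2 (.node 1 (.leaf 4429) (.leaf 4432)) (.node 1 (.leaf 4430) (.leaf 4426))))
(.node 3 (.node 1 (.leaf 4436) (.node 1 (.leaf 4428) (.leaf 4427)))
(.node 2 (.node 1 (.leaf 4433) (.leaf 4435)) (.node 1 (.leaf 4438) (.leaf 4439)))))⟩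

/-- The inverse action. -/
def caseDFullInv0LL : Tab ℕ :=
(.node 192 (.node 96 (.node 48 (.node 24 (.node 12 (.node 6 (.node 3 (.node 1 (.leaf 0) (.node 1 (.leaf 631) (.leaf 258))) (.node 1 (.leaf 450) (.node 1 (.leaf 134) (.leaf 160))))
(.node 3 (.node 1 (.leaf 104) (.node 1 (.leaf 635) (.leaf 12))) (.node 1 (.leaf 1128) (.node 1 (.leaf 1059) (.leaf 1420)))))
(.node 6 (.node 3 (.node 1 (.leaf 8) (.node 1 (.leaf 827) (.leaf 361))) (.node 1 (.leaf 345) (.node 1 (.leaf 1022) (.leaf 1099))))
(.node 3 (.node 1 (.leaf 58) (.node 1 (.leaf 1235) (.leaf 504))) (.node 1 (.leaf 431) (.node 1 (.leaf 326) (.leaf 1108))))))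
(.node 12 (.node 6 (.node 3 (.node 1 (.leaf 931) (.node 1 (.leaf 1064) (.leaf 939))) (.node 1 (.leaf 92) (.node 1 (.leaf 838) (.leaf 1527))))
(.node 3 (.node 1 (.leaf 1066) (.node 1 (.leaf 238) (.leaf 1190))) (.node 1 (.leaf 852) (.node 1 (.leaf 1161) (.leaf 500)))))
(.node 6 (.node 3 (.node 1 (.leaf 729) (.node 1 (.leaf 639) (.leaf 24))) (.node 1 (.leaf 1445) (.node 1 (.leaf 356) (.leaf 1180))))
(.node 3 (.node 1 (.leaf 91) (.node 1 (.leaf 744) (.leaf 708))) (.node 1 (.leaf 665) (.node 1 (.leaf 1437) (.leaf 1192)))))))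
(.node 24 (.node 12 (.node 6 (.node 3 (.node 1 (.leaf 1118) (.node 1 (.leaf 245) (.leaf 1435))) (.node 1 (.leaf 581) (.node 1 (.leaf 1012) (.leaf 1193))))
(.node 3 (.node 1 (.leaf 542) (.node 1 (.leaf 914) (.leaf 205))) (.node 1 (.leaf 579) (.node 1 (.leaf 938) (.leaf 1467)))))
(.node 6 (.node 3 (.node 1 (.leaf 921) (.node 1 (.leaf 1454) (.leaf 1088))) (.node 1 (.leaf 1507) (.node 1 (.leaf 1518) (.leaf 427))))
(.node 3 (.node 1 (.leaf 425) (.node 1 (.leaf 442) (.leaf 501))) (.node 1 (.leaf 277) (.node 1 (.leaf 355) (.leaf 71))))))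
(.node 12 (.node 6 (.node 3 (.node 1 (.leaf 1389) (.node 1 (.leaf 1219) (.leaf 392))) (.node 1 (.leaf 1294) (.node 1 (.leaf 1187) (.leaf 552))))
(.node 3 (.node 1 (.leaf 589) (.node 1 (.leaf 18) (.leaf 1336))) (.node 1 (.leaf 81) (.node 1 (.leaf 1423) (.leaf 777)))))
(.node 6 (.node 3 (.node 1 (.leaf 1098) (.node 1 (.leaf 246) (.leaf 1339))) (.node 1 (.leaf 561) (.node 1 (.leaf 1350) (.leaf 408))))
(.node 3 (.node 1 (.leaf 883) (.node 1 (.leaf 525) (.leaf 737))) (.node 1 (.leaf 819) (.node 1 (.leaf 1317) (.leaf 882))))))))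
(.node 48 (.node 24 (.node 12 (.node 6 (.node 3 (.node 1 (.leaf 207) (.node 1 (.leaf 1276) (.leaf 62))) (.node 1 (.leaf 667) (.node 1 (.leaf 1218) (.leaf 206))))
(.node 3 (.node 1 (.leaf 837) (.node 1 (.leaf 1228) (.leaf 385))) (.node 1 (.leaf 858) (.node 1 (.leaf 1414) (.leaf 448)))))
(.node 6 (.node 3 (.node 1 (.leaf 719) (.node 1 (.leaf 383) (.leaf 1163))) (.node 1 (.leaf 1382) (.node 1 (.leaf 623) (.leaf 140))))
(.node 3 (.node 1 (.leaf 592) (.node 1 (.leaf 1221) (.leaf 159))) (.node 1 (.leaf 1316) (.node 1 (.leaf 523) (.leaf 642))))))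
(.node 12 (.node 6 (.node 3 (.node 1 (.leaf 1492) (.node 1 (.leaf 1017) (.leaf 606))) (.node 1 (.leaf 411) (.node 1 (.leaf 471) (.leaf 491))))
(.node 3 (.node 1 (.leaf 1464) (.node 1 (.leaf 1029) (.leaf 586))) (.node 1 (.leaf 272) (.node 1 (.leaf 813) (.leaf 685)))))
(.node 6 (.node 3 (.node 1 (.leaf 856) (.node 1 (.leaf 1338) (.leaf 569))) (.node 1 (.leaf 1331) (.node 1 (.leaf 457) (.leaf 615))))
(.node 3 (.node 1 (.leaf 1135) (.node 1 (.leaf 1053) (.leaf 676))) (.node 1 (.leaf 1028) (.node 1 (.leaf 240) (.leaf 1018)))))))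
(.node 24 (.node 12 (.node 6 (.node 3 (.node 1 (.leaf 599) (.node 1 (.leaf 400) (.leaf 912))) (.node 1 (.leaf 382) (.node 1 (.leaf 1398) (.leaf 566))))
(.node 3 (.node 1 (.leaf 1131) (.node 1 (.leaf 473) (.leaf 760))) (.node 1 (.leaf 620) (.node 1 (.leaf 780) (.leaf 1395)))))
(.node 6 (.node 3 (.node 1 (.leaf 105) (.node 1 (.leaf 1233) (.leaf 1023))) (.node 1 (.leaf 469) (.node 1 (.leaf 1037) (.leaf 596))))
(.node 3 (.node 1 (.leaf 493) (.node 1 (.leaf 467) (.leaf 751))) (.node 1 (.leaf 57) (.node 1 (.leaf 1178) (.leaf 264))))))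
(.node 12 (.node 6 (.node 3 (.node 1 (.leaf 283) (.node 1 (.leaf 781) (.leaf 1287))) (.node 1 (.leaf 328) (.node 1 (.leaf 244) (.leaf 403))))
(.node 3 (.node 1 (.leaf 787) (.node 1 (.leaf 954) (.leaf 362))) (.node 1 (.leaf 1302) (.node 1 (.leaf 278) (.leaf 1097)))))
(.node 6 (.node 3 (.node 1 (.leaf 318) (.node 1 (.leaf 1213) (.leaf 350))) (.node 1 (.leaf 1307) (.node 1 (.leaf 270) (.leaf 1524))))
(.node 3 (.node 1 (.leaf 1134) (.node 1 (.leaf 412) (.leaf 235))) (.node 1 (.leaf 1120) (.node 1 (.leaf 1081) (.leaf 281)))))))))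
(.node 96 (.node 48 (.node 24 (.node 12 (.node 6 (.node 3 (.node 1 (.leaf 1043) (.node 1 (.leaf 906) (.leaf 1172))) (.node 1 (.leaf 279) (.node 1 (.leaf 1110) (.leaf 898))))
(.node 3 (.node 1 (.leaf 184) (.node 1 (.leaf 1315) (.leaf 1036))) (.node 1 (.leaf 107) (.node 1 (.leaf 396) (.leaf 186)))))
(.node 6 (.node 3 (.node 1 (.leaf 1107) (.node 1 (.leaf 227) (.leaf 766))) (.node 1 (.leaf 1362) (.node 1 (.leaf 519) (.leaf 494))))
(.node 3 (.node 1 (.leaf 663) (.node 1 (.leaf 810) (.leaf 1123))) (.node 1 (.leaf 495) (.node 1 (.leaf 420) (.leaf 801))))))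
(.node 12 (.node 6 (.node 3 (.node 1 (.leaf 1361) (.node 1 (.leaf 953) (.leaf 707))) (.node 1 (.leaf 702) (.node 1 (.leaf 699) (.leaf 1266))))
(.node 3 (.node 1 (.leaf 220) (.node 1 (.leaf 1253) (.leaf 728))) (.node 1 (.leaf 296) (.node 1 (.leaf 1103) (.leaf 462)))))
(.node 6 (.node 3 (.node 1 (.leaf 1431) (.node 1 (.leaf 815) (.leaf 430))) (.node 1 (.leaf 1105) (.node 1 (.leaf 1466) (.leaf 1249))))
(.node 3 (.node 1 (.leaf 421) (.node 1 (.leaf 199) (.leaf 1282))) (.node 1 (.leaf 1035) (.node 1 (.leaf 736) (.leaf 284)))))))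
(.node 24 (.node 12 (.node 6 (.node 3 (.node 1 (.leaf 187) (.node 1 (.leaf 1496) (.leaf 181))) (.node 1 (.leaf 1013) (.node 1 (.leaf 1402) (.leaf 49))))
(.node 3 (.node 1 (.leaf 1396) (.node 1 (.leaf 274) (.leaf 1408))) (.node 1 (.leaf 1475) (.node 1 (.leaf 303) (.leaf 1243)))))
(.node 6 (.node 3 (.node 1 (.leaf 824) (.node 1 (.leaf 650) (.leaf 357))) (.node 1 (.leaf 30) (.node 1 (.leaf 945) (.leaf 695))))
(.node 3 (.node 1 (.leaf 23) (.node 1 (.leaf 895) (.leaf 1259))) (.node 1 (.leaf 316) (.node 1 (.leaf 1533) (.leaf 942))))))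
(.node 12 (.node 6 (.node 3 (.node 1 (.leaf 290) (.node 1 (.leaf 314) (.leaf 966))) (.node 1 (.leaf 656) (.node 1 (.leaf 233) (.leaf 983))))
(.node 3 (.node 1 (.leaf 1529) (.node 1 (.leaf 855) (.leaf 540))) (.node 1 (.leaf 358) (.node 1 (.leaf 634) (.leaf 1125)))))
(.node 6 (.node 3 (.node 1 (.leaf 812) (.node 1 (.leaf 310) (.leaf 456))) (.node 1 (.leaf 127) (.node 1 (.leaf 1419) (.leaf 141))))
(.node 3 (.node 1 (.leaf 660) (.node 1 (.leaf 900) (.leaf 1068))) (.node 1 (.leaf 743) (.node 1 (.leaf 117) (.leaf 1260))))))))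
(.node 48 (.node 24 (.node 12 (.node 6 (.node 3 (.node 1 (.leaf 1313) (.node 1 (.leaf 1525) (.leaf 1440))) (.node 1 (.leaf 1199) (.node 1 (.leaf 1262) (.leaf 800))))
(.node 3 (.node 1 (.leaf 835) (.node 1 (.leaf 194) (.leaf 907))) (.node 1 (.leaf 1164) (.node 1 (.leaf 584) (.leaf 315)))))
(.node 6 (.node 3 (.node 1 (.leaf 993) (.node 1 (.leaf 1104) (.leaf 65))) (.node 1 (.leaf 1211) (.node 1 (.leaf 352) (.leaf 1366))))
(.node 3 (.node 1 (.leaf 490) (.node 1 (.leaf 1404) (.leaf 88))) (.node 1 (.leaf 73) (.node 1 (.leaf 1206) (.leaf 916))))))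
(.node 12 (.node 6 (.node 3 (.node 1 (.leaf 440) (.node 1 (.leaf 94) (.leaf 514))) (.node 1 (.leaf 299) (.node 1 (.leaf 854) (.leaf 618))))
(.node 3 (.node 1 (.leaf 1158) (.node 1 (.leaf 1286) (.leaf 896))) (.node 1 (.leaf 1010) (.node 1 (.leaf 850) (.leaf 598)))))
(.node 6 (.node 3 (.node 1 (.leaf 139) (.node 1 (.leaf 1506) (.leaf 179))) (.node 1 (.leaf 918) (.node 1 (.leaf 950) (.leaf 1032))))
(.node 3 (.node 1 (.leaf 1436) (.node 1 (.leaf 851) (.leaf 354))) (.node 1 (.leaf 1122) (.node 1 (.leaf 563) (.leaf 75)))))))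
(.node 24 (.node 12 (.node 6 (.node 3 (.node 1 (.leaf 232) (.node 1 (.leaf 313) (.leaf 894))) (.node 1 (.leaf 605) (.node 1 (.leaf 1332) (.leaf 321))))
(.node 3 (.node 1 (.leaf 42) (.node 1 (.leaf 1146) (.leaf 1275))) (.node 1 (.leaf 889) (.node 1 (.leaf 325) (.leaf 904)))))
(.node 6 (.node 3 (.node 1 (.leaf 261) (.node 1 (.leaf 229) (.leaf 19))) (.node 1 (.leaf 364) (.node 1 (.leaf 1119) (.leaf 96))))
(.node 3 (.node 1 (.leaf 1203) (.node 1 (.leaf 1033) (.leaf 121))) (.node 1 (.leaf 424) (.node 1 (.leaf 847) (.leaf 1185))))))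
(.node 12 (.node 6 (.node 3 (.node 1 (.leaf 1198) (.node 1 (.leaf 83) (.leaf 1039))) (.node 1 (.leaf 113) (.node 1 (.leaf 532) (.leaf 782))))
(.node 3 (.node 1 (.leaf 638) (.node 1 (.leaf 930) (.leaf 1477))) (.node 1 (.leaf 1322) (.node 1 (.leaf 3) (.leaf 1290)))))
(.node 6 (.node 3 (.node 1 (.leaf 1478) (.node 1 (.leaf 178) (.leaf 1026))) (.node 1 (.leaf 713) (.node 1 (.leaf 554) (.leaf 902))))
(.node 3 (.node 1 (.leaf 846) (.node 1 (.leaf 1452) (.leaf 150))) (.node 1 (.leaf 557) (.node 1 (.leaf 1025) (.leaf 770))))))))))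

/-- The inverse action. -/
def caseDFullInv0LR : Tab ℕ :=
(.node 192 (.node 96 (.node 48 (.node 24 (.node 12 (.node 6 (.node 3 (.node 1 (.leaf 148) (.node 1 (.leaf 830) (.leaf 1055))) (.node 1 (.leaf 692) (.node 1 (.leaf 1442) (.leaf 1242))))
(.node 3 (.node 1 (.leaf 818) (.node 1 (.leaf 949) (.leaf 263))) (.node 1 (.leaf 1209) (.node 1 (.leaf 98) (.leaf 259)))))
(.node 6 (.node 3 (.node 1 (.leaf 619) (.node 1 (.leaf 885) (.leaf 1174))) (.node 1 (.leaf 936) (.node 1 (.leaf 648) (.leaf 1162))))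
(.node 3 (.node 1 (.leaf 405) (.node 1 (.leaf 979) (.leaf 407))) (.node 1 (.leaf 17) (.node 1 (.leaf 48) (.leaf 219))))))
(.node 12 (.node 6 (.node 3 (.node 1 (.leaf 387) (.node 1 (.leaf 1189) (.leaf 1232))) (.node 1 (.leaf 217) (.node 1 (.leaf 142) (.leaf 1342))))
(.node 3 (.node 1 (.leaf 675) (.node 1 (.leaf 1231) (.leaf 1147))) (.node 1 (.leaf 821) (.node 1 (.leaf 964) (.leaf 41)))))
(.node 6 (.node 3 (.node 1 (.leaf 609) (.node 1 (.leaf 262) (.leaf 165))) (.node 1 (.leaf 1204) (.node 1 (.leaf 507) (.leaf 393))))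
(.node 3 (.node 1 (.leaf 466) (.node 1 (.leaf 630) (.leaf 1205))) (.node 1 (.leaf 607) (.node 1 (.leaf 230) (.leaf 655)))))))
(.node 24 (.node 12 (.node 6 (.node 3 (.node 1 (.leaf 451) (.node 1 (.leaf 201) (.leaf 717))) (.node 1 (.leaf 375) (.node 1 (.leaf 1323) (.leaf 682))))
(.node 3 (.node 1 (.leaf 534) (.node 1 (.leaf 1379) (.leaf 339))) (.node 1 (.leaf 435) (.node 1 (.leaf 389) (.leaf 1255)))))
(.node 6 (.node 3 (.node 1 (.leaf 583) (.node 1 (.leaf 1320) (.leaf 464))) (.node 1 (.leaf 1217) (.node 1 (.leaf 433) (.leaf 485))))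
(.node 3 (.node 1 (.leaf 1505) (.node 1 (.leaf 1160) (.leaf 611))) (.node 1 (.leaf 1240) (.node 1 (.leaf 1044) (.leaf 349))))))
(.node 12 (.node 6 (.node 3 (.node 1 (.leaf 373) (.node 1 (.leaf 1497) (.leaf 1159))) (.node 1 (.leaf 1520) (.node 1 (.leaf 928) (.leaf 119))))
(.node 3 (.node 1 (.leaf 56) (.node 1 (.leaf 273) (.leaf 878))) (.node 1 (.leaf 991) (.node 1 (.leaf 735) (.leaf 617)))))
(.node 6 (.node 3 (.node 1 (.leaf 1471) (.node 1 (.leaf 610) (.leaf 1416))) (.node 1 (.leaf 413) (.node 1 (.leaf 461) (.leaf 1121))))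
(.node 3 (.node 1 (.leaf 990) (.node 1 (.leaf 32) (.leaf 1380))) (.node 1 (.leaf 418) (.node 1 (.leaf 570) (.leaf 669))))))))
(.node 48 (.node 24 (.node 12 (.node 6 (.node 3 (.node 1 (.leaf 416) (.node 1 (.leaf 481) (.leaf 574))) (.node 1 (.leaf 39) (.node 1 (.leaf 510) (.leaf 925))))
(.node 3 (.node 1 (.leaf 683) (.node 1 (.leaf 562) (.leaf 690))) (.node 1 (.leaf 1273) (.node 1 (.leaf 1486) (.leaf 390)))))
(.node 6 (.node 3 (.node 1 (.leaf 87) (.node 1 (.leaf 591) (.leaf 158))) (.node 1 (.leaf 1005) (.node 1 (.leaf 1101) (.leaf 595))))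
(.node 3 (.node 1 (.leaf 346) (.node 1 (.leaf 419) (.leaf 126))) (.node 1 (.leaf 438) (.node 1 (.leaf 1502) (.leaf 706))))))
(.node 12 (.node 6 (.node 3 (.node 1 (.leaf 256) (.node 1 (.leaf 1224) (.leaf 1425))) (.node 1 (.leaf 254) (.node 1 (.leaf 333) (.leaf 688))))
(.node 3 (.node 1 (.leaf 13) (.node 1 (.leaf 216) (.leaf 714))) (.node 1 (.leaf 884) (.node 1 (.leaf 1268) (.leaf 1237)))))
(.node 6 (.node 3 (.node 1 (.leaf 1280) (.node 1 (.leaf 1052) (.leaf 986))) (.node 1 (.leaf 1171) (.node 1 (.leaf 1244) (.leaf 1136))))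
(.node 3 (.node 1 (.leaf 1476) (.node 1 (.leaf 530) (.leaf 255))) (.node 1 (.leaf 342) (.node 1 (.leaf 177) (.leaf 276)))))))
(.node 24 (.node 12 (.node 6 (.node 3 (.node 1 (.leaf 886) (.node 1 (.leaf 988) (.leaf 721))) (.node 1 (.leaf 1069) (.node 1 (.leaf 786) (.leaf 1434))))
(.node 3 (.node 1 (.leaf 68) (.node 1 (.leaf 678) (.leaf 1535))) (.node 1 (.leaf 320) (.node 1 (.leaf 1377) (.leaf 300)))))
(.node 6 (.node 3 (.node 1 (.leaf 693) (.node 1 (.leaf 1269) (.leaf 860))) (.node 1 (.leaf 1246) (.node 1 (.leaf 816) (.leaf 1090))))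
(.node 3 (.node 1 (.leaf 696) (.node 1 (.leaf 136) (.leaf 887))) (.node 1 (.leaf 763) (.node 1 (.leaf 365) (.leaf 423))))))
(.node 12 (.node 6 (.node 3 (.node 1 (.leaf 1261) (.node 1 (.leaf 710) (.leaf 506))) (.node 1 (.leaf 1111) (.node 1 (.leaf 54) (.leaf 135))))
(.node 3 (.node 1 (.leaf 844) (.node 1 (.leaf 628) (.leaf 608))) (.node 1 (.leaf 1503) (.node 1 (.leaf 1324) (.leaf 671)))))
(.node 6 (.node 3 (.node 1 (.leaf 271) (.node 1 (.leaf 1194) (.leaf 943))) (.node 1 (.leaf 480) (.node 1 (.leaf 470) (.leaf 689))))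
(.node 3 (.node 1 (.leaf 1460) (.node 1 (.leaf 214) (.leaf 1523))) (.node 1 (.leaf 1137) (.node 1 (.leaf 1444) (.leaf 992)))))))))
(.node 96 (.node 48 (.node 24 (.node 12 (.node 6 (.node 3 (.node 1 (.leaf 76) (.node 1 (.leaf 1274) (.leaf 55))) (.node 1 (.leaf 422) (.node 1 (.leaf 961) (.leaf 1057))))
(.node 3 (.node 1 (.leaf 1236) (.node 1 (.leaf 670) (.leaf 1314))) (.node 1 (.leaf 537) (.node 1 (.leaf 709) (.leaf 1391)))))
(.node 6 (.node 3 (.node 1 (.leaf 1075) (.node 1 (.leaf 338) (.leaf 1479))) (.node 1 (.leaf 805) (.node 1 (.leaf 674) (.leaf 384))))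
(.node 3 (.node 1 (.leaf 1168) (.node 1 (.leaf 1372) (.leaf 808))) (.node 1 (.leaf 518) (.node 1 (.leaf 437) (.leaf 157))))))
(.node 12 (.node 6 (.node 3 (.node 1 (.leaf 1252) (.node 1 (.leaf 1102) (.leaf 778))) (.node 1 (.leaf 809) (.node 1 (.leaf 1364) (.leaf 312))))
(.node 3 (.node 1 (.leaf 428) (.node 1 (.leaf 166) (.leaf 947))) (.node 1 (.leaf 571) (.node 1 (.leaf 116) (.leaf 211)))))
(.node 6 (.node 3 (.node 1 (.leaf 1354) (.node 1 (.leaf 1009) (.leaf 170))) (.node 1 (.leaf 319) (.node 1 (.leaf 204) (.leaf 716))))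
(.node 3 (.node 1 (.leaf 301) (.node 1 (.leaf 1117) (.leaf 1469))) (.node 1 (.leaf 849) (.node 1 (.leaf 632) (.leaf 289)))))))
(.node 24 (.node 12 (.node 6 (.node 3 (.node 1 (.leaf 1084) (.node 1 (.leaf 1186) (.leaf 168))) (.node 1 (.leaf 497) (.node 1 (.leaf 1330) (.leaf 1305))))
(.node 3 (.node 1 (.leaf 302) (.node 1 (.leaf 1418) (.leaf 1491))) (.node 1 (.leaf 477) (.node 1 (.leaf 1528) (.leaf 1089)))))
(.node 6 (.node 3 (.node 1 (.leaf 568) (.node 1 (.leaf 539) (.leaf 832))) (.node 1 (.leaf 543) (.node 1 (.leaf 496) (.leaf 446))))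
(.node 3 (.node 1 (.leaf 472) (.node 1 (.leaf 1129) (.leaf 969))) (.node 1 (.leaf 293) (.node 1 (.leaf 997) (.leaf 479))))))
(.node 12 (.node 6 (.node 3 (.node 1 (.leaf 1264) (.node 1 (.leaf 1455) (.leaf 1148))) (.node 1 (.leaf 614) (.node 1 (.leaf 1326) (.leaf 475))))
(.node 3 (.node 1 (.leaf 9) (.node 1 (.leaf 843) (.leaf 546))) (.node 1 (.leaf 147) (.node 1 (.leaf 985) (.leaf 297)))))
(.node 6 (.node 3 (.node 1 (.leaf 535) (.node 1 (.leaf 7) (.leaf 50))) (.node 1 (.leaf 226) (.node 1 (.leaf 505) (.leaf 774))))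
(.node 3 (.node 1 (.leaf 1083) (.node 1 (.leaf 779) (.leaf 388))) (.node 1 (.leaf 769) (.node 1 (.leaf 1501) (.leaf 795))))))))
(.node 48 (.node 24 (.node 12 (.node 6 (.node 3 (.node 1 (.leaf 51) (.node 1 (.leaf 995) (.leaf 745))) (.node 1 (.leaf 870) (.node 1 (.leaf 363) (.leaf 5))))
(.node 3 (.node 1 (.leaf 282) (.node 1 (.leaf 1015) (.leaf 971))) (.node 1 (.leaf 1263) (.node 1 (.leaf 323) (.leaf 486)))))
(.node 6 (.node 3 (.node 1 (.leaf 1376) (.node 1 (.leaf 1319) (.leaf 336))) (.node 1 (.leaf 545) (.node 1 (.leaf 1079) (.leaf 4))))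
(.node 3 (.node 1 (.leaf 1409) (.node 1 (.leaf 756) (.leaf 89))) (.node 1 (.leaf 129) (.node 1 (.leaf 750) (.leaf 899))))))
(.node 12 (.node 6 (.node 3 (.node 1 (.leaf 267) (.node 1 (.leaf 604) (.leaf 190))) (.node 1 (.leaf 703) (.node 1 (.leaf 1197) (.leaf 1458))))
(.node 3 (.node 1 (.leaf 404) (.node 1 (.leaf 222) (.leaf 1050))) (.node 1 (.leaf 1355) (.node 1 (.leaf 771) (.leaf 910)))))
(.node 6 (.node 3 (.node 1 (.leaf 1165) (.node 1 (.leaf 1373) (.leaf 1318))) (.node 1 (.leaf 101) (.node 1 (.leaf 1116) (.leaf 441))))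
(.node 3 (.node 1 (.leaf 453) (.node 1 (.leaf 828) (.leaf 163))) (.node 1 (.leaf 588) (.node 1 (.leaf 1049) (.leaf 712)))))))
(.node 24 (.node 12 (.node 6 (.node 3 (.node 1 (.leaf 1462) (.node 1 (.leaf 118) (.leaf 829))) (.node 1 (.leaf 156) (.node 1 (.leaf 933) (.leaf 218))))
(.node 3 (.node 1 (.leaf 1337) (.node 1 (.leaf 866) (.leaf 957))) (.node 1 (.leaf 944) (.node 1 (.leaf 1410) (.leaf 1258)))))
(.node 6 (.node 3 (.node 1 (.leaf 1388) (.node 1 (.leaf 483) (.leaf 1463))) (.node 1 (.leaf 893) (.node 1 (.leaf 897) (.leaf 841))))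
(.node 3 (.node 1 (.leaf 905) (.node 1 (.leaf 80) (.leaf 659))) (.node 1 (.leaf 1170) (.node 1 (.leaf 1429) (.leaf 120))))))
(.node 12 (.node 6 (.node 3 (.node 1 (.leaf 802) (.node 1 (.leaf 114) (.leaf 399))) (.node 1 (.leaf 754) (.node 1 (.leaf 1080) (.leaf 487))))
(.node 3 (.node 1 (.leaf 845) (.node 1 (.leaf 197) (.leaf 1450))) (.node 1 (.leaf 761) (.node 1 (.leaf 643) (.leaf 798)))))
(.node 6 (.node 3 (.node 1 (.leaf 652) (.node 1 (.leaf 1291) (.leaf 715))) (.node 1 (.leaf 1229) (.node 1 (.leaf 1451) (.leaf 1345))))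
(.node 3 (.node 1 (.leaf 196) (.node 1 (.leaf 602) (.leaf 734))) (.node 1 (.leaf 1412) (.node 1 (.leaf 711) (.leaf 72))))))))))

/-- The inverse action. -/
def caseDFullInv0L : Tab ℕ := .node 384 caseDFullInv0LL caseDFullInv0LR

/-- The inverse action. -/
def caseDFullInv0RL : Tab ℕ :=
(.node 192 (.node 96 (.node 48 (.node 24 (.node 12 (.node 6 (.node 3 (.node 1 (.leaf 26) (.node 1 (.leaf 647) (.leaf 1149))) (.node 1 (.leaf 1433) (.node 1 (.leaf 306) (.leaf 806))))
(.node 3 (.node 1 (.leaf 1072) (.node 1 (.leaf 401) (.leaf 1001))) (.node 1 (.leaf 14) (.node 1 (.leaf 549) (.leaf 1245)))))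
(.node 6 (.node 3 (.node 1 (.leaf 999) (.node 1 (.leaf 803) (.leaf 1483))) (.node 1 (.leaf 359) (.node 1 (.leaf 533) (.leaf 465))))
(.node 3 (.node 1 (.leaf 351) (.node 1 (.leaf 1375) (.leaf 52))) (.node 1 (.leaf 853) (.node 1 (.leaf 705) (.leaf 1133))))))
(.node 12 (.node 6 (.node 3 (.node 1 (.leaf 978) (.node 1 (.leaf 788) (.leaf 308))) (.node 1 (.leaf 334) (.node 1 (.leaf 1411) (.leaf 169))))
(.node 3 (.node 1 (.leaf 369) (.node 1 (.leaf 888) (.leaf 989))) (.node 1 (.leaf 86) (.node 1 (.leaf 862) (.leaf 797)))))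
(.node 6 (.node 3 (.node 1 (.leaf 70) (.node 1 (.leaf 162) (.leaf 587))) (.node 1 (.leaf 176) (.node 1 (.leaf 1297) (.leaf 1461))))
(.node 3 (.node 1 (.leaf 452) (.node 1 (.leaf 526) (.leaf 1196))) (.node 1 (.leaf 103) (.node 1 (.leaf 1058) (.leaf 455)))))))
(.node 24 (.node 12 (.node 6 (.node 3 (.node 1 (.leaf 1516) (.node 1 (.leaf 1167) (.leaf 125))) (.node 1 (.leaf 528) (.node 1 (.leaf 874) (.leaf 133))))
(.node 3 (.node 1 (.leaf 468) (.node 1 (.leaf 1457) (.leaf 1415))) (.node 1 (.leaf 151) (.node 1 (.leaf 1201) (.leaf 484)))))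
(.node 6 (.node 3 (.node 1 (.leaf 1301) (.node 1 (.leaf 63) (.leaf 6))) (.node 1 (.leaf 1054) (.node 1 (.leaf 952) (.leaf 909))))
(.node 3 (.node 1 (.leaf 1077) (.node 1 (.leaf 1175) (.leaf 640))) (.node 1 (.leaf 757) (.node 1 (.leaf 1141) (.leaf 972))))))
(.node 12 (.node 6 (.node 3 (.node 1 (.leaf 1169) (.node 1 (.leaf 27) (.leaf 868))) (.node 1 (.leaf 21) (.node 1 (.leaf 269) (.leaf 1522))))
(.node 3 (.node 1 (.leaf 378) (.node 1 (.leaf 463) (.leaf 881))) (.node 1 (.leaf 1346) (.node 1 (.leaf 1109) (.leaf 1188)))))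
(.node 6 (.node 3 (.node 1 (.leaf 183) (.node 1 (.leaf 789) (.leaf 348))) (.node 1 (.leaf 1367) (.node 1 (.leaf 956) (.leaf 1281))))
(.node 3 (.node 1 (.leaf 723) (.node 1 (.leaf 305) (.leaf 556))) (.node 1 (.leaf 684) (.node 1 (.leaf 43) (.leaf 753))))))))
(.node 48 (.node 24 (.node 12 (.node 6 (.node 3 (.node 1 (.leaf 154) (.node 1 (.leaf 1191) (.leaf 1094))) (.node 1 (.leaf 1042) (.node 1 (.leaf 1156) (.leaf 16))))
(.node 3 (.node 1 (.leaf 1179) (.node 1 (.leaf 1378) (.leaf 767))) (.node 1 (.leaf 1154) (.node 1 (.leaf 90) (.leaf 1370)))))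
(.node 6 (.node 3 (.node 1 (.leaf 1335) (.node 1 (.leaf 1270) (.leaf 641))) (.node 1 (.leaf 1358) (.node 1 (.leaf 295) (.leaf 1048))))
(.node 3 (.node 1 (.leaf 826) (.node 1 (.leaf 820) (.leaf 792))) (.node 1 (.leaf 575) (.node 1 (.leaf 93) (.leaf 867))))))
(.node 12 (.node 6 (.node 3 (.node 1 (.leaf 476) (.node 1 (.leaf 1487) (.leaf 1446))) (.node 1 (.leaf 1531) (.node 1 (.leaf 1401) (.leaf 426))))
(.node 3 (.node 1 (.leaf 78) (.node 1 (.leaf 1489) (.leaf 585))) (.node 1 (.leaf 31) (.node 1 (.leaf 164) (.leaf 1250)))))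
(.node 6 (.node 3 (.node 1 (.leaf 626) (.node 1 (.leaf 1234) (.leaf 1299))) (.node 1 (.leaf 522) (.node 1 (.leaf 1421) (.leaf 502))))
(.node 3 (.node 1 (.leaf 97) (.node 1 (.leaf 1215) (.leaf 984))) (.node 1 (.leaf 833) (.node 1 (.leaf 725) (.leaf 447)))))))
(.node 24 (.node 12 (.node 6 (.node 3 (.node 1 (.leaf 577) (.node 1 (.leaf 1016) (.leaf 1481))) (.node 1 (.leaf 1062) (.node 1 (.leaf 1144) (.leaf 1184))))
(.node 3 (.node 1 (.leaf 391) (.node 1 (.leaf 987) (.leaf 1092))) (.node 1 (.leaf 700) (.node 1 (.leaf 1143) (.leaf 724)))))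
(.node 6 (.node 3 (.node 1 (.leaf 152) (.node 1 (.leaf 1511) (.leaf 111))) (.node 1 (.leaf 1308) (.node 1 (.leaf 922) (.leaf 1153))))
(.node 3 (.node 1 (.leaf 565) (.node 1 (.leaf 1513) (.leaf 560))) (.node 1 (.leaf 1386) (.node 1 (.leaf 1056) (.leaf 662))))))
(.node 12 (.node 6 (.node 3 (.node 1 (.leaf 1385) (.node 1 (.leaf 892) (.leaf 79))) (.node 1 (.leaf 1327) (.node 1 (.leaf 1344) (.leaf 1426))))
(.node 3 (.node 1 (.leaf 74) (.node 1 (.leaf 1424) (.leaf 1482))) (.node 1 (.leaf 20) (.node 1 (.leaf 213) (.leaf 932)))))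
(.node 6 (.node 3 (.node 1 (.leaf 1465) (.node 1 (.leaf 327) (.leaf 1132))) (.node 1 (.leaf 482) (.node 1 (.leaf 366) (.leaf 123))))
(.node 3 (.node 1 (.leaf 10) (.node 1 (.leaf 1021) (.leaf 1061))) (.node 1 (.leaf 1472) (.node 1 (.leaf 294) (.leaf 1334)))))))))
(.node 96 (.node 48 (.node 24 (.node 12 (.node 6 (.node 3 (.node 1 (.leaf 718) (.node 1 (.leaf 572) (.leaf 1403))) (.node 1 (.leaf 785) (.node 1 (.leaf 633) (.leaf 1453))))
(.node 3 (.node 1 (.leaf 185) (.node 1 (.leaf 252) (.leaf 1277))) (.node 1 (.leaf 459) (.node 1 (.leaf 981) (.leaf 292)))))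
(.node 6 (.node 3 (.node 1 (.leaf 236) (.node 1 (.leaf 131) (.leaf 1432))) (.node 1 (.leaf 1241) (.node 1 (.leaf 1) (.leaf 541))))
(.node 3 (.node 1 (.leaf 513) (.node 1 (.leaf 1369) (.leaf 1127))) (.node 1 (.leaf 871) (.node 1 (.leaf 616) (.leaf 558))))))
(.node 12 (.node 6 (.node 3 (.node 1 (.leaf 649) (.node 1 (.leaf 658) (.leaf 1214))) (.node 1 (.leaf 489) (.node 1 (.leaf 1173) (.leaf 645))))
(.node 3 (.node 1 (.leaf 965) (.node 1 (.leaf 963) (.leaf 397))) (.node 1 (.leaf 637) (.node 1 (.leaf 1384) (.leaf 704)))))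
(.node 6 (.node 3 (.node 1 (.leaf 996) (.node 1 (.leaf 679) (.leaf 309))) (.node 1 (.leaf 864) (.node 1 (.leaf 783) (.leaf 237))))
(.node 3 (.node 1 (.leaf 1292) (.node 1 (.leaf 601) (.leaf 1112))) (.node 1 (.leaf 946) (.node 1 (.leaf 1152) (.leaf 1082)))))))
(.node 24 (.node 12 (.node 6 (.node 3 (.node 1 (.leaf 1045) (.node 1 (.leaf 1065) (.leaf 1020))) (.node 1 (.leaf 1488) (.node 1 (.leaf 793) (.leaf 974))))
(.node 3 (.node 1 (.leaf 603) (.node 1 (.leaf 646) (.leaf 629))) (.node 1 (.leaf 40) (.node 1 (.leaf 1474) (.leaf 1138)))))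
(.node 6 (.node 3 (.node 1 (.leaf 341) (.node 1 (.leaf 955) (.leaf 1093))) (.node 1 (.leaf 209) (.node 1 (.leaf 1030) (.leaf 657))))
(.node 3 (.node 1 (.leaf 340) (.node 1 (.leaf 239) (.leaf 191))) (.node 1 (.leaf 195) (.node 1 (.leaf 287) (.leaf 1296))))))
(.node 12 (.node 6 (.node 3 (.node 1 (.leaf 625) (.node 1 (.leaf 804) (.leaf 1387))) (.node 1 (.leaf 776) (.node 1 (.leaf 288) (.leaf 677))))
(.node 3 (.node 1 (.leaf 1130) (.node 1 (.leaf 807) (.leaf 44))) (.node 1 (.leaf 1225) (.node 1 (.leaf 548) (.leaf 46)))))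
(.node 6 (.node 3 (.node 1 (.leaf 379) (.node 1 (.leaf 994) (.leaf 250))) (.node 1 (.leaf 432) (.node 1 (.leaf 1223) (.leaf 1114))))
(.node 3 (.node 1 (.leaf 673) (.node 1 (.leaf 324) (.leaf 64))) (.node 1 (.leaf 1051) (.node 1 (.leaf 1515) (.leaf 1303))))))))
(.node 48 (.node 24 (.node 12 (.node 6 (.node 3 (.node 1 (.leaf 249) (.node 1 (.leaf 672) (.leaf 814))) (.node 1 (.leaf 175) (.node 1 (.leaf 1443) (.leaf 132))))
(.node 3 (.node 1 (.leaf 248) (.node 1 (.leaf 1113) (.leaf 100))) (.node 1 (.leaf 1074) (.node 1 (.leaf 524) (.leaf 1230)))))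
(.node 6 (.node 3 (.node 1 (.leaf 1027) (.node 1 (.leaf 275) (.leaf 61))) (.node 1 (.leaf 901) (.node 1 (.leaf 45) (.leaf 59))))
(.node 3 (.node 1 (.leaf 613) (.node 1 (.leaf 434) (.leaf 1216))) (.node 1 (.leaf 231) (.node 1 (.leaf 268) (.leaf 1248))))))
(.node 12 (.node 6 (.node 3 (.node 1 (.leaf 1034) (.node 1 (.leaf 1210) (.leaf 372))) (.node 1 (.leaf 1247) (.node 1 (.leaf 624) (.leaf 335))))
(.node 3 (.node 1 (.leaf 937) (.node 1 (.leaf 1038) (.leaf 394))) (.node 1 (.leaf 661) (.node 1 (.leaf 1374) (.leaf 242)))))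
(.node 6 (.node 3 (.node 1 (.leaf 1526) (.node 1 (.leaf 869) (.leaf 1365))) (.node 1 (.leaf 415) (.node 1 (.leaf 443) (.leaf 22))))
(.node 3 (.node 1 (.leaf 1512) (.node 1 (.leaf 402) (.leaf 11))) (.node 1 (.leaf 836) (.node 1 (.leaf 1222) (.leaf 210)))))))
(.node 24 (.node 12 (.node 6 (.node 3 (.node 1 (.leaf 317) (.node 1 (.leaf 834) (.leaf 1139))) (.node 1 (.leaf 982) (.node 1 (.leaf 2) (.leaf 1328))))
(.node 3 (.node 1 (.leaf 1495) (.node 1 (.leaf 555) (.leaf 228))) (.node 1 (.leaf 1142) (.node 1 (.leaf 960) (.leaf 28)))))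
(.node 6 (.node 3 (.node 1 (.leaf 108) (.node 1 (.leaf 202) (.leaf 1257))) (.node 1 (.leaf 1449) (.node 1 (.leaf 600) (.leaf 825))))
(.node 3 (.node 1 (.leaf 1530) (.node 1 (.leaf 155) (.leaf 920))) (.node 1 (.leaf 531) (.node 1 (.leaf 82) (.leaf 368))))))
(.node 12 (.node 6 (.node 3 (.node 1 (.leaf 1521) (.node 1 (.leaf 747) (.leaf 1166))) (.node 1 (.leaf 1400) (.node 1 (.leaf 171) (.leaf 398))))
(.node 3 (.node 1 (.leaf 1490) (.node 1 (.leaf 371) (.leaf 873))) (.node 1 (.leaf 732) (.node 1 (.leaf 110) (.leaf 1438)))))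
(.node 6 (.node 3 (.node 1 (.leaf 34) (.node 1 (.leaf 1115) (.leaf 1428))) (.node 1 (.leaf 460) (.node 1 (.leaf 1177) (.leaf 731))))
(.node 3 (.node 1 (.leaf 439) (.node 1 (.leaf 567) (.leaf 1182))) (.node 1 (.leaf 109) (.node 1 (.leaf 968) (.leaf 1212))))))))))

/-- The inverse action. -/
def caseDFullInv0RR : Tab ℕ :=
(.node 192 (.node 96 (.node 48 (.node 24 (.node 12 (.node 6 (.node 3 (.node 1 (.leaf 742) (.node 1 (.leaf 445) (.leaf 521))) (.node 1 (.leaf 959) (.node 1 (.leaf 1288) (.leaf 1329))))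
(.node 3 (.node 1 (.leaf 1473) (.node 1 (.leaf 458) (.leaf 1047))) (.node 1 (.leaf 1283) (.node 1 (.leaf 1348) (.leaf 1019)))))
(.node 6 (.node 3 (.node 1 (.leaf 740) (.node 1 (.leaf 1040) (.leaf 1087))) (.node 1 (.leaf 1359) (.node 1 (.leaf 307) (.leaf 1298))))
(.node 3 (.node 1 (.leaf 876) (.node 1 (.leaf 1309) (.leaf 880))) (.node 1 (.leaf 1341) (.node 1 (.leaf 791) (.leaf 958))))))
(.node 12 (.node 6 (.node 3 (.node 1 (.leaf 153) (.node 1 (.leaf 311) (.leaf 429))) (.node 1 (.leaf 414) (.node 1 (.leaf 499) (.leaf 621))))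
(.node 3 (.node 1 (.leaf 253) (.node 1 (.leaf 172) (.leaf 29))) (.node 1 (.leaf 1000) (.node 1 (.leaf 329) (.leaf 1427)))))
(.node 6 (.node 3 (.node 1 (.leaf 1208) (.node 1 (.leaf 409) (.leaf 653))) (.node 1 (.leaf 106) (.node 1 (.leaf 330) (.leaf 730))))
(.node 3 (.node 1 (.leaf 367) (.node 1 (.leaf 377) (.leaf 527))) (.node 1 (.leaf 60) (.node 1 (.leaf 360) (.leaf 221)))))))
(.node 24 (.node 12 (.node 6 (.node 3 (.node 1 (.leaf 1439) (.node 1 (.leaf 95) (.leaf 544))) (.node 1 (.leaf 1285) (.node 1 (.leaf 1343) (.leaf 122))))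
(.node 3 (.node 1 (.leaf 69) (.node 1 (.leaf 784) (.leaf 331))) (.node 1 (.leaf 66) (.node 1 (.leaf 698) (.leaf 1046)))))
(.node 6 (.node 3 (.node 1 (.leaf 1151) (.node 1 (.leaf 1091) (.leaf 597))) (.node 1 (.leaf 225) (.node 1 (.leaf 726) (.leaf 1251))))
(.node 3 (.node 1 (.leaf 25) (.node 1 (.leaf 998) (.leaf 861))) (.node 1 (.leaf 940) (.node 1 (.leaf 1003) (.leaf 848))))))
(.node 12 (.node 6 (.node 3 (.node 1 (.leaf 1480) (.node 1 (.leaf 1011) (.leaf 1534))) (.node 1 (.leaf 1351) (.node 1 (.leaf 130) (.leaf 927))))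
(.node 3 (.node 1 (.leaf 241) (.node 1 (.leaf 1383) (.leaf 223))) (.node 1 (.leaf 144) (.node 1 (.leaf 1356) (.leaf 182)))))
(.node 6 (.node 3 (.node 1 (.leaf 1509) (.node 1 (.leaf 1002) (.leaf 1272))) (.node 1 (.leaf 386) (.node 1 (.leaf 512) (.leaf 879))))
(.node 3 (.node 1 (.leaf 67) (.node 1 (.leaf 1157) (.leaf 520))) (.node 1 (.leaf 99) (.node 1 (.leaf 37) (.leaf 1484))))))))
(.node 48 (.node 24 (.node 12 (.node 6 (.node 3 (.node 1 (.leaf 509) (.node 1 (.leaf 1078) (.leaf 257))) (.node 1 (.leaf 911) (.node 1 (.leaf 189) (.leaf 410))))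
(.node 3 (.node 1 (.leaf 344) (.node 1 (.leaf 1381) (.leaf 1106))) (.node 1 (.leaf 406) (.node 1 (.leaf 1517) (.leaf 260)))))
(.node 6 (.node 3 (.node 1 (.leaf 1024) (.node 1 (.leaf 1405) (.leaf 680))) (.node 1 (.leaf 436) (.node 1 (.leaf 145) (.leaf 1310))))
(.node 3 (.node 1 (.leaf 291) (.node 1 (.leaf 559) (.leaf 265))) (.node 1 (.leaf 1340) (.node 1 (.leaf 701) (.leaf 622))))))
(.node 12 (.node 6 (.node 3 (.node 1 (.leaf 1238) (.node 1 (.leaf 919) (.leaf 146))) (.node 1 (.leaf 1407) (.node 1 (.leaf 193) (.leaf 1312))))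
(.node 3 (.node 1 (.leaf 143) (.node 1 (.leaf 174) (.leaf 1447))) (.node 1 (.leaf 857) (.node 1 (.leaf 839) (.leaf 1140)))))
(.node 6 (.node 3 (.node 1 (.leaf 553) (.node 1 (.leaf 332) (.leaf 137))) (.node 1 (.leaf 651) (.node 1 (.leaf 842) (.leaf 1289))))
(.node 3 (.node 1 (.leaf 138) (.node 1 (.leaf 102) (.leaf 515))) (.node 1 (.leaf 1265) (.node 1 (.leaf 1085) (.leaf 1070)))))))
(.node 24 (.node 12 (.node 6 (.node 3 (.node 1 (.leaf 1031) (.node 1 (.leaf 161) (.leaf 1321))) (.node 1 (.leaf 1195) (.node 1 (.leaf 511) (.leaf 758))))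
(.node 3 (.node 1 (.leaf 811) (.node 1 (.leaf 1239) (.leaf 1459))) (.node 1 (.leaf 913) (.node 1 (.leaf 697) (.leaf 33)))))
(.node 6 (.node 3 (.node 1 (.leaf 759) (.node 1 (.leaf 208) (.leaf 1360))) (.node 1 (.leaf 1311) (.node 1 (.leaf 1150) (.leaf 200))))
(.node 3 (.node 1 (.leaf 1352) (.node 1 (.leaf 188) (.leaf 1392))) (.node 1 (.leaf 337) (.node 1 (.leaf 1284) (.leaf 973))))))
(.node 12 (.node 6 (.node 3 (.node 1 (.leaf 929) (.node 1 (.leaf 840) (.leaf 755))) (.node 1 (.leaf 681) (.node 1 (.leaf 749) (.leaf 1417))))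
(.node 3 (.node 1 (.leaf 691) (.node 1 (.leaf 768) (.leaf 322))) (.node 1 (.leaf 251) (.node 1 (.leaf 1267) (.leaf 381)))))
(.node 6 (.node 3 (.node 1 (.leaf 374) (.node 1 (.leaf 764) (.leaf 1519))) (.node 1 (.leaf 741) (.node 1 (.leaf 1397) (.leaf 1076))))
(.node 3 (.node 1 (.leaf 417) (.node 1 (.leaf 215) (.leaf 977))) (.node 1 (.leaf 529) (.node 1 (.leaf 124) (.leaf 551)))))))))
(.node 96 (.node 48 (.node 24 (.node 12 (.node 6 (.node 3 (.node 1 (.leaf 115) (.node 1 (.leaf 863) (.leaf 1181))) (.node 1 (.leaf 582) (.node 1 (.leaf 775) (.leaf 790))))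
(.node 3 (.node 1 (.leaf 794) (.node 1 (.leaf 1227) (.leaf 298))) (.node 1 (.leaf 1393) (.node 1 (.leaf 612) (.leaf 1349)))))
(.node 6 (.node 3 (.node 1 (.leaf 1071) (.node 1 (.leaf 1470) (.leaf 975))) (.node 1 (.leaf 1399) (.node 1 (.leaf 1293) (.leaf 1300))))
(.node 3 (.node 1 (.leaf 353) (.node 1 (.leaf 85) (.leaf 1306))) (.node 1 (.leaf 727) (.node 1 (.leaf 1500) (.leaf 564))))))
(.node 12 (.node 6 (.node 3 (.node 1 (.leaf 1448) (.node 1 (.leaf 173) (.leaf 875))) (.node 1 (.leaf 1430) (.node 1 (.leaf 627) (.leaf 128))))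
(.node 3 (.node 1 (.leaf 687) (.node 1 (.leaf 1279) (.leaf 1220))) (.node 1 (.leaf 720) (.node 1 (.leaf 970) (.leaf 343)))))
(.node 6 (.node 3 (.node 1 (.leaf 799) (.node 1 (.leaf 1096) (.leaf 1394))) (.node 1 (.leaf 1095) (.node 1 (.leaf 1008) (.leaf 746))))
(.node 3 (.node 1 (.leaf 923) (.node 1 (.leaf 748) (.leaf 573))) (.node 1 (.leaf 872) (.node 1 (.leaf 347) (.leaf 773)))))))
(.node 24 (.node 12 (.node 6 (.node 3 (.node 1 (.leaf 286) (.node 1 (.leaf 796) (.leaf 926))) (.node 1 (.leaf 212) (.node 1 (.leaf 1363) (.leaf 739))))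
(.node 3 (.node 1 (.leaf 593) (.node 1 (.leaf 817) (.leaf 380))) (.node 1 (.leaf 1086) (.node 1 (.leaf 1183) (.leaf 765)))))
(.node 6 (.node 3 (.node 1 (.leaf 594) (.node 1 (.leaf 77) (.leaf 488))) (.node 1 (.leaf 1254) (.node 1 (.leaf 915) (.leaf 1406))))
(.node 3 (.node 1 (.leaf 53) (.node 1 (.leaf 1353) (.leaf 962))) (.node 1 (.leaf 84) (.node 1 (.leaf 865) (.leaf 967))))))
(.node 12 (.node 6 (.node 3 (.node 1 (.leaf 636) (.node 1 (.leaf 890) (.leaf 976))) (.node 1 (.leaf 823) (.node 1 (.leaf 1498) (.leaf 1390))))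
(.node 3 (.node 1 (.leaf 516) (.node 1 (.leaf 1494) (.leaf 149))) (.node 1 (.leaf 376) (.node 1 (.leaf 941) (.leaf 576)))))
(.node 6 (.node 3 (.node 1 (.leaf 1063) (.node 1 (.leaf 1006) (.leaf 1200))) (.node 1 (.leaf 1004) (.node 1 (.leaf 243) (.leaf 503))))
(.node 3 (.node 1 (.leaf 1207) (.node 1 (.leaf 935) (.leaf 47))) (.node 1 (.leaf 192) (.node 1 (.leaf 1256) (.leaf 1371))))))))
(.node 48 (.node 24 (.node 12 (.node 6 (.node 3 (.node 1 (.leaf 167) (.node 1 (.leaf 478) (.leaf 1510))) (.node 1 (.leaf 536) (.node 1 (.leaf 951) (.leaf 733))))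
(.node 3 (.node 1 (.leaf 1325) (.node 1 (.leaf 1422) (.leaf 1499))) (.node 1 (.leaf 304) (.node 1 (.leaf 948) (.leaf 924)))))
(.node 6 (.node 3 (.node 1 (.leaf 454) (.node 1 (.leaf 474) (.leaf 1295))) (.node 1 (.leaf 908) (.node 1 (.leaf 1532) (.leaf 280))))
(.node 3 (.node 1 (.leaf 877) (.node 1 (.leaf 1226) (.leaf 1441))) (.node 1 (.leaf 1014) (.node 1 (.leaf 538) (.leaf 1333))))))
(.node 12 (.node 6 (.node 3 (.node 1 (.leaf 35) (.node 1 (.leaf 752) (.leaf 686))) (.node 1 (.leaf 1504) (.node 1 (.leaf 1368) (.leaf 1176))))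
(.node 3 (.node 1 (.leaf 1357) (.node 1 (.leaf 1514) (.leaf 224))) (.node 1 (.leaf 180) (.node 1 (.leaf 1278) (.leaf 934)))))
(.node 6 (.node 3 (.node 1 (.leaf 1485) (.node 1 (.leaf 980) (.leaf 1007))) (.node 1 (.leaf 1456) (.node 1 (.leaf 664) (.leaf 578))))
(.node 3 (.node 1 (.leaf 36) (.node 1 (.leaf 550) (.leaf 666))) (.node 1 (.leaf 903) (.node 1 (.leaf 772) (.leaf 15)))))))
(.node 24 (.node 12 (.node 6 (.node 3 (.node 1 (.leaf 1041) (.node 1 (.leaf 395) (.leaf 203))) (.node 1 (.leaf 1271) (.node 1 (.leaf 285) (.leaf 1493))))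
(.node 3 (.node 1 (.leaf 1126) (.node 1 (.leaf 762) (.leaf 1067))) (.node 1 (.leaf 547) (.node 1 (.leaf 1100) (.leaf 1468)))))
(.node 6 (.node 3 (.node 1 (.leaf 859) (.node 1 (.leaf 444) (.leaf 738))) (.node 1 (.leaf 492) (.node 1 (.leaf 1073) (.leaf 370))))
(.node 3 (.node 1 (.leaf 498) (.node 1 (.leaf 722) (.leaf 831))) (.node 1 (.leaf 1347) (.node 1 (.leaf 668) (.leaf 449))))))
(.node 12 (.node 6 (.node 3 (.node 1 (.leaf 1413) (.node 1 (.leaf 38) (.leaf 822))) (.node 1 (.leaf 1508) (.node 1 (.leaf 1202) (.leaf 1145))))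
(.node 3 (.node 1 (.leaf 517) (.node 1 (.leaf 1155) (.leaf 644))) (.node 1 (.leaf 654) (.node 1 (.leaf 694) (.leaf 580)))))
(.node 6 (.node 3 (.node 1 (.leaf 266) (.node 1 (.leaf 112) (.leaf 1124))) (.node 1 (.leaf 917) (.node 1 (.leaf 247) (.leaf 198))))
(.node 3 (.node 1 (.leaf 508) (.node 1 (.leaf 891) (.leaf 590))) (.node 1 (.leaf 234) (.node 1 (.leaf 1304) (.leaf 1060))))))))))

/-- The inverse action. -/
def caseDFullInv0R : Tab ℕ := .node 384 caseDFullInv0RL caseDFullInv0RR

/-- The inverse action. -/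
def caseDFullInv0 : Tab ℕ := .node 768 caseDFullInv0L caseDFullInv0R

/-- The inverse action. -/
def caseDFullInv1LL : Tab ℕ :=
(.node 192 (.node 96 (.node 48 (.node 24 (.node 12 (.node 6 (.node 3 (.node 1 (.leaf 0) (.node 1 (.leaf 749) (.leaf 1064))) (.node 1 (.leaf 38) (.node 1 (.leaf 527) (.leaf 992))))
(.node 3 (.node 1 (.leaf 1498) (.node 1 (.leaf 234) (.leaf 81))) (.node 1 (.leaf 1074) (.node 1 (.leaf 233) (.leaf 1508)))))
(.node 6 (.node 3 (.node 1 (.leaf 12) (.node 1 (.leaf 350) (.leaf 574))) (.node 1 (.leaf 1356) (.node 1 (.leaf 604) (.leaf 231))))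
(.node 3 (.node 1 (.leaf 1155) (.node 1 (.leaf 226) (.leaf 658))) (.node 1 (.leaf 1101) (.node 1 (.leaf 222) (.leaf 251))))))
(.node 12 (.node 6 (.node 3 (.node 1 (.leaf 551) (.node 1 (.leaf 1252) (.leaf 555))) (.node 1 (.leaf 1388) (.node 1 (.leaf 99) (.leaf 340))))
(.node 3 (.node 1 (.leaf 190) (.node 1 (.leaf 1087) (.leaf 171))) (.node 1 (.leaf 863) (.node 1 (.leaf 371) (.leaf 890)))))
(.node 6 (.node 3 (.node 1 (.leaf 1008) (.node 1 (.leaf 37) (.leaf 1503))) (.node 1 (.leaf 703) (.node 1 (.leaf 785) (.leaf 1083))))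
(.node 3 (.node 1 (.leaf 1130) (.node 1 (.leaf 119) (.leaf 1487))) (.node 1 (.leaf 62) (.node 1 (.leaf 1316) (.leaf 378)))))))
(.node 24 (.node 12 (.node 6 (.node 3 (.node 1 (.leaf 1105) (.node 1 (.leaf 463) (.leaf 759))) (.node 1 (.leaf 52) (.node 1 (.leaf 1470) (.leaf 28))))
(.node 3 (.node 1 (.leaf 674) (.node 1 (.leaf 1208) (.leaf 311))) (.node 1 (.leaf 1440) (.node 1 (.leaf 549) (.leaf 1139)))))
(.node 6 (.node 3 (.node 1 (.leaf 1280) (.node 1 (.leaf 1114) (.leaf 773))) (.node 1 (.leaf 916) (.node 1 (.leaf 1250) (.leaf 132))))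
(.node 3 (.node 1 (.leaf 423) (.node 1 (.leaf 706) (.leaf 1180))) (.node 1 (.leaf 533) (.node 1 (.leaf 1032) (.leaf 407))))))
(.node 12 (.node 6 (.node 3 (.node 1 (.leaf 1034) (.node 1 (.leaf 764) (.leaf 1520))) (.node 1 (.leaf 76) (.node 1 (.leaf 964) (.leaf 308))))
(.node 3 (.node 1 (.leaf 478) (.node 1 (.leaf 1321) (.leaf 432))) (.node 1 (.leaf 8) (.node 1 (.leaf 1431) (.leaf 492)))))
(.node 6 (.node 3 (.node 1 (.leaf 1444) (.node 1 (.leaf 1029) (.leaf 46))) (.node 1 (.leaf 1060) (.node 1 (.leaf 978) (.leaf 61))))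
(.node 3 (.node 1 (.leaf 867) (.node 1 (.leaf 421) (.leaf 1249))) (.node 1 (.leaf 1102) (.node 1 (.leaf 387) (.leaf 1267))))))))
(.node 48 (.node 24 (.node 12 (.node 6 (.node 3 (.node 1 (.leaf 1234) (.node 1 (.leaf 1053) (.leaf 810))) (.node 1 (.leaf 188) (.node 1 (.leaf 385) (.leaf 742))))
(.node 3 (.node 1 (.leaf 381) (.node 1 (.leaf 831) (.leaf 376))) (.node 1 (.leaf 1090) (.node 1 (.leaf 557) (.leaf 599)))))
(.node 6 (.node 3 (.node 1 (.leaf 1228) (.node 1 (.leaf 146) (.leaf 968))) (.node 1 (.leaf 114) (.node 1 (.leaf 827) (.leaf 723))))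
(.node 3 (.node 1 (.leaf 323) (.node 1 (.leaf 1343) (.leaf 1414))) (.node 1 (.leaf 129) (.node 1 (.leaf 1221) (.leaf 211))))))
(.node 12 (.node 6 (.node 3 (.node 1 (.leaf 1184) (.node 1 (.leaf 439) (.leaf 1331))) (.node 1 (.leaf 972) (.node 1 (.leaf 921) (.leaf 1298))))
(.node 3 (.node 1 (.leaf 1290) (.node 1 (.leaf 127) (.leaf 1391))) (.node 1 (.leaf 536) (.node 1 (.leaf 499) (.leaf 433)))))
(.node 6 (.node 3 (.node 1 (.leaf 393) (.node 1 (.leaf 783) (.leaf 705))) (.node 1 (.leaf 1333) (.node 1 (.leaf 763) (.leaf 767))))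
(.node 3 (.node 1 (.leaf 1341) (.node 1 (.leaf 265) (.leaf 682))) (.node 1 (.leaf 141) (.node 1 (.leaf 241) (.leaf 307)))))))
(.node 24 (.node 12 (.node 6 (.node 3 (.node 1 (.leaf 859) (.node 1 (.leaf 130) (.leaf 911))) (.node 1 (.leaf 107) (.node 1 (.leaf 419) (.leaf 1499))))
(.node 3 (.node 1 (.leaf 713) (.node 1 (.leaf 144) (.leaf 1097))) (.node 1 (.leaf 586) (.node 1 (.leaf 711) (.leaf 919)))))
(.node 6 (.node 3 (.node 1 (.leaf 1187) (.node 1 (.leaf 981) (.leaf 1061))) (.node 1 (.leaf 881) (.node 1 (.leaf 797) (.leaf 1197))))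
(.node 3 (.node 1 (.leaf 29) (.node 1 (.leaf 466) (.leaf 901))) (.node 1 (.leaf 794) (.node 1 (.leaf 403) (.leaf 431))))))
(.node 12 (.node 6 (.node 3 (.node 1 (.leaf 117) (.node 1 (.leaf 1200) (.leaf 524))) (.node 1 (.leaf 438) (.node 1 (.leaf 213) (.leaf 334))))
(.node 3 (.node 1 (.leaf 836) (.node 1 (.leaf 289) (.leaf 1299))) (.node 1 (.leaf 1434) (.node 1 (.leaf 1148) (.leaf 224)))))
(.node 6 (.node 3 (.node 1 (.leaf 1094) (.node 1 (.leaf 616) (.leaf 1153))) (.node 1 (.leaf 1165) (.node 1 (.leaf 197) (.leaf 1478))))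
(.node 3 (.node 1 (.leaf 202) (.node 1 (.leaf 1493) (.leaf 53))) (.node 1 (.leaf 1183) (.node 1 (.leaf 30) (.leaf 856)))))))))
(.node 96 (.node 48 (.node 24 (.node 12 (.node 6 (.node 3 (.node 1 (.leaf 1494) (.node 1 (.leaf 1142) (.leaf 1205))) (.node 1 (.leaf 187) (.node 1 (.leaf 550) (.leaf 1535))))
(.node 3 (.node 1 (.leaf 1077) (.node 1 (.leaf 1369) (.leaf 268))) (.node 1 (.leaf 510) (.node 1 (.leaf 1486) (.leaf 159)))))
(.node 6 (.node 3 (.node 1 (.leaf 1528) (.node 1 (.leaf 445) (.leaf 1368))) (.node 1 (.leaf 68) (.node 1 (.leaf 20) (.leaf 19))))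
(.node 3 (.node 1 (.leaf 435) (.node 1 (.leaf 886) (.leaf 1245))) (.node 1 (.leaf 1062) (.node 1 (.leaf 344) (.leaf 227))))))
(.node 12 (.node 6 (.node 3 (.node 1 (.leaf 925) (.node 1 (.leaf 573) (.leaf 707))) (.node 1 (.leaf 1430) (.node 1 (.leaf 416) (.leaf 651))))
(.node 3 (.node 1 (.leaf 601) (.node 1 (.leaf 1137) (.leaf 461))) (.node 1 (.leaf 733) (.node 1 (.leaf 633) (.leaf 1383)))))
(.node 6 (.node 3 (.node 1 (.leaf 228) (.node 1 (.leaf 1129) (.leaf 955))) (.node 1 (.leaf 1042) (.node 1 (.leaf 15) (.leaf 10))))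
(.node 3 (.node 1 (.leaf 965) (.node 1 (.leaf 956) (.leaf 932))) (.node 1 (.leaf 1038) (.node 1 (.leaf 927) (.leaf 239)))))))
(.node 24 (.node 12 (.node 6 (.node 3 (.node 1 (.leaf 1449) (.node 1 (.leaf 142) (.leaf 760))) (.node 1 (.leaf 153) (.node 1 (.leaf 667) (.leaf 528))))
(.node 3 (.node 1 (.leaf 1270) (.node 1 (.leaf 1352) (.leaf 1332))) (.node 1 (.leaf 721) (.node 1 (.leaf 418) (.leaf 183)))))
(.node 6 (.node 3 (.node 1 (.leaf 884) (.node 1 (.leaf 367) (.leaf 1210))) (.node 1 (.leaf 1072) (.node 1 (.leaf 1224) (.leaf 409))))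
(.node 3 (.node 1 (.leaf 800) (.node 1 (.leaf 95) (.leaf 873))) (.node 1 (.leaf 362) (.node 1 (.leaf 751) (.leaf 1401))))))
(.node 12 (.node 6 (.node 3 (.node 1 (.leaf 670) (.node 1 (.leaf 736) (.leaf 1167))) (.node 1 (.leaf 1046) (.node 1 (.leaf 1268) (.leaf 1357))))
(.node 3 (.node 1 (.leaf 780) (.node 1 (.leaf 229) (.leaf 907))) (.node 1 (.leaf 377) (.node 1 (.leaf 623) (.leaf 1370)))))
(.node 6 (.node 3 (.node 1 (.leaf 389) (.node 1 (.leaf 469) (.leaf 628))) (.node 1 (.leaf 1426) (.node 1 (.leaf 753) (.leaf 498))))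
(.node 3 (.node 1 (.leaf 823) (.node 1 (.leaf 508) (.leaf 675))) (.node 1 (.leaf 256) (.node 1 (.leaf 1088) (.leaf 152))))))))
(.node 48 (.node 24 (.node 12 (.node 6 (.node 3 (.node 1 (.leaf 1238) (.node 1 (.leaf 175) (.leaf 158))) (.node 1 (.leaf 1069) (.node 1 (.leaf 426) (.leaf 1099))))
(.node 3 (.node 1 (.leaf 285) (.node 1 (.leaf 1003) (.leaf 848))) (.node 1 (.leaf 476) (.node 1 (.leaf 1017) (.leaf 217)))))
(.node 6 (.node 3 (.node 1 (.leaf 1014) (.node 1 (.leaf 821) (.leaf 1075))) (.node 1 (.leaf 553) (.node 1 (.leaf 1084) (.leaf 900))))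
(.node 3 (.node 1 (.leaf 874) (.node 1 (.leaf 6) (.leaf 937))) (.node 1 (.leaf 5) (.node 1 (.leaf 332) (.leaf 1191))))))
(.node 12 (.node 6 (.node 3 (.node 1 (.leaf 1296) (.node 1 (.leaf 13) (.leaf 1028))) (.node 1 (.leaf 1147) (.node 1 (.leaf 1001) (.leaf 966))))
(.node 3 (.node 1 (.leaf 807) (.node 1 (.leaf 1390) (.leaf 489))) (.node 1 (.leaf 1135) (.node 1 (.leaf 632) (.leaf 1109)))))
(.node 6 (.node 3 (.node 1 (.leaf 657) (.node 1 (.leaf 1214) (.leaf 356))) (.node 1 (.leaf 365) (.node 1 (.leaf 1232) (.leaf 1080))))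
(.node 3 (.node 1 (.leaf 772) (.node 1 (.leaf 302) (.leaf 1392))) (.node 1 (.leaf 914) (.node 1 (.leaf 929) (.leaf 704)))))))
(.node 24 (.node 12 (.node 6 (.node 3 (.node 1 (.leaf 149) (.node 1 (.leaf 1294) (.leaf 246))) (.node 1 (.leaf 1445) (.node 1 (.leaf 998) (.leaf 1052))))
(.node 3 (.node 1 (.leaf 342) (.node 1 (.leaf 104) (.leaf 120))) (.node 1 (.leaf 566) (.node 1 (.leaf 768) (.leaf 503)))))
(.node 6 (.node 3 (.node 1 (.leaf 1308) (.node 1 (.leaf 1095) (.leaf 894))) (.node 1 (.leaf 359) (.node 1 (.leaf 273) (.leaf 1319))))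
(.node 3 (.node 1 (.leaf 1065) (.node 1 (.leaf 815) (.leaf 339))) (.node 1 (.leaf 1011) (.node 1 (.leaf 1517) (.leaf 318))))))
(.node 12 (.node 6 (.node 3 (.node 1 (.leaf 383) (.node 1 (.leaf 1506) (.leaf 688))) (.node 1 (.leaf 363) (.node 1 (.leaf 1336) (.leaf 1351))))
(.node 3 (.node 1 (.leaf 752) (.node 1 (.leaf 1027) (.leaf 442))) (.node 1 (.leaf 695) (.node 1 (.leaf 357) (.leaf 1295)))))
(.node 6 (.node 3 (.node 1 (.leaf 840) (.node 1 (.leaf 1302) (.leaf 726))) (.node 1 (.leaf 1460) (.node 1 (.leaf 390) (.leaf 1501))))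
(.node 3 (.node 1 (.leaf 47) (.node 1 (.leaf 1328) (.leaf 791))) (.node 1 (.leaf 680) (.node 1 (.leaf 98) (.leaf 851))))))))))

/-- The inverse action. -/
def caseDFullInv1LR : Tab ℕ :=
(.node 192 (.node 96 (.node 48 (.node 24 (.node 12 (.node 6 (.node 3 (.node 1 (.leaf 607) (.node 1 (.leaf 1120) (.leaf 195))) (.node 1 (.leaf 1425) (.node 1 (.leaf 850) (.leaf 1448))))
(.node 3 (.node 1 (.leaf 343) (.node 1 (.leaf 1086) (.leaf 975))) (.node 1 (.leaf 730) (.node 1 (.leaf 974) (.leaf 818)))))
(.node 6 (.node 3 (.node 1 (.leaf 316) (.node 1 (.leaf 1468) (.leaf 1529))) (.node 1 (.leaf 400) (.node 1 (.leaf 571) (.leaf 1157))))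
(.node 3 (.node 1 (.leaf 611) (.node 1 (.leaf 994) (.leaf 86))) (.node 1 (.leaf 983) (.node 1 (.leaf 1096) (.leaf 71))))))
(.node 12 (.node 6 (.node 3 (.node 1 (.leaf 84) (.node 1 (.leaf 110) (.leaf 1484))) (.node 1 (.leaf 284) (.node 1 (.leaf 824) (.leaf 9))))
(.node 3 (.node 1 (.leaf 694) (.node 1 (.leaf 762) (.leaf 673))) (.node 1 (.leaf 287) (.node 1 (.leaf 1229) (.leaf 1374)))))
(.node 6 (.node 3 (.node 1 (.leaf 100) (.node 1 (.leaf 240) (.leaf 1450))) (.node 1 (.leaf 394) (.node 1 (.leaf 443) (.leaf 922))))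
(.node 3 (.node 1 (.leaf 180) (.node 1 (.leaf 459) (.leaf 963))) (.node 1 (.leaf 75) (.node 1 (.leaf 898) (.leaf 1131)))))))
(.node 24 (.node 12 (.node 6 (.node 3 (.node 1 (.leaf 422) (.node 1 (.leaf 335) (.leaf 521))) (.node 1 (.leaf 1107) (.node 1 (.leaf 862) (.leaf 1106))))
(.node 3 (.node 1 (.leaf 480) (.node 1 (.leaf 525) (.leaf 845))) (.node 1 (.leaf 1010) (.node 1 (.leaf 761) (.leaf 424)))))
(.node 6 (.node 3 (.node 1 (.leaf 358) (.node 1 (.leaf 106) (.leaf 446))) (.node 1 (.leaf 270) (.node 1 (.leaf 530) (.leaf 1511))))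
(.node 3 (.node 1 (.leaf 139) (.node 1 (.leaf 279) (.leaf 587))) (.node 1 (.leaf 1407) (.node 1 (.leaf 1255) (.leaf 522))))))
(.node 12 (.node 6 (.node 3 (.node 1 (.leaf 369) (.node 1 (.leaf 766) (.leaf 714))) (.node 1 (.leaf 1359) (.node 1 (.leaf 456) (.leaf 1140))))
(.node 3 (.node 1 (.leaf 1196) (.node 1 (.leaf 49) (.leaf 1461))) (.node 1 (.leaf 729) (.node 1 (.leaf 585) (.leaf 210)))))
(.node 6 (.node 3 (.node 1 (.leaf 1453) (.node 1 (.leaf 90) (.leaf 298))) (.node 1 (.leaf 1349) (.node 1 (.leaf 472) (.leaf 1419))))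
(.node 3 (.node 1 (.leaf 568) (.node 1 (.leaf 1066) (.leaf 182))) (.node 1 (.leaf 779) (.node 1 (.leaf 1365) (.leaf 786))))))))
(.node 48 (.node 24 (.node 12 (.node 6 (.node 3 (.node 1 (.leaf 32) (.node 1 (.leaf 638) (.leaf 1382))) (.node 1 (.leaf 193) (.node 1 (.leaf 484) (.leaf 1409))))
(.node 3 (.node 1 (.leaf 1182) (.node 1 (.leaf 621) (.leaf 206))) (.node 1 (.leaf 174) (.node 1 (.leaf 1505) (.leaf 1289)))))
(.node 6 (.node 3 (.node 1 (.leaf 83) (.node 1 (.leaf 493) (.leaf 397))) (.node 1 (.leaf 115) (.node 1 (.leaf 939) (.leaf 1230))))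
(.node 3 (.node 1 (.leaf 281) (.node 1 (.leaf 620) (.leaf 1510))) (.node 1 (.leaf 1376) (.node 1 (.leaf 258) (.leaf 946))))))
(.node 12 (.node 6 (.node 3 (.node 1 (.leaf 504) (.node 1 (.leaf 1005) (.leaf 590))) (.node 1 (.leaf 1386) (.node 1 (.leaf 283) (.leaf 709))))
(.node 3 (.node 1 (.leaf 1048) (.node 1 (.leaf 681) (.leaf 828))) (.node 1 (.leaf 666) (.node 1 (.leaf 987) (.leaf 770)))))
(.node 6 (.node 3 (.node 1 (.leaf 465) (.node 1 (.leaf 78) (.leaf 513))) (.node 1 (.leaf 546) (.node 1 (.leaf 1474) (.leaf 596))))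
(.node 3 (.node 1 (.leaf 1248) (.node 1 (.leaf 523) (.leaf 170))) (.node 1 (.leaf 538) (.node 1 (.leaf 1057) (.leaf 608)))))))
(.node 24 (.node 12 (.node 6 (.node 3 (.node 1 (.leaf 245) (.node 1 (.leaf 1451) (.leaf 757))) (.node 1 (.leaf 1171) (.node 1 (.leaf 1305) (.leaf 328))))
(.node 3 (.node 1 (.leaf 1134) (.node 1 (.leaf 1399) (.leaf 168))) (.node 1 (.leaf 1236) (.node 1 (.leaf 121) (.leaf 1261)))))
(.node 6 (.node 3 (.node 1 (.leaf 1476) (.node 1 (.leaf 708) (.leaf 1372))) (.node 1 (.leaf 1403) (.node 1 (.leaf 744) (.leaf 1303))))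
(.node 3 (.node 1 (.leaf 583) (.node 1 (.leaf 996) (.leaf 172))) (.node 1 (.leaf 27) (.node 1 (.leaf 196) (.leaf 1534))))))
(.node 12 (.node 6 (.node 3 (.node 1 (.leaf 1269) (.node 1 (.leaf 997) (.leaf 453))) (.node 1 (.leaf 1342) (.node 1 (.leaf 745) (.leaf 205))))
(.node 3 (.node 1 (.leaf 295) (.node 1 (.leaf 123) (.leaf 1274))) (.node 1 (.leaf 684) (.node 1 (.leaf 576) (.leaf 1287)))))
(.node 6 (.node 3 (.node 1 (.leaf 1355) (.node 1 (.leaf 986) (.leaf 405))) (.node 1 (.leaf 554) (.node 1 (.leaf 1304) (.leaf 173))))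
(.node 3 (.node 1 (.leaf 290) (.node 1 (.leaf 1472) (.leaf 660))) (.node 1 (.leaf 1323) (.node 1 (.leaf 14) (.leaf 1063)))))))))
(.node 96 (.node 48 (.node 24 (.node 12 (.node 6 (.node 3 (.node 1 (.leaf 988) (.node 1 (.leaf 625) (.leaf 1346))) (.node 1 (.leaf 518) (.node 1 (.leaf 899) (.leaf 613))))
(.node 3 (.node 1 (.leaf 437) (.node 1 (.leaf 816) (.leaf 1143))) (.node 1 (.leaf 654) (.node 1 (.leaf 1533) (.leaf 452)))))
(.node 6 (.node 3 (.node 1 (.leaf 866) (.node 1 (.leaf 169) (.leaf 312))) (.node 1 (.leaf 414) (.node 1 (.leaf 985) (.leaf 1373))))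
(.node 3 (.node 1 (.leaf 199) (.node 1 (.leaf 917) (.leaf 910))) (.node 1 (.leaf 609) (.node 1 (.leaf 737) (.leaf 719))))))
(.node 12 (.node 6 (.node 3 (.node 1 (.leaf 995) (.node 1 (.leaf 909) (.leaf 959))) (.node 1 (.leaf 1452) (.node 1 (.leaf 954) (.leaf 21))))
(.node 3 (.node 1 (.leaf 610) (.node 1 (.leaf 822) (.leaf 697))) (.node 1 (.leaf 1475) (.node 1 (.leaf 1150) (.leaf 216)))))
(.node 6 (.node 3 (.node 1 (.leaf 401) (.node 1 (.leaf 44) (.leaf 1215))) (.node 1 (.leaf 325) (.node 1 (.leaf 1354) (.leaf 70))))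
(.node 3 (.node 1 (.leaf 1163) (.node 1 (.leaf 1458) (.leaf 145))) (.node 1 (.leaf 487) (.node 1 (.leaf 942) (.leaf 936)))))))
(.node 24 (.node 12 (.node 6 (.node 3 (.node 1 (.leaf 541) (.node 1 (.leaf 189) (.leaf 973))) (.node 1 (.leaf 1361) (.node 1 (.leaf 924) (.leaf 87))))
(.node 3 (.node 1 (.leaf 868) (.node 1 (.leaf 1283) (.leaf 79))) (.node 1 (.leaf 209) (.node 1 (.leaf 1525) (.leaf 167)))))
(.node 6 (.node 3 (.node 1 (.leaf 597) (.node 1 (.leaf 1428) (.leaf 804))) (.node 1 (.leaf 1212) (.node 1 (.leaf 341) (.leaf 235))))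
(.node 3 (.node 1 (.leaf 781) (.node 1 (.leaf 1079) (.leaf 220))) (.node 1 (.leaf 1081) (.node 1 (.leaf 1225) (.leaf 1159))))))
(.node 12 (.node 6 (.node 3 (.node 1 (.leaf 655) (.node 1 (.leaf 629) (.leaf 1237))) (.node 1 (.leaf 221) (.node 1 (.leaf 801) (.leaf 425))))
(.node 3 (.node 1 (.leaf 163) (.node 1 (.leaf 935) (.leaf 1344))) (.node 1 (.leaf 1035) (.node 1 (.leaf 1288) (.leaf 1082)))))
(.node 6 (.node 3 (.node 1 (.leaf 960) (.node 1 (.leaf 237) (.leaf 1181))) (.node 1 (.leaf 1070) (.node 1 (.leaf 207) (.leaf 792))))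
(.node 3 (.node 1 (.leaf 579) (.node 1 (.leaf 588) (.leaf 1326))) (.node 1 (.leaf 451) (.node 1 (.leaf 902) (.leaf 947))))))))
(.node 48 (.node 24 (.node 12 (.node 6 (.node 3 (.node 1 (.leaf 1504) (.node 1 (.leaf 644) (.leaf 1040))) (.node 1 (.leaf 1350) (.node 1 (.leaf 531) (.leaf 897))))
(.node 3 (.node 1 (.leaf 1364) (.node 1 (.leaf 67) (.leaf 847))) (.node 1 (.leaf 1240) (.node 1 (.leaf 1265) (.leaf 683)))))
(.node 6 (.node 3 (.node 1 (.leaf 1524) (.node 1 (.leaf 1174) (.leaf 1030))) (.node 1 (.leaf 329) (.node 1 (.leaf 1018) (.leaf 1019))))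
(.node 3 (.node 1 (.leaf 1300) (.node 1 (.leaf 516) (.leaf 118))) (.node 1 (.leaf 136) (.node 1 (.leaf 1049) (.leaf 460))))))
(.node 12 (.node 6 (.node 3 (.node 1 (.leaf 161) (.node 1 (.leaf 4) (.leaf 481))) (.node 1 (.leaf 732) (.node 1 (.leaf 1041) (.leaf 204))))
(.node 3 (.node 1 (.leaf 486) (.node 1 (.leaf 372) (.leaf 131))) (.node 1 (.leaf 415) (.node 1 (.leaf 727) (.leaf 330)))))
(.node 6 (.node 3 (.node 1 (.leaf 895) (.node 1 (.leaf 315) (.leaf 59))) (.node 1 (.leaf 1408) (.node 1 (.leaf 57) (.leaf 150))))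
(.node 3 (.node 1 (.leaf 50) (.node 1 (.leaf 539) (.leaf 45))) (.node 1 (.leaf 1335) (.node 1 (.leaf 817) (.leaf 147)))))))
(.node 24 (.node 12 (.node 6 (.node 3 (.node 1 (.leaf 774) (.node 1 (.leaf 741) (.leaf 1194))) (.node 1 (.leaf 113) (.node 1 (.leaf 495) (.leaf 692))))
(.node 3 (.node 1 (.leaf 1152) (.node 1 (.leaf 679) (.leaf 247))) (.node 1 (.leaf 691) (.node 1 (.leaf 65) (.leaf 534)))))
(.node 6 (.node 3 (.node 1 (.leaf 479) (.node 1 (.leaf 915) (.leaf 693))) (.node 1 (.leaf 1363) (.node 1 (.leaf 450) (.leaf 1026))))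
(.node 3 (.node 1 (.leaf 738) (.node 1 (.leaf 1162) (.leaf 728))) (.node 1 (.leaf 1491) (.node 1 (.leaf 101) (.leaf 254))))))
(.node 12 (.node 6 (.node 3 (.node 1 (.leaf 602) (.node 1 (.leaf 686) (.leaf 990))) (.node 1 (.leaf 1243) (.node 1 (.leaf 1348) (.leaf 1473))))
(.node 3 (.node 1 (.leaf 128) (.node 1 (.leaf 515) (.leaf 366))) (.node 1 (.leaf 138) (.node 1 (.leaf 718) (.leaf 755)))))
(.node 6 (.node 3 (.node 1 (.leaf 455) (.node 1 (.leaf 993) (.leaf 999))) (.node 1 (.leaf 458) (.node 1 (.leaf 1022) (.leaf 1244))))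
(.node 3 (.node 1 (.leaf 134) (.node 1 (.leaf 734) (.leaf 645))) (.node 1 (.leaf 349) (.node 1 (.leaf 659) (.leaf 1495))))))))))

/-- The inverse action. -/
def caseDFullInv1L : Tab ℕ := .node 384 caseDFullInv1LL caseDFullInv1LR

/-- The inverse action. -/
def caseDFullInv1RL : Tab ℕ :=
(.node 192 (.node 96 (.node 48 (.node 24 (.node 12 (.node 6 (.node 3 (.node 1 (.leaf 354) (.node 1 (.leaf 1418) (.leaf 262))) (.node 1 (.leaf 473) (.node 1 (.leaf 218) (.leaf 716))))
(.node 3 (.node 1 (.leaf 769) (.node 1 (.leaf 309) (.leaf 1347))) (.node 1 (.leaf 639) (.node 1 (.leaf 712) (.leaf 1471)))))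
(.node 6 (.node 3 (.node 1 (.leaf 790) (.node 1 (.leaf 662) (.leaf 875))) (.node 1 (.leaf 784) (.node 1 (.leaf 1085) (.leaf 85))))
(.node 3 (.node 1 (.leaf 699) (.node 1 (.leaf 225) (.leaf 321))) (.node 1 (.leaf 605) (.node 1 (.leaf 447) (.leaf 380))))))
(.node 12 (.node 6 (.node 3 (.node 1 (.leaf 547) (.node 1 (.leaf 653) (.leaf 165))) (.node 1 (.leaf 702) (.node 1 (.leaf 913) (.leaf 619))))
(.node 3 (.node 1 (.leaf 1420) (.node 1 (.leaf 331) (.leaf 1123))) (.node 1 (.leaf 1006) (.node 1 (.leaf 802) (.leaf 843)))))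
(.node 6 (.node 3 (.node 1 (.leaf 698) (.node 1 (.leaf 589) (.leaf 1125))) (.node 1 (.leaf 351) (.node 1 (.leaf 1124) (.leaf 1202))))
(.node 3 (.node 1 (.leaf 1381) (.node 1 (.leaf 1307) (.leaf 512))) (.node 1 (.leaf 1) (.node 1 (.leaf 1380) (.leaf 272)))))))
(.node 24 (.node 12 (.node 6 (.node 3 (.node 1 (.leaf 519) (.node 1 (.leaf 1149) (.leaf 1000))) (.node 1 (.leaf 1218) (.node 1 (.leaf 1306) (.leaf 301))))
(.node 3 (.node 1 (.leaf 1220) (.node 1 (.leaf 834) (.leaf 1439))) (.node 1 (.leaf 427) (.node 1 (.leaf 593) (.leaf 112)))))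
(.node 6 (.node 3 (.node 1 (.leaf 1465) (.node 1 (.leaf 1378) (.leaf 906))) (.node 1 (.leaf 952) (.node 1 (.leaf 561) (.leaf 92))))
(.node 3 (.node 1 (.leaf 982) (.node 1 (.leaf 1051) (.leaf 320))) (.node 1 (.leaf 1360) (.node 1 (.leaf 750) (.leaf 1071))))))
(.node 12 (.node 6 (.node 3 (.node 1 (.leaf 39) (.node 1 (.leaf 1219) (.leaf 203))) (.node 1 (.leaf 803) (.node 1 (.leaf 1467) (.leaf 440))))
(.node 3 (.node 1 (.leaf 1226) (.node 1 (.leaf 102) (.leaf 1176))) (.node 1 (.leaf 347) (.node 1 (.leaf 388) (.leaf 1203)))))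
(.node 6 (.node 3 (.node 1 (.leaf 1118) (.node 1 (.leaf 1309) (.leaf 1277))) (.node 1 (.leaf 1531) (.node 1 (.leaf 191) (.leaf 310))))
(.node 3 (.node 1 (.leaf 336) (.node 1 (.leaf 1222) (.leaf 1047))) (.node 1 (.leaf 1421) (.node 1 (.leaf 468) (.leaf 2))))))))
(.node 48 (.node 24 (.node 12 (.node 6 (.node 3 (.node 1 (.leaf 631) (.node 1 (.leaf 640) (.leaf 244))) (.node 1 (.leaf 277) (.node 1 (.leaf 971) (.leaf 1489))))
(.node 3 (.node 1 (.leaf 324) (.node 1 (.leaf 606) (.leaf 97))) (.node 1 (.leaf 260) (.node 1 (.leaf 1206) (.leaf 782)))))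
(.node 6 (.node 3 (.node 1 (.leaf 883) (.node 1 (.leaf 1427) (.leaf 494))) (.node 1 (.leaf 1284) (.node 1 (.leaf 617) (.leaf 842))))
(.node 3 (.node 1 (.leaf 961) (.node 1 (.leaf 157) (.leaf 497))) (.node 1 (.leaf 1256) (.node 1 (.leaf 43) (.leaf 1398))))))
(.node 12 (.node 6 (.node 3 (.node 1 (.leaf 264) (.node 1 (.leaf 696) (.leaf 35))) (.node 1 (.leaf 598) (.node 1 (.leaf 1530) (.leaf 529))))
(.node 3 (.node 1 (.leaf 313) (.node 1 (.leaf 624) (.leaf 1422))) (.node 1 (.leaf 537) (.node 1 (.leaf 430) (.leaf 580)))))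
(.node 6 (.node 3 (.node 1 (.leaf 1247) (.node 1 (.leaf 164) (.leaf 888))) (.node 1 (.leaf 212) (.node 1 (.leaf 288) (.leaf 1405))))
(.node 3 (.node 1 (.leaf 1116) (.node 1 (.leaf 355) (.leaf 278))) (.node 1 (.leaf 22) (.node 1 (.leaf 434) (.leaf 1164)))))))
(.node 24 (.node 12 (.node 6 (.node 3 (.node 1 (.leaf 1251) (.node 1 (.leaf 796) (.leaf 333))) (.node 1 (.leaf 787) (.node 1 (.leaf 63) (.leaf 678))))
(.node 3 (.node 1 (.leaf 154) (.node 1 (.leaf 291) (.leaf 1286))) (.node 1 (.leaf 124) (.node 1 (.leaf 793) (.leaf 648)))))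
(.node 6 (.node 3 (.node 1 (.leaf 908) (.node 1 (.leaf 402) (.leaf 215))) (.node 1 (.leaf 238) (.node 1 (.leaf 969) (.leaf 569))))
(.node 3 (.node 1 (.leaf 1311) (.node 1 (.leaf 166) (.leaf 1161))) (.node 1 (.leaf 819) (.node 1 (.leaf 232) (.leaf 923))))))
(.node 12 (.node 6 (.node 3 (.node 1 (.leaf 1012) (.node 1 (.leaf 1138) (.leaf 485))) (.node 1 (.leaf 496) (.node 1 (.leaf 1108) (.leaf 945))))
(.node 3 (.node 1 (.leaf 622) (.node 1 (.leaf 777) (.leaf 912))) (.node 1 (.leaf 672) (.node 1 (.leaf 849) (.leaf 798)))))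
(.node 6 (.node 3 (.node 1 (.leaf 379) (.node 1 (.leaf 201) (.leaf 178))) (.node 1 (.leaf 305) (.node 1 (.leaf 1435) (.leaf 1315))))
(.node 3 (.node 1 (.leaf 1275) (.node 1 (.leaf 230) (.leaf 1160))) (.node 1 (.leaf 957) (.node 1 (.leaf 1375) (.leaf 544)))))))))
(.node 96 (.node 48 (.node 24 (.node 12 (.node 6 (.node 3 (.node 1 (.leaf 1322) (.node 1 (.leaf 1485) (.leaf 1379))) (.node 1 (.leaf 64) (.node 1 (.leaf 429) (.leaf 1033))))
(.node 3 (.node 1 (.leaf 317) (.node 1 (.leaf 11) (.leaf 257))) (.node 1 (.leaf 1192) (.node 1 (.leaf 82) (.leaf 1141)))))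
(.node 6 (.node 3 (.node 1 (.leaf 1091) (.node 1 (.leaf 1146) (.leaf 66))) (.node 1 (.leaf 1217) (.node 1 (.leaf 1412) (.leaf 562))))
(.node 3 (.node 1 (.leaf 88) (.node 1 (.leaf 303) (.leaf 1132))) (.node 1 (.leaf 876) (.node 1 (.leaf 282) (.leaf 345))))))
(.node 12 (.node 6 (.node 3 (.node 1 (.leaf 412) (.node 1 (.leaf 980) (.leaf 618))) (.node 1 (.leaf 514) (.node 1 (.leaf 977) (.leaf 896))))
(.node 3 (.node 1 (.leaf 1278) (.node 1 (.leaf 893) (.leaf 775))) (.node 1 (.leaf 448) (.node 1 (.leaf 931) (.leaf 600)))))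
(.node 6 (.node 3 (.node 1 (.leaf 665) (.node 1 (.leaf 979) (.leaf 162))) (.node 1 (.leaf 449) (.node 1 (.leaf 1115) (.leaf 1469))))
(.node 3 (.node 1 (.leaf 1002) (.node 1 (.leaf 1175) (.leaf 1004))) (.node 1 (.leaf 505) (.node 1 (.leaf 1227) (.leaf 375)))))))
(.node 24 (.node 12 (.node 6 (.node 3 (.node 1 (.leaf 1389) (.node 1 (.leaf 374) (.leaf 650))) (.node 1 (.leaf 1457) (.node 1 (.leaf 274) (.leaf 1013))))
(.node 3 (.node 1 (.leaf 575) (.node 1 (.leaf 1190) (.leaf 1007))) (.node 1 (.leaf 1404) (.node 1 (.leaf 261) (.leaf 1279)))))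
(.node 6 (.node 3 (.node 1 (.leaf 1396) (.node 1 (.leaf 1151) (.leaf 1406))) (.node 1 (.leaf 1340) (.node 1 (.leaf 903) (.leaf 689))))
(.node 3 (.node 1 (.leaf 891) (.node 1 (.leaf 1402) (.leaf 314))) (.node 1 (.leaf 40) (.node 1 (.leaf 556) (.leaf 1482))))))
(.node 12 (.node 6 (.node 3 (.node 1 (.leaf 880) (.node 1 (.leaf 7) (.leaf 491))) (.node 1 (.leaf 870) (.node 1 (.leaf 1076) (.leaf 835))))
(.node 3 (.node 1 (.leaf 1056) (.node 1 (.leaf 1272) (.leaf 1179))) (.node 1 (.leaf 700) (.node 1 (.leaf 1122) (.leaf 1329)))))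
(.node 6 (.node 3 (.node 1 (.leaf 833) (.node 1 (.leaf 1045) (.leaf 267))) (.node 1 (.leaf 860) (.node 1 (.leaf 949) (.leaf 591))))
(.node 3 (.node 1 (.leaf 1395) (.node 1 (.leaf 1253) (.leaf 865))) (.node 1 (.leaf 1104) (.node 1 (.leaf 743) (.leaf 108))))))))
(.node 48 (.node 24 (.node 12 (.node 6 (.node 3 (.node 1 (.leaf 661) (.node 1 (.leaf 361) (.leaf 1089))) (.node 1 (.leaf 184) (.node 1 (.leaf 649) (.leaf 570))))
(.node 3 (.node 1 (.leaf 548) (.node 1 (.leaf 300) (.leaf 33))) (.node 1 (.leaf 346) (.node 1 (.leaf 861) (.leaf 1481)))))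
(.node 6 (.node 3 (.node 1 (.leaf 560) (.node 1 (.leaf 155) (.leaf 643))) (.node 1 (.leaf 839) (.node 1 (.leaf 255) (.leaf 126))))
(.node 3 (.node 1 (.leaf 1490) (.node 1 (.leaf 799) (.leaf 1036))) (.node 1 (.leaf 552) (.node 1 (.leaf 181) (.leaf 663))))))
(.node 12 (.node 6 (.node 3 (.node 1 (.leaf 1239) (.node 1 (.leaf 73) (.leaf 457))) (.node 1 (.leaf 1021) (.node 1 (.leaf 656) (.leaf 133))))
(.node 3 (.node 1 (.leaf 391) (.node 1 (.leaf 31) (.leaf 286))) (.node 1 (.leaf 1154) (.node 1 (.leaf 717) (.leaf 559)))))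
(.node 6 (.node 3 (.node 1 (.leaf 1367) (.node 1 (.leaf 1387) (.leaf 292))) (.node 1 (.leaf 1312) (.node 1 (.leaf 406) (.leaf 417))))
(.node 3 (.node 1 (.leaf 928) (.node 1 (.leaf 293) (.leaf 1100))) (.node 1 (.leaf 789) (.node 1 (.leaf 814) (.leaf 626)))))))
(.node 24 (.node 12 (.node 6 (.node 3 (.node 1 (.leaf 872) (.node 1 (.leaf 846) (.leaf 1466))) (.node 1 (.leaf 467) (.node 1 (.leaf 1522) (.leaf 111))))
(.node 3 (.node 1 (.leaf 1353) (.node 1 (.leaf 1177) (.leaf 1172))) (.node 1 (.leaf 1193) (.node 1 (.leaf 1515) (.leaf 395)))))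
(.node 6 (.node 3 (.node 1 (.leaf 1254) (.node 1 (.leaf 34) (.leaf 490))) (.node 1 (.leaf 56) (.node 1 (.leaf 420) (.leaf 140))))
(.node 3 (.node 1 (.leaf 17) (.node 1 (.leaf 502) (.leaf 156))) (.node 1 (.leaf 263) (.node 1 (.leaf 542) (.leaf 1223))))))
(.node 12 (.node 6 (.node 3 (.node 1 (.leaf 1128) (.node 1 (.leaf 1433) (.leaf 373))) (.node 1 (.leaf 635) (.node 1 (.leaf 592) (.leaf 501))))
(.node 3 (.node 1 (.leaf 1345) (.node 1 (.leaf 1492) (.leaf 186))) (.node 1 (.leaf 1334) (.node 1 (.leaf 77) (.leaf 1318)))))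
(.node 6 (.node 3 (.node 1 (.leaf 179) (.node 1 (.leaf 630) (.leaf 1446))) (.node 1 (.leaf 520) (.node 1 (.leaf 940) (.leaf 1233))))
(.node 3 (.node 1 (.leaf 1103) (.node 1 (.leaf 509) (.leaf 1339))) (.node 1 (.leaf 754) (.node 1 (.leaf 871) (.leaf 41))))))))))

/-- The inverse action. -/
def caseDFullInv1RR : Tab ℕ :=
(.node 192 (.node 96 (.node 48 (.node 24 (.node 12 (.node 6 (.node 3 (.node 1 (.leaf 1009) (.node 1 (.leaf 297) (.leaf 1462))) (.node 1 (.leaf 844) (.node 1 (.leaf 135) (.leaf 1523))))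
(.node 3 (.node 1 (.leaf 1263) (.node 1 (.leaf 176) (.leaf 641))) (.node 1 (.leaf 1216) (.node 1 (.leaf 739) (.leaf 565)))))
(.node 6 (.node 3 (.node 1 (.leaf 109) (.node 1 (.leaf 23) (.leaf 1246))) (.node 1 (.leaf 1521) (.node 1 (.leaf 444) (.leaf 1271))))
(.node 3 (.node 1 (.leaf 1126) (.node 1 (.leaf 1393) (.leaf 507))) (.node 1 (.leaf 904) (.node 1 (.leaf 685) (.leaf 558))))))
(.node 12 (.node 6 (.node 3 (.node 1 (.leaf 1204) (.node 1 (.leaf 348) (.leaf 306))) (.node 1 (.leaf 54) (.node 1 (.leaf 664) (.leaf 642))))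
(.node 3 (.node 1 (.leaf 795) (.node 1 (.leaf 577) (.leaf 214))) (.node 1 (.leaf 55) (.node 1 (.leaf 1186) (.leaf 808)))))
(.node 6 (.node 3 (.node 1 (.leaf 933) (.node 1 (.leaf 1416) (.leaf 1015))) (.node 1 (.leaf 1119) (.node 1 (.leaf 1098) (.leaf 353))))
(.node 3 (.node 1 (.leaf 722) (.node 1 (.leaf 1133) (.leaf 1456))) (.node 1 (.leaf 889) (.node 1 (.leaf 1459) (.leaf 1068)))))))
(.node 24 (.node 12 (.node 6 (.node 3 (.node 1 (.leaf 805) (.node 1 (.leaf 266) (.leaf 1297))) (.node 1 (.leaf 360) (.node 1 (.leaf 296) (.leaf 194))))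
(.node 3 (.node 1 (.leaf 1178) (.node 1 (.leaf 1291) (.leaf 1317))) (.node 1 (.leaf 1055) (.node 1 (.leaf 1054) (.leaf 1483)))))
(.node 6 (.node 3 (.node 1 (.leaf 943) (.node 1 (.leaf 1519) (.leaf 1362))) (.node 1 (.leaf 614) (.node 1 (.leaf 236) (.leaf 1266))))
(.node 3 (.node 1 (.leaf 1188) (.node 1 (.leaf 1258) (.leaf 384))) (.node 1 (.leaf 725) (.node 1 (.leaf 151) (.leaf 1127))))))
(.node 12 (.node 6 (.node 3 (.node 1 (.leaf 294) (.node 1 (.leaf 337) (.leaf 48))) (.node 1 (.leaf 652) (.node 1 (.leaf 1209) (.leaf 1479))))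
(.node 3 (.node 1 (.leaf 252) (.node 1 (.leaf 1231) (.leaf 69))) (.node 1 (.leaf 853) (.node 1 (.leaf 96) (.leaf 1242)))))
(.node 6 (.node 3 (.node 1 (.leaf 677) (.node 1 (.leaf 441) (.leaf 1173))) (.node 1 (.leaf 687) (.node 1 (.leaf 1410) (.leaf 771))))
(.node 3 (.node 1 (.leaf 1198) (.node 1 (.leaf 747) (.leaf 368))) (.node 1 (.leaf 1024) (.node 1 (.leaf 1166) (.leaf 951))))))))
(.node 48 (.node 24 (.node 12 (.node 6 (.node 3 (.node 1 (.leaf 756) (.node 1 (.leaf 1044) (.leaf 428))) (.node 1 (.leaf 1301) (.node 1 (.leaf 185) (.leaf 1037))))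
(.node 3 (.node 1 (.leaf 830) (.node 1 (.leaf 1400) (.leaf 962))) (.node 1 (.leaf 882) (.node 1 (.leaf 1276) (.leaf 545)))))
(.node 6 (.node 3 (.node 1 (.leaf 948) (.node 1 (.leaf 1532) (.leaf 1415))) (.node 1 (.leaf 1158) (.node 1 (.leaf 1264) (.leaf 1121))))
(.node 3 (.node 1 (.leaf 392) (.node 1 (.leaf 1330) (.leaf 1437))) (.node 1 (.leaf 198) (.node 1 (.leaf 1464) (.leaf 1169))))))
(.node 12 (.node 6 (.node 3 (.node 1 (.leaf 1039) (.node 1 (.leaf 148) (.leaf 1199))) (.node 1 (.leaf 16) (.node 1 (.leaf 841) (.leaf 854))))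
(.node 3 (.node 1 (.leaf 1394) (.node 1 (.leaf 1025) (.leaf 60))) (.node 1 (.leaf 1514) (.node 1 (.leaf 1282) (.leaf 1358)))))
(.node 6 (.node 3 (.node 1 (.leaf 1325) (.node 1 (.leaf 454) (.leaf 920))) (.node 1 (.leaf 563) (.node 1 (.leaf 208) (.leaf 72))))
(.node 3 (.node 1 (.leaf 1313) (.node 1 (.leaf 1207) (.leaf 989))) (.node 1 (.leaf 488) (.node 1 (.leaf 646) (.leaf 1117)))))))
(.node 24 (.node 12 (.node 6 (.node 3 (.node 1 (.leaf 506) (.node 1 (.leaf 1500) (.leaf 125))) (.node 1 (.leaf 647) (.node 1 (.leaf 690) (.leaf 944))))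
(.node 3 (.node 1 (.leaf 42) (.node 1 (.leaf 1411) (.leaf 1442))) (.node 1 (.leaf 319) (.node 1 (.leaf 820) (.leaf 500)))))
(.node 6 (.node 3 (.node 1 (.leaf 1111) (.node 1 (.leaf 1145) (.leaf 276))) (.node 1 (.leaf 930) (.node 1 (.leaf 765) (.leaf 1073))))
(.node 3 (.node 1 (.leaf 1371) (.node 1 (.leaf 1424) (.leaf 404))) (.node 1 (.leaf 1185) (.node 1 (.leaf 710) (.leaf 1113))))))
(.node 12 (.node 6 (.node 3 (.node 1 (.leaf 1262) (.node 1 (.leaf 322) (.leaf 572))) (.node 1 (.leaf 299) (.node 1 (.leaf 1156) (.leaf 1455))))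
(.node 3 (.node 1 (.leaf 668) (.node 1 (.leaf 1441) (.leaf 1260))) (.node 1 (.leaf 887) (.node 1 (.leaf 259) (.leaf 219)))))
(.node 6 (.node 3 (.node 1 (.leaf 116) (.node 1 (.leaf 1324) (.leaf 1337))) (.node 1 (.leaf 105) (.node 1 (.leaf 364) (.leaf 223))))
(.node 3 (.node 1 (.leaf 1338) (.node 1 (.leaf 950) (.leaf 1023))) (.node 1 (.leaf 280) (.node 1 (.leaf 1463) (.leaf 724)))))))))
(.node 96 (.node 48 (.node 24 (.node 12 (.node 6 (.node 3 (.node 1 (.leaf 304) (.node 1 (.leaf 731) (.leaf 578))) (.node 1 (.leaf 776) (.node 1 (.leaf 482) (.leaf 471))))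
(.node 3 (.node 1 (.leaf 411) (.node 1 (.leaf 1477) (.leaf 740))) (.node 1 (.leaf 905) (.node 1 (.leaf 1078) (.leaf 564)))))
(.node 6 (.node 3 (.node 1 (.leaf 934) (.node 1 (.leaf 1031) (.leaf 864))) (.node 1 (.leaf 825) (.node 1 (.leaf 1092) (.leaf 627))))
(.node 3 (.node 1 (.leaf 615) (.node 1 (.leaf 1516) (.leaf 595))) (.node 1 (.leaf 517) (.node 1 (.leaf 477) (.leaf 837))))))
(.node 12 (.node 6 (.node 3 (.node 1 (.leaf 1293) (.node 1 (.leaf 1385) (.leaf 275))) (.node 1 (.leaf 1314) (.node 1 (.leaf 1170) (.leaf 1447))))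
(.node 3 (.node 1 (.leaf 1273) (.node 1 (.leaf 958) (.leaf 1195))) (.node 1 (.leaf 1438) (.node 1 (.leaf 829) (.leaf 885)))))
(.node 6 (.node 3 (.node 1 (.leaf 93) (.node 1 (.leaf 382) (.leaf 748))) (.node 1 (.leaf 926) (.node 1 (.leaf 462) (.leaf 594))))
(.node 3 (.node 1 (.leaf 1112) (.node 1 (.leaf 1093) (.leaf 58))) (.node 1 (.leaf 1436) (.node 1 (.leaf 532) (.leaf 838)))))))
(.node 24 (.node 12 (.node 6 (.node 3 (.node 1 (.leaf 857) (.node 1 (.leaf 676) (.leaf 746))) (.node 1 (.leaf 1050) (.node 1 (.leaf 543) (.leaf 51))))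
(.node 3 (.node 1 (.leaf 1043) (.node 1 (.leaf 535) (.leaf 1285))) (.node 1 (.leaf 806) (.node 1 (.leaf 253) (.leaf 1020)))))
(.node 6 (.node 3 (.node 1 (.leaf 470) (.node 1 (.leaf 1110) (.leaf 242))) (.node 1 (.leaf 567) (.node 1 (.leaf 918) (.leaf 1423))))
(.node 3 (.node 1 (.leaf 511) (.node 1 (.leaf 1259) (.leaf 976))) (.node 1 (.leaf 3) (.node 1 (.leaf 248) (.leaf 1488))))))
(.node 12 (.node 6 (.node 3 (.node 1 (.leaf 1189) (.node 1 (.leaf 24) (.leaf 720))) (.node 1 (.leaf 1241) (.node 1 (.leaf 671) (.leaf 475))))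
(.node 3 (.node 1 (.leaf 1292) (.node 1 (.leaf 938) (.leaf 1497))) (.node 1 (.leaf 1502) (.node 1 (.leaf 669) (.leaf 1377)))))
(.node 6 (.node 3 (.node 1 (.leaf 637) (.node 1 (.leaf 1527) (.leaf 122))) (.node 1 (.leaf 1512) (.node 1 (.leaf 1432) (.leaf 271))))
(.node 3 (.node 1 (.leaf 1211) (.node 1 (.leaf 103) (.leaf 36))) (.node 1 (.leaf 200) (.node 1 (.leaf 877) (.leaf 984))))))))
(.node 48 (.node 24 (.node 12 (.node 6 (.node 3 (.node 1 (.leaf 778) (.node 1 (.leaf 1327) (.leaf 474))) (.node 1 (.leaf 701) (.node 1 (.leaf 1496) (.leaf 326))))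
(.node 3 (.node 1 (.leaf 483) (.node 1 (.leaf 826) (.leaf 1310))) (.node 1 (.leaf 91) (.node 1 (.leaf 80) (.leaf 991)))))
(.node 6 (.node 3 (.node 1 (.leaf 603) (.node 1 (.leaf 436) (.leaf 137))) (.node 1 (.leaf 879) (.node 1 (.leaf 1384) (.leaf 370))))
(.node 3 (.node 1 (.leaf 160) (.node 1 (.leaf 1235) (.leaf 1016))) (.node 1 (.leaf 892) (.node 1 (.leaf 1058) (.leaf 26))))))
(.node 12 (.node 6 (.node 3 (.node 1 (.leaf 338) (.node 1 (.leaf 812) (.leaf 582))) (.node 1 (.leaf 18) (.node 1 (.leaf 878) (.leaf 396))))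
(.node 3 (.node 1 (.leaf 1397) (.node 1 (.leaf 1366) (.leaf 399))) (.node 1 (.leaf 813) (.node 1 (.leaf 584) (.leaf 636)))))
(.node 6 (.node 3 (.node 1 (.leaf 1067) (.node 1 (.leaf 327) (.leaf 25))) (.node 1 (.leaf 250) (.node 1 (.leaf 1526) (.leaf 540))))
(.node 3 (.node 1 (.leaf 269) (.node 1 (.leaf 177) (.leaf 855))) (.node 1 (.leaf 1257) (.node 1 (.leaf 1136) (.leaf 581)))))))
(.node 24 (.node 12 (.node 6 (.node 3 (.node 1 (.leaf 1320) (.node 1 (.leaf 869) (.leaf 413))) (.node 1 (.leaf 249) (.node 1 (.leaf 788) (.leaf 386))))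
(.node 3 (.node 1 (.leaf 192) (.node 1 (.leaf 1454) (.leaf 408))) (.node 1 (.leaf 953) (.node 1 (.leaf 143) (.leaf 858)))))
(.node 6 (.node 3 (.node 1 (.leaf 809) (.node 1 (.leaf 352) (.leaf 94))) (.node 1 (.leaf 1413) (.node 1 (.leaf 941) (.leaf 852))))
(.node 3 (.node 1 (.leaf 526) (.node 1 (.leaf 735) (.leaf 1513))) (.node 1 (.leaf 1518) (.node 1 (.leaf 811) (.leaf 758))))))
(.node 12 (.node 6 (.node 3 (.node 1 (.leaf 970) (.node 1 (.leaf 967) (.leaf 1281))) (.node 1 (.leaf 89) (.node 1 (.leaf 1507) (.leaf 1168))))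
(.node 3 (.node 1 (.leaf 1509) (.node 1 (.leaf 1213) (.leaf 398))) (.node 1 (.leaf 1201) (.node 1 (.leaf 1144) (.leaf 612)))))
(.node 6 (.node 3 (.node 1 (.leaf 832) (.node 1 (.leaf 634) (.leaf 1480))) (.node 1 (.leaf 1429) (.node 1 (.leaf 1443) (.leaf 74))))
(.node 3 (.node 1 (.leaf 464) (.node 1 (.leaf 410) (.leaf 715))) (.node 1 (.leaf 243) (.node 1 (.leaf 1417) (.leaf 1059))))))))))

/-- The inverse action. -/
def caseDFullInv1R : Tab ℕ := .node 384 caseDFullInv1RL caseDFullInv1RR

/-- The inverse action. -/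
def caseDFullInv1 : Tab ℕ := .node 768 caseDFullInv1L caseDFullInv1R

/-- The bound. -/
def caseDFullBound : BoundD := ⟨[caseDFullN0Node, caseDFullN1Node, caseDFullN4Node, caseDFullN7Node,
  caseDFullN14Node, caseDFullN19Node, caseDFullN25Node, caseDFullN43Node,
  caseDFullN46Node, caseDFullN66Node, caseDFullN84Node, caseDFullN88Node,
  caseDFullN167Node, caseDFullN214Node], fun b => bif b then caseDFullInv1 else caseDFullInv0, 11385⟩

end Cfsg.Lib.HeldType
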