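import Cfsg.Agent.HeldType.TrivialD
import Cfsg.Agent.HeldType.FullD

/-!
The checks of one case.
-/

set_option autoImplicit false
set_option maxRecDepth 100000

namespace Cfsg.Lib.HeldType

theorem caseDLoc0_ok : caseDLoc0Cert.ok caseDPars caseDCube = true := by decide +kernel

theorem caseDLoc1_ok : caseDLoc1Cert.ok caseDPars caseDCube = true := by decide +kernel

theorem caseDTrivial_defs : caseDTrivial.okDefs = true := by decide +kernel

theorem caseDTrivial_facts0 : allR (caseDTrivial.okAt caseDPars) 0 113 = true := by decide +kernel

theorem caseDTrivial_facts (k : ℕ) (hk : k < 113) : caseDTrivial.okAt caseDPars k = true := by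
  exact allR_sound _ _ _ caseDTrivial_facts0 k (by omega) (by omega)

theorem caseDFull_defs : caseDFull.okDefs = true := by decide +kernel

theorem caseDFull_facts0 : allR (caseDFull.okAt caseDPars) 0 500 = true := by decide +kernel

theorem caseDFull_facts500 : allR (caseDFull.okAt caseDPars) 500 500 = true := by decide +kernel

theorem caseDFull_facts1000 : allR (caseDFull.okAt caseDPars) 1000 500 = true := by decide +kernel

theorem caseDFull_facts1500 : allR (caseDFull.okAt caseDPars) 1500 500 = true := by decide +kernel

theorem caseDFull_facts2000 : allR (caseDFull.okAt caseDPars) 2000 500 = true := by decide +kernel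

theorem caseDFull_facts2500 : allR (caseDFull.okAt caseDPars) 2500 500 = true := by decide +kernel

theorem caseDFull_facts3000 : allR (caseDFull.okAt caseDPars) 3000 500 = true := by decide +kernel

theorem caseDFull_facts3500 : allR (caseDFull.okAt caseDPars) 3500 500 = true := by decide +kernel

theorem caseDFull_facts4000 : allR (caseDFull.okAt caseDPars) 4000 447 = true := by decide +kernel

theorem caseDFull_facts (k : ℕ) (hk : k < 4447) : caseDFull.okAt caseDPars k = true := by
  by_cases h0 : k < 500
  · exact allR_sound _ _ _ caseDFull_facts0 k (by omega) (by omega)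
  by_cases h500 : k < 1000
  · exact allR_sound _ _ _ caseDFull_facts500 k (by omega) (by omega)
  by_cases h1000 : k < 1500
  · exact allR_sound _ _ _ caseDFull_facts1000 k (by omega) (by omega)
  by_cases h1500 : k < 2000
  · exact allR_sound _ _ _ caseDFull_facts1500 k (by omega) (by omega)
  by_cases h2000 : k < 2500
  · exact allR_sound _ _ _ caseDFull_facts2000 k (by omega) (by omega)
  by_cases h2500 : k < 3000
  · exact allR_sound _ _ _ caseDFull_facts2500 k (by omega) (by omega)
  by_cases h3000 : k < 3500
  · exact allR_sound _ _ _ caseDFull_facts3000 k (by omega) (by omega)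
  by_cases h3500 : k < 4000
  · exact allR_sound _ _ _ caseDFull_facts3500 k (by omega) (by omega)
  exact allR_sound _ _ _ caseDFull_facts4000 k (by omega) (by omega)

theorem caseDFull_bound : caseDFullBound.ok caseDFull caseDPars = true := by decide +kernel

end Cfsg.Lib.HeldType
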