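import Cfsg.Agent.HeldType.Cent

/-!
Data of the classes of involutions.
-/

set_option autoImplicit false
set_option maxRecDepth 100000

namespace Cfsg.Lib.HeldType

/-- The centraliser data. -/
def clAEl : Tab ℕ :=
(.node 128 (.node 64 (.node 32 (.node 16 (.node 8 (.node 4 (.node 2 (.node 1 (.leaf 17043521) (.leaf 17043537)) (.node 1 (.leaf 17059905) (.leaf 17059921)))
(.node 2 (.node 1 (.leaf 17567809) (.leaf 17567825)) (.node 1 (.leaf 17584193) (.leaf 17584209))))
(.node 4 (.node 2 (.node 1 (.leaf 17043529) (.leaf 17043545)) (.node 1 (.leaf 17059913) (.leaf 17059929)))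
(.node 2 (.node 1 (.leaf 17567817) (.leaf 17567833)) (.node 1 (.leaf 17584201) (.leaf 17584217)))))
(.node 8 (.node 4 (.node 2 (.node 1 (.leaf 17051713) (.leaf 17051729)) (.node 1 (.leaf 17068097) (.leaf 17068113)))
(.node 2 (.node 1 (.leaf 17576001) (.leaf 17576017)) (.node 1 (.leaf 17592385) (.leaf 17592401))))
(.node 4 (.node 2 (.node 1 (.leaf 17051721) (.leaf 17051737)) (.node 1 (.leaf 17068105) (.leaf 17068121)))
(.node 2 (.node 1 (.leaf 17576009) (.leaf 17576025)) (.node 1 (.leaf 17592393) (.leaf 17592409))))))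
(.node 16 (.node 8 (.node 4 (.node 2 (.node 1 (.leaf 17043523) (.leaf 17043539)) (.node 1 (.leaf 17059907) (.leaf 17059923)))
(.node 2 (.node 1 (.leaf 17567811) (.leaf 17567827)) (.node 1 (.leaf 17584195) (.leaf 17584211))))
(.node 4 (.node 2 (.node 1 (.leaf 17043531) (.leaf 17043547)) (.node 1 (.leaf 17059915) (.leaf 17059931)))
(.node 2 (.node 1 (.leaf 17567819) (.leaf 17567835)) (.node 1 (.leaf 17584203) (.leaf 17584219)))))
(.node 8 (.node 4 (.node 2 (.node 1 (.leaf 17051715) (.leaf 17051731)) (.node 1 (.leaf 17068099) (.leaf 17068115)))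
(.node 2 (.node 1 (.leaf 17576003) (.leaf 17576019)) (.node 1 (.leaf 17592387) (.leaf 17592403))))
(.node 4 (.node 2 (.node 1 (.leaf 17051723) (.leaf 17051739)) (.node 1 (.leaf 17068107) (.leaf 17068123)))
(.node 2 (.node 1 (.leaf 17576011) (.leaf 17576027)) (.node 1 (.leaf 17592395) (.leaf 17592411)))))))
(.node 32 (.node 16 (.node 8 (.node 4 (.node 2 (.node 1 (.leaf 17045569) (.leaf 17045585)) (.node 1 (.leaf 17061953) (.leaf 17061969)))
(.node 2 (.node 1 (.leaf 17569857) (.leaf 17569873)) (.node 1 (.leaf 17586241) (.leaf 17586257))))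
(.node 4 (.node 2 (.node 1 (.leaf 17045577) (.leaf 17045593)) (.node 1 (.leaf 17061961) (.leaf 17061977)))
(.node 2 (.node 1 (.leaf 17569865) (.leaf 17569881)) (.node 1 (.leaf 17586249) (.leaf 17586265)))))
(.node 8 (.node 4 (.node 2 (.node 1 (.leaf 17053761) (.leaf 17053777)) (.node 1 (.leaf 17070145) (.leaf 17070161)))
(.node 2 (.node 1 (.leaf 17578049) (.leaf 17578065)) (.node 1 (.leaf 17594433) (.leaf 17594449))))
(.node 4 (.node 2 (.node 1 (.leaf 17053769) (.leaf 17053785)) (.node 1 (.leaf 17070153) (.leaf 17070169)))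
(.node 2 (.node 1 (.leaf 17578057) (.leaf 17578073)) (.node 1 (.leaf 17594441) (.leaf 17594457))))))
(.node 16 (.node 8 (.node 4 (.node 2 (.node 1 (.leaf 17045571) (.leaf 17045587)) (.node 1 (.leaf 17061955) (.leaf 17061971)))
(.node 2 (.node 1 (.leaf 17569859) (.leaf 17569875)) (.node 1 (.leaf 17586243) (.leaf 17586259))))
(.node 4 (.node 2 (.node 1 (.leaf 17045579) (.leaf 17045595)) (.node 1 (.leaf 17061963) (.leaf 17061979)))
(.node 2 (.node 1 (.leaf 17569867) (.leaf 17569883)) (.node 1 (.leaf 17586251) (.leaf 17586267)))))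
(.node 8 (.node 4 (.node 2 (.node 1 (.leaf 17053763) (.leaf 17053779)) (.node 1 (.leaf 17070147) (.leaf 17070163)))
(.node 2 (.node 1 (.leaf 17578051) (.leaf 17578067)) (.node 1 (.leaf 17594435) (.leaf 17594451))))
(.node 4 (.node 2 (.node 1 (.leaf 17053771) (.leaf 17053787)) (.node 1 (.leaf 17070155) (.leaf 17070171)))
(.node 2 (.node 1 (.leaf 17578059) (.leaf 17578075)) (.node 1 (.leaf 17594443) (.leaf 17594459))))))))
(.node 64 (.node 32 (.node 16 (.node 8 (.node 4 (.node 2 (.node 1 (.leaf 17109057) (.leaf 17109073)) (.node 1 (.leaf 17125441) (.leaf 17125457)))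
(.node 2 (.node 1 (.leaf 17633345) (.leaf 17633361)) (.node 1 (.leaf 17649729) (.leaf 17649745))))
(.node 4 (.node 2 (.node 1 (.leaf 17109065) (.leaf 17109081)) (.node 1 (.leaf 17125449) (.leaf 17125465)))
(.node 2 (.node 1 (.leaf 17633353) (.leaf 17633369)) (.node 1 (.leaf 17649737) (.leaf 17649753)))))
(.node 8 (.node 4 (.node 2 (.node 1 (.leaf 17117249) (.leaf 17117265)) (.node 1 (.leaf 17133633) (.leaf 17133649)))
(.node 2 (.node 1 (.leaf 17641537) (.leaf 17641553)) (.node 1 (.leaf 17657921) (.leaf 17657937))))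
(.node 4 (.node 2 (.node 1 (.leaf 17117257) (.leaf 17117273)) (.node 1 (.leaf 17133641) (.leaf 17133657)))
(.node 2 (.node 1 (.leaf 17641545) (.leaf 17641561)) (.node 1 (.leaf 17657929) (.leaf 17657945))))))
(.node 16 (.node 8 (.node 4 (.node 2 (.node 1 (.leaf 17109059) (.leaf 17109075)) (.node 1 (.leaf 17125443) (.leaf 17125459)))
(.node 2 (.node 1 (.leaf 17633347) (.leaf 17633363)) (.node 1 (.leaf 17649731) (.leaf 17649747))))
(.node 4 (.node 2 (.node 1 (.leaf 17109067) (.leaf 17109083)) (.node 1 (.leaf 17125451) (.leaf 17125467)))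
(.node 2 (.node 1 (.leaf 17633355) (.leaf 17633371)) (.node 1 (.leaf 17649739) (.leaf 17649755)))))
(.node 8 (.node 4 (.node 2 (.node 1 (.leaf 17117251) (.leaf 17117267)) (.node 1 (.leaf 17133635) (.leaf 17133651)))
(.node 2 (.node 1 (.leaf 17641539) (.leaf 17641555)) (.node 1 (.leaf 17657923) (.leaf 17657939))))
(.node 4 (.node 2 (.node 1 (.leaf 17117259) (.leaf 17117275)) (.node 1 (.leaf 17133643) (.leaf 17133659)))
(.node 2 (.node 1 (.leaf 17641547) (.leaf 17641563)) (.node 1 (.leaf 17657931) (.leaf 17657947)))))))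
(.node 32 (.node 16 (.node 8 (.node 4 (.node 2 (.node 1 (.leaf 17111105) (.leaf 17111121)) (.node 1 (.leaf 17127489) (.leaf 17127505)))
(.node 2 (.node 1 (.leaf 17635393) (.leaf 17635409)) (.node 1 (.leaf 17651777) (.leaf 17651793))))
(.node 4 (.node 2 (.node 1 (.leaf 17111113) (.leaf 17111129)) (.node 1 (.leaf 17127497) (.leaf 17127513)))
(.node 2 (.node 1 (.leaf 17635401) (.leaf 17635417)) (.node 1 (.leaf 17651785) (.leaf 17651801)))))
(.node 8 (.node 4 (.node 2 (.node 1 (.leaf 17119297) (.leaf 17119313)) (.node 1 (.leaf 17135681) (.leaf 17135697)))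
(.node 2 (.node 1 (.leaf 17643585) (.leaf 17643601)) (.node 1 (.leaf 17659969) (.leaf 17659985))))
(.node 4 (.node 2 (.node 1 (.leaf 17119305) (.leaf 17119321)) (.node 1 (.leaf 17135689) (.leaf 17135705)))
(.node 2 (.node 1 (.leaf 17643593) (.leaf 17643609)) (.node 1 (.leaf 17659977) (.leaf 17659993))))))
(.node 16 (.node 8 (.node 4 (.node 2 (.node 1 (.leaf 17111107) (.leaf 17111123)) (.node 1 (.leaf 17127491) (.leaf 17127507)))
(.node 2 (.node 1 (.leaf 17635395) (.leaf 17635411)) (.node 1 (.leaf 17651779) (.leaf 17651795))))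
(.node 4 (.node 2 (.node 1 (.leaf 17111115) (.leaf 17111131)) (.node 1 (.leaf 17127499) (.leaf 17127515)))
(.node 2 (.node 1 (.leaf 17635403) (.leaf 17635419)) (.node 1 (.leaf 17651787) (.leaf 17651803)))))
(.node 8 (.node 4 (.node 2 (.node 1 (.leaf 17119299) (.leaf 17119315)) (.node 1 (.leaf 17135683) (.leaf 17135699)))
(.node 2 (.node 1 (.leaf 17643587) (.leaf 17643603)) (.node 1 (.leaf 17659971) (.leaf 17659987))))
(.node 4 (.node 2 (.node 1 (.leaf 17119307) (.leaf 17119323)) (.node 1 (.leaf 17135691) (.leaf 17135707)))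
(.node 2 (.node 1 (.leaf 17643595) (.leaf 17643611)) (.node 1 (.leaf 17659979) (.leaf 17659995)))))))))

/-- Its index. -/
def clAIx : BT ℕ :=
(.node 17567809 4
(.node 17109057 128
(.node 17059905 2
(.node 17051713 16
(.node 17045569 64
(.node 17043537 1
(.node 17043529 8 (.node 17043523 32 (.node 17043521 0 .tip .tip) .tip) (.node 17043531 40 .tip .tip))
(.node 17043545 9 (.node 17043539 33 .tip .tip) (.node 17043547 41 .tip .tip)))
(.node 17045585 65
(.node 17045577 72 (.node 17045571 96 .tip .tip) (.node 17045579 104 .tip .tip))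
(.node 17045593 73 (.node 17045587 97 .tip .tip) (.node 17045595 105 .tip .tip))))
(.node 17053761 80
(.node 17051729 17
(.node 17051721 24 (.node 17051715 48 .tip .tip) (.node 17051723 56 .tip .tip))
(.node 17051737 25 (.node 17051731 49 .tip .tip) (.node 17051739 57 .tip .tip)))
(.node 17053777 81
(.node 17053769 88 (.node 17053763 112 .tip .tip) (.node 17053771 120 .tip .tip))
(.node 17053785 89 (.node 17053779 113 .tip .tip) (.node 17053787 121 .tip .tip)))))
(.node 17068097 18
(.node 17061953 66
(.node 17059921 3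
(.node 17059913 10 (.node 17059907 34 .tip .tip) (.node 17059915 42 .tip .tip))
(.node 17059929 11 (.node 17059923 35 .tip .tip) (.node 17059931 43 .tip .tip)))
(.node 17061969 67
(.node 17061961 74 (.node 17061955 98 .tip .tip) (.node 17061963 106 .tip .tip))
(.node 17061977 75 (.node 17061971 99 .tip .tip) (.node 17061979 107 .tip .tip))))
(.node 17070145 82
(.node 17068113 19
(.node 17068105 26 (.node 17068099 50 .tip .tip) (.node 17068107 58 .tip .tip))
(.node 17068121 27 (.node 17068115 51 .tip .tip) (.node 17068123 59 .tip .tip)))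
(.node 17070161 83
(.node 17070153 90 (.node 17070147 114 .tip .tip) (.node 17070155 122 .tip .tip))
(.node 17070169 91 (.node 17070163 115 .tip .tip) (.node 17070171 123 .tip .tip))))))
(.node 17125441 130
(.node 17117249 144
(.node 17111105 192
(.node 17109073 129
(.node 17109065 136 (.node 17109059 160 .tip .tip) (.node 17109067 168 .tip .tip))
(.node 17109081 137 (.node 17109075 161 .tip .tip) (.node 17109083 169 .tip .tip)))
(.node 17111121 193
(.node 17111113 200 (.node 17111107 224 .tip .tip) (.node 17111115 232 .tip .tip))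
(.node 17111129 201 (.node 17111123 225 .tip .tip) (.node 17111131 233 .tip .tip))))
(.node 17119297 208
(.node 17117265 145
(.node 17117257 152 (.node 17117251 176 .tip .tip) (.node 17117259 184 .tip .tip))
(.node 17117273 153 (.node 17117267 177 .tip .tip) (.node 17117275 185 .tip .tip)))
(.node 17119313 209
(.node 17119305 216 (.node 17119299 240 .tip .tip) (.node 17119307 248 .tip .tip))
(.node 17119321 217 (.node 17119315 241 .tip .tip) (.node 17119323 249 .tip .tip)))))
(.node 17133633 146
(.node 17127489 194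
(.node 17125457 131
(.node 17125449 138 (.node 17125443 162 .tip .tip) (.node 17125451 170 .tip .tip))
(.node 17125465 139 (.node 17125459 163 .tip .tip) (.node 17125467 171 .tip .tip)))
(.node 17127505 195
(.node 17127497 202 (.node 17127491 226 .tip .tip) (.node 17127499 234 .tip .tip))
(.node 17127513 203 (.node 17127507 227 .tip .tip) (.node 17127515 235 .tip .tip))))
(.node 17135681 210
(.node 17133649 147
(.node 17133641 154 (.node 17133635 178 .tip .tip) (.node 17133643 186 .tip .tip))
(.node 17133657 155 (.node 17133651 179 .tip .tip) (.node 17133659 187 .tip .tip)))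
(.node 17135697 211
(.node 17135689 218 (.node 17135683 242 .tip .tip) (.node 17135691 250 .tip .tip))
(.node 17135705 219 (.node 17135699 243 .tip .tip) (.node 17135707 251 .tip .tip)))))))
(.node 17633345 132
(.node 17584193 6
(.node 17576001 20
(.node 17569857 68
(.node 17567825 5
(.node 17567817 12 (.node 17567811 36 .tip .tip) (.node 17567819 44 .tip .tip))
(.node 17567833 13 (.node 17567827 37 .tip .tip) (.node 17567835 45 .tip .tip)))
(.node 17569873 69
(.node 17569865 76 (.node 17569859 100 .tip .tip) (.node 17569867 108 .tip .tip))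
(.node 17569881 77 (.node 17569875 101 .tip .tip) (.node 17569883 109 .tip .tip))))
(.node 17578049 84
(.node 17576017 21
(.node 17576009 28 (.node 17576003 52 .tip .tip) (.node 17576011 60 .tip .tip))
(.node 17576025 29 (.node 17576019 53 .tip .tip) (.node 17576027 61 .tip .tip)))
(.node 17578065 85
(.node 17578057 92 (.node 17578051 116 .tip .tip) (.node 17578059 124 .tip .tip))
(.node 17578073 93 (.node 17578067 117 .tip .tip) (.node 17578075 125 .tip .tip)))))
(.node 17592385 22
(.node 17586241 70
(.node 17584209 7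
(.node 17584201 14 (.node 17584195 38 .tip .tip) (.node 17584203 46 .tip .tip))
(.node 17584217 15 (.node 17584211 39 .tip .tip) (.node 17584219 47 .tip .tip)))
(.node 17586257 71
(.node 17586249 78 (.node 17586243 102 .tip .tip) (.node 17586251 110 .tip .tip))
(.node 17586265 79 (.node 17586259 103 .tip .tip) (.node 17586267 111 .tip .tip))))
(.node 17594433 86
(.node 17592401 23
(.node 17592393 30 (.node 17592387 54 .tip .tip) (.node 17592395 62 .tip .tip))
(.node 17592409 31 (.node 17592403 55 .tip .tip) (.node 17592411 63 .tip .tip)))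
(.node 17594449 87
(.node 17594441 94 (.node 17594435 118 .tip .tip) (.node 17594443 126 .tip .tip))
(.node 17594457 95 (.node 17594451 119 .tip .tip) (.node 17594459 127 .tip .tip))))))
(.node 17649729 134
(.node 17641537 148
(.node 17635393 196
(.node 17633361 133
(.node 17633353 140 (.node 17633347 164 .tip .tip) (.node 17633355 172 .tip .tip))
(.node 17633369 141 (.node 17633363 165 .tip .tip) (.node 17633371 173 .tip .tip)))
(.node 17635409 197
(.node 17635401 204 (.node 17635395 228 .tip .tip) (.node 17635403 236 .tip .tip))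
(.node 17635417 205 (.node 17635411 229 .tip .tip) (.node 17635419 237 .tip .tip))))
(.node 17643585 212
(.node 17641553 149
(.node 17641545 156 (.node 17641539 180 .tip .tip) (.node 17641547 188 .tip .tip))
(.node 17641561 157 (.node 17641555 181 .tip .tip) (.node 17641563 189 .tip .tip)))
(.node 17643601 213
(.node 17643593 220 (.node 17643587 244 .tip .tip) (.node 17643595 252 .tip .tip))
(.node 17643609 221 (.node 17643603 245 .tip .tip) (.node 17643611 253 .tip .tip)))))
(.node 17657921 150
(.node 17651777 198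
(.node 17649745 135
(.node 17649737 142 (.node 17649731 166 .tip .tip) (.node 17649739 174 .tip .tip))
(.node 17649753 143 (.node 17649747 167 .tip .tip) (.node 17649755 175 .tip .tip)))
(.node 17651793 199
(.node 17651785 206 (.node 17651779 230 .tip .tip) (.node 17651787 238 .tip .tip))
(.node 17651801 207 (.node 17651795 231 .tip .tip) (.node 17651803 239 .tip .tip))))
(.node 17659969 214
(.node 17657937 151
(.node 17657929 158 (.node 17657923 182 .tip .tip) (.node 17657931 190 .tip .tip))
(.node 17657945 159 (.node 17657939 183 .tip .tip) (.node 17657947 191 .tip .tip)))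
(.node 17659985 215
(.node 17659977 222 (.node 17659971 246 .tip .tip) (.node 17659979 254 .tip .tip))
(.node 17659993 223 (.node 17659987 247 .tip .tip) (.node 17659995 255 .tip .tip))))))))

/-- The orbit. -/
def clAOrb : Tab (ℕ × ℕ) :=
(.node 42 (.node 21 (.node 10 (.node 5 (.node 2 (.node 1 (.leaf (4472897, 7100491)) (.leaf (4472917, 7100503))) (.node 1 (.leaf (5128257, 5132363)) (.node 1 (.leaf (5128277, 14841925)) (.leaf (6572097, 4544593)))))
(.node 2 (.node 1 (.leaf (6572119, 21305439)) (.leaf (7292993, 32125001))) (.node 1 (.leaf (7293015, 14839879)) (.node 1 (.leaf (8917057, 29763651)) (.leaf (8917081, 13510735))))))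
(.node 5 (.node 2 (.node 1 (.leaf (8941633, 13506641)) (.leaf (8941657, 29775943))) (.node 1 (.leaf (11079745, 29845593)) (.node 1 (.leaf (11079771, 23208007)) (.leaf (11106369, 21182537)))))
(.node 3 (.node 1 (.leaf (11106395, 4946007)) (.node 1 (.leaf (12869697, 12933185)) (.leaf (12869725, 6584399)))) (.node 1 (.leaf (13242433, 13314137)) (.node 1 (.leaf (13242461, 13314133)) (.leaf (14968897, 23951441)))))))
(.node 10 (.node 5 (.node 2 (.node 1 (.leaf (14968927, 23951437)) (.leaf (15405121, 6776923))) (.node 1 (.leaf (15405151, 24078421)) (.node 1 (.leaf (16916545, 25385043)) (.leaf (16916557, 25892943)))))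
(.node 2 (.node 1 (.leaf (16984129, 9384027)) (.leaf (16984143, 10702935))) (.node 1 (.leaf (17051713, 25720921)) (.node 1 (.leaf (17051721, 25704519)) (.leaf (17053761, 27881563))))))
(.node 5 (.node 2 (.node 1 (.leaf (17053771, 9007175)) (.leaf (17059905, 17043521))) (.node 1 (.leaf (17059921, 17059919)) (.node 1 (.leaf (17061953, 19740753)) (.leaf (17061971, 19683399)))))
(.node 3 (.node 1 (.leaf (17068097, 9197659)) (.node 1 (.leaf (17068121, 9189447)) (.leaf (17070145, 27545673)))) (.node 1 (.leaf (17070171, 27529303)) (.node 1 (.leaf (17174593, 11485273)) (.leaf (17174597, 10960991))))))))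
(.node 21 (.node 10 (.node 5 (.node 2 (.node 1 (.leaf (17240129, 27674691)) (.leaf (17240135, 25315397))) (.node 1 (.leaf (17457217, 9056345)) (.node 1 (.leaf (17457245, 27662407)) (.leaf (17524801, 9312321)))))
(.node 2 (.node 1 (.leaf (17524831, 28014669)) (.leaf (17567809, 17180745))) (.node 1 (.leaf (17567825, 17262685)) (.node 1 (.leaf (17584193, 17698891)) (.leaf (17584209, 17715285))))))
(.node 5 (.node 2 (.node 1 (.leaf (17633345, 19802187)) (.leaf (17633363, 19802199))) (.node 1 (.leaf (17651777, 19626057)) (.node 1 (.leaf (17651795, 19085399)) (.leaf (17698881, 10971209)))))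
(.node 3 (.node 1 (.leaf (17698901, 11495495)) (.node 1 (.leaf (17764417, 27402313)) (.leaf (17764439, 27664479)))) (.node 1 (.leaf (21237825, 31801425)) (.node 1 (.leaf (21237829, 15024223)) (.leaf (21368897, 6766659)))))))
(.node 10 (.node 5 (.node 2 (.node 1 (.leaf (21368901, 13320279)) (.leaf (23334977, 4999233))) (.node 1 (.leaf (23334983, 32262221)) (.node 1 (.leaf (23531585, 32131155)) (.leaf (23531591, 7292999)))))
(.node 2 (.node 1 (.leaf (25432129, 29892673)) (.leaf (25432137, 13115471))) (.node 1 (.leaf (25440321, 13111385)) (.node 1 (.leaf (25440329, 29904967)) (.leaf (27529281, 21586001))))))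
(.node 5 (.node 2 (.node 1 (.leaf (27529291, 4808797)) (.leaf (27539521, 21573721))) (.node 1 (.leaf (27539531, 4812885)) (.node 1 (.leaf (29499457, 29579353)) (.leaf (29499469, 13310023)))))
(.node 3 (.node 1 (.leaf (29626433, 7086145)) (.node 1 (.leaf (29626445, 21325901)) (.leaf (31664193, 4681793)))) (.node 1 (.leaf (31664207, 21966943)) (.node 1 (.leaf (31723585, 7151683)) (.leaf (31723599, 23928925)))))))))

/-- The centraliser. -/
def clACent : CentData := ⟨17059905, 256, clAEl, clAIx, 84, clAOrb⟩

/-- The centraliser data. -/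
def clBEl : Tab ℕ :=
(.node 128 (.node 64 (.node 32 (.node 16 (.node 8 (.node 4 (.node 2 (.node 1 (.leaf 17043521) (.leaf 17043537)) (.node 1 (.leaf 17059905) (.leaf 17059921)))
(.node 2 (.node 1 (.leaf 17567809) (.leaf 17567825)) (.node 1 (.leaf 17584193) (.leaf 17584209))))
(.node 4 (.node 2 (.node 1 (.leaf 17043529) (.leaf 17043545)) (.node 1 (.leaf 17059913) (.leaf 17059929)))
(.node 2 (.node 1 (.leaf 17567817) (.leaf 17567833)) (.node 1 (.leaf 17584201) (.leaf 17584217)))))
(.node 8 (.node 4 (.node 2 (.node 1 (.leaf 17051713) (.leaf 17051729)) (.node 1 (.leaf 17068097) (.leaf 17068113)))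
(.node 2 (.node 1 (.leaf 17576001) (.leaf 17576017)) (.node 1 (.leaf 17592385) (.leaf 17592401))))
(.node 4 (.node 2 (.node 1 (.leaf 17051721) (.leaf 17051737)) (.node 1 (.leaf 17068105) (.leaf 17068121)))
(.node 2 (.node 1 (.leaf 17576009) (.leaf 17576025)) (.node 1 (.leaf 17592393) (.leaf 17592409))))))
(.node 16 (.node 8 (.node 4 (.node 2 (.node 1 (.leaf 17043523) (.leaf 17043539)) (.node 1 (.leaf 17059907) (.leaf 17059923)))
(.node 2 (.node 1 (.leaf 17567811) (.leaf 17567827)) (.node 1 (.leaf 17584195) (.leaf 17584211))))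
(.node 4 (.node 2 (.node 1 (.leaf 17043531) (.leaf 17043547)) (.node 1 (.leaf 17059915) (.leaf 17059931)))
(.node 2 (.node 1 (.leaf 17567819) (.leaf 17567835)) (.node 1 (.leaf 17584203) (.leaf 17584219)))))
(.node 8 (.node 4 (.node 2 (.node 1 (.leaf 17051715) (.leaf 17051731)) (.node 1 (.leaf 17068099) (.leaf 17068115)))
(.node 2 (.node 1 (.leaf 17576003) (.leaf 17576019)) (.node 1 (.leaf 17592387) (.leaf 17592403))))
(.node 4 (.node 2 (.node 1 (.leaf 17051723) (.leaf 17051739)) (.node 1 (.leaf 17068107) (.leaf 17068123)))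
(.node 2 (.node 1 (.leaf 17576011) (.leaf 17576027)) (.node 1 (.leaf 17592395) (.leaf 17592411)))))))
(.node 32 (.node 16 (.node 8 (.node 4 (.node 2 (.node 1 (.leaf 17045569) (.leaf 17045585)) (.node 1 (.leaf 17061953) (.leaf 17061969)))
(.node 2 (.node 1 (.leaf 17569857) (.leaf 17569873)) (.node 1 (.leaf 17586241) (.leaf 17586257))))
(.node 4 (.node 2 (.node 1 (.leaf 17045577) (.leaf 17045593)) (.node 1 (.leaf 17061961) (.leaf 17061977)))
(.node 2 (.node 1 (.leaf 17569865) (.leaf 17569881)) (.node 1 (.leaf 17586249) (.leaf 17586265)))))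
(.node 8 (.node 4 (.node 2 (.node 1 (.leaf 17053761) (.leaf 17053777)) (.node 1 (.leaf 17070145) (.leaf 17070161)))
(.node 2 (.node 1 (.leaf 17578049) (.leaf 17578065)) (.node 1 (.leaf 17594433) (.leaf 17594449))))
(.node 4 (.node 2 (.node 1 (.leaf 17053769) (.leaf 17053785)) (.node 1 (.leaf 17070153) (.leaf 17070169)))
(.node 2 (.node 1 (.leaf 17578057) (.leaf 17578073)) (.node 1 (.leaf 17594441) (.leaf 17594457))))))
(.node 16 (.node 8 (.node 4 (.node 2 (.node 1 (.leaf 17045571) (.leaf 17045587)) (.node 1 (.leaf 17061955) (.leaf 17061971)))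
(.node 2 (.node 1 (.leaf 17569859) (.leaf 17569875)) (.node 1 (.leaf 17586243) (.leaf 17586259))))
(.node 4 (.node 2 (.node 1 (.leaf 17045579) (.leaf 17045595)) (.node 1 (.leaf 17061963) (.leaf 17061979)))
(.node 2 (.node 1 (.leaf 17569867) (.leaf 17569883)) (.node 1 (.leaf 17586251) (.leaf 17586267)))))
(.node 8 (.node 4 (.node 2 (.node 1 (.leaf 17053763) (.leaf 17053779)) (.node 1 (.leaf 17070147) (.leaf 17070163)))
(.node 2 (.node 1 (.leaf 17578051) (.leaf 17578067)) (.node 1 (.leaf 17594435) (.leaf 17594451))))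
(.node 4 (.node 2 (.node 1 (.leaf 17053771) (.leaf 17053787)) (.node 1 (.leaf 17070155) (.leaf 17070171)))
(.node 2 (.node 1 (.leaf 17578059) (.leaf 17578075)) (.node 1 (.leaf 17594443) (.leaf 17594459))))))))
(.node 64 (.node 32 (.node 16 (.node 8 (.node 4 (.node 2 (.node 1 (.leaf 17109057) (.leaf 17109073)) (.node 1 (.leaf 17125441) (.leaf 17125457)))
(.node 2 (.node 1 (.leaf 17633345) (.leaf 17633361)) (.node 1 (.leaf 17649729) (.leaf 17649745))))
(.node 4 (.node 2 (.node 1 (.leaf 17109065) (.leaf 17109081)) (.node 1 (.leaf 17125449) (.leaf 17125465)))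
(.node 2 (.node 1 (.leaf 17633353) (.leaf 17633369)) (.node 1 (.leaf 17649737) (.leaf 17649753)))))
(.node 8 (.node 4 (.node 2 (.node 1 (.leaf 17117249) (.leaf 17117265)) (.node 1 (.leaf 17133633) (.leaf 17133649)))
(.node 2 (.node 1 (.leaf 17641537) (.leaf 17641553)) (.node 1 (.leaf 17657921) (.leaf 17657937))))
(.node 4 (.node 2 (.node 1 (.leaf 17117257) (.leaf 17117273)) (.node 1 (.leaf 17133641) (.leaf 17133657)))
(.node 2 (.node 1 (.leaf 17641545) (.leaf 17641561)) (.node 1 (.leaf 17657929) (.leaf 17657945))))))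
(.node 16 (.node 8 (.node 4 (.node 2 (.node 1 (.leaf 17109059) (.leaf 17109075)) (.node 1 (.leaf 17125443) (.leaf 17125459)))
(.node 2 (.node 1 (.leaf 17633347) (.leaf 17633363)) (.node 1 (.leaf 17649731) (.leaf 17649747))))
(.node 4 (.node 2 (.node 1 (.leaf 17109067) (.leaf 17109083)) (.node 1 (.leaf 17125451) (.leaf 17125467)))
(.node 2 (.node 1 (.leaf 17633355) (.leaf 17633371)) (.node 1 (.leaf 17649739) (.leaf 17649755)))))
(.node 8 (.node 4 (.node 2 (.node 1 (.leaf 17117251) (.leaf 17117267)) (.node 1 (.leaf 17133635) (.leaf 17133651)))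
(.node 2 (.node 1 (.leaf 17641539) (.leaf 17641555)) (.node 1 (.leaf 17657923) (.leaf 17657939))))
(.node 4 (.node 2 (.node 1 (.leaf 17117259) (.leaf 17117275)) (.node 1 (.leaf 17133643) (.leaf 17133659)))
(.node 2 (.node 1 (.leaf 17641547) (.leaf 17641563)) (.node 1 (.leaf 17657931) (.leaf 17657947)))))))
(.node 32 (.node 16 (.node 8 (.node 4 (.node 2 (.node 1 (.leaf 17111105) (.leaf 17111121)) (.node 1 (.leaf 17127489) (.leaf 17127505)))
(.node 2 (.node 1 (.leaf 17635393) (.leaf 17635409)) (.node 1 (.leaf 17651777) (.leaf 17651793))))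
(.node 4 (.node 2 (.node 1 (.leaf 17111113) (.leaf 17111129)) (.node 1 (.leaf 17127497) (.leaf 17127513)))
(.node 2 (.node 1 (.leaf 17635401) (.leaf 17635417)) (.node 1 (.leaf 17651785) (.leaf 17651801)))))
(.node 8 (.node 4 (.node 2 (.node 1 (.leaf 17119297) (.leaf 17119313)) (.node 1 (.leaf 17135681) (.leaf 17135697)))
(.node 2 (.node 1 (.leaf 17643585) (.leaf 17643601)) (.node 1 (.leaf 17659969) (.leaf 17659985))))
(.node 4 (.node 2 (.node 1 (.leaf 17119305) (.leaf 17119321)) (.node 1 (.leaf 17135689) (.leaf 17135705)))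
(.node 2 (.node 1 (.leaf 17643593) (.leaf 17643609)) (.node 1 (.leaf 17659977) (.leaf 17659993))))))
(.node 16 (.node 8 (.node 4 (.node 2 (.node 1 (.leaf 17111107) (.leaf 17111123)) (.node 1 (.leaf 17127491) (.leaf 17127507)))
(.node 2 (.node 1 (.leaf 17635395) (.leaf 17635411)) (.node 1 (.leaf 17651779) (.leaf 17651795))))
(.node 4 (.node 2 (.node 1 (.leaf 17111115) (.leaf 17111131)) (.node 1 (.leaf 17127499) (.leaf 17127515)))
(.node 2 (.node 1 (.leaf 17635403) (.leaf 17635419)) (.node 1 (.leaf 17651787) (.leaf 17651803)))))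
(.node 8 (.node 4 (.node 2 (.node 1 (.leaf 17119299) (.leaf 17119315)) (.node 1 (.leaf 17135683) (.leaf 17135699)))
(.node 2 (.node 1 (.leaf 17643587) (.leaf 17643603)) (.node 1 (.leaf 17659971) (.leaf 17659987))))
(.node 4 (.node 2 (.node 1 (.leaf 17119307) (.leaf 17119323)) (.node 1 (.leaf 17135691) (.leaf 17135707)))
(.node 2 (.node 1 (.leaf 17643595) (.leaf 17643611)) (.node 1 (.leaf 17659979) (.leaf 17659995)))))))))

/-- Its index. -/
def clBIx : BT ℕ :=
(.node 17567809 4
(.node 17109057 128
(.node 17059905 2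
(.node 17051713 16
(.node 17045569 64
(.node 17043537 1
(.node 17043529 8 (.node 17043523 32 (.node 17043521 0 .tip .tip) .tip) (.node 17043531 40 .tip .tip))
(.node 17043545 9 (.node 17043539 33 .tip .tip) (.node 17043547 41 .tip .tip)))
(.node 17045585 65
(.node 17045577 72 (.node 17045571 96 .tip .tip) (.node 17045579 104 .tip .tip))
(.node 17045593 73 (.node 17045587 97 .tip .tip) (.node 17045595 105 .tip .tip))))
(.node 17053761 80
(.node 17051729 17
(.node 17051721 24 (.node 17051715 48 .tip .tip) (.node 17051723 56 .tip .tip))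
(.node 17051737 25 (.node 17051731 49 .tip .tip) (.node 17051739 57 .tip .tip)))
(.node 17053777 81
(.node 17053769 88 (.node 17053763 112 .tip .tip) (.node 17053771 120 .tip .tip))
(.node 17053785 89 (.node 17053779 113 .tip .tip) (.node 17053787 121 .tip .tip)))))
(.node 17068097 18
(.node 17061953 66
(.node 17059921 3
(.node 17059913 10 (.node 17059907 34 .tip .tip) (.node 17059915 42 .tip .tip))
(.node 17059929 11 (.node 17059923 35 .tip .tip) (.node 17059931 43 .tip .tip)))
(.node 17061969 67
(.node 17061961 74 (.node 17061955 98 .tip .tip) (.node 17061963 106 .tip .tip))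
(.node 17061977 75 (.node 17061971 99 .tip .tip) (.node 17061979 107 .tip .tip))))
(.node 17070145 82
(.node 17068113 19
(.node 17068105 26 (.node 17068099 50 .tip .tip) (.node 17068107 58 .tip .tip))
(.node 17068121 27 (.node 17068115 51 .tip .tip) (.node 17068123 59 .tip .tip)))
(.node 17070161 83
(.node 17070153 90 (.node 17070147 114 .tip .tip) (.node 17070155 122 .tip .tip))
(.node 17070169 91 (.node 17070163 115 .tip .tip) (.node 17070171 123 .tip .tip))))))
(.node 17125441 130
(.node 17117249 144
(.node 17111105 192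
(.node 17109073 129
(.node 17109065 136 (.node 17109059 160 .tip .tip) (.node 17109067 168 .tip .tip))
(.node 17109081 137 (.node 17109075 161 .tip .tip) (.node 17109083 169 .tip .tip)))
(.node 17111121 193
(.node 17111113 200 (.node 17111107 224 .tip .tip) (.node 17111115 232 .tip .tip))
(.node 17111129 201 (.node 17111123 225 .tip .tip) (.node 17111131 233 .tip .tip))))
(.node 17119297 208
(.node 17117265 145
(.node 17117257 152 (.node 17117251 176 .tip .tip) (.node 17117259 184 .tip .tip))
(.node 17117273 153 (.node 17117267 177 .tip .tip) (.node 17117275 185 .tip .tip)))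
(.node 17119313 209
(.node 17119305 216 (.node 17119299 240 .tip .tip) (.node 17119307 248 .tip .tip))
(.node 17119321 217 (.node 17119315 241 .tip .tip) (.node 17119323 249 .tip .tip)))))
(.node 17133633 146
(.node 17127489 194
(.node 17125457 131
(.node 17125449 138 (.node 17125443 162 .tip .tip) (.node 17125451 170 .tip .tip))
(.node 17125465 139 (.node 17125459 163 .tip .tip) (.node 17125467 171 .tip .tip)))
(.node 17127505 195
(.node 17127497 202 (.node 17127491 226 .tip .tip) (.node 17127499 234 .tip .tip))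
(.node 17127513 203 (.node 17127507 227 .tip .tip) (.node 17127515 235 .tip .tip))))
(.node 17135681 210
(.node 17133649 147
(.node 17133641 154 (.node 17133635 178 .tip .tip) (.node 17133643 186 .tip .tip))
(.node 17133657 155 (.node 17133651 179 .tip .tip) (.node 17133659 187 .tip .tip)))
(.node 17135697 211
(.node 17135689 218 (.node 17135683 242 .tip .tip) (.node 17135691 250 .tip .tip))
(.node 17135705 219 (.node 17135699 243 .tip .tip) (.node 17135707 251 .tip .tip)))))))
(.node 17633345 132
(.node 17584193 6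
(.node 17576001 20
(.node 17569857 68
(.node 17567825 5
(.node 17567817 12 (.node 17567811 36 .tip .tip) (.node 17567819 44 .tip .tip))
(.node 17567833 13 (.node 17567827 37 .tip .tip) (.node 17567835 45 .tip .tip)))
(.node 17569873 69
(.node 17569865 76 (.node 17569859 100 .tip .tip) (.node 17569867 108 .tip .tip))
(.node 17569881 77 (.node 17569875 101 .tip .tip) (.node 17569883 109 .tip .tip))))
(.node 17578049 84
(.node 17576017 21
(.node 17576009 28 (.node 17576003 52 .tip .tip) (.node 17576011 60 .tip .tip))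
(.node 17576025 29 (.node 17576019 53 .tip .tip) (.node 17576027 61 .tip .tip)))
(.node 17578065 85
(.node 17578057 92 (.node 17578051 116 .tip .tip) (.node 17578059 124 .tip .tip))
(.node 17578073 93 (.node 17578067 117 .tip .tip) (.node 17578075 125 .tip .tip)))))
(.node 17592385 22
(.node 17586241 70
(.node 17584209 7
(.node 17584201 14 (.node 17584195 38 .tip .tip) (.node 17584203 46 .tip .tip))
(.node 17584217 15 (.node 17584211 39 .tip .tip) (.node 17584219 47 .tip .tip)))
(.node 17586257 71
(.node 17586249 78 (.node 17586243 102 .tip .tip) (.node 17586251 110 .tip .tip))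
(.node 17586265 79 (.node 17586259 103 .tip .tip) (.node 17586267 111 .tip .tip))))
(.node 17594433 86
(.node 17592401 23
(.node 17592393 30 (.node 17592387 54 .tip .tip) (.node 17592395 62 .tip .tip))
(.node 17592409 31 (.node 17592403 55 .tip .tip) (.node 17592411 63 .tip .tip)))
(.node 17594449 87
(.node 17594441 94 (.node 17594435 118 .tip .tip) (.node 17594443 126 .tip .tip))
(.node 17594457 95 (.node 17594451 119 .tip .tip) (.node 17594459 127 .tip .tip))))))
(.node 17649729 134
(.node 17641537 148
(.node 17635393 196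
(.node 17633361 133
(.node 17633353 140 (.node 17633347 164 .tip .tip) (.node 17633355 172 .tip .tip))
(.node 17633369 141 (.node 17633363 165 .tip .tip) (.node 17633371 173 .tip .tip)))
(.node 17635409 197
(.node 17635401 204 (.node 17635395 228 .tip .tip) (.node 17635403 236 .tip .tip))
(.node 17635417 205 (.node 17635411 229 .tip .tip) (.node 17635419 237 .tip .tip))))
(.node 17643585 212
(.node 17641553 149
(.node 17641545 156 (.node 17641539 180 .tip .tip) (.node 17641547 188 .tip .tip))
(.node 17641561 157 (.node 17641555 181 .tip .tip) (.node 17641563 189 .tip .tip)))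
(.node 17643601 213
(.node 17643593 220 (.node 17643587 244 .tip .tip) (.node 17643595 252 .tip .tip))
(.node 17643609 221 (.node 17643603 245 .tip .tip) (.node 17643611 253 .tip .tip)))))
(.node 17657921 150
(.node 17651777 198
(.node 17649745 135
(.node 17649737 142 (.node 17649731 166 .tip .tip) (.node 17649739 174 .tip .tip))
(.node 17649753 143 (.node 17649747 167 .tip .tip) (.node 17649755 175 .tip .tip)))
(.node 17651793 199
(.node 17651785 206 (.node 17651779 230 .tip .tip) (.node 17651787 238 .tip .tip))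
(.node 17651801 207 (.node 17651795 231 .tip .tip) (.node 17651803 239 .tip .tip))))
(.node 17659969 214
(.node 17657937 151
(.node 17657929 158 (.node 17657923 182 .tip .tip) (.node 17657931 190 .tip .tip))
(.node 17657945 159 (.node 17657939 183 .tip .tip) (.node 17657947 191 .tip .tip)))
(.node 17659985 215
(.node 17659977 222 (.node 17659971 246 .tip .tip) (.node 17659979 254 .tip .tip))
(.node 17659993 223 (.node 17659987 247 .tip .tip) (.node 17659995 255 .tip .tip))))))))

/-- The orbit. -/
def clBOrb : Tab (ℕ × ℕ) :=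
(.node 42 (.node 21 (.node 10 (.node 5 (.node 2 (.node 1 (.leaf (4472899, 7100491)) (.leaf (4472919, 7100503))) (.node 1 (.leaf (5128259, 5132363)) (.node 1 (.leaf (5128279, 14841925)) (.leaf (6572099, 4544593)))))
(.node 2 (.node 1 (.leaf (6572117, 21305439)) (.leaf (7292995, 32125001))) (.node 1 (.leaf (7293013, 14839879)) (.node 1 (.leaf (8917059, 29763651)) (.leaf (8917083, 13510735))))))
(.node 5 (.node 2 (.node 1 (.leaf (8941635, 13506641)) (.leaf (8941659, 29775943))) (.node 1 (.leaf (11079747, 29845593)) (.node 1 (.leaf (11079769, 23208007)) (.leaf (11106371, 21182537)))))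
(.node 3 (.node 1 (.leaf (11106393, 4946007)) (.node 1 (.leaf (12869699, 12933185)) (.leaf (12869727, 6584399)))) (.node 1 (.leaf (13242435, 13314137)) (.node 1 (.leaf (13242463, 13314133)) (.leaf (14968899, 23951441)))))))
(.node 10 (.node 5 (.node 2 (.node 1 (.leaf (14968925, 23951437)) (.leaf (15405123, 6776923))) (.node 1 (.leaf (15405149, 24078421)) (.node 1 (.leaf (16916547, 25385043)) (.leaf (16916559, 25892943)))))
(.node 2 (.node 1 (.leaf (16984131, 9384027)) (.leaf (16984141, 10702935))) (.node 1 (.leaf (17051715, 25720921)) (.node 1 (.leaf (17051723, 25704519)) (.leaf (17053763, 27881563))))))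
(.node 5 (.node 2 (.node 1 (.leaf (17053769, 9007175)) (.leaf (17059907, 17043521))) (.node 1 (.leaf (17059923, 17059919)) (.node 1 (.leaf (17061955, 19740753)) (.leaf (17061969, 19683399)))))
(.node 3 (.node 1 (.leaf (17068099, 9197659)) (.node 1 (.leaf (17068123, 9189447)) (.leaf (17070147, 27545673)))) (.node 1 (.leaf (17070169, 27529303)) (.node 1 (.leaf (17174595, 11485273)) (.leaf (17174599, 10960991))))))))
(.node 21 (.node 10 (.node 5 (.node 2 (.node 1 (.leaf (17240131, 27674691)) (.leaf (17240133, 25315397))) (.node 1 (.leaf (17457219, 9056345)) (.node 1 (.leaf (17457247, 27662407)) (.leaf (17524803, 9312321)))))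
(.node 2 (.node 1 (.leaf (17524829, 28014669)) (.leaf (17567811, 17180745))) (.node 1 (.leaf (17567827, 17262685)) (.node 1 (.leaf (17584195, 17698891)) (.leaf (17584211, 17715285))))))
(.node 5 (.node 2 (.node 1 (.leaf (17633347, 19802187)) (.leaf (17633361, 19802199))) (.node 1 (.leaf (17651779, 19626057)) (.node 1 (.leaf (17651793, 19085399)) (.leaf (17698883, 10971209)))))
(.node 3 (.node 1 (.leaf (17698903, 11495495)) (.node 1 (.leaf (17764419, 27402313)) (.leaf (17764437, 27664479)))) (.node 1 (.leaf (21237827, 31801425)) (.node 1 (.leaf (21237831, 15024223)) (.leaf (21368899, 6766659)))))))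
(.node 10 (.node 5 (.node 2 (.node 1 (.leaf (21368903, 13320279)) (.leaf (23334979, 4999233))) (.node 1 (.leaf (23334981, 32262221)) (.node 1 (.leaf (23531587, 32131155)) (.leaf (23531589, 7292999)))))
(.node 2 (.node 1 (.leaf (25432131, 29892673)) (.leaf (25432139, 13115471))) (.node 1 (.leaf (25440323, 13111385)) (.node 1 (.leaf (25440331, 29904967)) (.leaf (27529283, 21586001))))))
(.node 5 (.node 2 (.node 1 (.leaf (27529289, 4808797)) (.leaf (27539523, 21573721))) (.node 1 (.leaf (27539529, 4812885)) (.node 1 (.leaf (29499459, 29579353)) (.leaf (29499471, 13310023)))))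
(.node 3 (.node 1 (.leaf (29626435, 7086145)) (.node 1 (.leaf (29626447, 21325901)) (.leaf (31664195, 4681793)))) (.node 1 (.leaf (31664205, 21966943)) (.node 1 (.leaf (31723587, 7151683)) (.leaf (31723597, 23928925)))))))))

/-- The centraliser. -/
def clBCent : CentData := ⟨17059907, 256, clBEl, clBIx, 84, clBOrb⟩

/-- The centraliser data. -/
def clCEl : Tab ℕ :=
(.node 64 (.node 32 (.node 16 (.node 8 (.node 4 (.node 2 (.node 1 (.leaf 17043521) (.leaf 17043537)) (.node 1 (.leaf 17059905) (.leaf 17059921)))
(.node 2 (.node 1 (.leaf 17043529) (.leaf 17043545)) (.node 1 (.leaf 17059913) (.leaf 17059929))))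
(.node 4 (.node 2 (.node 1 (.leaf 17051713) (.leaf 17051729)) (.node 1 (.leaf 17068097) (.leaf 17068113)))
(.node 2 (.node 1 (.leaf 17051721) (.leaf 17051737)) (.node 1 (.leaf 17068105) (.leaf 17068121)))))
(.node 8 (.node 4 (.node 2 (.node 1 (.leaf 17567813) (.leaf 17567829)) (.node 1 (.leaf 17584197) (.leaf 17584213)))
(.node 2 (.node 1 (.leaf 17567821) (.leaf 17567837)) (.node 1 (.leaf 17584205) (.leaf 17584221))))
(.node 4 (.node 2 (.node 1 (.leaf 17576005) (.leaf 17576021)) (.node 1 (.leaf 17592389) (.leaf 17592405)))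
(.node 2 (.node 1 (.leaf 17576013) (.leaf 17576029)) (.node 1 (.leaf 17592397) (.leaf 17592413))))))
(.node 16 (.node 8 (.node 4 (.node 2 (.node 1 (.leaf 17043523) (.leaf 17043539)) (.node 1 (.leaf 17059907) (.leaf 17059923)))
(.node 2 (.node 1 (.leaf 17043531) (.leaf 17043547)) (.node 1 (.leaf 17059915) (.leaf 17059931))))
(.node 4 (.node 2 (.node 1 (.leaf 17051715) (.leaf 17051731)) (.node 1 (.leaf 17068099) (.leaf 17068115)))
(.node 2 (.node 1 (.leaf 17051723) (.leaf 17051739)) (.node 1 (.leaf 17068107) (.leaf 17068123)))))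
(.node 8 (.node 4 (.node 2 (.node 1 (.leaf 17567815) (.leaf 17567831)) (.node 1 (.leaf 17584199) (.leaf 17584215)))
(.node 2 (.node 1 (.leaf 17567823) (.leaf 17567839)) (.node 1 (.leaf 17584207) (.leaf 17584223))))
(.node 4 (.node 2 (.node 1 (.leaf 17576007) (.leaf 17576023)) (.node 1 (.leaf 17592391) (.leaf 17592407)))
(.node 2 (.node 1 (.leaf 17576015) (.leaf 17576031)) (.node 1 (.leaf 17592399) (.leaf 17592415)))))))
(.node 32 (.node 16 (.node 8 (.node 4 (.node 2 (.node 1 (.leaf 17045569) (.leaf 17045585)) (.node 1 (.leaf 17061953) (.leaf 17061969)))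
(.node 2 (.node 1 (.leaf 17045577) (.leaf 17045593)) (.node 1 (.leaf 17061961) (.leaf 17061977))))
(.node 4 (.node 2 (.node 1 (.leaf 17053761) (.leaf 17053777)) (.node 1 (.leaf 17070145) (.leaf 17070161)))
(.node 2 (.node 1 (.leaf 17053769) (.leaf 17053785)) (.node 1 (.leaf 17070153) (.leaf 17070169)))))
(.node 8 (.node 4 (.node 2 (.node 1 (.leaf 17569861) (.leaf 17569877)) (.node 1 (.leaf 17586245) (.leaf 17586261)))
(.node 2 (.node 1 (.leaf 17569869) (.leaf 17569885)) (.node 1 (.leaf 17586253) (.leaf 17586269))))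
(.node 4 (.node 2 (.node 1 (.leaf 17578053) (.leaf 17578069)) (.node 1 (.leaf 17594437) (.leaf 17594453)))
(.node 2 (.node 1 (.leaf 17578061) (.leaf 17578077)) (.node 1 (.leaf 17594445) (.leaf 17594461))))))
(.node 16 (.node 8 (.node 4 (.node 2 (.node 1 (.leaf 17045571) (.leaf 17045587)) (.node 1 (.leaf 17061955) (.leaf 17061971)))
(.node 2 (.node 1 (.leaf 17045579) (.leaf 17045595)) (.node 1 (.leaf 17061963) (.leaf 17061979))))
(.node 4 (.node 2 (.node 1 (.leaf 17053763) (.leaf 17053779)) (.node 1 (.leaf 17070147) (.leaf 17070163)))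
(.node 2 (.node 1 (.leaf 17053771) (.leaf 17053787)) (.node 1 (.leaf 17070155) (.leaf 17070171)))))
(.node 8 (.node 4 (.node 2 (.node 1 (.leaf 17569863) (.leaf 17569879)) (.node 1 (.leaf 17586247) (.leaf 17586263)))
(.node 2 (.node 1 (.leaf 17569871) (.leaf 17569887)) (.node 1 (.leaf 17586255) (.leaf 17586271))))
(.node 4 (.node 2 (.node 1 (.leaf 17578055) (.leaf 17578071)) (.node 1 (.leaf 17594439) (.leaf 17594455)))
(.node 2 (.node 1 (.leaf 17578063) (.leaf 17578079)) (.node 1 (.leaf 17594447) (.leaf 17594463))))))))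

/-- Its index. -/
def clCIx : BT ℕ :=
(.node 17567813 16
(.node 17059905 2
(.node 17051713 8
(.node 17045569 64
(.node 17043537 1
(.node 17043529 4 (.node 17043523 32 (.node 17043521 0 .tip .tip) .tip) (.node 17043531 36 .tip .tip))
(.node 17043545 5 (.node 17043539 33 .tip .tip) (.node 17043547 37 .tip .tip)))
(.node 17045585 65
(.node 17045577 68 (.node 17045571 96 .tip .tip) (.node 17045579 100 .tip .tip))
(.node 17045593 69 (.node 17045587 97 .tip .tip) (.node 17045595 101 .tip .tip))))
(.node 17053761 72
(.node 17051729 9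
(.node 17051721 12 (.node 17051715 40 .tip .tip) (.node 17051723 44 .tip .tip))
(.node 17051737 13 (.node 17051731 41 .tip .tip) (.node 17051739 45 .tip .tip)))
(.node 17053777 73
(.node 17053769 76 (.node 17053763 104 .tip .tip) (.node 17053771 108 .tip .tip))
(.node 17053785 77 (.node 17053779 105 .tip .tip) (.node 17053787 109 .tip .tip)))))
(.node 17068097 10
(.node 17061953 66
(.node 17059921 3
(.node 17059913 6 (.node 17059907 34 .tip .tip) (.node 17059915 38 .tip .tip))
(.node 17059929 7 (.node 17059923 35 .tip .tip) (.node 17059931 39 .tip .tip)))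
(.node 17061969 67
(.node 17061961 70 (.node 17061955 98 .tip .tip) (.node 17061963 102 .tip .tip))
(.node 17061977 71 (.node 17061971 99 .tip .tip) (.node 17061979 103 .tip .tip))))
(.node 17070145 74
(.node 17068113 11
(.node 17068105 14 (.node 17068099 42 .tip .tip) (.node 17068107 46 .tip .tip))
(.node 17068121 15 (.node 17068115 43 .tip .tip) (.node 17068123 47 .tip .tip)))
(.node 17070161 75
(.node 17070153 78 (.node 17070147 106 .tip .tip) (.node 17070155 110 .tip .tip))
(.node 17070169 79 (.node 17070163 107 .tip .tip) (.node 17070171 111 .tip .tip))))))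
(.node 17584197 18
(.node 17576005 24
(.node 17569861 80
(.node 17567829 17
(.node 17567821 20 (.node 17567815 48 .tip .tip) (.node 17567823 52 .tip .tip))
(.node 17567837 21 (.node 17567831 49 .tip .tip) (.node 17567839 53 .tip .tip)))
(.node 17569877 81
(.node 17569869 84 (.node 17569863 112 .tip .tip) (.node 17569871 116 .tip .tip))
(.node 17569885 85 (.node 17569879 113 .tip .tip) (.node 17569887 117 .tip .tip))))
(.node 17578053 88
(.node 17576021 25
(.node 17576013 28 (.node 17576007 56 .tip .tip) (.node 17576015 60 .tip .tip))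
(.node 17576029 29 (.node 17576023 57 .tip .tip) (.node 17576031 61 .tip .tip)))
(.node 17578069 89
(.node 17578061 92 (.node 17578055 120 .tip .tip) (.node 17578063 124 .tip .tip))
(.node 17578077 93 (.node 17578071 121 .tip .tip) (.node 17578079 125 .tip .tip)))))
(.node 17592389 26
(.node 17586245 82
(.node 17584213 19
(.node 17584205 22 (.node 17584199 50 .tip .tip) (.node 17584207 54 .tip .tip))
(.node 17584221 23 (.node 17584215 51 .tip .tip) (.node 17584223 55 .tip .tip)))
(.node 17586261 83
(.node 17586253 86 (.node 17586247 114 .tip .tip) (.node 17586255 118 .tip .tip))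
(.node 17586269 87 (.node 17586263 115 .tip .tip) (.node 17586271 119 .tip .tip))))
(.node 17594437 90
(.node 17592405 27
(.node 17592397 30 (.node 17592391 58 .tip .tip) (.node 17592399 62 .tip .tip))
(.node 17592413 31 (.node 17592407 59 .tip .tip) (.node 17592415 63 .tip .tip)))
(.node 17594453 91
(.node 17594445 94 (.node 17594439 122 .tip .tip) (.node 17594447 126 .tip .tip))
(.node 17594461 95 (.node 17594455 123 .tip .tip) (.node 17594463 127 .tip .tip)))))))

/-- The orbit. -/
def clCOrb : Tab (ℕ × ℕ) :=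
(.node 84 (.node 42 (.node 21 (.node 10 (.node 5 (.node 2 (.node 1 (.leaf (4472905, 7100503)) (.leaf (4472907, 12939337))) (.node 1 (.leaf (4472925, 7100491)) (.node 1 (.leaf (4472927, 15562827)) (.leaf (5128269, 5132363)))))
(.node 2 (.node 1 (.leaf (5128271, 14841925)) (.leaf (5128281, 5132373))) (.node 1 (.leaf (5128283, 31602783)) (.node 1 (.leaf (6572105, 5003333)) (.leaf (6572107, 4544593))))))
(.node 5 (.node 2 (.node 1 (.leaf (6572125, 21305439)) (.leaf (6572127, 5003355))) (.node 1 (.leaf (7293005, 14839879)) (.node 1 (.leaf (7293007, 7295049)) (.leaf (7293017, 31666271)))))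
(.node 3 (.node 1 (.leaf (7293019, 32125001)) (.node 1 (.leaf (8917061, 21127237)) (.leaf (8917063, 29763651)))) (.node 1 (.leaf (8917085, 21127233)) (.node 1 (.leaf (8917087, 13510735)) (.leaf (8941645, 23279689)))))))
(.node 10 (.node 5 (.node 2 (.node 1 (.leaf (8941647, 29775943)) (.leaf (8941653, 4862041))) (.node 1 (.leaf (8941655, 13506641)) (.node 1 (.leaf (11079749, 6955083)) (.leaf (11079751, 13592663)))))
(.node 2 (.node 1 (.leaf (11079773, 29845593)) (.leaf (11079775, 23208007))) (.node 1 (.leaf (11106381, 21182537)) (.node 1 (.leaf (11106383, 6977601)) (.leaf (11106389, 23230531))))))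
(.node 5 (.node 2 (.node 1 (.leaf (11106391, 4946007)) (.leaf (12869705, 32266333))) (.node 1 (.leaf (12869707, 12933185)) (.node 1 (.leaf (12869717, 6584399)) (.leaf (12869719, 13441097)))))
(.node 3 (.node 1 (.leaf (13242437, 29499473)) (.node 1 (.leaf (13242439, 13314137)) (.leaf (13242457, 29499485)))) (.node 1 (.leaf (13242459, 13314133)) (.node 1 (.leaf (14968905, 14962763)) (.leaf (14968907, 23951437))))))))
(.node 21 (.node 10 (.node 5 (.node 2 (.node 1 (.leaf (14968917, 23951441)) (.leaf (14968919, 31723607))) (.node 1 (.leaf (15405125, 21979215)) (.node 1 (.leaf (15405127, 24078421)) (.leaf (15405145, 6776923)))))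
(.node 2 (.node 1 (.leaf (15405147, 21979203)) (.leaf (16916561, 25892943))) (.node 1 (.leaf (16916563, 27684943)) (.node 1 (.leaf (16916573, 25385043)) (.leaf (16916575, 27684947))))))
(.node 5 (.node 2 (.node 1 (.leaf (16984145, 9384027)) (.leaf (16984147, 11210825))) (.node 1 (.leaf (16984157, 10702935)) (.node 1 (.leaf (16984159, 26161219)) (.leaf (17051729, 25704519)))))
(.node 3 (.node 1 (.leaf (17051731, 11024467)) (.node 1 (.leaf (17051737, 25720921)) (.leaf (17051739, 11024463)))) (.node 1 (.leaf (17053777, 8992835)) (.node 1 (.leaf (17053779, 27865173)) (.leaf (17053785, 27881563)))))))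
(.node 10 (.node 5 (.node 2 (.node 1 (.leaf (17053787, 9007175)) (.leaf (17059913, 17043521))) (.node 1 (.leaf (17059915, 17659973)) (.node 1 (.leaf (17059929, 17059919)) (.leaf (17059931, 17657923)))))
(.node 2 (.node 1 (.leaf (17061961, 19683399)) (.leaf (17061963, 19230803))) (.node 1 (.leaf (17061977, 19740753)) (.node 1 (.leaf (17061979, 19150917)) (.leaf (17068105, 9189447))))))
(.node 5 (.node 2 (.node 1 (.leaf (17068107, 27613251)) (.leaf (17068113, 9197659))) (.node 1 (.leaf (17068115, 27619423)) (.node 1 (.leaf (17070153, 27545673)) (.leaf (17070155, 9244765)))))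
(.node 3 (.node 1 (.leaf (17070161, 9261123)) (.node 1 (.leaf (17070163, 27529303)) (.leaf (17174609, 26099783)))) (.node 1 (.leaf (17174611, 11485273)) (.node 1 (.leaf (17174613, 8601695)) (.leaf (17174615, 10960991)))))))))
(.node 42 (.node 21 (.node 10 (.node 5 (.node 2 (.node 1 (.leaf (17240145, 25315397)) (.leaf (17240147, 27936863))) (.node 1 (.leaf (17240149, 27674691)) (.node 1 (.leaf (17240151, 9062493)) (.leaf (17457229, 25376843)))))
(.node 2 (.node 1 (.leaf (17457231, 28203083)) (.leaf (17457233, 9056345))) (.node 1 (.leaf (17457235, 27662407)) (.node 1 (.leaf (17524813, 11153479)) (.leaf (17524815, 26169427))))))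
(.node 5 (.node 2 (.node 1 (.leaf (17524817, 9312321)) (.leaf (17524819, 28014669))) (.node 1 (.leaf (17567813, 16916571)) (.node 1 (.leaf (17567815, 17180745)) (.leaf (17567829, 16998483)))))
(.node 3 (.node 1 (.leaf (17567831, 17705031)) (.node 1 (.leaf (17584205, 17190983)) (.leaf (17584207, 16939085)))) (.node 1 (.leaf (17584221, 17715285)) (.node 1 (.leaf (17584223, 17176669)) (.leaf (17633349, 19030093)))))))
(.node 10 (.node 5 (.node 2 (.node 1 (.leaf (17633351, 19802187)) (.leaf (17633365, 19802199))) (.node 1 (.leaf (17633367, 19816515)) (.node 1 (.leaf (17651789, 19626057)) (.leaf (17651791, 19099741)))))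
(.node 2 (.node 1 (.leaf (17651805, 19099715)) (.leaf (17651807, 19085399))) (.node 1 (.leaf (17698885, 26091601)) (.node 1 (.leaf (17698887, 11495495)) (.leaf (17698897, 25567327))))))
(.node 5 (.node 2 (.node 1 (.leaf (17698899, 10971209)) (.leaf (17764421, 27402313))) (.node 1 (.leaf (17764423, 25897035)) (.node 1 (.leaf (17764433, 8874057)) (.leaf (17764435, 10641483)))))
(.node 3 (.node 1 (.leaf (21237833, 7094343)) (.node 1 (.leaf (21237835, 31801425)) (.leaf (21237837, 13385819)))) (.node 1 (.leaf (21237839, 15024223)) (.node 1 (.leaf (21368921, 6766659)) (.leaf (21368923, 13320279))))))))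
(.node 21 (.node 10 (.node 5 (.node 2 (.node 1 (.leaf (21368925, 6766663)) (.leaf (21368927, 29573193))) (.node 1 (.leaf (23334985, 32262221)) (.node 1 (.leaf (23334987, 4540491)) (.leaf (23334989, 4540495)))))
(.node 2 (.node 1 (.leaf (23334991, 4999233)) (.leaf (23531609, 7292999))) (.node 1 (.leaf (23531611, 32131155)) (.node 1 (.leaf (23531613, 14829647)) (.leaf (23531615, 23545945))))))
(.node 5 (.node 2 (.node 1 (.leaf (25432133, 29892673)) (.leaf (25432135, 13117507))) (.node 1 (.leaf (25432141, 13115471)) (.node 1 (.leaf (25432143, 15231051)) (.leaf (25440341, 13111385)))))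
(.node 3 (.node 1 (.leaf (25440343, 15224909)) (.node 1 (.leaf (25440349, 29904967)) (.leaf (25440351, 31985747)))) (.node 1 (.leaf (27529285, 4808797)) (.node 1 (.leaf (27529287, 21571675)) (.leaf (27529293, 15280215)))))))
(.node 10 (.node 5 (.node 2 (.node 1 (.leaf (27529295, 21586001)) (.leaf (27539541, 4812885))) (.node 1 (.leaf (27539543, 15290463)) (.node 1 (.leaf (27539549, 15290435)) (.leaf (27539551, 21573721)))))
(.node 2 (.node 1 (.leaf (29499477, 32184397)) (.leaf (29499479, 29579353))) (.node 1 (.leaf (29499481, 14899283)) (.node 1 (.leaf (29499483, 13310023)) (.leaf (29626437, 7086145))))))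
(.node 5 (.node 2 (.node 1 (.leaf (29626439, 21325901)) (.leaf (29626441, 30154831))) (.node 1 (.leaf (29626443, 4548683)) (.node 1 (.leaf (31664213, 21966943)) (.leaf (31664215, 6778957)))))
(.node 3 (.node 1 (.leaf (31664217, 21395527)) (.node 1 (.leaf (31664219, 4681793)) (.leaf (31723589, 7151683)))) (.node 1 (.leaf (31723591, 29648983)) (.node 1 (.leaf (31723593, 15476821)) (.leaf (31723595, 23928925))))))))))

/-- The centraliser. -/
def clCCent : CentData := ⟨17059913, 128, clCEl, clCIx, 168, clCOrb⟩

/-- The centraliser data. -/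
def clDEl : Tab ℕ :=
(.node 64 (.node 32 (.node 16 (.node 8 (.node 4 (.node 2 (.node 1 (.leaf 17043521) (.leaf 17043537)) (.node 1 (.leaf 17059905) (.leaf 17059921)))
(.node 2 (.node 1 (.leaf 17567809) (.leaf 17567825)) (.node 1 (.leaf 17584193) (.leaf 17584209))))
(.node 4 (.node 2 (.node 1 (.leaf 17043523) (.leaf 17043539)) (.node 1 (.leaf 17059907) (.leaf 17059923)))
(.node 2 (.node 1 (.leaf 17567811) (.leaf 17567827)) (.node 1 (.leaf 17584195) (.leaf 17584211)))))
(.node 8 (.node 4 (.node 2 (.node 1 (.leaf 17045569) (.leaf 17045585)) (.node 1 (.leaf 17061953) (.leaf 17061969)))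
(.node 2 (.node 1 (.leaf 17569857) (.leaf 17569873)) (.node 1 (.leaf 17586241) (.leaf 17586257))))
(.node 4 (.node 2 (.node 1 (.leaf 17045571) (.leaf 17045587)) (.node 1 (.leaf 17061955) (.leaf 17061971)))
(.node 2 (.node 1 (.leaf 17569859) (.leaf 17569875)) (.node 1 (.leaf 17586243) (.leaf 17586259))))))
(.node 16 (.node 8 (.node 4 (.node 2 (.node 1 (.leaf 17109057) (.leaf 17109073)) (.node 1 (.leaf 17125441) (.leaf 17125457)))
(.node 2 (.node 1 (.leaf 17633345) (.leaf 17633361)) (.node 1 (.leaf 17649729) (.leaf 17649745))))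
(.node 4 (.node 2 (.node 1 (.leaf 17109059) (.leaf 17109075)) (.node 1 (.leaf 17125443) (.leaf 17125459)))
(.node 2 (.node 1 (.leaf 17633347) (.leaf 17633363)) (.node 1 (.leaf 17649731) (.leaf 17649747)))))
(.node 8 (.node 4 (.node 2 (.node 1 (.leaf 17111105) (.leaf 17111121)) (.node 1 (.leaf 17127489) (.leaf 17127505)))
(.node 2 (.node 1 (.leaf 17635393) (.leaf 17635409)) (.node 1 (.leaf 17651777) (.leaf 17651793))))
(.node 4 (.node 2 (.node 1 (.leaf 17111107) (.leaf 17111123)) (.node 1 (.leaf 17127491) (.leaf 17127507)))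
(.node 2 (.node 1 (.leaf 17635395) (.leaf 17635411)) (.node 1 (.leaf 17651779) (.leaf 17651795)))))))
(.node 32 (.node 16 (.node 8 (.node 4 (.node 2 (.node 1 (.leaf 19271745) (.leaf 19271761)) (.node 1 (.leaf 19288129) (.leaf 19288145)))
(.node 2 (.node 1 (.leaf 19796033) (.leaf 19796049)) (.node 1 (.leaf 19812417) (.leaf 19812433))))
(.node 4 (.node 2 (.node 1 (.leaf 19271747) (.leaf 19271763)) (.node 1 (.leaf 19288131) (.leaf 19288147)))
(.node 2 (.node 1 (.leaf 19796035) (.leaf 19796051)) (.node 1 (.leaf 19812419) (.leaf 19812435)))))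
(.node 8 (.node 4 (.node 2 (.node 1 (.leaf 19273793) (.leaf 19273809)) (.node 1 (.leaf 19290177) (.leaf 19290193)))
(.node 2 (.node 1 (.leaf 19798081) (.leaf 19798097)) (.node 1 (.leaf 19814465) (.leaf 19814481))))
(.node 4 (.node 2 (.node 1 (.leaf 19273795) (.leaf 19273811)) (.node 1 (.leaf 19290179) (.leaf 19290195)))
(.node 2 (.node 1 (.leaf 19798083) (.leaf 19798099)) (.node 1 (.leaf 19814467) (.leaf 19814483))))))
(.node 16 (.node 8 (.node 4 (.node 2 (.node 1 (.leaf 19337281) (.leaf 19337297)) (.node 1 (.leaf 19353665) (.leaf 19353681)))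
(.node 2 (.node 1 (.leaf 19861569) (.leaf 19861585)) (.node 1 (.leaf 19877953) (.leaf 19877969))))
(.node 4 (.node 2 (.node 1 (.leaf 19337283) (.leaf 19337299)) (.node 1 (.leaf 19353667) (.leaf 19353683)))
(.node 2 (.node 1 (.leaf 19861571) (.leaf 19861587)) (.node 1 (.leaf 19877955) (.leaf 19877971)))))
(.node 8 (.node 4 (.node 2 (.node 1 (.leaf 19339329) (.leaf 19339345)) (.node 1 (.leaf 19355713) (.leaf 19355729)))
(.node 2 (.node 1 (.leaf 19863617) (.leaf 19863633)) (.node 1 (.leaf 19880001) (.leaf 19880017))))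
(.node 4 (.node 2 (.node 1 (.leaf 19339331) (.leaf 19339347)) (.node 1 (.leaf 19355715) (.leaf 19355731)))
(.node 2 (.node 1 (.leaf 19863619) (.leaf 19863635)) (.node 1 (.leaf 19880003) (.leaf 19880019))))))))

/-- Its index. -/
def clDIx : BT ℕ :=
(.node 19271745 64
(.node 17567809 4
(.node 17109057 32
(.node 17059905 2
(.node 17045569 16
(.node 17043537 1 (.node 17043523 8 (.node 17043521 0 .tip .tip) .tip) (.node 17043539 9 .tip .tip))
(.node 17045585 17 (.node 17045571 24 .tip .tip) (.node 17045587 25 .tip .tip)))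
(.node 17061953 18
(.node 17059921 3 (.node 17059907 10 .tip .tip) (.node 17059923 11 .tip .tip))
(.node 17061969 19 (.node 17061955 26 .tip .tip) (.node 17061971 27 .tip .tip))))
(.node 17125441 34
(.node 17111105 48
(.node 17109073 33 (.node 17109059 40 .tip .tip) (.node 17109075 41 .tip .tip))
(.node 17111121 49 (.node 17111107 56 .tip .tip) (.node 17111123 57 .tip .tip)))
(.node 17127489 50
(.node 17125457 35 (.node 17125443 42 .tip .tip) (.node 17125459 43 .tip .tip))
(.node 17127505 51 (.node 17127491 58 .tip .tip) (.node 17127507 59 .tip .tip)))))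
(.node 17633345 36
(.node 17584193 6
(.node 17569857 20
(.node 17567825 5 (.node 17567811 12 .tip .tip) (.node 17567827 13 .tip .tip))
(.node 17569873 21 (.node 17569859 28 .tip .tip) (.node 17569875 29 .tip .tip)))
(.node 17586241 22
(.node 17584209 7 (.node 17584195 14 .tip .tip) (.node 17584211 15 .tip .tip))
(.node 17586257 23 (.node 17586243 30 .tip .tip) (.node 17586259 31 .tip .tip))))
(.node 17649729 38
(.node 17635393 52
(.node 17633361 37 (.node 17633347 44 .tip .tip) (.node 17633363 45 .tip .tip))
(.node 17635409 53 (.node 17635395 60 .tip .tip) (.node 17635411 61 .tip .tip)))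
(.node 17651777 54
(.node 17649745 39 (.node 17649731 46 .tip .tip) (.node 17649747 47 .tip .tip))
(.node 17651793 55 (.node 17651779 62 .tip .tip) (.node 17651795 63 .tip .tip))))))
(.node 19796033 68
(.node 19337281 96
(.node 19288129 66
(.node 19273793 80
(.node 19271761 65 (.node 19271747 72 .tip .tip) (.node 19271763 73 .tip .tip))
(.node 19273809 81 (.node 19273795 88 .tip .tip) (.node 19273811 89 .tip .tip)))
(.node 19290177 82
(.node 19288145 67 (.node 19288131 74 .tip .tip) (.node 19288147 75 .tip .tip))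
(.node 19290193 83 (.node 19290179 90 .tip .tip) (.node 19290195 91 .tip .tip))))
(.node 19353665 98
(.node 19339329 112
(.node 19337297 97 (.node 19337283 104 .tip .tip) (.node 19337299 105 .tip .tip))
(.node 19339345 113 (.node 19339331 120 .tip .tip) (.node 19339347 121 .tip .tip)))
(.node 19355713 114
(.node 19353681 99 (.node 19353667 106 .tip .tip) (.node 19353683 107 .tip .tip))
(.node 19355729 115 (.node 19355715 122 .tip .tip) (.node 19355731 123 .tip .tip)))))
(.node 19861569 100
(.node 19812417 70
(.node 19798081 84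
(.node 19796049 69 (.node 19796035 76 .tip .tip) (.node 19796051 77 .tip .tip))
(.node 19798097 85 (.node 19798083 92 .tip .tip) (.node 19798099 93 .tip .tip)))
(.node 19814465 86
(.node 19812433 71 (.node 19812419 78 .tip .tip) (.node 19812435 79 .tip .tip))
(.node 19814481 87 (.node 19814467 94 .tip .tip) (.node 19814483 95 .tip .tip))))
(.node 19877953 102
(.node 19863617 116
(.node 19861585 101 (.node 19861571 108 .tip .tip) (.node 19861587 109 .tip .tip))
(.node 19863633 117 (.node 19863619 124 .tip .tip) (.node 19863635 125 .tip .tip)))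
(.node 19880001 118
(.node 19877969 103 (.node 19877955 110 .tip .tip) (.node 19877971 111 .tip .tip))
(.node 19880017 119 (.node 19880003 126 .tip .tip) (.node 19880019 127 .tip .tip)))))))

/-- The orbit. -/
def clDOrb : Tab (ℕ × ℕ) :=
(.node 84 (.node 42 (.node 21 (.node 10 (.node 5 (.node 2 (.node 1 (.leaf (4538433, 32124995)) (.leaf (4538435, 14839879))) (.node 1 (.leaf (4538453, 32125023)) (.node 1 (.leaf (4538455, 32125001)) (.leaf (5193793, 26091601)))))
(.node 2 (.node 1 (.leaf (5193795, 11495495)) (.leaf (5193813, 10971209))) (.node 1 (.leaf (5193815, 25567327)) (.node 1 (.leaf (6637633, 13332563)) (.leaf (6637635, 14841925))))))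
(.node 5 (.node 2 (.node 1 (.leaf (6637653, 10641485)) (.leaf (6637655, 27402313))) (.node 1 (.leaf (7227457, 14973009)) (.node 1 (.leaf (7227459, 15562823)) (.leaf (7227477, 12939337)))))
(.node 3 (.node 1 (.leaf (7227479, 32258127)) (.node 1 (.leaf (8919105, 27613251)) (.leaf (8919107, 9181269)))) (.node 1 (.leaf (8919129, 9197659)) (.node 1 (.leaf (8919131, 29825099)) (.leaf (8943681, 31860817)))))))
(.node 10 (.node 5 (.node 2 (.node 1 (.leaf (8943683, 9189447)) (.leaf (8943705, 9203787))) (.node 1 (.leaf (8943707, 29845593)) (.node 1 (.leaf (11081793, 13506641)) (.leaf (11081795, 27529303)))))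
(.node 2 (.node 1 (.leaf (11081817, 13506651)) (.leaf (11081819, 27545673))) (.node 1 (.leaf (11104321, 29763651)) (.node 1 (.leaf (11104323, 9252933)) (.leaf (11104345, 15687753))))))
(.node 5 (.node 2 (.node 1 (.leaf (11104347, 13510735)) (.leaf (12937281, 25376833))) (.node 1 (.leaf (12937283, 25376855)) (.node 1 (.leaf (12937309, 9056345)) (.leaf (12937311, 12740683)))))
(.node 3 (.node 1 (.leaf (13310017, 11472963)) (.node 1 (.leaf (13310019, 27662407)) (.leaf (13310045, 28203083)))) (.node 1 (.leaf (13310047, 14962763)) (.node 1 (.leaf (15032385, 29499473)) (.leaf (15032387, 13314133))))))))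
(.node 21 (.node 10 (.node 5 (.node 2 (.node 1 (.leaf (15032413, 13314137)) (.leaf (15032415, 29499485))) (.node 1 (.leaf (15341633, 9312321)) (.node 1 (.leaf (15341635, 27660357)) (.leaf (15341661, 31725643)))))
(.node 2 (.node 1 (.leaf (15341663, 32266333)) (.leaf (17125441, 19099715))) (.node 1 (.leaf (17125443, 19085399)) (.node 1 (.leaf (17125457, 19099741)) (.leaf (17125459, 19626057))))))
(.node 5 (.node 2 (.node 1 (.leaf (17127489, 19603537)) (.leaf (17127491, 19603527))) (.node 1 (.leaf (17127505, 19030093)) (.node 1 (.leaf (17127507, 19015755)) (.leaf (17569857, 17043521)))))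
(.node 3 (.node 1 (.leaf (17569859, 17043543)) (.node 1 (.leaf (17569873, 17043531)) (.leaf (17569875, 17059919)))) (.node 1 (.leaf (17586241, 17657923)) (.node 1 (.leaf (17586243, 19802199)) (.leaf (17586257, 19359837)))))))
(.node 10 (.node 5 (.node 2 (.node 1 (.leaf (17586259, 19802187)) (.leaf (17635393, 17176657))) (.node 1 (.leaf (17635395, 17715285)) (.node 1 (.leaf (17635409, 17698891)) (.leaf (17635411, 17176669)))))
(.node 2 (.node 1 (.leaf (17649729, 19740753)) (.leaf (17649731, 19150917))) (.node 1 (.leaf (17649745, 17180745)) (.node 1 (.leaf (17649747, 17262685)) (.leaf (19013697, 4681793))))))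
(.node 5 (.node 2 (.node 1 (.leaf (19013699, 21325895)) (.leaf (19013709, 21966943))) (.node 1 (.leaf (19013711, 21325901)) (.node 1 (.leaf (19081281, 7151683)) (.leaf (19081283, 23928901)))))
(.node 3 (.node 1 (.leaf (19081293, 23928925)) (.node 1 (.leaf (19081295, 21461069)) (.leaf (19148865, 23619649)))) (.node 1 (.leaf (19148867, 4812885)) (.node 1 (.leaf (19148873, 21573709)) (.leaf (19148875, 21573721)))))))))
(.node 42 (.node 21 (.node 10 (.node 5 (.node 2 (.node 1 (.leaf (19150913, 21586001)) (.leaf (19150915, 23683143))) (.node 1 (.leaf (19150921, 4808797)) (.node 1 (.leaf (19150923, 21571675)) (.leaf (19230785, 21127233)))))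
(.node 2 (.node 1 (.leaf (19230787, 4946007)) (.leaf (19230809, 23230559))) (.node 1 (.leaf (19230811, 21182537)) (.node 1 (.leaf (19232833, 6971473)) (.leaf (19232835, 23208007))))))
(.node 5 (.node 2 (.node 1 (.leaf (19232857, 23279689)) (.leaf (19232859, 6955083))) (.node 1 (.leaf (19271745, 21315649)) (.node 1 (.leaf (19271747, 7292999)) (.leaf (19271749, 7293023)))))
(.node 3 (.node 1 (.leaf (19271751, 23545945)) (.node 1 (.leaf (19337281, 4999233)) (.leaf (19337283, 23543877)))) (.node 1 (.leaf (19337285, 4540495)) (.node 1 (.leaf (19337287, 24068191)) (.leaf (19556417, 21979203)))))))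
(.node 10 (.node 5 (.node 2 (.node 1 (.leaf (19556419, 24078421)) (.leaf (19556445, 21979215))) (.node 1 (.leaf (19556447, 6776923)) (.node 1 (.leaf (19619905, 23951441)) (.leaf (19619907, 23472213)))))
(.node 2 (.node 1 (.leaf (19619933, 23951437)) (.leaf (19619935, 23951451))) (.node 1 (.leaf (19798081, 21895249)) (.node 1 (.leaf (19798083, 7100503)) (.leaf (19798101, 7100491))))))
(.node 5 (.node 2 (.node 1 (.leaf (19798103, 7295049)) (.leaf (19863617, 4544593))) (.node 1 (.leaf (19863619, 21829701)) (.node 1 (.leaf (19863637, 21305439)) (.leaf (19863639, 5003355)))))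
(.node 3 (.node 1 (.leaf (21303361, 32131155)) (.node 1 (.leaf (21303363, 29509719)) (.leaf (21303365, 14829647)))) (.node 1 (.leaf (21303367, 31672411)) (.node 1 (.leaf (21434433, 11485249)) (.leaf (21434435, 10960981))))))))
(.node 21 (.node 10 (.node 5 (.node 2 (.node 1 (.leaf (21434437, 32262221)) (.leaf (21434439, 10960991))) (.node 1 (.leaf (23400513, 27478099)) (.node 1 (.leaf (23400515, 13320279)) (.leaf (23400517, 27936863)))))
(.node 2 (.node 1 (.leaf (23400519, 25315419)) (.leaf (23466049, 31801425))) (.node 1 (.leaf (23466051, 12927045)) (.node 1 (.leaf (23466053, 13385819)) (.leaf (23466055, 15024223))))))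
(.node 5 (.node 2 (.node 1 (.leaf (25434177, 25712707)) (.leaf (25434179, 25696341))) (.node 1 (.leaf (25434185, 25712731)) (.node 1 (.leaf (25434187, 11032671)) (.leaf (25442369, 11024467)))))
(.node 3 (.node 1 (.leaf (25442371, 25704519)) (.node 1 (.leaf (25442377, 25720921)) (.leaf (25442379, 11024463)))) (.node 1 (.leaf (27531329, 31985747)) (.node 1 (.leaf (27531331, 29904967)) (.leaf (27531337, 13111385)))))))
(.node 10 (.node 5 (.node 2 (.node 1 (.leaf (27531339, 15224909)) (.leaf (27537473, 29892673))) (.node 1 (.leaf (27537475, 9007175)) (.node 1 (.leaf (27537481, 9007181)) (.leaf (27537483, 27881563)))))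
(.node 2 (.node 1 (.leaf (29567041, 15540289)) (.leaf (29567043, 29648983))) (.node 1 (.leaf (29567053, 32317519)) (.node 1 (.leaf (29567055, 27684943)) (.leaf (29694017, 25385043))))))
(.node 5 (.node 2 (.node 1 (.leaf (29694019, 11212887)) (.leaf (29694029, 29513823))) (.node 1 (.leaf (29694031, 25892943)) (.node 1 (.leaf (31596609, 26161219)) (.leaf (31596611, 9384005)))))
(.node 3 (.node 1 (.leaf (31596621, 25653343)) (.node 1 (.leaf (31596623, 9384027)) (.leaf (31791169, 15339603)))) (.node 1 (.leaf (31791171, 13310023)) (.node 1 (.leaf (31791181, 29579353)) (.leaf (31791183, 32184397))))))))))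

/-- The centraliser. -/
def clDCent : CentData := ⟨17569857, 128, clDEl, clDIx, 168, clDOrb⟩

/-- The centraliser data. -/
def clMEl : Tab ℕ :=
(.node 256 (.node 128 (.node 64 (.node 32 (.node 16 (.node 8 (.node 4 (.node 2 (.node 1 (.leaf 17043521) (.leaf 17043537)) (.node 1 (.leaf 17059905) (.leaf 17059921)))
(.node 2 (.node 1 (.leaf 17567809) (.leaf 17567825)) (.node 1 (.leaf 17584193) (.leaf 17584209))))
(.node 4 (.node 2 (.node 1 (.leaf 17043529) (.leaf 17043545)) (.node 1 (.leaf 17059913) (.leaf 17059929)))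
(.node 2 (.node 1 (.leaf 17567817) (.leaf 17567833)) (.node 1 (.leaf 17584201) (.leaf 17584217)))))
(.node 8 (.node 4 (.node 2 (.node 1 (.leaf 17051713) (.leaf 17051729)) (.node 1 (.leaf 17068097) (.leaf 17068113)))
(.node 2 (.node 1 (.leaf 17576001) (.leaf 17576017)) (.node 1 (.leaf 17592385) (.leaf 17592401))))
(.node 4 (.node 2 (.node 1 (.leaf 17051721) (.leaf 17051737)) (.node 1 (.leaf 17068105) (.leaf 17068121)))
(.node 2 (.node 1 (.leaf 17576009) (.leaf 17576025)) (.node 1 (.leaf 17592393) (.leaf 17592409))))))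
(.node 16 (.node 8 (.node 4 (.node 2 (.node 1 (.leaf 17043523) (.leaf 17043539)) (.node 1 (.leaf 17059907) (.leaf 17059923)))
(.node 2 (.node 1 (.leaf 17567811) (.leaf 17567827)) (.node 1 (.leaf 17584195) (.leaf 17584211))))
(.node 4 (.node 2 (.node 1 (.leaf 17043531) (.leaf 17043547)) (.node 1 (.leaf 17059915) (.leaf 17059931)))
(.node 2 (.node 1 (.leaf 17567819) (.leaf 17567835)) (.node 1 (.leaf 17584203) (.leaf 17584219)))))
(.node 8 (.node 4 (.node 2 (.node 1 (.leaf 17051715) (.leaf 17051731)) (.node 1 (.leaf 17068099) (.leaf 17068115)))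
(.node 2 (.node 1 (.leaf 17576003) (.leaf 17576019)) (.node 1 (.leaf 17592387) (.leaf 17592403))))
(.node 4 (.node 2 (.node 1 (.leaf 17051723) (.leaf 17051739)) (.node 1 (.leaf 17068107) (.leaf 17068123)))
(.node 2 (.node 1 (.leaf 17576011) (.leaf 17576027)) (.node 1 (.leaf 17592395) (.leaf 17592411)))))))
(.node 32 (.node 16 (.node 8 (.node 4 (.node 2 (.node 1 (.leaf 17045569) (.leaf 17045585)) (.node 1 (.leaf 17061953) (.leaf 17061969)))
(.node 2 (.node 1 (.leaf 17569857) (.leaf 17569873)) (.node 1 (.leaf 17586241) (.leaf 17586257))))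
(.node 4 (.node 2 (.node 1 (.leaf 17045577) (.leaf 17045593)) (.node 1 (.leaf 17061961) (.leaf 17061977)))
(.node 2 (.node 1 (.leaf 17569865) (.leaf 17569881)) (.node 1 (.leaf 17586249) (.leaf 17586265)))))
(.node 8 (.node 4 (.node 2 (.node 1 (.leaf 17053761) (.leaf 17053777)) (.node 1 (.leaf 17070145) (.leaf 17070161)))
(.node 2 (.node 1 (.leaf 17578049) (.leaf 17578065)) (.node 1 (.leaf 17594433) (.leaf 17594449))))
(.node 4 (.node 2 (.node 1 (.leaf 17053769) (.leaf 17053785)) (.node 1 (.leaf 17070153) (.leaf 17070169)))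
(.node 2 (.node 1 (.leaf 17578057) (.leaf 17578073)) (.node 1 (.leaf 17594441) (.leaf 17594457))))))
(.node 16 (.node 8 (.node 4 (.node 2 (.node 1 (.leaf 17045571) (.leaf 17045587)) (.node 1 (.leaf 17061955) (.leaf 17061971)))
(.node 2 (.node 1 (.leaf 17569859) (.leaf 17569875)) (.node 1 (.leaf 17586243) (.leaf 17586259))))
(.node 4 (.node 2 (.node 1 (.leaf 17045579) (.leaf 17045595)) (.node 1 (.leaf 17061963) (.leaf 17061979)))
(.node 2 (.node 1 (.leaf 17569867) (.leaf 17569883)) (.node 1 (.leaf 17586251) (.leaf 17586267)))))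
(.node 8 (.node 4 (.node 2 (.node 1 (.leaf 17053763) (.leaf 17053779)) (.node 1 (.leaf 17070147) (.leaf 17070163)))
(.node 2 (.node 1 (.leaf 17578051) (.leaf 17578067)) (.node 1 (.leaf 17594435) (.leaf 17594451))))
(.node 4 (.node 2 (.node 1 (.leaf 17053771) (.leaf 17053787)) (.node 1 (.leaf 17070155) (.leaf 17070171)))
(.node 2 (.node 1 (.leaf 17578059) (.leaf 17578075)) (.node 1 (.leaf 17594443) (.leaf 17594459))))))))
(.node 64 (.node 32 (.node 16 (.node 8 (.node 4 (.node 2 (.node 1 (.leaf 17109057) (.leaf 17109073)) (.node 1 (.leaf 17125441) (.leaf 17125457)))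
(.node 2 (.node 1 (.leaf 17633345) (.leaf 17633361)) (.node 1 (.leaf 17649729) (.leaf 17649745))))
(.node 4 (.node 2 (.node 1 (.leaf 17109065) (.leaf 17109081)) (.node 1 (.leaf 17125449) (.leaf 17125465)))
(.node 2 (.node 1 (.leaf 17633353) (.leaf 17633369)) (.node 1 (.leaf 17649737) (.leaf 17649753)))))
(.node 8 (.node 4 (.node 2 (.node 1 (.leaf 17117249) (.leaf 17117265)) (.node 1 (.leaf 17133633) (.leaf 17133649)))
(.node 2 (.node 1 (.leaf 17641537) (.leaf 17641553)) (.node 1 (.leaf 17657921) (.leaf 17657937))))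
(.node 4 (.node 2 (.node 1 (.leaf 17117257) (.leaf 17117273)) (.node 1 (.leaf 17133641) (.leaf 17133657)))
(.node 2 (.node 1 (.leaf 17641545) (.leaf 17641561)) (.node 1 (.leaf 17657929) (.leaf 17657945))))))
(.node 16 (.node 8 (.node 4 (.node 2 (.node 1 (.leaf 17109059) (.leaf 17109075)) (.node 1 (.leaf 17125443) (.leaf 17125459)))
(.node 2 (.node 1 (.leaf 17633347) (.leaf 17633363)) (.node 1 (.leaf 17649731) (.leaf 17649747))))
(.node 4 (.node 2 (.node 1 (.leaf 17109067) (.leaf 17109083)) (.node 1 (.leaf 17125451) (.leaf 17125467)))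
(.node 2 (.node 1 (.leaf 17633355) (.leaf 17633371)) (.node 1 (.leaf 17649739) (.leaf 17649755)))))
(.node 8 (.node 4 (.node 2 (.node 1 (.leaf 17117251) (.leaf 17117267)) (.node 1 (.leaf 17133635) (.leaf 17133651)))
(.node 2 (.node 1 (.leaf 17641539) (.leaf 17641555)) (.node 1 (.leaf 17657923) (.leaf 17657939))))
(.node 4 (.node 2 (.node 1 (.leaf 17117259) (.leaf 17117275)) (.node 1 (.leaf 17133643) (.leaf 17133659)))
(.node 2 (.node 1 (.leaf 17641547) (.leaf 17641563)) (.node 1 (.leaf 17657931) (.leaf 17657947)))))))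
(.node 32 (.node 16 (.node 8 (.node 4 (.node 2 (.node 1 (.leaf 17111105) (.leaf 17111121)) (.node 1 (.leaf 17127489) (.leaf 17127505)))
(.node 2 (.node 1 (.leaf 17635393) (.leaf 17635409)) (.node 1 (.leaf 17651777) (.leaf 17651793))))
(.node 4 (.node 2 (.node 1 (.leaf 17111113) (.leaf 17111129)) (.node 1 (.leaf 17127497) (.leaf 17127513)))
(.node 2 (.node 1 (.leaf 17635401) (.leaf 17635417)) (.node 1 (.leaf 17651785) (.leaf 17651801)))))
(.node 8 (.node 4 (.node 2 (.node 1 (.leaf 17119297) (.leaf 17119313)) (.node 1 (.leaf 17135681) (.leaf 17135697)))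
(.node 2 (.node 1 (.leaf 17643585) (.leaf 17643601)) (.node 1 (.leaf 17659969) (.leaf 17659985))))
(.node 4 (.node 2 (.node 1 (.leaf 17119305) (.leaf 17119321)) (.node 1 (.leaf 17135689) (.leaf 17135705)))
(.node 2 (.node 1 (.leaf 17643593) (.leaf 17643609)) (.node 1 (.leaf 17659977) (.leaf 17659993))))))
(.node 16 (.node 8 (.node 4 (.node 2 (.node 1 (.leaf 17111107) (.leaf 17111123)) (.node 1 (.leaf 17127491) (.leaf 17127507)))
(.node 2 (.node 1 (.leaf 17635395) (.leaf 17635411)) (.node 1 (.leaf 17651779) (.leaf 17651795))))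
(.node 4 (.node 2 (.node 1 (.leaf 17111115) (.leaf 17111131)) (.node 1 (.leaf 17127499) (.leaf 17127515)))
(.node 2 (.node 1 (.leaf 17635403) (.leaf 17635419)) (.node 1 (.leaf 17651787) (.leaf 17651803)))))
(.node 8 (.node 4 (.node 2 (.node 1 (.leaf 17119299) (.leaf 17119315)) (.node 1 (.leaf 17135683) (.leaf 17135699)))
(.node 2 (.node 1 (.leaf 17643587) (.leaf 17643603)) (.node 1 (.leaf 17659971) (.leaf 17659987))))
(.node 4 (.node 2 (.node 1 (.leaf 17119307) (.leaf 17119323)) (.node 1 (.leaf 17135691) (.leaf 17135707)))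
(.node 2 (.node 1 (.leaf 17643595) (.leaf 17643611)) (.node 1 (.leaf 17659979) (.leaf 17659995)))))))))
(.node 128 (.node 64 (.node 32 (.node 16 (.node 8 (.node 4 (.node 2 (.node 1 (.leaf 19140677) (.leaf 19140693)) (.node 1 (.leaf 19157061) (.leaf 19157077)))
(.node 2 (.node 1 (.leaf 19664965) (.leaf 19664981)) (.node 1 (.leaf 19681349) (.leaf 19681365))))
(.node 4 (.node 2 (.node 1 (.leaf 19140685) (.leaf 19140701)) (.node 1 (.leaf 19157069) (.leaf 19157085)))
(.node 2 (.node 1 (.leaf 19664973) (.leaf 19664989)) (.node 1 (.leaf 19681357) (.leaf 19681373)))))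
(.node 8 (.node 4 (.node 2 (.node 1 (.leaf 19148869) (.leaf 19148885)) (.node 1 (.leaf 19165253) (.leaf 19165269)))
(.node 2 (.node 1 (.leaf 19673157) (.leaf 19673173)) (.node 1 (.leaf 19689541) (.leaf 19689557))))
(.node 4 (.node 2 (.node 1 (.leaf 19148877) (.leaf 19148893)) (.node 1 (.leaf 19165261) (.leaf 19165277)))
(.node 2 (.node 1 (.leaf 19673165) (.leaf 19673181)) (.node 1 (.leaf 19689549) (.leaf 19689565))))))
(.node 16 (.node 8 (.node 4 (.node 2 (.node 1 (.leaf 19140679) (.leaf 19140695)) (.node 1 (.leaf 19157063) (.leaf 19157079)))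
(.node 2 (.node 1 (.leaf 19664967) (.leaf 19664983)) (.node 1 (.leaf 19681351) (.leaf 19681367))))
(.node 4 (.node 2 (.node 1 (.leaf 19140687) (.leaf 19140703)) (.node 1 (.leaf 19157071) (.leaf 19157087)))
(.node 2 (.node 1 (.leaf 19664975) (.leaf 19664991)) (.node 1 (.leaf 19681359) (.leaf 19681375)))))
(.node 8 (.node 4 (.node 2 (.node 1 (.leaf 19148871) (.leaf 19148887)) (.node 1 (.leaf 19165255) (.leaf 19165271)))
(.node 2 (.node 1 (.leaf 19673159) (.leaf 19673175)) (.node 1 (.leaf 19689543) (.leaf 19689559))))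
(.node 4 (.node 2 (.node 1 (.leaf 19148879) (.leaf 19148895)) (.node 1 (.leaf 19165263) (.leaf 19165279)))
(.node 2 (.node 1 (.leaf 19673167) (.leaf 19673183)) (.node 1 (.leaf 19689551) (.leaf 19689567)))))))
(.node 32 (.node 16 (.node 8 (.node 4 (.node 2 (.node 1 (.leaf 19142725) (.leaf 19142741)) (.node 1 (.leaf 19159109) (.leaf 19159125)))
(.node 2 (.node 1 (.leaf 19667013) (.leaf 19667029)) (.node 1 (.leaf 19683397) (.leaf 19683413))))
(.node 4 (.node 2 (.node 1 (.leaf 19142733) (.leaf 19142749)) (.node 1 (.leaf 19159117) (.leaf 19159133)))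
(.node 2 (.node 1 (.leaf 19667021) (.leaf 19667037)) (.node 1 (.leaf 19683405) (.leaf 19683421)))))
(.node 8 (.node 4 (.node 2 (.node 1 (.leaf 19150917) (.leaf 19150933)) (.node 1 (.leaf 19167301) (.leaf 19167317)))
(.node 2 (.node 1 (.leaf 19675205) (.leaf 19675221)) (.node 1 (.leaf 19691589) (.leaf 19691605))))
(.node 4 (.node 2 (.node 1 (.leaf 19150925) (.leaf 19150941)) (.node 1 (.leaf 19167309) (.leaf 19167325)))
(.node 2 (.node 1 (.leaf 19675213) (.leaf 19675229)) (.node 1 (.leaf 19691597) (.leaf 19691613))))))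
(.node 16 (.node 8 (.node 4 (.node 2 (.node 1 (.leaf 19142727) (.leaf 19142743)) (.node 1 (.leaf 19159111) (.leaf 19159127)))
(.node 2 (.node 1 (.leaf 19667015) (.leaf 19667031)) (.node 1 (.leaf 19683399) (.leaf 19683415))))
(.node 4 (.node 2 (.node 1 (.leaf 19142735) (.leaf 19142751)) (.node 1 (.leaf 19159119) (.leaf 19159135)))
(.node 2 (.node 1 (.leaf 19667023) (.leaf 19667039)) (.node 1 (.leaf 19683407) (.leaf 19683423)))))
(.node 8 (.node 4 (.node 2 (.node 1 (.leaf 19150919) (.leaf 19150935)) (.node 1 (.leaf 19167303) (.leaf 19167319)))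
(.node 2 (.node 1 (.leaf 19675207) (.leaf 19675223)) (.node 1 (.leaf 19691591) (.leaf 19691607))))
(.node 4 (.node 2 (.node 1 (.leaf 19150927) (.leaf 19150943)) (.node 1 (.leaf 19167311) (.leaf 19167327)))
(.node 2 (.node 1 (.leaf 19675215) (.leaf 19675231)) (.node 1 (.leaf 19691599) (.leaf 19691615))))))))
(.node 64 (.node 32 (.node 16 (.node 8 (.node 4 (.node 2 (.node 1 (.leaf 19206213) (.leaf 19206229)) (.node 1 (.leaf 19222597) (.leaf 19222613)))
(.node 2 (.node 1 (.leaf 19730501) (.leaf 19730517)) (.node 1 (.leaf 19746885) (.leaf 19746901))))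
(.node 4 (.node 2 (.node 1 (.leaf 19206221) (.leaf 19206237)) (.node 1 (.leaf 19222605) (.leaf 19222621)))
(.node 2 (.node 1 (.leaf 19730509) (.leaf 19730525)) (.node 1 (.leaf 19746893) (.leaf 19746909)))))
(.node 8 (.node 4 (.node 2 (.node 1 (.leaf 19214405) (.leaf 19214421)) (.node 1 (.leaf 19230789) (.leaf 19230805)))
(.node 2 (.node 1 (.leaf 19738693) (.leaf 19738709)) (.node 1 (.leaf 19755077) (.leaf 19755093))))
(.node 4 (.node 2 (.node 1 (.leaf 19214413) (.leaf 19214429)) (.node 1 (.leaf 19230797) (.leaf 19230813)))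
(.node 2 (.node 1 (.leaf 19738701) (.leaf 19738717)) (.node 1 (.leaf 19755085) (.leaf 19755101))))))
(.node 16 (.node 8 (.node 4 (.node 2 (.node 1 (.leaf 19206215) (.leaf 19206231)) (.node 1 (.leaf 19222599) (.leaf 19222615)))
(.node 2 (.node 1 (.leaf 19730503) (.leaf 19730519)) (.node 1 (.leaf 19746887) (.leaf 19746903))))
(.node 4 (.node 2 (.node 1 (.leaf 19206223) (.leaf 19206239)) (.node 1 (.leaf 19222607) (.leaf 19222623)))
(.node 2 (.node 1 (.leaf 19730511) (.leaf 19730527)) (.node 1 (.leaf 19746895) (.leaf 19746911)))))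
(.node 8 (.node 4 (.node 2 (.node 1 (.leaf 19214407) (.leaf 19214423)) (.node 1 (.leaf 19230791) (.leaf 19230807)))
(.node 2 (.node 1 (.leaf 19738695) (.leaf 19738711)) (.node 1 (.leaf 19755079) (.leaf 19755095))))
(.node 4 (.node 2 (.node 1 (.leaf 19214415) (.leaf 19214431)) (.node 1 (.leaf 19230799) (.leaf 19230815)))
(.node 2 (.node 1 (.leaf 19738703) (.leaf 19738719)) (.node 1 (.leaf 19755087) (.leaf 19755103)))))))
(.node 32 (.node 16 (.node 8 (.node 4 (.node 2 (.node 1 (.leaf 19208261) (.leaf 19208277)) (.node 1 (.leaf 19224645) (.leaf 19224661)))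
(.node 2 (.node 1 (.leaf 19732549) (.leaf 19732565)) (.node 1 (.leaf 19748933) (.leaf 19748949))))
(.node 4 (.node 2 (.node 1 (.leaf 19208269) (.leaf 19208285)) (.node 1 (.leaf 19224653) (.leaf 19224669)))
(.node 2 (.node 1 (.leaf 19732557) (.leaf 19732573)) (.node 1 (.leaf 19748941) (.leaf 19748957)))))
(.node 8 (.node 4 (.node 2 (.node 1 (.leaf 19216453) (.leaf 19216469)) (.node 1 (.leaf 19232837) (.leaf 19232853)))
(.node 2 (.node 1 (.leaf 19740741) (.leaf 19740757)) (.node 1 (.leaf 19757125) (.leaf 19757141))))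
(.node 4 (.node 2 (.node 1 (.leaf 19216461) (.leaf 19216477)) (.node 1 (.leaf 19232845) (.leaf 19232861)))
(.node 2 (.node 1 (.leaf 19740749) (.leaf 19740765)) (.node 1 (.leaf 19757133) (.leaf 19757149))))))
(.node 16 (.node 8 (.node 4 (.node 2 (.node 1 (.leaf 19208263) (.leaf 19208279)) (.node 1 (.leaf 19224647) (.leaf 19224663)))
(.node 2 (.node 1 (.leaf 19732551) (.leaf 19732567)) (.node 1 (.leaf 19748935) (.leaf 19748951))))
(.node 4 (.node 2 (.node 1 (.leaf 19208271) (.leaf 19208287)) (.node 1 (.leaf 19224655) (.leaf 19224671)))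
(.node 2 (.node 1 (.leaf 19732559) (.leaf 19732575)) (.node 1 (.leaf 19748943) (.leaf 19748959)))))
(.node 8 (.node 4 (.node 2 (.node 1 (.leaf 19216455) (.leaf 19216471)) (.node 1 (.leaf 19232839) (.leaf 19232855)))
(.node 2 (.node 1 (.leaf 19740743) (.leaf 19740759)) (.node 1 (.leaf 19757127) (.leaf 19757143))))
(.node 4 (.node 2 (.node 1 (.leaf 19216463) (.leaf 19216479)) (.node 1 (.leaf 19232847) (.leaf 19232863)))
(.node 2 (.node 1 (.leaf 19740751) (.leaf 19740767)) (.node 1 (.leaf 19757135) (.leaf 19757151))))))))))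

/-- Its index. -/
def clMIx : BT ℕ :=
(.node 19140677 256
(.node 17567809 4
(.node 17109057 128
(.node 17059905 2
(.node 17051713 16
(.node 17045569 64
(.node 17043537 1
(.node 17043529 8 (.node 17043523 32 (.node 17043521 0 .tip .tip) .tip) (.node 17043531 40 .tip .tip))
(.node 17043545 9 (.node 17043539 33 .tip .tip) (.node 17043547 41 .tip .tip)))
(.node 17045585 65
(.node 17045577 72 (.node 17045571 96 .tip .tip) (.node 17045579 104 .tip .tip))
(.node 17045593 73 (.node 17045587 97 .tip .tip) (.node 17045595 105 .tip .tip))))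
(.node 17053761 80
(.node 17051729 17
(.node 17051721 24 (.node 17051715 48 .tip .tip) (.node 17051723 56 .tip .tip))
(.node 17051737 25 (.node 17051731 49 .tip .tip) (.node 17051739 57 .tip .tip)))
(.node 17053777 81
(.node 17053769 88 (.node 17053763 112 .tip .tip) (.node 17053771 120 .tip .tip))
(.node 17053785 89 (.node 17053779 113 .tip .tip) (.node 17053787 121 .tip .tip)))))
(.node 17068097 18
(.node 17061953 66
(.node 17059921 3
(.node 17059913 10 (.node 17059907 34 .tip .tip) (.node 17059915 42 .tip .tip))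
(.node 17059929 11 (.node 17059923 35 .tip .tip) (.node 17059931 43 .tip .tip)))
(.node 17061969 67
(.node 17061961 74 (.node 17061955 98 .tip .tip) (.node 17061963 106 .tip .tip))
(.node 17061977 75 (.node 17061971 99 .tip .tip) (.node 17061979 107 .tip .tip))))
(.node 17070145 82
(.node 17068113 19
(.node 17068105 26 (.node 17068099 50 .tip .tip) (.node 17068107 58 .tip .tip))
(.node 17068121 27 (.node 17068115 51 .tip .tip) (.node 17068123 59 .tip .tip)))
(.node 17070161 83
(.node 17070153 90 (.node 17070147 114 .tip .tip) (.node 17070155 122 .tip .tip))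
(.node 17070169 91 (.node 17070163 115 .tip .tip) (.node 17070171 123 .tip .tip))))))
(.node 17125441 130
(.node 17117249 144
(.node 17111105 192
(.node 17109073 129
(.node 17109065 136 (.node 17109059 160 .tip .tip) (.node 17109067 168 .tip .tip))
(.node 17109081 137 (.node 17109075 161 .tip .tip) (.node 17109083 169 .tip .tip)))
(.node 17111121 193
(.node 17111113 200 (.node 17111107 224 .tip .tip) (.node 17111115 232 .tip .tip))
(.node 17111129 201 (.node 17111123 225 .tip .tip) (.node 17111131 233 .tip .tip))))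
(.node 17119297 208
(.node 17117265 145
(.node 17117257 152 (.node 17117251 176 .tip .tip) (.node 17117259 184 .tip .tip))
(.node 17117273 153 (.node 17117267 177 .tip .tip) (.node 17117275 185 .tip .tip)))
(.node 17119313 209
(.node 17119305 216 (.node 17119299 240 .tip .tip) (.node 17119307 248 .tip .tip))
(.node 17119321 217 (.node 17119315 241 .tip .tip) (.node 17119323 249 .tip .tip)))))
(.node 17133633 146
(.node 17127489 194
(.node 17125457 131
(.node 17125449 138 (.node 17125443 162 .tip .tip) (.node 17125451 170 .tip .tip))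
(.node 17125465 139 (.node 17125459 163 .tip .tip) (.node 17125467 171 .tip .tip)))
(.node 17127505 195
(.node 17127497 202 (.node 17127491 226 .tip .tip) (.node 17127499 234 .tip .tip))
(.node 17127513 203 (.node 17127507 227 .tip .tip) (.node 17127515 235 .tip .tip))))
(.node 17135681 210
(.node 17133649 147
(.node 17133641 154 (.node 17133635 178 .tip .tip) (.node 17133643 186 .tip .tip))
(.node 17133657 155 (.node 17133651 179 .tip .tip) (.node 17133659 187 .tip .tip)))
(.node 17135697 211
(.node 17135689 218 (.node 17135683 242 .tip .tip) (.node 17135691 250 .tip .tip))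
(.node 17135705 219 (.node 17135699 243 .tip .tip) (.node 17135707 251 .tip .tip)))))))
(.node 17633345 132
(.node 17584193 6
(.node 17576001 20
(.node 17569857 68
(.node 17567825 5
(.node 17567817 12 (.node 17567811 36 .tip .tip) (.node 17567819 44 .tip .tip))
(.node 17567833 13 (.node 17567827 37 .tip .tip) (.node 17567835 45 .tip .tip)))
(.node 17569873 69
(.node 17569865 76 (.node 17569859 100 .tip .tip) (.node 17569867 108 .tip .tip))
(.node 17569881 77 (.node 17569875 101 .tip .tip) (.node 17569883 109 .tip .tip))))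
(.node 17578049 84
(.node 17576017 21
(.node 17576009 28 (.node 17576003 52 .tip .tip) (.node 17576011 60 .tip .tip))
(.node 17576025 29 (.node 17576019 53 .tip .tip) (.node 17576027 61 .tip .tip)))
(.node 17578065 85
(.node 17578057 92 (.node 17578051 116 .tip .tip) (.node 17578059 124 .tip .tip))
(.node 17578073 93 (.node 17578067 117 .tip .tip) (.node 17578075 125 .tip .tip)))))
(.node 17592385 22
(.node 17586241 70
(.node 17584209 7
(.node 17584201 14 (.node 17584195 38 .tip .tip) (.node 17584203 46 .tip .tip))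
(.node 17584217 15 (.node 17584211 39 .tip .tip) (.node 17584219 47 .tip .tip)))
(.node 17586257 71
(.node 17586249 78 (.node 17586243 102 .tip .tip) (.node 17586251 110 .tip .tip))
(.node 17586265 79 (.node 17586259 103 .tip .tip) (.node 17586267 111 .tip .tip))))
(.node 17594433 86
(.node 17592401 23
(.node 17592393 30 (.node 17592387 54 .tip .tip) (.node 17592395 62 .tip .tip))
(.node 17592409 31 (.node 17592403 55 .tip .tip) (.node 17592411 63 .tip .tip)))
(.node 17594449 87
(.node 17594441 94 (.node 17594435 118 .tip .tip) (.node 17594443 126 .tip .tip))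
(.node 17594457 95 (.node 17594451 119 .tip .tip) (.node 17594459 127 .tip .tip))))))
(.node 17649729 134
(.node 17641537 148
(.node 17635393 196
(.node 17633361 133
(.node 17633353 140 (.node 17633347 164 .tip .tip) (.node 17633355 172 .tip .tip))
(.node 17633369 141 (.node 17633363 165 .tip .tip) (.node 17633371 173 .tip .tip)))
(.node 17635409 197
(.node 17635401 204 (.node 17635395 228 .tip .tip) (.node 17635403 236 .tip .tip))
(.node 17635417 205 (.node 17635411 229 .tip .tip) (.node 17635419 237 .tip .tip))))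
(.node 17643585 212
(.node 17641553 149
(.node 17641545 156 (.node 17641539 180 .tip .tip) (.node 17641547 188 .tip .tip))
(.node 17641561 157 (.node 17641555 181 .tip .tip) (.node 17641563 189 .tip .tip)))
(.node 17643601 213
(.node 17643593 220 (.node 17643587 244 .tip .tip) (.node 17643595 252 .tip .tip))
(.node 17643609 221 (.node 17643603 245 .tip .tip) (.node 17643611 253 .tip .tip)))))
(.node 17657921 150
(.node 17651777 198
(.node 17649745 135
(.node 17649737 142 (.node 17649731 166 .tip .tip) (.node 17649739 174 .tip .tip))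
(.node 17649753 143 (.node 17649747 167 .tip .tip) (.node 17649755 175 .tip .tip)))
(.node 17651793 199
(.node 17651785 206 (.node 17651779 230 .tip .tip) (.node 17651787 238 .tip .tip))
(.node 17651801 207 (.node 17651795 231 .tip .tip) (.node 17651803 239 .tip .tip))))
(.node 17659969 214
(.node 17657937 151
(.node 17657929 158 (.node 17657923 182 .tip .tip) (.node 17657931 190 .tip .tip))
(.node 17657945 159 (.node 17657939 183 .tip .tip) (.node 17657947 191 .tip .tip)))
(.node 17659985 215
(.node 17659977 222 (.node 17659971 246 .tip .tip) (.node 17659979 254 .tip .tip))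
(.node 17659993 223 (.node 17659987 247 .tip .tip) (.node 17659995 255 .tip .tip))))))))
(.node 19664965 260
(.node 19206213 384
(.node 19157061 258
(.node 19148869 272
(.node 19142725 320
(.node 19140693 257
(.node 19140685 264 (.node 19140679 288 .tip .tip) (.node 19140687 296 .tip .tip))
(.node 19140701 265 (.node 19140695 289 .tip .tip) (.node 19140703 297 .tip .tip)))
(.node 19142741 321
(.node 19142733 328 (.node 19142727 352 .tip .tip) (.node 19142735 360 .tip .tip))
(.node 19142749 329 (.node 19142743 353 .tip .tip) (.node 19142751 361 .tip .tip))))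
(.node 19150917 336
(.node 19148885 273
(.node 19148877 280 (.node 19148871 304 .tip .tip) (.node 19148879 312 .tip .tip))
(.node 19148893 281 (.node 19148887 305 .tip .tip) (.node 19148895 313 .tip .tip)))
(.node 19150933 337
(.node 19150925 344 (.node 19150919 368 .tip .tip) (.node 19150927 376 .tip .tip))
(.node 19150941 345 (.node 19150935 369 .tip .tip) (.node 19150943 377 .tip .tip)))))
(.node 19165253 274
(.node 19159109 322
(.node 19157077 259
(.node 19157069 266 (.node 19157063 290 .tip .tip) (.node 19157071 298 .tip .tip))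
(.node 19157085 267 (.node 19157079 291 .tip .tip) (.node 19157087 299 .tip .tip)))
(.node 19159125 323
(.node 19159117 330 (.node 19159111 354 .tip .tip) (.node 19159119 362 .tip .tip))
(.node 19159133 331 (.node 19159127 355 .tip .tip) (.node 19159135 363 .tip .tip))))
(.node 19167301 338
(.node 19165269 275
(.node 19165261 282 (.node 19165255 306 .tip .tip) (.node 19165263 314 .tip .tip))
(.node 19165277 283 (.node 19165271 307 .tip .tip) (.node 19165279 315 .tip .tip)))
(.node 19167317 339
(.node 19167309 346 (.node 19167303 370 .tip .tip) (.node 19167311 378 .tip .tip))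
(.node 19167325 347 (.node 19167319 371 .tip .tip) (.node 19167327 379 .tip .tip))))))
(.node 19222597 386
(.node 19214405 400
(.node 19208261 448
(.node 19206229 385
(.node 19206221 392 (.node 19206215 416 .tip .tip) (.node 19206223 424 .tip .tip))
(.node 19206237 393 (.node 19206231 417 .tip .tip) (.node 19206239 425 .tip .tip)))
(.node 19208277 449
(.node 19208269 456 (.node 19208263 480 .tip .tip) (.node 19208271 488 .tip .tip))
(.node 19208285 457 (.node 19208279 481 .tip .tip) (.node 19208287 489 .tip .tip))))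
(.node 19216453 464
(.node 19214421 401
(.node 19214413 408 (.node 19214407 432 .tip .tip) (.node 19214415 440 .tip .tip))
(.node 19214429 409 (.node 19214423 433 .tip .tip) (.node 19214431 441 .tip .tip)))
(.node 19216469 465
(.node 19216461 472 (.node 19216455 496 .tip .tip) (.node 19216463 504 .tip .tip))
(.node 19216477 473 (.node 19216471 497 .tip .tip) (.node 19216479 505 .tip .tip)))))
(.node 19230789 402
(.node 19224645 450
(.node 19222613 387
(.node 19222605 394 (.node 19222599 418 .tip .tip) (.node 19222607 426 .tip .tip))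
(.node 19222621 395 (.node 19222615 419 .tip .tip) (.node 19222623 427 .tip .tip)))
(.node 19224661 451
(.node 19224653 458 (.node 19224647 482 .tip .tip) (.node 19224655 490 .tip .tip))
(.node 19224669 459 (.node 19224663 483 .tip .tip) (.node 19224671 491 .tip .tip))))
(.node 19232837 466
(.node 19230805 403
(.node 19230797 410 (.node 19230791 434 .tip .tip) (.node 19230799 442 .tip .tip))
(.node 19230813 411 (.node 19230807 435 .tip .tip) (.node 19230815 443 .tip .tip)))
(.node 19232853 467
(.node 19232845 474 (.node 19232839 498 .tip .tip) (.node 19232847 506 .tip .tip))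
(.node 19232861 475 (.node 19232855 499 .tip .tip) (.node 19232863 507 .tip .tip)))))))
(.node 19730501 388
(.node 19681349 262
(.node 19673157 276
(.node 19667013 324
(.node 19664981 261
(.node 19664973 268 (.node 19664967 292 .tip .tip) (.node 19664975 300 .tip .tip))
(.node 19664989 269 (.node 19664983 293 .tip .tip) (.node 19664991 301 .tip .tip)))
(.node 19667029 325
(.node 19667021 332 (.node 19667015 356 .tip .tip) (.node 19667023 364 .tip .tip))
(.node 19667037 333 (.node 19667031 357 .tip .tip) (.node 19667039 365 .tip .tip))))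
(.node 19675205 340
(.node 19673173 277
(.node 19673165 284 (.node 19673159 308 .tip .tip) (.node 19673167 316 .tip .tip))
(.node 19673181 285 (.node 19673175 309 .tip .tip) (.node 19673183 317 .tip .tip)))
(.node 19675221 341
(.node 19675213 348 (.node 19675207 372 .tip .tip) (.node 19675215 380 .tip .tip))
(.node 19675229 349 (.node 19675223 373 .tip .tip) (.node 19675231 381 .tip .tip)))))
(.node 19689541 278
(.node 19683397 326
(.node 19681365 263
(.node 19681357 270 (.node 19681351 294 .tip .tip) (.node 19681359 302 .tip .tip))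
(.node 19681373 271 (.node 19681367 295 .tip .tip) (.node 19681375 303 .tip .tip)))
(.node 19683413 327
(.node 19683405 334 (.node 19683399 358 .tip .tip) (.node 19683407 366 .tip .tip))
(.node 19683421 335 (.node 19683415 359 .tip .tip) (.node 19683423 367 .tip .tip))))
(.node 19691589 342
(.node 19689557 279
(.node 19689549 286 (.node 19689543 310 .tip .tip) (.node 19689551 318 .tip .tip))
(.node 19689565 287 (.node 19689559 311 .tip .tip) (.node 19689567 319 .tip .tip)))
(.node 19691605 343
(.node 19691597 350 (.node 19691591 374 .tip .tip) (.node 19691599 382 .tip .tip))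
(.node 19691613 351 (.node 19691607 375 .tip .tip) (.node 19691615 383 .tip .tip))))))
(.node 19746885 390
(.node 19738693 404
(.node 19732549 452
(.node 19730517 389
(.node 19730509 396 (.node 19730503 420 .tip .tip) (.node 19730511 428 .tip .tip))
(.node 19730525 397 (.node 19730519 421 .tip .tip) (.node 19730527 429 .tip .tip)))
(.node 19732565 453
(.node 19732557 460 (.node 19732551 484 .tip .tip) (.node 19732559 492 .tip .tip))
(.node 19732573 461 (.node 19732567 485 .tip .tip) (.node 19732575 493 .tip .tip))))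
(.node 19740741 468
(.node 19738709 405
(.node 19738701 412 (.node 19738695 436 .tip .tip) (.node 19738703 444 .tip .tip))
(.node 19738717 413 (.node 19738711 437 .tip .tip) (.node 19738719 445 .tip .tip)))
(.node 19740757 469
(.node 19740749 476 (.node 19740743 500 .tip .tip) (.node 19740751 508 .tip .tip))
(.node 19740765 477 (.node 19740759 501 .tip .tip) (.node 19740767 509 .tip .tip)))))
(.node 19755077 406
(.node 19748933 454
(.node 19746901 391
(.node 19746893 398 (.node 19746887 422 .tip .tip) (.node 19746895 430 .tip .tip))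
(.node 19746909 399 (.node 19746903 423 .tip .tip) (.node 19746911 431 .tip .tip)))
(.node 19748949 455
(.node 19748941 462 (.node 19748935 486 .tip .tip) (.node 19748943 494 .tip .tip))
(.node 19748957 463 (.node 19748951 487 .tip .tip) (.node 19748959 495 .tip .tip))))
(.node 19757125 470
(.node 19755093 407
(.node 19755085 414 (.node 19755079 438 .tip .tip) (.node 19755087 446 .tip .tip))
(.node 19755101 415 (.node 19755095 439 .tip .tip) (.node 19755103 447 .tip .tip)))
(.node 19757141 471
(.node 19757133 478 (.node 19757127 502 .tip .tip) (.node 19757135 510 .tip .tip))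
(.node 19757149 479 (.node 19757143 503 .tip .tip) (.node 19757151 511 .tip .tip)))))))))

/-- The orbit. -/
def clMOrb : Tab (ℕ × ℕ) :=
(.node 21 (.node 10 (.node 5 (.node 2 (.node 1 (.leaf (17045577, 25720921)) (.leaf (17045579, 25704519))) (.node 1 (.leaf (17045585, 17043521)) (.node 1 (.leaf (17045587, 17059919)) (.leaf (17045593, 27529303)))))
(.node 2 (.node 1 (.leaf (17045595, 9189447)) (.leaf (17109061, 25315397))) (.node 1 (.leaf (17109063, 10960991)) (.node 1 (.leaf (17109073, 19802199)) (.leaf (17109075, 19802187))))))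
(.node 5 (.node 2 (.node 1 (.leaf (17109077, 10971209)) (.leaf (17109079, 11495495))) (.node 1 (.leaf (17111117, 25385043)) (.node 1 (.leaf (17111119, 9384027)) (.leaf (17111121, 19085399)))))
(.node 3 (.node 1 (.leaf (17111123, 17715285)) (.node 1 (.leaf (17111133, 9056345)) (.leaf (17111135, 27662407)))) (.node 1 (.leaf (19140677, 31801425)) (.node 1 (.leaf (19140679, 4999233)) (.leaf (19140681, 4808797)))))))
(.node 10 (.node 5 (.node 2 (.node 1 (.leaf (19140683, 21586001)) (.leaf (19140685, 23928925))) (.node 1 (.leaf (19140687, 7151683)) (.node 1 (.leaf (19142729, 4812885)) (.leaf (19142731, 29904967)))))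
(.node 2 (.node 1 (.leaf (19142741, 7100491)) (.leaf (19142743, 4544593))) (.node 1 (.leaf (19142749, 23951437)) (.node 1 (.leaf (19142751, 23951441)) (.leaf (19206213, 7292999))))))
(.node 5 (.node 2 (.node 1 (.leaf (19206215, 32131155)) (.leaf (19206233, 29763651))) (.node 1 (.leaf (19206235, 13510735)) (.node 1 (.leaf (19206237, 13314137)) (.leaf (19206239, 6776923)))))
(.node 3 (.node 1 (.leaf (19208269, 21966943)) (.node 1 (.leaf (19208271, 13310023)) (.leaf (19208277, 14839879)))) (.node 1 (.leaf (19208279, 32125001)) (.node 1 (.leaf (19208281, 4946007)) (.leaf (19208283, 21182537))))))))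

/-- The centraliser. -/
def clMCent : CentData := ⟨17045585, 512, clMEl, clMIx, 42, clMOrb⟩

/-- The classes of the involutions. -/
def invT : BT (ℕ × ℕ) :=
(.node 17567809 (1, 17180745)
(.node 15405151 (1, 24078421)
(.node 8943707 (7, 29845593)
(.node 6637655 (7, 27402313)
(.node 5128279 (4, 14841925)
(.node 4538433 (7, 32124995)
(.node 4472917 (1, 7100503)
(.node 4472905 (2, 7100503) (.node 4472899 (4, 7100491) (.node 4472897 (1, 7100491) .tip .tip) .tip) (.node 4472907 (2, 12939337) .tip .tip))
(.node 4472925 (2, 7100491) (.node 4472919 (4, 7100503) .tip .tip) (.node 4472927 (2, 15562827) .tip .tip)))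
(.node 5128259 (4, 5132363)
(.node 4538455 (7, 32125001) (.node 4538453 (7, 32125023) (.node 4538435 (7, 14839879) .tip .tip) .tip) (.node 5128257 (1, 5132363) .tip .tip))
(.node 5128271 (2, 14841925) (.node 5128269 (2, 5132363) .tip .tip) (.node 5128277 (1, 14841925) .tip .tip))))
(.node 6572105 (2, 5003333)
(.node 5193813 (7, 10971209)
(.node 5193793 (7, 26091601) (.node 5128283 (2, 31602783) (.node 5128281 (2, 5132373) .tip .tip) .tip) (.node 5193795 (7, 11495495) .tip .tip))
(.node 6572097 (1, 4544593) (.node 5193815 (7, 25567327) .tip .tip) (.node 6572099 (4, 4544593) .tip .tip)))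
(.node 6572127 (2, 5003355)
(.node 6572119 (1, 21305439) (.node 6572117 (4, 21305439) (.node 6572107 (2, 4544593) .tip .tip) .tip) (.node 6572125 (2, 21305439) .tip .tip))
(.node 6637635 (7, 14841925) (.node 6637633 (7, 13332563) .tip .tip) (.node 6637653 (7, 10641485) .tip .tip)))))
(.node 8917083 (4, 13510735)
(.node 7293013 (4, 14839879)
(.node 7292993 (1, 32125001)
(.node 7227477 (7, 12939337) (.node 7227459 (7, 15562823) (.node 7227457 (7, 14973009) .tip .tip) .tip) (.node 7227479 (7, 32258127) .tip .tip))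
(.node 7293005 (2, 14839879) (.node 7292995 (4, 32125001) .tip .tip) (.node 7293007 (2, 7295049) .tip .tip)))
(.node 8917059 (4, 29763651)
(.node 7293019 (2, 32125001) (.node 7293017 (2, 31666271) (.node 7293015 (1, 14839879) .tip .tip) .tip) (.node 8917057 (1, 29763651) .tip .tip))
(.node 8917063 (2, 29763651) (.node 8917061 (2, 21127237) .tip .tip) (.node 8917081 (1, 13510735) .tip .tip))))
(.node 8941645 (2, 23279689)
(.node 8919129 (7, 9197659)
(.node 8919105 (7, 27613251) (.node 8917087 (2, 13510735) (.node 8917085 (2, 21127233) .tip .tip) .tip) (.node 8919107 (7, 9181269) .tip .tip))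
(.node 8941633 (1, 13506641) (.node 8919131 (7, 29825099) .tip .tip) (.node 8941635 (4, 13506641) .tip .tip)))
(.node 8941659 (4, 29775943)
(.node 8941655 (2, 13506641) (.node 8941653 (2, 4862041) (.node 8941647 (2, 29775943) .tip .tip) .tip) (.node 8941657 (1, 29775943) .tip .tip))
(.node 8943683 (7, 9189447) (.node 8943681 (7, 31860817) .tip .tip) (.node 8943705 (7, 9203787) .tip .tip))))))
(.node 12937311 (7, 12740683)
(.node 11106371 (4, 21182537)
(.node 11081793 (7, 13506641)
(.node 11079769 (4, 23208007)
(.node 11079749 (2, 6955083) (.node 11079747 (4, 29845593) (.node 11079745 (1, 29845593) .tip .tip) .tip) (.node 11079751 (2, 13592663) .tip .tip))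
(.node 11079773 (2, 29845593) (.node 11079771 (1, 23208007) .tip .tip) (.node 11079775 (2, 23208007) .tip .tip)))
(.node 11104323 (7, 9252933)
(.node 11081819 (7, 27545673) (.node 11081817 (7, 13506651) (.node 11081795 (7, 27529303) .tip .tip) .tip) (.node 11104321 (7, 29763651) .tip .tip))
(.node 11104347 (7, 13510735) (.node 11104345 (7, 15687753) .tip .tip) (.node 11106369 (1, 21182537) .tip .tip))))
(.node 12869705 (2, 32266333)
(.node 11106393 (4, 4946007)
(.node 11106389 (2, 23230531) (.node 11106383 (2, 6977601) (.node 11106381 (2, 21182537) .tip .tip) .tip) (.node 11106391 (2, 4946007) .tip .tip))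
(.node 12869697 (1, 12933185) (.node 11106395 (1, 4946007) .tip .tip) (.node 12869699 (4, 12933185) .tip .tip)))
(.node 12869727 (4, 6584399)
(.node 12869719 (2, 13441097) (.node 12869717 (2, 6584399) (.node 12869707 (2, 12933185) .tip .tip) .tip) (.node 12869725 (1, 6584399) .tip .tip))
(.node 12937283 (7, 25376855) (.node 12937281 (7, 25376833) .tip .tip) (.node 12937309 (7, 9056345) .tip .tip)))))
(.node 14968919 (2, 31723607)
(.node 13310017 (7, 11472963)
(.node 13242457 (2, 29499485)
(.node 13242437 (2, 29499473) (.node 13242435 (4, 13314137) (.node 13242433 (1, 13314137) .tip .tip) .tip) (.node 13242439 (2, 13314137) .tip .tip))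
(.node 13242461 (1, 13314133) (.node 13242459 (2, 13314133) .tip .tip) (.node 13242463 (4, 13314133) .tip .tip)))
(.node 14968899 (4, 23951441)
(.node 13310047 (7, 14962763) (.node 13310045 (7, 28203083) (.node 13310019 (7, 27662407) .tip .tip) .tip) (.node 14968897 (1, 23951441) .tip .tip))
(.node 14968907 (2, 23951437) (.node 14968905 (2, 14962763) .tip .tip) (.node 14968917 (2, 23951441) .tip .tip))))
(.node 15341661 (7, 31725643)
(.node 15032413 (7, 13314137)
(.node 15032385 (7, 29499473) (.node 14968927 (1, 23951437) (.node 14968925 (4, 23951437) .tip .tip) .tip) (.node 15032387 (7, 13314133) .tip .tip))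
(.node 15341633 (7, 9312321) (.node 15032415 (7, 29499485) .tip .tip) (.node 15341635 (7, 27660357) .tip .tip)))
(.node 15405127 (2, 24078421)
(.node 15405123 (4, 6776923) (.node 15405121 (1, 6776923) (.node 15341663 (7, 32266333) .tip .tip) .tip) (.node 15405125 (2, 21979215) .tip .tip))
(.node 15405147 (2, 21979203) (.node 15405145 (2, 6776923) .tip .tip) (.node 15405149 (4, 24078421) .tip .tip)))))))
(.node 17068097 (1, 9197659)
(.node 17045585 (6, 17043521)
(.node 17043525 (0, 31801425)
(.node 16984129 (1, 9384027)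
(.node 16916561 (2, 25892943)
(.node 16916557 (1, 25892943) (.node 16916547 (4, 25385043) (.node 16916545 (1, 25385043) .tip .tip) .tip) (.node 16916559 (4, 25892943) .tip .tip))
(.node 16916573 (2, 25385043) (.node 16916563 (2, 27684943) .tip .tip) (.node 16916575 (2, 27684947) .tip .tip)))
(.node 16984147 (2, 11210825)
(.node 16984143 (1, 10702935) (.node 16984141 (4, 10702935) (.node 16984131 (4, 9384027) .tip .tip) .tip) (.node 16984145 (2, 9384027) .tip .tip))
(.node 16984159 (2, 26161219) (.node 16984157 (2, 10702935) .tip .tip) (.node 17043523 (3, 17043521) .tip .tip))))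
(.node 17043543 (0, 32125001)
(.node 17043535 (0, 23928925)
(.node 17043531 (0, 4808797) (.node 17043529 (0, 29904967) (.node 17043527 (0, 7292999) .tip .tip) .tip) (.node 17043533 (0, 13310023) .tip .tip))
(.node 17043539 (0, 19085399) (.node 17043537 (0, 17043521) .tip .tip) (.node 17043541 (0, 10971209) .tip .tip)))
(.node 17045569 (5, 17043521)
(.node 17043549 (0, 9056345) (.node 17043547 (0, 27529303) (.node 17043545 (0, 13510735) .tip .tip) .tip) (.node 17043551 (0, 6776923) .tip .tip))
(.node 17045577 (6, 25720921) (.node 17045571 (5, 17059919) .tip .tip) (.node 17045579 (6, 25704519) .tip .tip)))))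
(.node 17053785 (2, 27881563)
(.node 17051731 (2, 11024467)
(.node 17051715 (4, 25720921)
(.node 17045595 (6, 9189447) (.node 17045593 (6, 27529303) (.node 17045587 (6, 17059919) .tip .tip) .tip) (.node 17051713 (1, 25720921) .tip .tip))
(.node 17051723 (4, 25704519) (.node 17051721 (1, 25704519) .tip .tip) (.node 17051729 (2, 25704519) .tip .tip)))
(.node 17053769 (4, 9007175)
(.node 17053761 (1, 27881563) (.node 17051739 (2, 11024463) (.node 17051737 (2, 25720921) .tip .tip) .tip) (.node 17053763 (4, 27881563) .tip .tip))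
(.node 17053777 (2, 8992835) (.node 17053771 (1, 9007175) .tip .tip) (.node 17053779 (2, 27865173) .tip .tip))))
(.node 17059931 (2, 17657923)
(.node 17059915 (2, 17659973)
(.node 17059907 (4, 17043521) (.node 17059905 (1, 17043521) (.node 17053787 (2, 9007175) .tip .tip) .tip) (.node 17059913 (2, 17043521) .tip .tip))
(.node 17059923 (4, 17059919) (.node 17059921 (1, 17059919) .tip .tip) (.node 17059929 (2, 17059919) .tip .tip)))
(.node 17061969 (4, 19683399)
(.node 17061961 (2, 19683399) (.node 17061955 (4, 19740753) (.node 17061953 (1, 19740753) .tip .tip) .tip) (.node 17061963 (2, 19230803) .tip .tip))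
(.node 17061977 (2, 19740753) (.node 17061971 (1, 19683399) .tip .tip) (.node 17061979 (2, 19150917) .tip .tip))))))
(.node 17127489 (7, 19603537)
(.node 17109061 (6, 25315397)
(.node 17070147 (4, 27545673)
(.node 17068115 (2, 27619423)
(.node 17068107 (2, 27613251) (.node 17068105 (2, 9189447) (.node 17068099 (4, 9197659) .tip .tip) .tip) (.node 17068113 (2, 9197659) .tip .tip))
(.node 17068123 (4, 9189447) (.node 17068121 (1, 9189447) .tip .tip) (.node 17070145 (1, 27545673) .tip .tip)))
(.node 17070169 (4, 27529303)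
(.node 17070161 (2, 9261123) (.node 17070155 (2, 9244765) (.node 17070153 (2, 27545673) .tip .tip) .tip) (.node 17070163 (2, 27529303) .tip .tip))
(.node 17109057 (5, 10971209) (.node 17070171 (1, 27529303) .tip .tip) (.node 17109059 (5, 11495495) .tip .tip))))
(.node 17111119 (6, 9384027)
(.node 17109079 (6, 11495495)
(.node 17109075 (6, 19802187) (.node 17109073 (6, 19802199) (.node 17109063 (6, 10960991) .tip .tip) .tip) (.node 17109077 (6, 10971209) .tip .tip))
(.node 17111107 (5, 19085399) (.node 17111105 (5, 25385043) .tip .tip) (.node 17111117 (6, 25385043) .tip .tip)))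
(.node 17125441 (7, 19099715)
(.node 17111133 (6, 9056345) (.node 17111123 (6, 17715285) (.node 17111121 (6, 19085399) .tip .tip) .tip) (.node 17111135 (6, 27662407) .tip .tip))
(.node 17125457 (7, 19099741) (.node 17125443 (7, 19085399) .tip .tip) (.node 17125459 (7, 19626057) .tip .tip)))))
(.node 17240149 (2, 27674691)
(.node 17174611 (2, 11485273)
(.node 17174595 (4, 11485273)
(.node 17127507 (7, 19015755) (.node 17127505 (7, 19030093) (.node 17127491 (7, 19603527) .tip .tip) .tip) (.node 17174593 (1, 11485273) .tip .tip))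
(.node 17174599 (4, 10960991) (.node 17174597 (1, 10960991) .tip .tip) (.node 17174609 (2, 26099783) .tip .tip)))
(.node 17240133 (4, 25315397)
(.node 17240129 (1, 27674691) (.node 17174615 (2, 10960991) (.node 17174613 (2, 8601695) .tip .tip) .tip) (.node 17240131 (4, 27674691) .tip .tip))
(.node 17240145 (2, 25315397) (.node 17240135 (1, 25315397) .tip .tip) (.node 17240147 (2, 27936863) .tip .tip))))
(.node 17457247 (4, 27662407)
(.node 17457231 (2, 28203083)
(.node 17457219 (4, 9056345) (.node 17457217 (1, 9056345) (.node 17240151 (2, 9062493) .tip .tip) .tip) (.node 17457229 (2, 25376843) .tip .tip))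
(.node 17457235 (2, 27662407) (.node 17457233 (2, 9056345) .tip .tip) (.node 17457245 (1, 27662407) .tip .tip)))
(.node 17524817 (2, 9312321)
(.node 17524813 (2, 11153479) (.node 17524803 (4, 9312321) (.node 17524801 (1, 9312321) .tip .tip) .tip) (.node 17524815 (2, 26169427) .tip .tip))
(.node 17524829 (4, 28014669) (.node 17524819 (2, 28014669) .tip .tip) (.node 17524831 (1, 28014669) .tip .tip))))))))
(.node 21237825 (1, 31801425)
(.node 19140673 (5, 31801425)
(.node 17649729 (7, 19740753)
(.node 17584221 (2, 17715285)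
(.node 17569859 (7, 17043543)
(.node 17567827 (4, 17262685)
(.node 17567815 (2, 17180745) (.node 17567813 (2, 16916571) (.node 17567811 (4, 17180745) .tip .tip) .tip) (.node 17567825 (1, 17262685) .tip .tip))
(.node 17567831 (2, 17705031) (.node 17567829 (2, 16998483) .tip .tip) (.node 17569857 (7, 17043521) .tip .tip)))
(.node 17584205 (2, 17190983)
(.node 17584193 (1, 17698891) (.node 17569875 (7, 17059919) (.node 17569873 (7, 17043531) .tip .tip) .tip) (.node 17584195 (4, 17698891) .tip .tip))
(.node 17584209 (1, 17715285) (.node 17584207 (2, 16939085) .tip .tip) (.node 17584211 (4, 17715285) .tip .tip))))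
(.node 17633351 (2, 19802187)
(.node 17586259 (7, 19802187)
(.node 17586243 (7, 19802199) (.node 17586241 (7, 17657923) (.node 17584223 (2, 17176669) .tip .tip) .tip) (.node 17586257 (7, 19359837) .tip .tip))
(.node 17633347 (4, 19802187) (.node 17633345 (1, 19802187) .tip .tip) (.node 17633349 (2, 19030093) .tip .tip)))
(.node 17635393 (7, 17176657)
(.node 17633365 (2, 19802199) (.node 17633363 (1, 19802199) (.node 17633361 (4, 19802199) .tip .tip) .tip) (.node 17633367 (2, 19816515) .tip .tip))
(.node 17635409 (7, 17698891) (.node 17635395 (7, 17715285) .tip .tip) (.node 17635411 (7, 17176669) .tip .tip)))))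
(.node 17698901 (1, 11495495)
(.node 17651795 (1, 19085399)
(.node 17651779 (4, 19626057)
(.node 17649747 (7, 17262685) (.node 17649745 (7, 17180745) (.node 17649731 (7, 19150917) .tip .tip) .tip) (.node 17651777 (1, 19626057) .tip .tip))
(.node 17651791 (2, 19099741) (.node 17651789 (2, 19626057) .tip .tip) (.node 17651793 (4, 19085399) .tip .tip)))
(.node 17698885 (2, 26091601)
(.node 17698881 (1, 10971209) (.node 17651807 (2, 19085399) (.node 17651805 (2, 19099715) .tip .tip) .tip) (.node 17698883 (4, 10971209) .tip .tip))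
(.node 17698897 (2, 25567327) (.node 17698887 (2, 11495495) .tip .tip) (.node 17698899 (2, 10971209) .tip .tip))))
(.node 17764439 (1, 27664479)
(.node 17764423 (2, 25897035)
(.node 17764419 (4, 27402313) (.node 17764417 (1, 27402313) (.node 17698903 (4, 11495495) .tip .tip) .tip) (.node 17764421 (2, 27402313) .tip .tip))
(.node 17764435 (2, 10641483) (.node 17764433 (2, 8874057) .tip .tip) (.node 17764437 (4, 27664479) .tip .tip)))
(.node 19081281 (7, 7151683)
(.node 19013709 (7, 21966943) (.node 19013699 (7, 21325895) (.node 19013697 (7, 4681793) .tip .tip) .tip) (.node 19013711 (7, 21325901) .tip .tip))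
(.node 19081293 (7, 23928925) (.node 19081283 (7, 23928901) .tip .tip) (.node 19081295 (7, 21461069) .tip .tip))))))
(.node 19208277 (6, 14839879)
(.node 19148873 (7, 21573709)
(.node 19142723 (5, 29904967)
(.node 19140683 (6, 21586001)
(.node 19140679 (6, 4999233) (.node 19140677 (6, 31801425) (.node 19140675 (5, 4808797) .tip .tip) .tip) (.node 19140681 (6, 4808797) .tip .tip))
(.node 19140687 (6, 7151683) (.node 19140685 (6, 23928925) .tip .tip) (.node 19142721 (5, 4544593) .tip .tip)))
(.node 19142749 (6, 23951437)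
(.node 19142741 (6, 7100491) (.node 19142731 (6, 29904967) (.node 19142729 (6, 4812885) .tip .tip) .tip) (.node 19142743 (6, 4544593) .tip .tip))
(.node 19148865 (7, 23619649) (.node 19142751 (6, 23951441) .tip .tip) (.node 19148867 (7, 4812885) .tip .tip))))
(.node 19206215 (6, 32131155)
(.node 19150923 (7, 21571675)
(.node 19150915 (7, 23683143) (.node 19150913 (7, 21586001) (.node 19148875 (7, 21573721) .tip .tip) .tip) (.node 19150921 (7, 4808797) .tip .tip))
(.node 19206211 (5, 13510735) (.node 19206209 (5, 32131155) .tip .tip) (.node 19206213 (6, 7292999) .tip .tip)))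
(.node 19208257 (5, 32125001)
(.node 19206237 (6, 13314137) (.node 19206235 (6, 13510735) (.node 19206233 (6, 29763651) .tip .tip) .tip) (.node 19206239 (6, 6776923) .tip .tip))
(.node 19208269 (6, 21966943) (.node 19208259 (5, 13310023) .tip .tip) (.node 19208271 (6, 13310023) .tip .tip)))))
(.node 19337285 (7, 4540495)
(.node 19232835 (7, 23208007)
(.node 19230787 (7, 4946007)
(.node 19208283 (6, 21182537) (.node 19208281 (6, 4946007) (.node 19208279 (6, 32125001) .tip .tip) .tip) (.node 19230785 (7, 21127233) .tip .tip))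
(.node 19230811 (7, 21182537) (.node 19230809 (7, 23230559) .tip .tip) (.node 19232833 (7, 6971473) .tip .tip)))
(.node 19271749 (7, 7293023)
(.node 19271745 (7, 21315649) (.node 19232859 (7, 6955083) (.node 19232857 (7, 23279689) .tip .tip) .tip) (.node 19271747 (7, 7292999) .tip .tip))
(.node 19337281 (7, 4999233) (.node 19271751 (7, 23545945) .tip .tip) (.node 19337283 (7, 23543877) .tip .tip))))
(.node 19619935 (7, 23951451)
(.node 19556447 (7, 6776923)
(.node 19556419 (7, 24078421) (.node 19556417 (7, 21979203) (.node 19337287 (7, 24068191) .tip .tip) .tip) (.node 19556445 (7, 21979215) .tip .tip))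
(.node 19619907 (7, 23472213) (.node 19619905 (7, 23951441) .tip .tip) (.node 19619933 (7, 23951437) .tip .tip)))
(.node 19863617 (7, 4544593)
(.node 19798101 (7, 7100491) (.node 19798083 (7, 7100503) (.node 19798081 (7, 21895249) .tip .tip) .tip) (.node 19798103 (7, 7295049) .tip .tip))
(.node 19863637 (7, 21305439) (.node 19863619 (7, 21829701) .tip .tip) (.node 19863639 (7, 5003355) .tip .tip)))))))
(.node 27529281 (1, 21586001)
(.node 23466049 (7, 31801425)
(.node 21368925 (2, 6766663)
(.node 21303363 (7, 29509719)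
(.node 21237835 (2, 31801425)
(.node 21237831 (4, 15024223) (.node 21237829 (1, 15024223) (.node 21237827 (4, 31801425) .tip .tip) .tip) (.node 21237833 (2, 7094343) .tip .tip))
(.node 21237839 (2, 15024223) (.node 21237837 (2, 13385819) .tip .tip) (.node 21303361 (7, 32131155) .tip .tip)))
(.node 21368901 (1, 13320279)
(.node 21368897 (1, 6766659) (.node 21303367 (7, 31672411) (.node 21303365 (7, 14829647) .tip .tip) .tip) (.node 21368899 (4, 6766659) .tip .tip))
(.node 21368921 (2, 6766659) (.node 21368903 (4, 13320279) .tip .tip) (.node 21368923 (2, 13320279) .tip .tip))))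
(.node 23334983 (1, 32262221)
(.node 21434439 (7, 10960991)
(.node 21434435 (7, 10960981) (.node 21434433 (7, 11485249) (.node 21368927 (2, 29573193) .tip .tip) .tip) (.node 21434437 (7, 32262221) .tip .tip))
(.node 23334979 (4, 4999233) (.node 23334977 (1, 4999233) .tip .tip) (.node 23334981 (4, 32262221) .tip .tip)))
(.node 23400513 (7, 27478099)
(.node 23334989 (2, 4540495) (.node 23334987 (2, 4540491) (.node 23334985 (2, 32262221) .tip .tip) .tip) (.node 23334991 (2, 4999233) .tip .tip))
(.node 23400517 (7, 27936863) (.node 23400515 (7, 13320279) .tip .tip) (.node 23400519 (7, 25315419) .tip .tip)))))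
(.node 25432141 (2, 13115471)
(.node 23531611 (2, 32131155)
(.node 23531587 (4, 32131155)
(.node 23466055 (7, 15024223) (.node 23466053 (7, 13385819) (.node 23466051 (7, 12927045) .tip .tip) .tip) (.node 23531585 (1, 32131155) .tip .tip))
(.node 23531591 (1, 7292999) (.node 23531589 (4, 7292999) .tip .tip) (.node 23531609 (2, 7292999) .tip .tip)))
(.node 25432133 (2, 29892673)
(.node 25432129 (1, 29892673) (.node 23531615 (2, 23545945) (.node 23531613 (2, 14829647) .tip .tip) .tip) (.node 25432131 (4, 29892673) .tip .tip))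
(.node 25432137 (1, 13115471) (.node 25432135 (2, 13117507) .tip .tip) (.node 25432139 (4, 13115471) .tip .tip))))
(.node 25440331 (4, 29904967)
(.node 25434187 (7, 11032671)
(.node 25434179 (7, 25696341) (.node 25434177 (7, 25712707) (.node 25432143 (2, 15231051) .tip .tip) .tip) (.node 25434185 (7, 25712731) .tip .tip))
(.node 25440323 (4, 13111385) (.node 25440321 (1, 13111385) .tip .tip) (.node 25440329 (1, 29904967) .tip .tip)))
(.node 25442369 (7, 11024467)
(.node 25440349 (2, 29904967) (.node 25440343 (2, 15224909) (.node 25440341 (2, 13111385) .tip .tip) .tip) (.node 25440351 (2, 31985747) .tip .tip))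
(.node 25442377 (7, 25720921) (.node 25442371 (7, 25704519) .tip .tip) (.node 25442379 (7, 11024463) .tip .tip))))))
(.node 29626433 (1, 7086145)
(.node 27539529 (4, 4812885)
(.node 27531331 (7, 29904967)
(.node 27529291 (1, 4808797)
(.node 27529287 (2, 21571675) (.node 27529285 (2, 4808797) (.node 27529283 (4, 21586001) .tip .tip) .tip) (.node 27529289 (4, 4808797) .tip .tip))
(.node 27529295 (2, 21586001) (.node 27529293 (2, 15280215) .tip .tip) (.node 27531329 (7, 31985747) .tip .tip)))
(.node 27537481 (7, 9007181)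
(.node 27537473 (7, 29892673) (.node 27531339 (7, 15224909) (.node 27531337 (7, 13111385) .tip .tip) .tip) (.node 27537475 (7, 9007175) .tip .tip))
(.node 27539521 (1, 21573721) (.node 27537483 (7, 27881563) .tip .tip) (.node 27539523 (4, 21573721) .tip .tip))))
(.node 29499471 (4, 13310023)
(.node 27539551 (2, 21573721)
(.node 27539543 (2, 15290463) (.node 27539541 (2, 4812885) (.node 27539531 (1, 4812885) .tip .tip) .tip) (.node 27539549 (2, 15290435) .tip .tip))
(.node 29499459 (4, 29579353) (.node 29499457 (1, 29579353) .tip .tip) (.node 29499469 (1, 13310023) .tip .tip)))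
(.node 29567041 (7, 15540289)
(.node 29499481 (2, 14899283) (.node 29499479 (2, 29579353) (.node 29499477 (2, 32184397) .tip .tip) .tip) (.node 29499483 (2, 13310023) .tip .tip))
(.node 29567053 (7, 32317519) (.node 29567043 (7, 29648983) .tip .tip) (.node 29567055 (7, 27684943) .tip .tip)))))
(.node 31664205 (4, 21966943)
(.node 29694019 (7, 11212887)
(.node 29626443 (2, 4548683)
(.node 29626439 (2, 21325901) (.node 29626437 (2, 7086145) (.node 29626435 (4, 7086145) .tip .tip) .tip) (.node 29626441 (2, 30154831) .tip .tip))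
(.node 29626447 (4, 21325901) (.node 29626445 (1, 21325901) .tip .tip) (.node 29694017 (7, 25385043) .tip .tip)))
(.node 31596621 (7, 25653343)
(.node 31596609 (7, 26161219) (.node 29694031 (7, 25892943) (.node 29694029 (7, 29513823) .tip .tip) .tip) (.node 31596611 (7, 9384005) .tip .tip))
(.node 31664193 (1, 4681793) (.node 31596623 (7, 9384027) .tip .tip) (.node 31664195 (4, 4681793) .tip .tip))))
(.node 31723591 (2, 29648983)
(.node 31664219 (2, 4681793)
(.node 31664215 (2, 6778957) (.node 31664213 (2, 21966943) (.node 31664207 (1, 21966943) .tip .tip) .tip) (.node 31664217 (2, 21395527) .tip .tip))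
(.node 31723587 (4, 7151683) (.node 31723585 (1, 7151683) .tip .tip) (.node 31723589 (2, 7151683) .tip .tip)))
(.node 31791169 (7, 15339603)
(.node 31723597 (4, 23928925) (.node 31723595 (2, 23928925) (.node 31723593 (2, 15476821) .tip .tip) .tip) (.node 31723599 (1, 23928925) .tip .tip))
(.node 31791181 (7, 29579353) (.node 31791171 (7, 13310023) .tip .tip) (.node 31791183 (7, 32184397) .tip .tip)))))))))

/-- The representatives. -/
def repL : Tab ℕ := (.node 4 (.node 2 (.node 1 (.leaf 17043537) (.leaf 17059905)) (.node 1 (.leaf 17059913) (.leaf 17043523)))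
(.node 2 (.node 1 (.leaf 17059907) (.leaf 17045569)) (.node 1 (.leaf 17045585) (.leaf 17569857))))

/-- Elements moving a representative to its product with the centre. -/
def parL : Tab ℕ := (.node 4 (.node 2 (.node 1 (.leaf 19140673) (.leaf 0)) (.node 1 (.leaf 17109057) (.leaf 0)))
(.node 2 (.node 1 (.leaf 0) (.leaf 17043525)) (.node 1 (.leaf 17043525) (.leaf 17043525))))

/-- Square roots of the centre. -/
def rootL : Tab ℕ := (.node 4 (.node 2 (.node 1 (.leaf 0) (.leaf 17109065)) (.node 1 (.leaf 0) (.leaf 0)))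
(.node 2 (.node 1 (.leaf 17109065) (.leaf 0)) (.node 1 (.leaf 0) (.leaf 0))))

end Cfsg.Lib.HeldType
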