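import Cfsg.Agent.HeldType.Swap

/-!
Data of one side.
-/

set_option autoImplicit false
set_option maxRecDepth 100000

namespace Cfsg.Lib.HeldType

/-- The centraliser data. -/
def oneEl : Tab ℕ :=
(.node 768 (.node 384 (.node 192 (.node 96 (.node 48 (.node 24 (.node 12 (.node 6 (.node 3 (.node 1 (.leaf 17043521) (.node 1 (.leaf 17260611) (.leaf 17127517))) (.node 1 (.leaf 17051729) (.node 1 (.leaf 17463361) (.leaf 17786975))))
(.node 3 (.node 1 (.leaf 16998483) (.node 1 (.leaf 17180741) (.leaf 17043537))) (.node 1 (.leaf 17135685) (.node 1 (.leaf 17258579) (.leaf 17133645)))))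
(.node 6 (.node 3 (.node 1 (.leaf 17043523) (.node 1 (.leaf 16988253) (.leaf 17717329))) (.node 1 (.leaf 16937031) (.node 1 (.leaf 17260627) (.leaf 17524807))))
(.node 3 (.node 1 (.leaf 17659985) (.node 1 (.leaf 17459279) (.leaf 17510491))) (.node 1 (.leaf 17702987) (.node 1 (.leaf 16918621) (.leaf 17127501))))))
(.node 12 (.node 6 (.node 3 (.node 1 (.leaf 17051713) (.node 1 (.leaf 17174619) (.leaf 17053771))) (.node 1 (.leaf 17442897) (.node 1 (.leaf 17764431) (.leaf 17004611))))
(.node 3 (.node 1 (.leaf 17176661) (.node 1 (.leaf 17125461) (.leaf 17260609))) (.node 1 (.leaf 17127519) (.node 1 (.leaf 17051731) (.leaf 17649733)))))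
(.node 6 (.node 3 (.node 1 (.leaf 17463377) (.node 1 (.leaf 17242181) (.leaf 16984147))) (.node 1 (.leaf 17174605) (.node 1 (.leaf 17569881) (.leaf 17510473))))
(.node 3 (.node 1 (.leaf 17191007) (.node 1 (.leaf 17786959) (.leaf 16998467))) (.node 1 (.leaf 17133657) (.node 1 (.leaf 16932937) (.leaf 17698899)))))))
(.node 24 (.node 12 (.node 6 (.node 3 (.node 1 (.leaf 17578061) (.node 1 (.leaf 17651777) (.leaf 17068119))) (.node 1 (.leaf 17721431) (.node 1 (.leaf 16937029) (.leaf 17764427))))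
(.node 3 (.node 1 (.leaf 16988239) (.node 1 (.leaf 17180757) (.leaf 17440859))) (.node 1 (.leaf 17576005) (.node 1 (.leaf 17506385) (.leaf 17135701)))))
(.node 6 (.node 3 (.node 1 (.leaf 17258563) (.node 1 (.leaf 17133661) (.leaf 17522783))) (.node 1 (.leaf 17717317) (.node 1 (.leaf 16920651) (.leaf 17256527))))
(.node 3 (.node 1 (.leaf 17045595) (.node 1 (.leaf 16982093) (.leaf 17705025))) (.node 1 (.leaf 16932951) (.node 1 (.leaf 17510487) (.leaf 17633345))))))
(.node 12 (.node 6 (.node 3 (.node 1 (.leaf 17447007) (.node 1 (.leaf 17524811) (.leaf 17715291))) (.node 1 (.leaf 16922701) (.node 1 (.leaf 17178699) (.leaf 17463363))))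
(.node 3 (.node 1 (.leaf 17786973) (.node 1 (.leaf 16998481) (.leaf 17180743))) (.node 1 (.leaf 17043539) (.node 1 (.leaf 17135687) (.leaf 17258577)))))
(.node 6 (.node 3 (.node 1 (.leaf 17133647) (.node 1 (.leaf 17703003) (.leaf 17569867))) (.node 1 (.leaf 17657949) (.node 1 (.leaf 16988237) (.leaf 17717313))))
(.node 3 (.node 1 (.leaf 17459291) (.node 1 (.leaf 17780811) (.leaf 17641553))) (.node 1 (.leaf 17440847) (.node 1 (.leaf 17246275) (.leaf 17522773))))))))
(.node 48 (.node 24 (.node 12 (.node 6 (.node 3 (.node 1 (.leaf 16920661) (.node 1 (.leaf 17649735) (.leaf 17578057))) (.node 1 (.leaf 16937047) (.node 1 (.leaf 17764441) (.leaf 17506375))))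
(.node 3 (.node 1 (.leaf 17700947) (.node 1 (.leaf 17524823) (.leaf 17659969))) (.node 1 (.leaf 17459295) (.node 1 (.leaf 17176669) (.leaf 17051719)))))
(.node 6 (.node 3 (.node 1 (.leaf 17125449) (.node 1 (.leaf 17594445) (.leaf 17195097))) (.node 1 (.leaf 17193039) (.node 1 (.leaf 17444931) (.leaf 17780821))))
(.node 3 (.node 1 (.leaf 17569877) (.node 1 (.leaf 17705027) (.leaf 17567837))) (.node 1 (.leaf 17242185) (.node 1 (.leaf 17117273) (.leaf 17059919))))))
(.node 12 (.node 6 (.node 3 (.node 1 (.leaf 17002569) (.node 1 (.leaf 17569883) (.leaf 17510475))) (.node 1 (.leaf 17191005) (.node 1 (.leaf 16932943) (.leaf 17258581))))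
(.node 3 (.node 1 (.leaf 17649751) (.node 1 (.leaf 17242199) (.leaf 16918605))) (.node 1 (.leaf 17053791) (.node 1 (.leaf 16984133) (.leaf 17782875)))))
(.node 6 (.node 3 (.node 1 (.leaf 17657931) (.node 1 (.leaf 17119315) (.leaf 17768513))) (.node 1 (.leaf 17174603) (.node 1 (.leaf 17053787) (.leaf 17442881))))
(.node 3 (.node 1 (.leaf 17764447) (.node 1 (.leaf 17004627) (.leaf 17176645))) (.node 1 (.leaf 17125445) (.node 1 (.leaf 16934995) (.leaf 17784903)))))))
(.node 24 (.node 12 (.node 6 (.node 3 (.node 1 (.leaf 16984155) (.node 1 (.leaf 17463389) (.leaf 17586255))) (.node 1 (.leaf 17526869) (.node 1 (.leaf 17440855) (.leaf 17766467))))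
(.node 3 (.node 1 (.leaf 17002583) (.node 1 (.leaf 17262687) (.leaf 17643605))) (.node 1 (.leaf 17244245) (.node 1 (.leaf 16986179) (.leaf 17178717)))))
(.node 6 (.node 3 (.node 1 (.leaf 17594441) (.node 1 (.leaf 17524825) (.leaf 17195087))) (.node 1 (.leaf 17127497) (.node 1 (.leaf 16937049) (.leaf 17719363))))
(.node 3 (.node 1 (.leaf 17586269) (.node 1 (.leaf 17059911) (.leaf 17700935))) (.node 1 (.leaf 16932949) (.node 1 (.leaf 17786971) (.leaf 16982111))))))
(.node 12 (.node 6 (.node 3 (.node 1 (.leaf 17461323) (.node 1 (.leaf 17584213) (.leaf 17528897))) (.node 1 (.leaf 17512527) (.node 1 (.leaf 17705045) (.leaf 16916571))))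
(.node 3 (.node 1 (.leaf 16988255) (.node 1 (.leaf 17717331) (.leaf 17260625))) (.node 1 (.leaf 17524805) (.node 1 (.leaf 17659987) (.leaf 17459277)))))
(.node 6 (.node 3 (.node 1 (.leaf 17510489) (.node 1 (.leaf 17702985) (.leaf 16918623))) (.node 1 (.leaf 17127503) (.node 1 (.leaf 17051715) (.leaf 17174617))))
(.node 3 (.node 1 (.leaf 17053769) (.node 1 (.leaf 17442899) (.leaf 17764429))) (.node 1 (.leaf 17004609) (.node 1 (.leaf 17176663) (.leaf 17125463)))))))))
(.node 96 (.node 48 (.node 24 (.node 12 (.node 6 (.node 3 (.node 1 (.leaf 17440843) (.node 1 (.leaf 17649749) (.leaf 17578075))) (.node 1 (.leaf 17700933) (.node 1 (.leaf 17576017) (.leaf 17242197))))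
(.node 3 (.node 1 (.leaf 16984131) (.node 1 (.leaf 17174621) (.leaf 17068127))) (.node 1 (.leaf 16998469) (.node 1 (.leaf 17721419) (.leaf 16916559)))))
(.node 6 (.node 3 (.node 1 (.leaf 17526875) (.node 1 (.leaf 17592397) (.leaf 17053783))) (.node 1 (.leaf 17702999) (.node 1 (.leaf 17444929) (.leaf 17768543))))
(.node 3 (.node 1 (.leaf 17135691) (.node 1 (.leaf 16935003) (.leaf 17784909))) (.node 1 (.leaf 17586251) (.node 1 (.leaf 17703001) (.leaf 17569865))))))
(.node 12 (.node 6 (.node 3 (.node 1 (.leaf 17657951) (.node 1 (.leaf 17780813) (.leaf 17659991))) (.node 1 (.leaf 17190991) (.node 1 (.leaf 16932957) (.leaf 17258567))))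
(.node 3 (.node 1 (.leaf 17119321) (.node 1 (.leaf 16918601) (.leaf 17000529))) (.node 1 (.leaf 17446979) (.node 1 (.leaf 17133641) (.leaf 16932953)))))
(.node 6 (.node 3 (.node 1 (.leaf 17698883) (.node 1 (.leaf 17578077) (.leaf 17651793))) (.node 1 (.leaf 17068103) (.node 1 (.leaf 17721415) (.leaf 17715281))))
(.node 3 (.node 1 (.leaf 16922693) (.node 1 (.leaf 17258585) (.leaf 17043551))) (.node 1 (.leaf 17178701) (.node 1 (.leaf 17045591) (.leaf 17764437)))))))
(.node 24 (.node 12 (.node 6 (.node 3 (.node 1 (.leaf 17643585) (.node 1 (.leaf 17586261) (.leaf 17528925))) (.node 1 (.leaf 17508439) (.node 1 (.leaf 16939095) (.leaf 17061953))))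
(.node 3 (.node 1 (.leaf 17002591) (.node 1 (.leaf 16916555) (.leaf 17242203))) (.node 1 (.leaf 17526861) (.node 1 (.leaf 17786955) (.leaf 17649755)))))
(.node 6 (.node 3 (.node 1 (.leaf 16986177) (.node 1 (.leaf 17178719) (.leaf 17784901))) (.node 1 (.leaf 17780823) (.node 1 (.leaf 16988249) (.leaf 17193053))))
(.node 3 (.node 1 (.leaf 17109065) (.node 1 (.leaf 17244247) (.leaf 17111107))) (.node 1 (.leaf 17635405) (.node 1 (.leaf 17444951) (.leaf 17256537))))))
(.node 12 (.node 6 (.node 3 (.node 1 (.leaf 17578059) (.node 1 (.leaf 16937045) (.leaf 17764443))) (.node 1 (.leaf 17506373) (.node 1 (.leaf 17700945) (.leaf 17594455))))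
(.node 3 (.node 1 (.leaf 17524803) (.node 1 (.leaf 17195095) (.leaf 17442891))) (.node 1 (.leaf 17004621) (.node 1 (.leaf 17657935) (.leaf 17459273)))))
(.node 6 (.node 3 (.node 1 (.leaf 17780825) (.node 1 (.leaf 17576021) (.leaf 17506369))) (.node 1 (.leaf 17256519) (.node 1 (.leaf 17135699) (.leaf 17045575))))
(.node 3 (.node 1 (.leaf 17641563) (.node 1 (.leaf 17246301) (.leaf 17240133))) (.node 1 (.leaf 17528907) (.node 1 (.leaf 17700943) (.leaf 17190993))))))))
(.node 48 (.node 24 (.node 12 (.node 6 (.node 3 (.node 1 (.leaf 17070159) (.node 1 (.leaf 16922691) (.leaf 17522767))) (.node 1 (.leaf 17717333) (.node 1 (.leaf 16920667) (.leaf 17256543))))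
(.node 3 (.node 1 (.leaf 17045579) (.node 1 (.leaf 16982109) (.leaf 17705041))) (.node 1 (.leaf 16932935) (.node 1 (.leaf 17510471) (.leaf 17633361)))))
(.node 6 (.node 3 (.node 1 (.leaf 17446991) (.node 1 (.leaf 17524827) (.leaf 17715275))) (.node 1 (.leaf 16922717) (.node 1 (.leaf 17178715) (.leaf 17592401))))
(.node 3 (.node 1 (.leaf 17197123) (.node 1 (.leaf 16939097) (.leaf 17262665))) (.node 1 (.leaf 17641567) (.node 1 (.leaf 17440837) (.leaf 17246283))))))
(.node 12 (.node 6 (.node 3 (.node 1 (.leaf 17043525) (.node 1 (.leaf 16988241) (.leaf 17770583))) (.node 1 (.leaf 17633347) (.node 1 (.leaf 17111115) (.leaf 16984153))))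
(.node 3 (.node 1 (.leaf 17702991) (.node 1 (.leaf 16934977) (.leaf 17512531))) (.node 1 (.leaf 17635401) (.node 1 (.leaf 17444953) (.leaf 17461319)))))
(.node 6 (.node 3 (.node 1 (.leaf 17784915) (.node 1 (.leaf 17000519) (.leaf 17594459))) (.node 1 (.leaf 17446987) (.node 1 (.leaf 17770587) (.leaf 17461343))))
(.node 3 (.node 1 (.leaf 17240147) (.node 1 (.leaf 17512517) (.leaf 16916549))) (.node 1 (.leaf 17643607) (.node 1 (.leaf 17586265) (.leaf 17786953)))))))
(.node 24 (.node 12 (.node 6 (.node 3 (.node 1 (.leaf 17528919) (.node 1 (.leaf 17721411) (.leaf 17180749))) (.node 1 (.leaf 17043543) (.node 1 (.leaf 17135705) (.leaf 17569885))))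
(.node 3 (.node 1 (.leaf 17190985) (.node 1 (.leaf 17197151) (.leaf 17457235))) (.node 1 (.leaf 17770565) (.node 1 (.leaf 17594437) (.leaf 17244249)))))
(.node 6 (.node 3 (.node 1 (.leaf 17111113) (.node 1 (.leaf 17000537) (.leaf 17594443))) (.node 1 (.leaf 17195085) (.node 1 (.leaf 16937055) (.leaf 17260613))))
(.node 3 (.node 1 (.leaf 17643591) (.node 1 (.leaf 17244231) (.leaf 17045583))) (.node 1 (.leaf 16986197) (.node 1 (.leaf 17768523) (.leaf 17635419))))))
(.node 12 (.node 6 (.node 3 (.node 1 (.leaf 17109059) (.node 1 (.leaf 17782865) (.leaf 16939075))) (.node 1 (.leaf 17766487) (.node 1 (.leaf 16986187) (.leaf 17442893))))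
(.node 3 (.node 1 (.leaf 17578079) (.node 1 (.leaf 17508421) (.leaf 17463379))) (.node 1 (.leaf 17242183) (.node 1 (.leaf 16984145) (.leaf 17174607)))))
(.node 6 (.node 3 (.node 1 (.leaf 17786957) (.node 1 (.leaf 16998465) (.leaf 17133659))) (.node 1 (.leaf 16932939) (.node 1 (.leaf 17698897) (.leaf 17578063))))
(.node 3 (.node 1 (.leaf 17651779) (.node 1 (.leaf 17068117) (.leaf 17721429))) (.node 1 (.leaf 17764425) (.node 1 (.leaf 17180759) (.leaf 17440857))))))))))
(.node 192 (.node 96 (.node 48 (.node 24 (.node 12 (.node 6 (.node 3 (.node 1 (.leaf 17576007) (.node 1 (.leaf 17506387) (.leaf 17135703))) (.node 1 (.leaf 17258561) (.node 1 (.leaf 17133663) (.leaf 17522781))))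
(.node 3 (.node 1 (.leaf 17717319) (.node 1 (.leaf 16920649) (.leaf 17256525))) (.node 1 (.leaf 17045593) (.node 1 (.leaf 16982095) (.leaf 17510485)))))
(.node 6 (.node 3 (.node 1 (.leaf 17447005) (.node 1 (.leaf 17524809) (.leaf 17715289))) (.node 1 (.leaf 16922703) (.node 1 (.leaf 17178697) (.leaf 17053775))))
(.node 3 (.node 1 (.leaf 16984149) (.node 1 (.leaf 17657933) (.leaf 17780831))) (.node 1 (.leaf 17659973) (.node 1 (.leaf 17000539) (.leaf 17190987))))))
(.node 12 (.node 6 (.node 3 (.node 1 (.leaf 17782867) (.node 1 (.leaf 17567809) (.leaf 17459275))) (.node 1 (.leaf 17780827) (.node 1 (.leaf 17641537) (.leaf 17440863))))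
(.node 3 (.node 1 (.leaf 17246291) (.node 1 (.leaf 17522757) (.leaf 16920645))) (.node 1 (.leaf 17117267) (.node 1 (.leaf 17659995) (.leaf 17260637)))))
(.node 6 (.node 3 (.node 1 (.leaf 17002575) (.node 1 (.leaf 17195093) (.leaf 17578071))) (.node 1 (.leaf 17508419) (.node 1 (.leaf 17178711) (.leaf 17111135))))
(.node 3 (.node 1 (.leaf 17766485) (.node 1 (.leaf 17256521) (.leaf 16988233))) (.node 1 (.leaf 17180761) (.node 1 (.leaf 17061955) (.leaf 17002589)))))))
(.node 24 (.node 12 (.node 6 (.node 3 (.node 1 (.leaf 16922695) (.node 1 (.leaf 17053781) (.leaf 17127515))) (.node 1 (.leaf 17592415) (.node 1 (.leaf 17197131) (.leaf 16939093))))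
(.node 3 (.node 1 (.leaf 17262657) (.node 1 (.leaf 17770575) (.leaf 17633365))) (.node 1 (.leaf 17440841) (.node 1 (.leaf 17578073) (.leaf 17576019)))))
(.node 6 (.node 3 (.node 1 (.leaf 16916565) (.node 1 (.leaf 17242177) (.leaf 17698889))) (.node 1 (.leaf 17651791) (.node 1 (.leaf 17506391) (.leaf 17700931))))
(.node 3 (.node 1 (.leaf 17524817) (.node 1 (.leaf 17195077) (.leaf 17442905))) (.node 1 (.leaf 17004639) (.node 1 (.leaf 17070151) (.leaf 17576013))))))
(.node 12 (.node 6 (.node 3 (.node 1 (.leaf 17657939) (.node 1 (.leaf 17457229) (.leaf 17059905))) (.node 1 (.leaf 17176653) (.node 1 (.leaf 17051735) (.leaf 17125465))))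
(.node 3 (.node 1 (.leaf 17594461) (.node 1 (.leaf 17195081) (.leaf 17193055))) (.node 1 (.leaf 17444947) (.node 1 (.leaf 17780805) (.leaf 17569861)))))
(.node 6 (.node 3 (.node 1 (.leaf 17705043) (.node 1 (.leaf 17567821) (.leaf 17242201))) (.node 1 (.leaf 17117257) (.node 1 (.leaf 17059935) (.leaf 17002585))))
(.node 3 (.node 1 (.leaf 16982099) (.node 1 (.leaf 17461313) (.leaf 17584219))) (.node 1 (.leaf 17442909) (.node 1 (.leaf 17764423) (.leaf 17004617))))))))
(.node 48 (.node 24 (.node 12 (.node 6 (.node 3 (.node 1 (.leaf 17260615) (.node 1 (.leaf 17127507) (.leaf 17512533))) (.node 1 (.leaf 17258587) (.node 1 (.leaf 17510477) (.leaf 17715267))))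
(.node 3 (.node 1 (.leaf 17635409) (.node 1 (.leaf 17770571) (.leaf 17633371))) (.node 1 (.leaf 17109061) (.node 1 (.leaf 16922705) (.leaf 17782853)))))
(.node 6 (.node 3 (.node 1 (.leaf 16916569) (.node 1 (.leaf 17567817) (.leaf 17512537))) (.node 1 (.leaf 17109085) (.node 1 (.leaf 17070161) (.leaf 17635399))))
(.node 3 (.node 1 (.leaf 17508437) (.node 1 (.leaf 16988235) (.leaf 17111125))) (.node 1 (.leaf 16920641) (.node 1 (.leaf 16937039) (.leaf 17260629))))))
(.node 12 (.node 6 (.node 3 (.node 1 (.leaf 17703007) (.node 1 (.leaf 17461341) (.leaf 17240145))) (.node 1 (.leaf 17512519) (.node 1 (.leaf 16916551) (.leaf 16939099))))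
(.node 3 (.node 1 (.leaf 17262667) (.node 1 (.leaf 16916553) (.leaf 17526863))) (.node 1 (.leaf 17649757) (.node 1 (.leaf 17463367) (.leaf 16939077)))))
(.node 6 (.node 3 (.node 1 (.leaf 17061975) (.node 1 (.leaf 17446985) (.leaf 17770585))) (.node 1 (.leaf 17197121) (.node 1 (.leaf 17584193) (.leaf 17061961))))
(.node 3 (.node 1 (.leaf 17698895) (.node 1 (.leaf 17440861) (.leaf 17766471))) (.node 1 (.leaf 17780815) (.node 1 (.leaf 17659989) (.leaf 17190989)))))))
(.node 24 (.node 12 (.node 6 (.node 3 (.node 1 (.leaf 16932959) (.node 1 (.leaf 17258565) (.leaf 17119323))) (.node 1 (.leaf 16918603) (.node 1 (.leaf 17768541) (.leaf 17000531))))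
(.node 3 (.node 1 (.leaf 17446977) (.node 1 (.leaf 17643609) (.leaf 17133633))) (.node 1 (.leaf 17786963) (.node 1 (.leaf 17528905) (.leaf 17721433)))))
(.node 6 (.node 3 (.node 1 (.leaf 17051727) (.node 1 (.leaf 16982101) (.leaf 17705051))) (.node 1 (.leaf 17700951) (.node 1 (.leaf 17576003) (.leaf 17068109))))
(.node 3 (.node 1 (.leaf 16998487) (.node 1 (.leaf 16916573) (.leaf 17526857))) (.node 1 (.leaf 17782859) (.node 1 (.leaf 17657947) (.leaf 17119299))))))
(.node 12 (.node 6 (.node 3 (.node 1 (.leaf 17768529) (.node 1 (.leaf 17766473) (.leaf 17174609))) (.node 1 (.leaf 17127491) (.node 1 (.leaf 17262681) (.leaf 17717343))))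
(.node 3 (.node 1 (.leaf 17592389) (.node 1 (.leaf 17633355) (.leaf 17444933))) (.node 1 (.leaf 17457243) (.node 1 (.leaf 16986205) (.leaf 17109071)))))
(.node 6 (.node 3 (.node 1 (.leaf 16922709) (.node 1 (.leaf 17000535) (.leaf 17190979))) (.node 1 (.leaf 17446999) (.node 1 (.leaf 17700941) (.leaf 16937025))))
(.node 3 (.node 1 (.leaf 17240151) (.node 1 (.leaf 17528927) (.leaf 17176659))) (.node 1 (.leaf 16934979) (.node 1 (.leaf 17784919) (.leaf 16984139)))))))))
(.node 96 (.node 48 (.node 24 (.node 12 (.node 6 (.node 3 (.node 1 (.leaf 17463373) (.node 1 (.leaf 17586271) (.leaf 17526853))) (.node 1 (.leaf 17440839) (.node 1 (.leaf 17766483) (.leaf 17002567))))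
(.node 3 (.node 1 (.leaf 17262671) (.node 1 (.leaf 17643589) (.leaf 17244229))) (.node 1 (.leaf 16986195) (.node 1 (.leaf 17594457) (.leaf 17195103)))))
(.node 6 (.node 3 (.node 1 (.leaf 17127513) (.node 1 (.leaf 16937033) (.leaf 17719379))) (.node 1 (.leaf 17586253) (.node 1 (.leaf 17059927) (.leaf 16932933))))
(.node 3 (.node 1 (.leaf 17461339) (.node 1 (.leaf 17584197) (.leaf 17528913))) (.node 1 (.leaf 17512543) (.node 1 (.leaf 17705029) (.leaf 17641549))))))
(.node 12 (.node 6 (.node 3 (.node 1 (.leaf 17526849) (.node 1 (.leaf 17719391) (.leaf 17193033))) (.node 1 (.leaf 17461325) (.node 1 (.leaf 17592403) (.leaf 17633351))))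
(.node 3 (.node 1 (.leaf 17703005) (.node 1 (.leaf 17444943) (.leaf 17768533))) (.node 1 (.leaf 17260635) (.node 1 (.leaf 17127499) (.leaf 17051741)))))
(.node 6 (.node 3 (.node 1 (.leaf 17649747) (.node 1 (.leaf 17508431) (.leaf 17719361))) (.node 1 (.leaf 17641555) (.node 1 (.leaf 17197135) (.leaf 17059925))))
(.node 3 (.node 1 (.leaf 17641565) (.node 1 (.leaf 17246281) (.leaf 16988247))) (.node 1 (.leaf 17180739) (.node 1 (.leaf 17592387) (.leaf 17197137)))))))
(.node 24 (.node 12 (.node 6 (.node 3 (.node 1 (.leaf 17125457) (.node 1 (.leaf 16939087) (.leaf 17721421))) (.node 1 (.leaf 17584215) (.node 1 (.leaf 17061981) (.leaf 16986185))))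
(.node 3 (.node 1 (.leaf 17715295) (.node 1 (.leaf 16939089) (.leaf 17522755))) (.node 1 (.leaf 17657945) (.node 1 (.leaf 17457225) (.leaf 17004629)))))
(.node 6 (.node 3 (.node 1 (.leaf 17700955) (.node 1 (.leaf 16920671) (.leaf 17508427))) (.node 1 (.leaf 17715271) (.node 1 (.leaf 17457233) (.leaf 17782863))))
(.node 3 (.node 1 (.leaf 17125467) (.node 1 (.leaf 16939083) (.leaf 17766493))) (.node 1 (.leaf 17715273) (.node 1 (.leaf 17635407) (.leaf 17770589))))))
(.node 12 (.node 6 (.node 3 (.node 1 (.leaf 16937037) (.node 1 (.leaf 17260631) (.leaf 16922713))) (.node 1 (.leaf 17002561) (.node 1 (.leaf 17459283) (.leaf 17702977))))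
(.node 3 (.node 1 (.leaf 16918613) (.node 1 (.leaf 17260617) (.leaf 17053767))) (.node 1 (.leaf 17786949) (.node 1 (.leaf 17649745) (.leaf 17578053)))))
(.node 6 (.node 3 (.node 1 (.leaf 17506381) (.node 1 (.leaf 17526855) (.leaf 16934983))) (.node 1 (.leaf 17000527) (.node 1 (.leaf 17244235) (.leaf 17508445))))
(.node 3 (.node 1 (.leaf 17643595) (.node 1 (.leaf 17770567) (.leaf 16982089))) (.node 1 (.leaf 17197133) (.node 1 (.leaf 17457223) (.leaf 17586267))))))))
(.node 48 (.node 24 (.node 12 (.node 6 (.node 3 (.node 1 (.leaf 17528917) (.node 1 (.leaf 17721409) (.leaf 17569863))) (.node 1 (.leaf 17510483) (.node 1 (.leaf 17190983) (.leaf 17463387))))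
(.node 3 (.node 1 (.leaf 16998493) (.node 1 (.leaf 17635423) (.leaf 17447001))) (.node 1 (.leaf 17770569) (.node 1 (.leaf 17262679) (.leaf 17125443)))))
(.node 6 (.node 3 (.node 1 (.leaf 17651787) (.node 1 (.leaf 17240141) (.leaf 17246293))) (.node 1 (.leaf 17506395) (.node 1 (.leaf 17721439) (.leaf 17195073))))
(.node 3 (.node 1 (.leaf 17061983) (.node 1 (.leaf 16918611) (.leaf 17193043))) (.node 1 (.leaf 16934985) (.node 1 (.leaf 17461333) (.leaf 17240155))))))
(.node 12 (.node 6 (.node 3 (.node 1 (.leaf 17051733) (.node 1 (.leaf 16982081) (.leaf 17780807))) (.node 1 (.leaf 17117275) (.node 1 (.leaf 17717315) (.leaf 17459289))))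
(.node 3 (.node 1 (.leaf 17780809) (.node 1 (.leaf 17440845) (.leaf 17246273))) (.node 1 (.leaf 17522775) (.node 1 (.leaf 16920663) (.leaf 17524821)))))
(.node 6 (.node 3 (.node 1 (.leaf 17659971) (.node 1 (.leaf 17459293) (.leaf 17176671))) (.node 1 (.leaf 17051717) (.node 1 (.leaf 17125451) (.leaf 17594447))))
(.node 3 (.node 1 (.leaf 17195099) (.node 1 (.leaf 17193037) (.leaf 17569879))) (.node 1 (.leaf 17567839) (.node 1 (.leaf 17242187) (.leaf 17059917)))))))
(.node 24 (.node 12 (.node 6 (.node 3 (.node 1 (.leaf 17002571) (.node 1 (.leaf 16932941) (.leaf 17258583))) (.node 1 (.leaf 16918607) (.node 1 (.leaf 17053789) (.leaf 16984135))))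
(.node 3 (.node 1 (.leaf 17782873) (.node 1 (.leaf 17657929) (.leaf 17119313))) (.node 1 (.leaf 17768515) (.node 1 (.leaf 17174601) (.leaf 17053785)))))
(.node 6 (.node 3 (.node 1 (.leaf 17442883) (.node 1 (.leaf 17764445) (.leaf 17004625))) (.node 1 (.leaf 17176647) (.node 1 (.leaf 17125447) (.leaf 16934993))))
(.node 3 (.node 1 (.leaf 17463391) (.node 1 (.leaf 17526871) (.leaf 17440853))) (.node 1 (.leaf 17766465) (.node 1 (.leaf 17002581) (.leaf 17262685))))))
(.node 12 (.node 6 (.node 3 (.node 1 (.leaf 16937051) (.node 1 (.leaf 17059909) (.leaf 17786969))) (.node 1 (.leaf 17461321) (.node 1 (.leaf 17528899) (.leaf 17512525))))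
(.node 3 (.node 1 (.leaf 17705047) (.node 1 (.leaf 17256535) (.leaf 17135683))) (.node 1 (.leaf 17641547) (.node 1 (.leaf 17246285) (.leaf 17700949)))))
(.node 6 (.node 3 (.node 1 (.leaf 17576001) (.node 1 (.leaf 17242195) (.leaf 17698907))) (.node 1 (.leaf 17651805) (.node 1 (.leaf 17457221) (.leaf 17506383))))
(.node 3 (.node 1 (.leaf 16918609) (.node 1 (.leaf 17240143) (.leaf 17784899))) (.node 1 (.leaf 17068111) (.node 1 (.leaf 16998485) (.leaf 17721435)))))))))))
(.node 384 (.node 192 (.node 96 (.node 48 (.node 24 (.node 12 (.node 6 (.node 3 (.node 1 (.leaf 16916575) (.node 1 (.leaf 17526859) (.leaf 17592413))) (.node 1 (.leaf 17702983) (.node 1 (.leaf 17444945) (.leaf 17768527))))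
(.node 3 (.node 1 (.leaf 17135707) (.node 1 (.leaf 16934987) (.leaf 17784925))) (.node 1 (.leaf 17193041) (.node 1 (.leaf 17698911) (.leaf 17463365)))))
(.node 6 (.node 3 (.node 1 (.leaf 17786961) (.node 1 (.leaf 17635415) (.leaf 17659993))) (.node 1 (.leaf 17569871) (.node 1 (.leaf 17117249) (.leaf 17770579))))
(.node 3 (.node 1 (.leaf 17512521) (.node 1 (.leaf 17705049) (.leaf 17197127))) (.node 1 (.leaf 17059923) (.node 1 (.leaf 17119303) (.leaf 17256539))))))
(.node 12 (.node 6 (.node 3 (.node 1 (.leaf 17649741) (.node 1 (.leaf 17463383) (.leaf 17510493))) (.node 1 (.leaf 17109087) (.node 1 (.leaf 17070163) (.leaf 17635397))))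
(.node 3 (.node 1 (.leaf 17256517) (.node 1 (.leaf 17584217) (.leaf 17256523))) (.node 1 (.leaf 17045581) (.node 1 (.leaf 17180767) (.leaf 17584199)))))
(.node 6 (.node 3 (.node 1 (.leaf 17719381) (.node 1 (.leaf 17567819) (.leaf 17512539))) (.node 1 (.leaf 17461315) (.node 1 (.leaf 17244227) (.leaf 17719371))))
(.node 3 (.node 1 (.leaf 17053773) (.node 1 (.leaf 16984151) (.leaf 17780829))) (.node 1 (.leaf 17659975) (.node 1 (.leaf 17567811) (.leaf 17508443)))))))
(.node 24 (.node 12 (.node 6 (.node 3 (.node 1 (.leaf 17459267) (.node 1 (.leaf 16998477) (.leaf 17193047))) (.node 1 (.leaf 17119305) (.node 1 (.leaf 16918617) (.leaf 17000513))))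
(.node 3 (.node 1 (.leaf 17446995) (.node 1 (.leaf 17133651) (.leaf 17786945))) (.node 1 (.leaf 17528923) (.node 1 (.leaf 16982087) (.leaf 17705033)))))
(.node 6 (.node 3 (.node 1 (.leaf 17240153) (.node 1 (.leaf 17782869) (.leaf 17657921))) (.node 1 (.leaf 17567829) (.node 1 (.leaf 17576015) (.leaf 17649731))))
(.node 3 (.node 1 (.leaf 17070165) (.node 1 (.leaf 17111133) (.leaf 17068113))) (.node 1 (.leaf 17715265) (.node 1 (.leaf 17258569) (.leaf 17043535))))))
(.node 12 (.node 6 (.node 3 (.node 1 (.leaf 17764421) (.node 1 (.leaf 17643601) (.leaf 17586245))) (.node 1 (.leaf 17528909) (.node 1 (.leaf 17508423) (.leaf 16939079))))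
(.node 3 (.node 1 (.leaf 17061969) (.node 1 (.leaf 17526877) (.leaf 17649739))) (.node 1 (.leaf 16986193) (.node 1 (.leaf 17178703) (.leaf 17784917)))))
(.node 6 (.node 3 (.node 1 (.leaf 17109081) (.node 1 (.leaf 17111123) (.leaf 17635421))) (.node 1 (.leaf 17444935) (.node 1 (.leaf 17442895) (.leaf 17045571))))
(.node 3 (.node 1 (.leaf 17592395) (.node 1 (.leaf 16982097) (.leaf 17510495))) (.node 1 (.leaf 17633357) (.node 1 (.leaf 17463385) (.leaf 16998495))))))))
(.node 48 (.node 24 (.node 12 (.node 6 (.node 3 (.node 1 (.leaf 17180753) (.node 1 (.leaf 17766477) (.leaf 17442911))) (.node 1 (.leaf 17004619) (.node 1 (.leaf 17127509) (.leaf 17461331))))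
(.node 3 (.node 1 (.leaf 17721427) (.node 1 (.leaf 17584205) (.leaf 16920655))) (.node 1 (.leaf 17061963) (.node 1 (.leaf 17117277) (.leaf 17584211)))))
(.node 6 (.node 3 (.node 1 (.leaf 17176641) (.node 1 (.leaf 16918619) (.leaf 17240139))) (.node 1 (.leaf 17651799) (.node 1 (.leaf 17576025) (.leaf 17125469))))
(.node 3 (.node 1 (.leaf 17117253) (.node 1 (.leaf 17119309) (.leaf 17584201))) (.node 1 (.leaf 17643615) (.node 1 (.leaf 17117259) (.leaf 17770573))))))
(.node 12 (.node 6 (.node 3 (.node 1 (.leaf 17649743) (.node 1 (.leaf 17463381) (.leaf 17059931))) (.node 1 (.leaf 17586243) (.node 1 (.leaf 17510467) (.leaf 17190999))))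
(.node 3 (.node 1 (.leaf 17463371) (.node 1 (.leaf 16988231) (.leaf 17180755))) (.node 1 (.leaf 17045573) (.node 1 (.leaf 17715269) (.leaf 17782861)))))
(.node 6 (.node 3 (.node 1 (.leaf 16939081) (.node 1 (.leaf 17766495) (.leaf 17508425))) (.node 1 (.leaf 17193035) (.node 1 (.leaf 17461327) (.leaf 17178713))))
(.node 3 (.node 1 (.leaf 17111127) (.node 1 (.leaf 16920643) (.leaf 17702981))) (.node 1 (.leaf 17569873) (.node 1 (.leaf 17657925) (.leaf 17043545)))))))
(.node 24 (.node 12 (.node 6 (.node 3 (.node 1 (.leaf 17567835) (.node 1 (.leaf 17512523) (.leaf 17004631))) (.node 1 (.leaf 17700953) (.node 1 (.leaf 16920669) (.leaf 17526851))))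
(.node 3 (.node 1 (.leaf 17719389) (.node 1 (.leaf 17109079) (.leaf 17070169))) (.node 1 (.leaf 17193027) (.node 1 (.leaf 17053765) (.leaf 16935001)))))
(.node 6 (.node 3 (.node 1 (.leaf 16916567) (.node 1 (.leaf 17242179) (.leaf 17698891))) (.node 1 (.leaf 17651789) (.node 1 (.leaf 17506389) (.leaf 17700929))))
(.node 3 (.node 1 (.leaf 17594439) (.node 1 (.leaf 17524819) (.leaf 17195079))) (.node 1 (.leaf 17442907) (.node 1 (.leaf 17004637) (.leaf 17070149))))))
(.node 12 (.node 6 (.node 3 (.node 1 (.leaf 17180763) (.node 1 (.leaf 17246289) (.leaf 17657937))) (.node 1 (.leaf 17457231) (.node 1 (.leaf 17262659) (.leaf 17059907))))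
(.node 3 (.node 1 (.leaf 17715293) (.node 1 (.leaf 17176643) (.leaf 16937041))) (.node 1 (.leaf 17260623) (.node 1 (.leaf 17109069) (.leaf 16922711)))))
(.node 6 (.node 3 (.node 1 (.leaf 17133635) (.node 1 (.leaf 17244237) (.leaf 16986207))) (.node 1 (.leaf 17178693) (.node 1 (.leaf 17000521) (.leaf 17191001))))
(.node 3 (.node 1 (.leaf 17782849) (.node 1 (.leaf 17567827) (.leaf 17659977))) (.node 1 (.leaf 17508433) (.node 1 (.leaf 17111117) (.leaf 17240149)))))))))
(.node 96 (.node 48 (.node 24 (.node 12 (.node 6 (.node 3 (.node 1 (.leaf 17700959) (.node 1 (.leaf 17190977) (.leaf 17070175))) (.node 1 (.leaf 16922707) (.node 1 (.leaf 16934989) (.leaf 17522771))))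
(.node 3 (.node 1 (.leaf 17717325) (.node 1 (.leaf 17180737) (.leaf 17174611))) (.node 1 (.leaf 17766491) (.node 1 (.leaf 17584221) (.leaf 17719375)))))
(.node 6 (.node 3 (.node 1 (.leaf 17061979) (.node 1 (.leaf 17698909) (.leaf 17000517))) (.node 1 (.leaf 17651781) (.node 1 (.leaf 17461329) (.leaf 17117271))))
(.node 3 (.node 1 (.leaf 17584203) (.node 1 (.leaf 17457241) (.leaf 16937043))) (.node 1 (.leaf 17059913) (.node 1 (.leaf 17004633) (.leaf 17000533))))))
(.node 12 (.node 6 (.node 3 (.node 1 (.leaf 17446997) (.node 1 (.leaf 17569859) (.leaf 16986191))) (.node 1 (.leaf 17109063) (.node 1 (.leaf 17782855) (.leaf 17715279))))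
(.node 3 (.node 1 (.leaf 17592385) (.node 1 (.leaf 17197139) (.leaf 17641551))) (.node 1 (.leaf 17246299) (.node 1 (.leaf 17043541) (.leaf 16988225)))))
(.node 6 (.node 3 (.node 1 (.leaf 17633363) (.node 1 (.leaf 17111131) (.leaf 16984137))) (.node 1 (.leaf 17512515) (.node 1 (.leaf 17635417) (.leaf 17444937))))
(.node 3 (.node 1 (.leaf 17461335) (.node 1 (.leaf 17447003) (.leaf 17240131))) (.node 1 (.leaf 17586249) (.node 1 (.leaf 17528903) (.leaf 17180765)))))))
(.node 24 (.node 12 (.node 6 (.node 3 (.node 1 (.leaf 17043527) (.node 1 (.leaf 17135689) (.leaf 17569869))) (.node 1 (.leaf 17457219) (.node 1 (.leaf 17770581) (.leaf 17594453))))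
(.node 3 (.node 1 (.leaf 17244233) (.node 1 (.leaf 17111129) (.leaf 17195101))) (.node 1 (.leaf 17045599) (.node 1 (.leaf 16986181) (.leaf 17768539)))))
(.node 6 (.node 3 (.node 1 (.leaf 17635403) (.node 1 (.leaf 17109075) (.leaf 16939091))) (.node 1 (.leaf 16986203) (.node 1 (.leaf 17780817) (.leaf 17004615))))
(.node 3 (.node 1 (.leaf 17508429) (.node 1 (.leaf 17698903) (.leaf 17045589))) (.node 1 (.leaf 17715285) (.node 1 (.leaf 17766481) (.leaf 17584195))))))
(.node 12 (.node 6 (.node 3 (.node 1 (.leaf 17719385) (.node 1 (.leaf 16988229) (.leaf 17002563))) (.node 1 (.leaf 16922699) (.node 1 (.leaf 16998475) (.leaf 17180751))))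
(.node 3 (.node 1 (.leaf 17133649) (.node 1 (.leaf 17702993) (.leaf 17657923))) (.node 1 (.leaf 16916547) (.node 1 (.leaf 17197149) (.leaf 17592399)))))
(.node 6 (.node 3 (.node 1 (.leaf 16934999) (.node 1 (.leaf 17633349) (.leaf 17444941))) (.node 1 (.leaf 17768535) (.node 1 (.leaf 17649737) (.leaf 17242191))))
(.node 3 (.node 1 (.leaf 17510465) (.node 1 (.leaf 17526867) (.leaf 17719373))) (.node 1 (.leaf 17178707) (.node 1 (.leaf 17567831) (.leaf 17459285))))))))
(.node 48 (.node 24 (.node 12 (.node 6 (.node 3 (.node 1 (.leaf 17768521) (.node 1 (.leaf 17246277) (.leaf 17109073))) (.node 1 (.leaf 17193025) (.node 1 (.leaf 17135681) (.leaf 16935007))))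
(.node 3 (.node 1 (.leaf 17700957) (.node 1 (.leaf 17070157) (.leaf 17258573))) (.node 1 (.leaf 17000543) (.node 1 (.leaf 17190981) (.leaf 17586247)))))
(.node 6 (.node 3 (.node 1 (.leaf 17174599) (.node 1 (.leaf 17117263) (.leaf 16982105))) (.node 1 (.leaf 17176649) (.node 1 (.leaf 17000525) (.leaf 16918615))))
(.node 3 (.node 1 (.leaf 17133643) (.node 1 (.leaf 17567823) (.leaf 17193051))) (.node 1 (.leaf 16934981) (.node 1 (.leaf 17256529) (.leaf 17461337))))))
(.node 12 (.node 6 (.node 3 (.node 1 (.leaf 17244241) (.node 1 (.leaf 17190997) (.leaf 17463369))) (.node 1 (.leaf 16998479) (.node 1 (.leaf 17635395) (.leaf 17444957))))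
(.node 3 (.node 1 (.leaf 16988227) (.node 1 (.leaf 17440849) (.leaf 17576011))) (.node 1 (.leaf 17786967) (.node 1 (.leaf 16998489) (.leaf 17260619)))))
(.node 6 (.node 3 (.node 1 (.leaf 17524829) (.node 1 (.leaf 17702995) (.leaf 17659979))) (.node 1 (.leaf 17119317) (.node 1 (.leaf 16918593) (.leaf 17592409))))
(.node 3 (.node 1 (.leaf 17522761) (.node 1 (.leaf 17657943) (.leaf 16982107))) (.node 1 (.leaf 16916561) (.node 1 (.leaf 16920665) (.leaf 17508447)))))))
(.node 24 (.node 12 (.node 6 (.node 3 (.node 1 (.leaf 17643597) (.node 1 (.leaf 17442903) (.leaf 16934997))) (.node 1 (.leaf 17770591) (.node 1 (.leaf 17109067) (.leaf 16922715))))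
(.node 3 (.node 1 (.leaf 17459281) (.node 1 (.leaf 17127505) (.leaf 17764419))) (.node 1 (.leaf 17506393) (.node 1 (.leaf 17700937) (.leaf 17717323)))))
(.node 6 (.node 3 (.node 1 (.leaf 17059933) (.node 1 (.leaf 16920653) (.leaf 17508441))) (.node 1 (.leaf 17784921) (.node 1 (.leaf 17178689) (.leaf 17705039))))
(.node 3 (.node 1 (.leaf 17457237) (.node 1 (.leaf 17444939) (.leaf 16984141))) (.node 1 (.leaf 17119327) (.node 1 (.leaf 16918597) (.leaf 17195091))))))
(.node 12 (.node 6 (.node 3 (.node 1 (.leaf 17459271) (.node 1 (.leaf 17721437) (.leaf 16932945))) (.node 1 (.leaf 17246279) (.node 1 (.leaf 17197145) (.leaf 17715277))))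
(.node 3 (.node 1 (.leaf 17457247) (.node 1 (.leaf 17258571) (.leaf 17043533))) (.node 1 (.leaf 17643587) (.node 1 (.leaf 17526879) (.leaf 17068101)))))
(.node 6 (.node 3 (.node 1 (.leaf 16984129) (.node 1 (.leaf 17174623) (.leaf 17068125))) (.node 1 (.leaf 16998471) (.node 1 (.leaf 17721417) (.leaf 16916557))))
(.node 3 (.node 1 (.leaf 17526873) (.node 1 (.leaf 17702997) (.leaf 17784911))) (.node 1 (.leaf 16932955) (.node 1 (.leaf 17698881) (.leaf 17651795))))))))))
(.node 192 (.node 96 (.node 48 (.node 24 (.node 12 (.node 6 (.node 3 (.node 1 (.leaf 17721413) (.node 1 (.leaf 17715283) (.leaf 17043549))) (.node 1 (.leaf 17764439) (.node 1 (.leaf 17586263) (.leaf 17649753))))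
(.node 3 (.node 1 (.leaf 16988251) (.node 1 (.leaf 17111105) (.leaf 17444949))) (.node 1 (.leaf 17524801) (.node 1 (.leaf 17442889) (.leaf 17004623)))))
(.node 6 (.node 3 (.node 1 (.leaf 17576023) (.node 1 (.leaf 17506371) (.leaf 17135697))) (.node 1 (.leaf 17641561) (.node 1 (.leaf 17246303) (.leaf 17240135))))
(.node 3 (.node 1 (.leaf 17190995) (.node 1 (.leaf 16922689) (.leaf 17522765))) (.node 1 (.leaf 17717335) (.node 1 (.leaf 17256541) (.leaf 17045577))))))
(.node 12 (.node 6 (.node 3 (.node 1 (.leaf 17510469) (.node 1 (.leaf 17446989) (.leaf 16922719))) (.node 1 (.leaf 16988243) (.node 1 (.leaf 17702989) (.leaf 17512529))))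
(.node 3 (.node 1 (.leaf 17444955) (.node 1 (.leaf 17461317) (.leaf 17784913))) (.node 1 (.leaf 17569887) (.node 1 (.leaf 17244251) (.leaf 16937053)))))
(.node 6 (.node 3 (.node 1 (.leaf 16986199) (.node 1 (.leaf 17109057) (.leaf 16939073))) (.node 1 (.leaf 17766489) (.node 1 (.leaf 17174593) (.leaf 17717327))))
(.node 3 (.node 1 (.leaf 17592405) (.node 1 (.leaf 17000523) (.leaf 17191003))) (.node 1 (.leaf 17782851) (.node 1 (.leaf 17567825) (.leaf 17193029)))))))
(.node 24 (.node 12 (.node 6 (.node 3 (.node 1 (.leaf 17070171) (.node 1 (.leaf 17119319) (.leaf 16918595))) (.node 1 (.leaf 17457239) (.node 1 (.leaf 17117251) (.leaf 17260621))))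
(.node 3 (.node 1 (.leaf 17578055) (.node 1 (.leaf 17508435) (.leaf 17178695))) (.node 1 (.leaf 17111119) (.node 1 (.leaf 17766469) (.leaf 17180745)))))
(.node 6 (.node 3 (.node 1 (.leaf 17061971) (.node 1 (.leaf 17002573) (.leaf 17197147))) (.node 1 (.leaf 17262673) (.node 1 (.leaf 17698893) (.leaf 17043547))))
(.node 3 (.node 1 (.leaf 17717341) (.node 1 (.leaf 17643599) (.leaf 17651785))) (.node 1 (.leaf 16920657) (.node 1 (.leaf 17244239) (.leaf 17125453))))))
(.node 12 (.node 6 (.node 3 (.node 1 (.leaf 17719369) (.node 1 (.leaf 17068099) (.leaf 17070153))) (.node 1 (.leaf 17569857) (.node 1 (.leaf 17657941) (.leaf 17043529))))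
(.node 3 (.node 1 (.leaf 17127493) (.node 1 (.leaf 17117255) (.leaf 17119311))) (.node 1 (.leaf 17643613) (.node 1 (.leaf 17766475) (.leaf 17592393)))))
(.node 6 (.node 3 (.node 1 (.leaf 17002587) (.node 1 (.leaf 17262677) (.leaf 17125441))) (.node 1 (.leaf 16918599) (.node 1 (.leaf 17768537) (.leaf 17651797))))
(.node 3 (.node 1 (.leaf 17576027) (.node 1 (.leaf 17125471) (.leaf 17045569))) (.node 1 (.leaf 17197141) (.node 1 (.leaf 17256533) (.leaf 17641545))))))))
(.node 48 (.node 24 (.node 12 (.node 6 (.node 3 (.node 1 (.leaf 17246287) (.node 1 (.leaf 17242193) (.leaf 17698905))) (.node 1 (.leaf 17651807) (.node 1 (.leaf 17784897) (.leaf 17117279))))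
(.node 3 (.node 1 (.leaf 17068097) (.node 1 (.leaf 17459265) (.leaf 17070167))) (.node 1 (.leaf 17576029) (.node 1 (.leaf 17457245) (.leaf 17059921)))))
(.node 6 (.node 3 (.node 1 (.leaf 17176657) (.node 1 (.leaf 16937027) (.leaf 17244255))) (.node 1 (.leaf 16986189) (.node 1 (.leaf 17784907) (.leaf 17651803))))
(.node 3 (.node 1 (.leaf 17782871) (.node 1 (.leaf 17061965) (.leaf 17197125))) (.node 1 (.leaf 17119301) (.node 1 (.leaf 17117261) (.leaf 16982083))))))
(.node 12 (.node 6 (.node 3 (.node 1 (.leaf 17635393) (.node 1 (.leaf 17109077) (.leaf 17567833))) (.node 1 (.leaf 17070145) (.node 1 (.leaf 17111109) (.leaf 17240129))))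
(.node 3 (.node 1 (.leaf 17512535) (.node 1 (.leaf 17262683) (.leaf 17061959))) (.node 1 (.leaf 17584209) (.node 1 (.leaf 17061977) (.leaf 17053779)))))
(.node 6 (.node 3 (.node 1 (.leaf 17766479) (.node 1 (.leaf 17641557) (.leaf 17643603))) (.node 1 (.leaf 17244225) (.node 1 (.leaf 17127495) (.leaf 17586241))))
(.node 3 (.node 1 (.leaf 17717321) (.node 1 (.leaf 17256513) (.leaf 17705031))) (.node 1 (.leaf 17633359) (.node 1 (.leaf 17180747) (.leaf 17135693)))))))
(.node 24 (.node 12 (.node 6 (.node 3 (.node 1 (.leaf 17045585) (.node 1 (.leaf 17002577) (.leaf 17174615))) (.node 1 (.leaf 17576031) (.node 1 (.leaf 17659983) (.leaf 17782877))))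
(.node 3 (.node 1 (.leaf 17657927) (.node 1 (.leaf 17133637) (.leaf 17068107))) (.node 1 (.leaf 17768525) (.node 1 (.leaf 17594451) (.leaf 17109083)))))
(.node 6 (.node 3 (.node 1 (.leaf 17043531) (.node 1 (.leaf 17770561) (.leaf 17633375))) (.node 1 (.leaf 17127489) (.node 1 (.leaf 17764435) (.leaf 17506377))))
(.node 3 (.node 1 (.leaf 16988245) (.node 1 (.leaf 17717339) (.leaf 17242207))) (.node 1 (.leaf 17510481) (.node 1 (.leaf 17176651) (.leaf 17193049))))))
(.node 12 (.node 6 (.node 3 (.node 1 (.leaf 17256531) (.node 1 (.leaf 17698901) (.leaf 17715287))) (.node 1 (.leaf 17512541) (.node 1 (.leaf 17197129) (.leaf 17059929))))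
(.node 3 (.node 1 (.leaf 17578049) (.node 1 (.leaf 17051721) (.leaf 17784927))) (.node 1 (.leaf 17125455) (.node 1 (.leaf 17633353) (.leaf 17258575)))))
(.node 6 (.node 3 (.node 1 (.leaf 17000541) (.node 1 (.leaf 17526865) (.leaf 17174597))) (.node 1 (.leaf 17780819) (.node 1 (.leaf 17004613) (.leaf 17240157))))
(.node 3 (.node 1 (.leaf 17508417) (.node 1 (.leaf 17045597) (.leaf 17522759))) (.node 1 (.leaf 17193045) (.node 1 (.leaf 17119307) (.leaf 17000515)))))))))
(.node 96 (.node 48 (.node 24 (.node 12 (.node 6 (.node 3 (.node 1 (.leaf 17446993) (.node 1 (.leaf 17643593) (.leaf 17786947))) (.node 1 (.leaf 17528921) (.node 1 (.leaf 17051743) (.leaf 16982085))))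
(.node 3 (.node 1 (.leaf 17705035) (.node 1 (.leaf 17649729) (.leaf 17719383))) (.node 1 (.leaf 17068115) (.node 1 (.leaf 17569875) (.leaf 17117269)))))
(.node 6 (.node 3 (.node 1 (.leaf 17176655) (.node 1 (.leaf 17125459) (.leaf 17651783))) (.node 1 (.leaf 17506397) (.node 1 (.leaf 17651801) (.leaf 17457227))))
(.node 3 (.node 1 (.leaf 17446983) (.node 1 (.leaf 17528911) (.leaf 17522753))) (.node 1 (.leaf 16934991) (.node 1 (.leaf 17522769) (.leaf 17768517))))))
(.node 12 (.node 6 (.node 3 (.node 1 (.leaf 17070155) (.node 1 (.leaf 17659997) (.leaf 17045587))) (.node 1 (.leaf 17068121) (.node 1 (.leaf 17635413) (.leaf 17592411))))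
(.node 3 (.node 1 (.leaf 17070173) (.node 1 (.leaf 17510479) (.leaf 17633373))) (.node 1 (.leaf 17262669) (.node 1 (.leaf 17059915) (.leaf 17004635)))))
(.node 6 (.node 3 (.node 1 (.leaf 17649759) (.node 1 (.leaf 17578067) (.leaf 17240137))) (.node 1 (.leaf 16982103) (.node 1 (.leaf 17633367) (.leaf 17444959))))
(.node 3 (.node 1 (.leaf 17051725) (.node 1 (.leaf 17719377) (.leaf 17641539))) (.node 1 (.leaf 17246297) (.node 1 (.leaf 16939103) (.leaf 16986201)))))))
(.node 24 (.node 12 (.node 6 (.node 3 (.node 1 (.leaf 17700939) (.node 1 (.leaf 17457217) (.leaf 17782879))) (.node 1 (.leaf 16922697) (.node 1 (.leaf 17260633) (.leaf 17786965))))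
(.node 3 (.node 1 (.leaf 17578069) (.node 1 (.leaf 17643611) (.leaf 17528901))) (.node 1 (.leaf 17721425) (.node 1 (.leaf 17262663) (.leaf 17506379)))))
(.node 6 (.node 3 (.node 1 (.leaf 17721423) (.node 1 (.leaf 17195089) (.leaf 17061967))) (.node 1 (.leaf 16916563) (.node 1 (.leaf 17242189) (.leaf 17633369))))
(.node 3 (.node 1 (.leaf 17258591) (.node 1 (.leaf 16916545) (.leaf 16998473))) (.node 1 (.leaf 16982091) (.node 1 (.leaf 17176667) (.leaf 17512513))))))
(.node 12 (.node 6 (.node 3 (.node 1 (.leaf 17242205) (.node 1 (.leaf 17584207) (.leaf 17702979))) (.node 1 (.leaf 17440833) (.node 1 (.leaf 17522777) (.leaf 17719387))))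
(.node 3 (.node 1 (.leaf 17061973) (.node 1 (.leaf 17459287) (.leaf 17780803))) (.node 1 (.leaf 17764433) (.node 1 (.leaf 17111121) (.leaf 17784905)))))
(.node 6 (.node 3 (.node 1 (.leaf 16998491) (.node 1 (.leaf 17246295) (.leaf 16984157))) (.node 1 (.leaf 17174595) (.node 1 (.leaf 17592391) (.leaf 17446981))))
(.node 3 (.node 1 (.leaf 17119297) (.node 1 (.leaf 17442901) (.leaf 17764417))) (.node 1 (.leaf 17594463) (.node 1 (.leaf 17442887) (.leaf 17524813))))))))
(.node 48 (.node 24 (.node 12 (.node 6 (.node 3 (.node 1 (.leaf 17576009) (.node 1 (.leaf 17698885) (.leaf 17522763))) (.node 1 (.leaf 17440851) (.node 1 (.leaf 16986183) (.leaf 17717337))))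
(.node 3 (.node 1 (.leaf 17584223) (.node 1 (.leaf 17061957) (.leaf 17524815))) (.node 1 (.leaf 17463375) (.node 1 (.leaf 17440835) (.leaf 17641543)))))
(.node 6 (.node 3 (.node 1 (.leaf 17442885) (.node 1 (.leaf 17594433) (.leaf 17522779))) (.node 1 (.leaf 16920647) (.node 1 (.leaf 17244243) (.leaf 16932929))))
(.node 3 (.node 1 (.leaf 17119325) (.node 1 (.leaf 16984143) (.leaf 17174613))) (.node 1 (.leaf 16939101) (.node 1 (.leaf 17705053) (.leaf 17178691))))))
(.node 12 (.node 6 (.node 3 (.node 1 (.leaf 17111111) (.node 1 (.leaf 16932931) (.leaf 17002565))) (.node 1 (.leaf 17459269) (.node 1 (.leaf 16984159) (.leaf 17719367))))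
(.node 3 (.node 1 (.leaf 17635411) (.node 1 (.leaf 16920659) (.leaf 17117265))) (.node 1 (.leaf 17260639) (.node 1 (.leaf 17178709) (.leaf 17195083)))))
(.node 6 (.node 3 (.node 1 (.leaf 17782857) (.node 1 (.leaf 17768531) (.leaf 16937035))) (.node 1 (.leaf 17528915) (.node 1 (.leaf 16939085) (.leaf 17786951))))
(.node 3 (.node 1 (.leaf 17195075) (.node 1 (.leaf 16935005) (.leaf 17506399))) (.node 1 (.leaf 17240159) (.node 1 (.leaf 17770563) (.leaf 17197143)))))))
(.node 24 (.node 12 (.node 6 (.node 3 (.node 1 (.leaf 17070147) (.node 1 (.leaf 17719365) (.leaf 17051723))) (.node 1 (.leaf 17594435) (.node 1 (.leaf 17705037) (.leaf 17586259))))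
(.node 3 (.node 1 (.leaf 17133653) (.node 1 (.leaf 17578065) (.leaf 17127511))) (.node 1 (.leaf 17051737) (.node 1 (.leaf 17135709) (.leaf 17068105)))))
(.node 6 (.node 3 (.node 1 (.leaf 17594449) (.node 1 (.leaf 17641559) (.leaf 17784923))) (.node 1 (.leaf 17659981) (.node 1 (.leaf 17133639) (.leaf 17053777))))
(.node 3 (.node 1 (.leaf 17592407) (.node 1 (.leaf 17193031) (.leaf 17567813))) (.node 1 (.leaf 17705055) (.node 1 (.leaf 17135695) (.leaf 17256515))))))
(.node 12 (.node 6 (.node 3 (.node 1 (.leaf 17135711) (.node 1 (.leaf 17053761) (.leaf 17262675))) (.node 1 (.leaf 17567815) (.node 1 (.leaf 17578051) (.leaf 17051739))))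
(.node 3 (.node 1 (.leaf 17244253) (.node 1 (.leaf 17698887) (.leaf 17176665))) (.node 1 (.leaf 17133655) (.node 1 (.leaf 17262661) (.leaf 17780801)))))
(.node 6 (.node 3 (.node 1 (.leaf 17258589) (.node 1 (.leaf 17770577) (.leaf 17068123))) (.node 1 (.leaf 17178705) (.node 1 (.leaf 17659999) (.leaf 17053763))))
(.node 3 (.node 1 (.leaf 17641541) (.node 1 (.leaf 17586257) (.leaf 17002579))) (.node 1 (.leaf 17768519) (.node 1 (.leaf 17524831) (.leaf 16932947))))))))))))

/-- Its index. -/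
def oneIx : BT ℕ :=
(.node 17440833 1419
(.node 17109057 1189
(.node 16998465 373
(.node 16937025 569
(.node 16922689 1171
(.node 16918609 762
(.node 16916569 492
(.node 16916557 1145
(.node 16916551 508 (.node 16916547 1041 (.node 16916545 1411 .tip .tip) (.node 16916549 332 .tip .tip)) (.node 16916555 247 (.node 16916553 511 .tip .tip) .tip))
(.node 16916563 1407 (.node 16916561 1101 (.node 16916559 203 .tip .tip) .tip) (.node 16916567 924 (.node 16916565 444 .tip .tip) .tip)))
(.node 16918597 1126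
(.node 16916575 768 (.node 16916573 547 (.node 16916571 173 .tip .tip) .tip) (.node 16918595 1202 (.node 16918593 1096 .tip .tip) .tip))
(.node 16918603 531 (.node 16918601 223 (.node 16918599 1239 .tip .tip) .tip) (.node 16918607 723 (.node 16918605 128 .tip .tip) .tip))))
(.node 16920649 391
(.node 16918621 22
(.node 16918615 1073 (.node 16918613 654 (.node 16918611 691 .tip .tip) .tip) (.node 16918619 877 (.node 16918617 820 .tip .tip) .tip))
(.node 16920643 907 (.node 16920641 501 (.node 16918623 182 .tip .tip) .tip) (.node 16920647 1455 (.node 16920645 416 .tip .tip) .tip)))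
(.node 16920661 96
(.node 16920655 872 (.node 16920653 1117 (.node 16920651 64 .tip .tip) .tip) (.node 16920659 1471 (.node 16920657 1221 .tip .tip) .tip))
(.node 16920667 292 (.node 16920665 1102 (.node 16920663 706 .tip .tip) .tip) (.node 16920671 637 (.node 16920669 916 .tip .tip) .tip)))))
(.node 16932945 1130
(.node 16922713 650
(.node 16922701 75
(.node 16922695 432 (.node 16922693 234 (.node 16922691 289 .tip .tip) .tip) (.node 16922699 1035 (.node 16922697 1395 .tip .tip) .tip))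
(.node 16922707 963 (.node 16922705 490 (.node 16922703 399 .tip .tip) .tip) (.node 16922711 947 (.node 16922709 564 .tip .tip) .tip)))
(.node 16932933 593
(.node 16922719 1178 (.node 16922717 303 (.node 16922715 1109 .tip .tip) .tip) (.node 16932931 1465 (.node 16932929 1457 .tip .tip) .tip))
(.node 16932939 375 (.node 16932937 46 (.node 16932935 297 .tip .tip) .tip) (.node 16932943 124 (.node 16932941 721 .tip .tip) .tip))))
(.node 16934985 693
(.node 16932957 220
(.node 16932951 69 (.node 16932949 165 (.node 16932947 1535 .tip .tip) .tip) (.node 16932955 1149 (.node 16932953 227 .tip .tip) .tip))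
(.node 16934979 573 (.node 16934977 319 (.node 16932959 528 .tip .tip) .tip) (.node 16934983 662 (.node 16934981 1077 .tip .tip) .tip)))
(.node 16934997 1106
(.node 16934991 1365 (.node 16934989 964 (.node 16934987 775 .tip .tip) .tip) (.node 16934995 142 (.node 16934993 737 .tip .tip) .tip))
(.node 16935003 211 (.node 16935001 923 (.node 16934999 1044 .tip .tip) .tip) (.node 16935007 1061 (.node 16935005 1483 .tip .tip) .tip))))))
(.node 16984129 1140
(.node 16939089 631
(.node 16937049 160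
(.node 16937037 648
(.node 16937031 15 (.node 16937029 52 (.node 16937027 1261 .tip .tip) .tip) (.node 16937035 1478 (.node 16937033 589 .tip .tip) .tip))
(.node 16937043 980 (.node 16937041 944 (.node 16937039 502 .tip .tip) .tip) (.node 16937047 99 (.node 16937045 265 .tip .tip) .tip)))
(.node 16939077 515
(.node 16937055 352 (.node 16937053 1187 (.node 16937051 744 .tip .tip) .tip) (.node 16939075 362 (.node 16939073 1190 .tip .tip) .tip))
(.node 16939083 643 (.node 16939081 900 (.node 16939079 845 .tip .tip) .tip) (.node 16939087 625 (.node 16939085 1480 .tip .tip) .tip))))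
(.node 16982089 668
(.node 16939101 1461
(.node 16939095 244 (.node 16939093 437 (.node 16939091 1022 .tip .tip) .tip) (.node 16939099 509 (.node 16939097 307 .tip .tip) .tip))
(.node 16982083 1271 (.node 16982081 697 (.node 16939103 1390 .tip .tip) .tip) (.node 16982087 826 (.node 16982085 1349 .tip .tip) .tip)))
(.node 16982101 541
(.node 16982095 394 (.node 16982093 67 (.node 16982091 1413 .tip .tip) .tip) (.node 16982099 474 (.node 16982097 859 .tip .tip) .tip))
(.node 16982107 1100 (.node 16982105 1070 (.node 16982103 1383 .tip .tip) .tip) (.node 16982111 167 (.node 16982109 295 .tip .tip) .tip)))))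
(.node 16986193 849
(.node 16984153 317
(.node 16984141 1124
(.node 16984135 725 (.node 16984133 130 (.node 16984131 198 .tip .tip) .tip) (.node 16984139 575 (.node 16984137 998 .tip .tip) .tip))
(.node 16984147 38 (.node 16984145 370 (.node 16984143 1459 .tip .tip) .tip) (.node 16984151 811 (.node 16984149 402 .tip .tip) .tip)))
(.node 16986181 1018
(.node 16984159 1468 (.node 16984157 1430 (.node 16984155 144 .tip .tip) .tip) (.node 16986179 154 (.node 16986177 252 .tip .tip) .tip))
(.node 16986187 364 (.node 16986185 629 (.node 16986183 1444 .tip .tip) .tip) (.node 16986191 986 (.node 16986189 1263 .tip .tip) .tip))))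
(.node 16988233 428
(.node 16986205 562
(.node 16986199 1188 (.node 16986197 357 (.node 16986195 585 .tip .tip) .tip) (.node 16986203 1023 (.node 16986201 1391 .tip .tip) .tip))
(.node 16988227 1086 (.node 16988225 995 (.node 16986207 950 .tip .tip) .tip) (.node 16988231 895 (.node 16988229 1033 .tip .tip) .tip)))
(.node 16988245 1314
(.node 16988239 54 (.node 16988237 88 (.node 16988235 499 .tip .tip) .tip) (.node 16988243 1179 (.node 16988241 313 .tip .tip) .tip))
(.node 16988251 1158 (.node 16988249 256 (.node 16988247 620 .tip .tip) .tip) (.node 16988255 174 (.node 16988253 13 .tip .tip) .tip)))))))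
(.node 17051713 24
(.node 17004609 189
(.node 17000529 224
(.node 16998489 1090
(.node 16998477 817
(.node 16998471 1143 (.node 16998469 201 (.node 16998467 44 .tip .tip) .tip) (.node 16998475 1036 (.node 16998473 1412 .tip .tip) .tip))
(.node 16998483 6 (.node 16998481 79 (.node 16998479 1083 .tip .tip) .tip) (.node 16998487 546 (.node 16998485 766 .tip .tip) .tip)))
(.node 17000517 974
(.node 16998495 863 (.node 16998493 678 (.node 16998491 1428 .tip .tip) .tip) (.node 17000515 1343 (.node 17000513 821 .tip .tip) .tip))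
(.node 17000523 1195 (.node 17000521 952 (.node 17000519 325 .tip .tip) .tip) (.node 17000527 663 (.node 17000525 1072 .tip .tip) .tip))))
(.node 17002569 120
(.node 17000541 1332
(.node 17000535 565 (.node 17000533 983 (.node 17000531 533 .tip .tip) .tip) (.node 17000539 406 (.node 17000537 349 .tip .tip) .tip))
(.node 17002563 1034 (.node 17002561 651 (.node 17000543 1065 .tip .tip) .tip) (.node 17002567 581 (.node 17002565 1466 .tip .tip) .tip)))
(.node 17002581 742
(.node 17002575 420 (.node 17002573 1213 (.node 17002571 720 .tip .tip) .tip) (.node 17002579 1532 (.node 17002577 1297 .tip .tip) .tip))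
(.node 17002587 1236 (.node 17002585 473 (.node 17002583 150 .tip .tip) .tip) (.node 17002591 246 (.node 17002589 431 .tip .tip) .tip)))))
(.node 17043537 8
(.node 17004633 982
(.node 17004621 273
(.node 17004615 1025 (.node 17004613 1336 (.node 17004611 29 .tip .tip) .tip) (.node 17004619 867 (.node 17004617 479 .tip .tip) .tip))
(.node 17004627 139 (.node 17004625 734 (.node 17004623 1163 .tip .tip) .tip) (.node 17004631 914 (.node 17004629 635 .tip .tip) .tip)))
(.node 17043525 312
(.node 17004639 453 (.node 17004637 934 (.node 17004635 1379 .tip .tip) .tip) (.node 17043523 12 (.node 17043521 0 .tip .tip) .tip))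
(.node 17043531 1308 (.node 17043529 1229 (.node 17043527 1008 .tip .tip) .tip) (.node 17043535 839 (.node 17043533 1136 .tip .tip) .tip))))
(.node 17045577 1175
(.node 17043549 1154
(.node 17043543 339 (.node 17043541 994 (.node 17043539 81 .tip .tip) .tip) (.node 17043547 1217 (.node 17043545 911 .tip .tip) .tip))
(.node 17045571 857 (.node 17045569 1244 (.node 17043551 236 .tip .tip) .tip) (.node 17045575 281 (.node 17045573 897 .tip .tip) .tip)))
(.node 17045589 1028
(.node 17045583 356 (.node 17045581 801 (.node 17045579 294 .tip .tip) .tip) (.node 17045587 1370 (.node 17045585 1296 .tip .tip) .tip))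
(.node 17045595 66 (.node 17045593 393 (.node 17045591 238 .tip .tip) .tip) (.node 17045599 1017 (.node 17045597 1339 .tip .tip) .tip))))))
(.node 17061953 245
(.node 17053777 1505
(.node 17051737 1497
(.node 17051725 1386
(.node 17051719 107 (.node 17051717 711 (.node 17051715 184 .tip .tip) .tip) (.node 17051723 1490 (.node 17051721 1327 .tip .tip) .tip))
(.node 17051731 34 (.node 17051729 3 (.node 17051727 540 .tip .tip) .tip) (.node 17051735 460 (.node 17051733 696 .tip .tip) .tip)))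
(.node 17053765 922
(.node 17051743 1348 (.node 17051741 611 (.node 17051739 1517 .tip .tip) .tip) (.node 17053763 1529 (.node 17053761 1513 .tip .tip) .tip))
(.node 17053771 26 (.node 17053769 186 (.node 17053767 656 .tip .tip) .tip) (.node 17053775 401 (.node 17053773 810 .tip .tip) .tip))))
(.node 17059913 981
(.node 17053789 724
(.node 17053783 206 (.node 17053781 433 (.node 17053779 1283 .tip .tip) .tip) (.node 17053787 136 (.node 17053785 731 .tip .tip) .tip))
(.node 17059907 941 (.node 17059905 458 (.node 17053791 129 .tip .tip) .tip) (.node 17059911 163 (.node 17059909 745 .tip .tip) .tip)))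
(.node 17059925 617
(.node 17059919 119 (.node 17059917 719 (.node 17059915 1378 .tip .tip) .tip) (.node 17059923 789 (.node 17059921 1259 .tip .tip) .tip))
(.node 17059931 890 (.node 17059929 1325 (.node 17059927 592 .tip .tip) .tip) (.node 17059935 472 (.node 17059933 1116 .tip .tip) .tip)))))
(.node 17068113 836
(.node 17061977 1282
(.node 17061965 1267
(.node 17061959 1280 (.node 17061957 1447 (.node 17061955 430 .tip .tip) .tip) (.node 17061963 873 (.node 17061961 521 .tip .tip) .tip))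
(.node 17061971 1212 (.node 17061969 846 (.node 17061967 1406 .tip .tip) .tip) (.node 17061975 516 (.node 17061973 1422 .tip .tip) .tip)))
(.node 17068101 1139
(.node 17061983 690 (.node 17061981 628 (.node 17061979 972 .tip .tip) .tip) (.node 17068099 1225 (.node 17068097 1254 .tip .tip) .tip))
(.node 17068107 1304 (.node 17068105 1499 (.node 17068103 231 .tip .tip) .tip) (.node 17068111 765 (.node 17068109 545 .tip .tip) .tip))))
(.node 17070153 1226
(.node 17068125 1142
(.node 17068119 50 (.node 17068117 379 (.node 17068115 1353 .tip .tip) .tip) (.node 17068123 1526 (.node 17068121 1371 .tip .tip) .tip))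
(.node 17070147 1488 (.node 17070145 1275 (.node 17068127 200 .tip .tip) .tip) (.node 17070151 454 (.node 17070149 935 .tip .tip) .tip)))
(.node 17070165 834
(.node 17070159 288 (.node 17070157 1063 (.node 17070155 1368 .tip .tip) .tip) (.node 17070163 796 (.node 17070161 496 .tip .tip) .tip))
(.node 17070171 1200 (.node 17070169 920 (.node 17070167 1256 .tip .tip) .tip) (.node 17070175 962 (.node 17070173 1374 .tip .tip) .tip))))))))
(.node 17190977 961
(.node 17133633 536
(.node 17119297 1434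
(.node 17111121 1426
(.node 17109081 852
(.node 17109069 946
(.node 17109063 987 (.node 17109061 489 (.node 17109059 360 .tip .tip) .tip) (.node 17109067 1108 (.node 17109065 258 .tip .tip) .tip))
(.node 17109075 1021 (.node 17109073 1058 (.node 17109071 563 .tip .tip) .tip) (.node 17109079 919 (.node 17109077 1273 .tip .tip) .tip)))
(.node 17111109 1276
(.node 17109087 795 (.node 17109085 495 (.node 17109083 1307 .tip .tip) .tip) (.node 17111107 260 (.node 17111105 1159 .tip .tip) .tip))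
(.node 17111115 316 (.node 17111113 348 (.node 17111111 1464 .tip .tip) .tip) (.node 17111119 1209 (.node 17111117 958 .tip .tip) .tip))))
(.node 17117257 471
(.node 17111133 835
(.node 17111127 906 (.node 17111125 500 (.node 17111123 853 .tip .tip) .tip) (.node 17111131 997 (.node 17111129 1015 .tip .tip) .tip))
(.node 17117251 1204 (.node 17117249 784 (.node 17111135 425 .tip .tip) .tip) (.node 17117255 1231 (.node 17117253 882 .tip .tip) .tip)))
(.node 17117269 1355
(.node 17117263 1069 (.node 17117261 1270 (.node 17117259 886 .tip .tip) .tip) (.node 17117267 417 (.node 17117265 1472 .tip .tip) .tip))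
(.node 17117275 699 (.node 17117273 118 (.node 17117271 977 .tip .tip) .tip) (.node 17117279 1253 (.node 17117277 874 .tip .tip) .tip)))))
(.node 17125457 624
(.node 17119321 222
(.node 17119309 883
(.node 17119303 790 (.node 17119301 1269 (.node 17119299 551 .tip .tip) .tip) (.node 17119307 1342 (.node 17119305 819 .tip .tip) .tip))
(.node 17119315 133 (.node 17119313 728 (.node 17119311 1232 .tip .tip) .tip) (.node 17119319 1201 (.node 17119317 1095 .tip .tip) .tip)))
(.node 17125445 141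
(.node 17119327 1125 (.node 17119325 1458 (.node 17119323 530 .tip .tip) .tip) (.node 17125443 683 (.node 17125441 1238 .tip .tip) .tip))
(.node 17125451 712 (.node 17125449 108 (.node 17125447 736 .tip .tip) .tip) (.node 17125455 1329 (.node 17125453 1223 .tip .tip) .tip))))
(.node 17127497 159
(.node 17125469 881
(.node 17125463 191 (.node 17125461 31 (.node 17125459 1357 .tip .tip) .tip) (.node 17125467 642 (.node 17125465 461 .tip .tip) .tip))
(.node 17127491 555 (.node 17127489 1311 (.node 17125471 1243 .tip .tip) .tip) (.node 17127495 1288 (.node 17127493 1230 .tip .tip) .tip)))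
(.node 17127509 868
(.node 17127503 183 (.node 17127501 23 (.node 17127499 610 .tip .tip) .tip) (.node 17127507 481 (.node 17127505 1111 .tip .tip) .tip))
(.node 17127515 434 (.node 17127513 588 (.node 17127511 1496 .tip .tip) .tip) (.node 17127519 33 (.node 17127517 2 .tip .tip) .tip))))))
(.node 17176641 876
(.node 17135697 1166
(.node 17133657 45
(.node 17133645 11
(.node 17133639 1504 (.node 17133637 1303 (.node 17133635 948 .tip .tip) .tip) (.node 17133643 1074 (.node 17133641 226 .tip .tip) .tip))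
(.node 17133651 823 (.node 17133649 1038 (.node 17133647 84 .tip .tip) .tip) (.node 17133655 1521 (.node 17133653 1494 .tip .tip) .tip)))
(.node 17135685 9
(.node 17133663 388 (.node 17133661 61 (.node 17133659 374 .tip .tip) .tip) (.node 17135683 752 (.node 17135681 1060 .tip .tip) .tip))
(.node 17135691 210 (.node 17135689 1009 (.node 17135687 82 .tip .tip) .tip) (.node 17135695 1510 (.node 17135693 1295 .tip .tip) .tip))))
(.node 17174601 730
(.node 17135709 1498
(.node 17135703 386 (.node 17135701 59 (.node 17135699 280 .tip .tip) .tip) (.node 17135707 774 (.node 17135705 340 .tip .tip) .tip))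
(.node 17174595 1431 (.node 17174593 1192 (.node 17135711 1512 .tip .tip) .tip) (.node 17174599 1068 (.node 17174597 1334 .tip .tip) .tip)))
(.node 17174613 1460
(.node 17174607 371 (.node 17174605 39 (.node 17174603 135 .tip .tip) .tip) (.node 17174611 968 (.node 17174609 554 .tip .tip) .tip))
(.node 17174619 25 (.node 17174617 185 (.node 17174615 1298 .tip .tip) .tip) (.node 17174623 1141 (.node 17174621 199 .tip .tip) .tip)))))
(.node 17178705 1527
(.node 17176665 1520
(.node 17176653 459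
(.node 17176647 735 (.node 17176645 140 (.node 17176643 943 .tip .tip) .tip) (.node 17176651 1318 (.node 17176649 1071 .tip .tip) .tip))
(.node 17176659 572 (.node 17176657 1260 (.node 17176655 1356 .tip .tip) .tip) (.node 17176663 190 (.node 17176661 30 .tip .tip) .tip)))
(.node 17178693 951
(.node 17176671 710 (.node 17176669 106 (.node 17176667 1414 .tip .tip) .tip) (.node 17178691 1463 (.node 17178689 1120 .tip .tip) .tip))
(.node 17178699 76 (.node 17178697 400 (.node 17178695 1208 .tip .tip) .tip) (.node 17178703 850 (.node 17178701 237 .tip .tip) .tip))))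
(.node 17180745 1211
(.node 17178717 155
(.node 17178711 424 (.node 17178709 1474 (.node 17178707 1053 .tip .tip) .tip) (.node 17178715 304 (.node 17178713 905 .tip .tip) .tip))
(.node 17180739 621 (.node 17180737 967 (.node 17178719 253 .tip .tip) .tip) (.node 17180743 80 (.node 17180741 7 .tip .tip) .tip)))
(.node 17180757 55
(.node 17180751 1037 (.node 17180749 338 (.node 17180747 1294 .tip .tip) .tip) (.node 17180755 896 (.node 17180753 864 .tip .tip) .tip))
(.node 17180763 936 (.node 17180761 429 (.node 17180759 382 .tip .tip) .tip) (.node 17180767 802 (.node 17180765 1007 .tip .tip) .tip)))))))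
(.node 17244225 1287
(.node 17197121 519
(.node 17193041 777
(.node 17191001 953
(.node 17190989 527
(.node 17190983 676 (.node 17190981 1066 (.node 17190979 566 .tip .tip) .tip) (.node 17190987 407 (.node 17190985 342 .tip .tip) .tip))
(.node 17190995 1170 (.node 17190993 287 (.node 17190991 219 .tip .tip) .tip) (.node 17190999 893 (.node 17190997 1081 .tip .tip) .tip)))
(.node 17193029 1199
(.node 17191007 42 (.node 17191005 123 (.node 17191003 1196 .tip .tip) .tip) (.node 17193027 921 (.node 17193025 1059 .tip .tip) .tip))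
(.node 17193035 903 (.node 17193033 602 (.node 17193031 1507 .tip .tip) .tip) (.node 17193039 111 (.node 17193037 715 .tip .tip) .tip))))
(.node 17195081 463
(.node 17193053 257
(.node 17193047 818 (.node 17193045 1341 (.node 17193043 692 .tip .tip) .tip) (.node 17193051 1076 (.node 17193049 1319 .tip .tip) .tip))
(.node 17195075 1482 (.node 17195073 689 (.node 17193055 464 .tip .tip) .tip) (.node 17195079 932 (.node 17195077 451 .tip .tip) .tip)))
(.node 17195093 421
(.node 17195087 158 (.node 17195085 351 (.node 17195083 1475 .tip .tip) .tip) (.node 17195091 1127 (.node 17195089 1405 .tip .tip) .tip))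
(.node 17195099 714 (.node 17195097 110 (.node 17195095 271 .tip .tip) .tip) (.node 17195103 587 (.node 17195101 1016 .tip .tip) .tip)))))
(.node 17240145 506
(.node 17197145 1132
(.node 17197133 669
(.node 17197127 788 (.node 17197125 1268 (.node 17197123 306 .tip .tip) .tip) (.node 17197131 436 (.node 17197129 1324 .tip .tip) .tip))
(.node 17197139 991 (.node 17197137 623 (.node 17197135 616 .tip .tip) .tip) (.node 17197143 1487 (.node 17197141 1245 .tip .tip) .tip)))
(.node 17240133 284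
(.node 17197151 343 (.node 17197149 1042 (.node 17197147 1214 .tip .tip) .tip) (.node 17240131 1004 (.node 17240129 1277 .tip .tip) .tip))
(.node 17240139 878 (.node 17240137 1382 (.node 17240135 1169 .tip .tip) .tip) (.node 17240143 763 (.node 17240141 685 .tip .tip) .tip))))
(.node 17242185 117
(.node 17240157 1337
(.node 17240151 570 (.node 17240149 959 (.node 17240147 330 .tip .tip) .tip) (.node 17240155 695 (.node 17240153 828 .tip .tip) .tip))
(.node 17242179 925 (.node 17242177 445 (.node 17240159 1485 .tip .tip) .tip) (.node 17242183 369 (.node 17242181 37 .tip .tip) .tip)))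
(.node 17242197 197
(.node 17242191 1049 (.node 17242189 1408 (.node 17242187 718 .tip .tip) .tip) (.node 17242195 757 (.node 17242193 1249 .tip .tip) .tip))
(.node 17242203 248 (.node 17242201 470 (.node 17242199 127 .tip .tip) .tip) (.node 17242207 1316 (.node 17242205 1416 .tip .tip) .tip))))))
(.node 17258561 387
(.node 17246289 937
(.node 17244249 347
(.node 17244237 949
(.node 17244231 355 (.node 17244229 584 (.node 17244227 808 .tip .tip) .tip) (.node 17244235 664 (.node 17244233 1014 .tip .tip) .tip))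
(.node 17244243 1456 (.node 17244241 1080 (.node 17244239 1222 .tip .tip) .tip) (.node 17244247 259 (.node 17244245 153 .tip .tip) .tip)))
(.node 17246277 1057
(.node 17244255 1262 (.node 17244253 1518 (.node 17244251 1186 .tip .tip) .tip) (.node 17246275 94 (.node 17246273 704 .tip .tip) .tip))
(.node 17246283 311 (.node 17246281 619 (.node 17246279 1131 .tip .tip) .tip) (.node 17246287 1248 (.node 17246285 754 .tip .tip) .tip))))
(.node 17256521 427
(.node 17246301 283
(.node 17246295 1429 (.node 17246293 686 (.node 17246291 414 .tip .tip) .tip) (.node 17246299 993 (.node 17246297 1389 .tip .tip) .tip))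
(.node 17256515 1511 (.node 17256513 1291 (.node 17246303 1168 .tip .tip) .tip) (.node 17256519 279 (.node 17256517 798 .tip .tip) .tip)))
(.node 17256533 1246
(.node 17256527 65 (.node 17256525 392 (.node 17256523 800 .tip .tip) .tip) (.node 17256531 1320 (.node 17256529 1078 .tip .tip) .tip))
(.node 17256539 791 (.node 17256537 263 (.node 17256535 751 .tip .tip) .tip) (.node 17256543 293 (.node 17256541 1174 .tip .tip) .tip)))))
(.node 17260625 176
(.node 17258585 235
(.node 17258573 1064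
(.node 17258567 221 (.node 17258565 529 (.node 17258563 60 .tip .tip) .tip) (.node 17258571 1135 (.node 17258569 838 .tip .tip) .tip))
(.node 17258579 10 (.node 17258577 83 (.node 17258575 1331 .tip .tip) .tip) (.node 17258583 722 (.node 17258581 125 .tip .tip) .tip)))
(.node 17260613 353
(.node 17258591 1410 (.node 17258589 1524 (.node 17258587 483 .tip .tip) .tip) (.node 17260611 1 (.node 17260609 32 .tip .tip) .tip))
(.node 17260619 1091 (.node 17260617 655 (.node 17260615 480 .tip .tip) .tip) (.node 17260623 945 (.node 17260621 1205 .tip .tip) .tip))))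
(.node 17262665 308
(.node 17260637 419
(.node 17260631 649 (.node 17260629 503 (.node 17260627 16 .tip .tip) .tip) (.node 17260635 609 (.node 17260633 1396 .tip .tip) .tip))
(.node 17262659 940 (.node 17262657 438 (.node 17260639 1473 .tip .tip) .tip) (.node 17262663 1402 (.node 17262661 1522 .tip .tip) .tip)))
(.node 17262677 1237
(.node 17262671 582 (.node 17262669 1377 (.node 17262667 510 .tip .tip) .tip) (.node 17262675 1514 (.node 17262673 1215 .tip .tip) .tip))
(.node 17262683 1279 (.node 17262681 556 (.node 17262679 682 .tip .tip) .tip) (.node 17262687 151 (.node 17262685 743 .tip .tip) .tip)))))))))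
(.node 17633345 71
(.node 17522753 1364
(.node 17461313 475
(.node 17446977 534
(.node 17442897 27
(.node 17440857 383
(.node 17440845 703
(.node 17440839 579 (.node 17440837 310 (.node 17440835 1450 .tip .tip) .tip) (.node 17440843 192 (.node 17440841 441 .tip .tip) .tip))
(.node 17440851 1443 (.node 17440849 1087 (.node 17440847 93 .tip .tip) .tip) (.node 17440855 148 (.node 17440853 740 .tip .tip) .tip)))
(.node 17442885 1452
(.node 17440863 413 (.node 17440861 523 (.node 17440859 56 .tip .tip) .tip) (.node 17442883 732 (.node 17442881 137 .tip .tip) .tip))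
(.node 17442891 272 (.node 17442889 1162 (.node 17442887 1438 .tip .tip) .tip) (.node 17442895 856 (.node 17442893 365 .tip .tip) .tip))))
(.node 17444937 1001
(.node 17442909 477
(.node 17442903 1105 (.node 17442901 1435 (.node 17442899 187 .tip .tip) .tip) (.node 17442907 933 (.node 17442905 452 .tip .tip) .tip))
(.node 17444931 112 (.node 17444929 208 (.node 17442911 866 .tip .tip) .tip) (.node 17444935 855 (.node 17444933 560 .tip .tip) .tip)))
(.node 17444949 1160
(.node 17444943 607 (.node 17444941 1046 (.node 17444939 1123 .tip .tip) .tip) (.node 17444947 465 (.node 17444945 772 .tip .tip) .tip))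
(.node 17444955 1182 (.node 17444953 322 (.node 17444951 262 .tip .tip) .tip) (.node 17444959 1385 (.node 17444957 1085 .tip .tip) .tip)))))
(.node 17457233 640
(.node 17447001 680
(.node 17446989 1177
(.node 17446983 1362 (.node 17446981 1433 (.node 17446979 225 .tip .tip) .tip) (.node 17446987 327 (.node 17446985 517 .tip .tip) .tip))
(.node 17446995 822 (.node 17446993 1344 (.node 17446991 300 .tip .tip) .tip) (.node 17446999 567 (.node 17446997 984 .tip .tip) .tip)))
(.node 17457221 760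
(.node 17447007 72 (.node 17447005 396 (.node 17447003 1003 .tip .tip) .tip) (.node 17457219 1011 (.node 17457217 1393 .tip .tip) .tip))
(.node 17457227 1361 (.node 17457225 634 (.node 17457223 670 .tip .tip) .tip) (.node 17457231 939 (.node 17457229 457 .tip .tip) .tip))))
(.node 17459273 275
(.node 17457245 1258
(.node 17457239 1203 (.node 17457237 1122 (.node 17457235 344 .tip .tip) .tip) (.node 17457243 561 (.node 17457241 979 .tip .tip) .tip))
(.node 17459267 816 (.node 17459265 1255 (.node 17457247 1134 .tip .tip) .tip) (.node 17459271 1128 (.node 17459269 1467 .tip .tip) .tip)))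
(.node 17459285 1055
(.node 17459279 19 (.node 17459277 179 (.node 17459275 410 .tip .tip) .tip) (.node 17459283 652 (.node 17459281 1110 .tip .tip) .tip))
(.node 17459291 90 (.node 17459289 701 (.node 17459287 1423 .tip .tip) .tip) (.node 17459295 105 (.node 17459293 709 .tip .tip) .tip))))))
(.node 17508417 1338
(.node 17463377 36
(.node 17461337 1079
(.node 17461325 603
(.node 17461319 323 (.node 17461317 1183 (.node 17461315 807 .tip .tip) .tip) (.node 17461323 168 (.node 17461321 747 .tip .tip) .tip))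
(.node 17461331 869 (.node 17461329 976 (.node 17461327 904 .tip .tip) .tip) (.node 17461335 1002 (.node 17461333 694 .tip .tip) .tip)))
(.node 17463365 779
(.node 17461343 329 (.node 17461341 505 (.node 17461339 594 .tip .tip) .tip) (.node 17463363 77 (.node 17463361 4 .tip .tip) .tip))
(.node 17463371 894 (.node 17463369 1082 (.node 17463367 514 .tip .tip) .tip) (.node 17463375 1449 (.node 17463373 576 .tip .tip) .tip))))
(.node 17506377 1313
(.node 17463389 145
(.node 17463383 793 (.node 17463381 889 (.node 17463379 368 .tip .tip) .tip) (.node 17463387 677 (.node 17463385 862 .tip .tip) .tip))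
(.node 17506371 1165 (.node 17506369 278 (.node 17463391 738 .tip .tip) .tip) (.node 17506375 101 (.node 17506373 267 .tip .tip) .tip)))
(.node 17506389 928
(.node 17506383 761 (.node 17506381 660 (.node 17506379 1403 .tip .tip) .tip) (.node 17506387 385 (.node 17506385 58 .tip .tip) .tip))
(.node 17506395 687 (.node 17506393 1113 (.node 17506391 448 .tip .tip) .tip) (.node 17506399 1484 (.node 17506397 1359 .tip .tip) .tip)))))
(.node 17510481 1317
(.node 17508441 1118
(.node 17508429 1026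
(.node 17508423 844 (.node 17508421 367 (.node 17508419 423 .tip .tip) .tip) (.node 17508427 638 (.node 17508425 902 .tip .tip) .tip))
(.node 17508435 1207 (.node 17508433 957 (.node 17508431 613 .tip .tip) .tip) (.node 17508439 243 (.node 17508437 498 .tip .tip) .tip)))
(.node 17510469 1176
(.node 17508447 1103 (.node 17508445 665 (.node 17508443 815 .tip .tip) .tip) (.node 17510467 892 (.node 17510465 1050 .tip .tip) .tip))
(.node 17510475 122 (.node 17510473 41 (.node 17510471 298 .tip .tip) .tip) (.node 17510479 1375 (.node 17510477 484 .tip .tip) .tip))))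
(.node 17512521 786
(.node 17510493 794
(.node 17510487 70 (.node 17510485 395 (.node 17510483 675 .tip .tip) .tip) (.node 17510491 20 (.node 17510489 180 .tip .tip) .tip))
(.node 17512515 999 (.node 17512513 1415 (.node 17510495 860 .tip .tip) .tip) (.node 17512519 507 (.node 17512517 331 .tip .tip) .tip)))
(.node 17512533 482
(.node 17512527 171 (.node 17512525 749 (.node 17512523 913 .tip .tip) .tip) (.node 17512531 320 (.node 17512529 1181 .tip .tip) .tip))
(.node 17512539 806 (.node 17512537 494 (.node 17512535 1278 .tip .tip) .tip) (.node 17512543 597 (.node 17512541 1323 .tip .tip) .tip)))))))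
(.node 17576001 756
(.node 17528897 170
(.node 17524817 450
(.node 17522777 1420
(.node 17522765 1172
(.node 17522759 1340 (.node 17522757 415 (.node 17522755 632 .tip .tip) .tip) (.node 17522763 1442 (.node 17522761 1098 .tip .tip) .tip))
(.node 17522771 965 (.node 17522769 1366 (.node 17522767 290 .tip .tip) .tip) (.node 17522775 705 (.node 17522773 95 .tip .tip) .tip)))
(.node 17524805 177
(.node 17522783 62 (.node 17522781 389 (.node 17522779 1454 .tip .tip) .tip) (.node 17524803 270 (.node 17524801 1161 .tip .tip) .tip))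
(.node 17524811 73 (.node 17524809 397 (.node 17524807 17 .tip .tip) .tip) (.node 17524815 1448 (.node 17524813 1439 .tip .tip) .tip))))
(.node 17526857 548
(.node 17524829 1092
(.node 17524823 103 (.node 17524821 707 (.node 17524819 931 .tip .tip) .tip) (.node 17524827 301 (.node 17524825 157 .tip .tip) .tip))
(.node 17526851 917 (.node 17526849 600 (.node 17524831 1534 .tip .tip) .tip) (.node 17526855 661 (.node 17526853 578 .tip .tip) .tip)))
(.node 17526869 147
(.node 17526863 512 (.node 17526861 249 (.node 17526859 769 .tip .tip) .tip) (.node 17526867 1051 (.node 17526865 1333 .tip .tip) .tip))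
(.node 17526875 204 (.node 17526873 1146 (.node 17526871 739 .tip .tip) .tip) (.node 17526879 1138 (.node 17526877 847 .tip .tip) .tip)))))
(.node 17567825 1198
(.node 17528921 1347
(.node 17528909 843
(.node 17528903 1006 (.node 17528901 1400 (.node 17528899 748 .tip .tip) .tip) (.node 17528907 285 (.node 17528905 538 .tip .tip) .tip))
(.node 17528915 1479 (.node 17528913 596 (.node 17528911 1363 .tip .tip) .tip) (.node 17528919 336 (.node 17528917 672 .tip .tip) .tip)))
(.node 17567813 1508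
(.node 17528927 571 (.node 17528925 242 (.node 17528923 825 .tip .tip) .tip) (.node 17567811 814 (.node 17567809 409 .tip .tip) .tip))
(.node 17567819 805 (.node 17567817 493 (.node 17567815 1515 .tip .tip) .tip) (.node 17567823 1075 (.node 17567821 469 .tip .tip) .tip))))
(.node 17569865 215
(.node 17567837 116
(.node 17567831 1054 (.node 17567829 831 (.node 17567827 955 .tip .tip) .tip) (.node 17567835 912 (.node 17567833 1274 .tip .tip) .tip))
(.node 17569859 985 (.node 17569857 1227 (.node 17567839 717 .tip .tip) .tip) (.node 17569863 674 (.node 17569861 467 .tip .tip) .tip)))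
(.node 17569877 114
(.node 17569871 783 (.node 17569869 1010 (.node 17569867 86 .tip .tip) .tip) (.node 17569875 1354 (.node 17569873 909 .tip .tip) .tip))
(.node 17569883 121 (.node 17569881 40 (.node 17569879 716 .tip .tip) .tip) (.node 17569887 1185 (.node 17569885 341 .tip .tip) .tip))))))
(.node 17586241 1289
(.node 17578065 1495
(.node 17576025 880
(.node 17576013 455
(.node 17576007 384 (.node 17576005 57 (.node 17576003 544 .tip .tip) .tip) (.node 17576011 1088 (.node 17576009 1440 .tip .tip) .tip))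
(.node 17576019 443 (.node 17576017 196 (.node 17576015 832 .tip .tip) .tip) (.node 17576023 1164 (.node 17576021 277 .tip .tip) .tip)))
(.node 17578053 659
(.node 17576031 1299 (.node 17576029 1257 (.node 17576027 1242 .tip .tip) .tip) (.node 17578051 1516 (.node 17578049 1326 .tip .tip) .tip))
(.node 17578059 264 (.node 17578057 98 (.node 17578055 1206 .tip .tip) .tip) (.node 17578063 377 (.node 17578061 48 .tip .tip) .tip))))
(.node 17584201 884
(.node 17578077 229
(.node 17578071 422 (.node 17578069 1398 (.node 17578067 1381 .tip .tip) .tip) (.node 17578075 194 (.node 17578073 442 .tip .tip) .tip))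
(.node 17584195 1031 (.node 17584193 520 (.node 17578079 366 .tip .tip) .tip) (.node 17584199 803 (.node 17584197 595 .tip .tip) .tip)))
(.node 17584213 169
(.node 17584207 1417 (.node 17584205 871 (.node 17584203 978 .tip .tip) .tip) (.node 17584211 875 (.node 17584209 1281 .tip .tip) .tip))
(.node 17584219 476 (.node 17584217 799 (.node 17584215 627 .tip .tip) .tip) (.node 17584223 1446 (.node 17584221 970 .tip .tip) .tip)))))
(.node 17592401 305
(.node 17586265 334
(.node 17586253 591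
(.node 17586247 1067 (.node 17586245 842 (.node 17586243 891 .tip .tip) .tip) (.node 17586251 213 (.node 17586249 1005 .tip .tip) .tip))
(.node 17586259 1493 (.node 17586257 1531 (.node 17586255 146 .tip .tip) .tip) (.node 17586263 1156 (.node 17586261 241 .tip .tip) .tip)))
(.node 17592389 558
(.node 17586271 577 (.node 17586269 162 (.node 17586267 671 .tip .tip) .tip) (.node 17592387 622 (.node 17592385 990 .tip .tip) .tip))
(.node 17592395 858 (.node 17592393 1235 (.node 17592391 1432 .tip .tip) .tip) (.node 17592399 1043 (.node 17592397 205 .tip .tip) .tip))))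
(.node 17594441 156
(.node 17592413 770
(.node 17592407 1506 (.node 17592405 1194 (.node 17592403 604 .tip .tip) .tip) (.node 17592411 1373 (.node 17592409 1097 .tip .tip) .tip))
(.node 17594435 1491 (.node 17594433 1453 (.node 17592415 435 .tip .tip) .tip) (.node 17594439 930 (.node 17594437 346 .tip .tip) .tip)))
(.node 17594453 1013
(.node 17594447 713 (.node 17594445 109 (.node 17594443 350 .tip .tip) .tip) (.node 17594451 1306 (.node 17594449 1500 .tip .tip) .tip))
(.node 17594459 326 (.node 17594457 586 (.node 17594455 269 .tip .tip) .tip) (.node 17594463 1437 (.node 17594461 462 .tip .tip) .tip))))))))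
(.node 17715265 837
(.node 17657921 830
(.node 17643585 240
(.node 17635409 486
(.node 17633369 1409
(.node 17633357 861
(.node 17633351 605 (.node 17633349 1045 (.node 17633347 315 .tip .tip) .tip) (.node 17633355 559 (.node 17633353 1330 .tip .tip) .tip))
(.node 17633363 996 (.node 17633361 299 (.node 17633359 1293 .tip .tip) .tip) (.node 17633367 1384 (.node 17633365 440 .tip .tip) .tip)))
(.node 17635397 797
(.node 17633375 1310 (.node 17633373 1376 (.node 17633371 488 .tip .tip) .tip) (.node 17635395 1084 (.node 17635393 1272 .tip .tip) .tip))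
(.node 17635403 1020 (.node 17635401 321 (.node 17635399 497 .tip .tip) .tip) (.node 17635407 646 (.node 17635405 261 .tip .tip) .tip))))
(.node 17641545 1247
(.node 17635421 854
(.node 17635415 781 (.node 17635413 1372 (.node 17635411 1470 .tip .tip) .tip) (.node 17635419 359 (.node 17635417 1000 .tip .tip) .tip))
(.node 17641539 1388 (.node 17641537 412 (.node 17635423 679 .tip .tip) .tip) (.node 17641543 1451 (.node 17641541 1530 .tip .tip) .tip)))
(.node 17641557 1285
(.node 17641551 992 (.node 17641549 599 (.node 17641547 753 .tip .tip) .tip) (.node 17641555 615 (.node 17641553 92 .tip .tip) .tip))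
(.node 17641563 282 (.node 17641561 1167 (.node 17641559 1501 .tip .tip) .tip) (.node 17641567 309 (.node 17641565 618 .tip .tip) .tip)))))
(.node 17649745 658
(.node 17643609 535
(.node 17643597 1104
(.node 17643591 354 (.node 17643589 583 (.node 17643587 1137 .tip .tip) .tip) (.node 17643595 666 (.node 17643593 1345 .tip .tip) .tip))
(.node 17643603 1286 (.node 17643601 841 (.node 17643599 1219 .tip .tip) .tip) (.node 17643607 333 (.node 17643605 152 .tip .tip) .tip)))
(.node 17649733 35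
(.node 17643615 885 (.node 17643613 1233 (.node 17643611 1399 .tip .tip) .tip) (.node 17649731 833 (.node 17649729 1351 .tip .tip) .tip))
(.node 17649739 848 (.node 17649737 1048 (.node 17649735 97 .tip .tip) .tip) (.node 17649743 888 (.node 17649741 792 .tip .tip) .tip))))
(.node 17651785 1220
(.node 17649757 513
(.node 17649751 126 (.node 17649749 193 (.node 17649747 612 .tip .tip) .tip) (.node 17649755 251 (.node 17649753 1157 .tip .tip) .tip))
(.node 17651779 378 (.node 17651777 49 (.node 17649759 1380 .tip .tip) .tip) (.node 17651783 1358 (.node 17651781 975 .tip .tip) .tip)))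
(.node 17651797 1241
(.node 17651791 447 (.node 17651789 927 (.node 17651787 684 .tip .tip) .tip) (.node 17651795 1151 (.node 17651793 230 .tip .tip) .tip))
(.node 17651803 1265 (.node 17651801 1360 (.node 17651799 879 .tip .tip) .tip) (.node 17651807 1251 (.node 17651805 759 .tip .tip) .tip))))))
(.node 17700929 929
(.node 17659985 18
(.node 17657945 633
(.node 17657933 403
(.node 17657927 1302 (.node 17657925 910 (.node 17657923 1040 .tip .tip) .tip) (.node 17657931 132 (.node 17657929 727 .tip .tip) .tip))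
(.node 17657939 456 (.node 17657937 938 (.node 17657935 274 .tip .tip) .tip) (.node 17657943 1099 (.node 17657941 1228 .tip .tip) .tip)))
(.node 17659973 405
(.node 17657951 216 (.node 17657949 87 (.node 17657947 550 .tip .tip) .tip) (.node 17659971 708 (.node 17659969 104 .tip .tip) .tip))
(.node 17659979 1094 (.node 17659977 956 (.node 17659975 813 .tip .tip) .tip) (.node 17659983 1300 (.node 17659981 1503 .tip .tip) .tip))))
(.node 17698889 446
(.node 17659997 1369
(.node 17659991 218 (.node 17659989 526 (.node 17659987 178 .tip .tip) .tip) (.node 17659995 418 (.node 17659993 782 .tip .tip) .tip))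
(.node 17698883 228 (.node 17698881 1150 (.node 17659999 1528 .tip .tip) .tip) (.node 17698887 1519 (.node 17698885 1441 .tip .tip) .tip)))
(.node 17698901 1321
(.node 17698895 522 (.node 17698893 1216 (.node 17698891 926 .tip .tip) .tip) (.node 17698899 47 (.node 17698897 376 .tip .tip) .tip))
(.node 17698907 758 (.node 17698905 1250 (.node 17698903 1027 .tip .tip) .tip) (.node 17698911 778 (.node 17698909 973 .tip .tip) .tip)))))
(.node 17702993 1039
(.node 17700953 915
(.node 17700941 568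
(.node 17700935 164 (.node 17700933 195 (.node 17700931 449 .tip .tip) .tip) (.node 17700939 1392 (.node 17700937 1114 .tip .tip) .tip))
(.node 17700947 102 (.node 17700945 268 (.node 17700943 286 .tip .tip) .tip) (.node 17700951 543 (.node 17700949 755 .tip .tip) .tip)))
(.node 17702981 908
(.node 17700959 960 (.node 17700957 1062 (.node 17700955 636 .tip .tip) .tip) (.node 17702979 1418 (.node 17702977 653 .tip .tip) .tip))
(.node 17702987 21 (.node 17702985 181 (.node 17702983 771 .tip .tip) .tip) (.node 17702991 318 (.node 17702989 1180 .tip .tip) .tip))))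
(.node 17705033 827
(.node 17703005 606
(.node 17702999 207 (.node 17702997 1147 (.node 17702995 1093 .tip .tip) .tip) (.node 17703003 85 (.node 17703001 214 .tip .tip) .tip))
(.node 17705027 115 (.node 17705025 68 (.node 17703007 504 .tip .tip) .tip) (.node 17705031 1292 (.node 17705029 598 .tip .tip) .tip)))
(.node 17705045 172
(.node 17705039 1121 (.node 17705037 1492 (.node 17705035 1350 .tip .tip) .tip) (.node 17705043 468 (.node 17705041 296 .tip .tip) .tip))
(.node 17705051 542 (.node 17705049 787 (.node 17705047 750 .tip .tip) .tip) (.node 17705055 1509 (.node 17705053 1462 .tip .tip) .tip)))))))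
(.node 17768513 134
(.node 17721409 673
(.node 17717329 14
(.node 17715289 398
(.node 17715277 1133
(.node 17715271 639 (.node 17715269 898 (.node 17715267 485 .tip .tip) .tip) (.node 17715275 302 (.node 17715273 645 .tip .tip) .tip))
(.node 17715283 1153 (.node 17715281 233 (.node 17715279 989 .tip .tip) .tip) (.node 17715287 1322 (.node 17715285 1029 .tip .tip) .tip)))
(.node 17717317 63
(.node 17715295 630 (.node 17715293 942 (.node 17715291 74 .tip .tip) .tip) (.node 17717315 700 (.node 17717313 89 .tip .tip) .tip))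
(.node 17717323 1115 (.node 17717321 1290 (.node 17717319 390 .tip .tip) .tip) (.node 17717327 1193 (.node 17717325 966 .tip .tip) .tip))))
(.node 17719369 1224
(.node 17717341 1218
(.node 17717335 1173 (.node 17717333 291 (.node 17717331 175 .tip .tip) .tip) (.node 17717339 1315 (.node 17717337 1445 .tip .tip) .tip))
(.node 17719363 161 (.node 17719361 614 (.node 17717343 557 .tip .tip) .tip) (.node 17719367 1469 (.node 17719365 1489 .tip .tip) .tip)))
(.node 17719381 804
(.node 17719375 971 (.node 17719373 1052 (.node 17719371 809 .tip .tip) .tip) (.node 17719379 590 (.node 17719377 1387 .tip .tip) .tip))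
(.node 17719387 1421 (.node 17719385 1032 (.node 17719383 1352 .tip .tip) .tip) (.node 17719391 601 (.node 17719389 918 .tip .tip) .tip)))))
(.node 17764433 1425
(.node 17721433 539
(.node 17721421 626
(.node 17721415 232 (.node 17721413 1152 (.node 17721411 337 .tip .tip) .tip) (.node 17721419 202 (.node 17721417 1144 .tip .tip) .tip))
(.node 17721427 870 (.node 17721425 1401 (.node 17721423 1404 .tip .tip) .tip) (.node 17721431 51 (.node 17721429 380 .tip .tip) .tip)))
(.node 17764421 840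
(.node 17721439 688 (.node 17721437 1129 (.node 17721435 767 .tip .tip) .tip) (.node 17764419 1112 (.node 17764417 1436 .tip .tip) .tip))
(.node 17764427 53 (.node 17764425 381 (.node 17764423 478 .tip .tip) .tip) (.node 17764431 28 (.node 17764429 188 .tip .tip) .tip))))
(.node 17766473 553
(.node 17764445 733
(.node 17764439 1155 (.node 17764437 239 (.node 17764435 1312 .tip .tip) .tip) (.node 17764443 266 (.node 17764441 100 .tip .tip) .tip))
(.node 17766467 149 (.node 17766465 741 (.node 17764447 138 .tip .tip) .tip) (.node 17766471 524 (.node 17766469 1210 .tip .tip) .tip)))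
(.node 17766485 426
(.node 17766479 1284 (.node 17766477 865 (.node 17766475 1234 .tip .tip) .tip) (.node 17766483 580 (.node 17766481 1030 .tip .tip) .tip))
(.node 17766491 969 (.node 17766489 1191 (.node 17766487 363 .tip .tip) .tip) (.node 17766495 901 (.node 17766493 644 .tip .tip) .tip))))))
(.node 17782849 954
(.node 17770577 1525
(.node 17768537 1240
(.node 17768525 1305
(.node 17768519 1533 (.node 17768517 1367 (.node 17768515 729 .tip .tip) .tip) (.node 17768523 358 (.node 17768521 1056 .tip .tip) .tip))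
(.node 17768531 1477 (.node 17768529 552 (.node 17768527 773 .tip .tip) .tip) (.node 17768535 1047 (.node 17768533 608 .tip .tip) .tip)))
(.node 17770565 345
(.node 17768543 209 (.node 17768541 532 (.node 17768539 1019 .tip .tip) .tip) (.node 17770563 1486 (.node 17770561 1309 .tip .tip) .tip))
(.node 17770571 487 (.node 17770569 681 (.node 17770567 667 .tip .tip) .tip) (.node 17770575 439 (.node 17770573 887 .tip .tip) .tip))))
(.node 17780809 702
(.node 17770589 647
(.node 17770583 314 (.node 17770581 1012 (.node 17770579 785 .tip .tip) .tip) (.node 17770587 328 (.node 17770585 518 .tip .tip) .tip))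
(.node 17780803 1424 (.node 17780801 1523 (.node 17770591 1107 .tip .tip) .tip) (.node 17780807 698 (.node 17780805 466 .tip .tip) .tip)))
(.node 17780821 113
(.node 17780815 525 (.node 17780813 217 (.node 17780811 91 .tip .tip) .tip) (.node 17780819 1335 (.node 17780817 1024 .tip .tip) .tip))
(.node 17780827 411 (.node 17780825 276 (.node 17780823 255 .tip .tip) .tip) (.node 17780831 404 (.node 17780829 812 .tip .tip) .tip)))))
(.node 17784913 1184
(.node 17782873 726
(.node 17782861 899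
(.node 17782855 988 (.node 17782853 491 (.node 17782851 1197 .tip .tip) .tip) (.node 17782859 549 (.node 17782857 1476 .tip .tip) .tip))
(.node 17782867 408 (.node 17782865 361 (.node 17782863 641 .tip .tip) .tip) (.node 17782871 1266 (.node 17782869 829 .tip .tip) .tip)))
(.node 17784901 254
(.node 17782879 1394 (.node 17782877 1301 (.node 17782875 131 .tip .tip) .tip) (.node 17784899 764 (.node 17784897 1252 .tip .tip) .tip))
(.node 17784907 1264 (.node 17784905 1427 (.node 17784903 143 .tip .tip) .tip) (.node 17784911 1148 (.node 17784909 212 .tip .tip) .tip))))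
(.node 17786953 335
(.node 17784925 776
(.node 17784919 574 (.node 17784917 851 (.node 17784915 324 .tip .tip) .tip) (.node 17784923 1502 (.node 17784921 1119 .tip .tip) .tip))
(.node 17786947 1346 (.node 17786945 824 (.node 17784927 1328 .tip .tip) .tip) (.node 17786951 1481 (.node 17786949 657 .tip .tip) .tip)))
(.node 17786965 1397
(.node 17786959 43 (.node 17786957 372 (.node 17786955 250 .tip .tip) .tip) (.node 17786963 537 (.node 17786961 780 .tip .tip) .tip))
(.node 17786971 166 (.node 17786969 746 (.node 17786967 1089 .tip .tip) .tip) (.node 17786975 5 (.node 17786973 78 .tip .tip) .tip))))))))))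

/-- The orbit. -/
def oneOrb : Tab (ℕ × ℕ) :=
(.node 7 (.node 3 (.node 1 (.leaf (17043525, 31801425)) (.node 1 (.leaf (17043527, 7292999)) (.leaf (17043529, 29904967))))
(.node 2 (.node 1 (.leaf (17043531, 4808797)) (.leaf (17043533, 13310023))) (.node 1 (.leaf (17043535, 23928925)) (.leaf (17043537, 17043521)))))
(.node 3 (.node 1 (.leaf (17043539, 19085399)) (.node 1 (.leaf (17043541, 10971209)) (.leaf (17043543, 32125001))))
(.node 2 (.node 1 (.leaf (17043545, 13510735)) (.leaf (17043547, 27529303))) (.node 1 (.leaf (17043549, 9056345)) (.leaf (17043551, 6776923))))))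

/-- The centraliser. -/
def oneCent : CentData := ⟨17043537, 1536, oneEl, oneIx, 14, oneOrb⟩

/-- The parents. -/
def onePar : Tab ℕ :=
(.node 768 (.node 384 (.node 192 (.node 96 (.node 48 (.node 24 (.node 12 (.node 6 (.node 3 (.node 1 (.leaf 0) (.node 1 (.leaf 0) (.leaf 1))) (.node 1 (.leaf 2) (.node 1 (.leaf 4) (.leaf 5))))
(.node 3 (.node 1 (.leaf 6) (.node 1 (.leaf 8) (.leaf 9))) (.node 1 (.leaf 10) (.node 1 (.leaf 12) (.leaf 13)))))
(.node 6 (.node 3 (.node 1 (.leaf 16) (.node 1 (.leaf 17) (.leaf 18))) (.node 1 (.leaf 20) (.node 1 (.leaf 21) (.leaf 22))))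
(.node 3 (.node 1 (.leaf 24) (.node 1 (.leaf 25) (.leaf 28))) (.node 1 (.leaf 29) (.node 1 (.leaf 30) (.leaf 33))))))
(.node 12 (.node 6 (.node 3 (.node 1 (.leaf 34) (.node 1 (.leaf 36) (.leaf 37))) (.node 1 (.leaf 40) (.node 1 (.leaf 41) (.leaf 42))))
(.node 3 (.node 1 (.leaf 44) (.node 1 (.leaf 46) (.leaf 48))) (.node 1 (.leaf 49) (.node 1 (.leaf 50) (.leaf 52)))))
(.node 6 (.node 3 (.node 1 (.leaf 53) (.node 1 (.leaf 54) (.leaf 56))) (.node 1 (.leaf 57) (.node 1 (.leaf 60) (.leaf 61))))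
(.node 3 (.node 1 (.leaf 62) (.node 1 (.leaf 65) (.leaf 66))) (.node 1 (.leaf 68) (.node 1 (.leaf 69) (.leaf 72)))))))
(.node 24 (.node 12 (.node 6 (.node 3 (.node 1 (.leaf 73) (.node 1 (.leaf 74) (.leaf 76))) (.node 1 (.leaf 78) (.node 1 (.leaf 81) (.leaf 82))))
(.node 3 (.node 1 (.leaf 84) (.node 1 (.leaf 85) (.leaf 86))) (.node 1 (.leaf 88) (.node 1 (.leaf 89) (.leaf 94)))))
(.node 6 (.node 3 (.node 1 (.leaf 96) (.node 1 (.leaf 97) (.leaf 100))) (.node 1 (.leaf 101) (.node 1 (.leaf 102) (.leaf 104))))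
(.node 3 (.node 1 (.leaf 106) (.node 1 (.leaf 109) (.leaf 110))) (.node 1 (.leaf 112) (.node 1 (.leaf 114) (.leaf 116))))))
(.node 12 (.node 6 (.node 3 (.node 1 (.leaf 117) (.node 1 (.leaf 120) (.leaf 121))) (.node 1 (.leaf 122) (.node 1 (.leaf 124) (.leaf 128))))
(.node 3 (.node 1 (.leaf 129) (.node 1 (.leaf 130) (.leaf 132))) (.node 1 (.leaf 133) (.node 1 (.leaf 134) (.leaf 136)))))
(.node 6 (.node 3 (.node 1 (.leaf 137) (.node 1 (.leaf 140) (.leaf 141))) (.node 1 (.leaf 142) (.node 1 (.leaf 145) (.leaf 146))))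
(.node 3 (.node 1 (.leaf 148) (.node 1 (.leaf 149) (.leaf 152))) (.node 1 (.leaf 153) (.node 1 (.leaf 154) (.leaf 156))))))))
(.node 48 (.node 24 (.node 12 (.node 6 (.node 3 (.node 1 (.leaf 158) (.node 1 (.leaf 161) (.leaf 162))) (.node 1 (.leaf 165) (.node 1 (.leaf 166) (.leaf 168))))
(.node 3 (.node 1 (.leaf 169) (.node 1 (.leaf 174) (.leaf 176))) (.node 1 (.leaf 177) (.node 1 (.leaf 180) (.leaf 181)))))
(.node 6 (.node 3 (.node 1 (.leaf 182) (.node 1 (.leaf 184) (.leaf 186))) (.node 1 (.leaf 189) (.node 1 (.leaf 190) (.leaf 192))))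
(.node 3 (.node 1 (.leaf 194) (.node 1 (.leaf 196) (.leaf 197))) (.node 1 (.leaf 200) (.node 1 (.leaf 201) (.leaf 202))))))
(.node 12 (.node 6 (.node 3 (.node 1 (.leaf 204) (.node 1 (.leaf 208) (.leaf 209))) (.node 1 (.leaf 210) (.node 1 (.leaf 212) (.leaf 213))))
(.node 3 (.node 1 (.leaf 216) (.node 1 (.leaf 218) (.leaf 222))) (.node 1 (.leaf 224) (.node 1 (.leaf 225) (.leaf 228)))))
(.node 6 (.node 3 (.node 1 (.leaf 229) (.node 1 (.leaf 232) (.leaf 234))) (.node 1 (.leaf 236) (.node 1 (.leaf 237) (.leaf 240))))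
(.node 3 (.node 1 (.leaf 241) (.node 1 (.leaf 242) (.leaf 244))) (.node 1 (.leaf 246) (.node 1 (.leaf 249) (.leaf 250)))))))
(.node 24 (.node 12 (.node 6 (.node 3 (.node 1 (.leaf 252) (.node 1 (.leaf 254) (.leaf 256))) (.node 1 (.leaf 257) (.node 1 (.leaf 260) (.leaf 261))))
(.node 3 (.node 1 (.leaf 262) (.node 1 (.leaf 264) (.leaf 268))) (.node 1 (.leaf 270) (.node 1 (.leaf 272) (.leaf 273)))))
(.node 6 (.node 3 (.node 1 (.leaf 276) (.node 1 (.leaf 277) (.leaf 278))) (.node 1 (.leaf 280) (.node 1 (.leaf 281) (.leaf 284))))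
(.node 3 (.node 1 (.leaf 285) (.node 1 (.leaf 288) (.leaf 290))) (.node 1 (.leaf 293) (.node 1 (.leaf 294) (.leaf 296))))))
(.node 12 (.node 6 (.node 3 (.node 1 (.leaf 298) (.node 1 (.leaf 300) (.leaf 301))) (.node 1 (.leaf 304) (.node 1 (.leaf 305) (.leaf 306))))
(.node 3 (.node 1 (.leaf 309) (.node 1 (.leaf 310) (.leaf 313))) (.node 1 (.leaf 314) (.node 1 (.leaf 316) (.leaf 317)))))
(.node 6 (.node 3 (.node 1 (.leaf 320) (.node 1 (.leaf 321) (.leaf 322))) (.node 1 (.leaf 325) (.node 1 (.leaf 326) (.leaf 328))))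
(.node 3 (.node 1 (.leaf 329) (.node 1 (.leaf 332) (.leaf 333))) (.node 1 (.leaf 334) (.node 1 (.leaf 336) (.leaf 338)))))))))
(.node 96 (.node 48 (.node 24 (.node 12 (.node 6 (.node 3 (.node 1 (.leaf 342) (.node 1 (.leaf 345) (.leaf 346))) (.node 1 (.leaf 348) (.node 1 (.leaf 349) (.leaf 354))))
(.node 3 (.node 1 (.leaf 356) (.node 1 (.leaf 357) (.leaf 360))) (.node 1 (.leaf 361) (.node 1 (.leaf 362) (.leaf 364)))))
(.node 6 (.node 3 (.node 1 (.leaf 366) (.node 1 (.leaf 369) (.leaf 372))) (.node 1 (.leaf 374) (.node 1 (.leaf 376) (.leaf 377))))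
(.node 3 (.node 1 (.leaf 380) (.node 1 (.leaf 381) (.leaf 382))) (.node 1 (.leaf 384) (.node 1 (.leaf 388) (.leaf 389))))))
(.node 12 (.node 6 (.node 3 (.node 1 (.leaf 390) (.node 1 (.leaf 392) (.leaf 393))) (.node 1 (.leaf 398) (.node 1 (.leaf 400) (.leaf 401))))
(.node 3 (.node 1 (.leaf 404) (.node 1 (.leaf 405) (.leaf 408))) (.node 1 (.leaf 410) (.node 1 (.leaf 412) (.leaf 413)))))
(.node 6 (.node 3 (.node 1 (.leaf 416) (.node 1 (.leaf 417) (.leaf 418))) (.node 1 (.leaf 420) (.node 1 (.leaf 422) (.leaf 425))))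
(.node 3 (.node 1 (.leaf 426) (.node 1 (.leaf 428) (.leaf 430))) (.node 1 (.leaf 432) (.node 1 (.leaf 433) (.leaf 436)))))))
(.node 24 (.node 12 (.node 6 (.node 3 (.node 1 (.leaf 437) (.node 1 (.leaf 438) (.leaf 440))) (.node 1 (.leaf 444) (.node 1 (.leaf 446) (.leaf 448))))
(.node 3 (.node 1 (.leaf 449) (.node 1 (.leaf 452) (.leaf 453))) (.node 1 (.leaf 454) (.node 1 (.leaf 456) (.leaf 457)))))
(.node 6 (.node 3 (.node 1 (.leaf 460) (.node 1 (.leaf 461) (.leaf 464))) (.node 1 (.leaf 469) (.node 1 (.leaf 470) (.leaf 472))))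
(.node 3 (.node 1 (.leaf 474) (.node 1 (.leaf 476) (.leaf 477))) (.node 1 (.leaf 480) (.node 1 (.leaf 481) (.leaf 482))))))
(.node 12 (.node 6 (.node 3 (.node 1 (.leaf 486) (.node 1 (.leaf 489) (.leaf 490))) (.node 1 (.leaf 492) (.node 1 (.leaf 493) (.leaf 496))))
(.node 3 (.node 1 (.leaf 497) (.node 1 (.leaf 498) (.leaf 500))) (.node 1 (.leaf 502) (.node 1 (.leaf 506) (.leaf 508)))))
(.node 6 (.node 3 (.node 1 (.leaf 509) (.node 1 (.leaf 512) (.leaf 513))) (.node 1 (.leaf 516) (.node 1 (.leaf 517) (.leaf 518))))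
(.node 3 (.node 1 (.leaf 520) (.node 1 (.leaf 522) (.leaf 525))) (.node 1 (.leaf 526) (.node 1 (.leaf 528) (.leaf 532))))))))
(.node 48 (.node 24 (.node 12 (.node 6 (.node 3 (.node 1 (.leaf 533) (.node 1 (.leaf 536) (.leaf 540))) (.node 1 (.leaf 541) (.node 1 (.leaf 542) (.leaf 544))))
(.node 3 (.node 1 (.leaf 546) (.node 1 (.leaf 549) (.leaf 550))) (.node 1 (.leaf 552) (.node 1 (.leaf 554) (.leaf 556)))))
(.node 6 (.node 3 (.node 1 (.leaf 557) (.node 1 (.leaf 560) (.leaf 561))) (.node 1 (.leaf 562) (.node 1 (.leaf 564) (.leaf 568))))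
(.node 3 (.node 1 (.leaf 570) (.node 1 (.leaf 572) (.leaf 573))) (.node 1 (.leaf 576) (.node 1 (.leaf 577) (.leaf 578))))))
(.node 12 (.node 6 (.node 3 (.node 1 (.leaf 580) (.node 1 (.leaf 581) (.leaf 584))) (.node 1 (.leaf 585) (.node 1 (.leaf 588) (.leaf 593))))
(.node 3 (.node 1 (.leaf 594) (.node 1 (.leaf 596) (.leaf 598))) (.node 1 (.leaf 600) (.node 1 (.leaf 601) (.leaf 604)))))
(.node 6 (.node 3 (.node 1 (.leaf 605) (.node 1 (.leaf 606) (.leaf 609))) (.node 1 (.leaf 612) (.node 1 (.leaf 613) (.leaf 617))))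
(.node 3 (.node 1 (.leaf 618) (.node 1 (.leaf 620) (.leaf 622))) (.node 1 (.leaf 625) (.node 1 (.leaf 626) (.leaf 630)))))))
(.node 24 (.node 12 (.node 6 (.node 3 (.node 1 (.leaf 632) (.node 1 (.leaf 633) (.leaf 636))) (.node 1 (.leaf 637) (.node 1 (.leaf 638) (.leaf 640))))
(.node 3 (.node 1 (.leaf 642) (.node 1 (.leaf 645) (.leaf 646))) (.node 1 (.leaf 648) (.node 1 (.leaf 650) (.leaf 652)))))
(.node 6 (.node 3 (.node 1 (.leaf 653) (.node 1 (.leaf 656) (.leaf 660))) (.node 1 (.leaf 662) (.node 1 (.leaf 664) (.leaf 665))))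
(.node 3 (.node 1 (.leaf 668) (.node 1 (.leaf 670) (.leaf 672))) (.node 1 (.leaf 673) (.node 1 (.leaf 676) (.leaf 677))))))
(.node 12 (.node 6 (.node 3 (.node 1 (.leaf 680) (.node 1 (.leaf 682) (.leaf 685))) (.node 1 (.leaf 686) (.node 1 (.leaf 688) (.leaf 690))))
(.node 3 (.node 1 (.leaf 692) (.node 1 (.leaf 693) (.leaf 697))) (.node 1 (.leaf 698) (.node 1 (.leaf 700) (.leaf 701)))))
(.node 6 (.node 3 (.node 1 (.leaf 705) (.node 1 (.leaf 706) (.leaf 708))) (.node 1 (.leaf 709) (.node 1 (.leaf 712) (.leaf 713))))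
(.node 3 (.node 1 (.leaf 714) (.node 1 (.leaf 716) (.leaf 718))) (.node 1 (.leaf 722) (.node 1 (.leaf 725) (.leaf 726))))))))))
(.node 192 (.node 96 (.node 48 (.node 24 (.node 12 (.node 6 (.node 3 (.node 1 (.leaf 728) (.node 1 (.leaf 729) (.leaf 734))) (.node 1 (.leaf 736) (.node 1 (.leaf 737) (.leaf 740))))
(.node 3 (.node 1 (.leaf 741) (.node 1 (.leaf 742) (.leaf 744))) (.node 1 (.leaf 746) (.node 1 (.leaf 749) (.leaf 754)))))
(.node 6 (.node 3 (.node 1 (.leaf 757) (.node 1 (.leaf 760) (.leaf 761))) (.node 1 (.leaf 762) (.node 1 (.leaf 764) (.leaf 768))))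
(.node 3 (.node 1 (.leaf 769) (.node 1 (.leaf 774) (.leaf 776))) (.node 1 (.leaf 777) (.node 1 (.leaf 780) (.leaf 781))))))
(.node 12 (.node 6 (.node 3 (.node 1 (.leaf 784) (.node 1 (.leaf 786) (.leaf 788))) (.node 1 (.leaf 789) (.node 1 (.leaf 792) (.leaf 793))))
(.node 3 (.node 1 (.leaf 794) (.node 1 (.leaf 796) (.leaf 798))) (.node 1 (.leaf 801) (.node 1 (.leaf 804) (.leaf 806)))))
(.node 6 (.node 3 (.node 1 (.leaf 808) (.node 1 (.leaf 809) (.leaf 812))) (.node 1 (.leaf 813) (.node 1 (.leaf 814) (.leaf 816))))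
(.node 3 (.node 1 (.leaf 820) (.node 1 (.leaf 824) (.leaf 828))) (.node 1 (.leaf 829) (.node 1 (.leaf 832) (.leaf 833)))))))
(.node 24 (.node 12 (.node 6 (.node 3 (.node 1 (.leaf 836) (.node 1 (.leaf 841) (.leaf 842))) (.node 1 (.leaf 844) (.node 1 (.leaf 846) (.leaf 848))))
(.node 3 (.node 1 (.leaf 849) (.node 1 (.leaf 852) (.leaf 853))) (.node 1 (.leaf 858) (.node 1 (.leaf 862) (.leaf 865)))))
(.node 6 (.node 3 (.node 1 (.leaf 868) (.node 1 (.leaf 869) (.leaf 872))) (.node 1 (.leaf 874) (.node 1 (.leaf 876) (.leaf 877))))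
(.node 3 (.node 1 (.leaf 881) (.node 1 (.leaf 882) (.leaf 884))) (.node 1 (.leaf 886) (.node 1 (.leaf 889) (.leaf 892))))))
(.node 12 (.node 6 (.node 3 (.node 1 (.leaf 896) (.node 1 (.leaf 897) (.leaf 900))) (.node 1 (.leaf 904) (.node 1 (.leaf 905) (.leaf 906))))
(.node 3 (.node 1 (.leaf 908) (.node 1 (.leaf 910) (.leaf 913))) (.node 1 (.leaf 914) (.node 1 (.leaf 916) (.leaf 918)))))
(.node 6 (.node 3 (.node 1 (.leaf 920) (.node 1 (.leaf 921) (.leaf 924))) (.node 1 (.leaf 925) (.node 1 (.leaf 926) (.leaf 928))))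
(.node 3 (.node 1 (.leaf 932) (.node 1 (.leaf 934) (.leaf 936))) (.node 1 (.leaf 940) (.node 1 (.leaf 941) (.leaf 942))))))))
(.node 48 (.node 24 (.node 12 (.node 6 (.node 3 (.node 1 (.leaf 944) (.node 1 (.leaf 945) (.leaf 948))) (.node 1 (.leaf 957) (.node 1 (.leaf 958) (.leaf 960))))
(.node 3 (.node 1 (.leaf 962) (.node 1 (.leaf 964) (.leaf 965))) (.node 1 (.leaf 968) (.node 1 (.leaf 969) (.leaf 970)))))
(.node 6 (.node 3 (.node 1 (.leaf 973) (.node 1 (.leaf 976) (.leaf 977))) (.node 1 (.leaf 981) (.node 1 (.leaf 982) (.leaf 984))))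
(.node 3 (.node 1 (.leaf 989) (.node 1 (.leaf 994) (.leaf 996))) (.node 1 (.leaf 997) (.node 1 (.leaf 1000) (.leaf 1001))))))
(.node 12 (.node 6 (.node 3 (.node 1 (.leaf 1004) (.node 1 (.leaf 1009) (.leaf 1010))) (.node 1 (.leaf 1012) (.node 1 (.leaf 1014) (.leaf 1016))))
(.node 3 (.node 1 (.leaf 1017) (.node 1 (.leaf 1020) (.leaf 1022))) (.node 1 (.leaf 1024) (.node 1 (.leaf 1025) (.leaf 1030)))))
(.node 6 (.node 3 (.node 1 (.leaf 1033) (.node 1 (.leaf 1036) (.leaf 1037))) (.node 1 (.leaf 1040) (.node 1 (.leaf 1045) (.leaf 1048))))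
(.node 3 (.node 1 (.leaf 1050) (.node 1 (.leaf 1052) (.leaf 1053))) (.node 1 (.leaf 1056) (.node 1 (.leaf 1057) (.leaf 1062)))))))
(.node 24 (.node 12 (.node 6 (.node 3 (.node 1 (.leaf 1064) (.node 1 (.leaf 1065) (.leaf 1068))) (.node 1 (.leaf 1069) (.node 1 (.leaf 1070) (.leaf 1072))))
(.node 3 (.node 1 (.leaf 1074) (.node 1 (.leaf 1077) (.leaf 1080))) (.node 1 (.leaf 1082) (.node 1 (.leaf 1084) (.leaf 1085)))))
(.node 6 (.node 3 (.node 1 (.leaf 1088) (.node 1 (.leaf 1089) (.leaf 1090))) (.node 1 (.leaf 1096) (.node 1 (.leaf 1097) (.leaf 1100))))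
(.node 3 (.node 1 (.leaf 1101) (.node 1 (.leaf 1104) (.leaf 1106))) (.node 1 (.leaf 1108) (.node 1 (.leaf 1109) (.leaf 1112))))))
(.node 12 (.node 6 (.node 3 (.node 1 (.leaf 1114) (.node 1 (.leaf 1117) (.leaf 1120))) (.node 1 (.leaf 1122) (.node 1 (.leaf 1124) (.leaf 1128))))
(.node 3 (.node 1 (.leaf 1129) (.node 1 (.leaf 1130) (.leaf 1132))) (.node 1 (.leaf 1136) (.node 1 (.leaf 1138) (.leaf 1140)))))
(.node 6 (.node 3 (.node 1 (.leaf 1141) (.node 1 (.leaf 1144) (.leaf 1145))) (.node 1 (.leaf 1146) (.node 1 (.leaf 1149) (.leaf 1150))))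
(.node 3 (.node 1 (.leaf 1152) (.node 1 (.leaf 1157) (.leaf 1158))) (.node 1 (.leaf 1161) (.node 1 (.leaf 1162) (.leaf 1164)))))))))
(.node 96 (.node 48 (.node 24 (.node 12 (.node 6 (.node 3 (.node 1 (.leaf 1166) (.node 1 (.leaf 1168) (.leaf 1169))) (.node 1 (.leaf 1172) (.node 1 (.leaf 1173) (.leaf 1174))))
(.node 3 (.node 1 (.leaf 1176) (.node 1 (.leaf 1180) (.leaf 1182))) (.node 1 (.leaf 1184) (.node 1 (.leaf 1188) (.leaf 1190)))))
(.node 6 (.node 3 (.node 1 (.leaf 1192) (.node 1 (.leaf 1193) (.leaf 1196))) (.node 1 (.leaf 1197) (.node 1 (.leaf 1200) (.leaf 1205))))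
(.node 3 (.node 1 (.leaf 1210) (.node 1 (.leaf 1212) (.leaf 1213))) (.node 1 (.leaf 1216) (.node 1 (.leaf 1217) (.leaf 1221))))))
(.node 12 (.node 6 (.node 3 (.node 1 (.leaf 1224) (.node 1 (.leaf 1225) (.leaf 1230))) (.node 1 (.leaf 1232) (.node 1 (.leaf 1237) (.leaf 1238))))
(.node 3 (.node 1 (.leaf 1242) (.node 1 (.leaf 1244) (.leaf 1245))) (.node 1 (.leaf 1248) (.node 1 (.leaf 1249) (.leaf 1250)))))
(.node 6 (.node 3 (.node 1 (.leaf 1252) (.node 1 (.leaf 1258) (.leaf 1260))) (.node 1 (.leaf 1262) (.node 1 (.leaf 1264) (.leaf 1265))))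
(.node 3 (.node 1 (.leaf 1268) (.node 1 (.leaf 1270) (.leaf 1272))) (.node 1 (.leaf 1273) (.node 1 (.leaf 1276) (.leaf 1278)))))))
(.node 24 (.node 12 (.node 6 (.node 3 (.node 1 (.leaf 1280) (.node 1 (.leaf 1281) (.leaf 1284))) (.node 1 (.leaf 1285) (.node 1 (.leaf 1288) (.leaf 1293))))
(.node 3 (.node 1 (.leaf 1294) (.node 1 (.leaf 1296) (.leaf 1298))) (.node 1 (.leaf 1300) (.node 1 (.leaf 1301) (.leaf 1309)))))
(.node 6 (.node 3 (.node 1 (.leaf 1310) (.node 1 (.leaf 1312) (.leaf 1314))) (.node 1 (.leaf 1318) (.node 1 (.leaf 1320) (.leaf 1321))))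
(.node 3 (.node 1 (.leaf 1324) (.node 1 (.leaf 1325) (.leaf 1326))) (.node 1 (.leaf 1332) (.node 1 (.leaf 1334) (.leaf 1336))))))
(.node 12 (.node 6 (.node 3 (.node 1 (.leaf 1340) (.node 1 (.leaf 1341) (.leaf 1345))) (.node 1 (.leaf 1348) (.node 1 (.leaf 1350) (.leaf 1353))))
(.node 3 (.node 1 (.leaf 1354) (.node 1 (.leaf 1356) (.leaf 1361))) (.node 1 (.leaf 1364) (.node 1 (.leaf 1365) (.leaf 1366)))))
(.node 6 (.node 3 (.node 1 (.leaf 1368) (.node 1 (.leaf 1372) (.leaf 1374))) (.node 1 (.leaf 1377) (.node 1 (.leaf 1381) (.leaf 1382))))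
(.node 3 (.node 1 (.leaf 1385) (.node 1 (.leaf 1389) (.leaf 1390))) (.node 1 (.leaf 1392) (.node 1 (.leaf 1397) (.leaf 1402))))))))
(.node 48 (.node 24 (.node 12 (.node 6 (.node 3 (.node 1 (.leaf 1404) (.node 1 (.leaf 1405) (.leaf 1408))) (.node 1 (.leaf 1409) (.node 1 (.leaf 1410) (.leaf 1412))))
(.node 3 (.node 1 (.leaf 1414) (.node 1 (.leaf 1418) (.leaf 1420))) (.node 1 (.leaf 1421) (.node 1 (.leaf 1424) (.leaf 1425)))))
(.node 6 (.node 3 (.node 1 (.leaf 1428) (.node 1 (.leaf 1430) (.leaf 1433))) (.node 1 (.leaf 1434) (.node 1 (.leaf 1436) (.leaf 1440))))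
(.node 3 (.node 1 (.leaf 1441) (.node 1 (.leaf 1444) (.leaf 1450))) (.node 1 (.leaf 1452) (.node 1 (.leaf 1457) (.leaf 1458))))))
(.node 12 (.node 6 (.node 3 (.node 1 (.leaf 1460) (.node 1 (.leaf 1461) (.leaf 1464))) (.node 1 (.leaf 1468) (.node 1 (.leaf 1474) (.leaf 1476))))
(.node 3 (.node 1 (.leaf 1477) (.node 1 (.leaf 1481) (.leaf 1482))) (.node 1 (.leaf 1484) (.node 1 (.leaf 1486) (.leaf 1490)))))
(.node 6 (.node 3 (.node 1 (.leaf 1492) (.node 1 (.leaf 1493) (.leaf 1496))) (.node 1 (.leaf 1497) (.node 1 (.leaf 1498) (.leaf 1500))))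
(.node 3 (.node 1 (.leaf 1502) (.node 1 (.leaf 1505) (.leaf 1510))) (.node 1 (.leaf 1513) (.node 1 (.leaf 1516) (.leaf 1518)))))))
(.node 24 (.node 12 (.node 6 (.node 3 (.node 1 (.leaf 1520) (.node 1 (.leaf 1524) (.leaf 1525))) (.node 1 (.leaf 1530) (.node 1 (.leaf 1532) (.leaf 1533))))
(.node 3 (.node 1 (.leaf 1536) (.node 1 (.leaf 1537) (.leaf 1540))) (.node 1 (.leaf 1542) (.node 1 (.leaf 1544) (.leaf 1545)))))
(.node 6 (.node 3 (.node 1 (.leaf 1548) (.node 1 (.leaf 1549) (.leaf 1550))) (.node 1 (.leaf 1552) (.node 1 (.leaf 1554) (.leaf 1557))))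
(.node 3 (.node 1 (.leaf 1562) (.node 1 (.leaf 1565) (.leaf 1568))) (.node 1 (.leaf 1569) (.node 1 (.leaf 1570) (.leaf 1572))))))
(.node 12 (.node 6 (.node 3 (.node 1 (.leaf 1581) (.node 1 (.leaf 1584) (.leaf 1590))) (.node 1 (.leaf 1594) (.node 1 (.leaf 1597) (.leaf 1600))))
(.node 3 (.node 1 (.leaf 1601) (.node 1 (.leaf 1604) (.leaf 1605))) (.node 1 (.leaf 1608) (.node 1 (.leaf 1610) (.leaf 1612)))))
(.node 6 (.node 3 (.node 1 (.leaf 1613) (.node 1 (.leaf 1617) (.leaf 1620))) (.node 1 (.leaf 1622) (.node 1 (.leaf 1625) (.leaf 1628))))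
(.node 3 (.node 1 (.leaf 1632) (.node 1 (.leaf 1633) (.leaf 1636))) (.node 1 (.leaf 1640) (.node 1 (.leaf 1641) (.leaf 1642)))))))))))
(.node 384 (.node 192 (.node 96 (.node 48 (.node 24 (.node 12 (.node 6 (.node 3 (.node 1 (.leaf 1644) (.node 1 (.leaf 1646) (.leaf 1649))) (.node 1 (.leaf 1654) (.node 1 (.leaf 1656) (.leaf 1657))))
(.node 3 (.node 1 (.leaf 1660) (.node 1 (.leaf 1661) (.leaf 1662))) (.node 1 (.leaf 1668) (.node 1 (.leaf 1672) (.leaf 1676)))))
(.node 6 (.node 3 (.node 1 (.leaf 1677) (.node 1 (.leaf 1680) (.leaf 1689))) (.node 1 (.leaf 1690) (.node 1 (.leaf 1692) (.leaf 1694))))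
(.node 3 (.node 1 (.leaf 1696) (.node 1 (.leaf 1697) (.leaf 1700))) (.node 1 (.leaf 1701) (.node 1 (.leaf 1702) (.leaf 1705))))))
(.node 12 (.node 6 (.node 3 (.node 1 (.leaf 1712) (.node 1 (.leaf 1713) (.leaf 1716))) (.node 1 (.leaf 1721) (.node 1 (.leaf 1722) (.leaf 1724))))
(.node 3 (.node 1 (.leaf 1726) (.node 1 (.leaf 1728) (.leaf 1732))) (.node 1 (.leaf 1734) (.node 1 (.leaf 1736) (.leaf 1742)))))
(.node 6 (.node 3 (.node 1 (.leaf 1745) (.node 1 (.leaf 1748) (.leaf 1749))) (.node 1 (.leaf 1752) (.node 1 (.leaf 1757) (.leaf 1760))))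
(.node 3 (.node 1 (.leaf 1764) (.node 1 (.leaf 1765) (.leaf 1768))) (.node 1 (.leaf 1769) (.node 1 (.leaf 1774) (.leaf 1777)))))))
(.node 24 (.node 12 (.node 6 (.node 3 (.node 1 (.leaf 1780) (.node 1 (.leaf 1784) (.leaf 1785))) (.node 1 (.leaf 1792) (.node 1 (.leaf 1793) (.leaf 1796))))
(.node 3 (.node 1 (.leaf 1798) (.node 1 (.leaf 1800) (.leaf 1802))) (.node 1 (.leaf 1804) (.node 1 (.leaf 1809) (.leaf 1810)))))
(.node 6 (.node 3 (.node 1 (.leaf 1816) (.node 1 (.leaf 1820) (.leaf 1821))) (.node 1 (.leaf 1822) (.node 1 (.leaf 1825) (.leaf 1826))))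
(.node 3 (.node 1 (.leaf 1828) (.node 1 (.leaf 1833) (.leaf 1834))) (.node 1 (.leaf 1837) (.node 1 (.leaf 1840) (.leaf 1842))))))
(.node 12 (.node 6 (.node 3 (.node 1 (.leaf 1848) (.node 1 (.leaf 1849) (.leaf 1850))) (.node 1 (.leaf 1852) (.node 1 (.leaf 1856) (.leaf 1858))))
(.node 3 (.node 1 (.leaf 1860) (.node 1 (.leaf 1866) (.leaf 1869))) (.node 1 (.leaf 1872) (.node 1 (.leaf 1873) (.leaf 1876)))))
(.node 6 (.node 3 (.node 1 (.leaf 1886) (.node 1 (.leaf 1889) (.leaf 1892))) (.node 1 (.leaf 1893) (.node 1 (.leaf 1897) (.leaf 1900))))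
(.node 3 (.node 1 (.leaf 1906) (.node 1 (.leaf 1909) (.leaf 1914))) (.node 1 (.leaf 1916) (.node 1 (.leaf 1920) (.leaf 1922))))))))
(.node 48 (.node 24 (.node 12 (.node 6 (.node 3 (.node 1 (.leaf 1924) (.node 1 (.leaf 1930) (.leaf 1932))) (.node 1 (.leaf 1934) (.node 1 (.leaf 1936) (.leaf 1942))))
(.node 3 (.node 1 (.leaf 1944) (.node 1 (.leaf 1945) (.leaf 1948))) (.node 1 (.leaf 1957) (.node 1 (.leaf 1958) (.leaf 1960)))))
(.node 6 (.node 3 (.node 1 (.leaf 1962) (.node 1 (.leaf 1964) (.leaf 1965))) (.node 1 (.leaf 1973) (.node 1 (.leaf 1974) (.leaf 1976))))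
(.node 3 (.node 1 (.leaf 1982) (.node 1 (.leaf 1985) (.leaf 1989))) (.node 1 (.leaf 1990) (.node 1 (.leaf 1992) (.leaf 1994))))))
(.node 12 (.node 6 (.node 3 (.node 1 (.leaf 1996) (.node 1 (.leaf 1997) (.leaf 2001))) (.node 1 (.leaf 2004) (.node 1 (.leaf 2009) (.leaf 2010))))
(.node 3 (.node 1 (.leaf 2012) (.node 1 (.leaf 2016) (.leaf 2017))) (.node 1 (.leaf 2020) (.node 1 (.leaf 2022) (.leaf 2025)))))
(.node 6 (.node 3 (.node 1 (.leaf 2029) (.node 1 (.leaf 2030) (.leaf 2033))) (.node 1 (.leaf 2038) (.node 1 (.leaf 2040) (.leaf 2046))))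
(.node 3 (.node 1 (.leaf 2048) (.node 1 (.leaf 2049) (.leaf 2052))) (.node 1 (.leaf 2053) (.node 1 (.leaf 2054) (.leaf 2056)))))))
(.node 24 (.node 12 (.node 6 (.node 3 (.node 1 (.leaf 2060) (.node 1 (.leaf 2061) (.leaf 2069))) (.node 1 (.leaf 2070) (.node 1 (.leaf 2072) (.leaf 2076))))
(.node 3 (.node 1 (.leaf 2077) (.node 1 (.leaf 2085) (.leaf 2086))) (.node 1 (.leaf 2089) (.node 1 (.leaf 2092) (.leaf 2096)))))
(.node 6 (.node 3 (.node 1 (.leaf 2100) (.node 1 (.leaf 2101) (.leaf 2104))) (.node 1 (.leaf 2106) (.node 1 (.leaf 2108) (.leaf 2109))))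
(.node 3 (.node 1 (.leaf 2112) (.node 1 (.leaf 2113) (.leaf 2114))) (.node 1 (.leaf 2116) (.node 1 (.leaf 2118) (.leaf 2121))))))
(.node 12 (.node 6 (.node 3 (.node 1 (.leaf 2126) (.node 1 (.leaf 2129) (.leaf 2132))) (.node 1 (.leaf 2133) (.node 1 (.leaf 2134) (.leaf 2136))))
(.node 3 (.node 1 (.leaf 2140) (.node 1 (.leaf 2144) (.leaf 2148))) (.node 1 (.leaf 2149) (.node 1 (.leaf 2152) (.leaf 2153)))))
(.node 6 (.node 3 (.node 1 (.leaf 2161) (.node 1 (.leaf 2166) (.leaf 2168))) (.node 1 (.leaf 2169) (.node 1 (.leaf 2172) (.leaf 2173))))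
(.node 3 (.node 1 (.leaf 2176) (.node 1 (.leaf 2178) (.leaf 2184))) (.node 1 (.leaf 2189) (.node 1 (.leaf 2192) (.leaf 2197)))))))))
(.node 96 (.node 48 (.node 24 (.node 12 (.node 6 (.node 3 (.node 1 (.leaf 2200) (.node 1 (.leaf 2204) (.leaf 2205))) (.node 1 (.leaf 2208) (.node 1 (.leaf 2212) (.leaf 2216))))
(.node 3 (.node 1 (.leaf 2217) (.node 1 (.leaf 2220) (.leaf 2229))) (.node 1 (.leaf 2232) (.node 1 (.leaf 2234) (.leaf 2236)))))
(.node 6 (.node 3 (.node 1 (.leaf 2240) (.node 1 (.leaf 2242) (.leaf 2245))) (.node 1 (.leaf 2248) (.node 1 (.leaf 2249) (.leaf 2254))))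
(.node 3 (.node 1 (.leaf 2256) (.node 1 (.leaf 2261) (.leaf 2266))) (.node 1 (.leaf 2268) (.node 1 (.leaf 2269) (.leaf 2272))))))
(.node 12 (.node 6 (.node 3 (.node 1 (.leaf 2274) (.node 1 (.leaf 2276) (.leaf 2282))) (.node 1 (.leaf 2284) (.node 1 (.leaf 2286) (.leaf 2289))))
(.node 3 (.node 1 (.leaf 2292) (.node 1 (.leaf 2294) (.leaf 2300))) (.node 1 (.leaf 2302) (.node 1 (.leaf 2304) (.leaf 2305)))))
(.node 6 (.node 3 (.node 1 (.leaf 2309) (.node 1 (.leaf 2312) (.leaf 2317))) (.node 1 (.leaf 2322) (.node 1 (.leaf 2324) (.leaf 2325))))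
(.node 3 (.node 1 (.leaf 2328) (.node 1 (.leaf 2336) (.leaf 2342))) (.node 1 (.leaf 2346) (.node 1 (.leaf 2348) (.leaf 2352)))))))
(.node 24 (.node 12 (.node 6 (.node 3 (.node 1 (.leaf 2353) (.node 1 (.leaf 2354) (.leaf 2356))) (.node 1 (.leaf 2362) (.node 1 (.leaf 2364) (.leaf 2366))))
(.node 3 (.node 1 (.leaf 2368) (.node 1 (.leaf 2369) (.leaf 2374))) (.node 1 (.leaf 2376) (.node 1 (.leaf 2377) (.leaf 2380)))))
(.node 6 (.node 3 (.node 1 (.leaf 2381) (.node 1 (.leaf 2384) (.leaf 2389))) (.node 1 (.leaf 2392) (.node 1 (.leaf 2402) (.leaf 2404))))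
(.node 3 (.node 1 (.leaf 2408) (.node 1 (.leaf 2409) (.leaf 2412))) (.node 1 (.leaf 2414) (.node 1 (.leaf 2416) (.leaf 2418))))))
(.node 12 (.node 6 (.node 3 (.node 1 (.leaf 2420) (.node 1 (.leaf 2424) (.leaf 2429))) (.node 1 (.leaf 2432) (.node 1 (.leaf 2438) (.leaf 2440))))
(.node 3 (.node 1 (.leaf 2445) (.node 1 (.leaf 2448) (.leaf 2450))) (.node 1 (.leaf 2453) (.node 1 (.leaf 2457) (.leaf 2461)))))
(.node 6 (.node 3 (.node 1 (.leaf 2466) (.node 1 (.leaf 2474) (.leaf 2476))) (.node 1 (.leaf 2477) (.node 1 (.leaf 2480) (.leaf 2482))))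
(.node 3 (.node 1 (.leaf 2484) (.node 1 (.leaf 2492) (.leaf 2493))) (.node 1 (.leaf 2496) (.node 1 (.leaf 2500) (.leaf 2506))))))))
(.node 48 (.node 24 (.node 12 (.node 6 (.node 3 (.node 1 (.leaf 2508) (.node 1 (.leaf 2512) (.leaf 2513))) (.node 1 (.leaf 2526) (.node 1 (.leaf 2528) (.leaf 2529))))
(.node 3 (.node 1 (.leaf 2532) (.node 1 (.leaf 2536) (.leaf 2542))) (.node 1 (.leaf 2544) (.node 1 (.leaf 2545) (.leaf 2548)))))
(.node 6 (.node 3 (.node 1 (.leaf 2550) (.node 1 (.leaf 2552) (.leaf 2556))) (.node 1 (.leaf 2557) (.node 1 (.leaf 2561) (.leaf 2564))))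
(.node 3 (.node 1 (.leaf 2570) (.node 1 (.leaf 2572) (.leaf 2574))) (.node 1 (.leaf 2576) (.node 1 (.leaf 2577) (.leaf 2582))))))
(.node 12 (.node 6 (.node 3 (.node 1 (.leaf 2589) (.node 1 (.leaf 2594) (.leaf 2596))) (.node 1 (.leaf 2598) (.node 1 (.leaf 2604) (.leaf 2605))))
(.node 3 (.node 1 (.leaf 2612) (.node 1 (.leaf 2614) (.leaf 2616))) (.node 1 (.leaf 2621) (.node 1 (.leaf 2622) (.leaf 2629)))))
(.node 6 (.node 3 (.node 1 (.leaf 2630) (.node 1 (.leaf 2632) (.leaf 2637))) (.node 1 (.leaf 2640) (.node 1 (.leaf 2641) (.leaf 2648))))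
(.node 3 (.node 1 (.leaf 2649) (.node 1 (.leaf 2652) (.leaf 2658))) (.node 1 (.leaf 2661) (.node 1 (.leaf 2668) (.leaf 2670)))))))
(.node 24 (.node 12 (.node 6 (.node 3 (.node 1 (.leaf 2672) (.node 1 (.leaf 2673) (.leaf 2678))) (.node 1 (.leaf 2684) (.node 1 (.leaf 2688) (.leaf 2689))))
(.node 3 (.node 1 (.leaf 2694) (.node 1 (.leaf 2700) (.leaf 2702))) (.node 1 (.leaf 2704) (.node 1 (.leaf 2705) (.leaf 2710)))))
(.node 6 (.node 3 (.node 1 (.leaf 2720) (.node 1 (.leaf 2724) (.leaf 2726))) (.node 1 (.leaf 2729) (.node 1 (.leaf 2732) (.leaf 2736))))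
(.node 3 (.node 1 (.leaf 2740) (.node 1 (.leaf 2744) (.leaf 2746))) (.node 1 (.leaf 2748) (.node 1 (.leaf 2749) (.leaf 2753))))))
(.node 12 (.node 6 (.node 3 (.node 1 (.leaf 2754) (.node 1 (.leaf 2757) (.leaf 2758))) (.node 1 (.leaf 2760) (.node 1 (.leaf 2774) (.leaf 2778))))
(.node 3 (.node 1 (.leaf 2780) (.node 1 (.leaf 2784) (.leaf 2786))) (.node 1 (.leaf 2788) (.node 1 (.leaf 2794) (.leaf 2797)))))
(.node 6 (.node 3 (.node 1 (.leaf 2800) (.node 1 (.leaf 2801) (.leaf 2804))) (.node 1 (.leaf 2805) (.node 1 (.leaf 2806) (.leaf 2808))))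
(.node 3 (.node 1 (.leaf 2810) (.node 1 (.leaf 2814) (.leaf 2822))) (.node 1 (.leaf 2829) (.node 1 (.leaf 2832) (.leaf 2834))))))))))
(.node 192 (.node 96 (.node 48 (.node 24 (.node 12 (.node 6 (.node 3 (.node 1 (.leaf 2838) (.node 1 (.leaf 2841) (.leaf 2846))) (.node 1 (.leaf 2852) (.node 1 (.leaf 2854) (.leaf 2865))))
(.node 3 (.node 1 (.leaf 2874) (.node 1 (.leaf 2877) (.leaf 2881))) (.node 1 (.leaf 2885) (.node 1 (.leaf 2888) (.leaf 2890)))))
(.node 6 (.node 3 (.node 1 (.leaf 2892) (.node 1 (.leaf 2893) (.leaf 2897))) (.node 1 (.leaf 2900) (.node 1 (.leaf 2902) (.leaf 2905))))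
(.node 3 (.node 1 (.leaf 2912) (.node 1 (.leaf 2916) (.leaf 2920))) (.node 1 (.leaf 2921) (.node 1 (.leaf 2924) (.leaf 2926))))))
(.node 12 (.node 6 (.node 3 (.node 1 (.leaf 2934) (.node 1 (.leaf 2937) (.leaf 2942))) (.node 1 (.leaf 2953) (.node 1 (.leaf 2962) (.leaf 2966))))
(.node 3 (.node 1 (.leaf 2969) (.node 1 (.leaf 2972) (.leaf 2973))) (.node 1 (.leaf 2976) (.node 1 (.leaf 2980) (.leaf 2984)))))
(.node 6 (.node 3 (.node 1 (.leaf 2989) (.node 1 (.leaf 2992) (.leaf 2997))) (.node 1 (.leaf 3005) (.node 1 (.leaf 3008) (.leaf 3012))))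
(.node 3 (.node 1 (.leaf 3013) (.node 1 (.leaf 3020) (.leaf 3021))) (.node 1 (.leaf 3024) (.node 1 (.leaf 3026) (.leaf 3033)))))))
(.node 24 (.node 12 (.node 6 (.node 3 (.node 1 (.leaf 3040) (.node 1 (.leaf 3044) (.leaf 3045))) (.node 1 (.leaf 3052) (.node 1 (.leaf 3061) (.leaf 3066))))
(.node 3 (.node 1 (.leaf 3072) (.node 1 (.leaf 3073) (.leaf 3074))) (.node 1 (.leaf 3076) (.node 1 (.leaf 3080) (.leaf 3085)))))
(.node 6 (.node 3 (.node 1 (.leaf 3088) (.node 1 (.leaf 3089) (.leaf 3102))) (.node 1 (.leaf 3105) (.node 1 (.leaf 3109) (.leaf 3116))))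
(.node 3 (.node 1 (.leaf 3118) (.node 1 (.leaf 3126) (.leaf 3130))) (.node 1 (.leaf 3140) (.node 1 (.leaf 3141) (.leaf 3144))))))
(.node 12 (.node 6 (.node 3 (.node 1 (.leaf 3153) (.node 1 (.leaf 3158) (.leaf 3161))) (.node 1 (.leaf 3169) (.node 1 (.leaf 3170) (.leaf 3172))))
(.node 3 (.node 1 (.leaf 3176) (.node 1 (.leaf 3182) (.leaf 3185))) (.node 1 (.leaf 3190) (.node 1 (.leaf 3193) (.leaf 3198)))))
(.node 6 (.node 3 (.node 1 (.leaf 3202) (.node 1 (.leaf 3204) (.leaf 3205))) (.node 1 (.leaf 3210) (.node 1 (.leaf 3212) (.leaf 3221))))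
(.node 3 (.node 1 (.leaf 3222) (.node 1 (.leaf 3224) (.leaf 3228))) (.node 1 (.leaf 3237) (.node 1 (.leaf 3240) (.leaf 3244))))))))
(.node 48 (.node 24 (.node 12 (.node 6 (.node 3 (.node 1 (.leaf 3246) (.node 1 (.leaf 3249) (.leaf 3252))) (.node 1 (.leaf 3254) (.node 1 (.leaf 3256) (.leaf 3260))))
(.node 3 (.node 1 (.leaf 3264) (.node 1 (.leaf 3269) (.leaf 3277))) (.node 1 (.leaf 3280) (.node 1 (.leaf 3285) (.leaf 3288)))))
(.node 6 (.node 3 (.node 1 (.leaf 3292) (.node 1 (.leaf 3296) (.leaf 3306))) (.node 1 (.leaf 3308) (.node 1 (.leaf 3324) (.leaf 3325))))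
(.node 3 (.node 1 (.leaf 3328) (.node 1 (.leaf 3338) (.leaf 3340))) (.node 1 (.leaf 3342) (.node 1 (.leaf 3345) (.leaf 3348))))))
(.node 12 (.node 6 (.node 3 (.node 1 (.leaf 3366) (.node 1 (.leaf 3372) (.leaf 3380))) (.node 1 (.leaf 3386) (.node 1 (.leaf 3388) (.leaf 3398))))
(.node 3 (.node 1 (.leaf 3400) (.node 1 (.leaf 3405) (.leaf 3409))) (.node 1 (.leaf 3417) (.node 1 (.leaf 3420) (.leaf 3430)))))
(.node 6 (.node 3 (.node 1 (.leaf 3432) (.node 1 (.leaf 3433) (.leaf 3436))) (.node 1 (.leaf 3438) (.node 1 (.leaf 3440) (.leaf 3445))))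
(.node 3 (.node 1 (.leaf 3450) (.node 1 (.leaf 3461) (.leaf 3466))) (.node 1 (.leaf 3468) (.node 1 (.leaf 3472) (.leaf 3474)))))))
(.node 24 (.node 12 (.node 6 (.node 3 (.node 1 (.leaf 3476) (.node 1 (.leaf 3480) (.leaf 3490))) (.node 1 (.leaf 3508) (.node 1 (.leaf 3518) (.leaf 3520))))
(.node 3 (.node 1 (.leaf 3521) (.node 1 (.leaf 3526) (.leaf 3529))) (.node 1 (.leaf 3536) (.node 1 (.leaf 3541) (.leaf 3546)))))
(.node 6 (.node 3 (.node 1 (.leaf 3556) (.node 1 (.leaf 3564) (.leaf 3565))) (.node 1 (.leaf 3568) (.node 1 (.leaf 3570) (.leaf 3572))))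
(.node 3 (.node 1 (.leaf 3577) (.node 1 (.leaf 3578) (.leaf 3582))) (.node 1 (.leaf 3584) (.node 1 (.leaf 3593) (.leaf 3602))))))
(.node 12 (.node 6 (.node 3 (.node 1 (.leaf 3605) (.node 1 (.leaf 3613) (.leaf 3618))) (.node 1 (.leaf 3620) (.node 1 (.leaf 3624) (.leaf 3625))))
(.node 3 (.node 1 (.leaf 3638) (.node 1 (.leaf 3646) (.leaf 3648))) (.node 1 (.leaf 3652) (.node 1 (.leaf 3656) (.leaf 3658)))))
(.node 6 (.node 3 (.node 1 (.leaf 3660) (.node 1 (.leaf 3665) (.leaf 3666))) (.node 1 (.leaf 3670) (.node 1 (.leaf 3672) (.leaf 3680))))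
(.node 3 (.node 1 (.leaf 3684) (.node 1 (.leaf 3690) (.leaf 3693))) (.node 1 (.leaf 3705) (.node 1 (.leaf 3712) (.leaf 3716)))))))))
(.node 96 (.node 48 (.node 24 (.node 12 (.node 6 (.node 3 (.node 1 (.leaf 3718) (.node 1 (.leaf 3721) (.leaf 3726))) (.node 1 (.leaf 3728) (.node 1 (.leaf 3732) (.leaf 3733))))
(.node 3 (.node 1 (.leaf 3734) (.node 1 (.leaf 3754) (.leaf 3758))) (.node 1 (.leaf 3766) (.node 1 (.leaf 3776) (.leaf 3786)))))
(.node 6 (.node 3 (.node 1 (.leaf 3790) (.node 1 (.leaf 3794) (.leaf 3800))) (.node 1 (.leaf 3812) (.node 1 (.leaf 3826) (.leaf 3836))))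
(.node 3 (.node 1 (.leaf 3842) (.node 1 (.leaf 3853) (.leaf 3857))) (.node 1 (.leaf 3861) (.node 1 (.leaf 3872) (.leaf 3880))))))
(.node 12 (.node 6 (.node 3 (.node 1 (.leaf 3890) (.node 1 (.leaf 3902) (.leaf 3904))) (.node 1 (.leaf 3909) (.node 1 (.leaf 3913) (.leaf 3914))))
(.node 3 (.node 1 (.leaf 3916) (.node 1 (.leaf 3921) (.leaf 3928))) (.node 1 (.leaf 3934) (.node 1 (.leaf 3936) (.leaf 3937)))))
(.node 6 (.node 3 (.node 1 (.leaf 3941) (.node 1 (.leaf 3942) (.leaf 3953))) (.node 1 (.leaf 3956) (.node 1 (.leaf 3970) (.leaf 3972))))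
(.node 3 (.node 1 (.leaf 3978) (.node 1 (.leaf 3984) (.leaf 3986))) (.node 1 (.leaf 3994) (.node 1 (.leaf 3997) (.leaf 4009)))))))
(.node 24 (.node 12 (.node 6 (.node 3 (.node 1 (.leaf 4014) (.node 1 (.leaf 4016) (.leaf 4017))) (.node 1 (.leaf 4025) (.node 1 (.leaf 4032) (.leaf 4040))))
(.node 3 (.node 1 (.leaf 4042) (.node 1 (.leaf 4053) (.leaf 4064))) (.node 1 (.leaf 4065) (.node 1 (.leaf 4068) (.leaf 4078)))))
(.node 6 (.node 3 (.node 1 (.leaf 4080) (.node 1 (.leaf 4084) (.leaf 4085))) (.node 1 (.leaf 4096) (.node 1 (.leaf 4097) (.leaf 4100))))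
(.node 3 (.node 1 (.leaf 4102) (.node 1 (.leaf 4105) (.leaf 4108))) (.node 1 (.leaf 4116) (.node 1 (.leaf 4117) (.leaf 4122))))))
(.node 12 (.node 6 (.node 3 (.node 1 (.leaf 4134) (.node 1 (.leaf 4140) (.leaf 4149))) (.node 1 (.leaf 4158) (.node 1 (.leaf 4177) (.leaf 4180))))
(.node 3 (.node 1 (.leaf 4184) (.node 1 (.leaf 4196) (.leaf 4197))) (.node 1 (.leaf 4202) (.node 1 (.leaf 4204) (.leaf 4216)))))
(.node 6 (.node 3 (.node 1 (.leaf 4221) (.node 1 (.leaf 4225) (.leaf 4230))) (.node 1 (.leaf 4240) (.node 1 (.leaf 4244) (.leaf 4250))))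
(.node 3 (.node 1 (.leaf 4253) (.node 1 (.leaf 4256) (.leaf 4257))) (.node 1 (.leaf 4270) (.node 1 (.leaf 4281) (.leaf 4284))))))))
(.node 48 (.node 24 (.node 12 (.node 6 (.node 3 (.node 1 (.leaf 4292) (.node 1 (.leaf 4305) (.leaf 4309))) (.node 1 (.leaf 4312) (.node 1 (.leaf 4317) (.leaf 4330))))
(.node 3 (.node 1 (.leaf 4337) (.node 1 (.leaf 4340) (.leaf 4358))) (.node 1 (.leaf 4364) (.node 1 (.leaf 4374) (.leaf 4389)))))
(.node 6 (.node 3 (.node 1 (.leaf 4401) (.node 1 (.leaf 4417) (.leaf 4425))) (.node 1 (.leaf 4428) (.node 1 (.leaf 4429) (.leaf 4448))))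
(.node 3 (.node 1 (.leaf 4452) (.node 1 (.leaf 4460) (.leaf 4461))) (.node 1 (.leaf 4476) (.node 1 (.leaf 4481) (.leaf 4485))))))
(.node 12 (.node 6 (.node 3 (.node 1 (.leaf 4502) (.node 1 (.leaf 4510) (.leaf 4516))) (.node 1 (.leaf 4518) (.node 1 (.leaf 4526) (.leaf 4529))))
(.node 3 (.node 1 (.leaf 4550) (.node 1 (.leaf 4553) (.leaf 4569))) (.node 1 (.leaf 4574) (.node 1 (.leaf 4582) (.leaf 4598)))))
(.node 6 (.node 3 (.node 1 (.leaf 4656) (.node 1 (.leaf 4662) (.leaf 4705))) (.node 1 (.leaf 4713) (.node 1 (.leaf 4725) (.leaf 4740))))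
(.node 3 (.node 1 (.leaf 4756) (.node 1 (.leaf 4764) (.leaf 4784))) (.node 1 (.leaf 4789) (.node 1 (.leaf 4830) (.leaf 4836)))))))
(.node 24 (.node 12 (.node 6 (.node 3 (.node 1 (.leaf 4850) (.node 1 (.leaf 4857) (.leaf 4870))) (.node 1 (.leaf 4877) (.node 1 (.leaf 4880) (.leaf 4884))))
(.node 3 (.node 1 (.leaf 4894) (.node 1 (.leaf 4910) (.leaf 4917))) (.node 1 (.leaf 4918) (.node 1 (.leaf 4922) (.leaf 4925)))))
(.node 6 (.node 3 (.node 1 (.leaf 4933) (.node 1 (.leaf 4941) (.leaf 4949))) (.node 1 (.leaf 4966) (.node 1 (.leaf 4974) (.leaf 4978))))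
(.node 3 (.node 1 (.leaf 4989) (.node 1 (.leaf 5001) (.leaf 5030))) (.node 1 (.leaf 5060) (.node 1 (.leaf 5133) (.leaf 5137))))))
(.node 12 (.node 6 (.node 3 (.node 1 (.leaf 5154) (.node 1 (.leaf 5181) (.leaf 5184))) (.node 1 (.leaf 5198) (.node 1 (.leaf 5201) (.leaf 5234))))
(.node 3 (.node 1 (.leaf 5237) (.node 1 (.leaf 5277) (.leaf 5289))) (.node 1 (.leaf 5309) (.node 1 (.leaf 5330) (.leaf 5334)))))
(.node 6 (.node 3 (.node 1 (.leaf 5346) (.node 1 (.leaf 5354) (.leaf 5421))) (.node 1 (.leaf 5428) (.node 1 (.leaf 5434) (.leaf 5482))))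
(.node 3 (.node 1 (.leaf 5493) (.node 1 (.leaf 5505) (.leaf 5541))) (.node 1 (.leaf 5557) (.node 1 (.leaf 5656) (.leaf 5700))))))))))))

/-- An automorphism. -/
def oneFwd0 : Tab ℕ :=
(.node 768 (.node 384 (.node 192 (.node 96 (.node 48 (.node 24 (.node 12 (.node 6 (.node 3 (.node 1 (.leaf 17043521) (.node 1 (.leaf 17461329) (.leaf 17127513))) (.node 1 (.leaf 16984145) (.node 1 (.leaf 17195073) (.leaf 16986185))))
(.node 3 (.node 1 (.leaf 17657921) (.node 1 (.leaf 17512533) (.leaf 17043523))) (.node 1 (.leaf 16932935) (.node 1 (.leaf 17782849) (.leaf 17440841)))))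
(.node 6 (.node 3 (.node 1 (.leaf 17043537) (.node 1 (.leaf 17721433) (.leaf 17193041))) (.node 1 (.leaf 17768517) (.node 1 (.leaf 17461331) (.leaf 17051735))))
(.node 3 (.node 1 (.leaf 16998481) (.node 1 (.leaf 17576025) (.leaf 17246301))) (.node 1 (.leaf 16939103) (.node 1 (.leaf 17578059) (.leaf 17127515))))))
(.node 12 (.node 6 (.node 3 (.node 1 (.leaf 16984147) (.node 1 (.leaf 17698895) (.leaf 17524813))) (.node 1 (.leaf 17643601) (.node 1 (.leaf 17240153) (.leaf 17784913))))
(.node 3 (.node 1 (.leaf 17190981) (.node 1 (.leaf 17635415) (.leaf 17461313))) (.node 1 (.leaf 17127497) (.node 1 (.leaf 16984129) (.leaf 17569877)))))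
(.node 6 (.node 3 (.node 1 (.leaf 17195075) (.node 1 (.leaf 17715271) (.leaf 17053761))) (.node 1 (.leaf 17698889) (.node 1 (.leaf 17649741) (.leaf 17246287))))
(.node 3 (.node 1 (.leaf 17766491) (.node 1 (.leaf 16986187) (.leaf 17657923))) (.node 1 (.leaf 17440863) (.node 1 (.leaf 17133661) (.leaf 17764417)))))))
(.node 24 (.node 12 (.node 6 (.node 3 (.node 1 (.leaf 17459273) (.node 1 (.leaf 17061953) (.leaf 16916565))) (.node 1 (.leaf 17510471) (.node 1 (.leaf 17768533) (.leaf 17240141))))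
(.node 3 (.node 1 (.leaf 17721419) (.node 1 (.leaf 17512535) (.leaf 17135695))) (.node 1 (.leaf 16918599) (.node 1 (.leaf 17659985) (.leaf 16932933)))))
(.node 6 (.node 3 (.node 1 (.leaf 17782851) (.node 1 (.leaf 17440843) (.leaf 17592411))) (.node 1 (.leaf 17193031) (.node 1 (.leaf 17705055) (.leaf 17242201))))
(.node 3 (.node 1 (.leaf 17584221) (.node 1 (.leaf 17594441) (.leaf 17446977))) (.node 1 (.leaf 17133653) (.node 1 (.leaf 17246279) (.leaf 17633345))))))
(.node 12 (.node 6 (.node 3 (.node 1 (.leaf 17262665) (.node 1 (.leaf 17051725) (.leaf 17700943))) (.node 1 (.leaf 17197147) (.node 1 (.leaf 17004639) (.leaf 17195089))))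
(.node 3 (.node 1 (.leaf 16986201) (.node 1 (.leaf 17657937) (.leaf 17512517))) (.node 1 (.leaf 17043539) (.node 1 (.leaf 16932951) (.leaf 17782865)))))
(.node 6 (.node 3 (.node 1 (.leaf 17440857) (.node 1 (.leaf 16939101) (.leaf 17649759))) (.node 1 (.leaf 17506379) (.node 1 (.leaf 17721435) (.leaf 17193043))))
(.node 3 (.node 1 (.leaf 17576015) (.node 1 (.leaf 17176653) (.leaf 17442897))) (.node 1 (.leaf 17135705) (.node 1 (.leaf 16988241) (.leaf 17592389))))))))
(.node 48 (.node 24 (.node 12 (.node 6 (.node 3 (.node 1 (.leaf 17705047) (.node 1 (.leaf 17569861) (.leaf 17459293))) (.node 1 (.leaf 17768519) (.node 1 (.leaf 17240159) (.leaf 17659991))))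
(.node 3 (.node 1 (.leaf 17256513) (.node 1 (.leaf 17051733) (.leaf 16998483))) (.node 1 (.leaf 17576027) (.node 1 (.leaf 17190987) (.leaf 16984151)))))
(.node 6 (.node 3 (.node 1 (.leaf 17635407) (.node 1 (.leaf 17522761) (.leaf 16937037))) (.node 1 (.leaf 17258585) (.node 1 (.leaf 17770577) (.leaf 17176645))))
(.node 3 (.node 1 (.leaf 17649751) (.node 1 (.leaf 17446993) (.leaf 17109081))) (.node 1 (.leaf 17715293) (.node 1 (.leaf 17508447) (.leaf 17111115))))))
(.node 12 (.node 6 (.node 3 (.node 1 (.leaf 17244239) (.node 1 (.leaf 17649757) (.leaf 17246303))) (.node 1 (.leaf 17766475) (.node 1 (.leaf 17133657) (.leaf 17782853))))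
(.node 3 (.node 1 (.leaf 17569863) (.node 1 (.leaf 17715285) (.leaf 17578057))) (.node 1 (.leaf 17524827) (.node 1 (.leaf 17053767) (.leaf 17717327)))))
(.node 6 (.node 3 (.node 1 (.leaf 17506381) (.node 1 (.leaf 17000513) (.leaf 17463361))) (.node 1 (.leaf 17698893) (.node 1 (.leaf 17524815) (.leaf 17643603))))
(.node 3 (.node 1 (.leaf 17240155) (.node 1 (.leaf 17784915) (.leaf 17190983))) (.node 1 (.leaf 17635413) (.node 1 (.leaf 17641537) (.leaf 17526853)))))))
(.node 24 (.node 12 (.node 6 (.node 3 (.node 1 (.leaf 17053775) (.node 1 (.leaf 17195097) (.leaf 17586251))) (.node 1 (.leaf 17178711) (.node 1 (.leaf 17135701) (.leaf 17780803))))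
(.node 3 (.node 1 (.leaf 17244231) (.node 1 (.leaf 16920649) (.leaf 16934981))) (.node 1 (.leaf 17528919) (.node 1 (.leaf 17180753) (.leaf 17004633)))))
(.node 6 (.node 3 (.node 1 (.leaf 17522781) (.node 1 (.leaf 17051743) (.leaf 16937035))) (.node 1 (.leaf 17127503) (.node 1 (.leaf 17768525) (.leaf 17002577))))
(.node 3 (.node 1 (.leaf 17586265) (.node 1 (.leaf 17111109) (.leaf 17256535))) (.node 1 (.leaf 17133637) (.node 1 (.leaf 16986205) (.leaf 17594459))))))
(.node 12 (.node 6 (.node 3 (.node 1 (.leaf 17703007) (.node 1 (.leaf 17045591) (.leaf 17719361))) (.node 1 (.leaf 17786955) (.node 1 (.leaf 17446999) (.leaf 17070159))))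
(.node 3 (.node 1 (.leaf 17721417) (.node 1 (.leaf 17193025) (.leaf 17461315))) (.node 1 (.leaf 17051719) (.node 1 (.leaf 16998465) (.leaf 17576009)))))
(.node 6 (.node 3 (.node 1 (.leaf 17246285) (.node 1 (.leaf 16939087) (.leaf 17578075))) (.node 1 (.leaf 17127499) (.node 1 (.leaf 16984131) (.leaf 17698911))))
(.node 3 (.node 1 (.leaf 17524829) (.node 1 (.leaf 17643585) (.leaf 17240137))) (.node 1 (.leaf 17784897) (.node 1 (.leaf 17190997) (.leaf 17635399)))))))))
(.node 96 (.node 48 (.node 24 (.node 12 (.node 6 (.node 3 (.node 1 (.leaf 17135693) (.node 1 (.leaf 17569879) (.leaf 17459279))) (.node 1 (.leaf 17256519) (.node 1 (.leaf 16918609) (.leaf 17715269))))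
(.node 3 (.node 1 (.leaf 17053763) (.node 1 (.leaf 17698891) (.leaf 16916571))) (.node 1 (.leaf 17657927) (.node 1 (.leaf 17510495) (.leaf 17070169)))))
(.node 6 (.node 3 (.node 1 (.leaf 17178717) (.node 1 (.leaf 16982089) (.leaf 17524821))) (.node 1 (.leaf 16939079) (.node 1 (.leaf 17770561) (.leaf 17463369))))
(.node 3 (.node 1 (.leaf 16932941) (.node 1 (.leaf 17641551) (.leaf 17526875))) (.node 1 (.leaf 17586271) (.node 1 (.leaf 16939085) (.leaf 17649743))))))
(.node 12 (.node 6 (.node 3 (.node 1 (.leaf 17506395) (.node 1 (.leaf 17176649) (.leaf 16998485))) (.node 1 (.leaf 17766489) (.node 1 (.leaf 17133643) (.leaf 17782871))))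
(.node 3 (.node 1 (.leaf 17000543) (.node 1 (.leaf 17578077) (.leaf 17117265))) (.node 1 (.leaf 17262673) (.node 1 (.leaf 17440861) (.leaf 17133663)))))
(.node 6 (.node 3 (.node 1 (.leaf 17764419) (.node 1 (.leaf 17459275) (.leaf 17061955))) (.node 1 (.leaf 16916567) (.node 1 (.leaf 17510469) (.leaf 17700945))))
(.node 3 (.node 1 (.leaf 17197141) (.node 1 (.leaf 17782879) (.leaf 17043529))) (.node 1 (.leaf 17004635) (.node 1 (.leaf 17584199) (.leaf 17240133)))))))
(.node 24 (.node 12 (.node 6 (.node 3 (.node 1 (.leaf 16934995) (.node 1 (.leaf 17586263) (.leaf 17719385))) (.node 1 (.leaf 17119317) (.node 1 (.leaf 17260615) (.leaf 17651777))))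
(.node 3 (.node 1 (.leaf 17244233) (.node 1 (.leaf 17070157) (.leaf 17715279))) (.node 1 (.leaf 17178715) (.node 1 (.leaf 16986207) (.leaf 17569885)))))
(.node 6 (.node 3 (.node 1 (.leaf 17180737) (.node 1 (.leaf 17004617) (.leaf 17526869))) (.node 1 (.leaf 17176661) (.node 1 (.leaf 17721421) (.leaf 17258571))))
(.node 3 (.node 1 (.leaf 17567823) (.node 1 (.leaf 17528903) (.leaf 17059921))) (.node 1 (.leaf 17125467) (.node 1 (.leaf 17770567) (.leaf 17242207))))))
(.node 12 (.node 6 (.node 3 (.node 1 (.leaf 17459277) (.node 1 (.leaf 17768535) (.leaf 17240143))) (.node 1 (.leaf 17659975) (.node 1 (.leaf 17256529) (.leaf 17522773))))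
(.node 3 (.node 1 (.leaf 17051715) (.node 1 (.leaf 16937031) (.leaf 17643597))) (.node 1 (.leaf 17784923) (.node 1 (.leaf 17506393) (.leaf 17576029)))))
(.node 6 (.node 3 (.node 1 (.leaf 17176671) (.node 1 (.leaf 16918597) (.leaf 17659987))) (.node 1 (.leaf 17242199) (.node 1 (.leaf 16932929) (.leaf 17584197))))
(.node 3 (.node 1 (.leaf 17442895) (.node 1 (.leaf 16988249) (.leaf 17174599))) (.node 1 (.leaf 17719391) (.node 1 (.leaf 17256537) (.leaf 17766481))))))))
(.node 48 (.node 24 (.node 12 (.node 6 (.node 3 (.node 1 (.leaf 17457241) (.node 1 (.leaf 17197137) (.leaf 17592409))) (.node 1 (.leaf 17193029) (.node 1 (.leaf 17705053) (.leaf 17242203))))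
(.node 3 (.node 1 (.leaf 17584223) (.node 1 (.leaf 17594443) (.leaf 17446979))) (.node 1 (.leaf 17133655) (.node 1 (.leaf 17246277) (.leaf 17633347)))))
(.node 6 (.node 3 (.node 1 (.leaf 17262667) (.node 1 (.leaf 17051727) (.leaf 17700941))) (.node 1 (.leaf 17197145) (.node 1 (.leaf 17004637) (.leaf 16982097))))
(.node 3 (.node 1 (.leaf 17444945) (.node 1 (.leaf 17260621) (.leaf 16920655))) (.node 1 (.leaf 17442907) (.node 1 (.leaf 17135687) (.leaf 16988255))))))
(.node 12 (.node 6 (.node 3 (.node 1 (.leaf 17043541) (.node 1 (.leaf 17721411) (.leaf 16922695))) (.node 1 (.leaf 17633361) (.node 1 (.leaf 17059935) (.leaf 17053791))))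
(.node 3 (.node 1 (.leaf 16939083) (.node 1 (.leaf 17641555) (.leaf 17786963))) (.node 1 (.leaf 17125455) (.node 1 (.leaf 17770573) (.leaf 17702981)))))
(.node 6 (.node 3 (.node 1 (.leaf 17526867) (.node 1 (.leaf 17117271) (.leaf 17522767))) (.node 1 (.leaf 17262687) (.node 1 (.leaf 16922717) (.leaf 17702985))))
(.node 3 (.node 1 (.leaf 17174593) (.node 1 (.leaf 17786965) (.leaf 17070151))) (.node 1 (.leaf 16934997) (.node 1 (.leaf 17586253) (.leaf 16986191)))))))
(.node 24 (.node 12 (.node 6 (.node 3 (.node 1 (.leaf 17719367) (.node 1 (.leaf 17510481) (.leaf 17512539))) (.node 1 (.leaf 17043527) (.node 1 (.leaf 16932959) (.leaf 17649753))))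
(.node 3 (.node 1 (.leaf 17766493) (.node 1 (.leaf 17444937) (.leaf 17068097))) (.node 1 (.leaf 16922709) (.node 1 (.leaf 17522759) (.leaf 17528909)))))
(.node 6 (.node 3 (.node 1 (.leaf 17059919) (.node 1 (.leaf 17117279) (.leaf 17522765))) (.node 1 (.leaf 16937051) (.node 1 (.leaf 17768521) (.leaf 17461333))))
(.node 3 (.node 1 (.leaf 16934999) (.node 1 (.leaf 17528901) (.leaf 17584203))) (.node 1 (.leaf 17180759) (.node 1 (.leaf 17463391) (.leaf 17125469))))))
(.node 12 (.node 6 (.node 3 (.node 1 (.leaf 17567825) (.node 1 (.leaf 17717329) (.leaf 17260625))) (.node 1 (.leaf 17780821) (.node 1 (.leaf 17180767) (.leaf 17643593))))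
(.node 3 (.node 1 (.leaf 17459291) (.node 1 (.leaf 17119303) (.leaf 17195091))) (.node 1 (.leaf 17715287) (.node 1 (.leaf 17053777) (.leaf 17698905)))))
(.node 6 (.node 3 (.node 1 (.leaf 16986203) (.node 1 (.leaf 17657939) (.leaf 17440847))) (.node 1 (.leaf 17133645) (.node 1 (.leaf 17764433) (.leaf 17459289))))
(.node 3 (.node 1 (.leaf 17061969) (.node 1 (.leaf 16916549) (.leaf 17510487))) (.node 1 (.leaf 17240157) (.node 1 (.leaf 17512519) (.leaf 17135711))))))))))
(.node 192 (.node 96 (.node 48 (.node 24 (.node 12 (.node 6 (.node 3 (.node 1 (.leaf 16918615) (.node 1 (.leaf 17659969) (.leaf 16932949))) (.node 1 (.leaf 17782867) (.node 1 (.leaf 17440859) (.leaf 17592395))))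
(.node 3 (.node 1 (.leaf 17193047) (.node 1 (.leaf 17705039) (.leaf 17242185))) (.node 1 (.leaf 17584205) (.node 1 (.leaf 17594457) (.leaf 17246295)))))
(.node 6 (.node 3 (.node 1 (.leaf 17262681) (.node 1 (.leaf 17051741) (.leaf 17700959))) (.node 1 (.leaf 17197131) (.node 1 (.leaf 17004623) (.leaf 17524825))))
(.node 3 (.node 1 (.leaf 17053765) (.node 1 (.leaf 17506377) (.leaf 17176667))) (.node 1 (.leaf 16998471) (.node 1 (.leaf 17117263) (.leaf 17766477))))))
(.node 12 (.node 6 (.node 3 (.node 1 (.leaf 17717313) (.node 1 (.leaf 17109057) (.leaf 17576013))) (.node 1 (.leaf 17176655) (.node 1 (.leaf 17442899) (.leaf 17135707))))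
(.node 3 (.node 1 (.leaf 16988243) (.node 1 (.leaf 17592391) (.leaf 17705045))) (.node 1 (.leaf 17508417) (.node 1 (.leaf 16998479) (.leaf 17461337)))))
(.node 6 (.node 3 (.node 1 (.leaf 17244235) (.node 1 (.leaf 16937047) (.leaf 17459285))) (.node 1 (.leaf 17119299) (.node 1 (.leaf 17004615) (.leaf 17059913))))
(.node 3 (.node 1 (.leaf 17780805) (.node 1 (.leaf 17242205) (.leaf 17721423))) (.node 1 (.leaf 17512525) (.node 1 (.leaf 17651793) (.leaf 17244249)))))))
(.node 24 (.node 12 (.node 6 (.node 3 (.node 1 (.leaf 17197125) (.node 1 (.leaf 17524805) (.leaf 17127517))) (.node 1 (.leaf 16982107) (.node 1 (.leaf 17444959) (.leaf 17260631))))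
(.node 3 (.node 1 (.leaf 16920641) (.node 1 (.leaf 16922699) (.leaf 17633367))) (.node 1 (.leaf 17135709) (.node 1 (.leaf 17459295) (.leaf 16918593)))))
(.node 6 (.node 3 (.node 1 (.leaf 17070149) (.node 1 (.leaf 17715283) (.leaf 17764445))) (.node 1 (.leaf 17061963) (.node 1 (.leaf 17659989) (.leaf 17256515))))
(.node 3 (.node 1 (.leaf 17051729) (.node 1 (.leaf 16937045) (.leaf 17643615))) (.node 1 (.leaf 17784905) (.node 1 (.leaf 17457239) (.leaf 16918601))))))
(.node 12 (.node 6 (.node 3 (.node 1 (.leaf 17506369) (.node 1 (.leaf 17068105) (.leaf 17111105))) (.node 1 (.leaf 17190985) (.node 1 (.leaf 16984149) (.leaf 17635405))))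
(.node 3 (.node 1 (.leaf 17522763) (.node 1 (.leaf 16937039) (.leaf 17258587))) (.node 1 (.leaf 17770579) (.node 1 (.leaf 17176647) (.leaf 17649749)))))
(.node 6 (.node 3 (.node 1 (.leaf 17446995) (.node 1 (.leaf 17109083) (.leaf 17715295))) (.node 1 (.leaf 17508445) (.node 1 (.leaf 17111113) (.leaf 17244237))))
(.node 3 (.node 1 (.leaf 17594433) (.node 1 (.leaf 17702977) (.leaf 17045597))) (.node 1 (.leaf 17643595) (.node 1 (.leaf 17240151) (.leaf 17784911))))))))
(.node 48 (.node 24 (.node 12 (.node 6 (.node 3 (.node 1 (.leaf 17461317) (.node 1 (.leaf 17127507) (.leaf 17786967))) (.node 1 (.leaf 17782863) (.node 1 (.leaf 17246299) (.leaf 17700931))))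
(.node 3 (.node 1 (.leaf 17125443) (.node 1 (.leaf 16922719) (.leaf 17633373))) (.node 1 (.leaf 17567829) (.node 1 (.leaf 17197123) (.leaf 17717319)))))
(.node 6 (.node 3 (.node 1 (.leaf 17070175) (.node 1 (.leaf 17109071) (.leaf 17786957))) (.node 1 (.leaf 17567833) (.node 1 (.leaf 17457233) (.leaf 17125445))))
(.node 3 (.node 1 (.leaf 17119301) (.node 1 (.leaf 17721439) (.leaf 17059927))) (.node 1 (.leaf 17705025) (.node 1 (.leaf 17768523) (.leaf 17461335))))))
(.node 12 (.node 6 (.node 3 (.node 1 (.leaf 16939081) (.node 1 (.leaf 17703001) (.leaf 17174609))) (.node 1 (.leaf 17786949) (.node 1 (.leaf 17070167) (.leaf 17260637))))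
(.node 3 (.node 1 (.leaf 16920671) (.node 1 (.leaf 17070173) (.leaf 17178699))) (.node 1 (.leaf 17569881) (.node 1 (.leaf 17195077) (.leaf 17260629)))))
(.node 6 (.node 3 (.node 1 (.leaf 17651783) (.node 1 (.leaf 17262671) (.leaf 16922701))) (.node 1 (.leaf 17444929) (.node 1 (.leaf 17045569) (.leaf 17651791))))
(.node 3 (.node 1 (.leaf 17764441) (.node 1 (.leaf 17135691) (.leaf 17780823))) (.node 1 (.leaf 17176665) (.node 1 (.leaf 16998469) (.leaf 17766473)))))))
(.node 24 (.node 12 (.node 6 (.node 3 (.node 1 (.leaf 17133659) (.node 1 (.leaf 17782855) (.leaf 17000527))) (.node 1 (.leaf 17578061) (.node 1 (.leaf 17463385) (.leaf 17117249))))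
(.node 3 (.node 1 (.leaf 17262657) (.node 1 (.leaf 16935007) (.leaf 17440851))) (.node 1 (.leaf 16986195) (.node 1 (.leaf 17719375) (.leaf 17510477)))))
(.node 6 (.node 3 (.node 1 (.leaf 16984153) (.node 1 (.leaf 17594437) (.leaf 17447005))) (.node 1 (.leaf 17256533) (.node 1 (.leaf 16918595) (.leaf 16916553))))
(.node 3 (.node 1 (.leaf 17657941) (.node 1 (.leaf 17070155) (.leaf 17178703))) (.node 1 (.leaf 17717325) (.node 1 (.leaf 17506383) (.leaf 17000515))))))
(.node 12 (.node 6 (.node 3 (.node 1 (.leaf 17463363) (.node 1 (.leaf 17780829) (.leaf 17698897))) (.node 1 (.leaf 17127505) (.node 1 (.leaf 16920653) (.leaf 17193051))))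
(.node 3 (.node 1 (.leaf 16982087) (.node 1 (.leaf 17633375) (.leaf 17770581))) (.node 1 (.leaf 17068111) (.node 1 (.leaf 17180761) (.leaf 17567819)))))
(.node 6 (.node 3 (.node 1 (.leaf 17197143) (.node 1 (.leaf 17117269) (.leaf 17766467))) (.node 1 (.leaf 17262663) (.node 1 (.leaf 17256521) (.leaf 17768513))))
(.node 3 (.node 1 (.leaf 17174613) (.node 1 (.leaf 17719369) (.leaf 17190977))) (.node 1 (.leaf 17641539) (.node 1 (.leaf 17526855) (.leaf 17053773)))))))))
(.node 96 (.node 48 (.node 24 (.node 12 (.node 6 (.node 3 (.node 1 (.leaf 17195099) (.node 1 (.leaf 17586249) (.leaf 17178709))) (.node 1 (.leaf 17135703) (.node 1 (.leaf 17780801) (.leaf 17244229))))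
(.node 3 (.node 1 (.leaf 16920651) (.node 1 (.leaf 16934983) (.leaf 17528917))) (.node 1 (.leaf 17180755) (.node 1 (.leaf 17522783) (.leaf 16937033)))))
(.node 6 (.node 3 (.node 1 (.leaf 17127501) (.node 1 (.leaf 17768527) (.leaf 17002579))) (.node 1 (.leaf 17586267) (.node 1 (.leaf 17111111) (.leaf 17133639))))
(.node 3 (.node 1 (.leaf 17703005) (.node 1 (.leaf 17045589) (.leaf 17719363))) (.node 1 (.leaf 17786953) (.node 1 (.leaf 17446997) (.leaf 17442889))))))
(.node 12 (.node 6 (.node 3 (.node 1 (.leaf 17178689) (.node 1 (.leaf 17002569) (.leaf 17258589))) (.node 1 (.leaf 17703003) (.node 1 (.leaf 16982081) (.leaf 17633349))))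
(.node 3 (.node 1 (.leaf 16939097) (.node 1 (.leaf 17770571) (.leaf 17463383))) (.node 1 (.leaf 17461341) (.node 1 (.leaf 17127519) (.leaf 16984139)))))
(.node 6 (.node 3 (.node 1 (.leaf 17569875) (.node 1 (.leaf 17119321) (.leaf 17002561))) (.node 1 (.leaf 17442881) (.node 1 (.leaf 17444939) (.leaf 17111127))))
(.node 3 (.node 1 (.leaf 17442891) (.node 1 (.leaf 16988239) (.leaf 17721415))) (.node 1 (.leaf 17512529) (.node 1 (.leaf 16982083) (.leaf 17444931)))))))
(.node 24 (.node 12 (.node 6 (.node 3 (.node 1 (.leaf 17635395) (.node 1 (.leaf 17260619) (.leaf 17510491))) (.node 1 (.leaf 17045575) (.node 1 (.leaf 17651801) (.leaf 17180751))))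
(.node 3 (.node 1 (.leaf 17700955) (.node 1 (.leaf 17260611) (.leaf 17592387))) (.node 1 (.leaf 17506399) (.node 1 (.leaf 17068125) (.leaf 17784919)))))
(.node 6 (.node 3 (.node 1 (.leaf 17256527) (.node 1 (.leaf 17705033) (.leaf 17119309))) (.node 1 (.leaf 17700951) (.node 1 (.leaf 17068113) (.leaf 17717337))))
(.node 3 (.node 1 (.leaf 17635421) (.node 1 (.leaf 17260639) (.leaf 17780811))) (.node 1 (.leaf 17700957) (.node 1 (.leaf 17125451) (.leaf 16922713))))))
(.node 12 (.node 6 (.node 3 (.node 1 (.leaf 17768539) (.node 1 (.leaf 17461319) (.leaf 17197133))) (.node 1 (.leaf 17244225) (.node 1 (.leaf 17576001) (.leaf 16939073))))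
(.node 3 (.node 1 (.leaf 17578053) (.node 1 (.leaf 17461327) (.leaf 17524823))) (.node 1 (.leaf 16986197) (.node 1 (.leaf 17569859) (.leaf 17459271)))))
(.node 6 (.node 3 (.node 1 (.leaf 17659977) (.node 1 (.leaf 17178693) (.leaf 17641559))) (.node 1 (.leaf 17117273) (.node 1 (.leaf 17528927) (.leaf 17119307))))
(.node 3 (.node 1 (.leaf 16934989) (.node 1 (.leaf 16922693) (.leaf 17594461))) (.node 1 (.leaf 17444955) (.node 1 (.leaf 17068119) (.leaf 17586269))))))))
(.node 48 (.node 24 (.node 12 (.node 6 (.node 3 (.node 1 (.leaf 17719383) (.node 1 (.leaf 17510465) (.leaf 17649733))) (.node 1 (.leaf 17246291) (.node 1 (.leaf 17766487) (.leaf 17195101))))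
(.node 3 (.node 1 (.leaf 17657931) (.node 1 (.leaf 17125449) (.leaf 17262669))) (.node 1 (.leaf 16922703) (.node 1 (.leaf 16920647) (.leaf 17635409)))))
(.node 6 (.node 3 (.node 1 (.leaf 17061983) (.node 1 (.leaf 17174601) (.leaf 16988247))) (.node 1 (.leaf 17659983) (.node 1 (.leaf 17510473) (.leaf 16937025))))
(.node 3 (.node 1 (.leaf 17651785) (.node 1 (.leaf 17578049) (.leaf 17258561))) (.node 1 (.leaf 17641565) (.node 1 (.leaf 17702999) (.leaf 17174607))))))
(.node 12 (.node 6 (.node 3 (.node 1 (.leaf 16984133) (.node 1 (.leaf 17594451) (.leaf 17176663))) (.node 1 (.leaf 17508431) (.node 1 (.leaf 17193027) (.leaf 17576031))))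
(.node 3 (.node 1 (.leaf 17176669) (.node 1 (.leaf 17135689) (.leaf 16988225))) (.node 1 (.leaf 17592405) (.node 1 (.leaf 17705031) (.leaf 17051717)))))
(.node 6 (.node 3 (.node 1 (.leaf 16998467) (.node 1 (.leaf 17576011) (.leaf 17191003))) (.node 1 (.leaf 16984135) (.node 1 (.leaf 17635423) (.leaf 17522777))))
(.node 3 (.node 1 (.leaf 16937053) (.node 1 (.leaf 17258569) (.leaf 17649735))) (.node 1 (.leaf 17109065) (.node 1 (.leaf 17715277) (.leaf 17111131)))))))
(.node 24 (.node 12 (.node 6 (.node 3 (.node 1 (.leaf 17244255) (.node 1 (.leaf 17133641) (.leaf 17782869))) (.node 1 (.leaf 17578073) (.node 1 (.leaf 17524811) (.leaf 17053783))))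
(.node 3 (.node 1 (.leaf 17717343) (.node 1 (.leaf 17506397) (.leaf 17000529))) (.node 1 (.leaf 17463377) (.node 1 (.leaf 17698909) (.leaf 17524831)))))
(.node 6 (.node 3 (.node 1 (.leaf 17643587) (.node 1 (.leaf 17240139) (.leaf 17784899))) (.node 1 (.leaf 17190999) (.node 1 (.leaf 17635397) (.leaf 17641553))))
(.node 3 (.node 1 (.leaf 17195081) (.node 1 (.leaf 17178695) (.leaf 17135685))) (.node 1 (.leaf 17780819) (.node 1 (.leaf 17244247) (.leaf 16920665))))))
(.node 12 (.node 6 (.node 3 (.node 1 (.leaf 17768541) (.node 1 (.leaf 17111125) (.leaf 16986189))) (.node 1 (.leaf 17702991) (.node 1 (.leaf 17719377) (.leaf 17786971))))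
(.node 3 (.node 1 (.leaf 17446983) (.node 1 (.leaf 17242197) (.leaf 16932931))) (.node 1 (.leaf 17442893) (.node 1 (.leaf 16988251) (.leaf 17256517)))))
(.node 6 (.node 3 (.node 1 (.leaf 16918611) (.node 1 (.leaf 17715265) (.leaf 17764431))) (.node 1 (.leaf 17061977) (.node 1 (.leaf 17068103) (.leaf 17659993))))
(.node 3 (.node 1 (.leaf 17578065) (.node 1 (.leaf 17174617) (.leaf 17526865))) (.node 1 (.leaf 16916569) (.node 1 (.leaf 17657925) (.leaf 17510493)))))))))))
(.node 384 (.node 192 (.node 96 (.node 48 (.node 24 (.node 12 (.node 6 (.node 3 (.node 1 (.leaf 17070171) (.node 1 (.leaf 17178719) (.leaf 16982091))) (.node 1 (.leaf 16939077) (.node 1 (.leaf 17770563) (.leaf 17463371))))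
(.node 3 (.node 1 (.leaf 16932943) (.node 1 (.leaf 17641549) (.leaf 17526873))) (.node 1 (.leaf 17258577) (.node 1 (.leaf 17764443) (.leaf 17195093)))))
(.node 6 (.node 3 (.node 1 (.leaf 16986179) (.node 1 (.leaf 17125447) (.leaf 16998495))) (.node 1 (.leaf 17649739) (.node 1 (.leaf 17508435) (.leaf 16922707))))
(.node 3 (.node 1 (.leaf 17786959) (.node 1 (.leaf 17446989) (.leaf 17444933))) (.node 1 (.leaf 17111123) (.node 1 (.leaf 17000535) (.leaf 17242191))))))
(.node 12 (.node 6 (.node 3 (.node 1 (.leaf 17569883) (.node 1 (.leaf 17195079) (.leaf 17246297))) (.node 1 (.leaf 17567817) (.node 1 (.leaf 17457217) (.leaf 17125461))))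
(.node 3 (.node 1 (.leaf 17242183) (.node 1 (.leaf 17045581) (.leaf 17242189))) (.node 1 (.leaf 17584219) (.node 1 (.leaf 17512521) (.leaf 17045573)))))
(.node 6 (.node 3 (.node 1 (.leaf 17002583) (.node 1 (.leaf 17109087) (.leaf 17786973))) (.node 1 (.leaf 17702993) (.node 1 (.leaf 17528913) (.leaf 17002591))))
(.node 3 (.node 1 (.leaf 17524809) (.node 1 (.leaf 17053781) (.leaf 17176651))) (.node 1 (.leaf 16998487) (.node 1 (.leaf 17109073) (.leaf 17119311)))))))
(.node 24 (.node 12 (.node 6 (.node 3 (.node 1 (.leaf 17576003) (.node 1 (.leaf 17657929) (.leaf 17258581))) (.node 1 (.leaf 17000541) (.node 1 (.leaf 17578079) (.leaf 17117267))))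
(.node 3 (.node 1 (.leaf 17262675) (.node 1 (.leaf 17440833) (.leaf 16986177))) (.node 1 (.leaf 17719389) (.node 1 (.leaf 17594455) (.leaf 17446991)))))
(.node 6 (.node 3 (.node 1 (.leaf 17174623) (.node 1 (.leaf 17717317) (.leaf 17506387))) (.node 1 (.leaf 17109079) (.node 1 (.leaf 16918617) (.leaf 17569873))))
(.node 3 (.node 1 (.leaf 17457221) (.node 1 (.leaf 17059929) (.leaf 16916561))) (.node 1 (.leaf 17700947) (.node 1 (.leaf 17782877) (.leaf 17043531))))))
(.node 12 (.node 6 (.node 3 (.node 1 (.leaf 17240135) (.node 1 (.leaf 16934993) (.leaf 17586261))) (.node 1 (.leaf 17719387) (.node 1 (.leaf 17119319) (.leaf 17260613))))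
(.node 3 (.node 1 (.leaf 17651779) (.node 1 (.leaf 17178713) (.leaf 17569887))) (.node 1 (.leaf 17180739) (.node 1 (.leaf 17004619) (.leaf 17526871)))))
(.node 6 (.node 3 (.node 1 (.leaf 17567821) (.node 1 (.leaf 17059923) (.leaf 17125465))) (.node 1 (.leaf 17770565) (.node 1 (.leaf 17643609) (.leaf 17584209))))
(.node 3 (.node 1 (.leaf 16982093) (.node 1 (.leaf 17594449) (.leaf 17246281))) (.node 1 (.leaf 17633371) (.node 1 (.leaf 17195085) (.leaf 17657947))))))))
(.node 48 (.node 24 (.node 12 (.node 6 (.node 3 (.node 1 (.leaf 17512515) (.node 1 (.leaf 17780809) (.leaf 17643611))) (.node 1 (.leaf 17784927) (.node 1 (.leaf 17127511) (.leaf 17702995))))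
(.node 3 (.node 1 (.leaf 17510483) (.node 1 (.leaf 17045595) (.leaf 17705035))) (.node 1 (.leaf 17651807) (.node 1 (.leaf 17508427) (.leaf 17045587)))))
(.node 6 (.node 3 (.node 1 (.leaf 17190995) (.node 1 (.leaf 17578063) (.leaf 17174605))) (.node 1 (.leaf 17061959) (.node 1 (.leaf 16918623) (.leaf 17635417))))
(.node 3 (.node 1 (.leaf 17508423) (.node 1 (.leaf 17000521) (.leaf 17045583))) (.node 1 (.leaf 16935003) (.node 1 (.leaf 17508429) (.leaf 16922715))))))
(.node 12 (.node 6 (.node 3 (.node 1 (.leaf 17569867) (.node 1 (.leaf 17195095) (.leaf 17111133))) (.node 1 (.leaf 17586257) (.node 1 (.leaf 17246289) (.leaf 17766485))))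
(.node 3 (.node 1 (.leaf 17195103) (.node 1 (.leaf 17721413) (.leaf 17512531))) (.node 1 (.leaf 17584213) (.node 1 (.leaf 17700935) (.leaf 17717321)))))
(.node 6 (.node 3 (.node 1 (.leaf 17260623) (.node 1 (.leaf 17780827) (.leaf 17119325))) (.node 1 (.leaf 17258573) (.node 1 (.leaf 17702987) (.leaf 17004621))))
(.node 3 (.node 1 (.leaf 17059911) (.node 1 (.leaf 17705041) (.leaf 16939093))) (.node 1 (.leaf 17649731) (.node 1 (.leaf 17506375) (.leaf 17043533)))))))
(.node 24 (.node 12 (.node 6 (.node 3 (.node 1 (.leaf 17109085) (.node 1 (.leaf 17786975) (.leaf 17784903))) (.node 1 (.leaf 17256543) (.node 1 (.leaf 17705049) (.leaf 17178705))))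
(.node 3 (.node 1 (.leaf 17002585) (.node 1 (.leaf 17567815) (.leaf 17457247))) (.node 1 (.leaf 17258563) (.node 1 (.leaf 17524807) (.leaf 17641567)))))
(.node 6 (.node 3 (.node 1 (.leaf 17070165) (.node 1 (.leaf 17715267) (.leaf 17764429))) (.node 1 (.leaf 17061979) (.node 1 (.leaf 17659973) (.leaf 17256531))))
(.node 3 (.node 1 (.leaf 17522775) (.node 1 (.leaf 17051713) (.leaf 16937029))) (.node 1 (.leaf 17643599) (.node 1 (.leaf 17784921) (.leaf 17457223))))))
(.node 12 (.node 6 (.node 3 (.node 1 (.leaf 17512541) (.node 1 (.leaf 16988227) (.leaf 17506385))) (.node 1 (.leaf 17068121) (.node 1 (.leaf 16920657) (.leaf 17111121))))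
(.node 3 (.node 1 (.leaf 17700939) (.node 1 (.leaf 17190979) (.leaf 17768515))) (.node 1 (.leaf 17461323) (.node 1 (.leaf 17567835) (.leaf 17197127)))))
(.node 6 (.node 3 (.node 1 (.leaf 17440835) (.node 1 (.leaf 17528923) (.leaf 17180745))) (.node 1 (.leaf 17004629) (.node 1 (.leaf 17117277) (.leaf 17766495))))
(.node 3 (.node 1 (.leaf 17717331) (.node 1 (.leaf 17109075) (.leaf 16998493))) (.node 1 (.leaf 17119313) (.node 1 (.leaf 17059931) (.leaf 17174597)))))))))
(.node 96 (.node 48 (.node 24 (.node 12 (.node 6 (.node 3 (.node 1 (.leaf 17256539) (.node 1 (.leaf 17766483) (.leaf 17457243))) (.node 1 (.leaf 17197139) (.node 1 (.leaf 17641545) (.leaf 17592385))))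
(.node 3 (.node 1 (.leaf 17193033) (.node 1 (.leaf 17512513) (.leaf 17698881))) (.node 1 (.leaf 17780815) (.node 1 (.leaf 17045593) (.leaf 17002571)))))
(.node 6 (.node 3 (.node 1 (.leaf 17651805) (.node 1 (.leaf 17764427) (.leaf 17117255))) (.node 1 (.leaf 17061973) (.node 1 (.leaf 17702979) (.leaf 17508437))))
(.node 3 (.node 1 (.leaf 17045599) (.node 1 (.leaf 17068127) (.leaf 17768531))) (.node 1 (.leaf 17111119) (.node 1 (.leaf 17784909) (.leaf 17117253))))))
(.node 12 (.node 6 (.node 3 (.node 1 (.leaf 17262679) (.node 1 (.leaf 17649745) (.leaf 17180747))) (.node 1 (.leaf 17567813) (.node 1 (.leaf 17717335) (.leaf 17700953))))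
(.node 3 (.node 1 (.leaf 16982099) (.node 1 (.leaf 17444947) (.leaf 17442905))) (.node 1 (.leaf 16988253) (.node 1 (.leaf 17043543) (.leaf 17721409)))))
(.node 6 (.node 3 (.node 1 (.leaf 17633363) (.node 1 (.leaf 17059933) (.leaf 17053789))) (.node 1 (.leaf 17786961) (.node 1 (.leaf 17125453) (.leaf 17770575))))
(.node 3 (.node 1 (.leaf 17702983) (.node 1 (.leaf 17262685) (.leaf 17174595))) (.node 1 (.leaf 17586255) (.node 1 (.leaf 17719365) (.leaf 17512537)))))))
(.node 24 (.node 12 (.node 6 (.node 3 (.node 1 (.leaf 17043525) (.node 1 (.leaf 16932957) (.leaf 17649755))) (.node 1 (.leaf 17068099) (.node 1 (.leaf 16922711) (.leaf 17522757))))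
(.node 3 (.node 1 (.leaf 17528911) (.node 1 (.leaf 17059917) (.leaf 16937049))) (.node 1 (.leaf 17584201) (.node 1 (.leaf 17180757) (.leaf 17463389)))))
(.node 6 (.node 3 (.node 1 (.leaf 17125471) (.node 1 (.leaf 17567827) (.leaf 17260627))) (.node 1 (.leaf 17180765) (.node 1 (.leaf 17176657) (.leaf 17784901))))
(.node 3 (.node 1 (.leaf 17119305) (.node 1 (.leaf 17764437) (.leaf 17584215))) (.node 1 (.leaf 17700933) (.node 1 (.leaf 17780817) (.leaf 17045585))))))
(.node 12 (.node 6 (.node 3 (.node 1 (.leaf 17002573) (.node 1 (.leaf 17721429) (.leaf 17244241))) (.node 1 (.leaf 17197151) (.node 1 (.leaf 17657933) (.leaf 17512523))))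
(.node 3 (.node 1 (.leaf 17440849) (.node 1 (.leaf 16939075) (.leaf 17506371))) (.node 1 (.leaf 17070147) (.node 1 (.leaf 17444953) (.leaf 16982105)))))
(.node 6 (.node 3 (.node 1 (.leaf 17641557) (.node 1 (.leaf 17633365) (.leaf 17770587))) (.node 1 (.leaf 17463367) (.node 1 (.leaf 17569871) (.leaf 17715289))))
(.node 3 (.node 1 (.leaf 17246273) (.node 1 (.leaf 17178707) (.leaf 17002587))) (.node 1 (.leaf 17004627) (.node 1 (.leaf 17109063) (.leaf 17576005))))))))
(.node 48 (.node 24 (.node 12 (.node 6 (.node 3 (.node 1 (.leaf 17463375) (.node 1 (.leaf 16988245) (.leaf 17567811))) (.node 1 (.leaf 17258579) (.node 1 (.leaf 16932947) (.leaf 17641563))))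
(.node 3 (.node 1 (.leaf 17256523) (.node 1 (.leaf 17457225) (.leaf 17782857))) (.node 1 (.leaf 17117275) (.node 1 (.leaf 17766471) (.leaf 17586245)))))
(.node 6 (.node 3 (.node 1 (.leaf 17698903) (.node 1 (.leaf 17508441) (.leaf 17594463))) (.node 1 (.leaf 17191005) (.node 1 (.leaf 17117257) (.leaf 17578069))))
(.node 3 (.node 1 (.leaf 17440845) (.node 1 (.leaf 17109067) (.leaf 17258575))) (.node 1 (.leaf 17641543) (.node 1 (.leaf 17242193) (.leaf 17702989))))))
(.node 12 (.node 6 (.node 3 (.node 1 (.leaf 17528899) (.node 1 (.leaf 17766469) (.leaf 17195087))) (.node 1 (.leaf 17657945) (.node 1 (.leaf 17125457) (.leaf 17770585))))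
(.node 3 (.node 1 (.leaf 17721425) (.node 1 (.leaf 17135697) (.leaf 16918605))) (.node 1 (.leaf 16986183) (.node 1 (.leaf 17657951) (.leaf 17461343)))))
(.node 6 (.node 3 (.node 1 (.leaf 17051723) (.node 1 (.leaf 16939091) (.leaf 16998477))) (.node 1 (.leaf 17000517) (.node 1 (.leaf 17578067) (.leaf 16982111))))
(.node 3 (.node 1 (.leaf 17592413) (.node 1 (.leaf 17506389) (.leaf 17594447))) (.node 1 (.leaf 17070161) (.node 1 (.leaf 17705037) (.leaf 17119323)))))))
(.node 24 (.node 12 (.node 6 (.node 3 (.node 1 (.leaf 16934985) (.node 1 (.leaf 17643605) (.leaf 17641541))) (.node 1 (.leaf 16922697) (.node 1 (.leaf 17567839) (.leaf 17197149))))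
(.node 3 (.node 1 (.leaf 17576017) (.node 1 (.leaf 17127491) (.leaf 17240131))) (.node 1 (.leaf 17659999) (.node 1 (.leaf 17256541) (.leaf 17193037)))))
(.node 6 (.node 3 (.node 1 (.leaf 17111129) (.node 1 (.leaf 17705051) (.leaf 17119327))) (.node 1 (.leaf 17526861) (.node 1 (.leaf 17004609) (.leaf 17446987))))
(.node 3 (.node 1 (.leaf 17068101) (.node 1 (.leaf 17770591) (.leaf 17053769))) (.node 1 (.leaf 17000539) (.node 1 (.leaf 17578055) (.leaf 16937043))))))
(.node 12 (.node 6 (.node 3 (.node 1 (.leaf 17576023) (.node 1 (.leaf 17510489) (.leaf 17133649))) (.node 1 (.leaf 16988229) (.node 1 (.leaf 17444941) (.leaf 17700937))))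
(.node 3 (.node 1 (.leaf 17068123) (.node 1 (.leaf 17782861) (.leaf 17043547))) (.node 1 (.leaf 16934979) (.node 1 (.leaf 17178697) (.leaf 16916551)))))
(.node 6 (.node 3 (.node 1 (.leaf 17053779) (.node 1 (.leaf 17698907) (.leaf 16916555))) (.node 1 (.leaf 17657943) (.node 1 (.leaf 17510479) (.leaf 17070153))))
(.node 3 (.node 1 (.leaf 17178701) (.node 1 (.leaf 16939095) (.leaf 17526859))) (.node 1 (.leaf 17133647) (.node 1 (.leaf 17764435) (.leaf 17061971))))))))))
(.node 192 (.node 96 (.node 48 (.node 24 (.node 12 (.node 6 (.node 3 (.node 1 (.leaf 17510485) (.node 1 (.leaf 17700929) (.leaf 17043545))) (.node 1 (.leaf 17240149) (.node 1 (.leaf 17586247) (.leaf 17569869))))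
(.node 3 (.node 1 (.leaf 17721437) (.node 1 (.leaf 17059905) (.leaf 17770583))) (.node 1 (.leaf 17051731) (.node 1 (.leaf 17643613) (.leaf 17784907)))))
(.node 6 (.node 3 (.node 1 (.leaf 16918613) (.node 1 (.leaf 17659971) (.leaf 16932945))) (.node 1 (.leaf 17442911) (.node 1 (.leaf 16988233) (.leaf 17174615))))
(.node 3 (.node 1 (.leaf 17766465) (.node 1 (.leaf 17197121) (.leaf 17592393))) (.node 1 (.leaf 17193045) (.node 1 (.leaf 17242187) (.leaf 17584207))))))
(.node 12 (.node 6 (.node 3 (.node 1 (.leaf 17246293) (.node 1 (.leaf 17262683) (.leaf 17197129))) (.node 1 (.leaf 17721427) (.node 1 (.leaf 16939099) (.leaf 17786947))))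
(.node 3 (.node 1 (.leaf 17770589) (.node 1 (.leaf 17702997) (.leaf 17526851))) (.node 1 (.leaf 17649737) (.node 1 (.leaf 17528925) (.leaf 17768537)))))
(.node 6 (.node 3 (.node 1 (.leaf 17180743) (.node 1 (.leaf 17567809) (.leaf 17260609))) (.node 1 (.leaf 17780831) (.node 1 (.leaf 17698899) (.leaf 17193049))))
(.node 3 (.node 1 (.leaf 16982085) (.node 1 (.leaf 17117261) (.leaf 17766479))) (.node 1 (.leaf 17717315) (.node 1 (.leaf 17109059) (.leaf 17258567)))))))
(.node 24 (.node 12 (.node 6 (.node 3 (.node 1 (.leaf 17457231) (.node 1 (.leaf 17000533) (.leaf 17578051))) (.node 1 (.leaf 17068117) (.node 1 (.leaf 17508419) (.leaf 17461339))))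
(.node 3 (.node 1 (.leaf 17459287) (.node 1 (.leaf 17119297) (.leaf 17004613))) (.node 1 (.leaf 17059915) (.node 1 (.leaf 17780807) (.leaf 17512527)))))
(.node 6 (.node 3 (.node 1 (.leaf 17651795) (.node 1 (.leaf 17244251) (.leaf 17444957))) (.node 1 (.leaf 16920643) (.node 1 (.leaf 17764425) (.leaf 17043549))))
(.node 3 (.node 1 (.leaf 17193035) (.node 1 (.leaf 16935001) (.leaf 17061967))) (.node 1 (.leaf 17705027) (.node 1 (.leaf 17528907) (.leaf 17635419))))))
(.node 12 (.node 6 (.node 3 (.node 1 (.leaf 17002575) (.node 1 (.leaf 16916547) (.leaf 17457245))) (.node 1 (.leaf 17649729) (.node 1 (.leaf 17506373) (.leaf 17043535))))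
(.node 3 (.node 1 (.leaf 17127509) (.node 1 (.leaf 17508439) (.leaf 17000537))) (.node 1 (.leaf 16934987) (.node 1 (.leaf 17780813) (.leaf 16982109)))))
(.node 6 (.node 3 (.node 1 (.leaf 17244253) (.node 1 (.leaf 16920663) (.leaf 17635393))) (.node 1 (.leaf 17578071) (.node 1 (.leaf 17463373) (.leaf 17061975))))
(.node 3 (.node 1 (.leaf 16918607) (.node 1 (.leaf 17635401) (.leaf 17584193))) (.node 1 (.leaf 17444951) (.node 1 (.leaf 17242181) (.leaf 17442909))))))))
(.node 48 (.node 24 (.node 12 (.node 6 (.node 3 (.node 1 (.leaf 16988235) (.node 1 (.leaf 17715281) (.leaf 17764447))) (.node 1 (.leaf 17061961) (.node 1 (.leaf 17526849) (.leaf 17508443))))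
(.node 3 (.node 1 (.leaf 16916563) (.node 1 (.leaf 17576019) (.leaf 17457237))) (.node 1 (.leaf 16918603) (.node 1 (.leaf 17068107) (.leaf 17111107)))))
(.node 6 (.node 3 (.node 1 (.leaf 17190993) (.node 1 (.leaf 17768529) (.leaf 17528905))) (.node 1 (.leaf 17180763) (.node 1 (.leaf 17526879) (.leaf 17061981))))
(.node 3 (.node 1 (.leaf 17717333) (.node 1 (.leaf 17651803) (.leaf 17444949))) (.node 1 (.leaf 17000519) (.node 1 (.leaf 17508425) (.leaf 17594435))))))
(.node 12 (.node 6 (.node 3 (.node 1 (.leaf 17125441) (.node 1 (.leaf 17567831) (.leaf 17109069))) (.node 1 (.leaf 17457235) (.node 1 (.leaf 17059925) (.leaf 17174611))))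
(.node 3 (.node 1 (.leaf 17786951) (.node 1 (.leaf 16920669) (.leaf 17651781))) (.node 1 (.leaf 17045571) (.node 1 (.leaf 17651789) (.leaf 17524801)))))
(.node 6 (.node 3 (.node 1 (.leaf 17780825) (.node 1 (.leaf 17442885) (.leaf 16934977))) (.node 1 (.leaf 17528897) (.node 1 (.leaf 17127493) (.leaf 17586241))))
(.node 3 (.node 1 (.leaf 17193053) (.node 1 (.leaf 17242195) (.leaf 17446981))) (.node 1 (.leaf 17633355) (.node 1 (.leaf 17512543) (.leaf 16932937)))))))
(.node 24 (.node 12 (.node 6 (.node 3 (.node 1 (.leaf 17584195) (.node 1 (.leaf 17244227) (.leaf 17698901))) (.node 1 (.leaf 16918619) (.node 1 (.leaf 16998489) (.leaf 17717323))))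
(.node 3 (.node 1 (.leaf 17506391) (.node 1 (.leaf 17440839) (.leaf 16916557))) (.node 1 (.leaf 17463387) (.node 1 (.leaf 17522753) (.leaf 17567837)))))
(.node 6 (.node 3 (.node 1 (.leaf 17043551) (.node 1 (.leaf 16922689) (.leaf 17633353))) (.node 1 (.leaf 17127489) (.node 1 (.leaf 17240129) (.leaf 17659997))))
(.node 3 (.node 1 (.leaf 17721431) (.node 1 (.leaf 17193039) (.leaf 17715291))) (.node 1 (.leaf 17246275) (.node 1 (.leaf 17190989) (.leaf 17258591))))))
(.node 12 (.node 6 (.node 3 (.node 1 (.leaf 17242177) (.node 1 (.leaf 17764421) (.leaf 17700949))) (.node 1 (.leaf 17786969) (.node 1 (.leaf 17444943) (.leaf 17111117))))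
(.node 3 (.node 1 (.leaf 17459283) (.node 1 (.leaf 16984157) (.leaf 17526857))) (.node 1 (.leaf 17635403) (.node 1 (.leaf 17633359) (.leaf 17782873)))))
(.node 6 (.node 3 (.node 1 (.leaf 17117259) (.node 1 (.leaf 17178691) (.leaf 17698887))) (.node 1 (.leaf 17176641) (.node 1 (.leaf 17784917) (.leaf 17174603))))
(.node 3 (.node 1 (.leaf 17119315) (.node 1 (.leaf 17584217) (.leaf 17592407))) (.node 1 (.leaf 17258565) (.node 1 (.leaf 17000525) (.leaf 17117251)))))))))
(.node 96 (.node 48 (.node 24 (.node 12 (.node 6 (.node 3 (.node 1 (.leaf 17262659) (.node 1 (.leaf 16935005) (.leaf 16986193))) (.node 1 (.leaf 17719373) (.node 1 (.leaf 16984155) (.leaf 17594439))))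
(.node 3 (.node 1 (.leaf 17447007) (.node 1 (.leaf 17569857) (.leaf 17002567))) (.node 1 (.leaf 16916545) (.node 1 (.leaf 17649747) (.leaf 17508421)))))
(.node 6 (.node 3 (.node 1 (.leaf 17191001) (.node 1 (.leaf 17635411) (.leaf 17061957))) (.node 1 (.leaf 17659979) (.node 1 (.leaf 17061965) (.leaf 17068109))))
(.node 3 (.node 1 (.leaf 17262661) (.node 1 (.leaf 17719371) (.leaf 17592403))) (.node 1 (.leaf 17641561) (.node 1 (.leaf 17592401) (.leaf 17463381))))))
(.node 12 (.node 6 (.node 3 (.node 1 (.leaf 17457229) (.node 1 (.leaf 16998475) (.leaf 17584211))) (.node 1 (.leaf 16916575) (.node 1 (.leaf 17125463) (.leaf 16982095))))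
(.node 3 (.node 1 (.leaf 17457227) (.node 1 (.leaf 17246283) (.leaf 17633369))) (.node 1 (.leaf 16920667) (.node 1 (.leaf 17111135) (.leaf 17784925)))))
(.node 6 (.node 3 (.node 1 (.leaf 17569865) (.node 1 (.leaf 17459265) (.leaf 17174621))) (.node 1 (.leaf 17594453) (.node 1 (.leaf 17633351) (.leaf 17770569))))
(.node 3 (.node 1 (.leaf 16984137) (.node 1 (.leaf 17002563) (.leaf 17442883))) (.node 1 (.leaf 16988237) (.node 1 (.leaf 17260617) (.leaf 17180749)))))))
(.node 24 (.node 12 (.node 6 (.node 3 (.node 1 (.leaf 17256525) (.node 1 (.leaf 17068115) (.leaf 17717339))) (.node 1 (.leaf 17197135) (.node 1 (.leaf 17461325) (.leaf 16986199))))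
(.node 3 (.node 1 (.leaf 17459269) (.node 1 (.leaf 16934991) (.leaf 17719381))) (.node 1 (.leaf 17510467) (.node 1 (.leaf 16920645) (.leaf 17659981)))))
(.node 6 (.node 3 (.node 1 (.leaf 17510475) (.node 1 (.leaf 16937027) (.leaf 17651787))) (.node 1 (.leaf 17070145) (.node 1 (.leaf 17715273) (.leaf 17633357))))
(.node 3 (.node 1 (.leaf 17782875) (.node 1 (.leaf 17070163) (.leaf 17657949))) (.node 1 (.leaf 17594445) (.node 1 (.leaf 17190991) (.leaf 17786945))))))
(.node 12 (.node 6 (.node 3 (.node 1 (.leaf 17715275) (.node 1 (.leaf 17045579) (.leaf 16939089))) (.node 1 (.leaf 17135699) (.node 1 (.leaf 17592415) (.leaf 17002589))))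
(.node 3 (.node 1 (.leaf 17651799) (.node 1 (.leaf 17576021) (.leaf 17176643))) (.node 1 (.leaf 17240145) (.node 1 (.leaf 17059907) (.leaf 17526863)))))
(.node 6 (.node 3 (.node 1 (.leaf 17657935) (.node 1 (.leaf 16988231) (.leaf 17053771))) (.node 1 (.leaf 17698883) (.node 1 (.leaf 16982103) (.leaf 17262677))))
(.node 3 (.node 1 (.leaf 17000531) (.node 1 (.leaf 17643589) (.leaf 17240147))) (.node 1 (.leaf 17522779) (.node 1 (.leaf 17643607) (.leaf 17051721))))))))
(.node 48 (.node 24 (.node 12 (.node 6 (.node 3 (.node 1 (.leaf 16918621) (.node 1 (.leaf 17764423) (.leaf 17592397))) (.node 1 (.leaf 17135681) (.node 1 (.leaf 17180741) (.leaf 17193055))))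
(.node 3 (.node 1 (.leaf 17045577) (.node 1 (.leaf 17651797) (.leaf 17051737))) (.node 1 (.leaf 17195083) (.node 1 (.leaf 17135683) (.leaf 17442903)))))
(.node 6 (.node 3 (.node 1 (.leaf 17643591) (.node 1 (.leaf 17522771) (.leaf 17592399))) (.node 1 (.leaf 17705029) (.node 1 (.leaf 17528915) (.leaf 17133651))))
(.node 3 (.node 1 (.leaf 17000523) (.node 1 (.leaf 17053785) (.leaf 17698885))) (.node 1 (.leaf 17260633) (.node 1 (.leaf 17447001) (.leaf 17004625))))))
(.node 12 (.node 6 (.node 3 (.node 1 (.leaf 17059909) (.node 1 (.leaf 17133635) (.leaf 17244245))) (.node 1 (.leaf 17576007) (.node 1 (.leaf 17053787) (.leaf 17002565))))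
(.node 3 (.node 1 (.leaf 17125459) (.node 1 (.leaf 17705043) (.leaf 17508433))) (.node 1 (.leaf 17461321) (.node 1 (.leaf 17004631) (.leaf 16937055)))))
(.node 6 (.node 3 (.node 1 (.leaf 17717341) (.node 1 (.leaf 17463379) (.leaf 17768543))) (.node 1 (.leaf 17719379) (.node 1 (.leaf 17260635) (.leaf 16986181))))
(.node 3 (.node 1 (.leaf 16937041) (.node 1 (.leaf 17641547) (.leaf 17659995))) (.node 1 (.leaf 17174619) (.node 1 (.leaf 16922705) (.leaf 17444935)))))))
(.node 24 (.node 12 (.node 6 (.node 3 (.node 1 (.leaf 17457219) (.node 1 (.leaf 17002581) (.leaf 16984141))) (.node 1 (.leaf 17522755) (.node 1 (.leaf 17447003) (.leaf 17586259))))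
(.node 3 (.node 1 (.leaf 17440837) (.node 1 (.leaf 17459281) (.leaf 17127495))) (.node 1 (.leaf 16984159) (.node 1 (.leaf 16932939) (.leaf 16916573)))))
(.node 6 (.node 3 (.node 1 (.leaf 17522769) (.node 1 (.leaf 17442901) (.leaf 17526877))) (.node 1 (.leaf 16998473) (.node 1 (.leaf 17440855) (.leaf 17524817))))
(.node 3 (.node 1 (.leaf 16982101) (.node 1 (.leaf 17258583) (.leaf 17109077))) (.node 1 (.leaf 17446985) (.node 1 (.leaf 16932953) (.leaf 17242179))))))
(.node 12 (.node 6 (.node 3 (.node 1 (.leaf 16932955) (.node 1 (.leaf 17524819) (.leaf 16920659))) (.node 1 (.leaf 17109061) (.node 1 (.leaf 17459267) (.leaf 16984143))))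
(.node 3 (.node 1 (.leaf 17528921) (.node 1 (.leaf 17764439) (.leaf 17191007))) (.node 1 (.leaf 17440853) (.node 1 (.leaf 16920661) (.leaf 17176659)))))
(.node 6 (.node 3 (.node 1 (.leaf 17782859) (.node 1 (.leaf 16922691) (.leaf 16916559))) (.node 1 (.leaf 17004611) (.node 1 (.leaf 16998491) (.leaf 17524803))))
(.node 3 (.node 1 (.leaf 17442887) (.node 1 (.leaf 17586243) (.leaf 17244243))) (.node 1 (.leaf 17463365) (.node 1 (.leaf 17051739) (.leaf 17133633))))))))))))

/-- An automorphism. -/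
def oneFwd1 : Tab ℕ :=
(.node 768 (.node 384 (.node 192 (.node 96 (.node 48 (.node 24 (.node 12 (.node 6 (.node 3 (.node 1 (.leaf 17043521) (.node 1 (.leaf 17461329) (.leaf 17109067))) (.node 1 (.leaf 16984145) (.node 1 (.leaf 17195073) (.leaf 17463387))))
(.node 3 (.node 1 (.leaf 17657921) (.node 1 (.leaf 17526855) (.leaf 17043523))) (.node 1 (.leaf 16918613) (.node 1 (.leaf 17782849) (.leaf 16982107)))))
(.node 6 (.node 3 (.node 1 (.leaf 17043537) (.node 1 (.leaf 17262667) (.leaf 17193041))) (.node 1 (.leaf 17197143) (.node 1 (.leaf 17461331) (.leaf 17659973))))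
(.node 3 (.node 1 (.leaf 16998481) (.node 1 (.leaf 17594443) (.leaf 17260623))) (.node 1 (.leaf 17528909) (.node 1 (.leaf 17592409) (.leaf 17109065))))))
(.node 12 (.node 6 (.node 3 (.node 1 (.leaf 16984147) (.node 1 (.leaf 17717341) (.leaf 16916575))) (.node 1 (.leaf 17643601) (.node 1 (.leaf 17717323) (.leaf 17784913))))
(.node 3 (.node 1 (.leaf 17780823) (.node 1 (.leaf 17045573) (.leaf 17461313))) (.node 1 (.leaf 17109083) (.node 1 (.leaf 16984129) (.leaf 17111111)))))
(.node 6 (.node 3 (.node 1 (.leaf 17195075) (.node 1 (.leaf 17256533) (.leaf 17053761))) (.node 1 (.leaf 17258587) (.node 1 (.leaf 17045599) (.leaf 17260637))))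
(.node 3 (.node 1 (.leaf 17190985) (.node 1 (.leaf 17463385) (.leaf 17657923))) (.node 1 (.leaf 17000525) (.node 1 (.leaf 17592399) (.leaf 17764417)))))))
(.node 24 (.node 12 (.node 6 (.node 3 (.node 1 (.leaf 17000539) (.node 1 (.leaf 17061953) (.leaf 16934983))) (.node 1 (.leaf 17528917) (.node 1 (.leaf 17197127) (.leaf 17258591))))
(.node 3 (.node 1 (.leaf 17262681) (.node 1 (.leaf 17526853) (.leaf 17594461))) (.node 1 (.leaf 16932949) (.node 1 (.leaf 17659985) (.leaf 16918615)))))
(.node 6 (.node 3 (.node 1 (.leaf 17782851) (.node 1 (.leaf 16982105) (.leaf 17578057))) (.node 1 (.leaf 17782869) (.node 1 (.leaf 17719373) (.leaf 17715275))))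
(.node 3 (.node 1 (.leaf 17111119) (.node 1 (.leaf 17576027) (.leaf 17446977))) (.node 1 (.leaf 17578055) (.node 1 (.leaf 17719381) (.leaf 17633345))))))
(.node 12 (.node 6 (.node 3 (.node 1 (.leaf 17721435) (.node 1 (.leaf 17641567) (.leaf 17715293))) (.node 1 (.leaf 17786953) (.node 1 (.leaf 17463373) (.leaf 17195089))))
(.node 3 (.node 1 (.leaf 17463371) (.node 1 (.leaf 17657937) (.leaf 17526871))) (.node 1 (.leaf 17043539) (.node 1 (.leaf 16918597) (.leaf 17782865)))))
(.node 6 (.node 3 (.node 1 (.leaf 16982091) (.node 1 (.leaf 17528911) (.leaf 17045581))) (.node 1 (.leaf 16916569) (.node 1 (.leaf 17262665) (.leaf 17193043))))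
(.node 3 (.node 1 (.leaf 17117277) (.node 1 (.leaf 17191007) (.leaf 17442897))) (.node 1 (.leaf 17117259) (.node 1 (.leaf 16988241) (.leaf 17119319))))))))
(.node 48 (.node 24 (.node 12 (.node 6 (.node 3 (.node 1 (.leaf 17260613) (.node 1 (.leaf 17111127) (.leaf 16982095))) (.node 1 (.leaf 17197141) (.node 1 (.leaf 17258573) (.leaf 17051717))))
(.node 3 (.node 1 (.leaf 17256513) (.node 1 (.leaf 17659975) (.leaf 16998483))) (.node 1 (.leaf 17594441) (.node 1 (.leaf 17766489) (.leaf 16998469)))))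
(.node 6 (.node 3 (.node 1 (.leaf 17059933) (.node 1 (.leaf 16932955) (.leaf 17526879))) (.node 1 (.leaf 17698891) (.node 1 (.leaf 17770577) (.leaf 17766487))))
(.node 3 (.node 1 (.leaf 17059909) (.node 1 (.leaf 17446993) (.leaf 17127499))) (.node 1 (.leaf 17700943) (.node 1 (.leaf 16932941) (.leaf 17125465))))))
(.node 12 (.node 6 (.node 3 (.node 1 (.leaf 17262685) (.node 1 (.leaf 17045583) (.leaf 17260621))) (.node 1 (.leaf 17191001) (.node 1 (.leaf 17119307) (.leaf 17193047))))
(.node 3 (.node 1 (.leaf 17111125) (.node 1 (.leaf 17256519) (.leaf 17592411))) (.node 1 (.leaf 16934985) (.node 1 (.leaf 17657941) (.leaf 17698909)))))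
(.node 6 (.node 3 (.node 1 (.leaf 16935007) (.node 1 (.leaf 17000513) (.leaf 17463361))) (.node 1 (.leaf 17717343) (.node 1 (.leaf 16916573) (.leaf 17643603))))
(.node 3 (.node 1 (.leaf 17717321) (.node 1 (.leaf 17784915) (.leaf 17780821))) (.node 1 (.leaf 17045575) (.node 1 (.leaf 17641537) (.leaf 17512535)))))))
(.node 24 (.node 12 (.node 6 (.node 3 (.node 1 (.leaf 17643613) (.node 1 (.leaf 17784907) (.leaf 17567833))) (.node 1 (.leaf 17786949) (.node 1 (.leaf 17576007) (.leaf 17780803))))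
(.node 3 (.node 1 (.leaf 17721429) (.node 1 (.leaf 17528923) (.leaf 16916567))) (.node 1 (.leaf 17510469) (.node 1 (.leaf 17180753) (.leaf 17444939)))))
(.node 6 (.node 3 (.node 1 (.leaf 16918607) (.node 1 (.leaf 17641549) (.leaf 17512537))) (.node 1 (.leaf 17567837) (.node 1 (.leaf 17786975) (.leaf 17002577))))
(.node 3 (.node 1 (.leaf 17567819) (.node 1 (.leaf 17569879) (.leaf 17715269))) (.node 1 (.leaf 17578071) (.node 1 (.leaf 17444943) (.leaf 17576009))))))
(.node 12 (.node 6 (.node 3 (.node 1 (.leaf 17721421) (.node 1 (.leaf 17635397) (.leaf 17719361))) (.node 1 (.leaf 17197145) (.node 1 (.leaf 17461317) (.leaf 17659997))))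
(.node 3 (.node 1 (.leaf 17262683) (.node 1 (.leaf 17193025) (.leaf 17461315))) (.node 1 (.leaf 17659989) (.node 1 (.leaf 16998465) (.leaf 17594459)))))
(.node 6 (.node 3 (.node 1 (.leaf 17260639) (.node 1 (.leaf 17528925) (.leaf 17592393))) (.node 1 (.leaf 17109081) (.node 1 (.leaf 16984131) (.leaf 17717325))))
(.node 3 (.node 1 (.leaf 16916559) (.node 1 (.leaf 17643585) (.leaf 17717339))) (.node 1 (.leaf 17784897) (.node 1 (.leaf 17780807) (.leaf 17045589)))))))))
(.node 96 (.node 48 (.node 24 (.node 12 (.node 6 (.node 3 (.node 1 (.leaf 17594463) (.node 1 (.leaf 17111109) (.leaf 16982109))) (.node 1 (.leaf 17715285) (.node 1 (.leaf 16918609) (.leaf 17256535))))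
(.node 3 (.node 1 (.leaf 17053763) (.node 1 (.leaf 17258585) (.leaf 17506377))) (.node 1 (.leaf 17053781) (.node 1 (.leaf 16920653) (.leaf 17051723)))))
(.node 6 (.node 3 (.node 1 (.leaf 17197135) (.node 1 (.leaf 17440859) (.leaf 17506375))) (.node 1 (.leaf 16920661) (.node 1 (.leaf 17770561) (.leaf 16986203))))
(.node 3 (.node 1 (.leaf 17508447) (.node 1 (.leaf 17051741) (.leaf 16922697))) (.node 1 (.leaf 17109069) (.node 1 (.leaf 17528927) (.leaf 17045597))))))
(.node 12 (.node 6 (.node 3 (.node 1 (.leaf 16916553) (.node 1 (.leaf 17780827) (.leaf 16984135))) (.node 1 (.leaf 17190987) (.node 1 (.leaf 17119321) (.leaf 17193029))))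
(.node 3 (.node 1 (.leaf 17440845) (.node 1 (.leaf 17119311) (.leaf 17117265))) (.node 1 (.leaf 17262673) (.node 1 (.leaf 17000527) (.leaf 17592397)))))
(.node 6 (.node 3 (.node 1 (.leaf 17764419) (.node 1 (.leaf 17000537) (.leaf 17061955))) (.node 1 (.leaf 16934981) (.node 1 (.leaf 17528919) (.leaf 17700945))))
(.node 3 (.node 1 (.leaf 17768519) (.node 1 (.leaf 17764429) (.leaf 17061979))) (.node 1 (.leaf 17444937) (.node 1 (.leaf 17125461) (.leaf 17698903)))))))
(.node 24 (.node 12 (.node 6 (.node 3 (.node 1 (.leaf 16934995) (.node 1 (.leaf 17127493) (.leaf 17260619))) (.node 1 (.leaf 17592391) (.node 1 (.leaf 17705045) (.leaf 17651777))))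
(.node 3 (.node 1 (.leaf 17703003) (.node 1 (.leaf 17659999) (.leaf 17700957))) (.node 1 (.leaf 17768521) (.node 1 (.leaf 17444941) (.leaf 17125455)))))
(.node 6 (.node 3 (.node 1 (.leaf 17180737) (.node 1 (.leaf 17444955) (.leaf 17512519))) (.node 1 (.leaf 17766471) (.node 1 (.leaf 17703007) (.leaf 17698905))))
(.node 3 (.node 1 (.leaf 17127517) (.node 1 (.leaf 17510485) (.leaf 17059921))) (.node 1 (.leaf 17111113) (.node 1 (.leaf 17195093) (.leaf 17256525))))))
(.node 12 (.node 6 (.node 3 (.node 1 (.leaf 16982111) (.node 1 (.leaf 17197125) (.leaf 17258589))) (.node 1 (.leaf 17051733) (.node 1 (.leaf 17256529) (.leaf 17508423))))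
(.node 3 (.node 1 (.leaf 17051715) (.node 1 (.leaf 16922709) (.leaf 17053791))) (.node 1 (.leaf 17195081) (.node 1 (.leaf 16916555) (.leaf 17117263)))))
(.node 6 (.node 3 (.node 1 (.leaf 17190989) (.node 1 (.leaf 16932951) (.leaf 17659987))) (.node 1 (.leaf 17700933) (.node 1 (.leaf 16932929) (.leaf 17125463))))
(.node 3 (.node 1 (.leaf 16998493) (.node 1 (.leaf 17461323) (.leaf 17764437))) (.node 1 (.leaf 17705037) (.node 1 (.leaf 17700939) (.leaf 17766481))))))))
(.node 48 (.node 24 (.node 12 (.node 6 (.node 3 (.node 1 (.leaf 16998475) (.node 1 (.leaf 17197137) (.leaf 17578059))) (.node 1 (.leaf 17782871) (.node 1 (.leaf 17719375) (.leaf 17715273))))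
(.node 3 (.node 1 (.leaf 17111117) (.node 1 (.leaf 17576025) (.leaf 17446979))) (.node 1 (.leaf 17578053) (.node 1 (.leaf 17719383) (.leaf 17633347)))))
(.node 6 (.node 3 (.node 1 (.leaf 17721433) (.node 1 (.leaf 17641565) (.leaf 17715295))) (.node 1 (.leaf 17786955) (.node 1 (.leaf 17463375) (.leaf 16982097))))
(.node 3 (.node 1 (.leaf 17444945) (.node 1 (.leaf 17246303) (.leaf 17510493))) (.node 1 (.leaf 16984137) (.node 1 (.leaf 17576021) (.leaf 17446989))))))
(.node 12 (.node 6 (.node 3 (.node 1 (.leaf 17633351) (.node 1 (.leaf 17721411) (.leaf 16937045))) (.node 1 (.leaf 17633361) (.node 1 (.leaf 17635405) (.leaf 17643597))))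
(.node 3 (.node 1 (.leaf 17510489) (.node 1 (.leaf 17641555) (.leaf 17786963))) (.node 1 (.leaf 17569885) (.node 1 (.leaf 17784927) (.leaf 17262679)))))
(.node 6 (.node 3 (.node 1 (.leaf 17526867) (.node 1 (.leaf 17594437) (.leaf 16918621))) (.node 1 (.leaf 17244237) (.node 1 (.leaf 17512527) (.leaf 17244251))))
(.node 3 (.node 1 (.leaf 17174593) (.node 1 (.leaf 17178695) (.leaf 17641557))) (.node 1 (.leaf 16916551) (.node 1 (.leaf 17109087) (.leaf 17444957)))))))
(.node 24 (.node 12 (.node 6 (.node 3 (.node 1 (.leaf 17246293) (.node 1 (.leaf 17510481) (.leaf 16937033))) (.node 1 (.leaf 17633365) (.node 1 (.leaf 17508429) (.leaf 17635403))))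
(.node 3 (.node 1 (.leaf 17780815) (.node 1 (.leaf 17004635) (.leaf 17068097))) (.node 1 (.leaf 16937031) (.node 1 (.leaf 17508437) (.leaf 16939103)))))
(.node 6 (.node 3 (.node 1 (.leaf 17635421) (.node 1 (.leaf 17576013) (.leaf 16918623))) (.node 1 (.leaf 17512521) (.node 1 (.leaf 17178715) (.leaf 17446983))))
(.node 3 (.node 1 (.leaf 16916549) (.node 1 (.leaf 17510487) (.leaf 17569881))) (.node 1 (.leaf 17784901) (.node 1 (.leaf 17004621) (.leaf 17569871))))))
(.node 12 (.node 6 (.node 3 (.node 1 (.leaf 17567825) (.node 1 (.leaf 17717329) (.leaf 17260625))) (.node 1 (.leaf 17190983) (.node 1 (.leaf 17195085) (.leaf 17657947))))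
(.node 3 (.node 1 (.leaf 17000521) (.node 1 (.leaf 17592405) (.leaf 17195091))) (.node 1 (.leaf 17256517) (.node 1 (.leaf 17053777) (.leaf 17258571)))))
(.node 6 (.node 3 (.node 1 (.leaf 17463369) (.node 1 (.leaf 17657939) (.leaf 17000541))) (.node 1 (.leaf 17592415) (.node 1 (.leaf 17764433) (.leaf 17000523))))
(.node 3 (.node 1 (.leaf 17061969) (.node 1 (.leaf 16934999) (.leaf 17528901))) (.node 1 (.leaf 17258575) (.node 1 (.leaf 17526869) (.leaf 17594445))))))))))
(.node 192 (.node 96 (.node 48 (.node 24 (.node 12 (.node 6 (.node 3 (.node 1 (.leaf 16932933) (.node 1 (.leaf 17659969) (.leaf 16918599))) (.node 1 (.leaf 17782867) (.node 1 (.leaf 16982089) (.leaf 17578073))))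
(.node 3 (.node 1 (.leaf 17782853) (.node 1 (.leaf 17719389) (.leaf 17715291))) (.node 1 (.leaf 17111135) (.node 1 (.leaf 17576011) (.leaf 17719365)))))
(.node 6 (.node 3 (.node 1 (.leaf 17721419) (.node 1 (.leaf 17641551) (.leaf 17715277))) (.node 1 (.leaf 17786969) (.node 1 (.leaf 17463389) (.leaf 16934987))))
(.node 3 (.node 1 (.leaf 17657943) (.node 1 (.leaf 16916571) (.leaf 17780809))) (.node 1 (.leaf 16984149) (.node 1 (.leaf 17576029) (.leaf 17780831))))))
(.node 12 (.node 6 (.node 3 (.node 1 (.leaf 17717313) (.node 1 (.leaf 17109057) (.leaf 17117279))) (.node 1 (.leaf 17191005) (.node 1 (.leaf 17442899) (.leaf 17117257))))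
(.node 3 (.node 1 (.leaf 16988243) (.node 1 (.leaf 17119317) (.leaf 17260615))) (.node 1 (.leaf 17508417) (.node 1 (.leaf 17442909) (.leaf 16988235)))))
(.node 6 (.node 3 (.node 1 (.leaf 17703001) (.node 1 (.leaf 16922693) (.leaf 17440839))) (.node 1 (.leaf 17119299) (.node 1 (.leaf 16986197) (.leaf 17045595))))
(.node 3 (.node 1 (.leaf 17190999) (.node 1 (.leaf 17256527) (.leaf 17703005))) (.node 1 (.leaf 16922719) (.node 1 (.leaf 17651793) (.leaf 17702987)))))))
(.node 24 (.node 12 (.node 6 (.node 3 (.node 1 (.leaf 17768535) (.node 1 (.leaf 17506391) (.leaf 17567823))) (.node 1 (.leaf 17440841) (.node 1 (.leaf 16986189) (.leaf 17705029))))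
(.node 3 (.node 1 (.leaf 16920641) (.node 1 (.leaf 17526873) (.leaf 17043525))) (.node 1 (.leaf 17594447) (.node 1 (.leaf 16982093) (.leaf 16918593)))))
(.node 6 (.node 3 (.node 1 (.leaf 17641559) (.node 1 (.leaf 17715283) (.leaf 17782863))) (.node 1 (.leaf 17043545) (.node 1 (.leaf 17051719) (.leaf 17256515))))
(.node 3 (.node 1 (.leaf 17051729) (.node 1 (.leaf 16922695) (.leaf 17053773))) (.node 1 (.leaf 17195099) (.node 1 (.leaf 17442885) (.leaf 17508443))))))
(.node 12 (.node 6 (.node 3 (.node 1 (.leaf 17506369) (.node 1 (.leaf 17053787) (.leaf 17111105))) (.node 1 (.leaf 17766491) (.node 1 (.leaf 16998471) (.leaf 17059935))))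
(.node 3 (.node 1 (.leaf 16932953) (.node 1 (.leaf 17526877) (.leaf 17698889))) (.node 1 (.leaf 17770579) (.node 1 (.leaf 17766485) (.leaf 17059911)))))
(.node 6 (.node 3 (.node 1 (.leaf 17446995) (.node 1 (.leaf 17127497) (.leaf 17700941))) (.node 1 (.leaf 16932943) (.node 1 (.leaf 17125467) (.leaf 17262687))))
(.node 3 (.node 1 (.leaf 17594433) (.node 1 (.leaf 17702977) (.leaf 17649743))) (.node 1 (.leaf 17657945) (.node 1 (.leaf 17698885) (.leaf 17770589))))))))
(.node 48 (.node 24 (.node 12 (.node 6 (.node 3 (.node 1 (.leaf 17446999) (.node 1 (.leaf 17127507) (.leaf 17178693))) (.node 1 (.leaf 17764445) (.node 1 (.leaf 17705033) (.leaf 17700931))))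
(.node 3 (.node 1 (.leaf 17125443) (.node 1 (.leaf 17512525) (.leaf 17061967))) (.node 1 (.leaf 17109063) (.node 1 (.leaf 17197123) (.leaf 17258581)))))
(.node 6 (.node 3 (.node 1 (.leaf 17659981) (.node 1 (.leaf 17586269) (.leaf 17768543))) (.node 1 (.leaf 17586251) (.node 1 (.leaf 17457233) (.leaf 17584215))))
(.node 3 (.node 1 (.leaf 17592407) (.node 1 (.leaf 17702989) (.leaf 17649733))) (.node 1 (.leaf 17705025) (.node 1 (.leaf 17178713) (.leaf 17446981))))))
(.node 12 (.node 6 (.node 3 (.node 1 (.leaf 17510491) (.node 1 (.leaf 17244235) (.leaf 17174609))) (.node 1 (.leaf 17178711) (.node 1 (.leaf 17641541) (.leaf 17246287))))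
(.node 3 (.node 1 (.leaf 17510477) (.node 1 (.leaf 17659983) (.leaf 17768537))) (.node 1 (.leaf 17584203) (.node 1 (.leaf 17770583) (.leaf 17705031)))))
(.node 6 (.node 3 (.node 1 (.leaf 17061973) (.node 1 (.leaf 17244253) (.leaf 17512543))) (.node 1 (.leaf 17444929) (.node 1 (.leaf 17045569) (.leaf 17043549))))
(.node 3 (.node 1 (.leaf 17193035) (.node 1 (.leaf 17117273) (.leaf 17190981))) (.node 1 (.leaf 17780811) (.node 1 (.leaf 16984151) (.leaf 17191003)))))))
(.node 24 (.node 12 (.node 6 (.node 3 (.node 1 (.leaf 17119305) (.node 1 (.leaf 17193045) (.leaf 17440861))) (.node 1 (.leaf 17119327) (.node 1 (.leaf 16986187) (.leaf 17117249))))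
(.node 3 (.node 1 (.leaf 17262657) (.node 1 (.leaf 17506381) (.leaf 17440851))) (.node 1 (.leaf 16986195) (.node 1 (.leaf 17705053) (.leaf 16920671)))))
(.node 6 (.node 3 (.node 1 (.leaf 17442891) (.node 1 (.leaf 17117271) (.leaf 16988239))) (.node 1 (.leaf 17715271) (.node 1 (.leaf 16918595) (.leaf 17506395))))
(.node 3 (.node 1 (.leaf 17053767) (.node 1 (.leaf 17051737) (.leaf 17197149))) (.node 1 (.leaf 17698911) (.node 1 (.leaf 16935005) (.leaf 17000515))))))
(.node 12 (.node 6 (.node 3 (.node 1 (.leaf 17463363) (.node 1 (.leaf 17766479) (.leaf 17698897))) (.node 1 (.leaf 17127505) (.node 1 (.leaf 17510495) (.leaf 17764425))))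
(.node 3 (.node 1 (.leaf 17000533) (.node 1 (.leaf 17061965) (.leaf 17195079))) (.node 1 (.leaf 17657949) (.node 1 (.leaf 17770571) (.leaf 17586265)))))
(.node 6 (.node 3 (.node 1 (.leaf 17768517) (.node 1 (.leaf 17594439) (.leaf 17766467))) (.node 1 (.leaf 17702997) (.node 1 (.leaf 17700955) (.leaf 17768513))))
(.node 3 (.node 1 (.leaf 17764423) (.node 1 (.leaf 17260635) (.leaf 17190977))) (.node 1 (.leaf 17641539) (.node 1 (.leaf 17512533) (.leaf 17643615)))))))))
(.node 96 (.node 48 (.node 24 (.node 12 (.node 6 (.node 3 (.node 1 (.leaf 17784905) (.node 1 (.leaf 17567835) (.leaf 17786951))) (.node 1 (.leaf 17576005) (.node 1 (.leaf 17780801) (.leaf 17721431))))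
(.node 3 (.node 1 (.leaf 17528921) (.node 1 (.leaf 16916565) (.leaf 17510471))) (.node 1 (.leaf 17180755) (.node 1 (.leaf 16918605) (.leaf 17512539)))))
(.node 6 (.node 3 (.node 1 (.leaf 17567839) (.node 1 (.leaf 17786973) (.leaf 17002579))) (.node 1 (.leaf 17567817) (.node 1 (.leaf 17569877) (.leaf 17578069))))
(.node 3 (.node 1 (.leaf 17721423) (.node 1 (.leaf 17635399) (.leaf 17719363))) (.node 1 (.leaf 17197147) (.node 1 (.leaf 17461319) (.leaf 16984155))))))
(.node 12 (.node 6 (.node 3 (.node 1 (.leaf 17178689) (.node 1 (.leaf 17447003) (.leaf 17240143))) (.node 1 (.leaf 17244233) (.node 1 (.leaf 16982081) (.leaf 17043543))))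
(.node 3 (.node 1 (.leaf 17510475) (.node 1 (.leaf 17180761) (.leaf 17444933))) (.node 1 (.leaf 17002575) (.node 1 (.leaf 17567821) (.leaf 17442905)))))
(.node 6 (.node 3 (.node 1 (.leaf 17569875) (.node 1 (.leaf 17133643) (.leaf 17002561))) (.node 1 (.leaf 17442881) (.node 1 (.leaf 17004633) (.leaf 17569861))))
(.node 3 (.node 1 (.leaf 16984153) (.node 1 (.leaf 17447005) (.leaf 17244245))) (.node 1 (.leaf 17512529) (.node 1 (.leaf 16982083) (.leaf 17444931)))))))
(.node 24 (.node 12 (.node 6 (.node 3 (.node 1 (.leaf 17635395) (.node 1 (.leaf 17719385) (.leaf 16939081))) (.node 1 (.leaf 17635413) (.node 1 (.leaf 17633355) (.leaf 17195101))))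
(.node 3 (.node 1 (.leaf 17256521) (.node 1 (.leaf 17260611) (.leaf 17592387))) (.node 1 (.leaf 16934989) (.node 1 (.leaf 17657935) (.leaf 17180741)))))
(.node 6 (.node 3 (.node 1 (.leaf 17242205) (.node 1 (.leaf 17246299) (.leaf 17578079))) (.node 1 (.leaf 17242181) (.node 1 (.leaf 17068113) (.leaf 17240139))))
(.node 3 (.node 1 (.leaf 17059919) (.node 1 (.leaf 17246285) (.leaf 17176665))) (.node 1 (.leaf 17715279) (.node 1 (.leaf 17111129) (.leaf 17526859))))))
(.node 12 (.node 6 (.node 3 (.node 1 (.leaf 17178697) (.node 1 (.leaf 17446997) (.leaf 17178719))) (.node 1 (.leaf 17244225) (.node 1 (.leaf 17576001) (.leaf 16939073))))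
(.node 3 (.node 1 (.leaf 17133655) (.node 1 (.leaf 17002589) (.leaf 17506373))) (.node 1 (.leaf 17004615) (.node 1 (.leaf 17569859) (.leaf 17440853)))))
(.node 6 (.node 3 (.node 1 (.leaf 17641563) (.node 1 (.leaf 17786967) (.leaf 17070149))) (.node 1 (.leaf 17135691) (.node 1 (.leaf 16939085) (.leaf 17133657))))
(.node 3 (.node 1 (.leaf 17506399) (.node 1 (.leaf 16937047) (.leaf 17135695))) (.node 1 (.leaf 17004617) (.node 1 (.leaf 17643589) (.leaf 17109071))))))))
(.node 48 (.node 24 (.node 12 (.node 6 (.node 3 (.node 1 (.leaf 17246277) (.node 1 (.leaf 17510465) (.leaf 17059927))) (.node 1 (.leaf 17246291) (.node 1 (.leaf 17176645) (.leaf 17180751))))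
(.node 3 (.node 1 (.leaf 17643609) (.node 1 (.leaf 17111131) (.leaf 17244255))) (.node 1 (.leaf 17512541) (.node 1 (.leaf 16939093) (.leaf 17635409)))))
(.node 6 (.node 3 (.node 1 (.leaf 17633357) (.node 1 (.leaf 17782875) (.leaf 17002565))) (.node 1 (.leaf 17070173) (.node 1 (.leaf 16939099) (.leaf 16937025))))
(.node 3 (.node 1 (.leaf 17633371) (.node 1 (.leaf 17578049) (.leaf 17258561))) (.node 1 (.leaf 17051727) (.node 1 (.leaf 17262661) (.leaf 17193053))))))
(.node 12 (.node 6 (.node 3 (.node 1 (.leaf 16998487) (.node 1 (.leaf 17594451) (.leaf 17766469))) (.node 1 (.leaf 16932957) (.node 1 (.leaf 17193027) (.leaf 17117261))))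
(.node 3 (.node 1 (.leaf 17190991) (.node 1 (.leaf 17117275) (.leaf 16988225))) (.node 1 (.leaf 17119303) (.node 1 (.leaf 17260629) (.leaf 17659991)))))
(.node 6 (.node 3 (.node 1 (.leaf 16998467) (.node 1 (.leaf 17594457) (.leaf 17766473))) (.node 1 (.leaf 16998485) (.node 1 (.leaf 17059917) (.leaf 16932939))))
(.node 3 (.node 1 (.leaf 17526863) (.node 1 (.leaf 17698907) (.leaf 17059925))) (.node 1 (.leaf 17127515) (.node 1 (.leaf 17700959) (.leaf 17125449)))))))
(.node 24 (.node 12 (.node 6 (.node 3 (.node 1 (.leaf 17262669) (.node 1 (.leaf 17119323) (.leaf 17193031))) (.node 1 (.leaf 17592395) (.node 1 (.leaf 16935001) (.leaf 17657925))))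
(.node 3 (.node 1 (.leaf 17698893) (.node 1 (.leaf 16934991) (.leaf 17000529))) (.node 1 (.leaf 17463377) (.node 1 (.leaf 17717327) (.leaf 16916557)))))
(.node 6 (.node 3 (.node 1 (.leaf 17643587) (.node 1 (.leaf 17717337) (.leaf 17784899))) (.node 1 (.leaf 17780805) (.node 1 (.leaf 17045591) (.leaf 17641553))))
(.node 3 (.node 1 (.leaf 17784923) (.node 1 (.leaf 17786965) (.leaf 17576023))) (.node 1 (.leaf 17780819) (.node 1 (.leaf 17721413) (.leaf 17528907))))))
(.node 12 (.node 6 (.node 3 (.node 1 (.leaf 17786959) (.node 1 (.leaf 17569863) (.leaf 17444959))) (.node 1 (.leaf 17721437) (.node 1 (.leaf 17719377) (.leaf 17197129))))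
(.node 3 (.node 1 (.leaf 17461333) (.node 1 (.leaf 17700935) (.leaf 16932931))) (.node 1 (.leaf 16998495) (.node 1 (.leaf 17461321) (.leaf 17715287)))))
(.node 6 (.node 3 (.node 1 (.leaf 16918611) (.node 1 (.leaf 17715265) (.leaf 17782877))) (.node 1 (.leaf 17043531) (.node 1 (.leaf 17643605) (.leaf 17641547))))
(.node 3 (.node 1 (.leaf 17578065) (.node 1 (.leaf 17782859) (.leaf 17526865))) (.node 1 (.leaf 17506379) (.node 1 (.leaf 17053783) (.leaf 16920655)))))))))))
(.node 384 (.node 192 (.node 96 (.node 48 (.node 24 (.node 12 (.node 6 (.node 3 (.node 1 (.leaf 17051721) (.node 1 (.leaf 17197133) (.leaf 17440857))) (.node 1 (.leaf 16920663) (.node 1 (.leaf 17770563) (.leaf 16986201))))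
(.node 3 (.node 1 (.leaf 17508445) (.node 1 (.leaf 17051743) (.leaf 16922699))) (.node 1 (.leaf 17258577) (.node 1 (.leaf 17193033) (.leaf 17770567)))))
(.node 6 (.node 3 (.node 1 (.leaf 16986179) (.node 1 (.leaf 17584213) (.leaf 17442893))) (.node 1 (.leaf 17635417) (.node 1 (.leaf 17508435) (.leaf 16922707))))
(.node 3 (.node 1 (.leaf 17768541) (.node 1 (.leaf 16988255) (.leaf 17463383))) (.node 1 (.leaf 17111123) (.node 1 (.leaf 16982085) (.leaf 17256541))))))
(.node 12 (.node 6 (.node 3 (.node 1 (.leaf 17584201) (.node 1 (.leaf 17770581) (.leaf 17705035))) (.node 1 (.leaf 17586267) (.node 1 (.leaf 17457217) (.leaf 17584199))))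
(.node 3 (.node 1 (.leaf 17700949) (.node 1 (.leaf 17649759) (.leaf 17256543))) (.node 1 (.leaf 17569865) (.node 1 (.leaf 16937051) (.leaf 17635415)))))
(.node 6 (.node 3 (.node 1 (.leaf 16988229) (.node 1 (.leaf 17586253) (.leaf 17768527))) (.node 1 (.leaf 17702993) (.node 1 (.leaf 17528913) (.leaf 17461325))))
(.node 3 (.node 1 (.leaf 16935003) (.node 1 (.leaf 17657927) (.leaf 17780825))) (.node 1 (.leaf 16984133) (.node 1 (.leaf 17109073) (.leaf 17578077)))))))
(.node 24 (.node 12 (.node 6 (.node 3 (.node 1 (.leaf 17576003) (.node 1 (.leaf 17643611) (.leaf 17717319))) (.node 1 (.leaf 17440847) (.node 1 (.leaf 17119309) (.leaf 17117267))))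
(.node 3 (.node 1 (.leaf 17262675) (.node 1 (.leaf 17440833) (.leaf 16986177))) (.node 1 (.leaf 17705039) (.node 1 (.leaf 17117253) (.leaf 16988253)))))
(.node 6 (.node 3 (.node 1 (.leaf 17193037) (.node 1 (.leaf 17258583) (.leaf 17506387))) (.node 1 (.leaf 17567813) (.node 1 (.leaf 17508427) (.leaf 17569873))))
(.node 3 (.node 1 (.leaf 17442903) (.node 1 (.leaf 17045579) (.leaf 16916561))) (.node 1 (.leaf 17700947) (.node 1 (.leaf 17764431) (.leaf 17061977))))))
(.node 12 (.node 6 (.node 3 (.node 1 (.leaf 17698901) (.node 1 (.leaf 16934993) (.leaf 17127495))) (.node 1 (.leaf 17260617) (.node 1 (.leaf 17592389) (.leaf 17705047))))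
(.node 3 (.node 1 (.leaf 17651779) (.node 1 (.leaf 17768523) (.leaf 17125453))) (.node 1 (.leaf 17180739) (.node 1 (.leaf 17444953) (.leaf 17512517)))))
(.node 6 (.node 3 (.node 1 (.leaf 17127519) (.node 1 (.leaf 17059923) (.leaf 17111115))) (.node 1 (.leaf 17195095) (.node 1 (.leaf 17657931) (.leaf 17584209))))
(.node 3 (.node 1 (.leaf 17459295) (.node 1 (.leaf 17594449) (.leaf 17705051))) (.node 1 (.leaf 17651785) (.node 1 (.leaf 17180767) (.leaf 17643593))))))))
(.node 48 (.node 24 (.node 12 (.node 6 (.node 3 (.node 1 (.leaf 17512515) (.node 1 (.leaf 17176667) (.leaf 17657929))) (.node 1 (.leaf 17770573) (.node 1 (.leaf 17586245) (.leaf 17702995))))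
(.node 3 (.node 1 (.leaf 17510483) (.node 1 (.leaf 17059913) (.leaf 17246297))) (.node 1 (.leaf 17043533) (.node 1 (.leaf 16918617) (.leaf 17045587)))))
(.node 6 (.node 3 (.node 1 (.leaf 17190995) (.node 1 (.leaf 17119325) (.leaf 17193055))) (.node 1 (.leaf 17651797) (.node 1 (.leaf 17522765) (.leaf 17649739))))
(.node 3 (.node 1 (.leaf 17522773) (.node 1 (.leaf 17459291) (.leaf 17649757))) (.node 1 (.leaf 17524809) (.node 1 (.leaf 16932959) (.leaf 17526857))))))
(.node 12 (.node 6 (.node 3 (.node 1 (.leaf 17584217) (.node 1 (.leaf 17770565) (.leaf 17584207))) (.node 1 (.leaf 17586257) (.node 1 (.leaf 17246289) (.leaf 17176647))))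
(.node 3 (.node 1 (.leaf 17180749) (.node 1 (.leaf 17244247) (.leaf 17512531))) (.node 1 (.leaf 17125447) (.node 1 (.leaf 17242197) (.leaf 17240155)))))
(.node 6 (.node 3 (.node 1 (.leaf 17246301) (.node 1 (.leaf 17176649) (.leaf 17578063))) (.node 1 (.leaf 17240159) (.node 1 (.leaf 17244249) (.leaf 17463391))))
(.node 3 (.node 1 (.leaf 17649749) (.node 1 (.leaf 17705041) (.leaf 16920647))) (.node 1 (.leaf 17649731) (.node 1 (.leaf 17524821) (.leaf 17651807)))))))
(.node 24 (.node 12 (.node 6 (.node 3 (.node 1 (.leaf 17586255) (.node 1 (.leaf 17768525) (.leaf 17180757))) (.node 1 (.leaf 17242189) (.node 1 (.leaf 17246283) (.leaf 17178705))))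
(.node 3 (.node 1 (.leaf 17446987) (.node 1 (.leaf 17109077) (.leaf 16984141))) (.node 1 (.leaf 17258563) (.node 1 (.leaf 17506389) (.leaf 17051725)))))
(.node 6 (.node 3 (.node 1 (.leaf 17641543) (.node 1 (.leaf 17715267) (.leaf 17782879))) (.node 1 (.leaf 17043529) (.node 1 (.leaf 17051735) (.leaf 17256531))))
(.node 3 (.node 1 (.leaf 17508421) (.node 1 (.leaf 17051713) (.leaf 16922711))) (.node 1 (.leaf 17053789) (.node 1 (.leaf 17195083) (.leaf 17442901))))))
(.node 12 (.node 6 (.node 3 (.node 1 (.leaf 16922703) (.node 1 (.leaf 16988227) (.leaf 17506385))) (.node 1 (.leaf 17053771) (.node 1 (.leaf 16920657) (.leaf 17111121))))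
(.node 3 (.node 1 (.leaf 17256537) (.node 1 (.leaf 17190979) (.leaf 17768515))) (.node 1 (.leaf 16988249) (.node 1 (.leaf 17586249) (.leaf 17768533)))))
(.node 6 (.node 3 (.node 1 (.leaf 17440835) (.node 1 (.leaf 16920649) (.leaf 17770587))) (.node 1 (.leaf 16986183) (.node 1 (.leaf 17576015) (.leaf 17780813))))
(.node 3 (.node 1 (.leaf 17717331) (.node 1 (.leaf 17109075) (.leaf 17442895))) (.node 1 (.leaf 17119313) (.node 1 (.leaf 17045577) (.leaf 17764439)))))))))
(.node 96 (.node 48 (.node 24 (.node 12 (.node 6 (.node 3 (.node 1 (.leaf 17700937) (.node 1 (.leaf 17766483) (.leaf 16998473))) (.node 1 (.leaf 17197139) (.node 1 (.leaf 17659995) (.leaf 17592385))))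
(.node 3 (.node 1 (.leaf 17764443) (.node 1 (.leaf 17512513) (.leaf 17698881))) (.node 1 (.leaf 17766493) (.node 1 (.leaf 17059915) (.leaf 17447001)))))
(.node 6 (.node 3 (.node 1 (.leaf 17043535) (.node 1 (.leaf 17193049) (.leaf 17594453))) (.node 1 (.leaf 17651783) (.node 1 (.leaf 17702979) (.leaf 17522759))))
(.node 3 (.node 1 (.leaf 17649741) (.node 1 (.leaf 17657933) (.leaf 17768531))) (.node 1 (.leaf 17584221) (.node 1 (.leaf 17770591) (.leaf 17594455))))))
(.node 12 (.node 6 (.node 3 (.node 1 (.leaf 17702981) (.node 1 (.leaf 17649745) (.leaf 17770585))) (.node 1 (.leaf 17109079) (.node 1 (.leaf 17258565) (.leaf 17256523))))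
(.node 3 (.node 1 (.leaf 16982099) (.node 1 (.leaf 17444947) (.leaf 16984139))) (.node 1 (.leaf 17446991) (.node 1 (.leaf 17633349) (.leaf 17721409)))))
(.node 6 (.node 3 (.node 1 (.leaf 17633363) (.node 1 (.leaf 17635407) (.leaf 17643599))) (.node 1 (.leaf 17786961) (.node 1 (.leaf 17569887) (.leaf 17784925))))
(.node 3 (.node 1 (.leaf 17262677) (.node 1 (.leaf 17244239) (.leaf 17174595))) (.node 1 (.leaf 17109085) (.node 1 (.leaf 17246295) (.leaf 16937035)))))))
(.node 24 (.node 12 (.node 6 (.node 3 (.node 1 (.leaf 17633367) (.node 1 (.leaf 17508431) (.leaf 17635401))) (.node 1 (.leaf 17068099) (.node 1 (.leaf 16937029) (.leaf 17508439))))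
(.node 3 (.node 1 (.leaf 16939101) (.node 1 (.leaf 17635423) (.leaf 17512523))) (.node 1 (.leaf 17569883) (.node 1 (.leaf 17784903) (.leaf 17004623)))))
(.node 6 (.node 3 (.node 1 (.leaf 17569869) (.node 1 (.leaf 17567827) (.leaf 17260627))) (.node 1 (.leaf 17195087) (.node 1 (.leaf 17176657) (.leaf 17180759))))
(.node 3 (.node 1 (.leaf 17133659) (.node 1 (.leaf 17174599) (.leaf 17125445))) (.node 1 (.leaf 17242199) (.node 1 (.leaf 17780817) (.leaf 17045585))))))
(.node 12 (.node 6 (.node 3 (.node 1 (.leaf 17461343) (.node 1 (.leaf 17244231) (.leaf 17244241))) (.node 1 (.leaf 17178701) (.node 1 (.leaf 17068127) (.leaf 16937049))))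
(.node 3 (.node 1 (.leaf 17440849) (.node 1 (.leaf 16939075) (.leaf 17506371))) (.node 1 (.leaf 17070147) (.node 1 (.leaf 17004619) (.leaf 17440843)))))
(.node 6 (.node 3 (.node 1 (.leaf 17070151) (.node 1 (.leaf 17043527) (.leaf 17180745))) (.node 1 (.leaf 17444949) (.node 1 (.leaf 17125469) (.leaf 17242187))))
(.node 3 (.node 1 (.leaf 17246273) (.node 1 (.leaf 17178707) (.leaf 17446985))) (.node 1 (.leaf 17004627) (.node 1 (.leaf 17567829) (.leaf 17135703))))))))
(.node 48 (.node 24 (.node 12 (.node 6 (.node 3 (.node 1 (.leaf 17004637) (.node 1 (.leaf 17002567) (.leaf 17567811))) (.node 1 (.leaf 17258579) (.node 1 (.leaf 16932947) (.leaf 17659977))))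
(.node 3 (.node 1 (.leaf 17700953) (.node 1 (.leaf 16998491) (.leaf 17174619))) (.node 1 (.leaf 17135689) (.node 1 (.leaf 17176661) (.leaf 17127511)))))
(.node 6 (.node 3 (.node 1 (.leaf 17240133) (.node 1 (.leaf 16918603) (.leaf 17135693))) (.node 1 (.leaf 17176655) (.node 1 (.leaf 17135707) (.leaf 17133639))))
(.node 3 (.node 1 (.leaf 17000543) (.node 1 (.leaf 17127513) (.leaf 17240157))) (.node 1 (.leaf 17070165) (.node 1 (.leaf 17242193) (.leaf 17721439))))))
(.node 12 (.node 6 (.node 3 (.node 1 (.leaf 17528899) (.node 1 (.leaf 17176663) (.leaf 17180765))) (.node 1 (.leaf 17643595) (.node 1 (.leaf 17125457) (.leaf 17180747))))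
(.node 3 (.node 1 (.leaf 17721425) (.node 1 (.leaf 17135697) (.leaf 17522783))) (.node 1 (.leaf 17004629) (.node 1 (.leaf 17068109) (.leaf 17002573)))))
(.node 6 (.node 3 (.node 1 (.leaf 17070169) (.node 1 (.leaf 16939091) (.leaf 17442911))) (.node 1 (.leaf 16982103) (.node 1 (.leaf 17578067) (.leaf 17459277))))
(.node 3 (.node 1 (.leaf 17133647) (.node 1 (.leaf 17524807) (.leaf 17135709))) (.node 1 (.leaf 17070161) (.node 1 (.leaf 17719391) (.leaf 17133641)))))))
(.node 24 (.node 12 (.node 6 (.node 3 (.node 1 (.leaf 17524827) (.node 1 (.leaf 17068103) (.leaf 17070167))) (.node 1 (.leaf 17526875) (.node 1 (.leaf 17127501) (.leaf 17178703))))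
(.node 3 (.node 1 (.leaf 17576017) (.node 1 (.leaf 17127491) (.leaf 17240131))) (.node 1 (.leaf 17070157) (.node 1 (.leaf 17242191) (.leaf 17174623)))))
(.node 6 (.node 3 (.node 1 (.leaf 17125451) (.node 1 (.leaf 17246281) (.leaf 17578061))) (.node 1 (.leaf 16937055) (.node 1 (.leaf 17004609) (.leaf 17002585))))
(.node 3 (.node 1 (.leaf 17643607) (.node 1 (.leaf 17784909) (.leaf 17068123))) (.node 1 (.leaf 17459273) (.node 1 (.leaf 17133653) (.leaf 16937043))))))
(.node 12 (.node 6 (.node 3 (.node 1 (.leaf 17135685) (.node 1 (.leaf 16939083) (.leaf 17133649))) (.node 1 (.leaf 17002583) (.node 1 (.leaf 16986207) (.leaf 17256539))))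
(.node 3 (.node 1 (.leaf 17053769) (.node 1 (.leaf 17764447) (.leaf 17061961))) (.node 1 (.leaf 16934979) (.node 1 (.leaf 17768539) (.leaf 16934997)))))
(.node 6 (.node 3 (.node 1 (.leaf 17053779) (.node 1 (.leaf 17258569) (.leaf 17506393))) (.node 1 (.leaf 17053765) (.node 1 (.leaf 16920669) (.leaf 17051739))))
(.node 3 (.node 1 (.leaf 17197151) (.node 1 (.leaf 16920645) (.leaf 16922713))) (.node 1 (.leaf 17592413) (.node 1 (.leaf 17764435) (.leaf 17061971))))))))))
(.node 192 (.node 96 (.node 48 (.node 24 (.node 12 (.node 6 (.node 3 (.node 1 (.leaf 17528903) (.node 1 (.leaf 17700929) (.leaf 17061963))) (.node 1 (.leaf 17698887) (.node 1 (.leaf 17127509) (.leaf 17125471))))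
(.node 3 (.node 1 (.leaf 17702991) (.node 1 (.leaf 17059905) (.leaf 17195077))) (.node 1 (.leaf 17051731) (.node 1 (.leaf 17053775) (.leaf 17195097)))))
(.node 6 (.node 3 (.node 1 (.leaf 16932935) (.node 1 (.leaf 17659971) (.leaf 16932945))) (.node 1 (.leaf 16998477) (.node 1 (.leaf 17461339) (.leaf 17764421))))
(.node 3 (.node 1 (.leaf 17766465) (.node 1 (.leaf 17197121) (.leaf 17578075))) (.node 1 (.leaf 17782855) (.node 1 (.leaf 17715289) (.leaf 17111133))))))
(.node 12 (.node 6 (.node 3 (.node 1 (.leaf 17719367) (.node 1 (.leaf 17721417) (.leaf 17786971))) (.node 1 (.leaf 17721427) (.node 1 (.leaf 17510473) (.leaf 17786947))))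
(.node 3 (.node 1 (.leaf 17784911) (.node 1 (.leaf 17262663) (.leaf 17526851))) (.node 1 (.leaf 17635419) (.node 1 (.leaf 16939087) (.leaf 17178699)))))
(.node 6 (.node 3 (.node 1 (.leaf 17784917) (.node 1 (.leaf 17567809) (.leaf 17260609))) (.node 1 (.leaf 17766477) (.node 1 (.leaf 17698899) (.leaf 17764427))))
(.node 3 (.node 1 (.leaf 17000535) (.node 1 (.leaf 17576031) (.leaf 17780829))) (.node 1 (.leaf 17717315) (.node 1 (.leaf 17109059) (.leaf 17717333)))))))
(.node 24 (.node 12 (.node 6 (.node 3 (.node 1 (.leaf 16984157) (.node 1 (.leaf 16982087) (.leaf 17578051))) (.node 1 (.leaf 17643591) (.node 1 (.leaf 17508419) (.leaf 16988233))))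
(.node 3 (.node 1 (.leaf 17440837) (.node 1 (.leaf 17119297) (.leaf 16986199))) (.node 1 (.leaf 17045593) (.node 1 (.leaf 17190997) (.leaf 16922717)))))
(.node 6 (.node 3 (.node 1 (.leaf 17651795) (.node 1 (.leaf 17702985) (.leaf 16986191))) (.node 1 (.leaf 16920643) (.node 1 (.leaf 17193051) (.leaf 17651791))))
(.node 3 (.node 1 (.leaf 17764441) (.node 1 (.leaf 17524811) (.leaf 17633373))) (.node 1 (.leaf 17705027) (.node 1 (.leaf 16920665) (.leaf 17649737))))))
(.node 12 (.node 6 (.node 3 (.node 1 (.leaf 17461341) (.node 1 (.leaf 16916547) (.leaf 16984143))) (.node 1 (.leaf 17649729) (.node 1 (.leaf 17524823) (.leaf 17651805))))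
(.node 3 (.node 1 (.leaf 17586247) (.node 1 (.leaf 17522757) (.leaf 17459275))) (.node 1 (.leaf 17524825) (.node 1 (.leaf 17766495) (.leaf 17459279)))))
(.node 6 (.node 3 (.node 1 (.leaf 17262671) (.node 1 (.leaf 16939077) (.leaf 17635393))) (.node 1 (.leaf 17133637) (.node 1 (.leaf 17004639) (.leaf 17651781))))
(.node 3 (.node 1 (.leaf 17522781) (.node 1 (.leaf 17649755) (.leaf 17584193))) (.node 1 (.leaf 17463365) (.node 1 (.leaf 17700951) (.leaf 16998479))))))))
(.node 48 (.node 24 (.node 12 (.node 6 (.node 3 (.node 1 (.leaf 17461337) (.node 1 (.leaf 17715281) (.leaf 17782861))) (.node 1 (.leaf 17043547) (.node 1 (.leaf 17526849) (.leaf 16918601))))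
(.node 3 (.node 1 (.leaf 16916563) (.node 1 (.leaf 17576019) (.leaf 17442887))) (.node 1 (.leaf 17508441) (.node 1 (.leaf 17053785) (.leaf 17111107)))))
(.node 6 (.node 3 (.node 1 (.leaf 17190993) (.node 1 (.leaf 17768529) (.leaf 16920667))) (.node 1 (.leaf 17770569) (.node 1 (.leaf 16937037) (.leaf 17633359))))
(.node 3 (.node 1 (.leaf 17258567) (.node 1 (.leaf 17633353) (.leaf 17463367))) (.node 1 (.leaf 16982101) (.node 1 (.leaf 16918619) (.leaf 17594435))))))
(.node 12 (.node 6 (.node 3 (.node 1 (.leaf 17125441) (.node 1 (.leaf 17109061) (.leaf 17586271))) (.node 1 (.leaf 17457235) (.node 1 (.leaf 17649735) (.leaf 17174611))))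
(.node 3 (.node 1 (.leaf 17178709) (.node 1 (.leaf 17510479) (.leaf 17061975))) (.node 1 (.leaf 17045571) (.node 1 (.leaf 17043551) (.leaf 17524801)))))
(.node 6 (.node 3 (.node 1 (.leaf 17176651) (.node 1 (.leaf 17457239) (.leaf 16934977))) (.node 1 (.leaf 17528897) (.node 1 (.leaf 17586263) (.leaf 17586241))))
(.node 3 (.node 1 (.leaf 17174607) (.node 1 (.leaf 17242195) (.leaf 17461335))) (.node 1 (.leaf 17651801) (.node 1 (.leaf 16922701) (.leaf 17522779)))))))
(.node 24 (.node 12 (.node 6 (.node 3 (.node 1 (.leaf 17584195) (.node 1 (.leaf 17244227) (.leaf 17240135))) (.node 1 (.leaf 17508425) (.node 1 (.leaf 17457227) (.leaf 17240153))))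
(.node 3 (.node 1 (.leaf 17524805) (.node 1 (.leaf 17459285) (.leaf 17524831))) (.node 1 (.leaf 16986185) (.node 1 (.leaf 17522753) (.leaf 17127503)))))
(.node 6 (.node 3 (.node 1 (.leaf 17651789) (.node 1 (.leaf 16922689) (.leaf 17651803))) (.node 1 (.leaf 17127489) (.node 1 (.leaf 17240129) (.leaf 17070159))))
(.node 3 (.node 1 (.leaf 17244229) (.node 1 (.leaf 17174621) (.leaf 17242185))) (.node 1 (.leaf 17246275) (.node 1 (.leaf 17176671) (.leaf 17240141))))))
(.node 12 (.node 6 (.node 3 (.node 1 (.leaf 17242177) (.node 1 (.leaf 17174615) (.leaf 17242183))) (.node 1 (.leaf 17197131) (.node 1 (.leaf 16986205) (.leaf 17584223))))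
(.node 3 (.node 1 (.leaf 17459283) (.node 1 (.leaf 17457231) (.leaf 16922715))) (.node 1 (.leaf 17649753) (.node 1 (.leaf 17061981) (.leaf 17174603)))))
(.node 6 (.node 3 (.node 1 (.leaf 17135705) (.node 1 (.leaf 17178691) (.leaf 17240149))) (.node 1 (.leaf 17176641) (.node 1 (.leaf 17180743) (.leaf 17782873))))
(.node 3 (.node 1 (.leaf 17119315) (.node 1 (.leaf 17569867) (.leaf 17119301))) (.node 1 (.leaf 17717335) (.node 1 (.leaf 17440863) (.leaf 17117251)))))))))
(.node 96 (.node 48 (.node 24 (.node 12 (.node 6 (.node 3 (.node 1 (.leaf 17262659) (.node 1 (.leaf 17506383) (.leaf 16986193))) (.node 1 (.leaf 17705055) (.node 1 (.leaf 17442889) (.leaf 17117269))))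
(.node 3 (.node 1 (.leaf 16988237) (.node 1 (.leaf 17569857) (.leaf 16988245))) (.node 1 (.leaf 16916545) (.node 1 (.leaf 17649747) (.leaf 17522775)))))
(.node 6 (.node 3 (.node 1 (.leaf 17766475) (.node 1 (.leaf 17635411) (.leaf 17651799))) (.node 1 (.leaf 17641561) (.node 1 (.leaf 17633375) (.leaf 17657951))))
(.node 3 (.node 1 (.leaf 17702999) (.node 1 (.leaf 17260633) (.leaf 17592403))) (.node 1 (.leaf 17659979) (.node 1 (.leaf 17592401) (.leaf 17444935))))))
(.node 12 (.node 6 (.node 3 (.node 1 (.leaf 16984159) (.node 1 (.leaf 17457241) (.leaf 17584211))) (.node 1 (.leaf 17524813) (.node 1 (.leaf 17584197) (.leaf 17459293))))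
(.node 3 (.node 1 (.leaf 16998489) (.node 1 (.leaf 17705049) (.leaf 17651787))) (.node 1 (.leaf 17528905) (.node 1 (.leaf 17584205) (.leaf 17770575)))))
(.node 6 (.node 3 (.node 1 (.leaf 17584219) (.node 1 (.leaf 17459265) (.leaf 17193039))) (.node 1 (.leaf 17117255) (.node 1 (.leaf 17043541) (.leaf 17180763))))
(.node 3 (.node 1 (.leaf 17442907) (.node 1 (.leaf 17002563) (.leaf 17442883))) (.node 1 (.leaf 17447007) (.node 1 (.leaf 17719387) (.leaf 17195103)))))))
(.node 24 (.node 12 (.node 6 (.node 3 (.node 1 (.leaf 17242207) (.node 1 (.leaf 17068115) (.leaf 17240137))) (.node 1 (.leaf 17178717) (.node 1 (.leaf 17002591) (.leaf 17004613))))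
(.node 3 (.node 1 (.leaf 17440855) (.node 1 (.leaf 17506397) (.leaf 17246279))) (.node 1 (.leaf 17510467) (.node 1 (.leaf 16939095) (.leaf 17070175)))))
(.node 6 (.node 3 (.node 1 (.leaf 16939097) (.node 1 (.leaf 16937027) (.leaf 17633369))) (.node 1 (.leaf 17070145) (.node 1 (.leaf 17242203) (.leaf 17061983))))
(.node 3 (.node 1 (.leaf 17174601) (.node 1 (.leaf 17070163) (.leaf 17068111))) (.node 1 (.leaf 17135711) (.node 1 (.leaf 17176669) (.leaf 17786945))))))
(.node 12 (.node 6 (.node 3 (.node 1 (.leaf 17242201) (.node 1 (.leaf 17059929) (.leaf 16939089))) (.node 1 (.leaf 17135699) (.node 1 (.leaf 17133645) (.leaf 17461327))))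
(.node 3 (.node 1 (.leaf 17061957) (.node 1 (.leaf 17135687) (.leaf 17176643))) (.node 1 (.leaf 17240145) (.node 1 (.leaf 17059907) (.leaf 16937053)))))
(.node 6 (.node 3 (.node 1 (.leaf 17068125) (.node 1 (.leaf 17002581) (.leaf 17068121))) (.node 1 (.leaf 17698883) (.node 1 (.leaf 17000517) (.leaf 17702983))))
(.node 3 (.node 1 (.leaf 17000531) (.node 1 (.leaf 17068119) (.leaf 17240147))) (.node 1 (.leaf 16932937) (.node 1 (.leaf 17068101) (.leaf 17070171))))))))
(.node 48 (.node 24 (.node 12 (.node 6 (.node 3 (.node 1 (.leaf 17522767) (.node 1 (.leaf 17174613) (.leaf 17133663))) (.node 1 (.leaf 17135681) (.node 1 (.leaf 17784919) (.leaf 17174605))))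
(.node 3 (.node 1 (.leaf 17059931) (.node 1 (.leaf 17061959) (.leaf 17070155))) (.node 1 (.leaf 17784921) (.node 1 (.leaf 17135683) (.leaf 17457221)))))
(.node 6 (.node 3 (.node 1 (.leaf 17068117) (.node 1 (.leaf 17522771) (.leaf 17133661))) (.node 1 (.leaf 17260631) (.node 1 (.leaf 17528915) (.leaf 17133651))))
(.node 3 (.node 1 (.leaf 17459289) (.node 1 (.leaf 17068107) (.leaf 17240151))) (.node 1 (.leaf 17719371) (.node 1 (.leaf 17002571) (.leaf 17004625))))))
(.node 12 (.node 6 (.node 3 (.node 1 (.leaf 17649751) (.node 1 (.leaf 17133635) (.leaf 17721415))) (.node 1 (.leaf 17135701) (.node 1 (.leaf 17068105) (.leaf 16988247))))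
(.node 3 (.node 1 (.leaf 17125459) (.node 1 (.leaf 17705043) (.leaf 17508433))) (.node 1 (.leaf 16988251) (.node 1 (.leaf 16986181) (.leaf 17526861)))))
(.node 6 (.node 3 (.node 1 (.leaf 17698895) (.node 1 (.leaf 17463379) (.leaf 17786957))) (.node 1 (.leaf 17719379) (.node 1 (.leaf 17719369) (.leaf 17004631))))
(.node 3 (.node 1 (.leaf 16937041) (.node 1 (.leaf 17659993) (.leaf 17641545))) (.node 1 (.leaf 17782857) (.node 1 (.leaf 16922705) (.leaf 17463381)))))))
(.node 24 (.node 12 (.node 6 (.node 3 (.node 1 (.leaf 17457219) (.node 1 (.leaf 16988231) (.leaf 17457247))) (.node 1 (.leaf 17522755) (.node 1 (.leaf 17002569) (.leaf 17586259))))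
(.node 3 (.node 1 (.leaf 17459287) (.node 1 (.leaf 17459281) (.leaf 17586261))) (.node 1 (.leaf 17457229) (.node 1 (.leaf 17522777) (.leaf 17524815)))))
(.node 6 (.node 3 (.node 1 (.leaf 17522769) (.node 1 (.leaf 17457223) (.leaf 16937039))) (.node 1 (.leaf 17457243) (.node 1 (.leaf 17459269) (.leaf 17524817))))
(.node 3 (.node 1 (.leaf 17000519) (.node 1 (.leaf 17717317) (.leaf 17567815))) (.node 1 (.leaf 17002587) (.node 1 (.leaf 17522763) (.leaf 17242179))))))
(.node 12 (.node 6 (.node 3 (.node 1 (.leaf 17522761) (.node 1 (.leaf 17524819) (.leaf 16920659))) (.node 1 (.leaf 17567831) (.node 1 (.leaf 17459267) (.leaf 17457245))))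
(.node 3 (.node 1 (.leaf 16920651) (.node 1 (.leaf 17174597) (.leaf 17176653))) (.node 1 (.leaf 17459271) (.node 1 (.leaf 16939079) (.leaf 17176659)))))
(.node 6 (.node 3 (.node 1 (.leaf 17174617) (.node 1 (.leaf 16922691) (.leaf 17524829))) (.node 1 (.leaf 17004611) (.node 1 (.leaf 17457225) (.leaf 17524803))))
(.node 3 (.node 1 (.leaf 17457237) (.node 1 (.leaf 17586243) (.leaf 17244243))) (.node 1 (.leaf 17444951) (.node 1 (.leaf 17070153) (.leaf 17133633))))))))))))

/-- An automorphism. -/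
def oneFwd2 : Tab ℕ :=
(.node 768 (.node 384 (.node 192 (.node 96 (.node 48 (.node 24 (.node 12 (.node 6 (.node 3 (.node 1 (.leaf 17043521) (.node 1 (.leaf 17461329) (.leaf 17127513))) (.node 1 (.leaf 16984131) (.node 1 (.leaf 17195073) (.leaf 16986185))))
(.node 3 (.node 1 (.leaf 17657939) (.node 1 (.leaf 17512533) (.leaf 17043523))) (.node 1 (.leaf 16932949) (.node 1 (.leaf 17782867) (.leaf 17440859)))))
(.node 6 (.node 3 (.node 1 (.leaf 17043537) (.node 1 (.leaf 17721433) (.leaf 17193027))) (.node 1 (.leaf 17768517) (.node 1 (.leaf 17461331) (.leaf 17051717))))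
(.node 3 (.node 1 (.leaf 16998467) (.node 1 (.leaf 17576011) (.leaf 17246301))) (.node 1 (.leaf 16939103) (.node 1 (.leaf 17578073) (.leaf 17127515))))))
(.node 12 (.node 6 (.node 3 (.node 1 (.leaf 16984129) (.node 1 (.leaf 17698909) (.leaf 17524831))) (.node 1 (.leaf 17643587) (.node 1 (.leaf 17240139) (.leaf 17784913))))
(.node 3 (.node 1 (.leaf 17190999) (.node 1 (.leaf 17635415) (.leaf 17461313))) (.node 1 (.leaf 17127497) (.node 1 (.leaf 16984147) (.leaf 17569877)))))
(.node 6 (.node 3 (.node 1 (.leaf 17195075) (.node 1 (.leaf 17715285) (.leaf 17053779))) (.node 1 (.leaf 17698907) (.node 1 (.leaf 17649741) (.leaf 17246287))))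
(.node 3 (.node 1 (.leaf 17766473) (.node 1 (.leaf 16986187) (.leaf 17657937))) (.node 1 (.leaf 17440845) (.node 1 (.leaf 17133647) (.leaf 17764435)))))))
(.node 24 (.node 12 (.node 6 (.node 3 (.node 1 (.leaf 17459291) (.node 1 (.leaf 17061953) (.leaf 16916551))) (.node 1 (.leaf 17510471) (.node 1 (.leaf 17768533) (.leaf 17240159))))
(.node 3 (.node 1 (.leaf 17721419) (.node 1 (.leaf 17512535) (.leaf 17135709))) (.node 1 (.leaf 16918613) (.node 1 (.leaf 17659971) (.leaf 16932951)))))
(.node 6 (.node 3 (.node 1 (.leaf 17782865) (.node 1 (.leaf 17440857) (.leaf 17592393))) (.node 1 (.leaf 17193045) (.node 1 (.leaf 17705055) (.leaf 17242187))))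
(.node 3 (.node 1 (.leaf 17584221) (.node 1 (.leaf 17594459) (.leaf 17446977))) (.node 1 (.leaf 17133639) (.node 1 (.leaf 17246279) (.leaf 17633345))))))
(.node 12 (.node 6 (.node 3 (.node 1 (.leaf 17262665) (.node 1 (.leaf 17051743) (.leaf 17700957))) (.node 1 (.leaf 17197147) (.node 1 (.leaf 17004639) (.leaf 17195089))))
(.node 3 (.node 1 (.leaf 16986201) (.node 1 (.leaf 17657923) (.leaf 17512517))) (.node 1 (.leaf 17043539) (.node 1 (.leaf 16932933) (.leaf 17782851)))))
(.node 6 (.node 3 (.node 1 (.leaf 17440843) (.node 1 (.leaf 16939101) (.leaf 17649759))) (.node 1 (.leaf 17506393) (.node 1 (.leaf 17721435) (.leaf 17193025))))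
(.node 3 (.node 1 (.leaf 17576029) (.node 1 (.leaf 17176671) (.leaf 17442883))) (.node 1 (.leaf 17135691) (.node 1 (.leaf 16988241) (.leaf 17592407))))))))
(.node 48 (.node 24 (.node 12 (.node 6 (.node 3 (.node 1 (.leaf 17705047) (.node 1 (.leaf 17569861) (.leaf 17459279))) (.node 1 (.leaf 17768519) (.node 1 (.leaf 17240141) (.leaf 17659973))))
(.node 3 (.node 1 (.leaf 17256531) (.node 1 (.leaf 17051719) (.leaf 16998465))) (.node 1 (.leaf 17576009) (.node 1 (.leaf 17191001) (.leaf 16984133)))))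
(.node 6 (.node 3 (.node 1 (.leaf 17635407) (.node 1 (.leaf 17522779) (.leaf 16937037))) (.node 1 (.leaf 17258571) (.node 1 (.leaf 17770577) (.leaf 17176663))))
(.node 3 (.node 1 (.leaf 17649751) (.node 1 (.leaf 17446993) (.leaf 17109081))) (.node 1 (.leaf 17715279) (.node 1 (.leaf 17508429) (.leaf 17111115))))))
(.node 12 (.node 6 (.node 3 (.node 1 (.leaf 17244239) (.node 1 (.leaf 17649757) (.leaf 17246303))) (.node 1 (.leaf 17766489) (.node 1 (.leaf 17133643) (.leaf 17782871))))
(.node 3 (.node 1 (.leaf 17569863) (.node 1 (.leaf 17715271) (.leaf 17578075))) (.node 1 (.leaf 17524809) (.node 1 (.leaf 17053781) (.leaf 17717341)))))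
(.node 6 (.node 3 (.node 1 (.leaf 17506399) (.node 1 (.leaf 17000531) (.leaf 17463361))) (.node 1 (.leaf 17698911) (.node 1 (.leaf 17524829) (.leaf 17643585))))
(.node 3 (.node 1 (.leaf 17240137) (.node 1 (.leaf 17784915) (.leaf 17190997))) (.node 1 (.leaf 17635413) (.node 1 (.leaf 17641555) (.leaf 17526853)))))))
(.node 24 (.node 12 (.node 6 (.node 3 (.node 1 (.leaf 17053789) (.node 1 (.leaf 17195097) (.leaf 17586251))) (.node 1 (.leaf 17178711) (.node 1 (.leaf 17135687) (.leaf 17780817))))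
(.node 3 (.node 1 (.leaf 17244231) (.node 1 (.leaf 16920649) (.leaf 16934999))) (.node 1 (.leaf 17528919) (.node 1 (.leaf 17180753) (.leaf 17004633)))))
(.node 6 (.node 3 (.node 1 (.leaf 17522767) (.node 1 (.leaf 17051725) (.leaf 16937035))) (.node 1 (.leaf 17127503) (.node 1 (.leaf 17768525) (.leaf 17002577))))
(.node 3 (.node 1 (.leaf 17586265) (.node 1 (.leaf 17111109) (.leaf 17256517))) (.node 1 (.leaf 17133655) (.node 1 (.leaf 16986205) (.leaf 17594441))))))
(.node 12 (.node 6 (.node 3 (.node 1 (.leaf 17703007) (.node 1 (.leaf 17045591) (.leaf 17719361))) (.node 1 (.leaf 17786955) (.node 1 (.leaf 17446999) (.leaf 17070173))))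
(.node 3 (.node 1 (.leaf 17721417) (.node 1 (.leaf 17193043) (.leaf 17461315))) (.node 1 (.leaf 17051733) (.node 1 (.leaf 16998483) (.leaf 17576027)))))
(.node 6 (.node 3 (.node 1 (.leaf 17246285) (.node 1 (.leaf 16939087) (.leaf 17578057))) (.node 1 (.leaf 17127499) (.node 1 (.leaf 16984145) (.leaf 17698893))))
(.node 3 (.node 1 (.leaf 17524815) (.node 1 (.leaf 17643603) (.leaf 17240155))) (.node 1 (.leaf 17784897) (.node 1 (.leaf 17190983) (.leaf 17635399)))))))))
(.node 96 (.node 48 (.node 24 (.node 12 (.node 6 (.node 3 (.node 1 (.leaf 17135711) (.node 1 (.leaf 17569879) (.leaf 17459293))) (.node 1 (.leaf 17256533) (.node 1 (.leaf 16918595) (.leaf 17715287))))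
(.node 3 (.node 1 (.leaf 17053777) (.node 1 (.leaf 17698905) (.leaf 16916553))) (.node 1 (.leaf 17657941) (.node 1 (.leaf 17510495) (.leaf 17070155)))))
(.node 6 (.node 3 (.node 1 (.leaf 17178717) (.node 1 (.leaf 16982107) (.leaf 17524807))) (.node 1 (.leaf 16939079) (.node 1 (.leaf 17770561) (.leaf 17463369))))
(.node 3 (.node 1 (.leaf 16932959) (.node 1 (.leaf 17641565) (.leaf 17526875))) (.node 1 (.leaf 17586271) (.node 1 (.leaf 16939085) (.leaf 17649743))))))
(.node 12 (.node 6 (.node 3 (.node 1 (.leaf 17506377) (.node 1 (.leaf 17176667) (.leaf 16998471))) (.node 1 (.leaf 17766475) (.node 1 (.leaf 17133657) (.leaf 17782853))))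
(.node 3 (.node 1 (.leaf 17000525) (.node 1 (.leaf 17578063) (.leaf 17117251))) (.node 1 (.leaf 17262673) (.node 1 (.leaf 17440847) (.leaf 17133645)))))
(.node 6 (.node 3 (.node 1 (.leaf 17764433) (.node 1 (.leaf 17459289) (.leaf 17061955))) (.node 1 (.leaf 16916549) (.node 1 (.leaf 17510469) (.leaf 17700931))))
(.node 3 (.node 1 (.leaf 17197141) (.node 1 (.leaf 17782861) (.leaf 17043529))) (.node 1 (.leaf 17004635) (.node 1 (.leaf 17584199) (.leaf 17240151)))))))
(.node 24 (.node 12 (.node 6 (.node 3 (.node 1 (.leaf 16934977) (.node 1 (.leaf 17586263) (.leaf 17719385))) (.node 1 (.leaf 17119303) (.node 1 (.leaf 17260615) (.leaf 17651777))))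
(.node 3 (.node 1 (.leaf 17244233) (.node 1 (.leaf 17070175) (.leaf 17715293))) (.node 1 (.leaf 17178715) (.node 1 (.leaf 16986207) (.leaf 17569885)))))
(.node 6 (.node 3 (.node 1 (.leaf 17180737) (.node 1 (.leaf 17004617) (.leaf 17526869))) (.node 1 (.leaf 17176647) (.node 1 (.leaf 17721421) (.leaf 17258585))))
(.node 3 (.node 1 (.leaf 17567823) (.node 1 (.leaf 17528903) (.leaf 17059921))) (.node 1 (.leaf 17125467) (.node 1 (.leaf 17770567) (.leaf 17242189))))))
(.node 12 (.node 6 (.node 3 (.node 1 (.leaf 17459295) (.node 1 (.leaf 17768535) (.leaf 17240157))) (.node 1 (.leaf 17659989) (.node 1 (.leaf 17256515) (.leaf 17522759))))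
(.node 3 (.node 1 (.leaf 17051729) (.node 1 (.leaf 16937031) (.leaf 17643615))) (.node 1 (.leaf 17784923) (.node 1 (.leaf 17506379) (.leaf 17576015)))))
(.node 6 (.node 3 (.node 1 (.leaf 17176653) (.node 1 (.leaf 16918615) (.leaf 17659969))) (.node 1 (.leaf 17242181) (.node 1 (.leaf 16932947) (.leaf 17584197))))
(.node 3 (.node 1 (.leaf 17442909) (.node 1 (.leaf 16988249) (.leaf 17174613))) (.node 1 (.leaf 17719391) (.node 1 (.leaf 17256523) (.leaf 17766467))))))))
(.node 48 (.node 24 (.node 12 (.node 6 (.node 3 (.node 1 (.leaf 17457227) (.node 1 (.leaf 17197137) (.leaf 17592395))) (.node 1 (.leaf 17193047) (.node 1 (.leaf 17705053) (.leaf 17242185))))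
(.node 3 (.node 1 (.leaf 17584223) (.node 1 (.leaf 17594457) (.leaf 17446979))) (.node 1 (.leaf 17133637) (.node 1 (.leaf 17246277) (.leaf 17633347)))))
(.node 6 (.node 3 (.node 1 (.leaf 17262667) (.node 1 (.leaf 17051741) (.leaf 17700959))) (.node 1 (.leaf 17197145) (.node 1 (.leaf 17004637) (.leaf 16982083))))
(.node 3 (.node 1 (.leaf 17444945) (.node 1 (.leaf 17260621) (.leaf 16920655))) (.node 1 (.leaf 17442889) (.node 1 (.leaf 17135701) (.leaf 16988255))))))
(.node 12 (.node 6 (.node 3 (.node 1 (.leaf 17043541) (.node 1 (.leaf 17721411) (.leaf 16922695))) (.node 1 (.leaf 17633361) (.node 1 (.leaf 17059935) (.leaf 17053773))))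
(.node 3 (.node 1 (.leaf 16939083) (.node 1 (.leaf 17641537) (.leaf 17786963))) (.node 1 (.leaf 17125455) (.node 1 (.leaf 17770573) (.leaf 17702981)))))
(.node 6 (.node 3 (.node 1 (.leaf 17526867) (.node 1 (.leaf 17117253) (.leaf 17522781))) (.node 1 (.leaf 17262687) (.node 1 (.leaf 16922717) (.leaf 17702985))))
(.node 3 (.node 1 (.leaf 17174611) (.node 1 (.leaf 17786965) (.leaf 17070165))) (.node 1 (.leaf 16934983) (.node 1 (.leaf 17586253) (.leaf 16986191)))))))
(.node 24 (.node 12 (.node 6 (.node 3 (.node 1 (.leaf 17719367) (.node 1 (.leaf 17510481) (.leaf 17512539))) (.node 1 (.leaf 17043527) (.node 1 (.leaf 16932941) (.leaf 17649753))))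
(.node 3 (.node 1 (.leaf 17766479) (.node 1 (.leaf 17444937) (.leaf 17068115))) (.node 1 (.leaf 16922709) (.node 1 (.leaf 17522773) (.leaf 17528909)))))
(.node 6 (.node 3 (.node 1 (.leaf 17059919) (.node 1 (.leaf 17117261) (.leaf 17522783))) (.node 1 (.leaf 16937051) (.node 1 (.leaf 17768521) (.leaf 17461333))))
(.node 3 (.node 1 (.leaf 16934981) (.node 1 (.leaf 17528901) (.leaf 17584203))) (.node 1 (.leaf 17180759) (.node 1 (.leaf 17463391) (.leaf 17125469))))))
(.node 12 (.node 6 (.node 3 (.node 1 (.leaf 17567825) (.node 1 (.leaf 17717315) (.leaf 17260625))) (.node 1 (.leaf 17780807) (.node 1 (.leaf 17180767) (.leaf 17643611))))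
(.node 3 (.node 1 (.leaf 17459273) (.node 1 (.leaf 17119317) (.leaf 17195091))) (.node 1 (.leaf 17715269) (.node 1 (.leaf 17053763) (.leaf 17698891)))))
(.node 6 (.node 3 (.node 1 (.leaf 16986203) (.node 1 (.leaf 17657921) (.leaf 17440861))) (.node 1 (.leaf 17133663) (.node 1 (.leaf 17764419) (.leaf 17459275))))
(.node 3 (.node 1 (.leaf 17061969) (.node 1 (.leaf 16916567) (.leaf 17510487))) (.node 1 (.leaf 17240143) (.node 1 (.leaf 17512519) (.leaf 17135693))))))))))
(.node 192 (.node 96 (.node 48 (.node 24 (.node 12 (.node 6 (.node 3 (.node 1 (.leaf 16918597) (.node 1 (.leaf 17659987) (.leaf 16932935))) (.node 1 (.leaf 17782849) (.node 1 (.leaf 17440841) (.leaf 17592409))))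
(.node 3 (.node 1 (.leaf 17193029) (.node 1 (.leaf 17705039) (.leaf 17242203))) (.node 1 (.leaf 17584205) (.node 1 (.leaf 17594443) (.leaf 17246295)))))
(.node 6 (.node 3 (.node 1 (.leaf 17262681) (.node 1 (.leaf 17051727) (.leaf 17700941))) (.node 1 (.leaf 17197131) (.node 1 (.leaf 17004623) (.leaf 17524811))))
(.node 3 (.node 1 (.leaf 17053783) (.node 1 (.leaf 17506395) (.leaf 17176649))) (.node 1 (.leaf 16998485) (.node 1 (.leaf 17117277) (.leaf 17766495))))))
(.node 12 (.node 6 (.node 3 (.node 1 (.leaf 17717331) (.node 1 (.leaf 17109057) (.leaf 17576031))) (.node 1 (.leaf 17176669) (.node 1 (.leaf 17442881) (.leaf 17135689))))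
(.node 3 (.node 1 (.leaf 16988243) (.node 1 (.leaf 17592405) (.leaf 17705045))) (.node 1 (.leaf 17508435) (.node 1 (.leaf 16998493) (.leaf 17461337)))))
(.node 6 (.node 3 (.node 1 (.leaf 17244235) (.node 1 (.leaf 16937047) (.leaf 17459271))) (.node 1 (.leaf 17119313) (.node 1 (.leaf 17004615) (.leaf 17059913))))
(.node 3 (.node 1 (.leaf 17780823) (.node 1 (.leaf 17242191) (.leaf 17721423))) (.node 1 (.leaf 17512525) (.node 1 (.leaf 17651793) (.leaf 17244249)))))))
(.node 24 (.node 12 (.node 6 (.node 3 (.node 1 (.leaf 17197125) (.node 1 (.leaf 17524823) (.leaf 17127517))) (.node 1 (.leaf 16982089) (.node 1 (.leaf 17444959) (.leaf 17260631))))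
(.node 3 (.node 1 (.leaf 16920641) (.node 1 (.leaf 16922699) (.leaf 17633367))) (.node 1 (.leaf 17135695) (.node 1 (.leaf 17459277) (.leaf 16918611)))))
(.node 6 (.node 3 (.node 1 (.leaf 17070167) (.node 1 (.leaf 17715265) (.leaf 17764431))) (.node 1 (.leaf 17061963) (.node 1 (.leaf 17659975) (.leaf 17256529))))
(.node 3 (.node 1 (.leaf 17051715) (.node 1 (.leaf 16937045) (.leaf 17643597))) (.node 1 (.leaf 17784905) (.node 1 (.leaf 17457221) (.leaf 16918619))))))
(.node 12 (.node 6 (.node 3 (.node 1 (.leaf 17506387) (.node 1 (.leaf 17068123) (.leaf 17111105))) (.node 1 (.leaf 17191003) (.node 1 (.leaf 16984135) (.leaf 17635405))))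
(.node 3 (.node 1 (.leaf 17522777) (.node 1 (.leaf 16937039) (.leaf 17258569))) (.node 1 (.leaf 17770579) (.node 1 (.leaf 17176661) (.leaf 17649749)))))
(.node 6 (.node 3 (.node 1 (.leaf 17446995) (.node 1 (.leaf 17109083) (.leaf 17715277))) (.node 1 (.leaf 17508431) (.node 1 (.leaf 17111113) (.leaf 17244237))))
(.node 3 (.node 1 (.leaf 17594451) (.node 1 (.leaf 17702977) (.leaf 17045597))) (.node 1 (.leaf 17643609) (.node 1 (.leaf 17240133) (.leaf 17784911))))))))
(.node 48 (.node 24 (.node 12 (.node 6 (.node 3 (.node 1 (.leaf 17461317) (.node 1 (.leaf 17127507) (.leaf 17786967))) (.node 1 (.leaf 17782877) (.node 1 (.leaf 17246299) (.leaf 17700945))))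
(.node 3 (.node 1 (.leaf 17125443) (.node 1 (.leaf 16922719) (.leaf 17633373))) (.node 1 (.leaf 17567829) (.node 1 (.leaf 17197123) (.leaf 17717333)))))
(.node 6 (.node 3 (.node 1 (.leaf 17070157) (.node 1 (.leaf 17109071) (.leaf 17786957))) (.node 1 (.leaf 17567833) (.node 1 (.leaf 17457219) (.leaf 17125445))))
(.node 3 (.node 1 (.leaf 17119319) (.node 1 (.leaf 17721439) (.leaf 17059927))) (.node 1 (.leaf 17705025) (.node 1 (.leaf 17768523) (.leaf 17461335))))))
(.node 12 (.node 6 (.node 3 (.node 1 (.leaf 16939081) (.node 1 (.leaf 17703001) (.leaf 17174595))) (.node 1 (.leaf 17786949) (.node 1 (.leaf 17070149) (.leaf 17260637))))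
(.node 3 (.node 1 (.leaf 16920671) (.node 1 (.leaf 17070159) (.leaf 17178699))) (.node 1 (.leaf 17569881) (.node 1 (.leaf 17195077) (.leaf 17260629)))))
(.node 6 (.node 3 (.node 1 (.leaf 17651783) (.node 1 (.leaf 17262671) (.leaf 16922701))) (.node 1 (.leaf 17444929) (.node 1 (.leaf 17045569) (.leaf 17651791))))
(.node 3 (.node 1 (.leaf 17764427) (.node 1 (.leaf 17135705) (.leaf 17780805))) (.node 1 (.leaf 17176651) (.node 1 (.leaf 16998487) (.leaf 17766491)))))))
(.node 24 (.node 12 (.node 6 (.node 3 (.node 1 (.leaf 17133641) (.node 1 (.leaf 17782869) (.leaf 17000541))) (.node 1 (.leaf 17578079) (.node 1 (.leaf 17463385) (.leaf 17117267))))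
(.node 3 (.node 1 (.leaf 17262657) (.node 1 (.leaf 16934989) (.leaf 17440833))) (.node 1 (.leaf 16986195) (.node 1 (.leaf 17719375) (.leaf 17510477)))))
(.node 6 (.node 3 (.node 1 (.leaf 16984139) (.node 1 (.leaf 17594455) (.leaf 17447005))) (.node 1 (.leaf 17256519) (.node 1 (.leaf 16918609) (.leaf 16916571))))
(.node 3 (.node 1 (.leaf 17657927) (.node 1 (.leaf 17070169) (.leaf 17178703))) (.node 1 (.leaf 17717343) (.node 1 (.leaf 17506397) (.leaf 17000529))))))
(.node 12 (.node 6 (.node 3 (.node 1 (.leaf 17463363) (.node 1 (.leaf 17780815) (.leaf 17698883))) (.node 1 (.leaf 17127505) (.node 1 (.leaf 16920653) (.leaf 17193033))))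
(.node 3 (.node 1 (.leaf 16982101) (.node 1 (.leaf 17633375) (.leaf 17770581))) (.node 1 (.leaf 17068125) (.node 1 (.leaf 17180761) (.leaf 17567819)))))
(.node 6 (.node 3 (.node 1 (.leaf 17197143) (.node 1 (.leaf 17117255) (.leaf 17766481))) (.node 1 (.leaf 17262663) (.node 1 (.leaf 17256539) (.leaf 17768513))))
(.node 3 (.node 1 (.leaf 17174599) (.node 1 (.leaf 17719369) (.leaf 17190995))) (.node 1 (.leaf 17641553) (.node 1 (.leaf 17526855) (.leaf 17053791)))))))))
(.node 96 (.node 48 (.node 24 (.node 12 (.node 6 (.node 3 (.node 1 (.leaf 17195099) (.node 1 (.leaf 17586249) (.leaf 17178709))) (.node 1 (.leaf 17135685) (.node 1 (.leaf 17780819) (.leaf 17244229))))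
(.node 3 (.node 1 (.leaf 16920651) (.node 1 (.leaf 16934997) (.leaf 17528917))) (.node 1 (.leaf 17180755) (.node 1 (.leaf 17522765) (.leaf 16937033)))))
(.node 6 (.node 3 (.node 1 (.leaf 17127501) (.node 1 (.leaf 17768527) (.leaf 17002579))) (.node 1 (.leaf 17586267) (.node 1 (.leaf 17111111) (.leaf 17133653))))
(.node 3 (.node 1 (.leaf 17703005) (.node 1 (.leaf 17045589) (.leaf 17719363))) (.node 1 (.leaf 17786953) (.node 1 (.leaf 17446997) (.leaf 17442907))))))
(.node 12 (.node 6 (.node 3 (.node 1 (.leaf 17178689) (.node 1 (.leaf 17002569) (.leaf 17258575))) (.node 1 (.leaf 17703003) (.node 1 (.leaf 16982099) (.leaf 17633349))))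
(.node 3 (.node 1 (.leaf 16939097) (.node 1 (.leaf 17770571) (.leaf 17463383))) (.node 1 (.leaf 17461341) (.node 1 (.leaf 17127519) (.leaf 16984153)))))
(.node 6 (.node 3 (.node 1 (.leaf 17569875) (.node 1 (.leaf 17119307) (.leaf 17002561))) (.node 1 (.leaf 17442899) (.node 1 (.leaf 17444939) (.leaf 17111127))))
(.node 3 (.node 1 (.leaf 17442905) (.node 1 (.leaf 16988239) (.leaf 17721415))) (.node 1 (.leaf 17512529) (.node 1 (.leaf 16982097) (.leaf 17444931)))))))
(.node 24 (.node 12 (.node 6 (.node 3 (.node 1 (.leaf 17635395) (.node 1 (.leaf 17260619) (.leaf 17510491))) (.node 1 (.leaf 17045575) (.node 1 (.leaf 17651801) (.leaf 17180751))))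
(.node 3 (.node 1 (.leaf 17700937) (.node 1 (.leaf 17260611) (.leaf 17592401))) (.node 1 (.leaf 17506381) (.node 1 (.leaf 17068111) (.leaf 17784919)))))
(.node 6 (.node 3 (.node 1 (.leaf 17256541) (.node 1 (.leaf 17705033) (.leaf 17119327))) (.node 1 (.leaf 17700933) (.node 1 (.leaf 17068099) (.leaf 17717323))))
(.node 3 (.node 1 (.leaf 17635421) (.node 1 (.leaf 17260639) (.leaf 17780825))) (.node 1 (.leaf 17700943) (.node 1 (.leaf 17125451) (.leaf 16922713))))))
(.node 12 (.node 6 (.node 3 (.node 1 (.leaf 17768539) (.node 1 (.leaf 17461319) (.leaf 17197133))) (.node 1 (.leaf 17244225) (.node 1 (.leaf 17576019) (.leaf 16939073))))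
(.node 3 (.node 1 (.leaf 17578071) (.node 1 (.leaf 17461327) (.leaf 17524805))) (.node 1 (.leaf 16986197) (.node 1 (.leaf 17569859) (.leaf 17459285)))))
(.node 6 (.node 3 (.node 1 (.leaf 17659995) (.node 1 (.leaf 17178693) (.leaf 17641541))) (.node 1 (.leaf 17117259) (.node 1 (.leaf 17528927) (.leaf 17119321))))
(.node 3 (.node 1 (.leaf 16935007) (.node 1 (.leaf 16922693) (.leaf 17594447))) (.node 1 (.leaf 17444955) (.node 1 (.leaf 17068101) (.leaf 17586269))))))))
(.node 48 (.node 24 (.node 12 (.node 6 (.node 3 (.node 1 (.leaf 17719383) (.node 1 (.leaf 17510465) (.leaf 17649733))) (.node 1 (.leaf 17246291) (.node 1 (.leaf 17766469) (.leaf 17195101))))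
(.node 3 (.node 1 (.leaf 17657945) (.node 1 (.leaf 17125449) (.leaf 17262669))) (.node 1 (.leaf 16922703) (.node 1 (.leaf 16920647) (.leaf 17635409)))))
(.node 6 (.node 3 (.node 1 (.leaf 17061983) (.node 1 (.leaf 17174619) (.leaf 16988247))) (.node 1 (.leaf 17659997) (.node 1 (.leaf 17510473) (.leaf 16937025))))
(.node 3 (.node 1 (.leaf 17651785) (.node 1 (.leaf 17578067) (.leaf 17258579))) (.node 1 (.leaf 17641551) (.node 1 (.leaf 17702999) (.leaf 17174621))))))
(.node 12 (.node 6 (.node 3 (.node 1 (.leaf 16984151) (.node 1 (.leaf 17594433) (.leaf 17176645))) (.node 1 (.leaf 17508445) (.node 1 (.leaf 17193041) (.leaf 17576013))))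
(.node 3 (.node 1 (.leaf 17176655) (.node 1 (.leaf 17135707) (.leaf 16988225))) (.node 1 (.leaf 17592391) (.node 1 (.leaf 17705031) (.leaf 17051735)))))
(.node 6 (.node 3 (.node 1 (.leaf 16998481) (.node 1 (.leaf 17576025) (.leaf 17190985))) (.node 1 (.leaf 16984149) (.node 1 (.leaf 17635423) (.leaf 17522763))))
(.node 3 (.node 1 (.leaf 16937053) (.node 1 (.leaf 17258587) (.leaf 17649735))) (.node 1 (.leaf 17109065) (.node 1 (.leaf 17715295) (.leaf 17111131)))))))
(.node 24 (.node 12 (.node 6 (.node 3 (.node 1 (.leaf 17244255) (.node 1 (.leaf 17133659) (.leaf 17782855))) (.node 1 (.leaf 17578059) (.node 1 (.leaf 17524825) (.leaf 17053765))))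
(.node 3 (.node 1 (.leaf 17717325) (.node 1 (.leaf 17506383) (.leaf 17000515))) (.node 1 (.leaf 17463377) (.node 1 (.leaf 17698895) (.leaf 17524813)))))
(.node 6 (.node 3 (.node 1 (.leaf 17643601) (.node 1 (.leaf 17240153) (.leaf 17784899))) (.node 1 (.leaf 17190981) (.node 1 (.leaf 17635397) (.leaf 17641539))))
(.node 3 (.node 1 (.leaf 17195081) (.node 1 (.leaf 17178695) (.leaf 17135703))) (.node 1 (.leaf 17780801) (.node 1 (.leaf 17244247) (.leaf 16920665))))))
(.node 12 (.node 6 (.node 3 (.node 1 (.leaf 17768541) (.node 1 (.leaf 17111125) (.leaf 16986189))) (.node 1 (.leaf 17702991) (.node 1 (.leaf 17719377) (.leaf 17786971))))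
(.node 3 (.node 1 (.leaf 17446983) (.node 1 (.leaf 17242183) (.leaf 16932945))) (.node 1 (.leaf 17442911) (.node 1 (.leaf 16988251) (.leaf 17256535)))))
(.node 6 (.node 3 (.node 1 (.leaf 16918593) (.node 1 (.leaf 17715283) (.leaf 17764445))) (.node 1 (.leaf 17061977) (.node 1 (.leaf 17068117) (.leaf 17659979))))
(.node 3 (.node 1 (.leaf 17578051) (.node 1 (.leaf 17174603) (.leaf 17526865))) (.node 1 (.leaf 16916555) (.node 1 (.leaf 17657943) (.leaf 17510493)))))))))))
(.node 384 (.node 192 (.node 96 (.node 48 (.node 24 (.node 12 (.node 6 (.node 3 (.node 1 (.leaf 17070153) (.node 1 (.leaf 17178719) (.leaf 16982105))) (.node 1 (.leaf 16939077) (.node 1 (.leaf 17770563) (.leaf 17463371))))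
(.node 3 (.node 1 (.leaf 16932957) (.node 1 (.leaf 17641567) (.leaf 17526873))) (.node 1 (.leaf 17258563) (.node 1 (.leaf 17764425) (.leaf 17195093)))))
(.node 6 (.node 3 (.node 1 (.leaf 16986179) (.node 1 (.leaf 17125447) (.leaf 16998477))) (.node 1 (.leaf 17649739) (.node 1 (.leaf 17508417) (.leaf 16922707))))
(.node 3 (.node 1 (.leaf 17786959) (.node 1 (.leaf 17446989) (.leaf 17444933))) (.node 1 (.leaf 17111123) (.node 1 (.leaf 17000517) (.leaf 17242205))))))
(.node 12 (.node 6 (.node 3 (.node 1 (.leaf 17569883) (.node 1 (.leaf 17195079) (.leaf 17246297))) (.node 1 (.leaf 17567817) (.node 1 (.leaf 17457235) (.leaf 17125461))))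
(.node 3 (.node 1 (.leaf 17242197) (.node 1 (.leaf 17045581) (.leaf 17242207))) (.node 1 (.leaf 17584219) (.node 1 (.leaf 17512521) (.leaf 17045573)))))
(.node 6 (.node 3 (.node 1 (.leaf 17002583) (.node 1 (.leaf 17109087) (.leaf 17786973))) (.node 1 (.leaf 17702993) (.node 1 (.leaf 17528913) (.leaf 17002591))))
(.node 3 (.node 1 (.leaf 17524827) (.node 1 (.leaf 17053767) (.leaf 17176665))) (.node 1 (.leaf 16998469) (.node 1 (.leaf 17109073) (.leaf 17119325)))))))
(.node 24 (.node 12 (.node 6 (.node 3 (.node 1 (.leaf 17576017) (.node 1 (.leaf 17657947) (.leaf 17258567))) (.node 1 (.leaf 17000527) (.node 1 (.leaf 17578061) (.leaf 17117249))))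
(.node 3 (.node 1 (.leaf 17262675) (.node 1 (.leaf 17440851) (.leaf 16986177))) (.node 1 (.leaf 17719389) (.node 1 (.leaf 17594437) (.leaf 17446991)))))
(.node 6 (.node 3 (.node 1 (.leaf 17174605) (.node 1 (.leaf 17717335) (.leaf 17506369))) (.node 1 (.leaf 17109079) (.node 1 (.leaf 16918603) (.leaf 17569873))))
(.node 3 (.node 1 (.leaf 17457239) (.node 1 (.leaf 17059929) (.leaf 16916547))) (.node 1 (.leaf 17700929) (.node 1 (.leaf 17782863) (.leaf 17043531))))))
(.node 12 (.node 6 (.node 3 (.node 1 (.leaf 17240149) (.node 1 (.leaf 16934979) (.leaf 17586261))) (.node 1 (.leaf 17719387) (.node 1 (.leaf 17119301) (.leaf 17260613))))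
(.node 3 (.node 1 (.leaf 17651779) (.node 1 (.leaf 17178713) (.leaf 17569887))) (.node 1 (.leaf 17180739) (.node 1 (.leaf 17004619) (.leaf 17526871)))))
(.node 6 (.node 3 (.node 1 (.leaf 17567821) (.node 1 (.leaf 17059923) (.leaf 17125465))) (.node 1 (.leaf 17770565) (.node 1 (.leaf 17643595) (.leaf 17584209))))
(.node 3 (.node 1 (.leaf 16982111) (.node 1 (.leaf 17594435) (.leaf 17246281))) (.node 1 (.leaf 17633371) (.node 1 (.leaf 17195085) (.leaf 17657929))))))))
(.node 48 (.node 24 (.node 12 (.node 6 (.node 3 (.node 1 (.leaf 17512515) (.node 1 (.leaf 17780827) (.leaf 17643593))) (.node 1 (.leaf 17784927) (.node 1 (.leaf 17127511) (.leaf 17702995))))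
(.node 3 (.node 1 (.leaf 17510483) (.node 1 (.leaf 17045595) (.leaf 17705035))) (.node 1 (.leaf 17651807) (.node 1 (.leaf 17508441) (.leaf 17045587)))))
(.node 6 (.node 3 (.node 1 (.leaf 17190977) (.node 1 (.leaf 17578077) (.leaf 17174623))) (.node 1 (.leaf 17061959) (.node 1 (.leaf 16918605) (.leaf 17635417))))
(.node 3 (.node 1 (.leaf 17508437) (.node 1 (.leaf 17000539) (.leaf 17045583))) (.node 1 (.leaf 16934985) (.node 1 (.leaf 17508447) (.leaf 16922715))))))
(.node 12 (.node 6 (.node 3 (.node 1 (.leaf 17569867) (.node 1 (.leaf 17195095) (.leaf 17111133))) (.node 1 (.leaf 17586257) (.node 1 (.leaf 17246289) (.leaf 17766471))))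
(.node 3 (.node 1 (.leaf 17195103) (.node 1 (.leaf 17721413) (.leaf 17512531))) (.node 1 (.leaf 17584213) (.node 1 (.leaf 17700949) (.leaf 17717339)))))
(.node 6 (.node 3 (.node 1 (.leaf 17260623) (.node 1 (.leaf 17780809) (.leaf 17119311))) (.node 1 (.leaf 17258591) (.node 1 (.leaf 17702987) (.leaf 17004621))))
(.node 3 (.node 1 (.leaf 17059911) (.node 1 (.leaf 17705041) (.leaf 16939093))) (.node 1 (.leaf 17649731) (.node 1 (.leaf 17506389) (.leaf 17043533)))))))
(.node 24 (.node 12 (.node 6 (.node 3 (.node 1 (.leaf 17109085) (.node 1 (.leaf 17786975) (.leaf 17784903))) (.node 1 (.leaf 17256525) (.node 1 (.leaf 17705049) (.leaf 17178705))))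
(.node 3 (.node 1 (.leaf 17002585) (.node 1 (.leaf 17567815) (.leaf 17457229))) (.node 1 (.leaf 17258577) (.node 1 (.leaf 17524821) (.leaf 17641549)))))
(.node 6 (.node 3 (.node 1 (.leaf 17070151) (.node 1 (.leaf 17715281) (.leaf 17764447))) (.node 1 (.leaf 17061979) (.node 1 (.leaf 17659991) (.leaf 17256513))))
(.node 3 (.node 1 (.leaf 17522757) (.node 1 (.leaf 17051731) (.leaf 16937029))) (.node 1 (.leaf 17643613) (.node 1 (.leaf 17784921) (.leaf 17457237))))))
(.node 12 (.node 6 (.node 3 (.node 1 (.leaf 17512541) (.node 1 (.leaf 16988227) (.leaf 17506371))) (.node 1 (.leaf 17068107) (.node 1 (.leaf 16920657) (.leaf 17111121))))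
(.node 3 (.node 1 (.leaf 17700953) (.node 1 (.leaf 17190993) (.leaf 17768515))) (.node 1 (.leaf 17461323) (.node 1 (.leaf 17567835) (.leaf 17197127)))))
(.node 6 (.node 3 (.node 1 (.leaf 17440849) (.node 1 (.leaf 17528923) (.leaf 17180745))) (.node 1 (.leaf 17004629) (.node 1 (.leaf 17117263) (.leaf 17766477))))
(.node 3 (.node 1 (.leaf 17717313) (.node 1 (.leaf 17109075) (.leaf 16998479))) (.node 1 (.leaf 17119299) (.node 1 (.leaf 17059931) (.leaf 17174615)))))))))
(.node 96 (.node 48 (.node 24 (.node 12 (.node 6 (.node 3 (.node 1 (.leaf 17256521) (.node 1 (.leaf 17766465) (.leaf 17457225))) (.node 1 (.leaf 17197139) (.node 1 (.leaf 17641563) (.leaf 17592403))))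
(.node 3 (.node 1 (.leaf 17193051) (.node 1 (.leaf 17512513) (.leaf 17698899))) (.node 1 (.leaf 17780829) (.node 1 (.leaf 17045593) (.leaf 17002571)))))
(.node 6 (.node 3 (.node 1 (.leaf 17651805) (.node 1 (.leaf 17764441) (.leaf 17117269))) (.node 1 (.leaf 17061973) (.node 1 (.leaf 17702979) (.leaf 17508423))))
(.node 3 (.node 1 (.leaf 17045599) (.node 1 (.leaf 17068109) (.leaf 17768531))) (.node 1 (.leaf 17111119) (.node 1 (.leaf 17784909) (.leaf 17117271))))))
(.node 12 (.node 6 (.node 3 (.node 1 (.leaf 17262679) (.node 1 (.leaf 17649745) (.leaf 17180747))) (.node 1 (.leaf 17567813) (.node 1 (.leaf 17717317) (.leaf 17700939))))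
(.node 3 (.node 1 (.leaf 16982081) (.node 1 (.leaf 17444947) (.leaf 17442891))) (.node 1 (.leaf 16988253) (.node 1 (.leaf 17043543) (.leaf 17721409)))))
(.node 6 (.node 3 (.node 1 (.leaf 17633363) (.node 1 (.leaf 17059933) (.leaf 17053775))) (.node 1 (.leaf 17786961) (.node 1 (.leaf 17125453) (.leaf 17770575))))
(.node 3 (.node 1 (.leaf 17702983) (.node 1 (.leaf 17262685) (.leaf 17174609))) (.node 1 (.leaf 17586255) (.node 1 (.leaf 17719365) (.leaf 17512537)))))))
(.node 24 (.node 12 (.node 6 (.node 3 (.node 1 (.leaf 17043525) (.node 1 (.leaf 16932943) (.leaf 17649755))) (.node 1 (.leaf 17068113) (.node 1 (.leaf 16922711) (.leaf 17522775))))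
(.node 3 (.node 1 (.leaf 17528911) (.node 1 (.leaf 17059917) (.leaf 16937049))) (.node 1 (.leaf 17584201) (.node 1 (.leaf 17180757) (.leaf 17463389)))))
(.node 6 (.node 3 (.node 1 (.leaf 17125471) (.node 1 (.leaf 17567827) (.leaf 17260627))) (.node 1 (.leaf 17180765) (.node 1 (.leaf 17176643) (.leaf 17784901))))
(.node 3 (.node 1 (.leaf 17119323) (.node 1 (.leaf 17764423) (.leaf 17584215))) (.node 1 (.leaf 17700951) (.node 1 (.leaf 17780803) (.leaf 17045585))))))
(.node 12 (.node 6 (.node 3 (.node 1 (.leaf 17002573) (.node 1 (.leaf 17721429) (.leaf 17244241))) (.node 1 (.leaf 17197151) (.node 1 (.leaf 17657951) (.leaf 17512523))))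
(.node 3 (.node 1 (.leaf 17440835) (.node 1 (.leaf 16939075) (.leaf 17506385))) (.node 1 (.leaf 17070161) (.node 1 (.leaf 17444953) (.leaf 16982091)))))
(.node 6 (.node 3 (.node 1 (.leaf 17641543) (.node 1 (.leaf 17633365) (.leaf 17770587))) (.node 1 (.leaf 17463367) (.node 1 (.leaf 17569871) (.leaf 17715275))))
(.node 3 (.node 1 (.leaf 17246273) (.node 1 (.leaf 17178707) (.leaf 17002587))) (.node 1 (.leaf 17004627) (.node 1 (.leaf 17109063) (.leaf 17576023))))))))
(.node 48 (.node 24 (.node 12 (.node 6 (.node 3 (.node 1 (.leaf 17463375) (.node 1 (.leaf 16988245) (.leaf 17567811))) (.node 1 (.leaf 17258561) (.node 1 (.leaf 16932929) (.leaf 17641545))))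
(.node 3 (.node 1 (.leaf 17256537) (.node 1 (.leaf 17457243) (.leaf 17782875))) (.node 1 (.leaf 17117257) (.node 1 (.leaf 17766485) (.leaf 17586245)))))
(.node 6 (.node 3 (.node 1 (.leaf 17698885) (.node 1 (.leaf 17508427) (.leaf 17594445))) (.node 1 (.leaf 17190991) (.node 1 (.leaf 17117275) (.leaf 17578055))))
(.node 3 (.node 1 (.leaf 17440863) (.node 1 (.leaf 17109067) (.leaf 17258589))) (.node 1 (.leaf 17641557) (.node 1 (.leaf 17242179) (.leaf 17702989))))))
(.node 12 (.node 6 (.node 3 (.node 1 (.leaf 17528899) (.node 1 (.leaf 17766487) (.leaf 17195087))) (.node 1 (.leaf 17657931) (.node 1 (.leaf 17125457) (.leaf 17770585))))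
(.node 3 (.node 1 (.leaf 17721425) (.node 1 (.leaf 17135683) (.leaf 16918623))) (.node 1 (.leaf 16986183) (.node 1 (.leaf 17657933) (.leaf 17461343)))))
(.node 6 (.node 3 (.node 1 (.leaf 17051737) (.node 1 (.leaf 16939091) (.leaf 16998495))) (.node 1 (.leaf 17000535) (.node 1 (.leaf 17578049) (.leaf 16982093))))
(.node 3 (.node 1 (.leaf 17592399) (.node 1 (.leaf 17506375) (.leaf 17594461))) (.node 1 (.leaf 17070147) (.node 1 (.leaf 17705037) (.leaf 17119305)))))))
(.node 24 (.node 12 (.node 6 (.node 3 (.node 1 (.leaf 16935003) (.node 1 (.leaf 17643591) (.leaf 17641559))) (.node 1 (.leaf 16922697) (.node 1 (.leaf 17567839) (.leaf 17197149))))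
(.node 3 (.node 1 (.leaf 17576003) (.node 1 (.leaf 17127491) (.leaf 17240145))) (.node 1 (.leaf 17659981) (.node 1 (.leaf 17256527) (.leaf 17193055)))))
(.node 6 (.node 3 (.node 1 (.leaf 17111129) (.node 1 (.leaf 17705051) (.leaf 17119309))) (.node 1 (.leaf 17526861) (.node 1 (.leaf 17004609) (.leaf 17446987))))
(.node 3 (.node 1 (.leaf 17068119) (.node 1 (.leaf 17770591) (.leaf 17053787))) (.node 1 (.leaf 17000521) (.node 1 (.leaf 17578069) (.leaf 16937043))))))
(.node 12 (.node 6 (.node 3 (.node 1 (.leaf 17576005) (.node 1 (.leaf 17510489) (.leaf 17133635))) (.node 1 (.leaf 16988229) (.node 1 (.leaf 17444941) (.leaf 17700955))))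
(.node 3 (.node 1 (.leaf 17068105) (.node 1 (.leaf 17782879) (.leaf 17043547))) (.node 1 (.leaf 16934993) (.node 1 (.leaf 17178697) (.leaf 16916565)))))
(.node 6 (.node 3 (.node 1 (.leaf 17053761) (.node 1 (.leaf 17698889) (.leaf 16916569))) (.node 1 (.leaf 17657925) (.node 1 (.leaf 17510479) (.leaf 17070171))))
(.node 3 (.node 1 (.leaf 17178701) (.node 1 (.leaf 16939095) (.leaf 17526859))) (.node 1 (.leaf 17133661) (.node 1 (.leaf 17764417) (.leaf 17061971))))))))))
(.node 192 (.node 96 (.node 48 (.node 24 (.node 12 (.node 6 (.node 3 (.node 1 (.leaf 17510485) (.node 1 (.leaf 17700947) (.leaf 17043545))) (.node 1 (.leaf 17240135) (.node 1 (.leaf 17586247) (.leaf 17569869))))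
(.node 3 (.node 1 (.leaf 17721437) (.node 1 (.leaf 17059905) (.leaf 17770583))) (.node 1 (.leaf 17051713) (.node 1 (.leaf 17643599) (.leaf 17784907)))))
(.node 6 (.node 3 (.node 1 (.leaf 16918599) (.node 1 (.leaf 17659985) (.leaf 16932931))) (.node 1 (.leaf 17442893) (.node 1 (.leaf 16988233) (.leaf 17174597))))
(.node 3 (.node 1 (.leaf 17766483) (.node 1 (.leaf 17197121) (.leaf 17592411))) (.node 1 (.leaf 17193031) (.node 1 (.leaf 17242201) (.leaf 17584207))))))
(.node 12 (.node 6 (.node 3 (.node 1 (.leaf 17246293) (.node 1 (.leaf 17262683) (.leaf 17197129))) (.node 1 (.leaf 17721427) (.node 1 (.leaf 16939099) (.leaf 17786947))))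
(.node 3 (.node 1 (.leaf 17770589) (.node 1 (.leaf 17702997) (.leaf 17526851))) (.node 1 (.leaf 17649737) (.node 1 (.leaf 17528925) (.leaf 17768537)))))
(.node 6 (.node 3 (.node 1 (.leaf 17180743) (.node 1 (.leaf 17567809) (.leaf 17260609))) (.node 1 (.leaf 17780813) (.node 1 (.leaf 17698881) (.leaf 17193035))))
(.node 3 (.node 1 (.leaf 16982103) (.node 1 (.leaf 17117279) (.leaf 17766493))) (.node 1 (.leaf 17717329) (.node 1 (.leaf 17109059) (.leaf 17258581)))))))
(.node 24 (.node 12 (.node 6 (.node 3 (.node 1 (.leaf 17457245) (.node 1 (.leaf 17000519) (.leaf 17578065))) (.node 1 (.leaf 17068103) (.node 1 (.leaf 17508433) (.leaf 17461339))))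
(.node 3 (.node 1 (.leaf 17459269) (.node 1 (.leaf 17119315) (.leaf 17004613))) (.node 1 (.leaf 17059915) (.node 1 (.leaf 17780821) (.leaf 17512527)))))
(.node 6 (.node 3 (.node 1 (.leaf 17651795) (.node 1 (.leaf 17244251) (.leaf 17444957))) (.node 1 (.leaf 16920643) (.node 1 (.leaf 17764443) (.leaf 17043549))))
(.node 3 (.node 1 (.leaf 17193049) (.node 1 (.leaf 16934987) (.leaf 17061967))) (.node 1 (.leaf 17705027) (.node 1 (.leaf 17528907) (.leaf 17635419))))))
(.node 12 (.node 6 (.node 3 (.node 1 (.leaf 17002575) (.node 1 (.leaf 16916561) (.leaf 17457231))) (.node 1 (.leaf 17649729) (.node 1 (.leaf 17506391) (.leaf 17043535))))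
(.node 3 (.node 1 (.leaf 17127509) (.node 1 (.leaf 17508421) (.leaf 17000523))) (.node 1 (.leaf 16935001) (.node 1 (.leaf 17780831) (.leaf 16982095)))))
(.node 6 (.node 3 (.node 1 (.leaf 17244253) (.node 1 (.leaf 16920663) (.leaf 17635393))) (.node 1 (.leaf 17578053) (.node 1 (.leaf 17463373) (.leaf 17061975))))
(.node 3 (.node 1 (.leaf 16918621) (.node 1 (.leaf 17635401) (.leaf 17584193))) (.node 1 (.leaf 17444951) (.node 1 (.leaf 17242199) (.leaf 17442895))))))))
(.node 48 (.node 24 (.node 12 (.node 6 (.node 3 (.node 1 (.leaf 16988235) (.node 1 (.leaf 17715267) (.leaf 17764429))) (.node 1 (.leaf 17061961) (.node 1 (.leaf 17526849) (.leaf 17508425))))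
(.node 3 (.node 1 (.leaf 16916545) (.node 1 (.leaf 17576001) (.leaf 17457223))) (.node 1 (.leaf 16918617) (.node 1 (.leaf 17068121) (.leaf 17111107)))))
(.node 6 (.node 3 (.node 1 (.leaf 17190979) (.node 1 (.leaf 17768529) (.leaf 17528905))) (.node 1 (.leaf 17180763) (.node 1 (.leaf 17526879) (.leaf 17061981))))
(.node 3 (.node 1 (.leaf 17717319) (.node 1 (.leaf 17651803) (.leaf 17444949))) (.node 1 (.leaf 17000533) (.node 1 (.leaf 17508443) (.leaf 17594449))))))
(.node 12 (.node 6 (.node 3 (.node 1 (.leaf 17125441) (.node 1 (.leaf 17567831) (.leaf 17109069))) (.node 1 (.leaf 17457217) (.node 1 (.leaf 17059925) (.leaf 17174593))))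
(.node 3 (.node 1 (.leaf 17786951) (.node 1 (.leaf 16920669) (.leaf 17651781))) (.node 1 (.leaf 17045571) (.node 1 (.leaf 17651789) (.leaf 17524819)))))
(.node 6 (.node 3 (.node 1 (.leaf 17780811) (.node 1 (.leaf 17442903) (.leaf 16934995))) (.node 1 (.leaf 17528897) (.node 1 (.leaf 17127493) (.leaf 17586241))))
(.node 3 (.node 1 (.leaf 17193039) (.node 1 (.leaf 17242177) (.leaf 17446981))) (.node 1 (.leaf 17633355) (.node 1 (.leaf 17512543) (.leaf 16932955)))))))
(.node 24 (.node 12 (.node 6 (.node 3 (.node 1 (.leaf 17584195) (.node 1 (.leaf 17244227) (.leaf 17698887))) (.node 1 (.leaf 16918601) (.node 1 (.leaf 16998475) (.leaf 17717337))))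
(.node 3 (.node 1 (.leaf 17506373) (.node 1 (.leaf 17440853) (.leaf 16916575))) (.node 1 (.leaf 17463387) (.node 1 (.leaf 17522771) (.leaf 17567837)))))
(.node 6 (.node 3 (.node 1 (.leaf 17043551) (.node 1 (.leaf 16922689) (.leaf 17633353))) (.node 1 (.leaf 17127489) (.node 1 (.leaf 17240147) (.leaf 17659983))))
(.node 3 (.node 1 (.leaf 17721431) (.node 1 (.leaf 17193053) (.leaf 17715273))) (.node 1 (.leaf 17246275) (.node 1 (.leaf 17191007) (.leaf 17258573))))))
(.node 12 (.node 6 (.node 3 (.node 1 (.leaf 17242195) (.node 1 (.leaf 17764439) (.leaf 17700935))) (.node 1 (.leaf 17786969) (.node 1 (.leaf 17444943) (.leaf 17111117))))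
(.node 3 (.node 1 (.leaf 17459265) (.node 1 (.leaf 16984143) (.leaf 17526857))) (.node 1 (.leaf 17635403) (.node 1 (.leaf 17633359) (.leaf 17782859)))))
(.node 6 (.node 3 (.node 1 (.leaf 17117273) (.node 1 (.leaf 17178691) (.leaf 17698901))) (.node 1 (.leaf 17176659) (.node 1 (.leaf 17784917) (.leaf 17174617))))
(.node 3 (.node 1 (.leaf 17119297) (.node 1 (.leaf 17584217) (.leaf 17592389))) (.node 1 (.leaf 17258583) (.node 1 (.leaf 17000543) (.leaf 17117265)))))))))
(.node 96 (.node 48 (.node 24 (.node 12 (.node 6 (.node 3 (.node 1 (.leaf 17262659) (.node 1 (.leaf 16934991) (.leaf 16986193))) (.node 1 (.leaf 17719373) (.node 1 (.leaf 16984137) (.leaf 17594453))))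
(.node 3 (.node 1 (.leaf 17447007) (.node 1 (.leaf 17569857) (.leaf 17002567))) (.node 1 (.leaf 16916563) (.node 1 (.leaf 17649747) (.leaf 17508439)))))
(.node 6 (.node 3 (.node 1 (.leaf 17190987) (.node 1 (.leaf 17635411) (.leaf 17061957))) (.node 1 (.leaf 17659993) (.node 1 (.leaf 17061965) (.leaf 17068127))))
(.node 3 (.node 1 (.leaf 17262661) (.node 1 (.leaf 17719371) (.leaf 17592385))) (.node 1 (.leaf 17641547) (.node 1 (.leaf 17592387) (.leaf 17463381))))))
(.node 12 (.node 6 (.node 3 (.node 1 (.leaf 17457247) (.node 1 (.leaf 16998489) (.leaf 17584211))) (.node 1 (.leaf 16916557) (.node 1 (.leaf 17125463) (.leaf 16982109))))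
(.node 3 (.node 1 (.leaf 17457241) (.node 1 (.leaf 17246283) (.leaf 17633369))) (.node 1 (.leaf 16920667) (.node 1 (.leaf 17111135) (.leaf 17784925)))))
(.node 6 (.node 3 (.node 1 (.leaf 17569865) (.node 1 (.leaf 17459283) (.leaf 17174607))) (.node 1 (.leaf 17594439) (.node 1 (.leaf 17633351) (.leaf 17770569))))
(.node 3 (.node 1 (.leaf 16984155) (.node 1 (.leaf 17002563) (.leaf 17442897))) (.node 1 (.leaf 16988237) (.node 1 (.leaf 17260617) (.leaf 17180749)))))))
(.node 24 (.node 12 (.node 6 (.node 3 (.node 1 (.leaf 17256543) (.node 1 (.leaf 17068097) (.leaf 17717321))) (.node 1 (.leaf 17197135) (.node 1 (.leaf 17461325) (.leaf 16986199))))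
(.node 3 (.node 1 (.leaf 17459287) (.node 1 (.leaf 16935005) (.leaf 17719381))) (.node 1 (.leaf 17510467) (.node 1 (.leaf 16920645) (.leaf 17659999)))))
(.node 6 (.node 3 (.node 1 (.leaf 17510475) (.node 1 (.leaf 16937027) (.leaf 17651787))) (.node 1 (.leaf 17070163) (.node 1 (.leaf 17715291) (.leaf 17633357))))
(.node 3 (.node 1 (.leaf 17782857) (.node 1 (.leaf 17070145) (.leaf 17657935))) (.node 1 (.leaf 17594463) (.node 1 (.leaf 17191005) (.leaf 17786945))))))
(.node 12 (.node 6 (.node 3 (.node 1 (.leaf 17715289) (.node 1 (.leaf 17045579) (.leaf 16939089))) (.node 1 (.leaf 17135681) (.node 1 (.leaf 17592397) (.leaf 17002589))))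
(.node 3 (.node 1 (.leaf 17651799) (.node 1 (.leaf 17576007) (.leaf 17176657))) (.node 1 (.leaf 17240131) (.node 1 (.leaf 17059907) (.leaf 17526863)))))
(.node 6 (.node 3 (.node 1 (.leaf 17657949) (.node 1 (.leaf 16988231) (.leaf 17053785))) (.node 1 (.leaf 17698897) (.node 1 (.leaf 16982085) (.leaf 17262677))))
(.node 3 (.node 1 (.leaf 17000513) (.node 1 (.leaf 17643607) (.leaf 17240129))) (.node 1 (.leaf 17522761) (.node 1 (.leaf 17643589) (.leaf 17051739))))))))
(.node 48 (.node 24 (.node 12 (.node 6 (.node 3 (.node 1 (.leaf 16918607) (.node 1 (.leaf 17764437) (.leaf 17592415))) (.node 1 (.leaf 17135699) (.node 1 (.leaf 17180741) (.leaf 17193037))))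
(.node 3 (.node 1 (.leaf 17045577) (.node 1 (.leaf 17651797) (.leaf 17051723))) (.node 1 (.leaf 17195083) (.node 1 (.leaf 17135697) (.leaf 17442885)))))
(.node 6 (.node 3 (.node 1 (.leaf 17643605) (.node 1 (.leaf 17522753) (.leaf 17592413))) (.node 1 (.leaf 17705029) (.node 1 (.leaf 17528915) (.leaf 17133633))))
(.node 3 (.node 1 (.leaf 17000537) (.node 1 (.leaf 17053771) (.leaf 17698903))) (.node 1 (.leaf 17260633) (.node 1 (.leaf 17447001) (.leaf 17004625))))))
(.node 12 (.node 6 (.node 3 (.node 1 (.leaf 17059909) (.node 1 (.leaf 17133649) (.leaf 17244245))) (.node 1 (.leaf 17576021) (.node 1 (.leaf 17053769) (.leaf 17002565))))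
(.node 3 (.node 1 (.leaf 17125459) (.node 1 (.leaf 17705043) (.leaf 17508419))) (.node 1 (.leaf 17461321) (.node 1 (.leaf 17004631) (.leaf 16937055)))))
(.node 6 (.node 3 (.node 1 (.leaf 17717327) (.node 1 (.leaf 17463379) (.leaf 17768543))) (.node 1 (.leaf 17719379) (.node 1 (.leaf 17260635) (.leaf 16986181))))
(.node 3 (.node 1 (.leaf 16937041) (.node 1 (.leaf 17641561) (.leaf 17659977))) (.node 1 (.leaf 17174601) (.node 1 (.leaf 16922705) (.leaf 17444935)))))))
(.node 24 (.node 12 (.node 6 (.node 3 (.node 1 (.leaf 17457233) (.node 1 (.leaf 17002581) (.leaf 16984159))) (.node 1 (.leaf 17522769) (.node 1 (.leaf 17447003) (.leaf 17586259))))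
(.node 3 (.node 1 (.leaf 17440855) (.node 1 (.leaf 17459267) (.leaf 17127495))) (.node 1 (.leaf 16984141) (.node 1 (.leaf 16932953) (.leaf 16916559)))))
(.node 6 (.node 3 (.node 1 (.leaf 17522755) (.node 1 (.leaf 17442887) (.leaf 17526877))) (.node 1 (.leaf 16998491) (.node 1 (.leaf 17440837) (.leaf 17524803))))
(.node 3 (.node 1 (.leaf 16982087) (.node 1 (.leaf 17258565) (.leaf 17109077))) (.node 1 (.leaf 17446985) (.node 1 (.leaf 16932939) (.leaf 17242193))))))
(.node 12 (.node 6 (.node 3 (.node 1 (.leaf 16932937) (.node 1 (.leaf 17524801) (.leaf 16920659))) (.node 1 (.leaf 17109061) (.node 1 (.leaf 17459281) (.leaf 16984157))))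
(.node 3 (.node 1 (.leaf 17528921) (.node 1 (.leaf 17764421) (.leaf 17190989))) (.node 1 (.leaf 17440839) (.node 1 (.leaf 16920661) (.leaf 17176641)))))
(.node 6 (.node 3 (.node 1 (.leaf 17782873) (.node 1 (.leaf 16922691) (.leaf 16916573))) (.node 1 (.leaf 17004611) (.node 1 (.leaf 16998473) (.leaf 17524817))))
(.node 3 (.node 1 (.leaf 17442901) (.node 1 (.leaf 17586243) (.leaf 17244243))) (.node 1 (.leaf 17463365) (.node 1 (.leaf 17051721) (.leaf 17133651))))))))))))

/-- An automorphism. -/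
def oneFwd3 : Tab ℕ :=
(.node 768 (.node 384 (.node 192 (.node 96 (.node 48 (.node 24 (.node 12 (.node 6 (.node 3 (.node 1 (.leaf 17043521) (.node 1 (.leaf 17461329) (.leaf 17109067))) (.node 1 (.leaf 16984131) (.node 1 (.leaf 17195073) (.leaf 17463387))))
(.node 3 (.node 1 (.leaf 17657939) (.node 1 (.leaf 17526855) (.leaf 17043523))) (.node 1 (.leaf 16918599) (.node 1 (.leaf 17782867) (.leaf 16982089)))))
(.node 6 (.node 3 (.node 1 (.leaf 17043537) (.node 1 (.leaf 17262667) (.leaf 17193027))) (.node 1 (.leaf 17197143) (.node 1 (.leaf 17461331) (.leaf 17659991))))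
(.node 3 (.node 1 (.leaf 16998467) (.node 1 (.leaf 17594457) (.leaf 17260623))) (.node 1 (.leaf 17528909) (.node 1 (.leaf 17592395) (.leaf 17109065))))))
(.node 12 (.node 6 (.node 3 (.node 1 (.leaf 16984129) (.node 1 (.leaf 17717327) (.leaf 16916557))) (.node 1 (.leaf 17643587) (.node 1 (.leaf 17717337) (.leaf 17784913))))
(.node 3 (.node 1 (.leaf 17780805) (.node 1 (.leaf 17045573) (.leaf 17461313))) (.node 1 (.leaf 17109083) (.node 1 (.leaf 16984147) (.leaf 17111111)))))
(.node 6 (.node 3 (.node 1 (.leaf 17195075) (.node 1 (.leaf 17256519) (.leaf 17053779))) (.node 1 (.leaf 17258569) (.node 1 (.leaf 17045599) (.leaf 17260637))))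
(.node 3 (.node 1 (.leaf 17191003) (.node 1 (.leaf 17463385) (.leaf 17657937))) (.node 1 (.leaf 17000543) (.node 1 (.leaf 17592413) (.leaf 17764435)))))))
(.node 24 (.node 12 (.node 6 (.node 3 (.node 1 (.leaf 17000521) (.node 1 (.leaf 17061953) (.leaf 16934997))) (.node 1 (.leaf 17528917) (.node 1 (.leaf 17197127) (.leaf 17258573))))
(.node 3 (.node 1 (.leaf 17262681) (.node 1 (.leaf 17526853) (.leaf 17594447))) (.node 1 (.leaf 16932935) (.node 1 (.leaf 17659971) (.leaf 16918597)))))
(.node 6 (.node 3 (.node 1 (.leaf 17782865) (.node 1 (.leaf 16982091) (.leaf 17578075))) (.node 1 (.leaf 17782855) (.node 1 (.leaf 17719373) (.leaf 17715289))))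
(.node 3 (.node 1 (.leaf 17111119) (.node 1 (.leaf 17576009) (.leaf 17446977))) (.node 1 (.leaf 17578069) (.node 1 (.leaf 17719381) (.leaf 17633345))))))
(.node 12 (.node 6 (.node 3 (.node 1 (.leaf 17721435) (.node 1 (.leaf 17641549) (.leaf 17715279))) (.node 1 (.leaf 17786953) (.node 1 (.leaf 17463373) (.leaf 17195089))))
(.node 3 (.node 1 (.leaf 17463371) (.node 1 (.leaf 17657923) (.leaf 17526871))) (.node 1 (.leaf 17043539) (.node 1 (.leaf 16918615) (.leaf 17782851)))))
(.node 6 (.node 3 (.node 1 (.leaf 16982105) (.node 1 (.leaf 17528911) (.leaf 17045581))) (.node 1 (.leaf 16916555) (.node 1 (.leaf 17262665) (.leaf 17193025))))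
(.node 3 (.node 1 (.leaf 17117263) (.node 1 (.leaf 17190989) (.leaf 17442883))) (.node 1 (.leaf 17117273) (.node 1 (.leaf 16988241) (.leaf 17119301))))))))
(.node 48 (.node 24 (.node 12 (.node 6 (.node 3 (.node 1 (.leaf 17260613) (.node 1 (.leaf 17111127) (.leaf 16982109))) (.node 1 (.leaf 17197141) (.node 1 (.leaf 17258591) (.leaf 17051735))))
(.node 3 (.node 1 (.leaf 17256531) (.node 1 (.leaf 17659989) (.leaf 16998465))) (.node 1 (.leaf 17594459) (.node 1 (.leaf 17766475) (.leaf 16998487)))))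
(.node 6 (.node 3 (.node 1 (.leaf 17059933) (.node 1 (.leaf 16932937) (.leaf 17526879))) (.node 1 (.leaf 17698905) (.node 1 (.leaf 17770577) (.leaf 17766469))))
(.node 3 (.node 1 (.leaf 17059909) (.node 1 (.leaf 17446993) (.leaf 17127499))) (.node 1 (.leaf 17700957) (.node 1 (.leaf 16932959) (.leaf 17125465))))))
(.node 12 (.node 6 (.node 3 (.node 1 (.leaf 17262685) (.node 1 (.leaf 17045583) (.leaf 17260621))) (.node 1 (.leaf 17190987) (.node 1 (.leaf 17119321) (.leaf 17193029))))
(.node 3 (.node 1 (.leaf 17111125) (.node 1 (.leaf 17256533) (.leaf 17592393))) (.node 1 (.leaf 16935003) (.node 1 (.leaf 17657927) (.leaf 17698895)))))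
(.node 6 (.node 3 (.node 1 (.leaf 16934989) (.node 1 (.leaf 17000531) (.leaf 17463361))) (.node 1 (.leaf 17717325) (.node 1 (.leaf 16916559) (.leaf 17643585))))
(.node 3 (.node 1 (.leaf 17717339) (.node 1 (.leaf 17784915) (.leaf 17780807))) (.node 1 (.leaf 17045575) (.node 1 (.leaf 17641555) (.leaf 17512535)))))))
(.node 24 (.node 12 (.node 6 (.node 3 (.node 1 (.leaf 17643599) (.node 1 (.leaf 17784907) (.leaf 17567833))) (.node 1 (.leaf 17786949) (.node 1 (.leaf 17576021) (.leaf 17780817))))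
(.node 3 (.node 1 (.leaf 17721429) (.node 1 (.leaf 17528923) (.leaf 16916549))) (.node 1 (.leaf 17510469) (.node 1 (.leaf 17180753) (.leaf 17444939)))))
(.node 6 (.node 3 (.node 1 (.leaf 16918621) (.node 1 (.leaf 17641567) (.leaf 17512537))) (.node 1 (.leaf 17567837) (.node 1 (.leaf 17786975) (.leaf 17002577))))
(.node 3 (.node 1 (.leaf 17567819) (.node 1 (.leaf 17569879) (.leaf 17715287))) (.node 1 (.leaf 17578053) (.node 1 (.leaf 17444943) (.leaf 17576027))))))
(.node 12 (.node 6 (.node 3 (.node 1 (.leaf 17721421) (.node 1 (.leaf 17635397) (.leaf 17719361))) (.node 1 (.leaf 17197145) (.node 1 (.leaf 17461317) (.leaf 17659983))))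
(.node 3 (.node 1 (.leaf 17262683) (.node 1 (.leaf 17193043) (.leaf 17461315))) (.node 1 (.leaf 17659975) (.node 1 (.leaf 16998483) (.leaf 17594441)))))
(.node 6 (.node 3 (.node 1 (.leaf 17260639) (.node 1 (.leaf 17528925) (.leaf 17592411))) (.node 1 (.leaf 17109081) (.node 1 (.leaf 16984145) (.leaf 17717343))))
(.node 3 (.node 1 (.leaf 16916573) (.node 1 (.leaf 17643603) (.leaf 17717321))) (.node 1 (.leaf 17784897) (.node 1 (.leaf 17780821) (.leaf 17045589)))))))))
(.node 96 (.node 48 (.node 24 (.node 12 (.node 6 (.node 3 (.node 1 (.leaf 17594445) (.node 1 (.leaf 17111109) (.leaf 16982095))) (.node 1 (.leaf 17715271) (.node 1 (.leaf 16918595) (.leaf 17256517))))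
(.node 3 (.node 1 (.leaf 17053777) (.node 1 (.leaf 17258571) (.leaf 17506395))) (.node 1 (.leaf 17053767) (.node 1 (.leaf 16920653) (.leaf 17051737)))))
(.node 6 (.node 3 (.node 1 (.leaf 17197135) (.node 1 (.leaf 17440841) (.leaf 17506389))) (.node 1 (.leaf 16920661) (.node 1 (.leaf 17770561) (.leaf 16986203))))
(.node 3 (.node 1 (.leaf 17508429) (.node 1 (.leaf 17051727) (.leaf 16922697))) (.node 1 (.leaf 17109069) (.node 1 (.leaf 17528927) (.leaf 17045597))))))
(.node 12 (.node 6 (.node 3 (.node 1 (.leaf 16916571) (.node 1 (.leaf 17780809) (.leaf 16984149))) (.node 1 (.leaf 17191001) (.node 1 (.leaf 17119307) (.leaf 17193047))))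
(.node 3 (.node 1 (.leaf 17440863) (.node 1 (.leaf 17119325) (.leaf 17117251))) (.node 1 (.leaf 17262673) (.node 1 (.leaf 17000541) (.leaf 17592415)))))
(.node 6 (.node 3 (.node 1 (.leaf 17764433) (.node 1 (.leaf 17000523) (.leaf 17061955))) (.node 1 (.leaf 16934999) (.node 1 (.leaf 17528919) (.leaf 17700931))))
(.node 3 (.node 1 (.leaf 17768519) (.node 1 (.leaf 17764447) (.leaf 17061979))) (.node 1 (.leaf 17444937) (.node 1 (.leaf 17125461) (.leaf 17698885)))))))
(.node 24 (.node 12 (.node 6 (.node 3 (.node 1 (.leaf 16934977) (.node 1 (.leaf 17127493) (.leaf 17260619))) (.node 1 (.leaf 17592405) (.node 1 (.leaf 17705045) (.leaf 17651777))))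
(.node 3 (.node 1 (.leaf 17703003) (.node 1 (.leaf 17659981) (.leaf 17700943))) (.node 1 (.leaf 17768521) (.node 1 (.leaf 17444941) (.leaf 17125455)))))
(.node 6 (.node 3 (.node 1 (.leaf 17180737) (.node 1 (.leaf 17444955) (.leaf 17512519))) (.node 1 (.leaf 17766485) (.node 1 (.leaf 17703007) (.leaf 17698891))))
(.node 3 (.node 1 (.leaf 17127517) (.node 1 (.leaf 17510485) (.leaf 17059921))) (.node 1 (.leaf 17111113) (.node 1 (.leaf 17195093) (.leaf 17256543))))))
(.node 12 (.node 6 (.node 3 (.node 1 (.leaf 16982093) (.node 1 (.leaf 17197125) (.leaf 17258575))) (.node 1 (.leaf 17051719) (.node 1 (.leaf 17256515) (.leaf 17508437))))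
(.node 3 (.node 1 (.leaf 17051729) (.node 1 (.leaf 16922709) (.leaf 17053773))) (.node 1 (.leaf 17195081) (.node 1 (.leaf 16916569) (.leaf 17117277)))))
(.node 6 (.node 3 (.node 1 (.leaf 17191007) (.node 1 (.leaf 16932933) (.leaf 17659969))) (.node 1 (.leaf 17700951) (.node 1 (.leaf 16932947) (.leaf 17125463))))
(.node 3 (.node 1 (.leaf 16998479) (.node 1 (.leaf 17461323) (.leaf 17764423))) (.node 1 (.leaf 17705037) (.node 1 (.leaf 17700953) (.leaf 17766467))))))))
(.node 48 (.node 24 (.node 12 (.node 6 (.node 3 (.node 1 (.leaf 16998489) (.node 1 (.leaf 17197137) (.leaf 17578073))) (.node 1 (.leaf 17782853) (.node 1 (.leaf 17719375) (.leaf 17715291))))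
(.node 3 (.node 1 (.leaf 17111117) (.node 1 (.leaf 17576011) (.leaf 17446979))) (.node 1 (.leaf 17578071) (.node 1 (.leaf 17719383) (.leaf 17633347)))))
(.node 6 (.node 3 (.node 1 (.leaf 17721433) (.node 1 (.leaf 17641551) (.leaf 17715277))) (.node 1 (.leaf 17786955) (.node 1 (.leaf 17463375) (.leaf 16982083))))
(.node 3 (.node 1 (.leaf 17444945) (.node 1 (.leaf 17246303) (.leaf 17510493))) (.node 1 (.leaf 16984155) (.node 1 (.leaf 17576007) (.leaf 17446989))))))
(.node 12 (.node 6 (.node 3 (.node 1 (.leaf 17633351) (.node 1 (.leaf 17721411) (.leaf 16937045))) (.node 1 (.leaf 17633361) (.node 1 (.leaf 17635405) (.leaf 17643615))))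
(.node 3 (.node 1 (.leaf 17510489) (.node 1 (.leaf 17641537) (.leaf 17786963))) (.node 1 (.leaf 17569885) (.node 1 (.leaf 17784927) (.leaf 17262679)))))
(.node 6 (.node 3 (.node 1 (.leaf 17526867) (.node 1 (.leaf 17594455) (.leaf 16918607))) (.node 1 (.leaf 17244237) (.node 1 (.leaf 17512527) (.leaf 17244251))))
(.node 3 (.node 1 (.leaf 17174611) (.node 1 (.leaf 17178695) (.leaf 17641543))) (.node 1 (.leaf 16916565) (.node 1 (.leaf 17109087) (.leaf 17444957)))))))
(.node 24 (.node 12 (.node 6 (.node 3 (.node 1 (.leaf 17246293) (.node 1 (.leaf 17510481) (.leaf 16937033))) (.node 1 (.leaf 17633365) (.node 1 (.leaf 17508447) (.leaf 17635403))))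
(.node 3 (.node 1 (.leaf 17780829) (.node 1 (.leaf 17004635) (.leaf 17068115))) (.node 1 (.leaf 16937031) (.node 1 (.leaf 17508423) (.leaf 16939103)))))
(.node 6 (.node 3 (.node 1 (.leaf 17635421) (.node 1 (.leaf 17576031) (.leaf 16918605))) (.node 1 (.leaf 17512521) (.node 1 (.leaf 17178715) (.leaf 17446983))))
(.node 3 (.node 1 (.leaf 16916567) (.node 1 (.leaf 17510487) (.leaf 17569881))) (.node 1 (.leaf 17784901) (.node 1 (.leaf 17004621) (.leaf 17569871))))))
(.node 12 (.node 6 (.node 3 (.node 1 (.leaf 17567825) (.node 1 (.leaf 17717315) (.leaf 17260625))) (.node 1 (.leaf 17190997) (.node 1 (.leaf 17195085) (.leaf 17657929))))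
(.node 3 (.node 1 (.leaf 17000539) (.node 1 (.leaf 17592391) (.leaf 17195091))) (.node 1 (.leaf 17256535) (.node 1 (.leaf 17053763) (.leaf 17258585)))))
(.node 6 (.node 3 (.node 1 (.leaf 17463369) (.node 1 (.leaf 17657921) (.leaf 17000527))) (.node 1 (.leaf 17592397) (.node 1 (.leaf 17764419) (.leaf 17000537))))
(.node 3 (.node 1 (.leaf 17061969) (.node 1 (.leaf 16934981) (.leaf 17528901))) (.node 1 (.leaf 17258589) (.node 1 (.leaf 17526869) (.leaf 17594463))))))))))
(.node 192 (.node 96 (.node 48 (.node 24 (.node 12 (.node 6 (.node 3 (.node 1 (.leaf 16932951) (.node 1 (.leaf 17659987) (.leaf 16918613))) (.node 1 (.leaf 17782849) (.node 1 (.leaf 16982107) (.leaf 17578059))))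
(.node 3 (.node 1 (.leaf 17782871) (.node 1 (.leaf 17719389) (.leaf 17715273))) (.node 1 (.leaf 17111135) (.node 1 (.leaf 17576025) (.leaf 17719365)))))
(.node 6 (.node 3 (.node 1 (.leaf 17721419) (.node 1 (.leaf 17641565) (.leaf 17715295))) (.node 1 (.leaf 17786969) (.node 1 (.leaf 17463389) (.leaf 16935001))))
(.node 3 (.node 1 (.leaf 17657925) (.node 1 (.leaf 16916553) (.leaf 17780827))) (.node 1 (.leaf 16984135) (.node 1 (.leaf 17576015) (.leaf 17780813))))))
(.node 12 (.node 6 (.node 3 (.node 1 (.leaf 17717331) (.node 1 (.leaf 17109057) (.leaf 17117261))) (.node 1 (.leaf 17190991) (.node 1 (.leaf 17442881) (.leaf 17117275))))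
(.node 3 (.node 1 (.leaf 16988243) (.node 1 (.leaf 17119303) (.leaf 17260615))) (.node 1 (.leaf 17508435) (.node 1 (.leaf 17442895) (.leaf 16988235)))))
(.node 6 (.node 3 (.node 1 (.leaf 17703001) (.node 1 (.leaf 16922693) (.leaf 17440853))) (.node 1 (.leaf 17119313) (.node 1 (.leaf 16986197) (.leaf 17045595))))
(.node 3 (.node 1 (.leaf 17190981) (.node 1 (.leaf 17256541) (.leaf 17703005))) (.node 1 (.leaf 16922719) (.node 1 (.leaf 17651793) (.leaf 17702987)))))))
(.node 24 (.node 12 (.node 6 (.node 3 (.node 1 (.leaf 17768535) (.node 1 (.leaf 17506373) (.leaf 17567823))) (.node 1 (.leaf 17440859) (.node 1 (.leaf 16986189) (.leaf 17705029))))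
(.node 3 (.node 1 (.leaf 16920641) (.node 1 (.leaf 17526873) (.leaf 17043525))) (.node 1 (.leaf 17594461) (.node 1 (.leaf 16982111) (.leaf 16918611)))))
(.node 6 (.node 3 (.node 1 (.leaf 17641541) (.node 1 (.leaf 17715265) (.leaf 17782877))) (.node 1 (.leaf 17043545) (.node 1 (.leaf 17051733) (.leaf 17256529))))
(.node 3 (.node 1 (.leaf 17051715) (.node 1 (.leaf 16922695) (.leaf 17053791))) (.node 1 (.leaf 17195099) (.node 1 (.leaf 17442903) (.leaf 17508425))))))
(.node 12 (.node 6 (.node 3 (.node 1 (.leaf 17506387) (.node 1 (.leaf 17053769) (.leaf 17111105))) (.node 1 (.leaf 17766473) (.node 1 (.leaf 16998485) (.leaf 17059935))))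
(.node 3 (.node 1 (.leaf 16932939) (.node 1 (.leaf 17526877) (.leaf 17698907))) (.node 1 (.leaf 17770579) (.node 1 (.leaf 17766471) (.leaf 17059911)))))
(.node 6 (.node 3 (.node 1 (.leaf 17446995) (.node 1 (.leaf 17127497) (.leaf 17700959))) (.node 1 (.leaf 16932957) (.node 1 (.leaf 17125467) (.leaf 17262687))))
(.node 3 (.node 1 (.leaf 17594451) (.node 1 (.leaf 17702977) (.leaf 17649743))) (.node 1 (.leaf 17657931) (.node 1 (.leaf 17698903) (.leaf 17770589))))))))
(.node 48 (.node 24 (.node 12 (.node 6 (.node 3 (.node 1 (.leaf 17446999) (.node 1 (.leaf 17127507) (.leaf 17178693))) (.node 1 (.leaf 17764431) (.node 1 (.leaf 17705033) (.leaf 17700945))))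
(.node 3 (.node 1 (.leaf 17125443) (.node 1 (.leaf 17512525) (.leaf 17061967))) (.node 1 (.leaf 17109063) (.node 1 (.leaf 17197123) (.leaf 17258567)))))
(.node 6 (.node 3 (.node 1 (.leaf 17659999) (.node 1 (.leaf 17586269) (.leaf 17768543))) (.node 1 (.leaf 17586251) (.node 1 (.leaf 17457219) (.leaf 17584215))))
(.node 3 (.node 1 (.leaf 17592389) (.node 1 (.leaf 17702989) (.leaf 17649733))) (.node 1 (.leaf 17705025) (.node 1 (.leaf 17178713) (.leaf 17446981))))))
(.node 12 (.node 6 (.node 3 (.node 1 (.leaf 17510491) (.node 1 (.leaf 17244235) (.leaf 17174595))) (.node 1 (.leaf 17178711) (.node 1 (.leaf 17641559) (.leaf 17246287))))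
(.node 3 (.node 1 (.leaf 17510477) (.node 1 (.leaf 17659997) (.leaf 17768537))) (.node 1 (.leaf 17584203) (.node 1 (.leaf 17770583) (.leaf 17705031)))))
(.node 6 (.node 3 (.node 1 (.leaf 17061973) (.node 1 (.leaf 17244253) (.leaf 17512543))) (.node 1 (.leaf 17444929) (.node 1 (.leaf 17045569) (.leaf 17043549))))
(.node 3 (.node 1 (.leaf 17193049) (.node 1 (.leaf 17117259) (.leaf 17190999))) (.node 1 (.leaf 17780825) (.node 1 (.leaf 16984133) (.leaf 17190985)))))))
(.node 24 (.node 12 (.node 6 (.node 3 (.node 1 (.leaf 17119323) (.node 1 (.leaf 17193031) (.leaf 17440847))) (.node 1 (.leaf 17119309) (.node 1 (.leaf 16986187) (.leaf 17117267))))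
(.node 3 (.node 1 (.leaf 17262657) (.node 1 (.leaf 17506399) (.leaf 17440833))) (.node 1 (.leaf 16986195) (.node 1 (.leaf 17705053) (.leaf 16920671)))))
(.node 6 (.node 3 (.node 1 (.leaf 17442905) (.node 1 (.leaf 17117253) (.leaf 16988239))) (.node 1 (.leaf 17715285) (.node 1 (.leaf 16918609) (.leaf 17506377))))
(.node 3 (.node 1 (.leaf 17053781) (.node 1 (.leaf 17051723) (.leaf 17197149))) (.node 1 (.leaf 17698893) (.node 1 (.leaf 16934991) (.leaf 17000529))))))
(.node 12 (.node 6 (.node 3 (.node 1 (.leaf 17463363) (.node 1 (.leaf 17766493) (.leaf 17698883))) (.node 1 (.leaf 17127505) (.node 1 (.leaf 17510495) (.leaf 17764443))))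
(.node 3 (.node 1 (.leaf 17000519) (.node 1 (.leaf 17061965) (.leaf 17195079))) (.node 1 (.leaf 17657935) (.node 1 (.leaf 17770571) (.leaf 17586265)))))
(.node 6 (.node 3 (.node 1 (.leaf 17768517) (.node 1 (.leaf 17594453) (.leaf 17766481))) (.node 1 (.leaf 17702997) (.node 1 (.leaf 17700937) (.leaf 17768513))))
(.node 3 (.node 1 (.leaf 17764437) (.node 1 (.leaf 17260635) (.leaf 17190995))) (.node 1 (.leaf 17641553) (.node 1 (.leaf 17512533) (.leaf 17643597)))))))))
(.node 96 (.node 48 (.node 24 (.node 12 (.node 6 (.node 3 (.node 1 (.leaf 17784905) (.node 1 (.leaf 17567835) (.leaf 17786951))) (.node 1 (.leaf 17576023) (.node 1 (.leaf 17780819) (.leaf 17721431))))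
(.node 3 (.node 1 (.leaf 17528921) (.node 1 (.leaf 16916551) (.leaf 17510471))) (.node 1 (.leaf 17180755) (.node 1 (.leaf 16918623) (.leaf 17512539)))))
(.node 6 (.node 3 (.node 1 (.leaf 17567839) (.node 1 (.leaf 17786973) (.leaf 17002579))) (.node 1 (.leaf 17567817) (.node 1 (.leaf 17569877) (.leaf 17578055))))
(.node 3 (.node 1 (.leaf 17721423) (.node 1 (.leaf 17635399) (.leaf 17719363))) (.node 1 (.leaf 17197147) (.node 1 (.leaf 17461319) (.leaf 16984137))))))
(.node 12 (.node 6 (.node 3 (.node 1 (.leaf 17178689) (.node 1 (.leaf 17447003) (.leaf 17240157))) (.node 1 (.leaf 17244233) (.node 1 (.leaf 16982099) (.leaf 17043543))))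
(.node 3 (.node 1 (.leaf 17510475) (.node 1 (.leaf 17180761) (.leaf 17444933))) (.node 1 (.leaf 17002575) (.node 1 (.leaf 17567821) (.leaf 17442891)))))
(.node 6 (.node 3 (.node 1 (.leaf 17569875) (.node 1 (.leaf 17133657) (.leaf 17002561))) (.node 1 (.leaf 17442899) (.node 1 (.leaf 17004633) (.leaf 17569861))))
(.node 3 (.node 1 (.leaf 16984139) (.node 1 (.leaf 17447005) (.leaf 17244245))) (.node 1 (.leaf 17512529) (.node 1 (.leaf 16982097) (.leaf 17444931)))))))
(.node 24 (.node 12 (.node 6 (.node 3 (.node 1 (.leaf 17635395) (.node 1 (.leaf 17719385) (.leaf 16939081))) (.node 1 (.leaf 17635413) (.node 1 (.leaf 17633355) (.leaf 17195101))))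
(.node 3 (.node 1 (.leaf 17256539) (.node 1 (.leaf 17260611) (.leaf 17592401))) (.node 1 (.leaf 16935007) (.node 1 (.leaf 17657949) (.leaf 17180741)))))
(.node 6 (.node 3 (.node 1 (.leaf 17242191) (.node 1 (.leaf 17246299) (.leaf 17578061))) (.node 1 (.leaf 17242199) (.node 1 (.leaf 17068099) (.leaf 17240153))))
(.node 3 (.node 1 (.leaf 17059919) (.node 1 (.leaf 17246285) (.leaf 17176651))) (.node 1 (.leaf 17715293) (.node 1 (.leaf 17111129) (.leaf 17526859))))))
(.node 12 (.node 6 (.node 3 (.node 1 (.leaf 17178697) (.node 1 (.leaf 17446997) (.leaf 17178719))) (.node 1 (.leaf 17244225) (.node 1 (.leaf 17576019) (.leaf 16939073))))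
(.node 3 (.node 1 (.leaf 17133637) (.node 1 (.leaf 17002589) (.leaf 17506391))) (.node 1 (.leaf 17004615) (.node 1 (.leaf 17569859) (.leaf 17440839)))))
(.node 6 (.node 3 (.node 1 (.leaf 17641545) (.node 1 (.leaf 17786967) (.leaf 17070167))) (.node 1 (.leaf 17135705) (.node 1 (.leaf 16939085) (.leaf 17133643))))
(.node 3 (.node 1 (.leaf 17506381) (.node 1 (.leaf 16937047) (.leaf 17135709))) (.node 1 (.leaf 17004617) (.node 1 (.leaf 17643607) (.leaf 17109071))))))))
(.node 48 (.node 24 (.node 12 (.node 6 (.node 3 (.node 1 (.leaf 17246277) (.node 1 (.leaf 17510465) (.leaf 17059927))) (.node 1 (.leaf 17246291) (.node 1 (.leaf 17176663) (.leaf 17180751))))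
(.node 3 (.node 1 (.leaf 17643595) (.node 1 (.leaf 17111131) (.leaf 17244255))) (.node 1 (.leaf 17512541) (.node 1 (.leaf 16939093) (.leaf 17635409)))))
(.node 6 (.node 3 (.node 1 (.leaf 17633357) (.node 1 (.leaf 17782857) (.leaf 17002565))) (.node 1 (.leaf 17070159) (.node 1 (.leaf 16939099) (.leaf 16937025))))
(.node 3 (.node 1 (.leaf 17633371) (.node 1 (.leaf 17578067) (.leaf 17258579))) (.node 1 (.leaf 17051741) (.node 1 (.leaf 17262661) (.leaf 17193039))))))
(.node 12 (.node 6 (.node 3 (.node 1 (.leaf 16998469) (.node 1 (.leaf 17594433) (.leaf 17766487))) (.node 1 (.leaf 16932943) (.node 1 (.leaf 17193041) (.leaf 17117279))))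
(.node 3 (.node 1 (.leaf 17191005) (.node 1 (.leaf 17117257) (.leaf 16988225))) (.node 1 (.leaf 17119317) (.node 1 (.leaf 17260629) (.leaf 17659973)))))
(.node 6 (.node 3 (.node 1 (.leaf 16998481) (.node 1 (.leaf 17594443) (.leaf 17766491))) (.node 1 (.leaf 16998471) (.node 1 (.leaf 17059917) (.leaf 16932953))))
(.node 3 (.node 1 (.leaf 17526863) (.node 1 (.leaf 17698889) (.leaf 17059925))) (.node 1 (.leaf 17127515) (.node 1 (.leaf 17700941) (.leaf 17125449)))))))
(.node 24 (.node 12 (.node 6 (.node 3 (.node 1 (.leaf 17262669) (.node 1 (.leaf 17119305) (.leaf 17193045))) (.node 1 (.leaf 17592409) (.node 1 (.leaf 16934987) (.leaf 17657943))))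
(.node 3 (.node 1 (.leaf 17698911) (.node 1 (.leaf 16935005) (.leaf 17000515))) (.node 1 (.leaf 17463377) (.node 1 (.leaf 17717341) (.leaf 16916575)))))
(.node 6 (.node 3 (.node 1 (.leaf 17643601) (.node 1 (.leaf 17717323) (.leaf 17784899))) (.node 1 (.leaf 17780823) (.node 1 (.leaf 17045591) (.leaf 17641539))))
(.node 3 (.node 1 (.leaf 17784923) (.node 1 (.leaf 17786965) (.leaf 17576005))) (.node 1 (.leaf 17780801) (.node 1 (.leaf 17721413) (.leaf 17528907))))))
(.node 12 (.node 6 (.node 3 (.node 1 (.leaf 17786959) (.node 1 (.leaf 17569863) (.leaf 17444959))) (.node 1 (.leaf 17721437) (.node 1 (.leaf 17719377) (.leaf 17197129))))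
(.node 3 (.node 1 (.leaf 17461333) (.node 1 (.leaf 17700949) (.leaf 16932945))) (.node 1 (.leaf 16998477) (.node 1 (.leaf 17461321) (.leaf 17715269)))))
(.node 6 (.node 3 (.node 1 (.leaf 16918593) (.node 1 (.leaf 17715283) (.leaf 17782863))) (.node 1 (.leaf 17043531) (.node 1 (.leaf 17643591) (.leaf 17641561))))
(.node 3 (.node 1 (.leaf 17578051) (.node 1 (.leaf 17782873) (.leaf 17526865))) (.node 1 (.leaf 17506393) (.node 1 (.leaf 17053765) (.leaf 16920655)))))))))))
(.node 384 (.node 192 (.node 96 (.node 48 (.node 24 (.node 12 (.node 6 (.node 3 (.node 1 (.leaf 17051739) (.node 1 (.leaf 17197133) (.leaf 17440843))) (.node 1 (.leaf 16920663) (.node 1 (.leaf 17770563) (.leaf 16986201))))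
(.node 3 (.node 1 (.leaf 17508431) (.node 1 (.leaf 17051725) (.leaf 16922699))) (.node 1 (.leaf 17258563) (.node 1 (.leaf 17193051) (.leaf 17770567)))))
(.node 6 (.node 3 (.node 1 (.leaf 16986179) (.node 1 (.leaf 17584213) (.leaf 17442911))) (.node 1 (.leaf 17635417) (.node 1 (.leaf 17508417) (.leaf 16922707))))
(.node 3 (.node 1 (.leaf 17768541) (.node 1 (.leaf 16988255) (.leaf 17463383))) (.node 1 (.leaf 17111123) (.node 1 (.leaf 16982103) (.leaf 17256527))))))
(.node 12 (.node 6 (.node 3 (.node 1 (.leaf 17584201) (.node 1 (.leaf 17770581) (.leaf 17705035))) (.node 1 (.leaf 17586267) (.node 1 (.leaf 17457235) (.leaf 17584199))))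
(.node 3 (.node 1 (.leaf 17700935) (.node 1 (.leaf 17649759) (.leaf 17256525))) (.node 1 (.leaf 17569865) (.node 1 (.leaf 16937051) (.leaf 17635415)))))
(.node 6 (.node 3 (.node 1 (.leaf 16988229) (.node 1 (.leaf 17586253) (.leaf 17768527))) (.node 1 (.leaf 17702993) (.node 1 (.leaf 17528913) (.leaf 17461325))))
(.node 3 (.node 1 (.leaf 16934985) (.node 1 (.leaf 17657941) (.leaf 17780811))) (.node 1 (.leaf 16984151) (.node 1 (.leaf 17109073) (.leaf 17578063)))))))
(.node 24 (.node 12 (.node 6 (.node 3 (.node 1 (.leaf 17576017) (.node 1 (.leaf 17643593) (.leaf 17717333))) (.node 1 (.leaf 17440861) (.node 1 (.leaf 17119327) (.leaf 17117249))))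
(.node 3 (.node 1 (.leaf 17262675) (.node 1 (.leaf 17440851) (.leaf 16986177))) (.node 1 (.leaf 17705039) (.node 1 (.leaf 17117271) (.leaf 16988253)))))
(.node 6 (.node 3 (.node 1 (.leaf 17193055) (.node 1 (.leaf 17258565) (.leaf 17506369))) (.node 1 (.leaf 17567813) (.node 1 (.leaf 17508441) (.leaf 17569873))))
(.node 3 (.node 1 (.leaf 17442885) (.node 1 (.leaf 17045579) (.leaf 16916547))) (.node 1 (.leaf 17700929) (.node 1 (.leaf 17764445) (.leaf 17061977))))))
(.node 12 (.node 6 (.node 3 (.node 1 (.leaf 17698887) (.node 1 (.leaf 16934979) (.leaf 17127495))) (.node 1 (.leaf 17260617) (.node 1 (.leaf 17592407) (.leaf 17705047))))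
(.node 3 (.node 1 (.leaf 17651779) (.node 1 (.leaf 17768523) (.leaf 17125453))) (.node 1 (.leaf 17180739) (.node 1 (.leaf 17444953) (.leaf 17512517)))))
(.node 6 (.node 3 (.node 1 (.leaf 17127519) (.node 1 (.leaf 17059923) (.leaf 17111115))) (.node 1 (.leaf 17195095) (.node 1 (.leaf 17657945) (.leaf 17584209))))
(.node 3 (.node 1 (.leaf 17459277) (.node 1 (.leaf 17594435) (.leaf 17705051))) (.node 1 (.leaf 17651785) (.node 1 (.leaf 17180767) (.leaf 17643611))))))))
(.node 48 (.node 24 (.node 12 (.node 6 (.node 3 (.node 1 (.leaf 17512515) (.node 1 (.leaf 17176649) (.leaf 17657947))) (.node 1 (.leaf 17770573) (.node 1 (.leaf 17586245) (.leaf 17702995))))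
(.node 3 (.node 1 (.leaf 17510483) (.node 1 (.leaf 17059913) (.leaf 17246297))) (.node 1 (.leaf 17043533) (.node 1 (.leaf 16918603) (.leaf 17045587)))))
(.node 6 (.node 3 (.node 1 (.leaf 17190977) (.node 1 (.leaf 17119311) (.leaf 17193037))) (.node 1 (.leaf 17651797) (.node 1 (.leaf 17522783) (.leaf 17649739))))
(.node 3 (.node 1 (.leaf 17522759) (.node 1 (.leaf 17459273) (.leaf 17649757))) (.node 1 (.leaf 17524827) (.node 1 (.leaf 16932941) (.leaf 17526857))))))
(.node 12 (.node 6 (.node 3 (.node 1 (.leaf 17584217) (.node 1 (.leaf 17770565) (.leaf 17584207))) (.node 1 (.leaf 17586257) (.node 1 (.leaf 17246289) (.leaf 17176661))))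
(.node 3 (.node 1 (.leaf 17180749) (.node 1 (.leaf 17244247) (.leaf 17512531))) (.node 1 (.leaf 17125447) (.node 1 (.leaf 17242183) (.leaf 17240137)))))
(.node 6 (.node 3 (.node 1 (.leaf 17246301) (.node 1 (.leaf 17176667) (.leaf 17578077))) (.node 1 (.leaf 17240141) (.node 1 (.leaf 17244249) (.leaf 17463391))))
(.node 3 (.node 1 (.leaf 17649749) (.node 1 (.leaf 17705041) (.leaf 16920647))) (.node 1 (.leaf 17649731) (.node 1 (.leaf 17524807) (.leaf 17651807)))))))
(.node 24 (.node 12 (.node 6 (.node 3 (.node 1 (.leaf 17586255) (.node 1 (.leaf 17768525) (.leaf 17180757))) (.node 1 (.leaf 17242207) (.node 1 (.leaf 17246283) (.leaf 17178705))))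
(.node 3 (.node 1 (.leaf 17446987) (.node 1 (.leaf 17109077) (.leaf 16984159))) (.node 1 (.leaf 17258577) (.node 1 (.leaf 17506375) (.leaf 17051743)))))
(.node 6 (.node 3 (.node 1 (.leaf 17641557) (.node 1 (.leaf 17715281) (.leaf 17782861))) (.node 1 (.leaf 17043529) (.node 1 (.leaf 17051717) (.leaf 17256513))))
(.node 3 (.node 1 (.leaf 17508439) (.node 1 (.leaf 17051731) (.leaf 16922711))) (.node 1 (.leaf 17053775) (.node 1 (.leaf 17195083) (.leaf 17442887))))))
(.node 12 (.node 6 (.node 3 (.node 1 (.leaf 16922703) (.node 1 (.leaf 16988227) (.leaf 17506371))) (.node 1 (.leaf 17053785) (.node 1 (.leaf 16920657) (.leaf 17111121))))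
(.node 3 (.node 1 (.leaf 17256523) (.node 1 (.leaf 17190993) (.leaf 17768515))) (.node 1 (.leaf 16988249) (.node 1 (.leaf 17586249) (.leaf 17768533)))))
(.node 6 (.node 3 (.node 1 (.leaf 17440849) (.node 1 (.leaf 16920649) (.leaf 17770587))) (.node 1 (.leaf 16986183) (.node 1 (.leaf 17576029) (.leaf 17780831))))
(.node 3 (.node 1 (.leaf 17717313) (.node 1 (.leaf 17109075) (.leaf 17442909))) (.node 1 (.leaf 17119299) (.node 1 (.leaf 17045577) (.leaf 17764421)))))))))
(.node 96 (.node 48 (.node 24 (.node 12 (.node 6 (.node 3 (.node 1 (.leaf 17700955) (.node 1 (.leaf 17766465) (.leaf 16998491))) (.node 1 (.leaf 17197139) (.node 1 (.leaf 17659977) (.leaf 17592403))))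
(.node 3 (.node 1 (.leaf 17764425) (.node 1 (.leaf 17512513) (.leaf 17698899))) (.node 1 (.leaf 17766479) (.node 1 (.leaf 17059915) (.leaf 17447001)))))
(.node 6 (.node 3 (.node 1 (.leaf 17043535) (.node 1 (.leaf 17193035) (.leaf 17594439))) (.node 1 (.leaf 17651783) (.node 1 (.leaf 17702979) (.leaf 17522773))))
(.node 3 (.node 1 (.leaf 17649741) (.node 1 (.leaf 17657951) (.leaf 17768531))) (.node 1 (.leaf 17584221) (.node 1 (.leaf 17770591) (.leaf 17594437))))))
(.node 12 (.node 6 (.node 3 (.node 1 (.leaf 17702981) (.node 1 (.leaf 17649745) (.leaf 17770585))) (.node 1 (.leaf 17109079) (.node 1 (.leaf 17258583) (.leaf 17256537))))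
(.node 3 (.node 1 (.leaf 16982081) (.node 1 (.leaf 17444947) (.leaf 16984153))) (.node 1 (.leaf 17446991) (.node 1 (.leaf 17633349) (.leaf 17721409)))))
(.node 6 (.node 3 (.node 1 (.leaf 17633363) (.node 1 (.leaf 17635407) (.leaf 17643613))) (.node 1 (.leaf 17786961) (.node 1 (.leaf 17569887) (.leaf 17784925))))
(.node 3 (.node 1 (.leaf 17262677) (.node 1 (.leaf 17244239) (.leaf 17174609))) (.node 1 (.leaf 17109085) (.node 1 (.leaf 17246295) (.leaf 16937035)))))))
(.node 24 (.node 12 (.node 6 (.node 3 (.node 1 (.leaf 17633367) (.node 1 (.leaf 17508445) (.leaf 17635401))) (.node 1 (.leaf 17068113) (.node 1 (.leaf 16937029) (.leaf 17508421))))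
(.node 3 (.node 1 (.leaf 16939101) (.node 1 (.leaf 17635423) (.leaf 17512523))) (.node 1 (.leaf 17569883) (.node 1 (.leaf 17784903) (.leaf 17004623)))))
(.node 6 (.node 3 (.node 1 (.leaf 17569869) (.node 1 (.leaf 17567827) (.leaf 17260627))) (.node 1 (.leaf 17195087) (.node 1 (.leaf 17176643) (.leaf 17180759))))
(.node 3 (.node 1 (.leaf 17133641) (.node 1 (.leaf 17174613) (.leaf 17125445))) (.node 1 (.leaf 17242181) (.node 1 (.leaf 17780803) (.leaf 17045585))))))
(.node 12 (.node 6 (.node 3 (.node 1 (.leaf 17461343) (.node 1 (.leaf 17244231) (.leaf 17244241))) (.node 1 (.leaf 17178701) (.node 1 (.leaf 17068109) (.leaf 16937049))))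
(.node 3 (.node 1 (.leaf 17440835) (.node 1 (.leaf 16939075) (.leaf 17506385))) (.node 1 (.leaf 17070161) (.node 1 (.leaf 17004619) (.leaf 17440857)))))
(.node 6 (.node 3 (.node 1 (.leaf 17070165) (.node 1 (.leaf 17043527) (.leaf 17180745))) (.node 1 (.leaf 17444949) (.node 1 (.leaf 17125469) (.leaf 17242201))))
(.node 3 (.node 1 (.leaf 17246273) (.node 1 (.leaf 17178707) (.leaf 17446985))) (.node 1 (.leaf 17004627) (.node 1 (.leaf 17567829) (.leaf 17135685))))))))
(.node 48 (.node 24 (.node 12 (.node 6 (.node 3 (.node 1 (.leaf 17004637) (.node 1 (.leaf 17002567) (.leaf 17567811))) (.node 1 (.leaf 17258561) (.node 1 (.leaf 16932929) (.leaf 17659995))))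
(.node 3 (.node 1 (.leaf 17700939) (.node 1 (.leaf 16998473) (.leaf 17174601))) (.node 1 (.leaf 17135707) (.node 1 (.leaf 17176647) (.leaf 17127511)))))
(.node 6 (.node 3 (.node 1 (.leaf 17240151) (.node 1 (.leaf 16918617) (.leaf 17135711))) (.node 1 (.leaf 17176669) (.node 1 (.leaf 17135689) (.leaf 17133653))))
(.node 3 (.node 1 (.leaf 17000525) (.node 1 (.leaf 17127513) (.leaf 17240143))) (.node 1 (.leaf 17070151) (.node 1 (.leaf 17242179) (.leaf 17721439))))))
(.node 12 (.node 6 (.node 3 (.node 1 (.leaf 17528899) (.node 1 (.leaf 17176645) (.leaf 17180765))) (.node 1 (.leaf 17643609) (.node 1 (.leaf 17125457) (.leaf 17180747))))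
(.node 3 (.node 1 (.leaf 17721425) (.node 1 (.leaf 17135683) (.leaf 17522765))) (.node 1 (.leaf 17004629) (.node 1 (.leaf 17068127) (.leaf 17002573)))))
(.node 6 (.node 3 (.node 1 (.leaf 17070155) (.node 1 (.leaf 16939091) (.leaf 17442893))) (.node 1 (.leaf 16982085) (.node 1 (.leaf 17578049) (.leaf 17459295))))
(.node 3 (.node 1 (.leaf 17133661) (.node 1 (.leaf 17524821) (.leaf 17135695))) (.node 1 (.leaf 17070147) (.node 1 (.leaf 17719391) (.leaf 17133659)))))))
(.node 24 (.node 12 (.node 6 (.node 3 (.node 1 (.leaf 17524809) (.node 1 (.leaf 17068117) (.leaf 17070149))) (.node 1 (.leaf 17526875) (.node 1 (.leaf 17127501) (.leaf 17178703))))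
(.node 3 (.node 1 (.leaf 17576003) (.node 1 (.leaf 17127491) (.leaf 17240145))) (.node 1 (.leaf 17070175) (.node 1 (.leaf 17242205) (.leaf 17174605)))))
(.node 6 (.node 3 (.node 1 (.leaf 17125451) (.node 1 (.leaf 17246281) (.leaf 17578079))) (.node 1 (.leaf 16937055) (.node 1 (.leaf 17004609) (.leaf 17002585))))
(.node 3 (.node 1 (.leaf 17643589) (.node 1 (.leaf 17784909) (.leaf 17068105))) (.node 1 (.leaf 17459291) (.node 1 (.leaf 17133639) (.leaf 16937043))))))
(.node 12 (.node 6 (.node 3 (.node 1 (.leaf 17135703) (.node 1 (.leaf 16939083) (.leaf 17133635))) (.node 1 (.leaf 17002583) (.node 1 (.leaf 16986207) (.leaf 17256521))))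
(.node 3 (.node 1 (.leaf 17053787) (.node 1 (.leaf 17764429) (.leaf 17061961))) (.node 1 (.leaf 16934993) (.node 1 (.leaf 17768539) (.leaf 16934983)))))
(.node 6 (.node 3 (.node 1 (.leaf 17053761) (.node 1 (.leaf 17258587) (.leaf 17506379))) (.node 1 (.leaf 17053783) (.node 1 (.leaf 16920669) (.leaf 17051721))))
(.node 3 (.node 1 (.leaf 17197151) (.node 1 (.leaf 16920645) (.leaf 16922713))) (.node 1 (.leaf 17592399) (.node 1 (.leaf 17764417) (.leaf 17061971))))))))))
(.node 192 (.node 96 (.node 48 (.node 24 (.node 12 (.node 6 (.node 3 (.node 1 (.leaf 17528903) (.node 1 (.leaf 17700947) (.leaf 17061963))) (.node 1 (.leaf 17698901) (.node 1 (.leaf 17127509) (.leaf 17125471))))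
(.node 3 (.node 1 (.leaf 17702991) (.node 1 (.leaf 17059905) (.leaf 17195077))) (.node 1 (.leaf 17051713) (.node 1 (.leaf 17053789) (.leaf 17195097)))))
(.node 6 (.node 3 (.node 1 (.leaf 16932949) (.node 1 (.leaf 17659985) (.leaf 16932931))) (.node 1 (.leaf 16998495) (.node 1 (.leaf 17461339) (.leaf 17764439))))
(.node 3 (.node 1 (.leaf 17766483) (.node 1 (.leaf 17197121) (.leaf 17578057))) (.node 1 (.leaf 17782869) (.node 1 (.leaf 17715275) (.leaf 17111133))))))
(.node 12 (.node 6 (.node 3 (.node 1 (.leaf 17719367) (.node 1 (.leaf 17721417) (.leaf 17786971))) (.node 1 (.leaf 17721427) (.node 1 (.leaf 17510473) (.leaf 17786947))))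
(.node 3 (.node 1 (.leaf 17784911) (.node 1 (.leaf 17262663) (.leaf 17526851))) (.node 1 (.leaf 17635419) (.node 1 (.leaf 16939087) (.leaf 17178699)))))
(.node 6 (.node 3 (.node 1 (.leaf 17784917) (.node 1 (.leaf 17567809) (.leaf 17260609))) (.node 1 (.leaf 17766495) (.node 1 (.leaf 17698881) (.leaf 17764441))))
(.node 3 (.node 1 (.leaf 17000517) (.node 1 (.leaf 17576013) (.leaf 17780815))) (.node 1 (.leaf 17717329) (.node 1 (.leaf 17109059) (.leaf 17717319)))))))
(.node 24 (.node 12 (.node 6 (.node 3 (.node 1 (.leaf 16984143) (.node 1 (.leaf 16982101) (.leaf 17578065))) (.node 1 (.leaf 17643605) (.node 1 (.leaf 17508433) (.leaf 16988233))))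
(.node 3 (.node 1 (.leaf 17440855) (.node 1 (.leaf 17119315) (.leaf 16986199))) (.node 1 (.leaf 17045593) (.node 1 (.leaf 17190983) (.leaf 16922717)))))
(.node 6 (.node 3 (.node 1 (.leaf 17651795) (.node 1 (.leaf 17702985) (.leaf 16986191))) (.node 1 (.leaf 16920643) (.node 1 (.leaf 17193033) (.leaf 17651791))))
(.node 3 (.node 1 (.leaf 17764427) (.node 1 (.leaf 17524825) (.leaf 17633373))) (.node 1 (.leaf 17705027) (.node 1 (.leaf 16920665) (.leaf 17649737))))))
(.node 12 (.node 6 (.node 3 (.node 1 (.leaf 17461341) (.node 1 (.leaf 16916561) (.leaf 16984157))) (.node 1 (.leaf 17649729) (.node 1 (.leaf 17524805) (.leaf 17651805))))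
(.node 3 (.node 1 (.leaf 17586247) (.node 1 (.leaf 17522775) (.leaf 17459289))) (.node 1 (.leaf 17524811) (.node 1 (.leaf 17766477) (.leaf 17459293)))))
(.node 6 (.node 3 (.node 1 (.leaf 17262671) (.node 1 (.leaf 16939077) (.leaf 17635393))) (.node 1 (.leaf 17133655) (.node 1 (.leaf 17004639) (.leaf 17651781))))
(.node 3 (.node 1 (.leaf 17522767) (.node 1 (.leaf 17649755) (.leaf 17584193))) (.node 1 (.leaf 17463365) (.node 1 (.leaf 17700933) (.leaf 16998493))))))))
(.node 48 (.node 24 (.node 12 (.node 6 (.node 3 (.node 1 (.leaf 17461337) (.node 1 (.leaf 17715267) (.leaf 17782879))) (.node 1 (.leaf 17043547) (.node 1 (.leaf 17526849) (.leaf 16918619))))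
(.node 3 (.node 1 (.leaf 16916545) (.node 1 (.leaf 17576001) (.leaf 17442901))) (.node 1 (.leaf 17508427) (.node 1 (.leaf 17053771) (.leaf 17111107)))))
(.node 6 (.node 3 (.node 1 (.leaf 17190979) (.node 1 (.leaf 17768529) (.leaf 16920667))) (.node 1 (.leaf 17770569) (.node 1 (.leaf 16937037) (.leaf 17633359))))
(.node 3 (.node 1 (.leaf 17258581) (.node 1 (.leaf 17633353) (.leaf 17463367))) (.node 1 (.leaf 16982087) (.node 1 (.leaf 16918601) (.leaf 17594449))))))
(.node 12 (.node 6 (.node 3 (.node 1 (.leaf 17125441) (.node 1 (.leaf 17109061) (.leaf 17586271))) (.node 1 (.leaf 17457217) (.node 1 (.leaf 17649735) (.leaf 17174593))))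
(.node 3 (.node 1 (.leaf 17178709) (.node 1 (.leaf 17510479) (.leaf 17061975))) (.node 1 (.leaf 17045571) (.node 1 (.leaf 17043551) (.leaf 17524819)))))
(.node 6 (.node 3 (.node 1 (.leaf 17176665) (.node 1 (.leaf 17457221) (.leaf 16934995))) (.node 1 (.leaf 17528897) (.node 1 (.leaf 17586263) (.leaf 17586241))))
(.node 3 (.node 1 (.leaf 17174621) (.node 1 (.leaf 17242177) (.leaf 17461335))) (.node 1 (.leaf 17651801) (.node 1 (.leaf 16922701) (.leaf 17522761)))))))
(.node 24 (.node 12 (.node 6 (.node 3 (.node 1 (.leaf 17584195) (.node 1 (.leaf 17244227) (.leaf 17240149))) (.node 1 (.leaf 17508443) (.node 1 (.leaf 17457241) (.leaf 17240139))))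
(.node 3 (.node 1 (.leaf 17524823) (.node 1 (.leaf 17459271) (.leaf 17524813))) (.node 1 (.leaf 16986185) (.node 1 (.leaf 17522771) (.leaf 17127503)))))
(.node 6 (.node 3 (.node 1 (.leaf 17651789) (.node 1 (.leaf 16922689) (.leaf 17651803))) (.node 1 (.leaf 17127489) (.node 1 (.leaf 17240147) (.leaf 17070173))))
(.node 3 (.node 1 (.leaf 17244229) (.node 1 (.leaf 17174607) (.leaf 17242203))) (.node 1 (.leaf 17246275) (.node 1 (.leaf 17176653) (.leaf 17240159))))))
(.node 12 (.node 6 (.node 3 (.node 1 (.leaf 17242195) (.node 1 (.leaf 17174597) (.leaf 17242197))) (.node 1 (.leaf 17197131) (.node 1 (.leaf 16986205) (.leaf 17584223))))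
(.node 3 (.node 1 (.leaf 17459265) (.node 1 (.leaf 17457245) (.leaf 16922715))) (.node 1 (.leaf 17649753) (.node 1 (.leaf 17061981) (.leaf 17174617)))))
(.node 6 (.node 3 (.node 1 (.leaf 17135691) (.node 1 (.leaf 17178691) (.leaf 17240135))) (.node 1 (.leaf 17176659) (.node 1 (.leaf 17180743) (.leaf 17782859))))
(.node 3 (.node 1 (.leaf 17119297) (.node 1 (.leaf 17569867) (.leaf 17119319))) (.node 1 (.leaf 17717317) (.node 1 (.leaf 17440845) (.leaf 17117265)))))))))
(.node 96 (.node 48 (.node 24 (.node 12 (.node 6 (.node 3 (.node 1 (.leaf 17262659) (.node 1 (.leaf 17506397) (.leaf 16986193))) (.node 1 (.leaf 17705055) (.node 1 (.leaf 17442907) (.leaf 17117255))))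
(.node 3 (.node 1 (.leaf 16988237) (.node 1 (.leaf 17569857) (.leaf 16988245))) (.node 1 (.leaf 16916563) (.node 1 (.leaf 17649747) (.leaf 17522757)))))
(.node 6 (.node 3 (.node 1 (.leaf 17766489) (.node 1 (.leaf 17635411) (.leaf 17651799))) (.node 1 (.leaf 17641547) (.node 1 (.leaf 17633375) (.leaf 17657933))))
(.node 3 (.node 1 (.leaf 17702999) (.node 1 (.leaf 17260633) (.leaf 17592385))) (.node 1 (.leaf 17659993) (.node 1 (.leaf 17592387) (.leaf 17444935))))))
(.node 12 (.node 6 (.node 3 (.node 1 (.leaf 16984141) (.node 1 (.leaf 17457227) (.leaf 17584211))) (.node 1 (.leaf 17524831) (.node 1 (.leaf 17584197) (.leaf 17459279))))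
(.node 3 (.node 1 (.leaf 16998475) (.node 1 (.leaf 17705049) (.leaf 17651787))) (.node 1 (.leaf 17528905) (.node 1 (.leaf 17584205) (.leaf 17770575)))))
(.node 6 (.node 3 (.node 1 (.leaf 17584219) (.node 1 (.leaf 17459283) (.leaf 17193053))) (.node 1 (.leaf 17117269) (.node 1 (.leaf 17043541) (.leaf 17180763))))
(.node 3 (.node 1 (.leaf 17442889) (.node 1 (.leaf 17002563) (.leaf 17442897))) (.node 1 (.leaf 17447007) (.node 1 (.leaf 17719387) (.leaf 17195103)))))))
(.node 24 (.node 12 (.node 6 (.node 3 (.node 1 (.leaf 17242189) (.node 1 (.leaf 17068097) (.leaf 17240155))) (.node 1 (.leaf 17178717) (.node 1 (.leaf 17002591) (.leaf 17004613))))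
(.node 3 (.node 1 (.leaf 17440837) (.node 1 (.leaf 17506383) (.leaf 17246279))) (.node 1 (.leaf 17510467) (.node 1 (.leaf 16939095) (.leaf 17070157)))))
(.node 6 (.node 3 (.node 1 (.leaf 16939097) (.node 1 (.leaf 16937027) (.leaf 17633369))) (.node 1 (.leaf 17070163) (.node 1 (.leaf 17242185) (.leaf 17061983))))
(.node 3 (.node 1 (.leaf 17174619) (.node 1 (.leaf 17070145) (.leaf 17068125))) (.node 1 (.leaf 17135693) (.node 1 (.leaf 17176655) (.leaf 17786945))))))
(.node 12 (.node 6 (.node 3 (.node 1 (.leaf 17242187) (.node 1 (.leaf 17059929) (.leaf 16939089))) (.node 1 (.leaf 17135681) (.node 1 (.leaf 17133663) (.leaf 17461327))))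
(.node 3 (.node 1 (.leaf 17061957) (.node 1 (.leaf 17135701) (.leaf 17176657))) (.node 1 (.leaf 17240131) (.node 1 (.leaf 17059907) (.leaf 16937053)))))
(.node 6 (.node 3 (.node 1 (.leaf 17068111) (.node 1 (.leaf 17002581) (.leaf 17068107))) (.node 1 (.leaf 17698897) (.node 1 (.leaf 17000535) (.leaf 17702983))))
(.node 3 (.node 1 (.leaf 17000513) (.node 1 (.leaf 17068101) (.leaf 17240129))) (.node 1 (.leaf 16932955) (.node 1 (.leaf 17068119) (.leaf 17070153))))))))
(.node 48 (.node 24 (.node 12 (.node 6 (.node 3 (.node 1 (.leaf 17522781) (.node 1 (.leaf 17174599) (.leaf 17133645))) (.node 1 (.leaf 17135699) (.node 1 (.leaf 17784919) (.leaf 17174623))))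
(.node 3 (.node 1 (.leaf 17059931) (.node 1 (.leaf 17061959) (.leaf 17070169))) (.node 1 (.leaf 17784921) (.node 1 (.leaf 17135697) (.leaf 17457239)))))
(.node 6 (.node 3 (.node 1 (.leaf 17068103) (.node 1 (.leaf 17522753) (.leaf 17133647))) (.node 1 (.leaf 17260631) (.node 1 (.leaf 17528915) (.leaf 17133633))))
(.node 3 (.node 1 (.leaf 17459275) (.node 1 (.leaf 17068121) (.leaf 17240133))) (.node 1 (.leaf 17719371) (.node 1 (.leaf 17002571) (.leaf 17004625))))))
(.node 12 (.node 6 (.node 3 (.node 1 (.leaf 17649751) (.node 1 (.leaf 17133649) (.leaf 17721415))) (.node 1 (.leaf 17135687) (.node 1 (.leaf 17068123) (.leaf 16988247))))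
(.node 3 (.node 1 (.leaf 17125459) (.node 1 (.leaf 17705043) (.leaf 17508419))) (.node 1 (.leaf 16988251) (.node 1 (.leaf 16986181) (.leaf 17526861)))))
(.node 6 (.node 3 (.node 1 (.leaf 17698909) (.node 1 (.leaf 17463379) (.leaf 17786957))) (.node 1 (.leaf 17719379) (.node 1 (.leaf 17719369) (.leaf 17004631))))
(.node 3 (.node 1 (.leaf 16937041) (.node 1 (.leaf 17659979) (.leaf 17641563))) (.node 1 (.leaf 17782875) (.node 1 (.leaf 16922705) (.leaf 17463381)))))))
(.node 24 (.node 12 (.node 6 (.node 3 (.node 1 (.leaf 17457233) (.node 1 (.leaf 16988231) (.leaf 17457229))) (.node 1 (.leaf 17522769) (.node 1 (.leaf 17002569) (.leaf 17586259))))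
(.node 3 (.node 1 (.leaf 17459269) (.node 1 (.leaf 17459267) (.leaf 17586261))) (.node 1 (.leaf 17457247) (.node 1 (.leaf 17522763) (.leaf 17524829)))))
(.node 6 (.node 3 (.node 1 (.leaf 17522755) (.node 1 (.leaf 17457237) (.leaf 16937039))) (.node 1 (.leaf 17457225) (.node 1 (.leaf 17459287) (.leaf 17524803))))
(.node 3 (.node 1 (.leaf 17000533) (.node 1 (.leaf 17717335) (.leaf 17567815))) (.node 1 (.leaf 17002587) (.node 1 (.leaf 17522777) (.leaf 17242193))))))
(.node 12 (.node 6 (.node 3 (.node 1 (.leaf 17522779) (.node 1 (.leaf 17524801) (.leaf 16920659))) (.node 1 (.leaf 17567831) (.node 1 (.leaf 17459281) (.leaf 17457231))))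
(.node 3 (.node 1 (.leaf 16920651) (.node 1 (.leaf 17174615) (.leaf 17176671))) (.node 1 (.leaf 17459285) (.node 1 (.leaf 16939079) (.leaf 17176641)))))
(.node 6 (.node 3 (.node 1 (.leaf 17174603) (.node 1 (.leaf 16922691) (.leaf 17524815))) (.node 1 (.leaf 17004611) (.node 1 (.leaf 17457243) (.leaf 17524817))))
(.node 3 (.node 1 (.leaf 17457223) (.node 1 (.leaf 17586243) (.leaf 17244243))) (.node 1 (.leaf 17444951) (.node 1 (.leaf 17070171) (.leaf 17133651))))))))))))

/-- The first candidates. -/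
def oneA1 : List (ℕ × ℕ) :=
  [(17461329, 17043521), (16937041, 17059905), (16920657, 17567809), (17444945, 17584193),
  (17461325, 17043529), (16937053, 17059913), (16920669, 17567817), (17444941, 17584201),
  (17702993, 17051713), (17195089, 17068097), (17719377, 17576001), (17178705, 17592385),
  (17702981, 17051721), (17195093, 17068105), (17719365, 17576009), (17178709, 17592393),
  (17461321, 17043525), (16937033, 17059909), (16920665, 17567813), (17444953, 17584197),
  (17461333, 17043533), (16937029, 17059917), (16920661, 17567821), (17444933, 17584205),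
  (17702985, 17051717), (17195081, 17068101), (17719385, 17576005), (17178713, 17592389),
  (17703005, 17051725), (17195085, 17068109), (17719373, 17576013), (17178717, 17592397),
  (17526865, 17045569), (17002577, 17061953), (16986193, 17569857), (17510481, 17586241),
  (17526863, 17045577), (17002591, 17061961), (16986207, 17569865), (17510479, 17586249),
  (17770577, 17053761), (17262673, 17070145), (17786961, 17578049), (17246289, 17594433),
  (17770567, 17053769), (17262679, 17070153), (17786951, 17578057), (17246295, 17594441),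
  (17526857, 17045573), (17002569, 17061957), (16986201, 17569861), (17510489, 17586245),
  (17526871, 17045581), (17002567, 17061965), (16986199, 17569869), (17510471, 17586253),
  (17770569, 17053765), (17262665, 17070149), (17786969, 17578053), (17246297, 17594437),
  (17770591, 17053773), (17262671, 17070157), (17786959, 17578061), (17246303, 17594445),
  (17528913, 17109057), (17004625, 17125441), (16988241, 17633345), (17512529, 17649729),
  (17528911, 17109065), (17004639, 17125449), (16988255, 17633353), (17512527, 17649737),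
  (17705041, 17117249), (17197137, 17133633), (17721425, 17641537), (17180753, 17657921),
  (17705029, 17117257), (17197141, 17133641), (17721413, 17641545), (17180757, 17657929),
  (17528907, 17109061), (17004619, 17125445), (16988251, 17633349), (17512539, 17649733),
  (17528917, 17109069), (17004613, 17125453), (16988245, 17633357), (17512517, 17649741),
  (17705035, 17117253), (17197131, 17133637), (17721435, 17641541), (17180763, 17657925),
  (17705055, 17117261), (17197135, 17133645), (17721423, 17641549), (17180767, 17657933),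
  (17463377, 17111105), (16939089, 17127489), (16922705, 17635393), (17446993, 17651777),
  (17463373, 17111113), (16939101, 17127497), (16922717, 17635401), (17446989, 17651785),
  (17768529, 17119297), (17260625, 17135681), (17784913, 17643585), (17244241, 17659969),
  (17768519, 17119305), (17260631, 17135689), (17784903, 17643593), (17244247, 17659977),
  (17463371, 17111109), (16939083, 17127493), (16922715, 17635397), (17447003, 17651781),
  (17463383, 17111117), (16939079, 17127501), (16922711, 17635405), (17446983, 17651789),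
  (17768523, 17119301), (17260619, 17135685), (17784923, 17643589), (17244251, 17659973),
  (17768541, 17119309), (17260621, 17135693), (17784909, 17643597), (17244253, 17659981)]

/-- The last candidates. -/
def oneSur : List ((ℕ × ℕ) × (ℕ × ℕ)) :=
  [((17127513, 16984145), (0, 17043521)), ((17569861, 17053777), (0, 17195073)),
  ((17649757, 17764433), (0, 17461313)), ((17109067, 16984145), (1, 17043521)),
  ((17111127, 17053777), (1, 17195073)), ((17045583, 17764433), (1, 17461313)),
  ((17127513, 16984131), (2, 17043521)), ((17569861, 17053763), (2, 17195073)),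
  ((17649757, 17764419), (2, 17461313)), ((17109067, 16984131), (3, 17043521)),
  ((17111127, 17053763), (3, 17195073)), ((17045583, 17764419), (3, 17461313)),
  ((17111113, 16984145), (4, 17043521)), ((17045589, 17053777), (4, 17195073)),
  ((17109069, 17764433), (4, 17461313)), ((17125467, 16984145), (5, 17043521)),
  ((17635399, 17053777), (5, 17195073)), ((17586271, 17764433), (5, 17461313)),
  ((17127513, 16984129), (6, 17043521)), ((17569861, 17053761), (6, 17195073)),
  ((17649757, 17764417), (6, 17461313)), ((17111113, 16984129), (7, 17043521)),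
  ((17045589, 17053761), (7, 17195073)), ((17109069, 17764417), (7, 17461313)),
  ((17125467, 16984129), (8, 17043521)), ((17635399, 17053761), (8, 17195073)),
  ((17586271, 17764417), (8, 17461313)), ((17109067, 16984129), (9, 17043521)),
  ((17111127, 17053761), (9, 17195073)), ((17045583, 17764417), (9, 17461313)),
  ((17127513, 16984147), (10, 17043521)), ((17569861, 17053779), (10, 17195073)),
  ((17649757, 17764435), (10, 17461313)), ((17111113, 16984147), (11, 17043521)),
  ((17045589, 17053779), (11, 17195073)), ((17109069, 17764435), (11, 17461313)),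
  ((17125467, 16984147), (12, 17043521)), ((17635399, 17053779), (12, 17195073)),
  ((17586271, 17764435), (12, 17461313)), ((17109067, 16984147), (13, 17043521)),
  ((17111127, 17053779), (13, 17195073)), ((17045583, 17764435), (13, 17461313)),
  ((17111113, 16984131), (14, 17043521)), ((17045589, 17053763), (14, 17195073)),
  ((17109069, 17764419), (14, 17461313)), ((17125467, 16984131), (15, 17043521)),
  ((17635399, 17053763), (15, 17195073)), ((17586271, 17764419), (15, 17461313))]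

/-- The side. -/
def oneSide : SideD where
  C := oneCent
  g := (.node 1 (.leaf 17260611) (.node 1 (.leaf 17127517) (.leaf 17051729)))
  par := onePar
  rep := 17461329
  a1 := oneA1
  c1 := 17043537
  c2 := 17043523
  d1 := 17043523
  d2 := 17043537
  r2 := [([0, 1, 0, 1, 0], [1, 1, 1])]
  r3 := [([1, 0, 2, 0, 2], [0, 2, 0, 2, 1]),
  ([0, 1, 2, 0, 2, 0, 1], [2, 0, 0, 2])]
  im := (.node 8 (.node 4 (.node 2 (.node 1 (.leaf (.node 1 (.leaf 17461329) (.node 1 (.leaf 17127513) (.leaf 16984145)))) (.leaf (.node 1 (.leaf 17461329) (.node 1 (.leaf 17109067) (.leaf 16984145))))) (.node 1 (.leaf (.node 1 (.leaf 17461329) (.node 1 (.leaf 17127513) (.leaf 16984131)))) (.leaf (.node 1 (.leaf 17461329) (.node 1 (.leaf 17109067) (.leaf 16984131))))))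
(.node 2 (.node 1 (.leaf (.node 1 (.leaf 17461329) (.node 1 (.leaf 17111113) (.leaf 16984145)))) (.leaf (.node 1 (.leaf 17461329) (.node 1 (.leaf 17125467) (.leaf 16984145))))) (.node 1 (.leaf (.node 1 (.leaf 17461329) (.node 1 (.leaf 17127513) (.leaf 16984129)))) (.leaf (.node 1 (.leaf 17461329) (.node 1 (.leaf 17111113) (.leaf 16984129)))))))
(.node 4 (.node 2 (.node 1 (.leaf (.node 1 (.leaf 17461329) (.node 1 (.leaf 17125467) (.leaf 16984129)))) (.leaf (.node 1 (.leaf 17461329) (.node 1 (.leaf 17109067) (.leaf 16984129))))) (.node 1 (.leaf (.node 1 (.leaf 17461329) (.node 1 (.leaf 17127513) (.leaf 16984147)))) (.leaf (.node 1 (.leaf 17461329) (.node 1 (.leaf 17111113) (.leaf 16984147))))))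
(.node 2 (.node 1 (.leaf (.node 1 (.leaf 17461329) (.node 1 (.leaf 17125467) (.leaf 16984147)))) (.leaf (.node 1 (.leaf 17461329) (.node 1 (.leaf 17109067) (.leaf 16984147))))) (.node 1 (.leaf (.node 1 (.leaf 17461329) (.node 1 (.leaf 17111113) (.leaf 16984131)))) (.leaf (.node 1 (.leaf 17461329) (.node 1 (.leaf 17125467) (.leaf 16984131))))))))
  imW := (.node 8 (.node 4 (.node 2 (.node 1 (.leaf (.node 1 (.leaf [1, 0, 2, 0, 0, 1, 2, 1]) (.node 1 (.leaf [1, 1, 2, 0, 1, 2, 0]) (.leaf [0, 0, 0, 0, 0, 2, 0])))) (.leaf (.node 1 (.leaf [1, 0, 2, 0, 0, 1, 2, 1]) (.node 1 (.leaf [2, 1, 0, 0, 1, 2, 0, 0]) (.leaf [0, 0, 0, 0, 0, 2, 0]))))) (.node 1 (.leaf (.node 1 (.leaf [1, 0, 2, 0, 0, 1, 2, 1]) (.node 1 (.leaf [1, 1, 2, 0, 1, 2, 0]) (.leaf [0, 0, 1, 1, 2, 0])))) (.leaf (.node 1 (.leaf [1, 0, 2, 0, 0, 1, 2, 1]) (.node 1 (.leaf [2, 1, 0, 0, 1, 2, 0, 0]) (.leaf [0, 0, 1, 1, 2, 0]))))))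
(.node 2 (.node 1 (.leaf (.node 1 (.leaf [1, 0, 2, 0, 0, 1, 2, 1]) (.node 1 (.leaf [2, 0, 2, 1, 0, 1]) (.leaf [0, 0, 0, 0, 0, 2, 0])))) (.leaf (.node 1 (.leaf [1, 0, 2, 0, 0, 1, 2, 1]) (.node 1 (.leaf [2, 0, 0, 2, 1, 0, 0]) (.leaf [0, 0, 0, 0, 0, 2, 0]))))) (.node 1 (.leaf (.node 1 (.leaf [1, 0, 2, 0, 0, 1, 2, 1]) (.node 1 (.leaf [1, 1, 2, 0, 1, 2, 0]) (.leaf [0, 0, 0, 0, 0, 1, 1, 2, 0])))) (.leaf (.node 1 (.leaf [1, 0, 2, 0, 0, 1, 2, 1]) (.node 1 (.leaf [2, 0, 2, 1, 0, 1]) (.leaf [0, 0, 0, 0, 0, 1, 1, 2, 0])))))))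
(.node 4 (.node 2 (.node 1 (.leaf (.node 1 (.leaf [1, 0, 2, 0, 0, 1, 2, 1]) (.node 1 (.leaf [2, 0, 0, 2, 1, 0, 0]) (.leaf [0, 0, 0, 0, 0, 1, 1, 2, 0])))) (.leaf (.node 1 (.leaf [1, 0, 2, 0, 0, 1, 2, 1]) (.node 1 (.leaf [2, 1, 0, 0, 1, 2, 0, 0]) (.leaf [0, 0, 0, 0, 0, 1, 1, 2, 0]))))) (.node 1 (.leaf (.node 1 (.leaf [1, 0, 2, 0, 0, 1, 2, 1]) (.node 1 (.leaf [1, 1, 2, 0, 1, 2, 0]) (.leaf [0, 0, 2, 0])))) (.leaf (.node 1 (.leaf [1, 0, 2, 0, 0, 1, 2, 1]) (.node 1 (.leaf [2, 0, 2, 1, 0, 1]) (.leaf [0, 0, 2, 0]))))))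
(.node 2 (.node 1 (.leaf (.node 1 (.leaf [1, 0, 2, 0, 0, 1, 2, 1]) (.node 1 (.leaf [2, 0, 0, 2, 1, 0, 0]) (.leaf [0, 0, 2, 0])))) (.leaf (.node 1 (.leaf [1, 0, 2, 0, 0, 1, 2, 1]) (.node 1 (.leaf [2, 1, 0, 0, 1, 2, 0, 0]) (.leaf [0, 0, 2, 0]))))) (.node 1 (.leaf (.node 1 (.leaf [1, 0, 2, 0, 0, 1, 2, 1]) (.node 1 (.leaf [2, 0, 2, 1, 0, 1]) (.leaf [0, 0, 1, 1, 2, 0])))) (.leaf (.node 1 (.leaf [1, 0, 2, 0, 0, 1, 2, 1]) (.node 1 (.leaf [2, 0, 0, 2, 1, 0, 0]) (.leaf [0, 0, 1, 1, 2, 0]))))))))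
  sur := oneSur
  fwd := (.node 2 (.node 1 (.leaf oneFwd0) (.leaf oneFwd1)) (.node 1 (.leaf oneFwd2) (.leaf oneFwd3)))

end Cfsg.Lib.HeldType
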