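import Cfsg.Agent.HeldType.Swap

/-!
Data of one side.
-/

set_option autoImplicit false
set_option maxRecDepth 100000

namespace Cfsg.Lib.HeldType

/-- The centraliser data. -/
def twoEl : Tab ℕ :=
(.node 768 (.node 384 (.node 192 (.node 96 (.node 48 (.node 24 (.node 12 (.node 6 (.node 3 (.node 1 (.leaf 17043521) (.node 1 (.leaf 25770065) (.leaf 19150929))) (.node 1 (.leaf 11079747) (.node 1 (.leaf 11368521) (.leaf 27791427))))
(.node 3 (.node 1 (.leaf 25448521) (.node 1 (.leaf 27883593) (.leaf 17043523))) (.node 1 (.leaf 8998985) (.node 1 (.leaf 17643603) (.leaf 11024467)))))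
(.node 6 (.node 3 (.node 1 (.leaf 17045571) (.node 1 (.leaf 11294809) (.leaf 17659985))) (.node 1 (.leaf 9189459) (.node 1 (.leaf 25770067) (.leaf 27594817))))
(.node 3 (.node 1 (.leaf 11098179) (.node 1 (.leaf 27553881) (.leaf 9246787))) (.node 1 (.leaf 25712729) (.node 1 (.leaf 27555921) (.leaf 19150931))))))
(.node 12 (.node 6 (.node 3 (.node 1 (.leaf 11079745) (.node 1 (.leaf 19748931) (.leaf 8941657))) (.node 1 (.leaf 25458763) (.node 1 (.leaf 19664961) (.leaf 11358283))))
(.node 3 (.node 1 (.leaf 17594443) (.node 1 (.leaf 17125451) (.leaf 25768019))) (.node 1 (.leaf 19148883) (.node 1 (.leaf 11081793) (.leaf 17125467)))))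
(.node 6 (.node 3 (.node 1 (.leaf 11368523) (.node 1 (.leaf 17576027) (.leaf 25434185))) (.node 1 (.leaf 19683395) (.node 1 (.leaf 19232843) (.leaf 9244737))))
(.node 3 (.node 1 (.leaf 19681355) (.node 1 (.leaf 27791425) (.leaf 25448523))) (.node 1 (.leaf 8927313) (.node 1 (.leaf 25507921) (.leaf 17649747)))))))
(.node 24 (.node 12 (.node 6 (.node 3 (.node 1 (.leaf 11040851) (.node 1 (.leaf 17051713) (.leaf 8982619))) (.node 1 (.leaf 27881563) (.node 1 (.leaf 9187411) (.leaf 19732545))))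
(.node 3 (.node 1 (.leaf 11292763) (.node 1 (.leaf 27883595) (.leaf 25505883))) (.node 1 (.leaf 8984649) (.node 1 (.leaf 25450563) (.leaf 8998987)))))
(.node 6 (.node 3 (.node 1 (.leaf 17643601) (.node 1 (.leaf 11024465) (.leaf 27545683))) (.node 1 (.leaf 17594451) (.node 1 (.leaf 9252929) (.leaf 19664987))))
(.node 3 (.node 1 (.leaf 19230811) (.node 1 (.leaf 27547739) (.leaf 25786451))) (.node 1 (.leaf 27605073) (.node 1 (.leaf 9179203) (.leaf 17061953))))))
(.node 12 (.node 6 (.node 3 (.node 1 (.leaf 11300955) (.node 1 (.leaf 25499713) (.leaf 19748955))) (.node 1 (.leaf 11302995) (.node 1 (.leaf 25712705) (.leaf 11366475))))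
(.node 3 (.node 1 (.leaf 27793473) (.node 1 (.leaf 25450571) (.leaf 27881547))) (.node 1 (.leaf 17045569) (.node 1 (.leaf 9001035) (.leaf 17641553)))))
(.node 6 (.node 3 (.node 1 (.leaf 11022417) (.node 1 (.leaf 19230793) (.leaf 11024473))) (.node 1 (.leaf 11294811) (.node 1 (.leaf 17659987) (.leaf 25522265))))
(.node 3 (.node 1 (.leaf 19732553) (.node 1 (.leaf 11087939) (.leaf 27537497))) (.node 1 (.leaf 25761873) (.node 1 (.leaf 27611219) (.leaf 9187393))))))))
(.node 48 (.node 24 (.node 12 (.node 6 (.node 3 (.node 1 (.leaf 17127515) (.node 1 (.leaf 8943699) (.leaf 9189457))) (.node 1 (.leaf 19730499) (.node 1 (.leaf 27613249) (.leaf 17657947))))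
(.node 3 (.node 1 (.leaf 27594819) (.node 1 (.leaf 11098177) (.leaf 27553883))) (.node 1 (.leaf 19691593) (.node 1 (.leaf 8982595) (.leaf 19222601)))))
(.node 6 (.node 3 (.node 1 (.leaf 11040841) (.node 1 (.leaf 25710665) (.leaf 19689537))) (.node 1 (.leaf 11352139) (.node 1 (.leaf 17569867) (.leaf 17135691))))
(.node 3 (.node 1 (.leaf 25784401) (.node 1 (.leaf 19142737) (.leaf 19740761))) (.node 1 (.leaf 8927305) (.node 1 (.leaf 19140697) (.leaf 9244761))))))
(.node 12 (.node 6 (.node 3 (.node 1 (.leaf 19230795) (.node 1 (.leaf 9246785) (.leaf 19683403))) (.node 1 (.leaf 27537489) (.node 1 (.leaf 17576017) (.leaf 17127513))))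
(.node 3 (.node 1 (.leaf 11366473) (.node 1 (.leaf 17578073) (.leaf 25712731))) (.node 1 (.leaf 27555923) (.node 1 (.leaf 11038809) (.leaf 27596873)))))
(.node 6 (.node 3 (.node 1 (.leaf 19738691) (.node 1 (.leaf 8925273) (.leaf 11096147))) (.node 1 (.leaf 25768001) (.node 1 (.leaf 19748929) (.leaf 8941659))))
(.node 3 (.node 1 (.leaf 25458761) (.node 1 (.leaf 19664963) (.leaf 11358281))) (.node 1 (.leaf 17594441) (.node 1 (.leaf 17125449) (.leaf 25456705)))))))
(.node 24 (.node 12 (.node 6 (.node 3 (.node 1 (.leaf 27867211) (.node 1 (.leaf 25499723) (.leaf 11302987))) (.node 1 (.leaf 19165265) (.node 1 (.leaf 9181265) (.leaf 27605081))))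
(.node 3 (.node 1 (.leaf 17643593) (.node 1 (.leaf 9179225) (.leaf 27791449))) (.node 1 (.leaf 8999001) (.node 1 (.leaf 27865177) (.leaf 11343947)))))
(.node 6 (.node 3 (.node 1 (.leaf 27809857) (.node 1 (.leaf 8943689) (.leaf 25497667))) (.node 1 (.leaf 27807817) (.node 1 (.leaf 19216467) (.leaf 9254995))))
(.node 3 (.node 1 (.leaf 25776209) (.node 1 (.leaf 19167313) (.leaf 17109081))) (.node 1 (.leaf 17592409) (.node 1 (.leaf 27603025) (.leaf 25696323))))))
(.node 12 (.node 6 (.node 3 (.node 1 (.leaf 27545689) (.node 1 (.leaf 9252953) (.leaf 17111115))) (.node 1 (.leaf 11360321) (.node 1 (.leaf 11292753) (.leaf 27883601))))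
(.node 3 (.node 1 (.leaf 25505859) (.node 1 (.leaf 17657939) (.leaf 9187409))) (.node 1 (.leaf 25768017) (.node 1 (.leaf 27596867) (.leaf 11096129)))))
(.node 6 (.node 3 (.node 1 (.leaf 27555931) (.node 1 (.leaf 25710683) (.leaf 27553875))) (.node 1 (.leaf 19148881) (.node 1 (.leaf 11081795) (.leaf 19746881))))
(.node 3 (.node 1 (.leaf 8943707) (.node 1 (.leaf 25456713) (.leaf 19667011))) (.node 1 (.leaf 11360329) (.node 1 (.leaf 17592393) (.leaf 17127497)))))))))
(.node 96 (.node 48 (.node 24 (.node 12 (.node 6 (.node 3 (.node 1 (.leaf 17125465) (.node 1 (.leaf 8941649) (.leaf 17594459))) (.node 1 (.leaf 11079755) (.node 1 (.leaf 17576025) (.leaf 25434187))))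
(.node 3 (.node 1 (.leaf 19683393) (.node 1 (.leaf 11014235) (.leaf 27611211))) (.node 1 (.leaf 25718875) (.node 1 (.leaf 27537475) (.leaf 9246801)))))
(.node 6 (.node 3 (.node 1 (.leaf 11016275) (.node 1 (.leaf 9007195) (.leaf 27875419))) (.node 1 (.leaf 11350089) (.node 1 (.leaf 27799619) (.leaf 8935499))))
(.node 3 (.node 1 (.leaf 25522241) (.node 1 (.leaf 27801675) (.leaf 19230801))) (.node 1 (.leaf 25710681) (.node 1 (.leaf 19232841) (.leaf 11022425))))))
(.node 12 (.node 6 (.node 3 (.node 1 (.leaf 19667019) (.node 1 (.leaf 9001025) (.leaf 9244739))) (.node 1 (.leaf 19681353) (.node 1 (.leaf 27539539) (.leaf 17578067))))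
(.node 3 (.node 1 (.leaf 8933457) (.node 1 (.leaf 25524305) (.leaf 25432153))) (.node 1 (.leaf 11366489) (.node 1 (.leaf 8927315) (.leaf 25507923)))))
(.node 6 (.node 3 (.node 1 (.leaf 17649745) (.node 1 (.leaf 11040849) (.leaf 17051715))) (.node 1 (.leaf 8982617) (.node 1 (.leaf 27881561) (.leaf 17651801))))
(.node 3 (.node 1 (.leaf 9205841) (.node 1 (.leaf 19740755) (.leaf 19140673))) (.node 1 (.leaf 27809859) (.node 1 (.leaf 17133657) (.leaf 17569859)))))))
(.node 24 (.node 12 (.node 6 (.node 3 (.node 1 (.leaf 11098201) (.node 1 (.leaf 17135697) (.leaf 11294787))) (.node 1 (.leaf 27594833) (.node 1 (.leaf 9203779) (.leaf 17070145))))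
(.node 3 (.node 1 (.leaf 11276379) (.node 1 (.leaf 25505857) (.leaf 19738715))) (.node 1 (.leaf 11278419) (.node 1 (.leaf 25696321) (.leaf 19224667)))))
(.node 6 (.node 3 (.node 1 (.leaf 11341897) (.node 1 (.leaf 27807811) (.leaf 27865161))) (.node 1 (.leaf 17567819) (.node 1 (.leaf 9261147) (.leaf 19691587))))
(.node 3 (.node 1 (.leaf 19222609) (.node 1 (.leaf 27867227) (.leaf 17053771))) (.node 1 (.leaf 19150939) (.node 1 (.leaf 9189451) (.leaf 19730523))))))
(.node 12 (.node 6 (.node 3 (.node 1 (.leaf 8941651) (.node 1 (.leaf 19732547) (.leaf 27611201))) (.node 1 (.leaf 17659995) (.node 1 (.leaf 9007177) (.leaf 25434179))))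
(.node 3 (.node 1 (.leaf 27875401) (.node 1 (.leaf 25522249) (.leaf 11294793))) (.node 1 (.leaf 11022427) (.node 1 (.leaf 11292761) (.leaf 17657937)))))
(.node 6 (.node 3 (.node 1 (.leaf 25524315) (.node 1 (.leaf 19730507) (.leaf 25505881))) (.node 1 (.leaf 8984651) (.node 1 (.leaf 25450561) (.leaf 17567835))))
(.node 3 (.node 1 (.leaf 11096139) (.node 1 (.leaf 17133659) (.leaf 8925251))) (.node 1 (.leaf 27793489) (.node 1 (.leaf 17569875) (.leaf 9263169))))))))
(.node 48 (.node 24 (.node 12 (.node 6 (.node 3 (.node 1 (.leaf 19689563) (.node 1 (.leaf 17651787) (.leaf 11038785))) (.node 1 (.leaf 11366481) (.node 1 (.leaf 27545681) (.leaf 17594449))))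
(.node 3 (.node 1 (.leaf 9252931) (.node 1 (.leaf 19664985) (.leaf 19230809))) (.node 1 (.leaf 27547737) (.node 1 (.leaf 25786449) (.leaf 27605075)))))
(.node 6 (.node 3 (.node 1 (.leaf 9179201) (.node 1 (.leaf 17061955) (.leaf 11300953))) (.node 1 (.leaf 25499715) (.node 1 (.leaf 19748953) (.leaf 11302993))))
(.node 3 (.node 1 (.leaf 25712707) (.node 1 (.leaf 11079761) (.leaf 25784387))) (.node 1 (.leaf 9271361) (.node 1 (.leaf 25694299) (.leaf 11022401))))))
(.node 12 (.node 6 (.node 3 (.node 1 (.leaf 27603035) (.node 1 (.leaf 25696339) (.leaf 17111105))) (.node 1 (.leaf 11360347) (.node 1 (.leaf 27856969) (.leaf 17059907))))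
(.node 3 (.node 1 (.leaf 19214409) (.node 1 (.leaf 19667017) (.leaf 25497675))) (.node 1 (.leaf 27807835) (.node 1 (.leaf 25458755) (.leaf 11358289)))))
(.node 6 (.node 3 (.node 1 (.leaf 19216475) (.node 1 (.leaf 9254987) (.leaf 9189467))) (.node 1 (.leaf 25770059) (.node 1 (.leaf 27594843) (.leaf 8941643))))
(.node 3 (.node 1 (.leaf 9269339) (.node 1 (.leaf 25696331) (.leaf 11284571))) (.node 1 (.leaf 17635411) (.node 1 (.leaf 9195601) (.leaf 27603011)))))))
(.node 24 (.node 12 (.node 6 (.node 3 (.node 1 (.leaf 9001049) (.node 1 (.leaf 19232849) (.leaf 25694273))) (.node 1 (.leaf 9197635) (.node 1 (.leaf 25784409) (.leaf 27818059))))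
(.node 3 (.node 1 (.leaf 17109057) (.node 1 (.leaf 8933451) (.leaf 19167307))) (.node 1 (.leaf 19746891) (.node 1 (.leaf 27816003) (.leaf 25442377)))))
(.node 6 (.node 3 (.node 1 (.leaf 27859017) (.node 1 (.leaf 9009225) (.leaf 25704539))) (.node 1 (.leaf 19216459) (.node 1 (.leaf 25497691) (.leaf 8941641))))
(.node 3 (.node 1 (.leaf 27809865) (.node 1 (.leaf 11284563) (.leaf 27865171))) (.node 1 (.leaf 9001051) (.node 1 (.leaf 25456715) (.leaf 19165275))))))
(.node 12 (.node 6 (.node 3 (.node 1 (.leaf 9181259) (.node 1 (.leaf 25702465) (.leaf 19214427))) (.node 1 (.leaf 17059921) (.node 1 (.leaf 17641539) (.leaf 11366467))))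
(.node 3 (.node 1 (.leaf 17578057) (.node 1 (.leaf 9246793) (.leaf 27555913))) (.node 1 (.leaf 11038803) (.node 1 (.leaf 27596883) (.leaf 25432139)))))
(.node 6 (.node 3 (.node 1 (.leaf 19681345) (.node 1 (.leaf 19683401) (.leaf 27793475))) (.node 1 (.leaf 25450569) (.node 1 (.leaf 8925267) (.leaf 25505875))))
(.node 3 (.node 1 (.leaf 17651793) (.node 1 (.leaf 11038801) (.leaf 17053763))) (.node 1 (.leaf 8984665) (.node 1 (.leaf 27883609) (.leaf 27881545))))))))))
(.node 192 (.node 96 (.node 48 (.node 24 (.node 12 (.node 6 (.node 3 (.node 1 (.leaf 25507929) (.node 1 (.leaf 8982603) (.leaf 25448513))) (.node 1 (.leaf 9001033) (.node 1 (.leaf 17641555) (.leaf 11022419))))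
(.node 3 (.node 1 (.leaf 27547729) (.node 1 (.leaf 17592401) (.leaf 9254979))) (.node 1 (.leaf 19667033) (.node 1 (.leaf 19232857) (.leaf 27603027)))))
(.node 6 (.node 3 (.node 1 (.leaf 9181249) (.node 1 (.leaf 11303001) (.leaf 19746905))) (.node 1 (.leaf 11300945) (.node 1 (.leaf 25710659) (.leaf 11024475))))
(.node 3 (.node 1 (.leaf 19664969) (.node 1 (.leaf 8998979) (.leaf 25499737))) (.node 1 (.leaf 19748937) (.node 1 (.leaf 17643585) (.leaf 17043539))))))
(.node 12 (.node 6 (.node 3 (.node 1 (.leaf 25522267) (.node 1 (.leaf 19732555) (.leaf 11087937))) (.node 1 (.leaf 27537499) (.node 1 (.leaf 25761875) (.leaf 27611217))))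
(.node 3 (.node 1 (.leaf 9187395) (.node 1 (.leaf 11089993) (.leaf 8935489))) (.node 1 (.leaf 27801683) (.node 1 (.leaf 11276377) (.leaf 27873353)))))
(.node 6 (.node 3 (.node 1 (.leaf 9007187) (.node 1 (.leaf 25434195) (.leaf 27875393))) (.node 1 (.leaf 19148873) (.node 1 (.leaf 17576011) (.leaf 19730521))))
(.node 3 (.node 1 (.leaf 8933449) (.node 1 (.leaf 19165273) (.leaf 9261145))) (.node 1 (.leaf 25720905) (.node 1 (.leaf 17068099) (.leaf 11278425)))))))
(.node 24 (.node 12 (.node 6 (.node 3 (.node 1 (.leaf 9203795) (.node 1 (.leaf 9009243) (.leaf 19214419))) (.node 1 (.leaf 11014225) (.node 1 (.leaf 25718851) (.leaf 9205825))))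
(.node 3 (.node 1 (.leaf 25759835) (.node 1 (.leaf 27791433) (.leaf 17125443))) (.node 1 (.leaf 25507931) (.node 1 (.leaf 8943697) (.leaf 17592411)))))
(.node 6 (.node 3 (.node 1 (.leaf 11081803) (.node 1 (.leaf 27603009) (.leaf 17641563))) (.node 1 (.leaf 9181267) (.node 1 (.leaf 19746897) (.leaf 19148867))))
(.node 3 (.node 1 (.leaf 19730497) (.node 1 (.leaf 27613251) (.leaf 17657945))) (.node 1 (.leaf 9009227) (.node 1 (.leaf 25432129) (.leaf 27873355))))))
(.node 12 (.node 6 (.node 3 (.node 1 (.leaf 25524299) (.node 1 (.leaf 11292747) (.leaf 9007171))) (.node 1 (.leaf 19216457) (.node 1 (.leaf 11016265) (.leaf 11090011))))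
(.node 3 (.node 1 (.leaf 27539531) (.node 1 (.leaf 17043547) (.leaf 19691595))) (.node 1 (.leaf 8982593) (.node 1 (.leaf 19222603) (.leaf 11040843)))))
(.node 6 (.node 3 (.node 1 (.leaf 25710667) (.node 1 (.leaf 19689539) (.leaf 11352137))) (.node 1 (.leaf 17569865) (.node 1 (.leaf 17135689) (.leaf 25784403))))
(.node 3 (.node 1 (.leaf 19142739) (.node 1 (.leaf 19740763) (.leaf 8927307))) (.node 1 (.leaf 19140699) (.node 1 (.leaf 9244763) (.leaf 25448539))))))))
(.node 48 (.node 24 (.node 12 (.node 6 (.node 3 (.node 1 (.leaf 11350107) (.node 1 (.leaf 19208265) (.leaf 9263171))) (.node 1 (.leaf 27555915) (.node 1 (.leaf 17567809) (.leaf 9261131))))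
(.node 3 (.node 1 (.leaf 27867217) (.node 1 (.leaf 17053777) (.leaf 9195603))) (.node 1 (.leaf 11038811) (.node 1 (.leaf 19738707) (.leaf 11278401)))))
(.node 6 (.node 3 (.node 1 (.leaf 17649755) (.node 1 (.leaf 17051739) (.leaf 25696329))) (.node 1 (.leaf 19224643) (.node 1 (.leaf 17125459) (.leaf 11368531))))
(.node 3 (.node 1 (.leaf 17576001) (.node 1 (.leaf 25507907) (.leaf 19206227))) (.node 1 (.leaf 9261139) (.node 1 (.leaf 19159121) (.leaf 11106371))))))
(.node 12 (.node 6 (.node 3 (.node 1 (.leaf 17119321) (.node 1 (.leaf 17567833) (.leaf 27596881))) (.node 1 (.leaf 9263193) (.node 1 (.leaf 17117259) (.leaf 11350081))))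
(.node 3 (.node 1 (.leaf 11284561) (.node 1 (.leaf 27865169) (.leaf 27807833))) (.node 1 (.leaf 11286617) (.node 1 (.leaf 17633361) (.leaf 9197651)))))
(.node 6 (.node 3 (.node 1 (.leaf 27605057) (.node 1 (.leaf 9269315) (.leaf 25696345))) (.node 1 (.leaf 25507905) (.node 1 (.leaf 11276371) (.leaf 19159129))))
(.node 3 (.node 1 (.leaf 9203785) (.node 1 (.leaf 17651795) (.leaf 17133635))) (.node 1 (.leaf 9271385) (.node 1 (.leaf 25694281) (.leaf 25786433)))))))
(.node 24 (.node 12 (.node 6 (.node 3 (.node 1 (.leaf 17043529) (.node 1 (.leaf 19232833) (.leaf 19681363))) (.node 1 (.leaf 27539545) (.node 1 (.leaf 19664971) (.leaf 8998977))))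
(.node 3 (.node 1 (.leaf 27537491) (.node 1 (.leaf 17576019) (.leaf 8935505))) (.node 1 (.leaf 25522257) (.node 1 (.leaf 27801667) (.leaf 25434201)))))
(.node 6 (.node 3 (.node 1 (.leaf 11368537) (.node 1 (.leaf 8933465) (.leaf 11087955))) (.node 1 (.leaf 25761857) (.node 1 (.leaf 9261123) (.leaf 25720921))))
(.node 3 (.node 1 (.leaf 11014211) (.node 1 (.leaf 27611225) (.leaf 25718865))) (.node 1 (.leaf 11081801) (.node 1 (.leaf 17578075) (.leaf 25432137))))))
(.node 12 (.node 6 (.node 3 (.node 1 (.leaf 19681347) (.node 1 (.leaf 11016281) (.leaf 27613257))) (.node 1 (.leaf 27539521) (.node 1 (.leaf 9244755) (.leaf 27596875))))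
(.node 3 (.node 1 (.leaf 19738689) (.node 1 (.leaf 8925275) (.leaf 11096145))) (.node 1 (.leaf 25768003) (.node 1 (.leaf 19740745) (.leaf 17651777)))))
(.node 6 (.node 3 (.node 1 (.leaf 17053779) (.node 1 (.leaf 25694297) (.leaf 19689555))) (.node 1 (.leaf 8984659) (.node 1 (.leaf 19224641) (.leaf 9187401))))
(.node 3 (.node 1 (.leaf 25505867) (.node 1 (.leaf 11278411) (.leaf 19157073))) (.node 1 (.leaf 27594841) (.node 1 (.leaf 17649737) (.leaf 9203801)))))))))
(.node 96 (.node 48 (.node 24 (.node 12 (.node 6 (.node 3 (.node 1 (.leaf 19691611) (.node 1 (.leaf 11350099) (.leaf 17567825))) (.node 1 (.leaf 11292739) (.node 1 (.leaf 17657929) (.leaf 25456707))))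
(.node 3 (.node 1 (.leaf 27867209) (.node 1 (.leaf 25499721) (.leaf 11302985))) (.node 1 (.leaf 19165267) (.node 1 (.leaf 27605083) (.leaf 17643595)))))
(.node 6 (.node 3 (.node 1 (.leaf 9179227) (.node 1 (.leaf 27791451) (.leaf 8999003))) (.node 1 (.leaf 27865179) (.node 1 (.leaf 11343945) (.leaf 8943691))))
(.node 3 (.node 1 (.leaf 25497665) (.node 1 (.leaf 27807819) (.leaf 19216465))) (.node 1 (.leaf 9254993) (.node 1 (.leaf 25776211) (.leaf 19167315))))))
(.node 12 (.node 6 (.node 3 (.node 1 (.leaf 17109083) (.node 1 (.leaf 27545691) (.leaf 9252955))) (.node 1 (.leaf 17111113) (.node 1 (.leaf 11360323) (.leaf 11292755))))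
(.node 3 (.node 1 (.leaf 27883603) (.node 1 (.leaf 11024451) (.leaf 11341907))) (.node 1 (.leaf 27807827) (.node 1 (.leaf 9197649) (.leaf 19757123)))))
(.node 6 (.node 3 (.node 1 (.leaf 25497689) (.node 1 (.leaf 11081809) (.leaf 17127491))) (.node 1 (.leaf 27809881) (.node 1 (.leaf 11284555) (.leaf 27865153))))
(.node 3 (.node 1 (.leaf 25702481) (.node 1 (.leaf 19214417) (.leaf 11016259))) (.node 1 (.leaf 17059929) (.node 1 (.leaf 17641561) (.leaf 25704537)))))))
(.node 24 (.node 12 (.node 6 (.node 3 (.node 1 (.leaf 27529297) (.node 1 (.leaf 25778259) (.leaf 11089985))) (.node 1 (.leaf 17111129) (.node 1 (.leaf 11024449) (.leaf 25694291))))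
(.node 3 (.node 1 (.leaf 9197657) (.node 1 (.leaf 25784393) (.leaf 11081811))) (.node 1 (.leaf 27547731) (.node 1 (.leaf 17061961) (.leaf 11300931)))))
(.node 6 (.node 3 (.node 1 (.leaf 27818073) (.node 1 (.leaf 17109065) (.leaf 19167297))) (.node 1 (.leaf 19746899) (.node 1 (.leaf 9244745) (.leaf 19681369))))
(.node 3 (.node 1 (.leaf 11368513) (.node 1 (.leaf 25448531) (.leaf 8927321))) (.node 1 (.leaf 25507913) (.node 1 (.leaf 19230803) (.leaf 9195593))))))
(.node 12 (.node 6 (.node 3 (.node 1 (.leaf 19755097) (.node 1 (.leaf 11284545) (.leaf 25499731))) (.node 1 (.leaf 17586265) (.node 1 (.leaf 25440331) (.leaf 19673153))))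
(.node 3 (.node 1 (.leaf 19224649) (.node 1 (.leaf 19675209) (.leaf 19746907))) (.node 1 (.leaf 19148891) (.node 1 (.leaf 27793481) (.leaf 11286609)))))
(.node 6 (.node 3 (.node 1 (.leaf 19222611) (.node 1 (.leaf 9271379) (.leaf 11341915))) (.node 1 (.leaf 25456731) (.node 1 (.leaf 25778267) (.leaf 27621459))))
(.node 3 (.node 1 (.leaf 25704529) (.node 1 (.leaf 27859009) (.leaf 17061979))) (.node 1 (.leaf 9009235) (.node 1 (.leaf 27547713) (.leaf 9179219))))))))
(.node 48 (.node 24 (.node 12 (.node 6 (.node 3 (.node 1 (.leaf 27619393) (.node 1 (.leaf 27529305) (.leaf 25702489))) (.node 1 (.leaf 27531345) (.node 1 (.leaf 8935513) (.leaf 25514073))))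
(.node 3 (.node 1 (.leaf 27818049) (.node 1 (.leaf 8933459) (.leaf 27605065))) (.node 1 (.leaf 9195587) (.node 1 (.leaf 25786457) (.leaf 17133643)))))
(.node 6 (.node 3 (.node 1 (.leaf 11343937) (.node 1 (.leaf 17586251) (.leaf 9269323))) (.node 1 (.leaf 27547723) (.node 1 (.leaf 19148889) (.leaf 27856985))))
(.node 3 (.node 1 (.leaf 17059913) (.node 1 (.leaf 9007193) (.leaf 19214401))) (.node 1 (.leaf 19667027) (.node 1 (.leaf 27859025) (.leaf 25516099))))))
(.node 12 (.node 6 (.node 3 (.node 1 (.leaf 27816025) (.node 1 (.leaf 25778249) (.leaf 19165251))) (.node 1 (.leaf 25456723) (.node 1 (.leaf 17657921) (.leaf 25524291))))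
(.node 3 (.node 1 (.leaf 9187417) (.node 1 (.leaf 19732561) (.leaf 8984643))) (.node 1 (.leaf 25450585) (.node 1 (.leaf 8925259) (.leaf 27793483)))))
(.node 6 (.node 3 (.node 1 (.leaf 27539547) (.node 1 (.leaf 25759827) (.leaf 27613265))) (.node 1 (.leaf 9189443) (.node 1 (.leaf 27611203) (.leaf 17659993))))
(.node 3 (.node 1 (.leaf 27596865) (.node 1 (.leaf 11096131) (.leaf 27555929))) (.node 1 (.leaf 19689547) (.node 1 (.leaf 8984641) (.leaf 19224651)))))))
(.node 24 (.node 12 (.node 6 (.node 3 (.node 1 (.leaf 11038795) (.node 1 (.leaf 25712715) (.leaf 17567817))) (.node 1 (.leaf 17133641) (.node 1 (.leaf 19140691) (.leaf 19142747))))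
(.node 3 (.node 1 (.leaf 9246811) (.node 1 (.leaf 27553873) (.leaf 11040859))) (.node 1 (.leaf 27594827) (.node 1 (.leaf 19740737) (.leaf 8927323)))))
(.node 6 (.node 3 (.node 1 (.leaf 11098193) (.node 1 (.leaf 25770051) (.leaf 19746883))) (.node 1 (.leaf 8943705) (.node 1 (.leaf 19667009) (.leaf 11360331))))
(.node 3 (.node 1 (.leaf 17592395) (.node 1 (.leaf 17127499) (.leaf 25497673))) (.node 1 (.leaf 11300937) (.node 1 (.leaf 17641547) (.leaf 9181275))))))
(.node 12 (.node 6 (.node 3 (.node 1 (.leaf 27793499) (.node 1 (.leaf 27809867) (.leaf 9252945))) (.node 1 (.leaf 17111131) (.node 1 (.leaf 9255003) (.leaf 11358275))))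
(.node 3 (.node 1 (.leaf 11294803) (.node 1 (.leaf 27881555) (.leaf 17594457))) (.node 1 (.leaf 11079753) (.node 1 (.leaf 27605059) (.leaf 17643609)))))
(.node 6 (.node 3 (.node 1 (.leaf 9179217) (.node 1 (.leaf 19748947) (.leaf 19150913))) (.node 1 (.leaf 27603019) (.node 1 (.leaf 25696347) (.leaf 27545667))))
(.node 3 (.node 1 (.leaf 25458769) (.node 1 (.leaf 19664977) (.leaf 11014233))) (.node 1 (.leaf 27611209) (.node 1 (.leaf 25718873) (.leaf 27537473)))))))))))
(.node 384 (.node 192 (.node 96 (.node 48 (.node 24 (.node 12 (.node 6 (.node 3 (.node 1 (.leaf 9246803) (.node 1 (.leaf 11016273) (.leaf 27875417))) (.node 1 (.leaf 11350091) (.node 1 (.leaf 27799617) (.leaf 8935497))))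
(.node 3 (.node 1 (.leaf 25522243) (.node 1 (.leaf 27801673) (.leaf 17659971))) (.node 1 (.leaf 19681361) (.node 1 (.leaf 9009233) (.leaf 19214403)))))
(.node 6 (.node 3 (.node 1 (.leaf 9205835) (.node 1 (.leaf 25759809) (.leaf 17119323))) (.node 1 (.leaf 27539537) (.node 1 (.leaf 8933441) (.leaf 19165259))))
(.node 3 (.node 1 (.leaf 11087947) (.node 1 (.leaf 25761867) (.leaf 9261137))) (.node 1 (.leaf 25720913) (.node 1 (.leaf 27881539) (.leaf 17045593))))))
(.node 12 (.node 6 (.node 3 (.node 1 (.leaf 9001041) (.node 1 (.leaf 19732571) (.leaf 17578059))) (.node 1 (.leaf 27856987) (.node 1 (.leaf 17059915) (.leaf 19159131))))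
(.node 3 (.node 1 (.leaf 9203787) (.node 1 (.leaf 11278403) (.leaf 19157075))) (.node 1 (.leaf 11104321) (.node 1 (.leaf 17117275) (.leaf 17569883)))))
(.node 6 (.node 3 (.node 1 (.leaf 19206219) (.node 1 (.leaf 9261121) (.leaf 19732569))) (.node 1 (.leaf 19167321) (.node 1 (.leaf 27816011) (.leaf 11089987))))
(.node 3 (.node 1 (.leaf 27873363) (.node 1 (.leaf 19208273) (.leaf 9263185))) (.node 1 (.leaf 11352153) (.node 1 (.leaf 25770073) (.leaf 25712723)))))))
(.node 24 (.node 12 (.node 6 (.node 3 (.node 1 (.leaf 11040857) (.node 1 (.leaf 27594825) (.leaf 9001027))) (.node 1 (.leaf 19746889) (.node 1 (.leaf 17641537) (.leaf 17045587))))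
(.node 3 (.node 1 (.leaf 25499729) (.node 1 (.leaf 25456729) (.leaf 11360345))) (.node 1 (.leaf 19214411) (.node 1 (.leaf 27547721) (.leaf 17592387)))))
(.node 6 (.node 3 (.node 1 (.leaf 9254985) (.node 1 (.leaf 17578065) (.leaf 25524307))) (.node 1 (.leaf 25432155) (.node 1 (.leaf 11366491) (.leaf 8935515))))
(.node 3 (.node 1 (.leaf 11090001) (.node 1 (.leaf 25759811) (.leaf 11016257))) (.node 1 (.leaf 27613275) (.node 1 (.leaf 25720915) (.leaf 17127489))))))
(.node 12 (.node 6 (.node 3 (.node 1 (.leaf 19730515) (.node 1 (.leaf 19165249) (.leaf 27818051))) (.node 1 (.leaf 17576003) (.node 1 (.leaf 11087961) (.leaf 17111121))))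
(.node 3 (.node 1 (.leaf 11014217) (.node 1 (.leaf 9009217) (.leaf 19150921))) (.node 1 (.leaf 11079769) (.node 1 (.leaf 17651803) (.leaf 9205843)))))
(.node 6 (.node 3 (.node 1 (.leaf 19740753) (.node 1 (.leaf 19140675) (.leaf 17569857))) (.node 1 (.leaf 11098203) (.node 1 (.leaf 17135699) (.leaf 11294785))))
(.node 3 (.node 1 (.leaf 27594835) (.node 1 (.leaf 9203777) (.leaf 17070147))) (.node 1 (.leaf 19738713) (.node 1 (.leaf 11278417) (.leaf 19224665))))))))
(.node 48 (.node 24 (.node 12 (.node 6 (.node 3 (.node 1 (.leaf 11341899) (.node 1 (.leaf 27807809) (.leaf 27865163))) (.node 1 (.leaf 19691585) (.node 1 (.leaf 27867225) (.leaf 17053769))))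
(.node 3 (.node 1 (.leaf 19150937) (.node 1 (.leaf 9189449) (.leaf 27553865))) (.node 1 (.leaf 17068121) (.node 1 (.leaf 11278409) (.leaf 17117273)))))
(.node 6 (.node 3 (.node 1 (.leaf 8919121) (.node 1 (.leaf 25450587) (.leaf 11276355))) (.node 1 (.leaf 19159105) (.node 1 (.leaf 9203803) (.leaf 9271369))))
(.node 3 (.node 1 (.leaf 25694275) (.node 1 (.leaf 27545673) (.leaf 25786441))) (.node 1 (.leaf 11096137) (.node 1 (.leaf 9269313) (.leaf 19675211))))))
(.node 12 (.node 6 (.node 3 (.node 1 (.leaf 27553867) (.node 1 (.leaf 9263179) (.leaf 17117265))) (.node 1 (.leaf 11350097) (.node 1 (.leaf 19689545) (.leaf 19142729))))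
(.node 3 (.node 1 (.leaf 11284547) (.node 1 (.leaf 8925249) (.leaf 19230785))) (.node 1 (.leaf 11024459) (.node 1 (.leaf 17045579) (.leaf 17659979)))))
(.node 6 (.node 3 (.node 1 (.leaf 25710657) (.node 1 (.leaf 17119297) (.leaf 8917067))) (.node 1 (.leaf 19159115) (.node 1 (.leaf 19740747) (.leaf 8990793))))
(.node 3 (.node 1 (.leaf 11032659) (.node 1 (.leaf 25720923) (.leaf 11030619))) (.node 1 (.leaf 8925257) (.node 1 (.leaf 19157083) (.leaf 25718849)))))))
(.node 24 (.node 12 (.node 6 (.node 3 (.node 1 (.leaf 19208283) (.node 1 (.leaf 17068113) (.leaf 17651779))) (.node 1 (.leaf 11343939) (.node 1 (.leaf 17586249) (.leaf 9269321))))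
(.node 3 (.node 1 (.leaf 9197659) (.node 1 (.leaf 25784395) (.leaf 17135707))) (.node 1 (.leaf 17584219) (.node 1 (.leaf 19675203) (.leaf 19673163)))))
(.node 6 (.node 3 (.node 1 (.leaf 25497681) (.node 1 (.leaf 19755073) (.leaf 25499739))) (.node 1 (.leaf 17119307) (.node 1 (.leaf 11352129) (.leaf 27873371))))
(.node 3 (.node 1 (.leaf 17070155) (.node 1 (.leaf 8990811) (.leaf 19206211))) (.node 1 (.leaf 19689553) (.node 1 (.leaf 9197643) (.leaf 19757147))))))
(.node 12 (.node 6 (.node 3 (.node 1 (.leaf 11286595) (.node 1 (.leaf 11343953) (.leaf 27809873))) (.node 1 (.leaf 17127505) (.node 1 (.leaf 8943683) (.leaf 27613259))))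
(.node 3 (.node 1 (.leaf 17643611) (.node 1 (.leaf 19748945) (.leaf 19150915))) (.node 1 (.leaf 9007179) (.node 1 (.leaf 25434177) (.leaf 27875403)))))
(.node 6 (.node 3 (.node 1 (.leaf 25522251) (.node 1 (.leaf 11294795) (.leaf 9009219))) (.node 1 (.leaf 25718857) (.node 1 (.leaf 11087963) (.leaf 27537483))))
(.node 3 (.node 1 (.leaf 25761883) (.node 1 (.leaf 17045595) (.leaf 19683419))) (.node 1 (.leaf 17657931) (.node 1 (.leaf 17061963) (.leaf 27799633)))))))))
(.node 96 (.node 48 (.node 24 (.node 12 (.node 6 (.node 3 (.node 1 (.leaf 19159123) (.node 1 (.leaf 11278427) (.leaf 11090003))) (.node 1 (.leaf 27801691) (.node 1 (.leaf 11276361) (.leaf 27873347))))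
(.node 3 (.node 1 (.leaf 17045585) (.node 1 (.leaf 25524313) (.leaf 19730505))) (.node 1 (.leaf 25759825) (.node 1 (.leaf 27613267) (.leaf 9189441)))))
(.node 6 (.node 3 (.node 1 (.leaf 8933443) (.node 1 (.leaf 25432145) (.leaf 19150923))) (.node 1 (.leaf 27793491) (.node 1 (.leaf 17569873) (.leaf 19689561))))
(.node 3 (.node 1 (.leaf 17651785) (.node 1 (.leaf 11038787) (.leaf 11366483))) (.node 1 (.leaf 27555907) (.node 1 (.leaf 25448529) (.leaf 19691601))))))
(.node 12 (.node 6 (.node 3 (.node 1 (.leaf 11350083) (.node 1 (.leaf 25786443) (.leaf 11286619))) (.node 1 (.leaf 17649729) (.node 1 (.leaf 19738699) (.leaf 19142731))))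
(.node 3 (.node 1 (.leaf 27807825) (.node 1 (.leaf 19230787) (.leaf 9246809))) (.node 1 (.leaf 19683409) (.node 1 (.leaf 27596891) (.leaf 17117249)))))
(.node 6 (.node 3 (.node 1 (.leaf 8992841) (.node 1 (.leaf 25507915) (.leaf 11352145))) (.node 1 (.leaf 19206235) (.node 1 (.leaf 27596889) (.leaf 9205849))))
(.node 3 (.node 1 (.leaf 17068107) (.node 1 (.leaf 19740739) (.leaf 17127507))) (.node 1 (.leaf 17578049) (.node 1 (.leaf 25432131) (.leaf 11079763)))))))
(.node 24 (.node 12 (.node 6 (.node 3 (.node 1 (.leaf 25784385) (.node 1 (.leaf 9271363) (.leaf 11022403))) (.node 1 (.leaf 27603033) (.node 1 (.leaf 25696337) (.leaf 17111107))))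
(.node 3 (.node 1 (.leaf 27856971) (.node 1 (.leaf 17059905) (.leaf 25458753))) (.node 1 (.leaf 11358291) (.node 1 (.leaf 19216473) (.leaf 9189465)))))
(.node 6 (.node 3 (.node 1 (.leaf 25770057) (.node 1 (.leaf 9269337) (.leaf 11284569))) (.node 1 (.leaf 17635409) (.node 1 (.leaf 19232851) (.leaf 9197633))))
(.node 3 (.node 1 (.leaf 25784411) (.node 1 (.leaf 27818057) (.leaf 17109059))) (.node 1 (.leaf 19167305) (.node 1 (.leaf 27816001) (.leaf 25442379))))))
(.node 12 (.node 6 (.node 3 (.node 1 (.leaf 27859019) (.node 1 (.leaf 9181257) (.leaf 25702467))) (.node 1 (.leaf 19214425) (.node 1 (.leaf 17059923) (.leaf 11366465))))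
(.node 3 (.node 1 (.leaf 9246795) (.node 1 (.leaf 17125441) (.leaf 11286593))) (.node 1 (.leaf 17633355) (.node 1 (.leaf 27605067) (.leaf 19673161)))))
(.node 6 (.node 3 (.node 1 (.leaf 27531347) (.node 1 (.leaf 17586259) (.leaf 17641545))) (.node 1 (.leaf 17045577) (.node 1 (.leaf 25710675) (.leaf 9195611))))
(.node 3 (.node 1 (.leaf 17133633) (.node 1 (.leaf 11343963) (.leaf 9269329))) (.node 1 (.leaf 27547715) (.node 1 (.leaf 27859011) (.leaf 25516105))))))))
(.node 48 (.node 24 (.node 12 (.node 6 (.node 3 (.node 1 (.leaf 27816009) (.node 1 (.leaf 11303003) (.leaf 25514075))) (.node 1 (.leaf 25442371) (.node 1 (.leaf 25702491) (.leaf 11016283))))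
(.node 3 (.node 1 (.leaf 11286603) (.node 1 (.leaf 27867201) (.leaf 19222619))) (.node 1 (.leaf 9271371) (.node 1 (.leaf 19673179) (.leaf 11341891)))))
(.node 6 (.node 3 (.node 1 (.leaf 25456721) (.node 1 (.leaf 25776195) (.leaf 11087953))) (.node 1 (.leaf 17109075) (.node 1 (.leaf 17592385) (.leaf 25778251))))
(.node 3 (.node 1 (.leaf 27621467) (.node 1 (.leaf 25704515) (.leaf 17061969))) (.node 1 (.leaf 19730513) (.node 1 (.leaf 11294801) (.leaf 11098187))))))
(.node 12 (.node 6 (.node 3 (.node 1 (.leaf 27553857) (.node 1 (.leaf 11040835) (.leaf 25710673))) (.node 1 (.leaf 27791435) (.node 1 (.leaf 19675217) (.leaf 27529307))))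
(.node 3 (.node 1 (.leaf 17584203) (.node 1 (.leaf 17133649) (.leaf 17586243))) (.node 1 (.leaf 11022411) (.node 1 (.leaf 19757131) (.leaf 27531355)))))
(.node 6 (.node 3 (.node 1 (.leaf 27619409) (.node 1 (.leaf 17135705) (.leaf 8925265))) (.node 1 (.leaf 27621443) (.node 1 (.leaf 17633369) (.leaf 9255001))))
(.node 3 (.node 1 (.leaf 25768025) (.node 1 (.leaf 17584201) (.leaf 17053785))) (.node 1 (.leaf 11286601) (.node 1 (.leaf 11358297) (.leaf 25440345)))))))
(.node 24 (.node 12 (.node 6 (.node 3 (.node 1 (.leaf 8919115) (.node 1 (.leaf 25516097) (.leaf 27856963))) (.node 1 (.leaf 25514057) (.node 1 (.leaf 27531331) (.leaf 25776217))))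
(.node 3 (.node 1 (.leaf 8998993) (.node 1 (.leaf 27865155) (.leaf 9254977))) (.node 1 (.leaf 8917073) (.node 1 (.leaf 25514065) (.leaf 8992859)))))
(.node 6 (.node 3 (.node 1 (.leaf 25516123) (.node 1 (.leaf 25440323) (.leaf 19681371))) (.node 1 (.leaf 11032667) (.node 1 (.leaf 27619403) (.leaf 25778257))))
(.node 3 (.node 1 (.leaf 9007169) (.node 1 (.leaf 19224659) (.leaf 9269331))) (.node 1 (.leaf 19675201) (.node 1 (.leaf 25458779) (.leaf 17051729))))))
(.node 12 (.node 6 (.node 3 (.node 1 (.leaf 17635395) (.node 1 (.leaf 25514049) (.leaf 19755091))) (.node 1 (.leaf 25704523) (.node 1 (.leaf 25778243) (.leaf 27816017))))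
(.node 3 (.node 1 (.leaf 8935491) (.node 1 (.leaf 9252937) (.leaf 27531337))) (.node 1 (.leaf 11030611) (.node 1 (.leaf 25776203) (.leaf 27619419)))))
(.node 6 (.node 3 (.node 1 (.leaf 25440337) (.node 1 (.leaf 27856979) (.leaf 27545665))) (.node 1 (.leaf 25720897) (.node 1 (.leaf 27537481) (.leaf 19142721))))
(.node 3 (.node 1 (.leaf 11096155) (.node 1 (.leaf 25768027) (.leaf 8984667))) (.node 1 (.leaf 9009241) (.node 1 (.leaf 27873369) (.leaf 27801665))))))))))
(.node 192 (.node 96 (.node 48 (.node 24 (.node 12 (.node 6 (.node 3 (.node 1 (.leaf 27799625) (.node 1 (.leaf 8935507) (.leaf 25522259))) (.node 1 (.leaf 25434203) (.node 1 (.leaf 11368539) (.leaf 25505873))))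
(.node 3 (.node 1 (.leaf 17053761) (.node 1 (.leaf 27883611) (.leaf 19738705))) (.node 1 (.leaf 19142723) (.node 1 (.leaf 17133651) (.leaf 11292737)))))
(.node 6 (.node 3 (.node 1 (.leaf 11276369) (.node 1 (.leaf 19222617) (.leaf 17051721))) (.node 1 (.leaf 8982601) (.node 1 (.leaf 25448515) (.leaf 17569881))))
(.node 3 (.node 1 (.leaf 11098185) (.node 1 (.leaf 8927297) (.leaf 27791443))) (.node 1 (.leaf 19691609) (.node 1 (.leaf 17592403) (.leaf 19667035))))))
(.node 12 (.node 6 (.node 3 (.node 1 (.leaf 19232859) (.node 1 (.leaf 9181251) (.leaf 11300947))) (.node 1 (.leaf 25694289) (.node 1 (.leaf 11360339) (.leaf 25768009))))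
(.node 3 (.node 1 (.leaf 9195585) (.node 1 (.leaf 25786459) (.leaf 19165257))) (.node 1 (.leaf 9179209) (.node 1 (.leaf 17061971) (.leaf 9244747)))))
(.node 6 (.node 3 (.node 1 (.leaf 19748939) (.node 1 (.leaf 17643587) (.leaf 17043537))) (.node 1 (.leaf 25497683) (.node 1 (.leaf 11358299) (.leaf 27545675))))
(.node 3 (.node 1 (.leaf 17594433) (.node 1 (.leaf 9252939) (.leaf 8941633))) (.node 1 (.leaf 27809875) (.node 1 (.leaf 9001043) (.leaf 11089995)))))))
(.node 24 (.node 12 (.node 6 (.node 3 (.node 1 (.leaf 27801681) (.node 1 (.leaf 9007185) (.leaf 25434193))) (.node 1 (.leaf 27875395) (.node 1 (.leaf 19148875) (.leaf 17576009))))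
(.node 3 (.node 1 (.leaf 25720907) (.node 1 (.leaf 17068097) (.leaf 9203793))) (.node 1 (.leaf 11014227) (.node 1 (.leaf 9205827) (.leaf 25759833)))))
(.node 6 (.node 3 (.node 1 (.leaf 19683411) (.node 1 (.leaf 17657923) (.leaf 27816019))) (.node 1 (.leaf 17111123) (.node 1 (.leaf 19208257) (.leaf 9263195))))
(.node 3 (.node 1 (.leaf 19691603) (.node 1 (.leaf 19206217) (.leaf 11030617))) (.node 1 (.leaf 19216451) (.node 1 (.leaf 27856961) (.leaf 17059931))))))
(.node 12 (.node 6 (.node 3 (.node 1 (.leaf 27799643) (.node 1 (.leaf 19159113) (.leaf 25524297))) (.node 1 (.leaf 11081819) (.node 1 (.leaf 25524289) (.leaf 25704521))))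
(.node 3 (.node 1 (.leaf 25778241) (.node 1 (.leaf 17070153) (.leaf 8990809))) (.node 1 (.leaf 19206209) (.node 1 (.leaf 17117267) (.leaf 8992843)))))
(.node 6 (.node 3 (.node 1 (.leaf 11030609) (.node 1 (.leaf 11032665) (.leaf 19738697))) (.node 1 (.leaf 8917075) (.node 1 (.leaf 27859035) (.leaf 25776219))))
(.node 3 (.node 1 (.leaf 27619411) (.node 1 (.leaf 17117251) (.leaf 8919113))) (.node 1 (.leaf 19157065) (.node 1 (.leaf 17070171) (.leaf 11276363))))))))
(.node 48 (.node 24 (.node 12 (.node 6 (.node 3 (.node 1 (.leaf 27883585) (.node 1 (.leaf 8927299) (.leaf 27791441))) (.node 1 (.leaf 19148865) (.node 1 (.leaf 19667025) (.leaf 25768011))))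
(.node 3 (.node 1 (.leaf 11022409) (.node 1 (.leaf 11079771) (.leaf 25458777))) (.node 1 (.leaf 11300929) (.node 1 (.leaf 19167299) (.leaf 11292745)))))
(.node 6 (.node 3 (.node 1 (.leaf 11016267) (.node 1 (.leaf 11090009) (.leaf 27539529))) (.node 1 (.leaf 17043545) (.node 1 (.leaf 17659977) (.leaf 11352147))))
(.node 3 (.node 1 (.leaf 27799641) (.node 1 (.leaf 27856977) (.leaf 27621441))) (.node 1 (.leaf 19732563) (.node 1 (.leaf 25702473) (.leaf 17578051))))))
(.node 12 (.node 6 (.node 3 (.node 1 (.leaf 17109073) (.node 1 (.leaf 27883587) (.leaf 25448537))) (.node 1 (.leaf 11350105) (.node 1 (.leaf 19208267) (.leaf 17567811))))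
(.node 3 (.node 1 (.leaf 9261129) (.node 1 (.leaf 27867219) (.leaf 17649753))) (.node 1 (.leaf 17051737) (.node 1 (.leaf 17125457) (.leaf 11368529)))))
(.node 6 (.node 3 (.node 1 (.leaf 19206225) (.node 1 (.leaf 11106369) (.leaf 17117257))) (.node 1 (.leaf 17633363) (.node 1 (.leaf 9271387) (.leaf 25694283))))
(.node 3 (.node 1 (.leaf 25786435) (.node 1 (.leaf 17043531) (.leaf 19232835))) (.node 1 (.leaf 27881553) (.node 1 (.leaf 19157067) (.leaf 11104347)))))))
(.node 24 (.node 12 (.node 6 (.node 3 (.node 1 (.leaf 8990787) (.node 1 (.leaf 11096153) (.leaf 17119315))) (.node 1 (.leaf 27873361) (.node 1 (.leaf 17070161) (.leaf 19206233))))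
(.node 3 (.node 1 (.leaf 19757137) (.node 1 (.leaf 11286611) (.leaf 19140689))) (.node 1 (.leaf 19755075) (.node 1 (.leaf 17633371) (.leaf 19157057)))))
(.node 6 (.node 3 (.node 1 (.leaf 9205851) (.node 1 (.leaf 19208259) (.leaf 11032649))) (.node 1 (.leaf 17068105) (.node 1 (.leaf 8984657) (.leaf 11343955))))
(.node 3 (.node 1 (.leaf 17586241) (.node 1 (.leaf 8941635) (.leaf 11030595))) (.node 1 (.leaf 27873345) (.node 1 (.leaf 8990803) (.leaf 27555905))))))
(.node 12 (.node 6 (.node 3 (.node 1 (.leaf 8919129) (.node 1 (.leaf 11104329) (.leaf 19224657))) (.node 1 (.leaf 8992857) (.node 1 (.leaf 25759817) (.leaf 19157059))))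
(.node 3 (.node 1 (.leaf 17051731) (.node 1 (.leaf 17635393) (.leaf 25514051))) (.node 1 (.leaf 19757145) (.node 1 (.leaf 9195609) (.leaf 19755089)))))
(.node 6 (.node 3 (.node 1 (.leaf 19673177) (.node 1 (.leaf 11341889) (.leaf 25516121))) (.node 1 (.leaf 19755081) (.node 1 (.leaf 17635419) (.leaf 11024457))))
(.node 3 (.node 1 (.leaf 17584209) (.node 1 (.leaf 27603017) (.leaf 17649731))) (.node 1 (.leaf 11106387) (.node 1 (.leaf 8917057) (.leaf 19222593)))))))))
(.node 96 (.node 48 (.node 24 (.node 12 (.node 6 (.node 3 (.node 1 (.leaf 19673171) (.node 1 (.leaf 27531353) (.leaf 17584193))) (.node 1 (.leaf 17635401) (.node 1 (.leaf 27799635) (.leaf 17594435))))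
(.node 3 (.node 1 (.leaf 8933467) (.node 1 (.leaf 25761859) (.leaf 11014209))) (.node 1 (.leaf 27611227) (.node 1 (.leaf 25718867) (.leaf 17061977)))))
(.node 6 (.node 3 (.node 1 (.leaf 27875411) (.node 1 (.leaf 11081817) (.leaf 25776193))) (.node 1 (.leaf 19167323) (.node 1 (.leaf 8990795) (.leaf 17119299))))
(.node 3 (.node 1 (.leaf 9263187) (.node 1 (.leaf 27539523) (.leaf 9244753))) (.node 1 (.leaf 27799627) (.node 1 (.leaf 19216449) (.leaf 8998995))))))
(.node 12 (.node 6 (.node 3 (.node 1 (.leaf 9187403) (.node 1 (.leaf 25505865) (.leaf 17649739))) (.node 1 (.leaf 17567827) (.node 1 (.leaf 25450579) (.leaf 27553859))))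
(.node 3 (.node 1 (.leaf 9205833) (.node 1 (.leaf 17068115) (.leaf 27809883))) (.node 1 (.leaf 25458771) (.node 1 (.leaf 17584217) (.leaf 25450577)))))
(.node 6 (.node 3 (.node 1 (.leaf 11352131) (.node 1 (.leaf 9197641) (.leaf 27793497))) (.node 1 (.leaf 11032643) (.node 1 (.leaf 8917081) (.leaf 11040833))))
(.node 3 (.node 1 (.leaf 27801689) (.node 1 (.leaf 17119305) (.leaf 11104339))) (.node 1 (.leaf 11341905) (.node 1 (.leaf 19757121) (.leaf 11284553)))))))
(.node 24 (.node 12 (.node 6 (.node 3 (.node 1 (.leaf 25702483) (.node 1 (.leaf 27529299) (.leaf 27818075))) (.node 1 (.leaf 17109067) (.node 1 (.leaf 11368515) (.leaf 9195595))))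
(.node 3 (.node 1 (.leaf 19755099) (.node 1 (.leaf 17586267) (.leaf 25440329))) (.node 1 (.leaf 19673155) (.node 1 (.leaf 9271377) (.leaf 11341913)))))
(.node 6 (.node 3 (.node 1 (.leaf 25778265) (.node 1 (.leaf 27621457) (.leaf 25704531))) (.node 1 (.leaf 27619395) (.node 1 (.leaf 27859027) (.leaf 27816027))))
(.node 3 (.node 1 (.leaf 9187419) (.node 1 (.leaf 25712721) (.leaf 17584195))) (.node 1 (.leaf 25442369) (.node 1 (.leaf 19675227) (.leaf 8943681))))))
(.node 12 (.node 6 (.node 3 (.node 1 (.leaf 17635417) (.node 1 (.leaf 25440321) (.leaf 25514059))) (.node 1 (.leaf 11360337) (.node 1 (.leaf 27881537) (.leaf 19675225))))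
(.node 3 (.node 1 (.leaf 19140681) (.node 1 (.leaf 9252947) (.leaf 27531329))) (.node 1 (.leaf 27621465) (.node 1 (.leaf 27619401) (.leaf 11087945)))))
(.node 6 (.node 3 (.node 1 (.leaf 17135681) (.node 1 (.leaf 17584211) (.leaf 19757139))) (.node 1 (.leaf 27619417) (.node 1 (.leaf 17633345) (.leaf 11014219))))
(.node 3 (.node 1 (.leaf 11358273) (.node 1 (.leaf 25440339) (.leaf 25776201))) (.node 1 (.leaf 8982609) (.node 1 (.leaf 11098195) (.leaf 25770075))))))))
(.node 48 (.node 24 (.node 12 (.node 6 (.node 3 (.node 1 (.leaf 27621449) (.node 1 (.leaf 17633347) (.leaf 19222595))) (.node 1 (.leaf 11038793) (.node 1 (.leaf 25514067) (.leaf 27859033))))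
(.node 3 (.node 1 (.leaf 8917065) (.node 1 (.leaf 8919123) (.leaf 25516115))) (.node 1 (.leaf 25442395) (.node 1 (.leaf 9179211) (.leaf 19140683)))))
(.node 6 (.node 3 (.node 1 (.leaf 17135683) (.node 1 (.leaf 11300939) (.leaf 27531339))) (.node 1 (.leaf 19208275) (.node 1 (.leaf 27529281) (.leaf 8992835))))
(.node 3 (.node 1 (.leaf 19157081) (.node 1 (.leaf 27613273) (.leaf 11106377))) (.node 1 (.leaf 19755083) (.node 1 (.leaf 11032657) (.leaf 27529291))))))
(.node 12 (.node 6 (.node 3 (.node 1 (.leaf 11302977) (.node 1 (.leaf 27818067) (.leaf 9181273))) (.node 1 (.leaf 25442387) (.node 1 (.leaf 25704513) (.leaf 27867203))))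
(.node 3 (.node 1 (.leaf 27875409) (.node 1 (.leaf 19142745) (.leaf 25718859))) (.node 1 (.leaf 25761881) (.node 1 (.leaf 25712713) (.leaf 9263177)))))
(.node 6 (.node 3 (.node 1 (.leaf 25770049) (.node 1 (.leaf 11343961) (.leaf 19664979))) (.node 1 (.leaf 11302979) (.node 1 (.leaf 17659969) (.leaf 25761865))))
(.node 3 (.node 1 (.leaf 11104323) (.node 1 (.leaf 11352155) (.leaf 25432147))) (.node 1 (.leaf 25702475) (.node 1 (.leaf 8919107) (.leaf 11104331)))))))
(.node 24 (.node 12 (.node 6 (.node 3 (.node 1 (.leaf 27529283) (.node 1 (.leaf 17070169) (.leaf 8990801))) (.node 1 (.leaf 25720899) (.node 1 (.leaf 27818065) (.leaf 11106385))))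
(.node 3 (.node 1 (.leaf 17119313) (.node 1 (.leaf 8917059) (.leaf 11032651))) (.node 1 (.leaf 8917083) (.node 1 (.leaf 11106379) (.leaf 8992833)))))
(.node 6 (.node 3 (.node 1 (.leaf 25442393) (.node 1 (.leaf 11032641) (.leaf 8992849))) (.node 1 (.leaf 11106393) (.node 1 (.leaf 8982611) (.leaf 19683417))))
(.node 3 (.node 1 (.leaf 11276353) (.node 1 (.leaf 27529289) (.leaf 25516113))) (.node 1 (.leaf 17068123) (.node 1 (.leaf 19159107) (.leaf 19208281))))))
(.node 12 (.node 6 (.node 3 (.node 1 (.leaf 8992851) (.node 1 (.leaf 11030601) (.leaf 17053787))) (.node 1 (.leaf 11030603) (.node 1 (.leaf 8919105) (.leaf 11104337))))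
(.node 3 (.node 1 (.leaf 17051723) (.node 1 (.leaf 17635403) (.leaf 19673169))) (.node 1 (.leaf 27621451) (.node 1 (.leaf 8919131) (.leaf 11030593)))))
(.node 6 (.node 3 (.node 1 (.leaf 25759819) (.node 1 (.leaf 17070163) (.leaf 17633353))) (.node 1 (.leaf 17586257) (.node 1 (.leaf 25516107) (.leaf 19675219))))
(.node 3 (.node 1 (.leaf 19757129) (.node 1 (.leaf 25440347) (.leaf 25442385))) (.node 1 (.leaf 8990785) (.node 1 (.leaf 11106395) (.leaf 11104345))))))))))))

/-- Its index. -/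
def twoIx : BT ℕ :=
(.node 19140673 236
(.node 11276353 1506
(.node 9244737 41
(.node 8998977 533
(.node 8941633 1196
(.node 8927297 1171
(.node 8919121 876
(.node 8917081 1384
(.node 8917067 902 (.node 8917059 1495 (.node 8917057 1342 .tip .tip) (.node 8917065 1446 .tip .tip)) (.node 8917075 1239 (.node 8917073 1113 .tip .tip) .tip))
(.node 8919107 1486 (.node 8919105 1516 (.node 8917083 1497 .tip .tip) .tip) (.node 8919115 1104 (.node 8919113 1244 .tip .tip) .tip)))
(.node 8925257 909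
(.node 8919131 1522 (.node 8919129 1320 (.node 8919123 1447 .tip .tip) .tip) (.node 8925251 284 (.node 8925249 895 .tip .tip) .tip))
(.node 8925267 376 (.node 8925265 1094 (.node 8925259 706 .tip .tip) .tip) (.node 8925275 559 (.node 8925273 133 .tip .tip) .tip))))
(.node 8933457 222
(.node 8927321 644
(.node 8927307 476 (.node 8927305 117 (.node 8927299 1249 .tip .tip) .tip) (.node 8927315 226 (.node 8927313 45 .tip .tip) .tip))
(.node 8933443 972 (.node 8933441 784 (.node 8927323 731 .tip .tip) .tip) (.node 8933451 343 (.node 8933449 426 .tip .tip) .tip)))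
(.node 8935497 773
(.node 8933467 1350 (.node 8933465 541 (.node 8933459 679 .tip .tip) .tip) (.node 8935491 1134 (.node 8935489 416 .tip .tip) .tip))
(.node 8935507 1153 (.node 8935505 536 (.node 8935499 209 .tip .tip) .tip) (.node 8935515 833 (.node 8935513 676 .tip .tip) .tip)))))
(.node 8984641 718
(.node 8943697 442
(.node 8941657 26
(.node 8941643 329 (.node 8941641 353 (.node 8941635 1315 .tip .tip) .tip) (.node 8941651 264 (.node 8941649 193 .tip .tip) .tip))
(.node 8943683 940 (.node 8943681 1415 (.node 8941659 137 .tip .tip) .tip) (.node 8943691 593 (.node 8943689 157 .tip .tip) .tip)))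
(.node 8982601 1167
(.node 8943707 186 (.node 8943705 735 (.node 8943699 97 .tip .tip) .tip) (.node 8982595 106 (.node 8982593 465 .tip .tip) .tip))
(.node 8982611 1504 (.node 8982609 1437 (.node 8982603 385 .tip .tip) .tip) (.node 8982619 50 (.node 8982617 231 .tip .tip) .tip))))
(.node 8990801 1490
(.node 8984665 381
(.node 8984651 279 (.node 8984649 57 (.node 8984643 704 .tip .tip) .tip) (.node 8984659 567 (.node 8984657 1312 .tip .tip) .tip))
(.node 8990787 1296 (.node 8990785 1533 (.node 8984667 1148 .tip .tip) .tip) (.node 8990795 1360 (.node 8990793 905 .tip .tip) .tip)))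
(.node 8992841 996
(.node 8990811 931 (.node 8990809 1232 (.node 8990803 1318 .tip .tip) .tip) (.node 8992835 1457 (.node 8992833 1499 .tip .tip) .tip))
(.node 8992851 1512 (.node 8992849 1502 (.node 8992843 1235 .tip .tip) .tip) (.node 8992859 1115 (.node 8992857 1323 .tip .tip) .tip))))))
(.node 9187393 95
(.node 9009217 847
(.node 9001041 792
(.node 8999001 153
(.node 8998987 59 (.node 8998985 9 (.node 8998979 403 .tip .tip) .tip) (.node 8998995 1367 (.node 8998993 1110 .tip .tip) .tip))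
(.node 9001027 818 (.node 9001025 217 (.node 8999003 590 .tip .tip) .tip) (.node 9001035 82 (.node 9001033 387 .tip .tip) .tip)))
(.node 9007177 268
(.node 9001051 357 (.node 9001049 336 (.node 9001043 1198 .tip .tip) .tip) (.node 9007171 458 (.node 9007169 1122 .tip .tip) .tip))
(.node 9007187 420 (.node 9007185 1201 (.node 9007179 945 .tip .tip) .tip) (.node 9007195 205 (.node 9007193 691 .tip .tip) .tip))))
(.node 9179217 756
(.node 9009241 1149
(.node 9009227 453 (.node 9009225 349 (.node 9009219 950 .tip .tip) .tip) (.node 9009235 669 (.node 9009233 778 .tip .tip) .tip))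
(.node 9179203 70 (.node 9179201 300 (.node 9009243 433 .tip .tip) .tip) (.node 9179211 1450 (.node 9179209 1185 .tip .tip) .tip)))
(.node 9181257 1033
(.node 9179227 588 (.node 9179225 151 (.node 9179219 671 .tip .tip) .tip) (.node 9181251 1177 (.node 9181249 396 .tip .tip) .tip))
(.node 9181267 447 (.node 9181265 148 (.node 9181259 360 .tip .tip) .tip) (.node 9181275 743 (.node 9181273 1466 .tip .tip) .tip)))))
(.node 9197633 1025
(.node 9189457 98
(.node 9187417 702
(.node 9187403 1368 (.node 9187401 569 (.node 9187395 414 .tip .tip) .tip) (.node 9187411 52 (.node 9187409 176 .tip .tip) .tip))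
(.node 9189443 711 (.node 9189441 971 (.node 9187419 1410 .tip .tip) .tip) (.node 9189451 262 (.node 9189449 871 .tip .tip) .tip)))
(.node 9195593 647
(.node 9189467 326 (.node 9189465 1019 (.node 9189459 15 .tip .tip) .tip) (.node 9195587 681 (.node 9195585 1182 .tip .tip) .tip))
(.node 9195603 488 (.node 9195601 334 (.node 9195595 1397 .tip .tip) .tip) (.node 9195611 1049 (.node 9195609 1330 .tip .tip) .tip))))
(.node 9203793 1208
(.node 9197657 630
(.node 9197643 934 (.node 9197641 1381 (.node 9197635 339 .tip .tip) .tip) (.node 9197651 515 (.node 9197649 610 .tip .tip) .tip))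
(.node 9203779 244 (.node 9203777 859 (.node 9197659 918 .tip .tip) .tip) (.node 9203787 798 (.node 9203785 522 .tip .tip) .tip)))
(.node 9205833 1374
(.node 9203803 880 (.node 9203801 575 (.node 9203795 432 .tip .tip) .tip) (.node 9205827 1210 (.node 9205825 437 .tip .tip) .tip))
(.node 9205843 851 (.node 9205841 234 (.node 9205835 780 .tip .tip) .tip) (.node 9205851 1308 (.node 9205849 1001 .tip .tip) .tip)))))))
(.node 11030593 1523
(.node 9269313 886
(.node 9254977 1112
(.node 9246801 203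
(.node 9244761 119
(.node 9244747 1187 (.node 9244745 640 (.node 9244739 218 .tip .tip) .tip) (.node 9244755 556 (.node 9244753 1364 .tip .tip) .tip))
(.node 9246787 20 (.node 9246785 121 (.node 9244763 478 .tip .tip) .tip) (.node 9246795 1038 (.node 9246793 367 .tip .tip) .tip)))
(.node 9252937 1135
(.node 9246811 726 (.node 9246809 992 (.node 9246803 768 .tip .tip) .tip) (.node 9252931 294 (.node 9252929 64 .tip .tip) .tip))
(.node 9252947 1423 (.node 9252945 746 (.node 9252939 1195 .tip .tip) .tip) (.node 9252955 602 (.node 9252953 169 .tip .tip) .tip))))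
(.node 9261137 788
(.node 9255001 1097
(.node 9254987 325 (.node 9254985 828 (.node 9254979 392 .tip .tip) .tip) (.node 9254995 161 (.node 9254993 597 .tip .tip) .tip))
(.node 9261123 544 (.node 9261121 805 (.node 9255003 748 .tip .tip) .tip) (.node 9261131 485 (.node 9261129 1278 .tip .tip) .tip)))
(.node 9263177 1475
(.node 9261147 256 (.node 9261145 428 (.node 9261139 501 .tip .tip) .tip) (.node 9263171 482 (.node 9263169 287 .tip .tip) .tip))
(.node 9263187 1362 (.node 9263185 812 (.node 9263179 889 .tip .tip) .tip) (.node 9263195 1217 (.node 9263193 507 .tip .tip) .tip)))))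
(.node 11016257 836
(.node 9271377 1402
(.node 9269337 1021
(.node 9269323 686 (.node 9269321 917 (.node 9269315 517 .tip .tip) .tip) (.node 9269331 1124 (.node 9269329 1052 .tip .tip) .tip))
(.node 9271363 1009 (.node 9271361 309 (.node 9269339 330 .tip .tip) .tip) (.node 9271371 1065 (.node 9271369 881 .tip .tip) .tip)))
(.node 11014217 846
(.node 9271387 1288 (.node 9271385 525 (.node 9271379 661 .tip .tip) .tip) (.node 11014211 546 (.node 11014209 1352 .tip .tip) .tip))
(.node 11014227 1209 (.node 11014225 435 (.node 11014219 1433 .tip .tip) .tip) (.node 11014235 199 (.node 11014233 764 .tip .tip) .tip))))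
(.node 11022417 84
(.node 11016281 553
(.node 11016267 1260 (.node 11016265 460 (.node 11016259 620 .tip .tip) .tip) (.node 11016275 204 (.node 11016273 769 .tip .tip) .tip))
(.node 11022403 1010 (.node 11022401 311 (.node 11016283 1061 .tip .tip) .tip) (.node 11022411 1089 (.node 11022409 1254 .tip .tip) .tip)))
(.node 11024457 1337
(.node 11022427 273 (.node 11022425 215 (.node 11022419 389 .tip .tip) .tip) (.node 11024451 607 (.node 11024449 628 .tip .tip) .tip))
(.node 11024467 11 (.node 11024465 61 (.node 11024459 897 .tip .tip) .tip) (.node 11024475 401 (.node 11024473 86 .tip .tip) .tip))))))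
(.node 11087937 410
(.node 11040833 1385
(.node 11032657 1462
(.node 11030617 1220
(.node 11030603 1515 (.node 11030601 1513 (.node 11030595 1316 .tip .tip) .tip) (.node 11030611 1137 (.node 11030609 1236 .tip .tip) .tip))
(.node 11032643 1383 (.node 11032641 1501 (.node 11030619 908 .tip .tip) .tip) (.node 11032651 1496 (.node 11032649 1310 .tip .tip) .tip)))
(.node 11038793 1443
(.node 11032667 1119 (.node 11032665 1237 (.node 11032659 906 .tip .tip) .tip) (.node 11038787 979 (.node 11038785 290 .tip .tip) .tip))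
(.node 11038803 369 (.node 11038801 379 (.node 11038795 720 .tip .tip) .tip) (.node 11038811 489 (.node 11038809 130 .tip .tip) .tip))))
(.node 11079761 307
(.node 11040857 816
(.node 11040843 467 (.node 11040841 108 (.node 11040835 1081 .tip .tip) .tip) (.node 11040851 48 (.node 11040849 229 .tip .tip) .tip))
(.node 11079747 3 (.node 11079745 24 (.node 11040859 728 .tip .tip) .tip) (.node 11079755 195 (.node 11079753 753 .tip .tip) .tip)))
(.node 11081801 549
(.node 11079771 1255 (.node 11079769 849 (.node 11079763 1007 .tip .tip) .tip) (.node 11081795 184 (.node 11081793 34 .tip .tip) .tip))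
(.node 11081811 632 (.node 11081809 613 (.node 11081803 444 .tip .tip) .tip) (.node 11081819 1227 (.node 11081817 1357 .tip .tip) .tip)))))
(.node 11098177 103
(.node 11090001 834
(.node 11087961 844
(.node 11087947 786 (.node 11087945 1427 (.node 11087939 91 .tip .tip) .tip) (.node 11087955 542 (.node 11087953 1070 .tip .tip) .tip))
(.node 11089987 809 (.node 11089985 626 (.node 11087963 952 .tip .tip) .tip) (.node 11089995 1199 (.node 11089993 415 .tip .tip) .tip)))
(.node 11096137 885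
(.node 11090011 461 (.node 11090009 1261 (.node 11090003 962 .tip .tip) .tip) (.node 11096131 715 (.node 11096129 179 .tip .tip) .tip))
(.node 11096147 134 (.node 11096145 560 (.node 11096139 282 .tip .tip) .tip) (.node 11096155 1146 (.node 11096153 1297 .tip .tip) .tip))))
(.node 11104337 1517
(.node 11098201 240
(.node 11098187 1079 (.node 11098185 1170 (.node 11098179 18 .tip .tip) .tip) (.node 11098195 1438 (.node 11098193 732 .tip .tip) .tip))
(.node 11104323 1482 (.node 11104321 801 (.node 11098203 855 .tip .tip) .tip) (.node 11104331 1487 (.node 11104329 1321 .tip .tip) .tip)))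
(.node 11106377 1460
(.node 11104347 1295 (.node 11104345 1535 (.node 11104339 1388 .tip .tip) .tip) (.node 11106371 503 (.node 11106369 1285 .tip .tip) .tip))
(.node 11106387 1341 (.node 11106385 1493 (.node 11106379 1498 .tip .tip) .tip) (.node 11106395 1534 (.node 11106393 1503 .tip .tip) .tip))))))))
(.node 17109057 342
(.node 11358273 1434
(.node 11300929 1257
(.node 11286593 1040
(.node 11278417 862
(.node 11276377 418
(.node 11276363 1247 (.node 11276361 964 (.node 11276355 878 .tip .tip) .tip) (.node 11276371 520 (.node 11276369 1164 .tip .tip) .tip))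
(.node 11278403 799 (.node 11278401 491 (.node 11276379 246 .tip .tip) .tip) (.node 11278411 571 (.node 11278409 874 .tip .tip) .tip)))
(.node 11284553 1391
(.node 11278427 961 (.node 11278425 431 (.node 11278419 249 .tip .tip) .tip) (.node 11284547 894 (.node 11284545 649 .tip .tip) .tip))
(.node 11284563 355 (.node 11284561 510 (.node 11284555 616 .tip .tip) .tip) (.node 11284571 332 (.node 11284569 1022 .tip .tip) .tip))))
(.node 11292753 172
(.node 11286617 513
(.node 11286603 1062 (.node 11286601 1101 (.node 11286595 936 .tip .tip) .tip) (.node 11286611 1303 (.node 11286609 659 .tip .tip) .tip))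
(.node 11292739 579 (.node 11292737 1163 (.node 11286619 986 .tip .tip) .tip) (.node 11292747 457 (.node 11292745 1259 .tip .tip) .tip)))
(.node 11294793 272
(.node 11292763 54 (.node 11292761 274 (.node 11292755 605 .tip .tip) .tip) (.node 11294787 242 (.node 11294785 857 .tip .tip) .tip))
(.node 11294803 750 (.node 11294801 1078 (.node 11294795 949 .tip .tip) .tip) (.node 11294811 87 (.node 11294809 13 .tip .tip) .tip)))))
(.node 11343937 684
(.node 11302993 305
(.node 11300953 302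
(.node 11300939 1453 (.node 11300937 741 (.node 11300931 635 .tip .tip) .tip) (.node 11300947 1178 (.node 11300945 399 .tip .tip) .tip))
(.node 11302979 1479 (.node 11302977 1464 (.node 11300955 72 .tip .tip) .tip) (.node 11302987 146 (.node 11302985 584 .tip .tip) .tip)))
(.node 11341897 252
(.node 11303003 1057 (.node 11303001 397 (.node 11302995 75 .tip .tip) .tip) (.node 11341891 1067 (.node 11341889 1333 .tip .tip) .tip))
(.node 11341907 608 (.node 11341905 1389 (.node 11341899 864 .tip .tip) .tip) (.node 11341915 662 (.node 11341913 1403 .tip .tip) .tip))))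
(.node 11350097 891
(.node 11343961 1477
(.node 11343947 155 (.node 11343945 592 (.node 11343939 915 .tip .tip) .tip) (.node 11343955 1313 (.node 11343953 937 .tip .tip) .tip))
(.node 11350083 984 (.node 11350081 509 (.node 11343963 1051 .tip .tip) .tip) (.node 11350091 771 (.node 11350089 207 .tip .tip) .tip)))
(.node 11352137 470
(.node 11350107 480 (.node 11350105 1275 (.node 11350099 577 .tip .tip) .tip) (.node 11352131 1380 (.node 11352129 928 .tip .tip) .tip))
(.node 11352147 1265 (.node 11352145 998 (.node 11352139 111 .tip .tip) .tip) (.node 11352155 1483 (.node 11352153 813 .tip .tip) .tip))))))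
(.node 17051713 49
(.node 11368513 642
(.node 11360337 1419
(.node 11358297 1102
(.node 11358283 29 (.node 11358281 140 (.node 11358275 749 .tip .tip) .tip) (.node 11358291 1017 (.node 11358289 323 .tip .tip) .tip))
(.node 11360323 604 (.node 11360321 171 (.node 11358299 1192 .tip .tip) .tip) (.node 11360331 737 (.node 11360329 189 .tip .tip) .tip)))
(.node 11366473 126
(.node 11360347 315 (.node 11360345 824 (.node 11360339 1180 .tip .tip) .tip) (.node 11366467 365 (.node 11366465 1037 .tip .tip) .tip))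
(.node 11366483 980 (.node 11366481 291 (.node 11366475 77 .tip .tip) .tip) (.node 11366491 832 (.node 11366489 225 .tip .tip) .tip))))
(.node 17043537 1190
(.node 11368537 540
(.node 11368523 36 (.node 11368521 4 (.node 11368515 1396 .tip .tip) .tip) (.node 11368531 497 (.node 11368529 1283 .tip .tip) .tip))
(.node 17043523 8 (.node 17043521 0 (.node 11368539 1156 .tip .tip) .tip) (.node 17043531 1291 (.node 17043529 528 .tip .tip) .tip)))
(.node 17045577 1047
(.node 17043547 463 (.node 17043545 1263 (.node 17043539 407 .tip .tip) .tip) (.node 17045571 12 (.node 17045569 81 .tip .tip) .tip))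
(.node 17045587 821 (.node 17045585 966 (.node 17045579 898 .tip .tip) .tip) (.node 17045595 955 (.node 17045593 791 .tip .tip) .tip)))))
(.node 17061953 71
(.node 17053777 487
(.node 17051737 1281
(.node 17051723 1518 (.node 17051721 1166 (.node 17051715 230 .tip .tip) .tip) (.node 17051731 1326 (.node 17051729 1127 .tip .tip) .tip))
(.node 17053763 380 (.node 17053761 1158 (.node 17051739 493 .tip .tip) .tip) (.node 17053771 260 (.node 17053769 869 .tip .tip) .tip)))
(.node 17059913 690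
(.node 17053787 1514 (.node 17053785 1100 (.node 17053779 564 .tip .tip) .tip) (.node 17059907 317 (.node 17059905 1015 .tip .tip) .tip))
(.node 17059923 1036 (.node 17059921 363 (.node 17059915 796 .tip .tip) .tip) (.node 17059931 1223 (.node 17059929 621 .tip .tip) .tip))))
(.node 17068113 913
(.node 17061977 1355
(.node 17061963 958 (.node 17061961 634 (.node 17061955 301 .tip .tip) .tip) (.node 17061971 1186 (.node 17061969 1076 .tip .tip) .tip))
(.node 17068099 430 (.node 17068097 1207 (.node 17061979 668 .tip .tip) .tip) (.node 17068107 1002 (.node 17068105 1311 .tip .tip) .tip)))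
(.node 17070153 1231
(.node 17068123 1509 (.node 17068121 873 (.node 17068115 1375 .tip .tip) .tip) (.node 17070147 860 (.node 17070145 245 .tip .tip) .tip))
(.node 17070163 1525 (.node 17070161 1300 (.node 17070155 930 .tip .tip) .tip) (.node 17070171 1246 (.node 17070169 1489 .tip .tip) .tip)))))))
(.node 17584193 1346
(.node 17133633 1050
(.node 17119297 901
(.node 17111121 845
(.node 17109081 164
(.node 17109067 1395 (.node 17109065 637 (.node 17109059 1028 .tip .tip) .tip) (.node 17109075 1071 (.node 17109073 1272 .tip .tip) .tip))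
(.node 17111107 1013 (.node 17111105 314 (.node 17109083 600 .tip .tip) .tip) (.node 17111115 170 (.node 17111113 603 .tip .tip) .tip)))
(.node 17117257 1286
(.node 17111131 747 (.node 17111129 627 (.node 17111123 1215 .tip .tip) .tip) (.node 17117251 1243 (.node 17117249 995 .tip .tip) .tip))
(.node 17117267 1234 (.node 17117265 890 (.node 17117259 508 .tip .tip) .tip) (.node 17117275 802 (.node 17117273 875 .tip .tip) .tip))))
(.node 17125457 1282
(.node 17119321 504
(.node 17119307 927 (.node 17119305 1387 (.node 17119299 1361 .tip .tip) .tip) (.node 17119315 1298 (.node 17119313 1494 .tip .tip) .tip))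
(.node 17125443 440 (.node 17125441 1039 (.node 17119323 782 .tip .tip) .tip) (.node 17125451 31 (.node 17125449 142 .tip .tip) .tip)))
(.node 17127497 191
(.node 17125467 35 (.node 17125465 192 (.node 17125459 496 .tip .tip) .tip) (.node 17127491 614 (.node 17127489 839 .tip .tip) .tip))
(.node 17127507 1004 (.node 17127505 939 (.node 17127499 739 .tip .tip) .tip) (.node 17127515 96 (.node 17127513 125 .tip .tip) .tip)))))
(.node 17569857 854
(.node 17135697 241
(.node 17133657 238
(.node 17133643 683 (.node 17133641 723 (.node 17133635 524 .tip .tip) .tip) (.node 17133651 1162 (.node 17133649 1087 .tip .tip) .tip))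
(.node 17135683 1452 (.node 17135681 1428 (.node 17133659 283 .tip .tip) .tip) (.node 17135691 113 (.node 17135689 472 .tip .tip) .tip)))
(.node 17567817 722
(.node 17135707 920 (.node 17135705 1093 (.node 17135699 856 .tip .tip) .tip) (.node 17567811 1277 (.node 17567809 484 .tip .tip) .tip))
(.node 17567827 1371 (.node 17567825 578 (.node 17567819 255 .tip .tip) .tip) (.node 17567835 281 (.node 17567833 505 .tip .tip) .tip))))
(.node 17576017 124
(.node 17569881 1169
(.node 17569867 112 (.node 17569865 471 (.node 17569859 239 .tip .tip) .tip) (.node 17569875 286 (.node 17569873 976 .tip .tip) .tip))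
(.node 17576003 843 (.node 17576001 498 (.node 17569883 803 .tip .tip) .tip) (.node 17576011 424 (.node 17576009 1205 .tip .tip) .tip)))
(.node 17578057 366
(.node 17576027 37 (.node 17576025 196 (.node 17576019 535 .tip .tip) .tip) (.node 17578051 1271 (.node 17578049 1005 .tip .tip) .tip))
(.node 17578067 221 (.node 17578065 829 (.node 17578059 794 .tip .tip) .tip) (.node 17578075 550 (.node 17578073 127 .tip .tip) .tip))))))
(.node 17641537 820
(.node 17594433 1194
(.node 17586257 1527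
(.node 17584217 1378
(.node 17584203 1086 (.node 17584201 1099 (.node 17584195 1412 .tip .tip) .tip) (.node 17584211 1429 (.node 17584209 1338 .tip .tip) .tip))
(.node 17586243 1088 (.node 17586241 1314 (.node 17584219 921 .tip .tip) .tip) (.node 17586251 685 (.node 17586249 916 .tip .tip) .tip)))
(.node 17592393 190
(.node 17586267 1399 (.node 17586265 651 (.node 17586259 1045 .tip .tip) .tip) (.node 17592387 827 (.node 17592385 1072 .tip .tip) .tip))
(.node 17592403 1174 (.node 17592401 391 (.node 17592395 738 .tip .tip) .tip) (.node 17592411 443 (.node 17592409 165 .tip .tip) .tip))))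
(.node 17633361 514
(.node 17594457 752
(.node 17594443 30 (.node 17594441 141 (.node 17594435 1349 .tip .tip) .tip) (.node 17594451 63 (.node 17594449 293 .tip .tip) .tip))
(.node 17633347 1441 (.node 17633345 1432 (.node 17594459 194 .tip .tip) .tip) (.node 17633355 1041 (.node 17633353 1526 .tip .tip) .tip)))
(.node 17635401 1347
(.node 17633371 1306 (.node 17633369 1096 (.node 17633363 1287 .tip .tip) .tip) (.node 17635395 1128 (.node 17635393 1327 .tip .tip) .tip))
(.node 17635411 333 (.node 17635409 1023 (.node 17635403 1519 .tip .tip) .tip) (.node 17635419 1336 (.node 17635417 1416 .tip .tip) .tip)))))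
(.node 17651777 563
(.node 17643601 60
(.node 17641561 622
(.node 17641547 742 (.node 17641545 1046 (.node 17641539 364 .tip .tip) .tip) (.node 17641555 388 (.node 17641553 83 .tip .tip) .tip))
(.node 17643587 1189 (.node 17643585 406 (.node 17641563 446 .tip .tip) .tip) (.node 17643595 587 (.node 17643593 150 .tip .tip) .tip)))
(.node 17649737 574
(.node 17643611 942 (.node 17643609 755 (.node 17643603 10 .tip .tip) .tip) (.node 17649731 1340 (.node 17649729 987 .tip .tip) .tip))
(.node 17649747 47 (.node 17649745 228 (.node 17649739 1370 .tip .tip) .tip) (.node 17649755 492 (.node 17649753 1280 .tip .tip) .tip))))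
(.node 17657937 275
(.node 17651801 233
(.node 17651787 289 (.node 17651785 978 (.node 17651779 914 .tip .tip) .tip) (.node 17651795 523 (.node 17651793 378 .tip .tip) .tip))
(.node 17657923 1213 (.node 17657921 700 (.node 17651803 850 .tip .tip) .tip) (.node 17657931 957 (.node 17657929 580 .tip .tip) .tip)))
(.node 17659977 1264
(.node 17657947 101 (.node 17657945 452 (.node 17657939 175 .tip .tip) .tip) (.node 17659971 776 (.node 17659969 1480 .tip .tip) .tip))
(.node 17659987 88 (.node 17659985 14 (.node 17659979 899 .tip .tip) .tip) (.node 17659995 267 (.node 17659993 713 .tip .tip) .tip)))))))))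
(.node 25694273 338
(.node 19730497 450
(.node 19222593 1343
(.node 19165249 841
(.node 19150913 758
(.node 19142737 115
(.node 19140697 118
(.node 19140683 1451 (.node 19140681 1422 (.node 19140675 853 .tip .tip) .tip) (.node 19140691 724 (.node 19140689 1304 .tip .tip) .tip))
(.node 19142723 1161 (.node 19142721 1145 (.node 19140699 477 .tip .tip) .tip) (.node 19142731 989 (.node 19142729 893 .tip .tip) .tip)))
(.node 19148873 423
(.node 19142747 725 (.node 19142745 1471 (.node 19142739 474 .tip .tip) .tip) (.node 19148867 449 (.node 19148865 1251 .tip .tip) .tip))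
(.node 19148883 33 (.node 19148881 183 (.node 19148875 1204 .tip .tip) .tip) (.node 19148891 657 (.node 19148889 688 .tip .tip) .tip))))
(.node 19157073 572
(.node 19150937 870
(.node 19150923 974 (.node 19150921 848 (.node 19150915 944 .tip .tip) .tip) (.node 19150931 23 (.node 19150929 2 .tip .tip) .tip))
(.node 19157059 1325 (.node 19157057 1307 (.node 19150939 261 .tip .tip) .tip) (.node 19157067 1294 (.node 19157065 1245 .tip .tip) .tip)))
(.node 19159113 1225
(.node 19157083 910 (.node 19157081 1458 (.node 19157075 800 .tip .tip) .tip) (.node 19159107 1510 (.node 19159105 879 .tip .tip) .tip))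
(.node 19159123 960 (.node 19159121 502 (.node 19159115 903 .tip .tip) .tip) (.node 19159131 797 (.node 19159129 521 .tip .tip) .tip)))))
(.node 19208257 1216
(.node 19167313 163
(.node 19165273 427
(.node 19165259 785 (.node 19165257 1184 (.node 19165251 698 .tip .tip) .tip) (.node 19165267 585 (.node 19165265 147 .tip .tip) .tip))
(.node 19167299 1258 (.node 19167297 638 (.node 19165275 359 .tip .tip) .tip) (.node 19167307 344 (.node 19167305 1029 .tip .tip) .tip)))
(.node 19206217 1219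
(.node 19167323 1359 (.node 19167321 807 (.node 19167315 599 .tip .tip) .tip) (.node 19206211 932 (.node 19206209 1233 .tip .tip) .tip))
(.node 19206227 500 (.node 19206225 1284 (.node 19206219 804 .tip .tip) .tip) (.node 19206235 999 (.node 19206233 1301 .tip .tip) .tip))))
(.node 19214417 619
(.node 19208281 1511
(.node 19208267 1276 (.node 19208265 481 (.node 19208259 1309 .tip .tip) .tip) (.node 19208275 1455 (.node 19208273 811 .tip .tip) .tip))
(.node 19214403 779 (.node 19214401 692 (.node 19208283 912 .tip .tip) .tip) (.node 19214411 825 (.node 19214409 318 .tip .tip) .tip)))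
(.node 19216457 459
(.node 19214427 362 (.node 19214425 1035 (.node 19214419 434 .tip .tip) .tip) (.node 19216451 1221 (.node 19216449 1366 .tip .tip) .tip))
(.node 19216467 160 (.node 19216465 596 (.node 19216459 351 .tip .tip) .tip) (.node 19216475 324 (.node 19216473 1018 .tip .tip) .tip))))))
(.node 19673153 653
(.node 19232833 529
(.node 19224657 1322
(.node 19222617 1165
(.node 19222603 466 (.node 19222601 107 (.node 19222595 1442 .tip .tip) .tip) (.node 19222611 660 (.node 19222609 258 .tip .tip) .tip))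
(.node 19224643 495 (.node 19224641 568 (.node 19222619 1064 .tip .tip) .tip) (.node 19224651 719 (.node 19224649 654 .tip .tip) .tip)))
(.node 19230793 85
(.node 19224667 251 (.node 19224665 863 (.node 19224659 1123 .tip .tip) .tip) (.node 19230787 991 (.node 19230785 896 .tip .tip) .tip))
(.node 19230803 646 (.node 19230801 212 (.node 19230795 120 .tip .tip) .tip) (.node 19230811 66 (.node 19230809 296 .tip .tip) .tip))))
(.node 19664977 763
(.node 19232857 394
(.node 19232843 40 (.node 19232841 214 (.node 19232835 1292 .tip .tip) .tip) (.node 19232851 1024 (.node 19232849 337 .tip .tip) .tip))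
(.node 19664963 139 (.node 19664961 28 (.node 19232859 1176 .tip .tip) .tip) (.node 19664971 532 (.node 19664969 402 .tip .tip) .tip)))
(.node 19667017 319
(.node 19664987 65 (.node 19664985 295 (.node 19664979 1478 .tip .tip) .tip) (.node 19667011 188 (.node 19667009 736 .tip .tip) .tip))
(.node 19667027 693 (.node 19667025 1252 (.node 19667019 216 .tip .tip) .tip) (.node 19667035 1175 (.node 19667033 393 .tip .tip) .tip)))))
(.node 19683393 198
(.node 19675217 1084
(.node 19673177 1332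
(.node 19673163 923 (.node 19673161 1043 (.node 19673155 1401 .tip .tip) .tip) (.node 19673171 1344 (.node 19673169 1520 .tip .tip) .tip))
(.node 19675203 922 (.node 19675201 1125 (.node 19673179 1066 .tip .tip) .tip) (.node 19675211 887 (.node 19675209 655 .tip .tip) .tip)))
(.node 19681353 219
(.node 19675227 1414 (.node 19675225 1421 (.node 19675219 1529 .tip .tip) .tip) (.node 19681347 552 (.node 19681345 372 .tip .tip) .tip))
(.node 19681363 530 (.node 19681361 777 (.node 19681355 42 .tip .tip) .tip) (.node 19681371 1118 (.node 19681369 641 .tip .tip) .tip))))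
(.node 19689553 933
(.node 19683417 1505
(.node 19683403 122 (.node 19683401 373 (.node 19683395 39 .tip .tip) .tip) (.node 19683411 1212 (.node 19683409 993 .tip .tip) .tip))
(.node 19689539 469 (.node 19689537 110 (.node 19683419 956 .tip .tip) .tip) (.node 19689547 717 (.node 19689545 892 .tip .tip) .tip)))
(.node 19691593 105
(.node 19689563 288 (.node 19689561 977 (.node 19689555 566 .tip .tip) .tip) (.node 19691587 257 (.node 19691585 867 .tip .tip) .tip))
(.node 19691603 1218 (.node 19691601 983 (.node 19691595 464 .tip .tip) .tip) (.node 19691611 576 (.node 19691609 1173 .tip .tip) .tip)))))))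
(.node 25448513 386
(.node 19755073 925
(.node 19740737 730
(.node 19732561 703
(.node 19730521 425
(.node 19730507 277 (.node 19730505 968 (.node 19730499 99 .tip .tip) .tip) (.node 19730515 840 (.node 19730513 1077 .tip .tip) .tip))
(.node 19732547 265 (.node 19732545 53 (.node 19730523 263 .tip .tip) .tip) (.node 19732555 409 (.node 19732553 90 .tip .tip) .tip)))
(.node 19738697 1238
(.node 19732571 793 (.node 19732569 806 (.node 19732563 1269 .tip .tip) .tip) (.node 19738691 132 (.node 19738689 558 .tip .tip) .tip))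
(.node 19738707 490 (.node 19738705 1160 (.node 19738699 988 .tip .tip) .tip) (.node 19738715 248 (.node 19738713 861 .tip .tip) .tip))))
(.node 19746897 448
(.node 19740761 116
(.node 19740747 904 (.node 19740745 562 (.node 19740739 1003 .tip .tip) .tip) (.node 19740755 235 (.node 19740753 852 .tip .tip) .tip))
(.node 19746883 734 (.node 19746881 185 (.node 19740763 475 .tip .tip) .tip) (.node 19746891 345 (.node 19746889 819 .tip .tip) .tip)))
(.node 19748937 405
(.node 19746907 656 (.node 19746905 398 (.node 19746899 639 .tip .tip) .tip) (.node 19748931 25 (.node 19748929 136 .tip .tip) .tip))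
(.node 19748947 757 (.node 19748945 943 (.node 19748939 1188 .tip .tip) .tip) (.node 19748955 74 (.node 19748953 304 .tip .tip) .tip)))))
(.node 25434177 946
(.node 19757137 1302
(.node 19755097 648
(.node 19755083 1461 (.node 19755081 1335 (.node 19755075 1305 .tip .tip) .tip) (.node 19755091 1130 (.node 19755089 1331 .tip .tip) .tip))
(.node 19757123 611 (.node 19757121 1390 (.node 19755099 1398 .tip .tip) .tip) (.node 19757131 1090 (.node 19757129 1530 .tip .tip) .tip)))
(.node 25432137 551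
(.node 19757147 935 (.node 19757145 1329 (.node 19757139 1430 .tip .tip) .tip) (.node 25432131 1006 (.node 25432129 454 .tip .tip) .tip))
(.node 25432147 1484 (.node 25432145 973 (.node 25432139 371 .tip .tip) .tip) (.node 25432155 831 (.node 25432153 224 .tip .tip) .tip))))
(.node 25440337 1140
(.node 25434201 539
(.node 25434187 197 (.node 25434185 38 (.node 25434179 269 .tip .tip) .tip) (.node 25434195 421 (.node 25434193 1202 .tip .tip) .tip))
(.node 25440323 1117 (.node 25440321 1417 (.node 25434203 1155 .tip .tip) .tip) (.node 25440331 652 (.node 25440329 1400 .tip .tip) .tip)))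
(.node 25442377 347
(.node 25440347 1531 (.node 25440345 1103 (.node 25440339 1435 .tip .tip) .tip) (.node 25442371 1059 (.node 25442369 1413 .tip .tip) .tip))
(.node 25442387 1467 (.node 25442385 1532 (.node 25442379 1031 .tip .tip) .tip) (.node 25442395 1449 (.node 25442393 1500 .tip .tip) .tip))))))
(.node 25505857 247
(.node 25458753 1016
(.node 25450577 1379
(.node 25448537 1274
(.node 25448523 44 (.node 25448521 6 (.node 25448515 1168 .tip .tip) .tip) (.node 25448531 643 (.node 25448529 982 .tip .tip) .tip))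
(.node 25450563 58 (.node 25450561 280 (.node 25448539 479 .tip .tip) .tip) (.node 25450571 79 (.node 25450569 375 .tip .tip) .tip)))
(.node 25456713 187
(.node 25450587 877 (.node 25450585 705 (.node 25450579 1372 .tip .tip) .tip) (.node 25456707 581 (.node 25456705 143 .tip .tip) .tip))
(.node 25456723 699 (.node 25456721 1068 (.node 25456715 358 .tip .tip) .tip) (.node 25456731 663 (.node 25456729 823 .tip .tip) .tip))))
(.node 25497681 924
(.node 25458777 1256
(.node 25458763 27 (.node 25458761 138 (.node 25458755 322 .tip .tip) .tip) (.node 25458771 1377 (.node 25458769 762 .tip .tip) .tip))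
(.node 25497667 158 (.node 25497665 594 (.node 25458779 1126 .tip .tip) .tip) (.node 25497675 320 (.node 25497673 740 .tip .tip) .tip)))
(.node 25499721 583
(.node 25497691 352 (.node 25497689 612 (.node 25497683 1191 .tip .tip) .tip) (.node 25499715 303 (.node 25499713 73 .tip .tip) .tip))
(.node 25499731 650 (.node 25499729 822 (.node 25499723 145 .tip .tip) .tip) (.node 25499739 926 (.node 25499737 404 .tip .tip) .tip)))))
(.node 25516097 1105
(.node 25507921 46
(.node 25505881 278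
(.node 25505867 570 (.node 25505865 1369 (.node 25505859 174 .tip .tip) .tip) (.node 25505875 377 (.node 25505873 1157 .tip .tip) .tip))
(.node 25507907 499 (.node 25507905 519 (.node 25505883 56 .tip .tip) .tip) (.node 25507915 997 (.node 25507913 645 .tip .tip) .tip)))
(.node 25514057 1107
(.node 25507931 441 (.node 25507929 384 (.node 25507923 227 .tip .tip) .tip) (.node 25514051 1328 (.node 25514049 1129 .tip .tip) .tip))
(.node 25514067 1444 (.node 25514065 1114 (.node 25514059 1418 .tip .tip) .tip) (.node 25514075 1058 (.node 25514073 677 .tip .tip) .tip))))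
(.node 25522257 537
(.node 25516121 1334
(.node 25516107 1528 (.node 25516105 1055 (.node 25516099 695 .tip .tip) .tip) (.node 25516115 1448 (.node 25516113 1508 .tip .tip) .tip))
(.node 25522243 774 (.node 25522241 210 (.node 25516123 1116 .tip .tip) .tip) (.node 25522251 948 (.node 25522249 271 .tip .tip) .tip)))
(.node 25524297 1226
(.node 25522267 408 (.node 25522265 89 (.node 25522259 1154 .tip .tip) .tip) (.node 25524291 701 (.node 25524289 1228 .tip .tip) .tip))
(.node 25524307 830 (.node 25524305 223 (.node 25524299 456 .tip .tip) .tip) (.node 25524315 276 (.node 25524313 967 .tip .tip) .tip))))))))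
(.node 27594817 17
(.node 25776193 1358
(.node 25718849 911
(.node 25704513 1468
(.node 25696337 1012
(.node 25694297 565
(.node 25694283 1289 (.node 25694281 526 (.node 25694275 882 .tip .tip) .tip) (.node 25694291 629 (.node 25694289 1179 .tip .tip) .tip))
(.node 25696323 167 (.node 25696321 250 (.node 25694299 310 .tip .tip) .tip) (.node 25696331 331 (.node 25696329 494 .tip .tip) .tip)))
(.node 25702473 1270
(.node 25696347 760 (.node 25696345 518 (.node 25696339 313 .tip .tip) .tip) (.node 25702467 1034 (.node 25702465 361 .tip .tip) .tip))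
(.node 25702483 1392 (.node 25702481 618 (.node 25702475 1485 .tip .tip) .tip) (.node 25702491 1060 (.node 25702489 674 .tip .tip) .tip))))
(.node 25710673 1082
(.node 25704537 623
(.node 25704523 1131 (.node 25704521 1229 (.node 25704515 1075 .tip .tip) .tip) (.node 25704531 1406 (.node 25704529 666 .tip .tip) .tip))
(.node 25710659 400 (.node 25710657 900 (.node 25704539 350 .tip .tip) .tip) (.node 25710667 468 (.node 25710665 109 .tip .tip) .tip)))
(.node 25712713 1474
(.node 25710683 181 (.node 25710681 213 (.node 25710675 1048 .tip .tip) .tip) (.node 25712707 306 (.node 25712705 76 .tip .tip) .tip))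
(.node 25712723 815 (.node 25712721 1411 (.node 25712715 721 .tip .tip) .tip) (.node 25712731 128 (.node 25712729 21 .tip .tip) .tip)))))
(.node 25761857 543
(.node 25720913 789
(.node 25718873 766
(.node 25718859 1472 (.node 25718857 951 (.node 25718851 436 .tip .tip) .tip) (.node 25718867 1354 (.node 25718865 548 .tip .tip) .tip))
(.node 25720899 1491 (.node 25720897 1143 (.node 25718875 201 .tip .tip) .tip) (.node 25720907 1206 (.node 25720905 429 .tip .tip) .tip)))
(.node 25759817 1324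
(.node 25720923 907 (.node 25720921 545 (.node 25720915 838 .tip .tip) .tip) (.node 25759811 835 (.node 25759809 781 .tip .tip) .tip))
(.node 25759827 709 (.node 25759825 969 (.node 25759819 1524 .tip .tip) .tip) (.node 25759835 438 (.node 25759833 1211 .tip .tip) .tip))))
(.node 25768017 177
(.node 25761881 1473
(.node 25761867 787 (.node 25761865 1481 (.node 25761859 1351 .tip .tip) .tip) (.node 25761875 412 (.node 25761873 93 .tip .tip) .tip))
(.node 25768003 561 (.node 25768001 135 (.node 25761883 954 .tip .tip) .tip) (.node 25768011 1253 (.node 25768009 1181 .tip .tip) .tip)))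
(.node 25770057 1020
(.node 25768027 1147 (.node 25768025 1098 (.node 25768019 32 .tip .tip) .tip) (.node 25770051 733 (.node 25770049 1476 .tip .tip) .tip))
(.node 25770067 16 (.node 25770065 1 (.node 25770059 327 .tip .tip) .tip) (.node 25770075 1439 (.node 25770073 814 .tip .tip) .tip))))))
(.node 27537473 767
(.node 25786433 527
(.node 25778257 1121
(.node 25776217 1109
(.node 25776203 1138 (.node 25776201 1436 (.node 25776195 1069 .tip .tip) .tip) (.node 25776211 598 (.node 25776209 162 .tip .tip) .tip))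
(.node 25778243 1132 (.node 25778241 1230 (.node 25776219 1241 .tip .tip) .tip) (.node 25778251 1073 (.node 25778249 697 .tip .tip) .tip)))
(.node 25784393 631
(.node 25778267 664 (.node 25778265 1404 (.node 25778259 625 .tip .tip) .tip) (.node 25784387 308 (.node 25784385 1008 .tip .tip) .tip))
(.node 25784403 473 (.node 25784401 114 (.node 25784395 919 .tip .tip) .tip) (.node 25784411 1026 (.node 25784409 340 .tip .tip) .tip))))
(.node 27529297 624
(.node 25786457 682
(.node 25786443 985 (.node 25786441 884 (.node 25786435 1290 .tip .tip) .tip) (.node 25786451 68 (.node 25786449 298 .tip .tip) .tip))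
(.node 27529283 1488 (.node 27529281 1456 (.node 25786459 1183 .tip .tip) .tip) (.node 27529291 1463 (.node 27529289 1507 .tip .tip) .tip)))
(.node 27531337 1136
(.node 27529307 1085 (.node 27529305 673 (.node 27529299 1393 .tip .tip) .tip) (.node 27531331 1108 (.node 27531329 1424 .tip .tip) .tip))
(.node 27531347 1044 (.node 27531345 675 (.node 27531339 1454 .tip .tip) .tip) (.node 27531355 1091 (.node 27531353 1345 .tip .tip) .tip)))))
(.node 27547713 670
(.node 27539537 783
(.node 27537497 92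
(.node 27537483 953 (.node 27537481 1144 (.node 27537475 202 .tip .tip) .tip) (.node 27537491 534 (.node 27537489 123 .tip .tip) .tip))
(.node 27539523 1363 (.node 27539521 555 (.node 27537499 411 .tip .tip) .tip) (.node 27539531 462 (.node 27539529 1262 .tip .tip) .tip)))
(.node 27545673 883
(.node 27539547 708 (.node 27539545 531 (.node 27539539 220 .tip .tip) .tip) (.node 27545667 761 (.node 27545665 1142 .tip .tip) .tip))
(.node 27545683 62 (.node 27545681 292 (.node 27545675 1193 .tip .tip) .tip) (.node 27545691 601 (.node 27545689 168 .tip .tip) .tip))))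
(.node 27553873 727
(.node 27547737 297
(.node 27547723 687 (.node 27547721 826 (.node 27547715 1053 .tip .tip) .tip) (.node 27547731 633 (.node 27547729 390 .tip .tip) .tip))
(.node 27553859 1373 (.node 27553857 1080 (.node 27547739 67 .tip .tip) .tip) (.node 27553867 888 (.node 27553865 872 .tip .tip) .tip)))
(.node 27555913 368
(.node 27553883 104 (.node 27553881 19 (.node 27553875 182 .tip .tip) .tip) (.node 27555907 981 (.node 27555905 1319 .tip .tip) .tip))
(.node 27555923 129 (.node 27555921 22 (.node 27555915 483 .tip .tip) .tip) (.node 27555931 180 (.node 27555929 716 .tip .tip) .tip)))))))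
(.node 27807809 865
(.node 27619393 672
(.node 27605057 516
(.node 27596881 506
(.node 27594841 573
(.node 27594827 729 (.node 27594825 817 (.node 27594819 102 .tip .tip) .tip) (.node 27594835 858 (.node 27594833 243 .tip .tip) .tip))
(.node 27596867 178 (.node 27596865 714 (.node 27594843 328 .tip .tip) .tip) (.node 27596875 557 (.node 27596873 131 .tip .tip) .tip)))
(.node 27603017 1339
(.node 27596891 994 (.node 27596889 1000 (.node 27596883 370 .tip .tip) .tip) (.node 27603011 335 (.node 27603009 445 .tip .tip) .tip))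
(.node 27603027 395 (.node 27603025 166 (.node 27603019 759 .tip .tip) .tip) (.node 27603035 312 (.node 27603033 1011 .tip .tip) .tip))))
(.node 27611217 413
(.node 27605081 149
(.node 27605067 1042 (.node 27605065 680 (.node 27605059 754 .tip .tip) .tip) (.node 27605075 299 (.node 27605073 69 .tip .tip) .tip))
(.node 27611203 712 (.node 27611201 266 (.node 27605083 586 .tip .tip) .tip) (.node 27611211 200 (.node 27611209 765 .tip .tip) .tip)))
(.node 27613257 554
(.node 27611227 1353 (.node 27611225 547 (.node 27611219 94 .tip .tip) .tip) (.node 27613251 451 (.node 27613249 100 .tip .tip) .tip))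
(.node 27613267 970 (.node 27613265 710 (.node 27613259 941 .tip .tip) .tip) (.node 27613275 837 (.node 27613273 1459 .tip .tip) .tip)))))
(.node 27793473 78
(.node 27621457 1405
(.node 27619417 1431
(.node 27619403 1120 (.node 27619401 1426 (.node 27619395 1407 .tip .tip) .tip) (.node 27619411 1242 (.node 27619409 1092 .tip .tip) .tip))
(.node 27621443 1095 (.node 27621441 1268 (.node 27619419 1139 .tip .tip) .tip) (.node 27621451 1521 (.node 27621449 1440 .tip .tip) .tip)))
(.node 27791433 439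
(.node 27621467 1074 (.node 27621465 1425 (.node 27621459 665 .tip .tip) .tip) (.node 27791427 5 (.node 27791425 43 .tip .tip) .tip))
(.node 27791443 1172 (.node 27791441 1250 (.node 27791435 1083 .tip .tip) .tip) (.node 27791451 589 (.node 27791449 152 .tip .tip) .tip))))
(.node 27799633 959
(.node 27793497 1382
(.node 27793483 707 (.node 27793481 658 (.node 27793475 374 .tip .tip) .tip) (.node 27793491 975 (.node 27793489 285 .tip .tip) .tip))
(.node 27799619 208 (.node 27799617 772 (.node 27793499 744 .tip .tip) .tip) (.node 27799627 1365 (.node 27799625 1152 .tip .tip) .tip)))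
(.node 27801673 775
(.node 27799643 1224 (.node 27799641 1266 (.node 27799635 1348 .tip .tip) .tip) (.node 27801667 538 (.node 27801665 1151 .tip .tip) .tip))
(.node 27801683 417 (.node 27801681 1200 (.node 27801675 211 .tip .tip) .tip) (.node 27801691 963 (.node 27801689 1386 .tip .tip) .tip))))))
(.node 27865153 617
(.node 27818049 678
(.node 27809873 938
(.node 27807833 512
(.node 27807819 595 (.node 27807817 159 (.node 27807811 253 .tip .tip) .tip) (.node 27807827 609 (.node 27807825 990 .tip .tip) .tip))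
(.node 27809859 237 (.node 27809857 156 (.node 27807835 321 .tip .tip) .tip) (.node 27809867 745 (.node 27809865 354 .tip .tip) .tip)))
(.node 27816009 1056
(.node 27809883 1376 (.node 27809881 615 (.node 27809875 1197 .tip .tip) .tip) (.node 27816003 346 (.node 27816001 1030 .tip .tip) .tip))
(.node 27816019 1214 (.node 27816017 1133 (.node 27816011 808 .tip .tip) .tip) (.node 27816027 1409 (.node 27816025 696 .tip .tip) .tip))))
(.node 27856977 1267
(.node 27818073 636
(.node 27818059 341 (.node 27818057 1027 (.node 27818051 842 .tip .tip) .tip) (.node 27818067 1465 (.node 27818065 1492 .tip .tip) .tip))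
(.node 27856963 1106 (.node 27856961 1222 (.node 27818075 1394 .tip .tip) .tip) (.node 27856971 1014 (.node 27856969 316 .tip .tip) .tip)))
(.node 27859017 348
(.node 27856987 795 (.node 27856985 689 (.node 27856979 1141 .tip .tip) .tip) (.node 27859011 1054 (.node 27859009 667 .tip .tip) .tip))
(.node 27859027 1408 (.node 27859025 694 (.node 27859019 1032 .tip .tip) .tip) (.node 27859035 1240 (.node 27859033 1445 .tip .tip) .tip)))))
(.node 27875393 422
(.node 27867217 486
(.node 27865177 154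
(.node 27865163 866 (.node 27865161 254 (.node 27865155 1111 .tip .tip) .tip) (.node 27865171 356 (.node 27865169 511 .tip .tip) .tip))
(.node 27867203 1469 (.node 27867201 1063 (.node 27865179 591 .tip .tip) .tip) (.node 27867211 144 (.node 27867209 582 .tip .tip) .tip)))
(.node 27873353 419
(.node 27867227 259 (.node 27867225 868 (.node 27867219 1279 .tip .tip) .tip) (.node 27873347 965 (.node 27873345 1317 .tip .tip) .tip))
(.node 27873363 810 (.node 27873361 1299 (.node 27873355 455 .tip .tip) .tip) (.node 27873371 929 (.node 27873369 1150 .tip .tip) .tip))))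
(.node 27881553 1293
(.node 27875417 770
(.node 27875403 947 (.node 27875401 270 (.node 27875395 1203 .tip .tip) .tip) (.node 27875411 1356 (.node 27875409 1470 .tip .tip) .tip))
(.node 27881539 790 (.node 27881537 1420 (.node 27875419 206 .tip .tip) .tip) (.node 27881547 80 (.node 27881545 383 .tip .tip) .tip)))
(.node 27883593 7
(.node 27881563 51 (.node 27881561 232 (.node 27881555 751 .tip .tip) .tip) (.node 27883587 1273 (.node 27883585 1248 .tip .tip) .tip))
(.node 27883603 606 (.node 27883601 173 (.node 27883595 55 .tip .tip) .tip) (.node 27883611 1159 (.node 27883609 382 .tip .tip) .tip))))))))))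

/-- The orbit. -/
def twoOrb : Tab (ℕ × ℕ) :=
(.node 7 (.node 3 (.node 1 (.leaf (17045569, 17043521)) (.node 1 (.leaf (17045571, 17059919)) (.leaf (17109057, 10971209))))
(.node 2 (.node 1 (.leaf (17109059, 11495495)) (.leaf (17111105, 25385043))) (.node 1 (.leaf (17111107, 19085399)) (.leaf (19140673, 31801425)))))
(.node 3 (.node 1 (.leaf (19140675, 4808797)) (.node 1 (.leaf (19142721, 4544593)) (.leaf (19142723, 29904967))))
(.node 2 (.node 1 (.leaf (19206209, 32131155)) (.leaf (19206211, 13510735))) (.node 1 (.leaf (19208257, 32125001)) (.leaf (19208259, 13310023))))))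

/-- The centraliser. -/
def twoCent : CentData := ⟨17045569, 1536, twoEl, twoIx, 14, twoOrb⟩

/-- The parents. -/
def twoPar : Tab ℕ :=
(.node 768 (.node 384 (.node 192 (.node 96 (.node 48 (.node 24 (.node 12 (.node 6 (.node 3 (.node 1 (.leaf 0) (.node 1 (.leaf 0) (.leaf 1))) (.node 1 (.leaf 2) (.node 1 (.leaf 4) (.leaf 5))))
(.node 3 (.node 1 (.leaf 6) (.node 1 (.leaf 8) (.leaf 9))) (.node 1 (.leaf 10) (.node 1 (.leaf 12) (.leaf 13)))))
(.node 6 (.node 3 (.node 1 (.leaf 16) (.node 1 (.leaf 17) (.leaf 18))) (.node 1 (.leaf 20) (.node 1 (.leaf 21) (.leaf 22))))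
(.node 3 (.node 1 (.leaf 24) (.node 1 (.leaf 25) (.leaf 28))) (.node 1 (.leaf 29) (.node 1 (.leaf 30) (.leaf 33))))))
(.node 12 (.node 6 (.node 3 (.node 1 (.leaf 34) (.node 1 (.leaf 36) (.leaf 37))) (.node 1 (.leaf 40) (.node 1 (.leaf 41) (.leaf 42))))
(.node 3 (.node 1 (.leaf 44) (.node 1 (.leaf 46) (.leaf 48))) (.node 1 (.leaf 49) (.node 1 (.leaf 50) (.leaf 52)))))
(.node 6 (.node 3 (.node 1 (.leaf 53) (.node 1 (.leaf 54) (.leaf 56))) (.node 1 (.leaf 57) (.node 1 (.leaf 60) (.leaf 61))))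
(.node 3 (.node 1 (.leaf 62) (.node 1 (.leaf 65) (.leaf 66))) (.node 1 (.leaf 68) (.node 1 (.leaf 69) (.leaf 72)))))))
(.node 24 (.node 12 (.node 6 (.node 3 (.node 1 (.leaf 73) (.node 1 (.leaf 74) (.leaf 76))) (.node 1 (.leaf 78) (.node 1 (.leaf 81) (.leaf 82))))
(.node 3 (.node 1 (.leaf 84) (.node 1 (.leaf 85) (.leaf 86))) (.node 1 (.leaf 88) (.node 1 (.leaf 89) (.leaf 94)))))
(.node 6 (.node 3 (.node 1 (.leaf 96) (.node 1 (.leaf 97) (.leaf 100))) (.node 1 (.leaf 101) (.node 1 (.leaf 102) (.leaf 104))))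
(.node 3 (.node 1 (.leaf 106) (.node 1 (.leaf 109) (.leaf 110))) (.node 1 (.leaf 112) (.node 1 (.leaf 114) (.leaf 116))))))
(.node 12 (.node 6 (.node 3 (.node 1 (.leaf 117) (.node 1 (.leaf 120) (.leaf 121))) (.node 1 (.leaf 122) (.node 1 (.leaf 124) (.leaf 128))))
(.node 3 (.node 1 (.leaf 129) (.node 1 (.leaf 130) (.leaf 132))) (.node 1 (.leaf 133) (.node 1 (.leaf 134) (.leaf 136)))))
(.node 6 (.node 3 (.node 1 (.leaf 137) (.node 1 (.leaf 141) (.leaf 142))) (.node 1 (.leaf 145) (.node 1 (.leaf 146) (.leaf 148))))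
(.node 3 (.node 1 (.leaf 149) (.node 1 (.leaf 152) (.leaf 153))) (.node 1 (.leaf 154) (.node 1 (.leaf 156) (.leaf 158))))))))
(.node 48 (.node 24 (.node 12 (.node 6 (.node 3 (.node 1 (.leaf 161) (.node 1 (.leaf 162) (.leaf 165))) (.node 1 (.leaf 166) (.node 1 (.leaf 168) (.leaf 169))))
(.node 3 (.node 1 (.leaf 174) (.node 1 (.leaf 176) (.leaf 177))) (.node 1 (.leaf 180) (.node 1 (.leaf 181) (.leaf 182)))))
(.node 6 (.node 3 (.node 1 (.leaf 184) (.node 1 (.leaf 186) (.leaf 189))) (.node 1 (.leaf 190) (.node 1 (.leaf 192) (.leaf 194))))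
(.node 3 (.node 1 (.leaf 196) (.node 1 (.leaf 197) (.leaf 200))) (.node 1 (.leaf 201) (.node 1 (.leaf 202) (.leaf 204))))))
(.node 12 (.node 6 (.node 3 (.node 1 (.leaf 208) (.node 1 (.leaf 209) (.leaf 210))) (.node 1 (.leaf 212) (.node 1 (.leaf 213) (.leaf 216))))
(.node 3 (.node 1 (.leaf 217) (.node 1 (.leaf 218) (.leaf 221))) (.node 1 (.leaf 222) (.node 1 (.leaf 224) (.leaf 225)))))
(.node 6 (.node 3 (.node 1 (.leaf 228) (.node 1 (.leaf 229) (.leaf 232))) (.node 1 (.leaf 234) (.node 1 (.leaf 236) (.leaf 237))))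
(.node 3 (.node 1 (.leaf 240) (.node 1 (.leaf 241) (.leaf 242))) (.node 1 (.leaf 244) (.node 1 (.leaf 246) (.leaf 249)))))))
(.node 24 (.node 12 (.node 6 (.node 3 (.node 1 (.leaf 250) (.node 1 (.leaf 252) (.leaf 254))) (.node 1 (.leaf 256) (.node 1 (.leaf 257) (.leaf 260))))
(.node 3 (.node 1 (.leaf 261) (.node 1 (.leaf 262) (.leaf 264))) (.node 1 (.leaf 268) (.node 1 (.leaf 270) (.leaf 272)))))
(.node 6 (.node 3 (.node 1 (.leaf 273) (.node 1 (.leaf 276) (.leaf 277))) (.node 1 (.leaf 278) (.node 1 (.leaf 280) (.leaf 281))))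
(.node 3 (.node 1 (.leaf 284) (.node 1 (.leaf 285) (.leaf 288))) (.node 1 (.leaf 290) (.node 1 (.leaf 293) (.leaf 294))))))
(.node 12 (.node 6 (.node 3 (.node 1 (.leaf 296) (.node 1 (.leaf 298) (.leaf 300))) (.node 1 (.leaf 301) (.node 1 (.leaf 304) (.leaf 305))))
(.node 3 (.node 1 (.leaf 306) (.node 1 (.leaf 310) (.leaf 312))) (.node 1 (.leaf 313) (.node 1 (.leaf 314) (.leaf 316)))))
(.node 6 (.node 3 (.node 1 (.leaf 317) (.node 1 (.leaf 321) (.leaf 322))) (.node 1 (.leaf 325) (.node 1 (.leaf 326) (.leaf 328))))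
(.node 3 (.node 1 (.leaf 329) (.node 1 (.leaf 332) (.leaf 333))) (.node 1 (.leaf 334) (.node 1 (.leaf 336) (.leaf 338)))))))))
(.node 96 (.node 48 (.node 24 (.node 12 (.node 6 (.node 3 (.node 1 (.leaf 341) (.node 1 (.leaf 342) (.leaf 344))) (.node 1 (.leaf 345) (.node 1 (.leaf 350) (.leaf 352))))
(.node 3 (.node 1 (.leaf 353) (.node 1 (.leaf 356) (.leaf 357))) (.node 1 (.leaf 358) (.node 1 (.leaf 360) (.leaf 362)))))
(.node 6 (.node 3 (.node 1 (.leaf 365) (.node 1 (.leaf 368) (.leaf 370))) (.node 1 (.leaf 372) (.node 1 (.leaf 373) (.leaf 376))))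
(.node 3 (.node 1 (.leaf 377) (.node 1 (.leaf 378) (.leaf 380))) (.node 1 (.leaf 384) (.node 1 (.leaf 385) (.leaf 386))))))
(.node 12 (.node 6 (.node 3 (.node 1 (.leaf 388) (.node 1 (.leaf 389) (.leaf 393))) (.node 1 (.leaf 394) (.node 1 (.leaf 396) (.leaf 397))))
(.node 3 (.node 1 (.leaf 400) (.node 1 (.leaf 401) (.leaf 404))) (.node 1 (.leaf 406) (.node 1 (.leaf 408) (.leaf 409)))))
(.node 6 (.node 3 (.node 1 (.leaf 412) (.node 1 (.leaf 413) (.leaf 414))) (.node 1 (.leaf 416) (.node 1 (.leaf 418) (.leaf 421))))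
(.node 3 (.node 1 (.leaf 422) (.node 1 (.leaf 424) (.leaf 426))) (.node 1 (.leaf 428) (.node 1 (.leaf 429) (.leaf 432)))))))
(.node 24 (.node 12 (.node 6 (.node 3 (.node 1 (.leaf 433) (.node 1 (.leaf 434) (.leaf 436))) (.node 1 (.leaf 440) (.node 1 (.leaf 442) (.leaf 444))))
(.node 3 (.node 1 (.leaf 445) (.node 1 (.leaf 448) (.leaf 449))) (.node 1 (.leaf 450) (.node 1 (.leaf 452) (.leaf 453)))))
(.node 6 (.node 3 (.node 1 (.leaf 456) (.node 1 (.leaf 457) (.leaf 460))) (.node 1 (.leaf 465) (.node 1 (.leaf 466) (.leaf 468))))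
(.node 3 (.node 1 (.leaf 470) (.node 1 (.leaf 472) (.leaf 473))) (.node 1 (.leaf 476) (.node 1 (.leaf 477) (.leaf 478))))))
(.node 12 (.node 6 (.node 3 (.node 1 (.leaf 482) (.node 1 (.leaf 486) (.leaf 488))) (.node 1 (.leaf 489) (.node 1 (.leaf 492) (.leaf 493))))
(.node 3 (.node 1 (.leaf 494) (.node 1 (.leaf 496) (.leaf 498))) (.node 1 (.leaf 502) (.node 1 (.leaf 505) (.leaf 506)))))
(.node 6 (.node 3 (.node 1 (.leaf 508) (.node 1 (.leaf 509) (.leaf 514))) (.node 1 (.leaf 516) (.node 1 (.leaf 517) (.leaf 520))))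
(.node 3 (.node 1 (.leaf 521) (.node 1 (.leaf 522) (.leaf 524))) (.node 1 (.leaf 526) (.node 1 (.leaf 529) (.leaf 530))))))))
(.node 48 (.node 24 (.node 12 (.node 6 (.node 3 (.node 1 (.leaf 532) (.node 1 (.leaf 536) (.leaf 537))) (.node 1 (.leaf 540) (.node 1 (.leaf 544) (.leaf 545))))
(.node 3 (.node 1 (.leaf 546) (.node 1 (.leaf 548) (.leaf 550))) (.node 1 (.leaf 553) (.node 1 (.leaf 554) (.leaf 556)))))
(.node 6 (.node 3 (.node 1 (.leaf 558) (.node 1 (.leaf 560) (.leaf 561))) (.node 1 (.leaf 564) (.node 1 (.leaf 565) (.leaf 566))))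
(.node 3 (.node 1 (.leaf 568) (.node 1 (.leaf 572) (.leaf 574))) (.node 1 (.leaf 576) (.node 1 (.leaf 577) (.leaf 580))))))
(.node 12 (.node 6 (.node 3 (.node 1 (.leaf 581) (.node 1 (.leaf 582) (.leaf 584))) (.node 1 (.leaf 585) (.node 1 (.leaf 588) (.leaf 589))))
(.node 3 (.node 1 (.leaf 592) (.node 1 (.leaf 594) (.leaf 597))) (.node 1 (.leaf 598) (.node 1 (.leaf 600) (.leaf 602)))))
(.node 6 (.node 3 (.node 1 (.leaf 604) (.node 1 (.leaf 605) (.leaf 608))) (.node 1 (.leaf 609) (.node 1 (.leaf 610) (.leaf 613))))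
(.node 3 (.node 1 (.leaf 616) (.node 1 (.leaf 617) (.leaf 621))) (.node 1 (.leaf 622) (.node 1 (.leaf 624) (.leaf 626)))))))
(.node 24 (.node 12 (.node 6 (.node 3 (.node 1 (.leaf 629) (.node 1 (.leaf 630) (.leaf 634))) (.node 1 (.leaf 636) (.node 1 (.leaf 637) (.leaf 640))))
(.node 3 (.node 1 (.leaf 641) (.node 1 (.leaf 642) (.leaf 644))) (.node 1 (.leaf 646) (.node 1 (.leaf 649) (.leaf 650)))))
(.node 6 (.node 3 (.node 1 (.leaf 652) (.node 1 (.leaf 654) (.leaf 656))) (.node 1 (.leaf 657) (.node 1 (.leaf 660) (.leaf 664))))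
(.node 3 (.node 1 (.leaf 666) (.node 1 (.leaf 668) (.leaf 669))) (.node 1 (.leaf 672) (.node 1 (.leaf 673) (.leaf 676))))))
(.node 12 (.node 6 (.node 3 (.node 1 (.leaf 677) (.node 1 (.leaf 680) (.leaf 681))) (.node 1 (.leaf 684) (.node 1 (.leaf 686) (.leaf 689))))
(.node 3 (.node 1 (.leaf 690) (.node 1 (.leaf 692) (.leaf 694))) (.node 1 (.leaf 696) (.node 1 (.leaf 697) (.leaf 700)))))
(.node 6 (.node 3 (.node 1 (.leaf 701) (.node 1 (.leaf 706) (.leaf 709))) (.node 1 (.leaf 710) (.node 1 (.leaf 712) (.leaf 713))))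
(.node 3 (.node 1 (.leaf 716) (.node 1 (.leaf 717) (.leaf 718))) (.node 1 (.leaf 720) (.node 1 (.leaf 722) (.leaf 725))))))))))
(.node 192 (.node 96 (.node 48 (.node 24 (.node 12 (.node 6 (.node 3 (.node 1 (.leaf 726) (.node 1 (.leaf 728) (.leaf 729))) (.node 1 (.leaf 734) (.node 1 (.leaf 736) (.leaf 737))))
(.node 3 (.node 1 (.leaf 740) (.node 1 (.leaf 741) (.leaf 742))) (.node 1 (.leaf 744) (.node 1 (.leaf 746) (.leaf 752)))))
(.node 6 (.node 3 (.node 1 (.leaf 754) (.node 1 (.leaf 757) (.leaf 761))) (.node 1 (.leaf 762) (.node 1 (.leaf 764) (.leaf 770))))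
(.node 3 (.node 1 (.leaf 772) (.node 1 (.leaf 773) (.leaf 776))) (.node 1 (.leaf 777) (.node 1 (.leaf 780) (.leaf 782))))))
(.node 12 (.node 6 (.node 3 (.node 1 (.leaf 784) (.node 1 (.leaf 785) (.leaf 788))) (.node 1 (.leaf 789) (.node 1 (.leaf 790) (.leaf 792))))
(.node 3 (.node 1 (.leaf 794) (.node 1 (.leaf 797) (.leaf 800))) (.node 1 (.leaf 802) (.node 1 (.leaf 804) (.leaf 805)))))
(.node 6 (.node 3 (.node 1 (.leaf 808) (.node 1 (.leaf 809) (.leaf 810))) (.node 1 (.leaf 812) (.node 1 (.leaf 816) (.leaf 820))))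
(.node 3 (.node 1 (.leaf 821) (.node 1 (.leaf 822) (.leaf 824))) (.node 1 (.leaf 825) (.node 1 (.leaf 828) (.leaf 829)))))))
(.node 24 (.node 12 (.node 6 (.node 3 (.node 1 (.leaf 832) (.node 1 (.leaf 837) (.leaf 838))) (.node 1 (.leaf 840) (.node 1 (.leaf 842) (.leaf 844))))
(.node 3 (.node 1 (.leaf 845) (.node 1 (.leaf 848) (.leaf 849))) (.node 1 (.leaf 854) (.node 1 (.leaf 858) (.leaf 860)))))
(.node 6 (.node 3 (.node 1 (.leaf 861) (.node 1 (.leaf 864) (.leaf 865))) (.node 1 (.leaf 866) (.node 1 (.leaf 868) (.leaf 870))))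
(.node 3 (.node 1 (.leaf 874) (.node 1 (.leaf 876) (.leaf 877))) (.node 1 (.leaf 880) (.node 1 (.leaf 881) (.leaf 882))))))
(.node 12 (.node 6 (.node 3 (.node 1 (.leaf 884) (.node 1 (.leaf 886) (.leaf 889))) (.node 1 (.leaf 890) (.node 1 (.leaf 892) (.leaf 896))))
(.node 3 (.node 1 (.leaf 897) (.node 1 (.leaf 900) (.leaf 904))) (.node 1 (.leaf 905) (.node 1 (.leaf 906) (.leaf 908)))))
(.node 6 (.node 3 (.node 1 (.leaf 910) (.node 1 (.leaf 913) (.leaf 914))) (.node 1 (.leaf 916) (.node 1 (.leaf 918) (.leaf 920))))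
(.node 3 (.node 1 (.leaf 921) (.node 1 (.leaf 924) (.leaf 925))) (.node 1 (.leaf 926) (.node 1 (.leaf 928) (.leaf 932))))))))
(.node 48 (.node 24 (.node 12 (.node 6 (.node 3 (.node 1 (.leaf 934) (.node 1 (.leaf 936) (.leaf 937))) (.node 1 (.leaf 940) (.node 1 (.leaf 941) (.leaf 942))))
(.node 3 (.node 1 (.leaf 944) (.node 1 (.leaf 945) (.leaf 948))) (.node 1 (.leaf 954) (.node 1 (.leaf 957) (.leaf 958)))))
(.node 6 (.node 3 (.node 1 (.leaf 960) (.node 1 (.leaf 962) (.leaf 964))) (.node 1 (.leaf 965) (.node 1 (.leaf 968) (.leaf 969))))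
(.node 3 (.node 1 (.leaf 970) (.node 1 (.leaf 973) (.leaf 976))) (.node 1 (.leaf 977) (.node 1 (.leaf 981) (.leaf 982))))))
(.node 12 (.node 6 (.node 3 (.node 1 (.leaf 984) (.node 1 (.leaf 986) (.leaf 989))) (.node 1 (.leaf 994) (.node 1 (.leaf 996) (.leaf 997))))
(.node 3 (.node 1 (.leaf 1000) (.node 1 (.leaf 1001) (.leaf 1004))) (.node 1 (.leaf 1009) (.node 1 (.leaf 1010) (.leaf 1012)))))
(.node 6 (.node 3 (.node 1 (.leaf 1014) (.node 1 (.leaf 1016) (.leaf 1017))) (.node 1 (.leaf 1020) (.node 1 (.leaf 1022) (.leaf 1024))))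
(.node 3 (.node 1 (.leaf 1025) (.node 1 (.leaf 1029) (.leaf 1033))) (.node 1 (.leaf 1036) (.node 1 (.leaf 1037) (.leaf 1040)))))))
(.node 24 (.node 12 (.node 6 (.node 3 (.node 1 (.leaf 1045) (.node 1 (.leaf 1048) (.leaf 1050))) (.node 1 (.leaf 1052) (.node 1 (.leaf 1056) (.leaf 1057))))
(.node 3 (.node 1 (.leaf 1060) (.node 1 (.leaf 1061) (.leaf 1064))) (.node 1 (.leaf 1065) (.node 1 (.leaf 1066) (.leaf 1068)))))
(.node 6 (.node 3 (.node 1 (.leaf 1070) (.node 1 (.leaf 1073) (.leaf 1076))) (.node 1 (.leaf 1078) (.node 1 (.leaf 1080) (.leaf 1081))))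
(.node 3 (.node 1 (.leaf 1084) (.node 1 (.leaf 1085) (.leaf 1086))) (.node 1 (.leaf 1093) (.node 1 (.leaf 1098) (.leaf 1100))))))
(.node 12 (.node 6 (.node 3 (.node 1 (.leaf 1101) (.node 1 (.leaf 1104) (.leaf 1105))) (.node 1 (.leaf 1108) (.node 1 (.leaf 1110) (.leaf 1113))))
(.node 3 (.node 1 (.leaf 1116) (.node 1 (.leaf 1117) (.leaf 1120))) (.node 1 (.leaf 1122) (.node 1 (.leaf 1125) (.leaf 1128)))))
(.node 6 (.node 3 (.node 1 (.leaf 1130) (.node 1 (.leaf 1132) (.leaf 1136))) (.node 1 (.leaf 1137) (.node 1 (.leaf 1138) (.leaf 1140))))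
(.node 3 (.node 1 (.leaf 1144) (.node 1 (.leaf 1146) (.leaf 1148))) (.node 1 (.leaf 1152) (.node 1 (.leaf 1153) (.leaf 1154)))))))))
(.node 96 (.node 48 (.node 24 (.node 12 (.node 6 (.node 3 (.node 1 (.leaf 1157) (.node 1 (.leaf 1158) (.leaf 1160))) (.node 1 (.leaf 1165) (.node 1 (.leaf 1166) (.leaf 1169))))
(.node 3 (.node 1 (.leaf 1170) (.node 1 (.leaf 1172) (.leaf 1174))) (.node 1 (.leaf 1176) (.node 1 (.leaf 1180) (.leaf 1181)))))
(.node 6 (.node 3 (.node 1 (.leaf 1182) (.node 1 (.leaf 1184) (.leaf 1188))) (.node 1 (.leaf 1190) (.node 1 (.leaf 1192) (.leaf 1196))))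
(.node 3 (.node 1 (.leaf 1197) (.node 1 (.leaf 1198) (.leaf 1200))) (.node 1 (.leaf 1201) (.node 1 (.leaf 1204) (.leaf 1205))))))
(.node 12 (.node 6 (.node 3 (.node 1 (.leaf 1208) (.node 1 (.leaf 1216) (.leaf 1218))) (.node 1 (.leaf 1220) (.node 1 (.leaf 1221) (.leaf 1224))))
(.node 3 (.node 1 (.leaf 1225) (.node 1 (.leaf 1229) (.leaf 1232))) (.node 1 (.leaf 1233) (.node 1 (.leaf 1237) (.leaf 1238)))))
(.node 6 (.node 3 (.node 1 (.leaf 1242) (.node 1 (.leaf 1245) (.leaf 1246))) (.node 1 (.leaf 1250) (.node 1 (.leaf 1252) (.leaf 1253))))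
(.node 3 (.node 1 (.leaf 1256) (.node 1 (.leaf 1257) (.leaf 1258))) (.node 1 (.leaf 1260) (.node 1 (.leaf 1262) (.leaf 1265)))))))
(.node 24 (.node 12 (.node 6 (.node 3 (.node 1 (.leaf 1266) (.node 1 (.leaf 1268) (.leaf 1270))) (.node 1 (.leaf 1273) (.node 1 (.leaf 1280) (.leaf 1282))))
(.node 3 (.node 1 (.leaf 1284) (.node 1 (.leaf 1285) (.leaf 1288))) (.node 1 (.leaf 1289) (.node 1 (.leaf 1292) (.leaf 1293)))))
(.node 6 (.node 3 (.node 1 (.leaf 1296) (.node 1 (.leaf 1297) (.leaf 1300))) (.node 1 (.leaf 1302) (.node 1 (.leaf 1305) (.leaf 1306))))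
(.node 3 (.node 1 (.leaf 1308) (.node 1 (.leaf 1310) (.leaf 1312))) (.node 1 (.leaf 1313) (.node 1 (.leaf 1318) (.leaf 1321))))))
(.node 12 (.node 6 (.node 3 (.node 1 (.leaf 1322) (.node 1 (.leaf 1324) (.leaf 1326))) (.node 1 (.leaf 1330) (.node 1 (.leaf 1332) (.leaf 1333))))
(.node 3 (.node 1 (.leaf 1336) (.node 1 (.leaf 1338) (.leaf 1344))) (.node 1 (.leaf 1346) (.node 1 (.leaf 1348) (.leaf 1352)))))
(.node 6 (.node 3 (.node 1 (.leaf 1356) (.node 1 (.leaf 1357) (.leaf 1360))) (.node 1 (.leaf 1362) (.node 1 (.leaf 1365) (.leaf 1366))))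
(.node 3 (.node 1 (.leaf 1368) (.node 1 (.leaf 1376) (.leaf 1377))) (.node 1 (.leaf 1378) (.node 1 (.leaf 1380) (.leaf 1384))))))))
(.node 48 (.node 24 (.node 12 (.node 6 (.node 3 (.node 1 (.leaf 1386) (.node 1 (.leaf 1389) (.leaf 1393))) (.node 1 (.leaf 1394) (.node 1 (.leaf 1397) (.leaf 1402))))
(.node 3 (.node 1 (.leaf 1404) (.node 1 (.leaf 1406) (.leaf 1409))) (.node 1 (.leaf 1416) (.node 1 (.leaf 1417) (.leaf 1420)))))
(.node 6 (.node 3 (.node 1 (.leaf 1421) (.node 1 (.leaf 1422) (.leaf 1424))) (.node 1 (.leaf 1426) (.node 1 (.leaf 1430) (.leaf 1436))))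
(.node 3 (.node 1 (.leaf 1437) (.node 1 (.leaf 1438) (.leaf 1440))) (.node 1 (.leaf 1442) (.node 1 (.leaf 1445) (.leaf 1446))))))
(.node 12 (.node 6 (.node 3 (.node 1 (.leaf 1448) (.node 1 (.leaf 1452) (.leaf 1453))) (.node 1 (.leaf 1456) (.node 1 (.leaf 1462) (.leaf 1464))))
(.node 3 (.node 1 (.leaf 1469) (.node 1 (.leaf 1470) (.leaf 1472))) (.node 1 (.leaf 1473) (.node 1 (.leaf 1480) (.leaf 1482)))))
(.node 6 (.node 3 (.node 1 (.leaf 1485) (.node 1 (.leaf 1486) (.leaf 1488))) (.node 1 (.leaf 1490) (.node 1 (.leaf 1492) (.leaf 1493))))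
(.node 3 (.node 1 (.leaf 1498) (.node 1 (.leaf 1500) (.leaf 1501))) (.node 1 (.leaf 1504) (.node 1 (.leaf 1505) (.leaf 1506)))))))
(.node 24 (.node 12 (.node 6 (.node 3 (.node 1 (.leaf 1508) (.node 1 (.leaf 1510) (.leaf 1516))) (.node 1 (.leaf 1518) (.node 1 (.leaf 1521) (.leaf 1526))))
(.node 3 (.node 1 (.leaf 1528) (.node 1 (.leaf 1534) (.leaf 1536))) (.node 1 (.leaf 1537) (.node 1 (.leaf 1540) (.leaf 1541)))))
(.node 6 (.node 3 (.node 1 (.leaf 1544) (.node 1 (.leaf 1546) (.leaf 1548))) (.node 1 (.leaf 1549) (.node 1 (.leaf 1553) (.leaf 1554))))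
(.node 3 (.node 1 (.leaf 1556) (.node 1 (.leaf 1558) (.leaf 1564))) (.node 1 (.leaf 1566) (.node 1 (.leaf 1573) (.leaf 1574))))))
(.node 12 (.node 6 (.node 3 (.node 1 (.leaf 1576) (.node 1 (.leaf 1582) (.leaf 1585))) (.node 1 (.leaf 1588) (.node 1 (.leaf 1594) (.leaf 1597))))
(.node 3 (.node 1 (.leaf 1600) (.node 1 (.leaf 1601) (.leaf 1604))) (.node 1 (.leaf 1605) (.node 1 (.leaf 1608) (.leaf 1609)))))
(.node 6 (.node 3 (.node 1 (.leaf 1610) (.node 1 (.leaf 1612) (.leaf 1614))) (.node 1 (.leaf 1617) (.node 1 (.leaf 1618) (.leaf 1620))))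
(.node 3 (.node 1 (.leaf 1624) (.node 1 (.leaf 1625) (.leaf 1632))) (.node 1 (.leaf 1633) (.node 1 (.leaf 1634) (.leaf 1636)))))))))))
(.node 384 (.node 192 (.node 96 (.node 48 (.node 24 (.node 12 (.node 6 (.node 3 (.node 1 (.leaf 1638) (.node 1 (.leaf 1641) (.leaf 1646))) (.node 1 (.leaf 1648) (.node 1 (.leaf 1649) (.leaf 1652))))
(.node 3 (.node 1 (.leaf 1653) (.node 1 (.leaf 1654) (.leaf 1660))) (.node 1 (.leaf 1664) (.node 1 (.leaf 1665) (.leaf 1666)))))
(.node 6 (.node 3 (.node 1 (.leaf 1668) (.node 1 (.leaf 1669) (.leaf 1672))) (.node 1 (.leaf 1678) (.node 1 (.leaf 1681) (.leaf 1682))))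
(.node 3 (.node 1 (.leaf 1684) (.node 1 (.leaf 1686) (.leaf 1688))) (.node 1 (.leaf 1689) (.node 1 (.leaf 1692) (.leaf 1693))))))
(.node 12 (.node 6 (.node 3 (.node 1 (.leaf 1694) (.node 1 (.leaf 1697) (.leaf 1701))) (.node 1 (.leaf 1708) (.node 1 (.leaf 1709) (.leaf 1712))))
(.node 3 (.node 1 (.leaf 1713) (.node 1 (.leaf 1716) (.leaf 1721))) (.node 1 (.leaf 1722) (.node 1 (.leaf 1724) (.leaf 1726)))))
(.node 6 (.node 3 (.node 1 (.leaf 1728) (.node 1 (.leaf 1729) (.leaf 1732))) (.node 1 (.leaf 1734) (.node 1 (.leaf 1736) (.leaf 1741))))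
(.node 3 (.node 1 (.leaf 1745) (.node 1 (.leaf 1748) (.leaf 1749))) (.node 1 (.leaf 1752) (.node 1 (.leaf 1757) (.leaf 1760)))))))
(.node 24 (.node 12 (.node 6 (.node 3 (.node 1 (.leaf 1764) (.node 1 (.leaf 1765) (.leaf 1769))) (.node 1 (.leaf 1773) (.node 1 (.leaf 1776) (.leaf 1778))))
(.node 3 (.node 1 (.leaf 1781) (.node 1 (.leaf 1784) (.leaf 1786))) (.node 1 (.leaf 1788) (.node 1 (.leaf 1792) (.leaf 1793)))))
(.node 6 (.node 3 (.node 1 (.leaf 1794) (.node 1 (.leaf 1801) (.leaf 1805))) (.node 1 (.leaf 1808) (.node 1 (.leaf 1810) (.leaf 1813))))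
(.node 3 (.node 1 (.leaf 1816) (.node 1 (.leaf 1818) (.leaf 1824))) (.node 1 (.leaf 1825) (.node 1 (.leaf 1826) (.leaf 1828))))))
(.node 12 (.node 6 (.node 3 (.node 1 (.leaf 1832) (.node 1 (.leaf 1834) (.leaf 1836))) (.node 1 (.leaf 1840) (.node 1 (.leaf 1841) (.leaf 1842))))
(.node 3 (.node 1 (.leaf 1845) (.node 1 (.leaf 1848) (.leaf 1853))) (.node 1 (.leaf 1854) (.node 1 (.leaf 1857) (.leaf 1858)))))
(.node 6 (.node 3 (.node 1 (.leaf 1860) (.node 1 (.leaf 1862) (.leaf 1868))) (.node 1 (.leaf 1869) (.node 1 (.leaf 1870) (.leaf 1872))))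
(.node 3 (.node 1 (.leaf 1876) (.node 1 (.leaf 1878) (.leaf 1880))) (.node 1 (.leaf 1885) (.node 1 (.leaf 1886) (.leaf 1889))))))))
(.node 48 (.node 24 (.node 12 (.node 6 (.node 3 (.node 1 (.leaf 1892) (.node 1 (.leaf 1893) (.leaf 1896))) (.node 1 (.leaf 1904) (.node 1 (.leaf 1908) (.leaf 1909))))
(.node 3 (.node 1 (.leaf 1912) (.node 1 (.leaf 1913) (.leaf 1917))) (.node 1 (.leaf 1920) (.node 1 (.leaf 1921) (.leaf 1925)))))
(.node 6 (.node 3 (.node 1 (.leaf 1926) (.node 1 (.leaf 1933) (.leaf 1938))) (.node 1 (.leaf 1940) (.node 1 (.leaf 1941) (.leaf 1944))))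
(.node 3 (.node 1 (.leaf 1945) (.node 1 (.leaf 1946) (.leaf 1948))) (.node 1 (.leaf 1950) (.node 1 (.leaf 1953) (.leaf 1954))))))
(.node 12 (.node 6 (.node 3 (.node 1 (.leaf 1960) (.node 1 (.leaf 1962) (.leaf 1964))) (.node 1 (.leaf 1965) (.node 1 (.leaf 1969) (.leaf 1973))))
(.node 3 (.node 1 (.leaf 1976) (.node 1 (.leaf 1982) (.leaf 1985))) (.node 1 (.leaf 1986) (.node 1 (.leaf 1988) (.leaf 1990)))))
(.node 6 (.node 3 (.node 1 (.leaf 1998) (.node 1 (.leaf 2001) (.leaf 2002))) (.node 1 (.leaf 2004) (.node 1 (.leaf 2006) (.leaf 2010))))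
(.node 3 (.node 1 (.leaf 2013) (.node 1 (.leaf 2016) (.leaf 2018))) (.node 1 (.leaf 2024) (.node 1 (.leaf 2028) (.leaf 2032)))))))
(.node 24 (.node 12 (.node 6 (.node 3 (.node 1 (.leaf 2033) (.node 1 (.leaf 2036) (.leaf 2038))) (.node 1 (.leaf 2041) (.node 1 (.leaf 2042) (.leaf 2044))))
(.node 3 (.node 1 (.leaf 2048) (.node 1 (.leaf 2049) (.leaf 2052))) (.node 1 (.leaf 2054) (.node 1 (.leaf 2057) (.leaf 2062)))))
(.node 6 (.node 3 (.node 1 (.leaf 2065) (.node 1 (.leaf 2070) (.leaf 2074))) (.node 1 (.leaf 2080) (.node 1 (.leaf 2081) (.leaf 2084))))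
(.node 3 (.node 1 (.leaf 2085) (.node 1 (.leaf 2086) (.leaf 2088))) (.node 1 (.leaf 2090) (.node 1 (.leaf 2101) (.leaf 2102))))))
(.node 12 (.node 6 (.node 3 (.node 1 (.leaf 2104) (.node 1 (.leaf 2108) (.leaf 2109))) (.node 1 (.leaf 2117) (.node 1 (.leaf 2118) (.leaf 2120))))
(.node 3 (.node 1 (.leaf 2129) (.node 1 (.leaf 2132) (.leaf 2134))) (.node 1 (.leaf 2136) (.node 1 (.leaf 2137) (.leaf 2138)))))
(.node 6 (.node 3 (.node 1 (.leaf 2140) (.node 1 (.leaf 2142) (.leaf 2145))) (.node 1 (.leaf 2150) (.node 1 (.leaf 2156) (.leaf 2157))))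
(.node 3 (.node 1 (.leaf 2158) (.node 1 (.leaf 2160) (.leaf 2164))) (.node 1 (.leaf 2168) (.node 1 (.leaf 2170) (.leaf 2173)))))))))
(.node 96 (.node 48 (.node 24 (.node 12 (.node 6 (.node 3 (.node 1 (.leaf 2176) (.node 1 (.leaf 2180) (.leaf 2185))) (.node 1 (.leaf 2190) (.node 1 (.leaf 2192) (.leaf 2193))))
(.node 3 (.node 1 (.leaf 2198) (.node 1 (.leaf 2200) (.leaf 2201))) (.node 1 (.leaf 2206) (.node 1 (.leaf 2208) (.leaf 2210)))))
(.node 6 (.node 3 (.node 1 (.leaf 2216) (.node 1 (.leaf 2221) (.leaf 2224))) (.node 1 (.leaf 2230) (.node 1 (.leaf 2233) (.leaf 2236))))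
(.node 3 (.node 1 (.leaf 2240) (.node 1 (.leaf 2241) (.leaf 2244))) (.node 1 (.leaf 2248) (.node 1 (.leaf 2252) (.leaf 2253))))))
(.node 12 (.node 6 (.node 3 (.node 1 (.leaf 2254) (.node 1 (.leaf 2256) (.leaf 2260))) (.node 1 (.leaf 2265) (.node 1 (.leaf 2268) (.leaf 2270))))
(.node 3 (.node 1 (.leaf 2272) (.node 1 (.leaf 2276) (.leaf 2277))) (.node 1 (.leaf 2278) (.node 1 (.leaf 2281) (.leaf 2284)))))
(.node 6 (.node 3 (.node 1 (.leaf 2290) (.node 1 (.leaf 2293) (.leaf 2298))) (.node 1 (.leaf 2300) (.node 1 (.leaf 2304) (.leaf 2306))))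
(.node 3 (.node 1 (.leaf 2308) (.node 1 (.leaf 2313) (.leaf 2316))) (.node 1 (.leaf 2318) (.node 1 (.leaf 2320) (.leaf 2324)))))))
(.node 24 (.node 12 (.node 6 (.node 3 (.node 1 (.leaf 2326) (.node 1 (.leaf 2328) (.leaf 2332))) (.node 1 (.leaf 2333) (.node 1 (.leaf 2334) (.leaf 2336))))
(.node 3 (.node 1 (.leaf 2340) (.node 1 (.leaf 2341) (.leaf 2348))) (.node 1 (.leaf 2350) (.node 1 (.leaf 2352) (.leaf 2356)))))
(.node 6 (.node 3 (.node 1 (.leaf 2357) (.node 1 (.leaf 2364) (.leaf 2369))) (.node 1 (.leaf 2370) (.node 1 (.leaf 2374) (.leaf 2380))))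
(.node 3 (.node 1 (.leaf 2381) (.node 1 (.leaf 2384) (.leaf 2385))) (.node 1 (.leaf 2388) (.node 1 (.leaf 2393) (.leaf 2394))))))
(.node 12 (.node 6 (.node 3 (.node 1 (.leaf 2396) (.node 1 (.leaf 2409) (.leaf 2412))) (.node 1 (.leaf 2413) (.node 1 (.leaf 2416) (.leaf 2421))))
(.node 3 (.node 1 (.leaf 2424) (.node 1 (.leaf 2430) (.leaf 2433))) (.node 1 (.leaf 2434) (.node 1 (.leaf 2438) (.leaf 2442)))))
(.node 6 (.node 3 (.node 1 (.leaf 2444) (.node 1 (.leaf 2445) (.leaf 2452))) (.node 1 (.leaf 2454) (.node 1 (.leaf 2456) (.leaf 2460))))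
(.node 3 (.node 1 (.leaf 2464) (.node 1 (.leaf 2465) (.leaf 2468))) (.node 1 (.leaf 2470) (.node 1 (.leaf 2473) (.leaf 2474))))))))
(.node 48 (.node 24 (.node 12 (.node 6 (.node 3 (.node 1 (.leaf 2476) (.node 1 (.leaf 2492) (.leaf 2494))) (.node 1 (.leaf 2497) (.node 1 (.leaf 2508) (.leaf 2510))))
(.node 3 (.node 1 (.leaf 2516) (.node 1 (.leaf 2517) (.leaf 2520))) (.node 1 (.leaf 2521) (.node 1 (.leaf 2522) (.leaf 2524)))))
(.node 6 (.node 3 (.node 1 (.leaf 2526) (.node 1 (.leaf 2536) (.leaf 2538))) (.node 1 (.leaf 2540) (.node 1 (.leaf 2542) (.leaf 2545))))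
(.node 3 (.node 1 (.leaf 2546) (.node 1 (.leaf 2548) (.leaf 2553))) (.node 1 (.leaf 2562) (.node 1 (.leaf 2569) (.leaf 2572))))))
(.node 12 (.node 6 (.node 3 (.node 1 (.leaf 2573) (.node 1 (.leaf 2580) (.leaf 2582))) (.node 1 (.leaf 2584) (.node 1 (.leaf 2590) (.leaf 2592))))
(.node 3 (.node 1 (.leaf 2593) (.node 1 (.leaf 2596) (.leaf 2598))) (.node 1 (.leaf 2600) (.node 1 (.leaf 2605) (.leaf 2609)))))
(.node 6 (.node 3 (.node 1 (.leaf 2612) (.node 1 (.leaf 2617) (.leaf 2618))) (.node 1 (.leaf 2620) (.node 1 (.leaf 2621) (.leaf 2626))))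
(.node 3 (.node 1 (.leaf 2633) (.node 1 (.leaf 2638) (.leaf 2648))) (.node 1 (.leaf 2649) (.node 1 (.leaf 2656) (.leaf 2658)))))))
(.node 24 (.node 12 (.node 6 (.node 3 (.node 1 (.leaf 2660) (.node 1 (.leaf 2661) (.leaf 2665))) (.node 1 (.leaf 2666) (.node 1 (.leaf 2670) (.leaf 2672))))
(.node 3 (.node 1 (.leaf 2680) (.node 1 (.leaf 2682) (.leaf 2685))) (.node 1 (.leaf 2688) (.node 1 (.leaf 2689) (.leaf 2692)))))
(.node 6 (.node 3 (.node 1 (.leaf 2698) (.node 1 (.leaf 2701) (.leaf 2704))) (.node 1 (.leaf 2708) (.node 1 (.leaf 2709) (.leaf 2713))))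
(.node 3 (.node 1 (.leaf 2717) (.node 1 (.leaf 2724) (.leaf 2725))) (.node 1 (.leaf 2726) (.node 1 (.leaf 2730) (.leaf 2736))))))
(.node 12 (.node 6 (.node 3 (.node 1 (.leaf 2738) (.node 1 (.leaf 2740) (.leaf 2746))) (.node 1 (.leaf 2757) (.node 1 (.leaf 2760) (.leaf 2768))))
(.node 3 (.node 1 (.leaf 2770) (.node 1 (.leaf 2776) (.leaf 2778))) (.node 1 (.leaf 2780) (.node 1 (.leaf 2785) (.leaf 2786)))))
(.node 6 (.node 3 (.node 1 (.leaf 2790) (.node 1 (.leaf 2792) (.leaf 2797))) (.node 1 (.leaf 2806) (.node 1 (.leaf 2812) (.leaf 2818))))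
(.node 3 (.node 1 (.leaf 2820) (.node 1 (.leaf 2822) (.leaf 2825))) (.node 1 (.leaf 2832) (.node 1 (.leaf 2834) (.leaf 2837))))))))))
(.node 192 (.node 96 (.node 48 (.node 24 (.node 12 (.node 6 (.node 3 (.node 1 (.leaf 2842) (.node 1 (.leaf 2848) (.leaf 2849))) (.node 1 (.leaf 2852) (.node 1 (.leaf 2854) (.leaf 2857))))
(.node 3 (.node 1 (.leaf 2862) (.node 1 (.leaf 2866) (.leaf 2872))) (.node 1 (.leaf 2874) (.node 1 (.leaf 2882) (.leaf 2884)))))
(.node 6 (.node 3 (.node 1 (.leaf 2890) (.node 1 (.leaf 2893) (.leaf 2901))) (.node 1 (.leaf 2908) (.node 1 (.leaf 2909) (.leaf 2912))))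
(.node 3 (.node 1 (.leaf 2913) (.node 1 (.leaf 2916) (.leaf 2918))) (.node 1 (.leaf 2924) (.node 1 (.leaf 2937) (.leaf 2940))))))
(.node 12 (.node 6 (.node 3 (.node 1 (.leaf 2942) (.node 1 (.leaf 2946) (.leaf 2954))) (.node 1 (.leaf 2962) (.node 1 (.leaf 2970) (.leaf 2977))))
(.node 3 (.node 1 (.leaf 2980) (.node 1 (.leaf 2981) (.leaf 2984))) (.node 1 (.leaf 2993) (.node 1 (.leaf 2996) (.leaf 3004)))))
(.node 6 (.node 3 (.node 1 (.leaf 3009) (.node 1 (.leaf 3012) (.leaf 3014))) (.node 1 (.leaf 3017) (.node 1 (.leaf 3022) (.leaf 3028))))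
(.node 3 (.node 1 (.leaf 3029) (.node 1 (.leaf 3030) (.leaf 3036))) (.node 1 (.leaf 3038) (.node 1 (.leaf 3044) (.leaf 3057)))))))
(.node 24 (.node 12 (.node 6 (.node 3 (.node 1 (.leaf 3062) (.node 1 (.leaf 3068) (.leaf 3069))) (.node 1 (.leaf 3070) (.node 1 (.leaf 3072) (.leaf 3076))))
(.node 3 (.node 1 (.leaf 3081) (.node 1 (.leaf 3084) (.leaf 3088))) (.node 1 (.leaf 3096) (.node 1 (.leaf 3100) (.leaf 3101)))))
(.node 6 (.node 3 (.node 1 (.leaf 3105) (.node 1 (.leaf 3109) (.leaf 3116))) (.node 1 (.leaf 3117) (.node 1 (.leaf 3120) (.leaf 3121))))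
(.node 3 (.node 1 (.leaf 3122) (.node 1 (.leaf 3129) (.leaf 3130))) (.node 1 (.leaf 3138) (.node 1 (.leaf 3140) (.leaf 3141))))))
(.node 12 (.node 6 (.node 3 (.node 1 (.leaf 3149) (.node 1 (.leaf 3152) (.leaf 3158))) (.node 1 (.leaf 3166) (.node 1 (.leaf 3176) (.leaf 3181))))
(.node 3 (.node 1 (.leaf 3184) (.node 1 (.leaf 3189) (.leaf 3190))) (.node 1 (.leaf 3192) (.node 1 (.leaf 3196) (.leaf 3202)))))
(.node 6 (.node 3 (.node 1 (.leaf 3205) (.node 1 (.leaf 3210) (.leaf 3213))) (.node 1 (.leaf 3218) (.node 1 (.leaf 3228) (.leaf 3233))))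
(.node 3 (.node 1 (.leaf 3234) (.node 1 (.leaf 3245) (.leaf 3246))) (.node 1 (.leaf 3248) (.node 1 (.leaf 3252) (.leaf 3253))))))))
(.node 48 (.node 24 (.node 12 (.node 6 (.node 3 (.node 1 (.leaf 3261) (.node 1 (.leaf 3268) (.leaf 3270))) (.node 1 (.leaf 3274) (.node 1 (.leaf 3281) (.leaf 3284))))
(.node 3 (.node 1 (.leaf 3288) (.node 1 (.leaf 3292) (.leaf 3305))) (.node 1 (.leaf 3310) (.node 1 (.leaf 3312) (.leaf 3318)))))
(.node 6 (.node 3 (.node 1 (.leaf 3320) (.node 1 (.leaf 3324) (.leaf 3325))) (.node 1 (.leaf 3328) (.node 1 (.leaf 3336) (.leaf 3340))))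
(.node 3 (.node 1 (.leaf 3350) (.node 1 (.leaf 3364) (.leaf 3370))) (.node 1 (.leaf 3373) (.node 1 (.leaf 3380) (.leaf 3384))))))
(.node 12 (.node 6 (.node 3 (.node 1 (.leaf 3386) (.node 1 (.leaf 3392) (.leaf 3400))) (.node 1 (.leaf 3402) (.node 1 (.leaf 3404) (.leaf 3409))))
(.node 3 (.node 1 (.leaf 3410) (.node 1 (.leaf 3412) (.leaf 3420))) (.node 1 (.leaf 3422) (.node 1 (.leaf 3428) (.leaf 3429)))))
(.node 6 (.node 3 (.node 1 (.leaf 3436) (.node 1 (.leaf 3442) (.leaf 3448))) (.node 1 (.leaf 3458) (.node 1 (.leaf 3472) (.leaf 3473))))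
(.node 3 (.node 1 (.leaf 3476) (.node 1 (.leaf 3481) (.leaf 3484))) (.node 1 (.leaf 3490) (.node 1 (.leaf 3493) (.leaf 3494)))))))
(.node 24 (.node 12 (.node 6 (.node 3 (.node 1 (.leaf 3505) (.node 1 (.leaf 3508) (.leaf 3512))) (.node 1 (.leaf 3516) (.node 1 (.leaf 3517) (.leaf 3520))))
(.node 3 (.node 1 (.leaf 3526) (.node 1 (.leaf 3528) (.leaf 3544))) (.node 1 (.leaf 3546) (.node 1 (.leaf 3549) (.leaf 3556)))))
(.node 6 (.node 3 (.node 1 (.leaf 3557) (.node 1 (.leaf 3561) (.leaf 3562))) (.node 1 (.leaf 3564) (.node 1 (.leaf 3574) (.leaf 3577))))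
(.node 3 (.node 1 (.leaf 3578) (.node 1 (.leaf 3586) (.leaf 3606))) (.node 1 (.leaf 3612) (.node 1 (.leaf 3614) (.leaf 3616))))))
(.node 12 (.node 6 (.node 3 (.node 1 (.leaf 3621) (.node 1 (.leaf 3633) (.leaf 3638))) (.node 1 (.leaf 3642) (.node 1 (.leaf 3652) (.leaf 3653))))
(.node 3 (.node 1 (.leaf 3660) (.node 1 (.leaf 3662) (.leaf 3664))) (.node 1 (.leaf 3665) (.node 1 (.leaf 3669) (.leaf 3670)))))
(.node 6 (.node 3 (.node 1 (.leaf 3674) (.node 1 (.leaf 3676) (.leaf 3684))) (.node 1 (.leaf 3685) (.node 1 (.leaf 3693) (.leaf 3696))))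
(.node 3 (.node 1 (.leaf 3701) (.node 1 (.leaf 3705) (.leaf 3714))) (.node 1 (.leaf 3722) (.node 1 (.leaf 3730) (.leaf 3736)))))))))
(.node 96 (.node 48 (.node 24 (.node 12 (.node 6 (.node 3 (.node 1 (.leaf 3738) (.node 1 (.leaf 3740) (.leaf 3746))) (.node 1 (.leaf 3750) (.node 1 (.leaf 3766) (.leaf 3773))))
(.node 3 (.node 1 (.leaf 3781) (.node 1 (.leaf 3786) (.leaf 3792))) (.node 1 (.leaf 3793) (.node 1 (.leaf 3794) (.leaf 3810)))))
(.node 6 (.node 3 (.node 1 (.leaf 3814) (.node 1 (.leaf 3822) (.leaf 3832))) (.node 1 (.leaf 3833) (.node 1 (.leaf 3842) (.leaf 3856))))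
(.node 3 (.node 1 (.leaf 3860) (.node 1 (.leaf 3872) (.leaf 3874))) (.node 1 (.leaf 3882) (.node 1 (.leaf 3890) (.leaf 3898))))))
(.node 12 (.node 6 (.node 3 (.node 1 (.leaf 3900) (.node 1 (.leaf 3904) (.leaf 3909))) (.node 1 (.leaf 3916) (.node 1 (.leaf 3925) (.leaf 3929))))
(.node 3 (.node 1 (.leaf 3934) (.node 1 (.leaf 3936) (.leaf 3941))) (.node 1 (.leaf 3942) (.node 1 (.leaf 3946) (.leaf 3948)))))
(.node 6 (.node 3 (.node 1 (.leaf 3950) (.node 1 (.leaf 3960) (.leaf 3978))) (.node 1 (.leaf 3982) (.node 1 (.leaf 3985) (.leaf 3988))))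
(.node 3 (.node 1 (.leaf 3996) (.node 1 (.leaf 3997) (.leaf 4010))) (.node 1 (.leaf 4032) (.node 1 (.leaf 4038) (.leaf 4048)))))))
(.node 24 (.node 12 (.node 6 (.node 3 (.node 1 (.leaf 4052) (.node 1 (.leaf 4058) (.leaf 4072))) (.node 1 (.leaf 4073) (.node 1 (.leaf 4080) (.leaf 4085))))
(.node 3 (.node 1 (.leaf 4086) (.node 1 (.leaf 4090) (.leaf 4092))) (.node 1 (.leaf 4093) (.node 1 (.leaf 4101) (.leaf 4104)))))
(.node 6 (.node 3 (.node 1 (.leaf 4109) (.node 1 (.leaf 4110) (.leaf 4112))) (.node 1 (.leaf 4122) (.node 1 (.leaf 4137) (.leaf 4140))))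
(.node 3 (.node 1 (.leaf 4153) (.node 1 (.leaf 4156) (.leaf 4162))) (.node 1 (.leaf 4164) (.node 1 (.leaf 4165) (.leaf 4168))))))
(.node 12 (.node 6 (.node 3 (.node 1 (.leaf 4173) (.node 1 (.leaf 4177) (.leaf 4180))) (.node 1 (.leaf 4186) (.node 1 (.leaf 4193) (.leaf 4198))))
(.node 3 (.node 1 (.leaf 4208) (.node 1 (.leaf 4216) (.leaf 4218))) (.node 1 (.leaf 4221) (.node 1 (.leaf 4233) (.leaf 4245)))))
(.node 6 (.node 3 (.node 1 (.leaf 4248) (.node 1 (.leaf 4250) (.leaf 4262))) (.node 1 (.leaf 4264) (.node 1 (.leaf 4270) (.leaf 4286))))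
(.node 3 (.node 1 (.leaf 4292) (.node 1 (.leaf 4294) (.leaf 4304))) (.node 1 (.leaf 4320) (.node 1 (.leaf 4325) (.leaf 4333))))))))
(.node 48 (.node 24 (.node 12 (.node 6 (.node 3 (.node 1 (.leaf 4336) (.node 1 (.leaf 4337) (.leaf 4349))) (.node 1 (.leaf 4350) (.node 1 (.leaf 4352) (.leaf 4366))))
(.node 3 (.node 1 (.leaf 4368) (.node 1 (.leaf 4380) (.leaf 4381))) (.node 1 (.leaf 4384) (.node 1 (.leaf 4389) (.leaf 4401)))))
(.node 6 (.node 3 (.node 1 (.leaf 4404) (.node 1 (.leaf 4409) (.leaf 4413))) (.node 1 (.leaf 4418) (.node 1 (.leaf 4426) (.leaf 4453))))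
(.node 3 (.node 1 (.leaf 4462) (.node 1 (.leaf 4472) (.leaf 4477))) (.node 1 (.leaf 4498) (.node 1 (.leaf 4516) (.leaf 4520))))))
(.node 12 (.node 6 (.node 3 (.node 1 (.leaf 4524) (.node 1 (.leaf 4529) (.leaf 4541))) (.node 1 (.leaf 4554) (.node 1 (.leaf 4565) (.leaf 4570))))
(.node 3 (.node 1 (.leaf 4573) (.node 1 (.leaf 4594) (.leaf 4601))) (.node 1 (.leaf 4609) (.node 1 (.leaf 4630) (.leaf 4642)))))
(.node 6 (.node 3 (.node 1 (.leaf 4674) (.node 1 (.leaf 4732) (.leaf 4757))) (.node 1 (.leaf 4778) (.node 1 (.leaf 4796) (.leaf 4810))))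
(.node 3 (.node 1 (.leaf 4830) (.node 1 (.leaf 4844) (.leaf 4852))) (.node 1 (.leaf 4860) (.node 1 (.leaf 4866) (.leaf 4881)))))))
(.node 24 (.node 12 (.node 6 (.node 3 (.node 1 (.leaf 4890) (.node 1 (.leaf 4901) (.leaf 4902))) (.node 1 (.leaf 4914) (.node 1 (.leaf 4921) (.leaf 4926))))
(.node 3 (.node 1 (.leaf 4933) (.node 1 (.leaf 4934) (.leaf 4938))) (.node 1 (.leaf 4941) (.node 1 (.leaf 4949) (.leaf 4957)))))
(.node 6 (.node 3 (.node 1 (.leaf 4966) (.node 1 (.leaf 4974) (.leaf 4982))) (.node 1 (.leaf 4986) (.node 1 (.leaf 4997) (.leaf 5057))))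
(.node 3 (.node 1 (.leaf 5061) (.node 1 (.leaf 5070) (.leaf 5073))) (.node 1 (.leaf 5100) (.node 1 (.leaf 5112) (.leaf 5145))))))
(.node 12 (.node 6 (.node 3 (.node 1 (.leaf 5178) (.node 1 (.leaf 5181) (.leaf 5190))) (.node 1 (.leaf 5194) (.node 1 (.leaf 5238) (.leaf 5246))))
(.node 3 (.node 1 (.leaf 5252) (.node 1 (.leaf 5254) (.leaf 5309))) (.node 1 (.leaf 5337) (.node 1 (.leaf 5441) (.leaf 5446)))))
(.node 6 (.node 3 (.node 1 (.leaf 5500) (.node 1 (.leaf 5520) (.leaf 5558))) (.node 1 (.leaf 5561) (.node 1 (.leaf 5570) (.leaf 5590))))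
(.node 3 (.node 1 (.leaf 5597) (.node 1 (.leaf 5618) (.leaf 5728))) (.node 1 (.leaf 5789) (.node 1 (.leaf 5958) (.leaf 6038))))))))))))

/-- An automorphism. -/
def twoFwd0 : Tab ℕ :=
(.node 768 (.node 384 (.node 192 (.node 96 (.node 48 (.node 24 (.node 12 (.node 6 (.node 3 (.node 1 (.leaf 17043521) (.node 1 (.leaf 11352153) (.leaf 19224665))) (.node 1 (.leaf 25442369) (.node 1 (.leaf 25778249) (.leaf 9271361))))
(.node 3 (.node 1 (.leaf 11079761) (.node 1 (.leaf 9181257) (.leaf 17045569))) (.node 1 (.leaf 27611217) (.node 1 (.leaf 17651801) (.leaf 25524313)))))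
(.node 6 (.node 3 (.node 1 (.leaf 17045571) (.node 1 (.leaf 25696339) (.leaf 17649737))) (.node 1 (.leaf 27881561) (.node 1 (.leaf 11350105) (.leaf 9007169))))
(.node 3 (.node 1 (.leaf 25442387) (.node 1 (.leaf 8935499) (.leaf 27799619))) (.node 1 (.leaf 11292755) (.node 1 (.leaf 8925257) (.leaf 19222617))))))
(.node 12 (.node 6 (.node 3 (.node 1 (.leaf 25440321) (.node 1 (.leaf 19664979) (.leaf 27529291))) (.node 1 (.leaf 11081801) (.node 1 (.leaf 19732545) (.leaf 25776209))))
(.node 3 (.node 1 (.leaf 17592393) (.node 1 (.leaf 17133649) (.leaf 11350107))) (.node 1 (.leaf 19222619) (.node 1 (.leaf 25440323) (.leaf 17117265)))))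
(.node 6 (.node 3 (.node 1 (.leaf 25776201) (.node 1 (.leaf 17576027) (.leaf 11079747))) (.node 1 (.leaf 19730515) (.node 1 (.leaf 19167305) (.leaf 27801665))))
(.node 3 (.node 1 (.leaf 19757137) (.node 1 (.leaf 9269313) (.leaf 11081809))) (.node 1 (.leaf 27555929) (.node 1 (.leaf 11024473) (.leaf 17651793)))))))
(.node 24 (.node 12 (.node 6 (.node 3 (.node 1 (.leaf 25524297) (.node 1 (.leaf 17043547) (.leaf 27596865))) (.node 1 (.leaf 9195595) (.node 1 (.leaf 27881563) (.leaf 19667011))))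
(.node 3 (.node 1 (.leaf 25694289) (.node 1 (.leaf 9179209) (.leaf 11032667))) (.node 1 (.leaf 27611203) (.node 1 (.leaf 11104339) (.leaf 27613265)))))
(.node 6 (.node 3 (.node 1 (.leaf 17649753) (.node 1 (.leaf 25522265) (.leaf 8927313))) (.node 1 (.leaf 17586249) (.node 1 (.leaf 27801691) (.leaf 19740737))))
(.node 3 (.node 1 (.leaf 19150923) (.node 1 (.leaf 8933459) (.leaf 11350089))) (.node 1 (.leaf 8990809) (.node 1 (.leaf 27865153) (.leaf 17043539))))))
(.node 12 (.node 6 (.node 3 (.node 1 (.leaf 25694283) (.node 1 (.leaf 11040835) (.leaf 19675219))) (.node 1 (.leaf 25720905) (.node 1 (.leaf 11302995) (.leaf 25776203))))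
(.node 3 (.node 1 (.leaf 9269315) (.node 1 (.leaf 11081811) (.leaf 9179211))) (.node 1 (.leaf 17043523) (.node 1 (.leaf 27613267) (.leaf 17649755)))))
(.node 6 (.node 3 (.node 1 (.leaf 25522267) (.node 1 (.leaf 19165259) (.leaf 25499737))) (.node 1 (.leaf 25694291) (.node 1 (.leaf 17651785) (.leaf 11030603))))
(.node 3 (.node 1 (.leaf 19689539) (.node 1 (.leaf 25442395) (.leaf 8935515))) (.node 1 (.leaf 11352131) (.node 1 (.leaf 8992849) (.leaf 27867227))))))))
(.node 48 (.node 24 (.node 12 (.node 6 (.node 3 (.node 1 (.leaf 17117267) (.node 1 (.leaf 27553865) (.leaf 27883609))) (.node 1 (.leaf 19664961) (.node 1 (.leaf 9007187) (.leaf 17641547))))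
(.node 3 (.node 1 (.leaf 9009217) (.node 1 (.leaf 25440339) (.leaf 8933451))) (.node 1 (.leaf 19755081) (.node 1 (.leaf 27603009) (.leaf 19165265)))))
(.node 6 (.node 3 (.node 1 (.leaf 25516105) (.node 1 (.leaf 11276369) (.leaf 19732555))) (.node 1 (.leaf 25776217) (.node 1 (.leaf 17592387) (.leaf 17133641))))
(.node 3 (.node 1 (.leaf 11352139) (.node 1 (.leaf 19224643) (.leaf 19673177))) (.node 1 (.leaf 27545689) (.node 1 (.leaf 19214401) (.leaf 27791425))))))
(.node 12 (.node 6 (.node 3 (.node 1 (.leaf 19167307) (.node 1 (.leaf 27801667) (.leaf 19757139))) (.node 1 (.leaf 8925275) (.node 1 (.leaf 17584219) (.leaf 17119315))))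
(.node 3 (.node 1 (.leaf 25778251) (.node 1 (.leaf 17578073) (.leaf 11294803))) (.node 1 (.leaf 8927305) (.node 1 (.leaf 25499723) (.leaf 8984643)))))
(.node 6 (.node 3 (.node 1 (.leaf 19664987) (.node 1 (.leaf 27529307) (.leaf 25458769))) (.node 1 (.leaf 11368539) (.node 1 (.leaf 19667027) (.leaf 27531339))))
(.node 3 (.node 1 (.leaf 11079753) (.node 1 (.leaf 19730497) (.leaf 25778257))) (.node 1 (.leaf 17594441) (.node 1 (.leaf 17135697) (.leaf 11106379)))))))
(.node 24 (.node 12 (.node 6 (.node 3 (.node 1 (.leaf 9179225) (.node 1 (.leaf 11016259) (.leaf 25710665))) (.node 1 (.leaf 19224651) (.node 1 (.leaf 27883587) (.leaf 9001049))))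
(.node 3 (.node 1 (.leaf 17659993) (.node 1 (.leaf 27856961) (.leaf 9263169))) (.node 1 (.leaf 27594833) (.node 1 (.leaf 9197659) (.leaf 25776195)))))
(.node 6 (.node 3 (.node 1 (.leaf 9269331) (.node 1 (.leaf 27545673) (.leaf 11038785))) (.node 1 (.leaf 9246801) (.node 1 (.leaf 19157081) (.leaf 27816025))))
(.node 3 (.node 1 (.leaf 11352145) (.node 1 (.leaf 19224649) (.leaf 17119297))) (.node 1 (.leaf 17578059) (.node 1 (.leaf 8990811) (.leaf 11300931))))))
(.node 12 (.node 6 (.node 3 (.node 1 (.leaf 8935505) (.node 1 (.leaf 27791451) (.leaf 17133635))) (.node 1 (.leaf 25768019) (.node 1 (.leaf 25718865) (.leaf 9187401))))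
(.node 3 (.node 1 (.leaf 11038811) (.node 1 (.leaf 17651787) (.leaf 27883611))) (.node 1 (.leaf 11352155) (.node 1 (.leaf 9009219) (.leaf 25440337)))))
(.node 6 (.node 3 (.node 1 (.leaf 8933449) (.node 1 (.leaf 11294801) (.leaf 8927307))) (.node 1 (.leaf 19224667) (.node 1 (.leaf 25442371) (.leaf 19667025))))
(.node 3 (.node 1 (.leaf 27531337) (.node 1 (.leaf 11079755) (.leaf 19730499))) (.node 1 (.leaf 25778259) (.node 1 (.leaf 17594443) (.leaf 17135699)))))))))
(.node 96 (.node 48 (.node 24 (.node 12 (.node 6 (.node 3 (.node 1 (.leaf 17119313) (.node 1 (.leaf 27555915) (.leaf 17576009))) (.node 1 (.leaf 25448513) (.node 1 (.leaf 17578075) (.leaf 11081795))))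
(.node 3 (.node 1 (.leaf 19732563) (.node 1 (.leaf 25497665) (.leaf 8982609))) (.node 1 (.leaf 11294795) (.node 1 (.leaf 8943707) (.leaf 27818051)))))
(.node 6 (.node 3 (.node 1 (.leaf 25524291) (.node 1 (.leaf 27596875) (.leaf 9195603))) (.node 1 (.leaf 25778267) (.node 1 (.leaf 9271387) (.leaf 27547731))))
(.node 3 (.node 1 (.leaf 11040843) (.node 1 (.leaf 9244761) (.leaf 19159115))) (.node 1 (.leaf 11292753) (.node 1 (.leaf 19165257) (.leaf 25499739))))))
(.node 12 (.node 6 (.node 3 (.node 1 (.leaf 19757123) (.node 1 (.leaf 27605075) (.leaf 27799617))) (.node 1 (.leaf 19755089) (.node 1 (.leaf 8927321) (.leaf 17586265))))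
(.node 3 (.node 1 (.leaf 27555921) (.node 1 (.leaf 11024457) (.leaf 11096129))) (.node 1 (.leaf 25761867) (.node 1 (.leaf 27553881) (.leaf 11022425)))))
(.node 6 (.node 3 (.node 1 (.leaf 17649745) (.node 1 (.leaf 25522249) (.leaf 17045595))) (.node 1 (.leaf 27594817) (.node 1 (.leaf 9197643) (.leaf 17643603))))
(.node 3 (.node 1 (.leaf 27883593) (.node 1 (.leaf 19681369) (.leaf 19208257))) (.node 1 (.leaf 9271379) (.node 1 (.leaf 17119307) (.leaf 17569859)))))))
(.node 24 (.node 12 (.node 6 (.node 3 (.node 1 (.leaf 25434195) (.node 1 (.leaf 17125449) (.leaf 25704531))) (.node 1 (.leaf 8990785) (.node 1 (.leaf 27865163) (.leaf 17043529))))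
(.node 3 (.node 1 (.leaf 25694273) (.node 1 (.leaf 11040859) (.leaf 19675227))) (.node 1 (.leaf 25720899) (.node 1 (.leaf 11302979) (.leaf 19150931)))))
(.node 6 (.node 3 (.node 1 (.leaf 25778241) (.node 1 (.leaf 9271377) (.leaf 9181275))) (.node 1 (.leaf 17592385) (.node 1 (.leaf 27793489) (.leaf 19730505))))
(.node 3 (.node 1 (.leaf 19159121) (.node 1 (.leaf 9195609) (.leaf 17068121))) (.node 1 (.leaf 19216473) (.node 1 (.leaf 27875417) (.leaf 19675201))))))
(.node 12 (.node 6 (.node 3 (.node 1 (.leaf 27553867) (.node 1 (.leaf 19664963) (.leaf 9007185))) (.node 1 (.leaf 17641545) (.node 1 (.leaf 27611211) (.leaf 11104323))))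
(.node 3 (.node 1 (.leaf 9181267) (.node 1 (.leaf 11014219) (.leaf 25712723))) (.node 1 (.leaf 25497691) (.node 1 (.leaf 25696337) (.leaf 17649739)))))
(.node 6 (.node 3 (.node 1 (.leaf 11032649) (.node 1 (.leaf 19691585) (.leaf 11030619))) (.node 1 (.leaf 27613251) (.node 1 (.leaf 11106387) (.leaf 17576001))))
(.node 3 (.node 1 (.leaf 25448529) (.node 1 (.leaf 17117259) (.leaf 27537499))) (.node 1 (.leaf 9252931) (.node 1 (.leaf 17586243) (.leaf 27801683))))))))
(.node 48 (.node 24 (.node 12 (.node 6 (.node 3 (.node 1 (.leaf 19740747) (.node 1 (.leaf 17657939) (.leaf 25505867))) (.node 1 (.leaf 25784395) (.node 1 (.leaf 8925265) (.leaf 17584201))))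
(.node 3 (.node 1 (.leaf 27799643) (.node 1 (.leaf 19738689) (.leaf 19148875))) (.node 1 (.leaf 8935507) (.node 1 (.leaf 11352137) (.leaf 8992857)))))
(.node 6 (.node 3 (.node 1 (.leaf 27867201) (.node 1 (.leaf 17045587) (.leaf 25696331))) (.node 1 (.leaf 11038787) (.node 1 (.leaf 19673171) (.leaf 25718857))))
(.node 3 (.node 1 (.leaf 11300947) (.node 1 (.leaf 25456705) (.leaf 11366475))) (.node 1 (.leaf 27801673) (.node 1 (.leaf 11294785) (.leaf 25505883))))))
(.node 12 (.node 6 (.node 3 (.node 1 (.leaf 8999003) (.node 1 (.leaf 11284547) (.leaf 17109059))) (.node 1 (.leaf 25759827) (.node 1 (.leaf 9181249) (.leaf 17045585))))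
(.node 3 (.node 1 (.leaf 19165275) (.node 1 (.leaf 19755075) (.leaf 11016257))) (.node 1 (.leaf 9261137) (.node 1 (.leaf 11104329) (.leaf 25784401)))))
(.node 6 (.node 3 (.node 1 (.leaf 19150937) (.node 1 (.leaf 27809881) (.leaf 27859033))) (.node 1 (.leaf 11343961) (.node 1 (.leaf 8998977) (.leaf 27547723))))
(.node 3 (.node 1 (.leaf 27793483) (.node 1 (.leaf 11278403) (.leaf 25694299))) (.node 1 (.leaf 17651779) (.node 1 (.leaf 27883601) (.leaf 9009243)))))))
(.node 24 (.node 12 (.node 6 (.node 3 (.node 1 (.leaf 27594835) (.node 1 (.leaf 19159113) (.leaf 11302977))) (.node 1 (.leaf 27865171) (.node 1 (.leaf 11358283) (.leaf 9244745))))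
(.node 3 (.node 1 (.leaf 17109057) (.node 1 (.leaf 27547729) (.leaf 19232841))) (.node 1 (.leaf 19691601) (.node 1 (.leaf 9271371) (.leaf 11079769)))))
(.node 6 (.node 3 (.node 1 (.leaf 9181251) (.node 1 (.leaf 27611209) (.leaf 11294809))) (.node 1 (.leaf 19167321) (.node 1 (.leaf 11032641) (.leaf 27545675))))
(.node 3 (.node 1 (.leaf 9246803) (.node 1 (.leaf 25720923) (.leaf 9189467))) (.node 1 (.leaf 27596883) (.node 1 (.leaf 11081803) (.leaf 19216459))))))
(.node 12 (.node 6 (.node 3 (.node 1 (.leaf 27875395) (.node 1 (.leaf 11303003) (.leaf 19150939))) (.node 1 (.leaf 17059921) (.node 1 (.leaf 17635419) (.leaf 25770059))))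
(.node 3 (.node 1 (.leaf 17594457) (.node 1 (.leaf 27807811) (.leaf 8919113))) (.node 1 (.leaf 25524299) (.node 1 (.leaf 8992835) (.leaf 11081793)))))
(.node 6 (.node 3 (.node 1 (.leaf 19732561) (.node 1 (.leaf 19755091) (.leaf 9271363))) (.node 1 (.leaf 11079763) (.node 1 (.leaf 27553883) (.leaf 11022427))))
(.node 3 (.node 1 (.leaf 17649747) (.node 1 (.leaf 25522251) (.leaf 17045593))) (.node 1 (.leaf 27594819) (.node 1 (.leaf 9197641) (.leaf 9181259))))))))))
(.node 192 (.node 96 (.node 48 (.node 24 (.node 12 (.node 6 (.node 3 (.node 1 (.leaf 11030617) (.node 1 (.leaf 27613249) (.leaf 11106385))) (.node 1 (.leaf 27611219) (.node 1 (.leaf 17651803) (.leaf 25524315))))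
(.node 3 (.node 1 (.leaf 8925267) (.node 1 (.leaf 17584203) (.leaf 27799641))) (.node 1 (.leaf 19738691) (.node 1 (.leaf 19148873) (.leaf 8992859)))))
(.node 6 (.node 3 (.node 1 (.leaf 27867203) (.node 1 (.leaf 25696329) (.leaf 19673169))) (.node 1 (.leaf 25718859) (.node 1 (.leaf 11300945) (.leaf 25497689))))
(.node 3 (.node 1 (.leaf 19755073) (.node 1 (.leaf 27603025) (.leaf 11030595))) (.node 1 (.leaf 19689555) (.node 1 (.leaf 17633369) (.leaf 17061953))))))
(.node 12 (.node 6 (.node 3 (.node 1 (.leaf 11032651) (.node 1 (.leaf 19691587) (.leaf 25440347))) (.node 1 (.leaf 8933467) (.node 1 (.leaf 11350083) (.leaf 8990801))))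
(.node 3 (.node 1 (.leaf 27865179) (.node 1 (.leaf 25450585) (.leaf 27539539))) (.node 1 (.leaf 9255001) (.node 1 (.leaf 25696321) (.leaf 9181265)))))
(.node 6 (.node 3 (.node 1 (.leaf 27619403) (.node 1 (.leaf 11087939) (.leaf 9203795))) (.node 1 (.leaf 19230811) (.node 1 (.leaf 17592411) (.leaf 19673153))))
(.node 3 (.node 1 (.leaf 27545681) (.node 1 (.leaf 19214411) (.leaf 27791441))) (.node 1 (.leaf 11276361) (.node 1 (.leaf 17045579) (.leaf 25696323)))))))
(.node 24 (.node 12 (.node 6 (.node 3 (.node 1 (.leaf 27881547) (.node 1 (.leaf 27596873) (.leaf 19157083))) (.node 1 (.leaf 25522241) (.node 1 (.leaf 11300939) (.leaf 27867209))))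
(.node 3 (.node 1 (.leaf 11360321) (.node 1 (.leaf 9246785) (.leaf 17111121))) (.node 1 (.leaf 11032665) (.node 1 (.leaf 27555913) (.leaf 17576011)))))
(.node 6 (.node 3 (.node 1 (.leaf 25448515) (.node 1 (.leaf 9007195) (.leaf 17641563))) (.node 1 (.leaf 27881539) (.node 1 (.leaf 19683409) (.leaf 19206235))))
(.node 3 (.node 1 (.leaf 19667009) (.node 1 (.leaf 9009235) (.leaf 17643595))) (.node 1 (.leaf 27613257) (.node 1 (.leaf 11106369) (.leaf 9179217))))))
(.node 12 (.node 6 (.node 3 (.node 1 (.leaf 11016265) (.node 1 (.leaf 25710673) (.leaf 27603019))) (.node 1 (.leaf 19165273) (.node 1 (.leaf 25516099) (.leaf 25432153))))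
(.node 3 (.node 1 (.leaf 8917081) (.node 1 (.leaf 17051713) (.leaf 19757129))) (.node 1 (.leaf 27605057) (.node 1 (.leaf 19167313) (.leaf 25514057)))))
(.node 6 (.node 3 (.node 1 (.leaf 11278417) (.node 1 (.leaf 19730507) (.leaf 25778265))) (.node 1 (.leaf 17594435) (.node 1 (.leaf 17135689) (.leaf 11350091))))
(.node 3 (.node 1 (.leaf 19222595) (.node 1 (.leaf 19675225) (.leaf 27547737))) (.node 1 (.leaf 19216449) (.node 1 (.leaf 27793473) (.leaf 11098193))))))))
(.node 48 (.node 24 (.node 12 (.node 6 (.node 3 (.node 1 (.leaf 25759835) (.node 1 (.leaf 19165251) (.leaf 27799635))) (.node 1 (.leaf 8917065) (.node 1 (.leaf 17567809) (.leaf 27809873))))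
(.node 3 (.node 1 (.leaf 9187417) (.node 1 (.leaf 17059929) (.leaf 27881553))) (.node 1 (.leaf 25497675) (.node 1 (.leaf 19681371) (.leaf 25702467)))))
(.node 6 (.node 3 (.node 1 (.leaf 17641553) (.node 1 (.leaf 17051739) (.leaf 11276355))) (.node 1 (.leaf 19140691) (.node 1 (.leaf 17127505) (.leaf 25786441))))
(.node 3 (.node 1 (.leaf 17567835) (.node 1 (.leaf 11038809) (.leaf 19157057))) (.node 1 (.leaf 27816017) (.node 1 (.leaf 19224659) (.leaf 25442377))))))
(.node 12 (.node 6 (.node 3 (.node 1 (.leaf 17119321) (.node 1 (.leaf 17578049) (.leaf 8990787))) (.node 1 (.leaf 27791443) (.node 1 (.leaf 17133659) (.leaf 25768027))))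
(.node 3 (.node 1 (.leaf 25718875) (.node 1 (.leaf 9187419) (.leaf 9263185))) (.node 1 (.leaf 25696345) (.node 1 (.leaf 17649729) (.leaf 27881555)))))
(.node 6 (.node 3 (.node 1 (.leaf 9007193) (.node 1 (.leaf 27799627) (.leaf 11292739))) (.node 1 (.leaf 11040857) (.node 1 (.leaf 25720897) (.leaf 19214419))))
(.node 3 (.node 1 (.leaf 27873355) (.node 1 (.leaf 17651795) (.leaf 17111115))) (.node 1 (.leaf 27791433) (.node 1 (.leaf 11276353) (.leaf 11368521)))))))
(.node 24 (.node 12 (.node 6 (.node 3 (.node 1 (.leaf 17070145) (.node 1 (.leaf 19142729) (.leaf 19746897))) (.node 1 (.leaf 8935513) (.node 1 (.leaf 19757121) (.leaf 27605073))))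
(.node 3 (.node 1 (.leaf 8927323) (.node 1 (.leaf 17586267) (.leaf 27555923))) (.node 1 (.leaf 11024459) (.node 1 (.leaf 9271385) (.leaf 11096131)))))
(.node 6 (.node 3 (.node 1 (.leaf 25761865) (.node 1 (.leaf 27529297) (.leaf 25458779))) (.node 1 (.leaf 11368515) (.node 1 (.leaf 27799633) (.leaf 11292745))))
(.node 3 (.node 1 (.leaf 25507905) (.node 1 (.leaf 9001041) (.leaf 11286603))) (.node 1 (.leaf 25450563) (.node 1 (.leaf 17576025) (.leaf 11079745))))))
(.node 12 (.node 6 (.node 3 (.node 1 (.leaf 19730513) (.node 1 (.leaf 25499715) (.leaf 8984659))) (.node 1 (.leaf 8941657) (.node 1 (.leaf 27816001) (.leaf 8982595))))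
(.node 3 (.node 1 (.leaf 19667035) (.node 1 (.leaf 27531355) (.leaf 25456721))) (.node 1 (.leaf 11366491) (.node 1 (.leaf 19689561) (.leaf 17633363)))))
(.node 6 (.node 3 (.node 1 (.leaf 17061977) (.node 1 (.leaf 11292737) (.leaf 19746891))) (.node 1 (.leaf 27619395) (.node 1 (.leaf 19142739) (.leaf 27873371))))
(.node 3 (.node 1 (.leaf 11016283) (.node 1 (.leaf 25710659) (.leaf 19224657))) (.node 1 (.leaf 9001025) (.node 1 (.leaf 17659985) (.leaf 27856971)))))))))
(.node 96 (.node 48 (.node 24 (.node 12 (.node 6 (.node 3 (.node 1 (.leaf 19740745) (.node 1 (.leaf 25786459) (.leaf 17584193))) (.node 1 (.leaf 25704529) (.node 1 (.leaf 17659979) (.leaf 11104331))))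
(.node 3 (.node 1 (.leaf 9181273) (.node 1 (.leaf 11014211) (.leaf 25712713))) (.node 1 (.leaf 19222603) (.node 1 (.leaf 8999001) (.leaf 17657945)))))
(.node 6 (.node 3 (.node 1 (.leaf 27859009) (.node 1 (.leaf 9261121) (.leaf 27596881))) (.node 1 (.leaf 9195611) (.node 1 (.leaf 25778243) (.leaf 27547721))))
(.node 3 (.node 1 (.leaf 11040833) (.node 1 (.leaf 9244753) (.leaf 19159129))) (.node 1 (.leaf 27818073) (.node 1 (.leaf 11350097) (.leaf 19222601))))))
(.node 12 (.node 6 (.node 3 (.node 1 (.leaf 17117249) (.node 1 (.leaf 8933457) (.leaf 27793499))) (.node 1 (.leaf 17135683) (.node 1 (.leaf 25770067) (.leaf 25720913))))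
(.node 3 (.node 1 (.leaf 9189449) (.node 1 (.leaf 25507929) (.leaf 25786433))) (.node 1 (.leaf 9254993) (.node 1 (.leaf 27883603) (.leaf 19664969)))))
(.node 6 (.node 3 (.node 1 (.leaf 11030593) (.node 1 (.leaf 25456707) (.leaf 17111123))) (.node 1 (.leaf 9263187) (.node 1 (.leaf 25710683) (.leaf 9203803))))
(.node 3 (.node 1 (.leaf 11286619) (.node 1 (.leaf 19159131) (.leaf 25507907))) (.node 1 (.leaf 17053777) (.node 1 (.leaf 17643611) (.leaf 11292761)))))))
(.node 24 (.node 12 (.node 6 (.node 3 (.node 1 (.leaf 8925249) (.node 1 (.leaf 11350099) (.leaf 25440345))) (.node 1 (.leaf 17119299) (.node 1 (.leaf 25505881) (.leaf 11284545))))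
(.node 3 (.node 1 (.leaf 27856979) (.node 1 (.leaf 11341899) (.leaf 25458755))) (.node 1 (.leaf 8927315) (.node 1 (.leaf 17070163) (.leaf 25704523)))))
(.node 6 (.node 3 (.node 1 (.leaf 9263177) (.node 1 (.leaf 17135681) (.leaf 19208265))) (.node 1 (.leaf 19681361) (.node 1 (.leaf 27807809) (.leaf 19738705))))
(.node 3 (.node 1 (.leaf 25768009) (.node 1 (.leaf 11087953) (.leaf 27529305))) (.node 1 (.leaf 11014233) (.node 1 (.leaf 19157067) (.leaf 27873361))))))
(.node 12 (.node 6 (.node 3 (.node 1 (.leaf 19673163) (.node 1 (.leaf 25702491) (.leaf 11022403))) (.node 1 (.leaf 17578067) (.node 1 (.leaf 11081819) (.leaf 19732571))))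
(.node 3 (.node 1 (.leaf 19165267) (.node 1 (.leaf 19755097) (.leaf 19675217))) (.node 1 (.leaf 19216475) (.node 1 (.leaf 9246787) (.leaf 25718873)))))
(.node 6 (.node 3 (.node 1 (.leaf 19157073) (.node 1 (.leaf 27816009) (.leaf 25759809))) (.node 1 (.leaf 11098187) (.node 1 (.leaf 11360339) (.leaf 8992841))))
(.node 3 (.node 1 (.leaf 11286617) (.node 1 (.leaf 9203779) (.leaf 17051731))) (.node 1 (.leaf 27619401) (.node 1 (.leaf 8941651) (.leaf 27881537))))))))
(.node 48 (.node 24 (.node 12 (.node 6 (.node 3 (.node 1 (.leaf 9007179) (.node 1 (.leaf 8935489) (.leaf 11292763))) (.node 1 (.leaf 8925251) (.node 1 (.leaf 27529299) (.leaf 11030609))))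
(.node 3 (.node 1 (.leaf 9269321) (.node 1 (.leaf 27553873) (.leaf 8984665))) (.node 1 (.leaf 27865169) (.node 1 (.leaf 11358281) (.leaf 17133643)))))
(.node 6 (.node 3 (.node 1 (.leaf 25768003) (.node 1 (.leaf 17592403) (.leaf 27809867))) (.node 1 (.leaf 8917075) (.node 1 (.leaf 19214427) (.leaf 9197633))))
(.node 3 (.node 1 (.leaf 17070161) (.node 1 (.leaf 27594827) (.leaf 19142747))) (.node 1 (.leaf 19746883) (.node 1 (.leaf 9187395) (.leaf 11038803))))))
(.node 12 (.node 6 (.node 3 (.node 1 (.leaf 9263179) (.node 1 (.leaf 11341907) (.leaf 19206219))) (.node 1 (.leaf 11087947) (.node 1 (.leaf 17633355) (.leaf 11038793))))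
(.node 3 (.node 1 (.leaf 27856987) (.node 1 (.leaf 19683395) (.leaf 27603011))) (.node 1 (.leaf 11096147) (.node 1 (.leaf 27547739) (.leaf 9244739)))))
(.node 6 (.node 3 (.node 1 (.leaf 8933465) (.node 1 (.leaf 11350081) (.leaf 8990803))) (.node 1 (.leaf 27865177) (.node 1 (.leaf 9009233) (.leaf 17643593))))
(.node 3 (.node 1 (.leaf 9007171) (.node 1 (.leaf 25442385) (.leaf 8935497))) (.node 1 (.leaf 19757131) (.node 1 (.leaf 27605059) (.leaf 19167315)))))))
(.node 24 (.node 12 (.node 6 (.node 3 (.node 1 (.leaf 25514059) (.node 1 (.leaf 11278419) (.leaf 17594433))) (.node 1 (.leaf 17135691) (.node 1 (.leaf 19222593) (.leaf 19216451))))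
(.node 3 (.node 1 (.leaf 27793475) (.node 1 (.leaf 8925259) (.leaf 25497673))) (.node 1 (.leaf 8982593) (.node 1 (.leaf 19667033) (.leaf 27531353)))))
(.node 6 (.node 3 (.node 1 (.leaf 25456723) (.node 1 (.leaf 11366489) (.leaf 19664977))) (.node 1 (.leaf 27529289) (.node 1 (.leaf 19732547) (.leaf 25776211))))
(.node 3 (.node 1 (.leaf 17592395) (.node 1 (.leaf 17133651) (.leaf 11014209))) (.node 1 (.leaf 25712715) (.node 1 (.leaf 17657947) (.leaf 27859011))))))
(.node 12 (.node 6 (.node 3 (.node 1 (.leaf 9261123) (.node 1 (.leaf 9244755) (.leaf 27818075))) (.node 1 (.leaf 17117251) (.node 1 (.leaf 27793497) (.leaf 25770065))))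
(.node 3 (.node 1 (.leaf 25720915) (.node 1 (.leaf 9189451) (.leaf 17578057))) (.node 1 (.leaf 25450561) (.node 1 (.leaf 9009241) (.leaf 17643609)))))
(.node 6 (.node 3 (.node 1 (.leaf 27883585) (.node 1 (.leaf 19681363) (.leaf 19208281))) (.node 1 (.leaf 8982619) (.node 1 (.leaf 11294787) (.leaf 8943697))))
(.node 3 (.node 1 (.leaf 11089993) (.node 1 (.leaf 19748929) (.leaf 25499713))) (.node 1 (.leaf 8984657) (.node 1 (.leaf 11292747) (.leaf 8941659)))))))))))
(.node 384 (.node 192 (.node 96 (.node 48 (.node 24 (.node 12 (.node 6 (.node 3 (.node 1 (.leaf 27816003) (.node 1 (.leaf 25522243) (.leaf 9197651))) (.node 1 (.leaf 25776219) (.node 1 (.leaf 9269339) (.leaf 27545683))))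
(.node 3 (.node 1 (.leaf 11038795) (.node 1 (.leaf 9246809) (.leaf 17635401))) (.node 1 (.leaf 19748945) (.node 1 (.leaf 27621449) (.leaf 19140699)))))
(.node 6 (.node 3 (.node 1 (.leaf 27875401) (.node 1 (.leaf 11368513) (.leaf 17117273))) (.node 1 (.leaf 8925273) (.node 1 (.leaf 27539537) (.leaf 19232843))))
(.node 3 (.node 1 (.leaf 25448539) (.node 1 (.leaf 11343939) (.leaf 27818065))) (.node 1 (.leaf 11286601) (.node 1 (.leaf 9205835) (.leaf 17053763))))))
(.node 12 (.node 6 (.node 3 (.node 1 (.leaf 27621459) (.node 1 (.leaf 19675203) (.leaf 17592409))) (.node 1 (.leaf 9195585) (.node 1 (.leaf 17068113) (.leaf 19216467))))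
(.node 3 (.node 1 (.leaf 27875403) (.node 1 (.leaf 25704515) (.leaf 19222609))) (.node 1 (.leaf 25440331) (.node 1 (.leaf 17117275) (.leaf 17576003)))))
(.node 6 (.node 3 (.node 1 (.leaf 19167297) (.node 1 (.leaf 27801681) (.leaf 19673155))) (.node 1 (.leaf 19214409) (.node 1 (.leaf 9244747) (.leaf 25442393))))
(.node 3 (.node 1 (.leaf 9189457) (.node 1 (.leaf 19159107) (.leaf 27818067))) (.node 1 (.leaf 25761881) (.node 1 (.leaf 11358297) (.leaf 11284563)))))))
(.node 24 (.node 12 (.node 6 (.node 3 (.node 1 (.leaf 25499721) (.node 1 (.leaf 8984641) (.leaf 27603027))) (.node 1 (.leaf 19689553) (.node 1 (.leaf 17633371) (.leaf 17061955))))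
(.node 3 (.node 1 (.leaf 11024451) (.node 1 (.leaf 11096139) (.leaf 25761875))) (.node 1 (.leaf 19167323) (.node 1 (.leaf 8919123) (.leaf 17569867)))))
(.node 6 (.node 3 (.node 1 (.leaf 27807833) (.node 1 (.leaf 17584217) (.leaf 11022409))) (.node 1 (.leaf 11098177) (.node 1 (.leaf 25759819) (.leaf 27531347))))
(.node 3 (.node 1 (.leaf 25456729) (.node 1 (.leaf 11366465) (.leaf 25505859))) (.node 1 (.leaf 8998995) (.node 1 (.leaf 11284553) (.leaf 17109075))))))
(.node 12 (.node 6 (.node 3 (.node 1 (.leaf 19681345) (.node 1 (.leaf 19208267) (.leaf 9271369))) (.node 1 (.leaf 17569883) (.node 1 (.leaf 25434203) (.leaf 17125443))))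
(.node 3 (.node 1 (.leaf 25516097) (.node 1 (.leaf 27605065) (.leaf 19230809))) (.node 1 (.leaf 25434177) (.node 1 (.leaf 17641555) (.leaf 27881545)))))
(.node 6 (.node 3 (.node 1 (.leaf 19683417) (.node 1 (.leaf 19206209) (.leaf 17567811))) (.node 1 (.leaf 25432147) (.node 1 (.leaf 17127497) (.leaf 25702483))))
(.node 3 (.node 1 (.leaf 8992833) (.node 1 (.leaf 27867211) (.leaf 17045577))) (.node 1 (.leaf 19673179) (.node 1 (.leaf 25718851) (.leaf 19148883))))))))
(.node 48 (.node 24 (.node 12 (.node 6 (.node 3 (.node 1 (.leaf 25776193) (.node 1 (.leaf 9269329) (.leaf 9179227))) (.node 1 (.leaf 19732553) (.node 1 (.leaf 9197657) (.leaf 17070169))))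
(.node 3 (.node 1 (.leaf 19214425) (.node 1 (.leaf 27873369) (.leaf 8919115))) (.node 1 (.leaf 17053771) (.node 1 (.leaf 25712707) (.leaf 17119323)))))
(.node 6 (.node 3 (.node 1 (.leaf 27555907) (.node 1 (.leaf 11098195) (.leaf 25704513))) (.node 1 (.leaf 19208275) (.node 1 (.leaf 27859019) (.leaf 27807817))))
(.node 3 (.node 1 (.leaf 11300929) (.node 1 (.leaf 8919121) (.leaf 11341897))) (.node 1 (.leaf 25450577) (.node 1 (.leaf 27801675) (.leaf 19757145))))))
(.node 12 (.node 6 (.node 3 (.node 1 (.leaf 8917067) (.node 1 (.leaf 27809875) (.leaf 17125467))) (.node 1 (.leaf 25784411) (.node 1 (.leaf 19755083) (.leaf 19230787))))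
(.node 3 (.node 1 (.leaf 25704539) (.node 1 (.leaf 27539547) (.leaf 19142731))) (.node 1 (.leaf 25514073) (.node 1 (.leaf 17068099) (.leaf 17657929)))))
(.node 6 (.node 3 (.node 1 (.leaf 11302993) (.node 1 (.leaf 17109081) (.leaf 27547713))) (.node 1 (.leaf 19232851) (.node 1 (.leaf 19691609) (.leaf 27611227))))
(.node 3 (.node 1 (.leaf 25524307) (.node 1 (.leaf 11294793) (.leaf 25497681))) (.node 1 (.leaf 27545691) (.node 1 (.leaf 19216465) (.leaf 11302987)))))))
(.node 24 (.node 12 (.node 6 (.node 3 (.node 1 (.leaf 19150915) (.node 1 (.leaf 17059915) (.leaf 17635411))) (.node 1 (.leaf 25770051) (.node 1 (.leaf 17594451) (.leaf 27807819))))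
(.node 3 (.node 1 (.leaf 27859027) (.node 1 (.leaf 11343947) (.leaf 17117257))) (.node 1 (.leaf 17576017) (.node 1 (.leaf 19730521) (.leaf 19757147)))))
(.node 6 (.node 3 (.node 1 (.leaf 11024449) (.node 1 (.leaf 19667019) (.leaf 11032643))) (.node 1 (.leaf 17133657) (.node 1 (.leaf 25768025) (.leaf 9195601))))
(.node 3 (.node 1 (.leaf 17068105) (.node 1 (.leaf 27596891) (.leaf 19140673))) (.node 1 (.leaf 19748939) (.node 1 (.leaf 27875411) (.leaf 19675209))))))
(.node 12 (.node 6 (.node 3 (.node 1 (.leaf 25704537) (.node 1 (.leaf 25784387) (.leaf 9252947))) (.node 1 (.leaf 17125459) (.node 1 (.leaf 27537481) (.leaf 8982611))))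
(.node 3 (.node 1 (.leaf 17641561) (.node 1 (.leaf 19683411) (.leaf 19206233))) (.node 1 (.leaf 27613259) (.node 1 (.leaf 11106371) (.leaf 9179219)))))
(.node 6 (.node 3 (.node 1 (.leaf 11016267) (.node 1 (.leaf 25710675) (.leaf 27603017))) (.node 1 (.leaf 11276363) (.node 1 (.leaf 25432155) (.leaf 8917083))))
(.node 3 (.node 1 (.leaf 11360323) (.node 1 (.leaf 17051715) (.leaf 19740755))) (.node 1 (.leaf 17657931) (.node 1 (.leaf 17068115) (.leaf 9252955)))))))))
(.node 96 (.node 48 (.node 24 (.node 12 (.node 6 (.node 3 (.node 1 (.leaf 19222611) (.node 1 (.leaf 25694275) (.leaf 25458777))) (.node 1 (.leaf 9261145) (.node 1 (.leaf 25712705) (.leaf 9205841))))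
(.node 3 (.node 1 (.leaf 17059907) (.node 1 (.leaf 11030601) (.leaf 19689537))) (.node 1 (.leaf 11352129) (.node 1 (.leaf 8992851) (.leaf 27867225)))))
(.node 6 (.node 3 (.node 1 (.leaf 27537489) (.node 1 (.leaf 11089985) (.leaf 19232857))) (.node 1 (.leaf 9254979) (.node 1 (.leaf 17584195) (.leaf 19738699))))
(.node 3 (.node 1 (.leaf 17659987) (.node 1 (.leaf 25507915) (.leaf 25786443))) (.node 1 (.leaf 8943689) (.node 1 (.leaf 11090001) (.leaf 19748937))))))
(.node 12 (.node 6 (.node 3 (.node 1 (.leaf 25770075) (.node 1 (.leaf 11343945) (.leaf 25694297))) (.node 1 (.leaf 17633361) (.node 1 (.leaf 19691611) (.leaf 19232835))))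
(.node 3 (.node 1 (.leaf 9252945) (.node 1 (.leaf 19140683) (.leaf 27791427))) (.node 1 (.leaf 19748947) (.node 1 (.leaf 8998979) (.leaf 17109083)))))
(.node 6 (.node 3 (.node 1 (.leaf 27611225) (.node 1 (.leaf 11016281) (.leaf 25784409))) (.node 1 (.leaf 19150913) (.node 1 (.leaf 9001027) (.leaf 27856969))))
(.node 3 (.node 1 (.leaf 17068107) (.node 1 (.leaf 19664985) (.leaf 17127507))) (.node 1 (.leaf 17567833) (.node 1 (.leaf 11104321) (.leaf 25458753)))))))
(.node 24 (.node 12 (.node 6 (.node 3 (.node 1 (.leaf 11368523) (.node 1 (.leaf 27799625) (.leaf 25507931))) (.node 1 (.leaf 9001051) (.node 1 (.leaf 11286595) (.leaf 17111107))))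
(.node 3 (.node 1 (.leaf 9179201) (.node 1 (.leaf 17043537) (.leaf 11106377))) (.node 1 (.leaf 25786449) (.node 1 (.leaf 19148889) (.leaf 27856985)))))
(.node 6 (.node 3 (.node 1 (.leaf 11341913) (.node 1 (.leaf 27791435) (.leaf 25696347))) (.node 1 (.leaf 17649731) (.node 1 (.leaf 19157065) (.leaf 27867219))))
(.node 3 (.node 1 (.leaf 11360331) (.node 1 (.leaf 9246793) (.leaf 17111105))) (.node 1 (.leaf 19230793) (.node 1 (.leaf 9269323) (.leaf 11081817))))))
(.node 12 (.node 6 (.node 3 (.node 1 (.leaf 9179203) (.node 1 (.leaf 27873347) (.leaf 11300955))) (.node 1 (.leaf 19148891) (.node 1 (.leaf 17061969) (.leaf 25768011))))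
(.node 3 (.node 1 (.leaf 27809859) (.node 1 (.leaf 17109073) (.leaf 25702489))) (.node 1 (.leaf 17657921) (.node 1 (.leaf 8982617) (.leaf 19755099)))))
(.node 6 (.node 3 (.node 1 (.leaf 8927299) (.node 1 (.leaf 17586259) (.leaf 17659995))) (.node 1 (.leaf 17070147) (.node 1 (.leaf 11284561) (.leaf 27859025))))
(.node 3 (.node 1 (.leaf 17109067) (.node 1 (.leaf 25759811) (.leaf 27818059))) (.node 1 (.leaf 8943699) (.node 1 (.leaf 9205827) (.leaf 11014227))))))))
(.node 48 (.node 24 (.node 12 (.node 6 (.node 3 (.node 1 (.leaf 9246795) (.node 1 (.leaf 25694281) (.leaf 11032657))) (.node 1 (.leaf 11104345) (.node 1 (.leaf 11294811) (.leaf 25497667))))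
(.node 3 (.node 1 (.leaf 25710681) (.node 1 (.leaf 9203801) (.leaf 19150929))) (.node 1 (.leaf 27809865) (.node 1 (.leaf 19740763) (.leaf 25770049)))))
(.node 6 (.node 3 (.node 1 (.leaf 11089995) (.node 1 (.leaf 11366481) (.leaf 25456731))) (.node 1 (.leaf 17127489) (.node 1 (.leaf 17567819) (.leaf 11343955))))
(.node 3 (.node 1 (.leaf 8998985) (.node 1 (.leaf 11300953) (.leaf 17059923))) (.node 1 (.leaf 19683393) (.node 1 (.leaf 25718867) (.leaf 25448531))))))
(.node 12 (.node 6 (.node 3 (.node 1 (.leaf 8941643) (.node 1 (.leaf 25507913) (.leaf 11286609))) (.node 1 (.leaf 9244737) (.node 1 (.leaf 19748953) (.leaf 8933441))))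
(.node 3 (.node 1 (.leaf 17592401) (.node 1 (.leaf 17125451) (.leaf 17569875))) (.node 1 (.leaf 25514075) (.node 1 (.leaf 19691593) (.leaf 8933443)))))
(.node 6 (.node 3 (.node 1 (.leaf 8990795) (.node 1 (.leaf 17119305) (.leaf 27555931))) (.node 1 (.leaf 9009225) (.node 1 (.leaf 17643585) (.leaf 27791449))))
(.node 3 (.node 1 (.leaf 11358299) (.node 1 (.leaf 17594449) (.leaf 17053785))) (.node 1 (.leaf 25712729) (.node 1 (.leaf 25761873) (.leaf 11096155)))))))
(.node 24 (.node 12 (.node 6 (.node 3 (.node 1 (.leaf 27547715) (.node 1 (.leaf 11040851) (.leaf 9205825))) (.node 1 (.leaf 11014225) (.node 1 (.leaf 8943683) (.leaf 11358289))))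
(.node 3 (.node 1 (.leaf 27621457) (.node 1 (.leaf 9205851) (.leaf 27801689))) (.node 1 (.leaf 27555905) (.node 1 (.leaf 11024465) (.leaf 27596889)))))
(.node 6 (.node 3 (.node 1 (.leaf 11032659) (.node 1 (.leaf 11104347) (.leaf 19740753))) (.node 1 (.leaf 25497683) (.node 1 (.leaf 8982603) (.leaf 11352147))))
(.node 3 (.node 1 (.leaf 27605067) (.node 1 (.leaf 19157075) (.leaf 27816011))) (.node 1 (.leaf 19732569) (.node 1 (.leaf 11098185) (.leaf 17059931))))))
(.node 12 (.node 6 (.node 3 (.node 1 (.leaf 17635395) (.node 1 (.leaf 11040849) (.leaf 19681355))) (.node 1 (.leaf 11278425) (.node 1 (.leaf 11366483) (.leaf 9252939))))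
(.node 3 (.node 1 (.leaf 27537491) (.node 1 (.leaf 27807835) (.leaf 8919107))) (.node 1 (.leaf 25524305) (.node 1 (.leaf 11343953) (.leaf 8998987)))))
(.node 6 (.node 3 (.node 1 (.leaf 11090011) (.node 1 (.leaf 9189441) (.leaf 8941649))) (.node 1 (.leaf 11302985) (.node 1 (.leaf 8919131) (.leaf 19208259))))
(.node 3 (.node 1 (.leaf 25432145) (.node 1 (.leaf 11360347) (.leaf 27596867))) (.node 1 (.leaf 27594825) (.node 1 (.leaf 9197649) (.leaf 9269337))))))))))
(.node 192 (.node 96 (.node 48 (.node 24 (.node 12 (.node 6 (.node 3 (.node 1 (.leaf 9246811) (.node 1 (.leaf 27553875) (.leaf 11022411))) (.node 1 (.leaf 11098179) (.node 1 (.leaf 25759817) (.leaf 11024475))))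
(.node 3 (.node 1 (.leaf 17043545) (.node 1 (.leaf 9195593) (.leaf 19683419))) (.node 1 (.leaf 19206211) (.node 1 (.leaf 17127499) (.leaf 25702481)))))
(.node 6 (.node 3 (.node 1 (.leaf 25718849) (.node 1 (.leaf 19148881) (.leaf 17070171))) (.node 1 (.leaf 27611201) (.node 1 (.leaf 11104337) (.leaf 17578051))))
(.node 3 (.node 1 (.leaf 25450579) (.node 1 (.leaf 27539545) (.leaf 9254977))) (.node 1 (.leaf 19738697) (.node 1 (.leaf 17586251) (.leaf 19740739))))))
(.node 12 (.node 6 (.node 3 (.node 1 (.leaf 19150921) (.node 1 (.leaf 27865155) (.leaf 25720907))) (.node 1 (.leaf 11286593) (.node 1 (.leaf 25786451) (.leaf 11341915))))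
(.node 3 (.node 1 (.leaf 27867217) (.node 1 (.leaf 11360329) (.leaf 19230795))) (.node 1 (.leaf 27873345) (.node 1 (.leaf 17061971) (.leaf 27809857)))))
(.node 6 (.node 3 (.node 1 (.leaf 19691603) (.node 1 (.leaf 17635417) (.leaf 17059905))) (.node 1 (.leaf 11022401) (.node 1 (.leaf 25759825) (.leaf 8917073))))
(.node 3 (.node 1 (.leaf 17567817) (.node 1 (.leaf 27809883) (.leaf 27539531))) (.node 1 (.leaf 9254995) (.node 1 (.leaf 27619411) (.leaf 25448537)))))))
(.node 24 (.node 12 (.node 6 (.node 3 (.node 1 (.leaf 9252953) (.node 1 (.leaf 27621451) (.leaf 11089987))) (.node 1 (.leaf 9205843) (.node 1 (.leaf 19232859) (.leaf 17594459))))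
(.node 3 (.node 1 (.leaf 11278409) (.node 1 (.leaf 17043531) (.leaf 27883595))) (.node 1 (.leaf 25524289) (.node 1 (.leaf 27865161) (.leaf 11358273)))))
(.node 6 (.node 3 (.node 1 (.leaf 19746899) (.node 1 (.leaf 17635403) (.leaf 9254987))) (.node 1 (.leaf 17127491) (.node 1 (.leaf 19142723) (.leaf 27793491))))
(.node 3 (.node 1 (.leaf 19746889) (.node 1 (.leaf 19165249) (.leaf 25499729))) (.node 1 (.leaf 19140697) (.node 1 (.leaf 9203777) (.leaf 17051729))))))
(.node 12 (.node 6 (.node 3 (.node 1 (.leaf 9261147) (.node 1 (.leaf 19230803) (.leaf 11014217))) (.node 1 (.leaf 25432131) (.node 1 (.leaf 11040841) (.leaf 11276377))))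
(.node 3 (.node 1 (.leaf 11368531) (.node 1 (.leaf 17070153) (.leaf 27594843))) (.node 1 (.leaf 19142721) (.node 1 (.leaf 17127515) (.leaf 27613273)))))
(.node 6 (.node 3 (.node 1 (.leaf 25522257) (.node 1 (.leaf 25499731) (.leaf 19689563))) (.node 1 (.leaf 27553857) (.node 1 (.leaf 9195587) (.leaf 11360337))))
(.node 3 (.node 1 (.leaf 8992843) (.node 1 (.leaf 17111131) (.leaf 27545667))) (.node 1 (.leaf 19230801) (.node 1 (.leaf 17051721) (.leaf 25710657))))))))
(.node 48 (.node 24 (.node 12 (.node 6 (.node 3 (.node 1 (.leaf 9203785) (.node 1 (.leaf 27537497) (.leaf 9252929))) (.node 1 (.leaf 19208283) (.node 1 (.leaf 19748931) (.leaf 11343963))))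
(.node 3 (.node 1 (.leaf 25516123) (.node 1 (.leaf 25432129) (.leaf 11096137))) (.node 1 (.leaf 25702475) (.node 1 (.leaf 19206217) (.leaf 25712721)))))
(.node 6 (.node 3 (.node 1 (.leaf 25514051) (.node 1 (.leaf 25434201) (.leaf 8919129))) (.node 1 (.leaf 17053761) (.node 1 (.leaf 17659977) (.leaf 25786457))))
(.node 3 (.node 1 (.leaf 9263195) (.node 1 (.leaf 9187393) (.leaf 9007177))) (.node 1 (.leaf 19681347) (.node 1 (.leaf 11276379) (.leaf 17569881))))))
(.node 12 (.node 6 (.node 3 (.node 1 (.leaf 17125441) (.node 1 (.leaf 9205833) (.leaf 11096145))) (.node 1 (.leaf 25761883) (.node 1 (.leaf 19167299) (.leaf 17569857))))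
(.node 3 (.node 1 (.leaf 27807825) (.node 1 (.leaf 9189465) (.leaf 17643601))) (.node 1 (.leaf 17053787) (.node 1 (.leaf 17125457) (.leaf 25784393)))))
(.node 6 (.node 3 (.node 1 (.leaf 19159105) (.node 1 (.leaf 25440329) (.leaf 17135707))) (.node 1 (.leaf 17651777) (.node 1 (.leaf 27793481) (.leaf 11278401))))
(.node 3 (.node 1 (.leaf 11366473) (.node 1 (.leaf 17068097) (.leaf 19140681))) (.node 1 (.leaf 9187403) (.node 1 (.leaf 19232849) (.leaf 25432139)))))))
(.node 24 (.node 12 (.node 6 (.node 3 (.node 1 (.leaf 27603035) (.node 1 (.leaf 25434193) (.leaf 17127513))) (.node 1 (.leaf 9187409) (.node 1 (.leaf 17059913) (.leaf 19148865))))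
(.node 3 (.node 1 (.leaf 19683401) (.node 1 (.leaf 25720921) (.leaf 19224641))) (.node 1 (.leaf 19664971) (.node 1 (.leaf 17641537) (.leaf 19208273)))))
(.node 6 (.node 3 (.node 1 (.leaf 27859017) (.node 1 (.leaf 19140675) (.leaf 25516115))) (.node 1 (.leaf 17070155) (.node 1 (.leaf 27621443) (.leaf 25786435))))
(.node 3 (.node 1 (.leaf 17567827) (.node 1 (.leaf 27537483) (.leaf 25507921))) (.node 1 (.leaf 9203793) (.node 1 (.leaf 27619419) (.leaf 8941641))))))
(.node 12 (.node 6 (.node 3 (.node 1 (.leaf 27529283) (.node 1 (.leaf 25450571) (.leaf 19159123))) (.node 1 (.leaf 27594841) (.node 1 (.leaf 11341889) (.leaf 19206225))))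
(.node 3 (.node 1 (.leaf 17061979) (.node 1 (.leaf 17633347) (.leaf 11038801))) (.node 1 (.leaf 19673161) (.node 1 (.leaf 27856977) (.leaf 19683403)))))
(.node 6 (.node 3 (.node 1 (.leaf 19738715) (.node 1 (.leaf 25768001) (.leaf 11030611))) (.node 1 (.leaf 19689547) (.node 1 (.leaf 17641539) (.leaf 25516121))))
(.node 3 (.node 1 (.leaf 17584209) (.node 1 (.leaf 8984667) (.leaf 17635409))) (.node 1 (.leaf 25458761) (.node 1 (.leaf 27539521) (.leaf 19142737)))))))))
(.node 96 (.node 48 (.node 24 (.node 12 (.node 6 (.node 3 (.node 1 (.leaf 19746907) (.node 1 (.leaf 8935491) (.leaf 17567825))) (.node 1 (.leaf 17659971) (.node 1 (.leaf 9255003) (.leaf 17569865))))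
(.node 3 (.node 1 (.leaf 27531345) (.node 1 (.leaf 11366467) (.leaf 25505857))) (.node 1 (.leaf 8998993) (.node 1 (.leaf 11284555) (.leaf 17053779)))))
(.node 6 (.node 3 (.node 1 (.leaf 9189459) (.node 1 (.leaf 25434179) (.leaf 11368529))) (.node 1 (.leaf 19216457) (.node 1 (.leaf 27613275) (.leaf 17111129))))
(.node 3 (.node 1 (.leaf 27816019) (.node 1 (.leaf 8943705) (.leaf 27818049))) (.node 1 (.leaf 9244763) (.node 1 (.leaf 19142745) (.leaf 27619409))))))
(.node 12 (.node 6 (.node 3 (.node 1 (.leaf 27875419) (.node 1 (.leaf 11014235) (.leaf 17657937))) (.node 1 (.leaf 17586241) (.node 1 (.leaf 11087955) (.leaf 8943691))))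
(.node 3 (.node 1 (.leaf 27873353) (.node 1 (.leaf 17061963) (.leaf 9261139))) (.node 1 (.leaf 11087945) (.node 1 (.leaf 17578065) (.leaf 11090003)))))
(.node 6 (.node 3 (.node 1 (.leaf 25770073) (.node 1 (.leaf 27873363) (.leaf 9263171))) (.node 1 (.leaf 25507923) (.node 1 (.leaf 27529281) (.leaf 25505865))))
(.node 3 (.node 1 (.leaf 9263193) (.node 1 (.leaf 17135705) (.leaf 25458763))) (.node 1 (.leaf 25784385) (.node 1 (.leaf 19667017) (.leaf 25712731)))))))
(.node 24 (.node 12 (.node 6 (.node 3 (.node 1 (.leaf 11284571) (.node 1 (.leaf 8927297) (.leaf 9261129))) (.node 1 (.leaf 17133633) (.node 1 (.leaf 25770057) (.leaf 27875409))))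
(.node 3 (.node 1 (.leaf 19675211) (.node 1 (.leaf 17576019) (.leaf 11079771))) (.node 1 (.leaf 19730523) (.node 1 (.leaf 27818057) (.leaf 25761857)))))
(.node 6 (.node 3 (.node 1 (.leaf 11358291) (.node 1 (.leaf 8990793) (.leaf 11284569))) (.node 1 (.leaf 9009227) (.node 1 (.leaf 9189443) (.leaf 9261131))))
(.node 3 (.node 1 (.leaf 27859035) (.node 1 (.leaf 11286611) (.leaf 17569873))) (.node 1 (.leaf 11106393) (.node 1 (.leaf 19740761) (.leaf 27539529))))))
(.node 12 (.node 6 (.node 3 (.node 1 (.leaf 17643587) (.node 1 (.leaf 11106395) (.leaf 11016273))) (.node 1 (.leaf 25784403) (.node 1 (.leaf 9203787) (.leaf 19738713))))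
(.node 3 (.node 1 (.leaf 19230785) (.node 1 (.leaf 27816027) (.leaf 8941635))) (.node 1 (.leaf 9001033) (.node 1 (.leaf 8984651) (.leaf 25450587)))))
(.node 6 (.node 3 (.node 1 (.leaf 17109065) (.node 1 (.leaf 17586257) (.leaf 19681353))) (.node 1 (.leaf 9001035) (.node 1 (.leaf 17633345) (.leaf 25514049))))
(.node 3 (.node 1 (.leaf 25768017) (.node 1 (.leaf 11087963) (.leaf 11341905))) (.node 1 (.leaf 27621441) (.node 1 (.leaf 25458771) (.leaf 11360345))))))))
(.node 48 (.node 24 (.node 12 (.node 6 (.node 3 (.node 1 (.leaf 8984649) (.node 1 (.leaf 17635393) (.leaf 19140689))) (.node 1 (.leaf 25516107) (.node 1 (.leaf 11022417) (.leaf 9197635))))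
(.node 3 (.node 1 (.leaf 27545665) (.node 1 (.leaf 27553859) (.leaf 11022419))) (.node 1 (.leaf 11098201) (.node 1 (.leaf 27875393) (.leaf 19232833)))))
(.node 6 (.node 3 (.node 1 (.leaf 17111113) (.node 1 (.leaf 25710667) (.leaf 8917059))) (.node 1 (.leaf 19157059) (.node 1 (.leaf 8941633) (.leaf 27603033))))
(.node 3 (.node 1 (.leaf 19214417) (.node 1 (.leaf 9001043) (.leaf 25450569))) (.node 1 (.leaf 19691595) (.node 1 (.leaf 25522259) (.leaf 8917057))))))
(.node 12 (.node 6 (.node 3 (.node 1 (.leaf 25702473) (.node 1 (.leaf 9254985) (.leaf 27856963))) (.node 1 (.leaf 11087961) (.node 1 (.leaf 11303001) (.leaf 9205849))))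
(.node 3 (.node 1 (.leaf 9187411) (.node 1 (.leaf 19214403) (.leaf 11278411))) (.node 1 (.leaf 11358275) (.node 1 (.leaf 11276371) (.leaf 27807827)))))
(.node 6 (.node 3 (.node 1 (.leaf 11368537) (.node 1 (.leaf 25761859) (.leaf 19746881))) (.node 1 (.leaf 25704521) (.node 1 (.leaf 17633353) (.leaf 11341891))))
(.node 3 (.node 1 (.leaf 25442379) (.node 1 (.leaf 25759833) (.leaf 11087937))) (.node 1 (.leaf 11278427) (.node 1 (.leaf 27537475) (.leaf 25448523)))))))
(.node 24 (.node 12 (.node 6 (.node 3 (.node 1 (.leaf 8943681) (.node 1 (.leaf 17053769) (.leaf 27621467))) (.node 1 (.leaf 11300937) (.node 1 (.leaf 9252937) (.leaf 25456713))))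
(.node 3 (.node 1 (.leaf 17125465) (.node 1 (.leaf 27537473) (.leaf 25514067))) (.node 1 (.leaf 27531329) (.node 1 (.leaf 25448521) (.leaf 27605081)))))
(.node 6 (.node 3 (.node 1 (.leaf 11096153) (.node 1 (.leaf 25505875) (.leaf 27621465))) (.node 1 (.leaf 25434185) (.node 1 (.leaf 27619393) (.leaf 19738707))))
(.node 3 (.node 1 (.leaf 25702465) (.node 1 (.leaf 8919105) (.leaf 11024467))) (.node 1 (.leaf 17051723) (.node 1 (.leaf 19206227) (.leaf 19148867))))))
(.node 12 (.node 6 (.node 3 (.node 1 (.leaf 27619417) (.node 1 (.leaf 25516113) (.leaf 17051737))) (.node 1 (.leaf 25514065) (.node 1 (.leaf 27539523) (.leaf 25456715))))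
(.node 3 (.node 1 (.leaf 17068123) (.node 1 (.leaf 17657923) (.leaf 19748955))) (.node 1 (.leaf 8982601) (.node 1 (.leaf 27531331) (.leaf 25505873)))))
(.node 6 (.node 3 (.node 1 (.leaf 11343937) (.node 1 (.leaf 17061961) (.leaf 17659969))) (.node 1 (.leaf 17584211) (.node 1 (.leaf 11016275) (.leaf 19746905))))
(.node 3 (.node 1 (.leaf 19689545) (.node 1 (.leaf 11098203) (.leaf 11090009))) (.node 1 (.leaf 27605083) (.node 1 (.leaf 25432137) (.leaf 25434187))))))))))))

/-- An automorphism. -/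
def twoFwd1 : Tab ℕ :=
(.node 768 (.node 384 (.node 192 (.node 96 (.node 48 (.node 24 (.node 12 (.node 6 (.node 3 (.node 1 (.leaf 17043521) (.node 1 (.leaf 11366475) (.leaf 19214403))) (.node 1 (.leaf 25440323) (.node 1 (.leaf 25768019) (.leaf 9261131))))
(.node 3 (.node 1 (.leaf 11104329) (.node 1 (.leaf 9181257) (.leaf 17045569))) (.node 1 (.leaf 27594817) (.node 1 (.leaf 17635401) (.leaf 25499713)))))
(.node 6 (.node 3 (.node 1 (.leaf 17045571) (.node 1 (.leaf 25696339) (.leaf 17633369))) (.node 1 (.leaf 27875411) (.node 1 (.leaf 11368523) (.leaf 8998985))))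
(.node 3 (.node 1 (.leaf 25440337) (.node 1 (.leaf 8933449) (.leaf 27818065))) (.node 1 (.leaf 11286601) (.node 1 (.leaf 8927307) (.leaf 19216451))))))
(.node 12 (.node 6 (.node 3 (.node 1 (.leaf 25442371) (.node 1 (.leaf 19689547) (.leaf 27537475))) (.node 1 (.leaf 11106385) (.node 1 (.leaf 19740745) (.leaf 25770059))))
(.node 3 (.node 1 (.leaf 17594443) (.node 1 (.leaf 17119299) (.leaf 11368521))) (.node 1 (.leaf 19216449) (.node 1 (.leaf 25442369) (.leaf 17135683)))))
(.node 6 (.node 3 (.node 1 (.leaf 25770067) (.node 1 (.leaf 17578073) (.leaf 11104347))) (.node 1 (.leaf 19738715) (.node 1 (.leaf 19157059) (.leaf 27816019))))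
(.node 3 (.node 1 (.leaf 19748953) (.node 1 (.leaf 9263179) (.leaf 11106377))) (.node 1 (.leaf 27547729) (.node 1 (.leaf 11040841) (.leaf 17635393)))))))
(.node 24 (.node 12 (.node 6 (.node 3 (.node 1 (.leaf 25499729) (.node 1 (.leaf 17043547) (.leaf 27613265))) (.node 1 (.leaf 9195595) (.node 1 (.leaf 27875409) (.leaf 19691611))))
(.node 3 (.node 1 (.leaf 25694289) (.node 1 (.leaf 9179209) (.leaf 11016267))) (.node 1 (.leaf 27594835) (.node 1 (.leaf 11079755) (.leaf 27596865)))))
(.node 6 (.node 3 (.node 1 (.leaf 17633353) (.node 1 (.leaf 25497665) (.leaf 8925267))) (.node 1 (.leaf 17584203) (.node 1 (.leaf 27816009) (.leaf 19732553))))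
(.node 3 (.node 1 (.leaf 19140673) (.node 1 (.leaf 8935505) (.leaf 11368539))) (.node 1 (.leaf 8982609) (.node 1 (.leaf 27859019) (.leaf 17043539))))))
(.node 12 (.node 6 (.node 3 (.node 1 (.leaf 25694283) (.node 1 (.leaf 11024467) (.leaf 19683403))) (.node 1 (.leaf 25720905) (.node 1 (.leaf 11276361) (.leaf 25770065))))
(.node 3 (.node 1 (.leaf 9263177) (.node 1 (.leaf 11106379) (.leaf 9179211))) (.node 1 (.leaf 17043523) (.node 1 (.leaf 27596867) (.leaf 17633355)))))
(.node 6 (.node 3 (.node 1 (.leaf 25497667) (.node 1 (.leaf 19159105) (.leaf 25524289))) (.node 1 (.leaf 25694291) (.node 1 (.leaf 17635417) (.leaf 11014235))))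
(.node 3 (.node 1 (.leaf 19664987) (.node 1 (.leaf 25440345) (.leaf 8933465))) (.node 1 (.leaf 11366481) (.node 1 (.leaf 8984665) (.leaf 27856977))))))))
(.node 48 (.node 24 (.node 12 (.node 6 (.node 3 (.node 1 (.leaf 17135681) (.node 1 (.leaf 27545665) (.leaf 27873363))) (.node 1 (.leaf 19689561) (.node 1 (.leaf 8999003) (.leaf 17657947))))
(.node 3 (.node 1 (.leaf 9001033) (.node 1 (.leaf 25442385) (.leaf 8935497))) (.node 1 (.leaf 19746881) (.node 1 (.leaf 27619409) (.leaf 19159131)))))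
(.node 6 (.node 3 (.node 1 (.leaf 25507921) (.node 1 (.leaf 11302987) (.leaf 19740739))) (.node 1 (.leaf 25770051) (.node 1 (.leaf 17594433) (.leaf 17119323))))
(.node 3 (.node 1 (.leaf 11366489) (.node 1 (.leaf 19214425) (.leaf 19681345))) (.node 1 (.leaf 27553873) (.node 1 (.leaf 19224667) (.leaf 27809875))))))
(.node 12 (.node 6 (.node 3 (.node 1 (.leaf 19157057) (.node 1 (.leaf 27816017) (.leaf 19748955))) (.node 1 (.leaf 8927321) (.node 1 (.leaf 17586265) (.leaf 17133633))))
(.node 3 (.node 1 (.leaf 25768017) (.node 1 (.leaf 17576027) (.leaf 11284553))) (.node 1 (.leaf 8925259) (.node 1 (.leaf 25524307) (.leaf 8992843)))))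
(.node 6 (.node 3 (.node 1 (.leaf 19689539) (.node 1 (.leaf 27537491) (.leaf 25456723))) (.node 1 (.leaf 11350089) (.node 1 (.leaf 19691595) (.leaf 27539523))))
(.node 3 (.node 1 (.leaf 11104337) (.node 1 (.leaf 19738697) (.leaf 25768011))) (.node 1 (.leaf 17592395) (.node 1 (.leaf 17117251) (.leaf 11081811)))))))
(.node 24 (.node 12 (.node 6 (.node 3 (.node 1 (.leaf 9179225) (.node 1 (.leaf 11032659) (.leaf 25710665))) (.node 1 (.leaf 19214417) (.node 1 (.leaf 27873353) (.leaf 9009233))))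
(.node 3 (.node 1 (.leaf 17643593) (.node 1 (.leaf 27867211) (.leaf 9269323))) (.node 1 (.leaf 27611201) (.node 1 (.leaf 9197659) (.leaf 25770073)))))
(.node 6 (.node 3 (.node 1 (.leaf 9263193) (.node 1 (.leaf 27553857) (.leaf 11022417))) (.node 1 (.leaf 9252955) (.node 1 (.leaf 19167315) (.leaf 27801675))))
(.node 3 (.node 1 (.leaf 11366467) (.node 1 (.leaf 19214419) (.leaf 17133651))) (.node 1 (.leaf 17576009) (.node 1 (.leaf 8982611) (.leaf 11278425))))))
(.node 12 (.node 6 (.node 3 (.node 1 (.leaf 8933459) (.node 1 (.leaf 27809865) (.leaf 17119313))) (.node 1 (.leaf 25778249) (.node 1 (.leaf 25718865) (.leaf 9187401))))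
(.node 3 (.node 1 (.leaf 11022411) (.node 1 (.leaf 17635419) (.leaf 27873361))) (.node 1 (.leaf 11366473) (.node 1 (.leaf 9001035) (.leaf 25442387)))))
(.node 6 (.node 3 (.node 1 (.leaf 8935499) (.node 1 (.leaf 11284555) (.leaf 8925257))) (.node 1 (.leaf 19214401) (.node 1 (.leaf 25440321) (.leaf 19691593))))
(.node 3 (.node 1 (.leaf 27539521) (.node 1 (.leaf 11104339) (.leaf 19738699))) (.node 1 (.leaf 25768009) (.node 1 (.leaf 17592393) (.leaf 17117249)))))))))
(.node 96 (.node 48 (.node 24 (.node 12 (.node 6 (.node 3 (.node 1 (.leaf 17133635) (.node 1 (.leaf 27547715) (.leaf 17578059))) (.node 1 (.leaf 25450563) (.node 1 (.leaf 17576025) (.leaf 11106395))))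
(.node 3 (.node 1 (.leaf 19740763) (.node 1 (.leaf 25522265) (.leaf 8990809))) (.node 1 (.leaf 11284561) (.node 1 (.leaf 8941657) (.leaf 27799633)))))
(.node 6 (.node 3 (.node 1 (.leaf 25499739) (.node 1 (.leaf 27613275) (.leaf 9195603))) (.node 1 (.leaf 25768001) (.node 1 (.leaf 9261137) (.leaf 27555931))))
(.node 3 (.node 1 (.leaf 11024475) (.node 1 (.leaf 9254995) (.leaf 19165249))) (.node 1 (.leaf 11286603) (.node 1 (.leaf 19159107) (.leaf 25524291))))))
(.node 12 (.node 6 (.node 3 (.node 1 (.leaf 19748939) (.node 1 (.leaf 27621443) (.leaf 27818067))) (.node 1 (.leaf 19746905) (.node 1 (.leaf 8925275) (.leaf 17584219))))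
(.node 3 (.node 1 (.leaf 27547737) (.node 1 (.leaf 11040857) (.leaf 11087961))) (.node 1 (.leaf 25784401) (.node 1 (.leaf 27545681) (.leaf 11038793)))))
(.node 6 (.node 3 (.node 1 (.leaf 17633345) (.node 1 (.leaf 25497681) (.leaf 17045595))) (.node 1 (.leaf 27611217) (.node 1 (.leaf 9197643) (.leaf 17659971))))
(.node 3 (.node 1 (.leaf 27873347) (.node 1 (.leaf 19673153) (.leaf 19230811))) (.node 1 (.leaf 9261145) (.node 1 (.leaf 17133657) (.leaf 17567809)))))))
(.node 24 (.node 12 (.node 6 (.node 3 (.node 1 (.leaf 25432145) (.node 1 (.leaf 17111131) (.leaf 25704531))) (.node 1 (.leaf 8982601) (.node 1 (.leaf 27859009) (.leaf 17043529))))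
(.node 3 (.node 1 (.leaf 25694273) (.node 1 (.leaf 11024459) (.leaf 19683395))) (.node 1 (.leaf 25720899) (.node 1 (.leaf 11276377) (.leaf 19140697)))))
(.node 6 (.node 3 (.node 1 (.leaf 25768027) (.node 1 (.leaf 9261147) (.leaf 9181275))) (.node 1 (.leaf 17594435) (.node 1 (.leaf 27807811) (.leaf 19738689))))
(.node 3 (.node 1 (.leaf 19165275) (.node 1 (.leaf 9195609) (.leaf 17068121))) (.node 1 (.leaf 19222595) (.node 1 (.leaf 27881555) (.leaf 19683417))))))
(.node 12 (.node 6 (.node 3 (.node 1 (.leaf 27545667) (.node 1 (.leaf 19689563) (.leaf 8999001))) (.node 1 (.leaf 17657945) (.node 1 (.leaf 27594843) (.leaf 11079771))))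
(.node 3 (.node 1 (.leaf 9181267) (.node 1 (.leaf 11030619) (.leaf 25712723))) (.node 1 (.leaf 25522243) (.node 1 (.leaf 25696337) (.leaf 17633371)))))
(.node 6 (.node 3 (.node 1 (.leaf 11016281) (.node 1 (.leaf 19667033) (.leaf 11014219))) (.node 1 (.leaf 27596883) (.node 1 (.leaf 11081803) (.leaf 17578051))))
(.node 3 (.node 1 (.leaf 25450579) (.node 1 (.leaf 17135705) (.leaf 27529299))) (.node 1 (.leaf 9246793) (.node 1 (.leaf 17584193) (.leaf 27816001))))))))
(.node 48 (.node 24 (.node 12 (.node 6 (.node 3 (.node 1 (.leaf 19732547) (.node 1 (.leaf 17641539) (.leaf 25514067))) (.node 1 (.leaf 25761873) (.node 1 (.leaf 8927315) (.leaf 17586251))))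
(.node 3 (.node 1 (.leaf 27818057) (.node 1 (.leaf 19730505) (.leaf 19142721))) (.node 1 (.leaf 8933457) (.node 1 (.leaf 11366491) (.leaf 8984657)))))
(.node 6 (.node 3 (.node 1 (.leaf 27856971) (.node 1 (.leaf 17045587) (.leaf 25696331))) (.node 1 (.leaf 11022419) (.node 1 (.leaf 19681355) (.leaf 25718857))))
(.node 3 (.node 1 (.leaf 11278409) (.node 1 (.leaf 25458755) (.leaf 11352153))) (.node 1 (.leaf 27816027) (.node 1 (.leaf 11284571) (.leaf 25514051))))))
(.node 12 (.node 6 (.node 3 (.node 1 (.leaf 9007187) (.node 1 (.leaf 11294809) (.leaf 17127505))) (.node 1 (.leaf 25786441) (.node 1 (.leaf 9181249) (.leaf 17045585))))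
(.node 3 (.node 1 (.leaf 19159121) (.node 1 (.leaf 19746891) (.leaf 11032657))) (.node 1 (.leaf 9271387) (.node 1 (.leaf 11079761) (.leaf 25761867)))))
(.node 6 (.node 3 (.node 1 (.leaf 19140691) (.node 1 (.leaf 27791435) (.leaf 27865171))) (.node 1 (.leaf 11358283) (.node 1 (.leaf 9007177) (.leaf 27555907))))
(.node 3 (.node 1 (.leaf 27807833) (.node 1 (.leaf 11300953) (.leaf 25694299))) (.node 1 (.leaf 17635411) (.node 1 (.leaf 27873371) (.leaf 9001043)))))))
(.node 24 (.node 12 (.node 6 (.node 3 (.node 1 (.leaf 27611203) (.node 1 (.leaf 19165251) (.leaf 11276379))) (.node 1 (.leaf 27859033) (.node 1 (.leaf 11343961) (.leaf 9254979))))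
(.node 3 (.node 1 (.leaf 17127507) (.node 1 (.leaf 27555929) (.leaf 19206227))) (.node 1 (.leaf 19667017) (.node 1 (.leaf 9261121) (.leaf 11104321)))))
(.node 6 (.node 3 (.node 1 (.leaf 9181251) (.node 1 (.leaf 27594841) (.leaf 11284547))) (.node 1 (.leaf 19157075) (.node 1 (.leaf 11016273) (.leaf 27553859))))
(.node 3 (.node 1 (.leaf 9252953) (.node 1 (.leaf 25720923) (.leaf 9189467))) (.node 1 (.leaf 27613251) (.node 1 (.leaf 11106387) (.leaf 19222609))))))
(.node 12 (.node 6 (.node 3 (.node 1 (.leaf 27881545) (.node 1 (.leaf 11276353) (.leaf 19140689))) (.node 1 (.leaf 17059921) (.node 1 (.leaf 17651787) (.leaf 25776209))))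
(.node 3 (.node 1 (.leaf 17592411) (.node 1 (.leaf 27793489) (.leaf 8917067))) (.node 1 (.leaf 25499731) (.node 1 (.leaf 8984651) (.leaf 11106393)))))
(.node 6 (.node 3 (.node 1 (.leaf 19740761) (.node 1 (.leaf 19746907) (.leaf 9261129))) (.node 1 (.leaf 11104331) (.node 1 (.leaf 27545683) (.leaf 11038795))))
(.node 3 (.node 1 (.leaf 17633347) (.node 1 (.leaf 25497683) (.leaf 17045593))) (.node 1 (.leaf 27611219) (.node 1 (.leaf 9197641) (.leaf 9181259))))))))))
(.node 192 (.node 96 (.node 48 (.node 24 (.node 12 (.node 6 (.node 3 (.node 1 (.leaf 11014217) (.node 1 (.leaf 27596881) (.leaf 11081801))) (.node 1 (.leaf 27594819) (.node 1 (.leaf 17635403) (.leaf 25499715))))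
(.node 3 (.node 1 (.leaf 8927313) (.node 1 (.leaf 17586249) (.leaf 27818059))) (.node 1 (.leaf 19730507) (.node 1 (.leaf 19142723) (.leaf 8984659)))))
(.node 6 (.node 3 (.node 1 (.leaf 27856969) (.node 1 (.leaf 25696329) (.leaf 19681353))) (.node 1 (.leaf 25718859) (.node 1 (.leaf 11278411) (.leaf 25522241))))
(.node 3 (.node 1 (.leaf 19746889) (.node 1 (.leaf 27619393) (.leaf 11014227))) (.node 1 (.leaf 19664971) (.node 1 (.leaf 17649737) (.leaf 17061953))))))
(.node 12 (.node 6 (.node 3 (.node 1 (.leaf 11016283) (.node 1 (.leaf 19667035) (.leaf 25442393))) (.node 1 (.leaf 8935513) (.node 1 (.leaf 11368529) (.leaf 8982617))))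
(.node 3 (.node 1 (.leaf 27859025) (.node 1 (.leaf 25448539) (.leaf 27531355))) (.node 1 (.leaf 9244755) (.node 1 (.leaf 25696321) (.leaf 9181265)))))
(.node 6 (.node 3 (.node 1 (.leaf 27603035) (.node 1 (.leaf 11096155) (.leaf 9203795))) (.node 1 (.leaf 19208257) (.node 1 (.leaf 17594457) (.leaf 19681369))))
(.node 3 (.node 1 (.leaf 27553881) (.node 1 (.leaf 19224657) (.leaf 27809859))) (.node 1 (.leaf 11302995) (.node 1 (.leaf 17045579) (.leaf 25696323)))))))
(.node 24 (.node 12 (.node 6 (.node 3 (.node 1 (.leaf 27875393) (.node 1 (.leaf 27613273) (.leaf 19167313))) (.node 1 (.leaf 25497689) (.node 1 (.leaf 11278417) (.leaf 27856963))))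
(.node 3 (.node 1 (.leaf 11341907) (.node 1 (.leaf 9252939) (.leaf 17125443))) (.node 1 (.leaf 11016265) (.node 1 (.leaf 27547713) (.leaf 17578057)))))
(.node 6 (.node 3 (.node 1 (.leaf 25450561) (.node 1 (.leaf 8998995) (.leaf 17657931))) (.node 1 (.leaf 27875401) (.node 1 (.leaf 19675209) (.leaf 19232833))))
(.node 3 (.node 1 (.leaf 19691609) (.node 1 (.leaf 9001051) (.leaf 17659995))) (.node 1 (.leaf 27596889) (.node 1 (.leaf 11081817) (.leaf 9179217))))))
(.node 12 (.node 6 (.node 3 (.node 1 (.leaf 11032665) (.node 1 (.leaf 25710673) (.leaf 27619419))) (.node 1 (.leaf 19159123) (.node 1 (.leaf 25507931) (.leaf 25434203))))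
(.node 3 (.node 1 (.leaf 8919131) (.node 1 (.leaf 17051713) (.leaf 19748929))) (.node 1 (.leaf 27621457) (.node 1 (.leaf 19157083) (.leaf 25505873)))))
(.node 6 (.node 3 (.node 1 (.leaf 11300939) (.node 1 (.leaf 19738691) (.leaf 25768003))) (.node 1 (.leaf 17592385) (.node 1 (.leaf 17117275) (.leaf 11368537))))
(.node 3 (.node 1 (.leaf 19216473) (.node 1 (.leaf 19683393) (.leaf 27555921))) (.node 1 (.leaf 19222619) (.node 1 (.leaf 27807827) (.leaf 11089993))))))))
(.node 48 (.node 24 (.node 12 (.node 6 (.node 3 (.node 1 (.leaf 25786433) (.node 1 (.leaf 19159113) (.leaf 27818049))) (.node 1 (.leaf 8919115) (.node 1 (.leaf 17569859) (.leaf 27791427))))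
(.node 3 (.node 1 (.leaf 9187417) (.node 1 (.leaf 17059929) (.leaf 27875419))) (.node 1 (.leaf 25522259) (.node 1 (.leaf 19673155) (.leaf 25702467)))))
(.node 6 (.node 3 (.node 1 (.leaf 17657921) (.node 1 (.leaf 17051739) (.leaf 11303001))) (.node 1 (.leaf 19150937) (.node 1 (.leaf 17109059) (.leaf 25759827))))
(.node 3 (.node 1 (.leaf 17569881) (.node 1 (.leaf 11022409) (.leaf 19167307))) (.node 1 (.leaf 27801667) (.node 1 (.leaf 19214409) (.leaf 25440331))))))
(.node 12 (.node 6 (.node 3 (.node 1 (.leaf 17133643) (.node 1 (.leaf 17576003) (.leaf 8982603))) (.node 1 (.leaf 27809857) (.node 1 (.leaf 17119305) (.leaf 25778241))))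
(.node 3 (.node 1 (.leaf 25718875) (.node 1 (.leaf 9187419) (.leaf 9269339))) (.node 1 (.leaf 25696345) (.node 1 (.leaf 17633361) (.leaf 27875417)))))
(.node 6 (.node 3 (.node 1 (.leaf 8998993) (.node 1 (.leaf 27818073) (.leaf 11286617))) (.node 1 (.leaf 11024457) (.node 1 (.leaf 25720897) (.leaf 19224649))))
(.node 3 (.node 1 (.leaf 27883585) (.node 1 (.leaf 17635395) (.leaf 17125465))) (.node 1 (.leaf 27809883) (.node 1 (.leaf 11303003) (.leaf 11350107)))))))
(.node 24 (.node 12 (.node 6 (.node 3 (.node 1 (.leaf 17070145) (.node 1 (.leaf 19148867) (.leaf 19755097))) (.node 1 (.leaf 8933467) (.node 1 (.leaf 19748937) (.leaf 27621441))))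
(.node 3 (.node 1 (.leaf 8925273) (.node 1 (.leaf 17584217) (.leaf 27547739))) (.node 1 (.leaf 11040859) (.node 1 (.leaf 9261139) (.leaf 11087963)))))
(.node 6 (.node 3 (.node 1 (.leaf 25784403) (.node 1 (.leaf 27537497) (.leaf 25456729))) (.node 1 (.leaf 11350097) (.node 1 (.leaf 27818051) (.leaf 11286611))))
(.node 3 (.node 1 (.leaf 25516121) (.node 1 (.leaf 9009241) (.leaf 11292753))) (.node 1 (.leaf 25448513) (.node 1 (.leaf 17578075) (.leaf 11104345))))))
(.node 12 (.node 6 (.node 3 (.node 1 (.leaf 19738713) (.node 1 (.leaf 25524315) (.leaf 8992859))) (.node 1 (.leaf 8943707) (.node 1 (.leaf 27801683) (.leaf 8990795))))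
(.node 3 (.node 1 (.leaf 19691587) (.node 1 (.leaf 27539539) (.leaf 25458771))) (.node 1 (.leaf 11352137) (.node 1 (.leaf 19664961) (.leaf 17649731)))))
(.node 6 (.node 3 (.node 1 (.leaf 17061977) (.node 1 (.leaf 11286619) (.leaf 19755075))) (.node 1 (.leaf 27603027) (.node 1 (.leaf 19148889) (.leaf 27883601))))
(.node 3 (.node 1 (.leaf 11032651) (.node 1 (.leaf 25710659) (.leaf 19214411))) (.node 1 (.leaf 9009225) (.node 1 (.leaf 17643585) (.leaf 27867201)))))))))
(.node 96 (.node 48 (.node 24 (.node 12 (.node 6 (.node 3 (.node 1 (.leaf 19732545) (.node 1 (.leaf 25759809) (.leaf 17586243))) (.node 1 (.leaf 25704529) (.node 1 (.leaf 17643611) (.leaf 11079763))))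
(.node 3 (.node 1 (.leaf 9181273) (.node 1 (.leaf 11030611) (.leaf 25712713))) (.node 1 (.leaf 19216465) (.node 1 (.leaf 9007185) (.leaf 17641545)))))
(.node 6 (.node 3 (.node 1 (.leaf 27865163) (.node 1 (.leaf 9271371) (.leaf 27613249))) (.node 1 (.leaf 9195611) (.node 1 (.leaf 25768025) (.leaf 27555905))))
(.node 3 (.node 1 (.leaf 11024465) (.node 1 (.leaf 9255003) (.leaf 19165267))) (.node 1 (.leaf 27799627) (.node 1 (.leaf 11368515) (.leaf 19216467))))))
(.node 12 (.node 6 (.node 3 (.node 1 (.leaf 17135699) (.node 1 (.leaf 8935507) (.leaf 27807817))) (.node 1 (.leaf 17117265) (.node 1 (.leaf 25776201) (.leaf 25720913))))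
(.node 3 (.node 1 (.leaf 9189449) (.node 1 (.leaf 25516097) (.leaf 25759835))) (.node 1 (.leaf 9244763) (.node 1 (.leaf 27873369) (.leaf 19689553)))))
(.node 6 (.node 3 (.node 1 (.leaf 11014225) (.node 1 (.leaf 25458753) (.leaf 17125441))) (.node 1 (.leaf 9269337) (.node 1 (.leaf 25710683) (.leaf 9203803))))
(.node 3 (.node 1 (.leaf 11292737) (.node 1 (.leaf 19165265) (.leaf 25516123))) (.node 1 (.leaf 17053777) (.node 1 (.leaf 17659979) (.leaf 11286595)))))))
(.node 24 (.node 12 (.node 6 (.node 3 (.node 1 (.leaf 8927299) (.node 1 (.leaf 11368513) (.leaf 25442395))) (.node 1 (.leaf 17133649) (.node 1 (.leaf 25514049) (.leaf 11294811))))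
(.node 3 (.node 1 (.leaf 27867225) (.node 1 (.leaf 11360345) (.leaf 25456705))) (.node 1 (.leaf 8925265) (.node 1 (.leaf 17070163) (.leaf 25704523)))))
(.node 6 (.node 3 (.node 1 (.leaf 9269315) (.node 1 (.leaf 17117267) (.leaf 19230803))) (.node 1 (.leaf 19673161) (.node 1 (.leaf 27793491) (.leaf 19730521))))
(.node 3 (.node 1 (.leaf 25778259) (.node 1 (.leaf 11096137) (.leaf 27537489))) (.node 1 (.leaf 11030601) (.node 1 (.leaf 19167297) (.leaf 27883611))))))
(.node 12 (.node 6 (.node 3 (.node 1 (.leaf 19681363) (.node 1 (.leaf 25702491) (.leaf 11038803))) (.node 1 (.leaf 17576017) (.node 1 (.leaf 11106371) (.leaf 19740755))))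
(.node 3 (.node 1 (.leaf 19159129) (.node 1 (.leaf 19746897) (.leaf 19683401))) (.node 1 (.leaf 19222593) (.node 1 (.leaf 9252937) (.leaf 25718873)))))
(.node 6 (.node 3 (.node 1 (.leaf 19167323) (.node 1 (.leaf 27801691) (.leaf 25786459))) (.node 1 (.leaf 11090003) (.node 1 (.leaf 11341889) (.leaf 8984641))))
(.node 3 (.node 1 (.leaf 11292739) (.node 1 (.leaf 9203779) (.leaf 17051731))) (.node 1 (.leaf 27603033) (.node 1 (.leaf 8943697) (.leaf 27875403))))))))
(.node 48 (.node 24 (.node 12 (.node 6 (.node 3 (.node 1 (.leaf 8998979) (.node 1 (.leaf 8933443) (.leaf 11286593))) (.node 1 (.leaf 8927297) (.node 1 (.leaf 27537499) (.leaf 11014209))))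
(.node 3 (.node 1 (.leaf 9263171) (.node 1 (.leaf 27545689) (.leaf 8992849))) (.node 1 (.leaf 27859035) (.node 1 (.leaf 11343963) (.leaf 17119321)))))
(.node 6 (.node 3 (.node 1 (.leaf 25778265) (.node 1 (.leaf 17594449) (.leaf 27791449))) (.node 1 (.leaf 8919121) (.node 1 (.leaf 19224641) (.leaf 9197633))))
(.node 3 (.node 1 (.leaf 17070161) (.node 1 (.leaf 27611227) (.leaf 19148881))) (.node 1 (.leaf 19755083) (.node 1 (.leaf 9187395) (.leaf 11022403))))))
(.node 12 (.node 6 (.node 3 (.node 1 (.leaf 9269313) (.node 1 (.leaf 11360321) (.leaf 19232849))) (.node 1 (.leaf 11096147) (.node 1 (.leaf 17649755) (.leaf 11022425))))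
(.node 3 (.node 1 (.leaf 27867217) (.node 1 (.leaf 19675227) (.leaf 27619411))) (.node 1 (.leaf 11087947) (.node 1 (.leaf 27555923) (.leaf 9254985)))))
(.node 6 (.node 3 (.node 1 (.leaf 8935515) (.node 1 (.leaf 11368531) (.leaf 8982619))) (.node 1 (.leaf 27859027) (.node 1 (.leaf 9001049) (.leaf 17659993))))
(.node 3 (.node 1 (.leaf 8998987) (.node 1 (.leaf 25440339) (.leaf 8933451))) (.node 1 (.leaf 19748931) (.node 1 (.leaf 27621459) (.leaf 19157081)))))))
(.node 24 (.node 12 (.node 6 (.node 3 (.node 1 (.leaf 25505875) (.node 1 (.leaf 11300937) (.leaf 17592387))) (.node 1 (.leaf 17117273) (.node 1 (.leaf 19216475) (.leaf 19222617))))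
(.node 3 (.node 1 (.leaf 27807825) (.node 1 (.leaf 8927305) (.leaf 25522257))) (.node 1 (.leaf 8990793) (.node 1 (.leaf 19691585) (.leaf 27539537)))))
(.node 6 (.node 3 (.node 1 (.leaf 25458769) (.node 1 (.leaf 11352139) (.leaf 19689545))) (.node 1 (.leaf 27537473) (.node 1 (.leaf 19740747) (.leaf 25770057))))
(.node 3 (.node 1 (.leaf 17594441) (.node 1 (.leaf 17119297) (.leaf 11030609))) (.node 1 (.leaf 25712715) (.node 1 (.leaf 17641547) (.leaf 27865161))))))
(.node 12 (.node 6 (.node 3 (.node 1 (.leaf 9271369) (.node 1 (.leaf 9255001) (.leaf 27799625))) (.node 1 (.leaf 17135697) (.node 1 (.leaf 27807819) (.leaf 25776203))))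
(.node 3 (.node 1 (.leaf 25720915) (.node 1 (.leaf 9189451) (.leaf 17576011))) (.node 1 (.leaf 25448515) (.node 1 (.leaf 9001041) (.leaf 17659977)))))
(.node 6 (.node 3 (.node 1 (.leaf 27873355) (.node 1 (.leaf 19673163) (.leaf 19230787))) (.node 1 (.leaf 8990803) (.node 1 (.leaf 11284569) (.leaf 8941651))))
(.node 3 (.node 1 (.leaf 11098193) (.node 1 (.leaf 19757129) (.leaf 25524313))) (.node 1 (.leaf 8992857) (.node 1 (.leaf 11286609) (.leaf 8943705)))))))))))
(.node 384 (.node 192 (.node 96 (.node 48 (.node 24 (.node 12 (.node 6 (.node 3 (.node 1 (.leaf 27801681) (.node 1 (.leaf 25497691) (.leaf 9197651))) (.node 1 (.leaf 25770049) (.node 1 (.leaf 9263185) (.leaf 27553883))))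
(.node 3 (.node 1 (.leaf 11022427) (.node 1 (.leaf 9252947) (.leaf 17651801))) (.node 1 (.leaf 19757145) (.node 1 (.leaf 27605081) (.leaf 19150929)))))
(.node 6 (.node 3 (.node 1 (.leaf 27881539) (.node 1 (.leaf 11350099) (.leaf 17135691))) (.node 1 (.leaf 8927323) (.node 1 (.leaf 27531353) (.leaf 19206225))))
(.node 3 (.node 1 (.leaf 25450585) (.node 1 (.leaf 11358289) (.leaf 27799619))) (.node 1 (.leaf 11292755) (.node 1 (.leaf 9205835) (.leaf 17053763))))))
(.node 12 (.node 6 (.node 3 (.node 1 (.leaf 27605059) (.node 1 (.leaf 19683419) (.leaf 17594459))) (.node 1 (.leaf 9195585) (.node 1 (.leaf 17068113) (.leaf 19222601))))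
(.node 3 (.node 1 (.leaf 27881537) (.node 1 (.leaf 25704515) (.leaf 19216459))) (.node 1 (.leaf 25442377) (.node 1 (.leaf 17135689) (.leaf 17578049)))))
(.node 6 (.node 3 (.node 1 (.leaf 19157067) (.node 1 (.leaf 27816003) (.leaf 19681371))) (.node 1 (.leaf 19224659) (.node 1 (.leaf 9254977) (.leaf 25440347))))
(.node 3 (.node 1 (.leaf 9189457) (.node 1 (.leaf 19165257) (.leaf 27799617))) (.node 1 (.leaf 25784387) (.node 1 (.leaf 11343947) (.leaf 11294793)))))))
(.node 24 (.node 12 (.node 6 (.node 3 (.node 1 (.leaf 25524305) (.node 1 (.leaf 8992841) (.leaf 27619395))) (.node 1 (.leaf 19664969) (.node 1 (.leaf 17649739) (.leaf 17061955))))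
(.node 3 (.node 1 (.leaf 11040851) (.node 1 (.leaf 11087955) (.leaf 25784393))) (.node 1 (.leaf 19157073) (.node 1 (.leaf 8917073) (.leaf 17567817)))))
(.node 6 (.node 3 (.node 1 (.leaf 27793483) (.node 1 (.leaf 17586267) (.leaf 11038809))) (.node 1 (.leaf 11090009) (.node 1 (.leaf 25786449) (.leaf 27539547))))
(.node 3 (.node 1 (.leaf 25458779) (.node 1 (.leaf 11352147) (.leaf 25514075))) (.node 1 (.leaf 9007195) (.node 1 (.leaf 11294803) (.leaf 17127489))))))
(.node 12 (.node 6 (.node 3 (.node 1 (.leaf 19673177) (.node 1 (.leaf 19230801) (.leaf 9261123))) (.node 1 (.leaf 17567833) (.node 1 (.leaf 25432153) (.leaf 17111121))))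
(.node 3 (.node 1 (.leaf 25507929) (.node 1 (.leaf 27621465) (.leaf 19208259))) (.node 1 (.leaf 25432131) (.node 1 (.leaf 17657923) (.leaf 27875395)))))
(.node 6 (.node 3 (.node 1 (.leaf 19675201) (.node 1 (.leaf 19232859) (.leaf 17569857))) (.node 1 (.leaf 25434193) (.node 1 (.leaf 17109083) (.leaf 25702483))))
(.node 3 (.node 1 (.leaf 8984649) (.node 1 (.leaf 27856961) (.leaf 17045577))) (.node 1 (.leaf 19681347) (.node 1 (.leaf 25718851) (.leaf 19142745))))))))
(.node 48 (.node 24 (.node 12 (.node 6 (.node 3 (.node 1 (.leaf 25770075) (.node 1 (.leaf 9263195) (.leaf 9179227))) (.node 1 (.leaf 19740737) (.node 1 (.leaf 9197657) (.leaf 17070169))))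
(.node 3 (.node 1 (.leaf 19224643) (.node 1 (.leaf 27883603) (.leaf 8917065))) (.node 1 (.leaf 17053771) (.node 1 (.leaf 25712707) (.leaf 17133641)))))
(.node 6 (.node 3 (.node 1 (.leaf 27547723) (.node 1 (.leaf 11089995) (.leaf 25704513))) (.node 1 (.leaf 19230793) (.node 1 (.leaf 27865153) (.leaf 27793499))))
(.node 3 (.node 1 (.leaf 11278427) (.node 1 (.leaf 8917075) (.leaf 11360347))) (.node 1 (.leaf 25448531) (.node 1 (.leaf 27816025) (.leaf 19748945))))))
(.node 12 (.node 6 (.node 3 (.node 1 (.leaf 8919113) (.node 1 (.leaf 27791425) (.leaf 17111113))) (.node 1 (.leaf 25761857) (.node 1 (.leaf 19746883) (.leaf 19208281))))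
(.node 3 (.node 1 (.leaf 25704539) (.node 1 (.leaf 27531347) (.leaf 19148865))) (.node 1 (.leaf 25505857) (.node 1 (.leaf 17068099) (.leaf 17641561)))))
(.node 6 (.node 3 (.node 1 (.leaf 11276363) (.node 1 (.leaf 17127499) (.leaf 27555913))) (.node 1 (.leaf 19206217) (.node 1 (.leaf 19667009) (.leaf 27594827))))
(.node 3 (.node 1 (.leaf 25499723) (.node 1 (.leaf 11284563) (.leaf 25522249))) (.node 1 (.leaf 27553875) (.node 1 (.leaf 19222603) (.leaf 11276369)))))))
(.node 24 (.node 12 (.node 6 (.node 3 (.node 1 (.leaf 19140681) (.node 1 (.leaf 17059915) (.leaf 17651779))) (.node 1 (.leaf 25776217) (.node 1 (.leaf 17592401) (.leaf 27793497))))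
(.node 3 (.node 1 (.leaf 27865177) (.node 1 (.leaf 11358297) (.leaf 17135707))) (.node 1 (.leaf 17578067) (.node 1 (.leaf 19738705) (.leaf 19748947)))))
(.node 6 (.node 3 (.node 1 (.leaf 11040849) (.node 1 (.leaf 19691603) (.leaf 11016275))) (.node 1 (.leaf 17119307) (.node 1 (.leaf 25778243) (.leaf 9195601))))
(.node 3 (.node 1 (.leaf 17068105) (.node 1 (.leaf 27613259) (.leaf 19150923))) (.node 1 (.leaf 19757123) (.node 1 (.leaf 27881561) (.leaf 19683409))))))
(.node 12 (.node 6 (.node 3 (.node 1 (.leaf 25704537) (.node 1 (.leaf 25761881) (.leaf 9246809))) (.node 1 (.leaf 17111105) (.node 1 (.leaf 27529281) (.leaf 8990811))))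
(.node 3 (.node 1 (.leaf 17657929) (.node 1 (.leaf 19675211) (.leaf 19232835))) (.node 1 (.leaf 27596891) (.node 1 (.leaf 11081819) (.leaf 9179219)))))
(.node 6 (.node 3 (.node 1 (.leaf 11032667) (.node 1 (.leaf 25710675) (.leaf 27619417))) (.node 1 (.leaf 11302993) (.node 1 (.leaf 25434201) (.leaf 8919129))))
(.node 3 (.node 1 (.leaf 11341905) (.node 1 (.leaf 17051715) (.leaf 19732571))) (.node 1 (.leaf 17641563) (.node 1 (.leaf 17068115) (.leaf 9246801)))))))))
(.node 96 (.node 48 (.node 24 (.node 12 (.node 6 (.node 3 (.node 1 (.leaf 19216457) (.node 1 (.leaf 25694275) (.leaf 25456731))) (.node 1 (.leaf 9271379) (.node 1 (.leaf 25712705) (.leaf 9205841))))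
(.node 3 (.node 1 (.leaf 17059907) (.node 1 (.leaf 11014233) (.leaf 19664985))) (.node 1 (.leaf 11366483) (.node 1 (.leaf 8984667) (.leaf 27856979)))))
(.node 6 (.node 3 (.node 1 (.leaf 27529305) (.node 1 (.leaf 11098201) (.leaf 19206211))) (.node 1 (.leaf 9244745) (.node 1 (.leaf 17586241) (.leaf 19730499))))
(.node 3 (.node 1 (.leaf 17643587) (.node 1 (.leaf 25516115) (.leaf 25759825))) (.node 1 (.leaf 8941643) (.node 1 (.leaf 11098185) (.leaf 19757121))))))
(.node 12 (.node 6 (.node 3 (.node 1 (.leaf 25776193) (.node 1 (.leaf 11358299) (.leaf 25694297))) (.node 1 (.leaf 17649729) (.node 1 (.leaf 19667011) (.leaf 19206233))))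
(.node 3 (.node 1 (.leaf 9246811) (.node 1 (.leaf 19150913) (.leaf 27809873))) (.node 1 (.leaf 19757147) (.node 1 (.leaf 9007179) (.leaf 17127497)))))
(.node 6 (.node 3 (.node 1 (.leaf 27594825) (.node 1 (.leaf 11032649) (.leaf 25761859))) (.node 1 (.leaf 19140683) (.node 1 (.leaf 9009227) (.leaf 27867203))))
(.node 3 (.node 1 (.leaf 17068107) (.node 1 (.leaf 19689537) (.leaf 17109057))) (.node 1 (.leaf 17569883) (.node 1 (.leaf 11079769) (.leaf 25456707)))))))
(.node 24 (.node 12 (.node 6 (.node 3 (.node 1 (.leaf 11350105) (.node 1 (.leaf 27818075) (.leaf 25516099))) (.node 1 (.leaf 9009235) (.node 1 (.leaf 11292761) (.leaf 17125457))))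
(.node 3 (.node 1 (.leaf 9179201) (.node 1 (.leaf 17043537) (.leaf 11081809))) (.node 1 (.leaf 25759819) (.node 1 (.leaf 19142739) (.leaf 27867219)))))
(.node 6 (.node 3 (.node 1 (.leaf 11360331) (.node 1 (.leaf 27809881) (.leaf 25696347))) (.node 1 (.leaf 17633363) (.node 1 (.leaf 19167299) (.leaf 27856985))))
(.node 3 (.node 1 (.leaf 11341913) (.node 1 (.leaf 9252931) (.leaf 17125459))) (.node 1 (.leaf 19208275) (.node 1 (.leaf 9263169) (.leaf 11106369))))))
(.node 12 (.node 6 (.node 3 (.node 1 (.leaf 9179203) (.node 1 (.leaf 27883593) (.leaf 11278401))) (.node 1 (.leaf 19142737) (.node 1 (.leaf 17061969) (.leaf 25778257))))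
(.node 3 (.node 1 (.leaf 27791441) (.node 1 (.leaf 17127491) (.leaf 25702489))) (.node 1 (.leaf 17641553) (.node 1 (.leaf 8990801) (.leaf 19746899)))))
(.node 6 (.node 3 (.node 1 (.leaf 8925249) (.node 1 (.leaf 17584209) (.leaf 17643595))) (.node 1 (.leaf 17070147) (.node 1 (.leaf 11294795) (.leaf 27865179))))
(.node 3 (.node 1 (.leaf 17127513) (.node 1 (.leaf 25786457) (.leaf 27799641))) (.node 1 (.leaf 8941649) (.node 1 (.leaf 9205827) (.leaf 11030595))))))))
(.node 48 (.node 24 (.node 12 (.node 6 (.node 3 (.node 1 (.leaf 9252929) (.node 1 (.leaf 25694281) (.leaf 11016257))) (.node 1 (.leaf 11079745) (.node 1 (.leaf 11284545) (.leaf 25522267))))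
(.node 3 (.node 1 (.leaf 25710681) (.node 1 (.leaf 9203801) (.leaf 19140699))) (.node 1 (.leaf 27791451) (.node 1 (.leaf 19732563) (.leaf 25776219)))))
(.node 6 (.node 3 (.node 1 (.leaf 11098195) (.node 1 (.leaf 11352131) (.leaf 25458777))) (.node 1 (.leaf 17109075) (.node 1 (.leaf 17569865) (.leaf 11358273))))
(.node 3 (.node 1 (.leaf 9007169) (.node 1 (.leaf 11278403) (.leaf 17059923))) (.node 1 (.leaf 19675225) (.node 1 (.leaf 25718867) (.leaf 25450577))))))
(.node 12 (.node 6 (.node 3 (.node 1 (.leaf 8943689) (.node 1 (.leaf 25516113) (.leaf 11292747))) (.node 1 (.leaf 9254987) (.node 1 (.leaf 19757137) (.leaf 8935491))))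
(.node 3 (.node 1 (.leaf 17594451) (.node 1 (.leaf 17111129) (.leaf 17567825))) (.node 1 (.leaf 25505859) (.node 1 (.leaf 19667025) (.leaf 8935489)))))
(.node 6 (.node 3 (.node 1 (.leaf 8982595) (.node 1 (.leaf 17133659) (.leaf 27547731))) (.node 1 (.leaf 9001025) (.node 1 (.leaf 17659985) (.leaf 27809867))))
(.node 3 (.node 1 (.leaf 11343945) (.node 1 (.leaf 17592403) (.leaf 17053785))) (.node 1 (.leaf 25712729) (.node 1 (.leaf 25784395) (.leaf 11087939)))))))
(.node 24 (.node 12 (.node 6 (.node 3 (.node 1 (.leaf 27555915) (.node 1 (.leaf 11024451) (.leaf 9205825))) (.node 1 (.leaf 11030593) (.node 1 (.leaf 8941633) (.leaf 11343939))))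
(.node 3 (.node 1 (.leaf 27605057) (.node 1 (.leaf 9205851) (.leaf 27816011))) (.node 1 (.leaf 27547721) (.node 1 (.leaf 11040833) (.leaf 27613257)))))
(.node 6 (.node 3 (.node 1 (.leaf 11016259) (.node 1 (.leaf 11079747) (.leaf 19732569))) (.node 1 (.leaf 25522251) (.node 1 (.leaf 8990787) (.leaf 11366465))))
(.node 3 (.node 1 (.leaf 27621467) (.node 1 (.leaf 19167321) (.leaf 27801689))) (.node 1 (.leaf 19740753) (.node 1 (.leaf 11090001) (.leaf 17059931))))))
(.node 12 (.node 6 (.node 3 (.node 1 (.leaf 17651795) (.node 1 (.leaf 11024449) (.leaf 19673171))) (.node 1 (.leaf 11300931) (.node 1 (.leaf 11352129) (.leaf 9246785))))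
(.node 3 (.node 1 (.leaf 27529307) (.node 1 (.leaf 27793481) (.leaf 8917057))) (.node 1 (.leaf 25499721) (.node 1 (.leaf 11358275) (.leaf 9007171)))))
(.node 6 (.node 3 (.node 1 (.leaf 11098179) (.node 1 (.leaf 9189441) (.leaf 8943699))) (.node 1 (.leaf 11276371) (.node 1 (.leaf 8917081) (.leaf 19230809))))
(.node 3 (.node 1 (.leaf 25434195) (.node 1 (.leaf 11341897) (.leaf 27613267))) (.node 1 (.leaf 27611225) (.node 1 (.leaf 9197649) (.leaf 9263187))))))))))
(.node 192 (.node 96 (.node 48 (.node 24 (.node 12 (.node 6 (.node 3 (.node 1 (.leaf 9252945) (.node 1 (.leaf 27545691) (.leaf 11038811))) (.node 1 (.leaf 11090011) (.node 1 (.leaf 25786451) (.leaf 11040843))))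
(.node 3 (.node 1 (.leaf 17043545) (.node 1 (.leaf 9195593) (.leaf 19675203))) (.node 1 (.leaf 19232857) (.node 1 (.leaf 17109081) (.leaf 25702481)))))
(.node 6 (.node 3 (.node 1 (.leaf 25718849) (.node 1 (.leaf 19142747) (.leaf 17070171))) (.node 1 (.leaf 27594833) (.node 1 (.leaf 11079753) (.leaf 17576001))))
(.node 3 (.node 1 (.leaf 25448529) (.node 1 (.leaf 27531345) (.leaf 9244747))) (.node 1 (.leaf 19730497) (.node 1 (.leaf 17584201) (.leaf 19732555))))))
(.node 12 (.node 6 (.node 3 (.node 1 (.leaf 19140675) (.node 1 (.leaf 27859017) (.leaf 25720907))) (.node 1 (.leaf 11292763) (.node 1 (.leaf 25759817) (.leaf 11360329))))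
(.node 3 (.node 1 (.leaf 27856987) (.node 1 (.leaf 11341915) (.leaf 19208273))) (.node 1 (.leaf 27883595) (.node 1 (.leaf 17061971) (.leaf 27791443)))))
(.node 6 (.node 3 (.node 1 (.leaf 19667019) (.node 1 (.leaf 17651785) (.leaf 17059905))) (.node 1 (.leaf 11038801) (.node 1 (.leaf 25786443) (.leaf 8919123))))
(.node 3 (.node 1 (.leaf 17569867) (.node 1 (.leaf 27791433) (.leaf 27531331))) (.node 1 (.leaf 9244761) (.node 1 (.leaf 27603011) (.leaf 25450587)))))))
(.node 24 (.node 12 (.node 6 (.node 3 (.node 1 (.leaf 9246803) (.node 1 (.leaf 27605083) (.leaf 11098203))) (.node 1 (.leaf 9205843) (.node 1 (.leaf 19206209) (.leaf 17592409))))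
(.node 3 (.node 1 (.leaf 11300947) (.node 1 (.leaf 17043531) (.leaf 27873345))) (.node 1 (.leaf 25499737) (.node 1 (.leaf 27859011) (.leaf 11343955)))))
(.node 6 (.node 3 (.node 1 (.leaf 19755099) (.node 1 (.leaf 17651803) (.leaf 9244737))) (.node 1 (.leaf 17109073) (.node 1 (.leaf 19148873) (.leaf 27807809))))
(.node 3 (.node 1 (.leaf 19755073) (.node 1 (.leaf 19159115) (.leaf 25524297))) (.node 1 (.leaf 19150931) (.node 1 (.leaf 9203777) (.leaf 17051729))))))
(.node 12 (.node 6 (.node 3 (.node 1 (.leaf 9271377) (.node 1 (.leaf 19208265) (.leaf 11030617))) (.node 1 (.leaf 25434177) (.node 1 (.leaf 11024473) (.leaf 11302979))))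
(.node 3 (.node 1 (.leaf 11350081) (.node 1 (.leaf 17070153) (.leaf 27611211))) (.node 1 (.leaf 19148875) (.node 1 (.leaf 17109065) (.leaf 27596873)))))
(.node 6 (.node 3 (.node 1 (.leaf 25497673) (.node 1 (.leaf 25524299) (.leaf 19664963))) (.node 1 (.leaf 27545673) (.node 1 (.leaf 9195587) (.leaf 11341891))))
(.node 3 (.node 1 (.leaf 8984643) (.node 1 (.leaf 17125449) (.leaf 27553867))) (.node 1 (.leaf 19208267) (.node 1 (.leaf 17051721) (.leaf 25710657))))))))
(.node 48 (.node 24 (.node 12 (.node 6 (.node 3 (.node 1 (.leaf 9203785) (.node 1 (.leaf 27529297) (.leaf 9246795))) (.node 1 (.leaf 19230785) (.node 1 (.leaf 19757131) (.leaf 11358281))))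
(.node 3 (.node 1 (.leaf 25507907) (.node 1 (.leaf 25434179) (.leaf 11087953))) (.node 1 (.leaf 25702475) (.node 1 (.leaf 19232851) (.leaf 25712721)))))
(.node 6 (.node 3 (.node 1 (.leaf 25505883) (.node 1 (.leaf 25432155) (.leaf 8917083))) (.node 1 (.leaf 17053761) (.node 1 (.leaf 17643609) (.leaf 25759811))))
(.node 3 (.node 1 (.leaf 9269329) (.node 1 (.leaf 9187393) (.leaf 8998977))) (.node 1 (.leaf 19673179) (.node 1 (.leaf 11302977) (.leaf 17567835))))))
(.node 12 (.node 6 (.node 3 (.node 1 (.leaf 17111123) (.node 1 (.leaf 9205833) (.leaf 11087945))) (.node 1 (.leaf 25784385) (.node 1 (.leaf 19157065) (.leaf 17567811))))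
(.node 3 (.node 1 (.leaf 27793475) (.node 1 (.leaf 9189465) (.leaf 17659969))) (.node 1 (.leaf 17053787) (.node 1 (.leaf 17111107) (.leaf 25761875)))))
(.node 6 (.node 3 (.node 1 (.leaf 19165259) (.node 1 (.leaf 25442379) (.leaf 17117257))) (.node 1 (.leaf 17635409) (.node 1 (.leaf 27807835) (.leaf 11300955))))
(.node 3 (.node 1 (.leaf 11352155) (.node 1 (.leaf 17068097) (.leaf 19150915))) (.node 1 (.leaf 9187403) (.node 1 (.leaf 19206219) (.leaf 25434185)))))))
(.node 24 (.node 12 (.node 6 (.node 3 (.node 1 (.leaf 27619403) (.node 1 (.leaf 25432147) (.leaf 17109067))) (.node 1 (.leaf 9187409) (.node 1 (.leaf 17059913) (.leaf 19142731))))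
(.node 3 (.node 1 (.leaf 19675217) (.node 1 (.leaf 25720921) (.leaf 19214427))) (.node 1 (.leaf 19689555) (.node 1 (.leaf 17657937) (.leaf 19230795)))))
(.node 6 (.node 3 (.node 1 (.leaf 27865155) (.node 1 (.leaf 19150921) (.leaf 25507915))) (.node 1 (.leaf 17070155) (.node 1 (.leaf 27605075) (.leaf 25759833))))
(.node 3 (.node 1 (.leaf 17569873) (.node 1 (.leaf 27529283) (.leaf 25516105))) (.node 1 (.leaf 9203793) (.node 1 (.leaf 27603019) (.leaf 8943691))))))
(.node 12 (.node 6 (.node 3 (.node 1 (.leaf 27537483) (.node 1 (.leaf 25448521) (.leaf 19165273))) (.node 1 (.leaf 27611209) (.node 1 (.leaf 11360339) (.leaf 19232843))))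
(.node 3 (.node 1 (.leaf 17061979) (.node 1 (.leaf 17649747) (.leaf 11022401))) (.node 1 (.leaf 19681361) (.node 1 (.leaf 27867227) (.leaf 19675219)))))
(.node 6 (.node 3 (.node 1 (.leaf 19730515) (.node 1 (.leaf 25778267) (.leaf 11014211))) (.node 1 (.leaf 19664979) (.node 1 (.leaf 17657939) (.leaf 25507905))))
(.node 3 (.node 1 (.leaf 17586259) (.node 1 (.leaf 8992851) (.leaf 17651777))) (.node 1 (.leaf 25456715) (.node 1 (.leaf 27531337) (.leaf 19148891)))))))))
(.node 96 (.node 48 (.node 24 (.node 12 (.node 6 (.node 3 (.node 1 (.leaf 19755091) (.node 1 (.leaf 8933441) (.leaf 17569875))) (.node 1 (.leaf 17643603) (.node 1 (.leaf 9244753) (.leaf 17567819))))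
(.node 3 (.node 1 (.leaf 27539545) (.node 1 (.leaf 11352145) (.leaf 25514073))) (.node 1 (.leaf 9007193) (.node 1 (.leaf 11294801) (.leaf 17053779)))))
(.node 6 (.node 3 (.node 1 (.leaf 9189459) (.node 1 (.leaf 25432129) (.leaf 11350083))) (.node 1 (.leaf 19222611) (.node 1 (.leaf 27596875) (.leaf 17125451))))
(.node 3 (.node 1 (.leaf 27801665) (.node 1 (.leaf 8941659) (.leaf 27799635))) (.node 1 (.leaf 9254993) (.node 1 (.leaf 19148883) (.leaf 27603009))))))
(.node 12 (.node 6 (.node 3 (.node 1 (.leaf 27881553) (.node 1 (.leaf 11030603) (.leaf 17641537))) (.node 1 (.leaf 17584195) (.node 1 (.leaf 11096139) (.leaf 8941641))))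
(.node 3 (.node 1 (.leaf 27883587) (.node 1 (.leaf 17061963) (.leaf 9271385))) (.node 1 (.leaf 11096145) (.node 1 (.leaf 17576019) (.leaf 11098187)))))
(.node 6 (.node 3 (.node 1 (.leaf 25776195) (.node 1 (.leaf 27883609) (.leaf 9269321))) (.node 1 (.leaf 25516107) (.node 1 (.leaf 27537481) (.leaf 25514065))))
(.node 3 (.node 1 (.leaf 9269331) (.node 1 (.leaf 17117259) (.leaf 25456713))) (.node 1 (.leaf 25761883) (.node 1 (.leaf 19691601) (.leaf 25712731)))))))
(.node 24 (.node 12 (.node 6 (.node 3 (.node 1 (.leaf 11294785) (.node 1 (.leaf 8925251) (.leaf 9271363))) (.node 1 (.leaf 17119315) (.node 1 (.leaf 25776211) (.leaf 27881563))))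
(.node 3 (.node 1 (.leaf 19683411) (.node 1 (.leaf 17578065) (.leaf 11104323))) (.node 1 (.leaf 19738707) (.node 1 (.leaf 27799643) (.leaf 25784411)))))
(.node 6 (.node 3 (.node 1 (.leaf 11343937) (.node 1 (.leaf 8982593) (.leaf 11294787))) (.node 1 (.leaf 9001027) (.node 1 (.leaf 9189443) (.leaf 9271361))))
(.node 3 (.node 1 (.leaf 27865169) (.node 1 (.leaf 11292745) (.leaf 17567827))) (.node 1 (.leaf 11081793) (.node 1 (.leaf 19732561) (.leaf 27531329))))))
(.node 12 (.node 6 (.node 3 (.node 1 (.leaf 17659987) (.node 1 (.leaf 11081795) (.leaf 11032641))) (.node 1 (.leaf 25761865) (.node 1 (.leaf 9203787) (.leaf 19730513))))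
(.node 3 (.node 1 (.leaf 19208283) (.node 1 (.leaf 27801673) (.leaf 8943681))) (.node 1 (.leaf 9009217) (.node 1 (.leaf 8992835) (.leaf 25448537)))))
(.node 6 (.node 3 (.node 1 (.leaf 17127515) (.node 1 (.leaf 17584211) (.leaf 19673169))) (.node 1 (.leaf 9009219) (.node 1 (.leaf 17649745) (.leaf 25505881))))
(.node 3 (.node 1 (.leaf 25778251) (.node 1 (.leaf 11096131) (.leaf 11360323))) (.node 1 (.leaf 27605073) (.node 1 (.leaf 25456721) (.leaf 11341899))))))))
(.node 48 (.node 24 (.node 12 (.node 6 (.node 3 (.node 1 (.leaf 8992833) (.node 1 (.leaf 17651793) (.leaf 19150939))) (.node 1 (.leaf 25507923) (.node 1 (.leaf 11038785) (.leaf 9197635))))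
(.node 3 (.node 1 (.leaf 27553865) (.node 1 (.leaf 27545675) (.leaf 11038787))) (.node 1 (.leaf 11089985) (.node 1 (.leaf 27881547) (.leaf 19206235)))))
(.node 6 (.node 3 (.node 1 (.leaf 17125467) (.node 1 (.leaf 25710667) (.leaf 8919105))) (.node 1 (.leaf 19167305) (.node 1 (.leaf 8943683) (.leaf 27619401))))
(.node 3 (.node 1 (.leaf 19224651) (.node 1 (.leaf 9009243) (.leaf 25448523))) (.node 1 (.leaf 19667027) (.node 1 (.leaf 25497675) (.leaf 8919107))))))
(.node 12 (.node 6 (.node 3 (.node 1 (.leaf 25702473) (.node 1 (.leaf 9244739) (.leaf 27867209))) (.node 1 (.leaf 11096129) (.node 1 (.leaf 11276355) (.leaf 9205849))))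
(.node 3 (.node 1 (.leaf 9187411) (.node 1 (.leaf 19224665) (.leaf 11300945))) (.node 1 (.leaf 11343953) (.node 1 (.leaf 11302985) (.leaf 27793473)))))
(.node 6 (.node 3 (.node 1 (.leaf 11350091) (.node 1 (.leaf 25784409) (.leaf 19755081))) (.node 1 (.leaf 25704521) (.node 1 (.leaf 17649753) (.leaf 11360337))))
(.node 3 (.node 1 (.leaf 25440329) (.node 1 (.leaf 25786435) (.leaf 11096153))) (.node 1 (.leaf 11300929) (.node 1 (.leaf 27529291) (.leaf 25450569)))))))
(.node 24 (.node 12 (.node 6 (.node 3 (.node 1 (.leaf 8941635) (.node 1 (.leaf 17053769) (.leaf 27605067))) (.node 1 (.leaf 11278419) (.node 1 (.leaf 9246787) (.leaf 25458763))))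
(.node 3 (.node 1 (.leaf 17111115) (.node 1 (.leaf 27529289) (.leaf 25505867))) (.node 1 (.leaf 27539529) (.node 1 (.leaf 25450571) (.leaf 27621449)))))
(.node 6 (.node 3 (.node 1 (.leaf 11087937) (.node 1 (.leaf 25514059) (.leaf 27605065))) (.node 1 (.leaf 25432139) (.node 1 (.leaf 27603025) (.leaf 19730523))))
(.node 3 (.node 1 (.leaf 25702465) (.node 1 (.leaf 8917059) (.leaf 11040835))) (.node 1 (.leaf 17051723) (.node 1 (.leaf 19232841) (.leaf 19142729))))))
(.node 12 (.node 6 (.node 3 (.node 1 (.leaf 27603017) (.node 1 (.leaf 25507913) (.leaf 17051737))) (.node 1 (.leaf 25505865) (.node 1 (.leaf 27531339) (.leaf 25458761))))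
(.node 3 (.node 1 (.leaf 17068123) (.node 1 (.leaf 17641555) (.leaf 19757139))) (.node 1 (.leaf 8990785) (.node 1 (.leaf 27539531) (.leaf 25514057)))))
(.node 6 (.node 3 (.node 1 (.leaf 11358291) (.node 1 (.leaf 17061961) (.leaf 17643601))) (.node 1 (.leaf 17586257) (.node 1 (.leaf 11032643) (.leaf 19755089))))
(.node 3 (.node 1 (.leaf 19664977) (.node 1 (.leaf 11089987) (.leaf 11098177))) (.node 1 (.leaf 27621451) (.node 1 (.leaf 25434187) (.leaf 25432137))))))))))))

/-- An automorphism. -/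
def twoFwd2 : Tab ℕ :=
(.node 768 (.node 384 (.node 192 (.node 96 (.node 48 (.node 24 (.node 12 (.node 6 (.node 3 (.node 1 (.leaf 17043521) (.node 1 (.leaf 11352153) (.leaf 19224665))) (.node 1 (.leaf 25440323) (.node 1 (.leaf 25778249) (.leaf 9271361))))
(.node 3 (.node 1 (.leaf 11081811) (.node 1 (.leaf 9181257) (.leaf 17045569))) (.node 1 (.leaf 27613267) (.node 1 (.leaf 17649755) (.leaf 25522267)))))
(.node 6 (.node 3 (.node 1 (.leaf 17045571) (.node 1 (.leaf 25696339) (.leaf 17651787))) (.node 1 (.leaf 27881561) (.node 1 (.leaf 11350105) (.leaf 9009219))))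
(.node 3 (.node 1 (.leaf 25440337) (.node 1 (.leaf 8933449) (.leaf 27799619))) (.node 1 (.leaf 11292755) (.node 1 (.leaf 8927307) (.leaf 19222617))))))
(.node 12 (.node 6 (.node 3 (.node 1 (.leaf 25442371) (.node 1 (.leaf 19667025) (.leaf 27531337))) (.node 1 (.leaf 11079755) (.node 1 (.leaf 19730499) (.leaf 25776209))))
(.node 3 (.node 1 (.leaf 17594443) (.node 1 (.leaf 17133649) (.leaf 11350107))) (.node 1 (.leaf 19222619) (.node 1 (.leaf 25442369) (.leaf 17117265)))))
(.node 6 (.node 3 (.node 1 (.leaf 25776201) (.node 1 (.leaf 17578073) (.leaf 11081793))) (.node 1 (.leaf 19732561) (.node 1 (.leaf 19167305) (.leaf 27801665))))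
(.node 3 (.node 1 (.leaf 19755091) (.node 1 (.leaf 9269313) (.leaf 11079763))) (.node 1 (.leaf 27553883) (.node 1 (.leaf 11022427) (.leaf 17649747)))))))
(.node 24 (.node 12 (.node 6 (.node 3 (.node 1 (.leaf 25522251) (.node 1 (.leaf 17043547) (.leaf 27594819))) (.node 1 (.leaf 9195595) (.node 1 (.leaf 27881563) (.leaf 19664961))))
(.node 3 (.node 1 (.leaf 25694289) (.node 1 (.leaf 9179209) (.leaf 11030617))) (.node 1 (.leaf 27613249) (.node 1 (.leaf 11106385) (.leaf 27611219)))))
(.node 6 (.node 3 (.node 1 (.leaf 17651803) (.node 1 (.leaf 25524315) (.leaf 8925267))) (.node 1 (.leaf 17584203) (.node 1 (.leaf 27801691) (.leaf 19738691))))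
(.node 3 (.node 1 (.leaf 19150923) (.node 1 (.leaf 8935505) (.leaf 11350089))) (.node 1 (.leaf 8992859) (.node 1 (.leaf 27865153) (.leaf 17043539))))))
(.node 12 (.node 6 (.node 3 (.node 1 (.leaf 25694283) (.node 1 (.leaf 11038785) (.leaf 19673169))) (.node 1 (.leaf 25720905) (.node 1 (.leaf 11302995) (.leaf 25776203))))
(.node 3 (.node 1 (.leaf 9269315) (.node 1 (.leaf 11079761) (.leaf 9179211))) (.node 1 (.leaf 17043523) (.node 1 (.leaf 27611217) (.leaf 17651801)))))
(.node 6 (.node 3 (.node 1 (.leaf 25524313) (.node 1 (.leaf 19165259) (.leaf 25497691))) (.node 1 (.leaf 25694291) (.node 1 (.leaf 17649739) (.leaf 11032649))))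
(.node 3 (.node 1 (.leaf 19691585) (.node 1 (.leaf 25440345) (.leaf 8933465))) (.node 1 (.leaf 11352131) (.node 1 (.leaf 8990803) (.leaf 27867227))))))))
(.node 48 (.node 24 (.node 12 (.node 6 (.node 3 (.node 1 (.leaf 17117267) (.node 1 (.leaf 27555915) (.leaf 27883609))) (.node 1 (.leaf 19667011) (.node 1 (.leaf 9009233) (.leaf 17643593))))
(.node 3 (.node 1 (.leaf 9007171) (.node 1 (.leaf 25442385) (.leaf 8935497))) (.node 1 (.leaf 19757131) (.node 1 (.leaf 27605059) (.leaf 19165265)))))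
(.node 6 (.node 3 (.node 1 (.leaf 25514059) (.node 1 (.leaf 11276369) (.leaf 19730505))) (.node 1 (.leaf 25776217) (.node 1 (.leaf 17594433) (.leaf 17133641))))
(.node 3 (.node 1 (.leaf 11352139) (.node 1 (.leaf 19224643) (.leaf 19675227))) (.node 1 (.leaf 27547739) (.node 1 (.leaf 19214401) (.leaf 27791425))))))
(.node 12 (.node 6 (.node 3 (.node 1 (.leaf 19167307) (.node 1 (.leaf 27801667) (.leaf 19755089))) (.node 1 (.leaf 8927321) (.node 1 (.leaf 17586265) (.leaf 17119315))))
(.node 3 (.node 1 (.leaf 25778251) (.node 1 (.leaf 17576027) (.leaf 11294803))) (.node 1 (.leaf 8925259) (.node 1 (.leaf 25497673) (.leaf 8982593)))))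
(.node 6 (.node 3 (.node 1 (.leaf 19667033) (.node 1 (.leaf 27531353) (.leaf 25456723))) (.node 1 (.leaf 11368539) (.node 1 (.leaf 19664977) (.leaf 27529289))))
(.node 3 (.node 1 (.leaf 11081803) (.node 1 (.leaf 19732547) (.leaf 25778257))) (.node 1 (.leaf 17592395) (.node 1 (.leaf 17135697) (.leaf 11104329)))))))
(.node 24 (.node 12 (.node 6 (.node 3 (.node 1 (.leaf 9179225) (.node 1 (.leaf 11014209) (.leaf 25710665))) (.node 1 (.leaf 19224651) (.node 1 (.leaf 27883587) (.leaf 8999003))))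
(.node 3 (.node 1 (.leaf 17657947) (.node 1 (.leaf 27856961) (.leaf 9263169))) (.node 1 (.leaf 27596883) (.node 1 (.leaf 9197659) (.leaf 25776195)))))
(.node 6 (.node 3 (.node 1 (.leaf 9269331) (.node 1 (.leaf 27547723) (.leaf 11040835))) (.node 1 (.leaf 9246801) (.node 1 (.leaf 19157081) (.leaf 27816025))))
(.node 3 (.node 1 (.leaf 11352145) (.node 1 (.leaf 19224649) (.leaf 17119297))) (.node 1 (.leaf 17576009) (.node 1 (.leaf 8992857) (.leaf 11300931))))))
(.node 12 (.node 6 (.node 3 (.node 1 (.leaf 8933459) (.node 1 (.leaf 27791451) (.leaf 17133635))) (.node 1 (.leaf 25768019) (.node 1 (.leaf 25718865) (.leaf 9187401))))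
(.node 3 (.node 1 (.leaf 11040857) (.node 1 (.leaf 17649737) (.leaf 27883611))) (.node 1 (.leaf 11352155) (.node 1 (.leaf 9007169) (.leaf 25442387)))))
(.node 6 (.node 3 (.node 1 (.leaf 8935499) (.node 1 (.leaf 11294801) (.leaf 8925257))) (.node 1 (.leaf 19224667) (.node 1 (.leaf 25440321) (.leaf 19664979))))
(.node 3 (.node 1 (.leaf 27529291) (.node 1 (.leaf 11081801) (.leaf 19732545))) (.node 1 (.leaf 25778259) (.node 1 (.leaf 17592393) (.leaf 17135699)))))))))
(.node 96 (.node 48 (.node 24 (.node 12 (.node 6 (.node 3 (.node 1 (.leaf 17119313) (.node 1 (.leaf 27553865) (.leaf 17578059))) (.node 1 (.leaf 25450563) (.node 1 (.leaf 17576025) (.leaf 11079745))))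
(.node 3 (.node 1 (.leaf 19730513) (.node 1 (.leaf 25499715) (.leaf 8984659))) (.node 1 (.leaf 11294795) (.node 1 (.leaf 8941657) (.leaf 27818051)))))
(.node 6 (.node 3 (.node 1 (.leaf 25522241) (.node 1 (.leaf 27594825) (.leaf 9195603))) (.node 1 (.leaf 25778267) (.node 1 (.leaf 9271387) (.leaf 27545681))))
(.node 3 (.node 1 (.leaf 11038793) (.node 1 (.leaf 9244761) (.leaf 19159115))) (.node 1 (.leaf 11292753) (.node 1 (.leaf 19165257) (.leaf 25497689))))))
(.node 12 (.node 6 (.node 3 (.node 1 (.leaf 19755073) (.node 1 (.leaf 27603025) (.leaf 27799617))) (.node 1 (.leaf 19757139) (.node 1 (.leaf 8925275) (.leaf 17584219))))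
(.node 3 (.node 1 (.leaf 27553875) (.node 1 (.leaf 11022411) (.leaf 11098179))) (.node 1 (.leaf 25761867) (.node 1 (.leaf 27555931) (.leaf 11024475)))))
(.node 6 (.node 3 (.node 1 (.leaf 17651795) (.node 1 (.leaf 25524299) (.leaf 17045595))) (.node 1 (.leaf 27596867) (.node 1 (.leaf 9197643) (.leaf 17641553))))
(.node 3 (.node 1 (.leaf 27883593) (.node 1 (.leaf 19683419) (.leaf 19208257))) (.node 1 (.leaf 9271379) (.node 1 (.leaf 17119307) (.leaf 17567809)))))))
(.node 24 (.node 12 (.node 6 (.node 3 (.node 1 (.leaf 25432145) (.node 1 (.leaf 17125449) (.leaf 25704531))) (.node 1 (.leaf 8992835) (.node 1 (.leaf 27865163) (.leaf 17043529))))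
(.node 3 (.node 1 (.leaf 25694273) (.node 1 (.leaf 11038809) (.leaf 19673177))) (.node 1 (.leaf 25720899) (.node 1 (.leaf 11302979) (.leaf 19150931)))))
(.node 6 (.node 3 (.node 1 (.leaf 25778241) (.node 1 (.leaf 9271377) (.leaf 9181275))) (.node 1 (.leaf 17594435) (.node 1 (.leaf 27793489) (.leaf 19732555))))
(.node 3 (.node 1 (.leaf 19159121) (.node 1 (.leaf 9195609) (.leaf 17068121))) (.node 1 (.leaf 19216473) (.node 1 (.leaf 27875417) (.leaf 19673155))))))
(.node 12 (.node 6 (.node 3 (.node 1 (.leaf 27555913) (.node 1 (.leaf 19667009) (.leaf 9009235))) (.node 1 (.leaf 17643595) (.node 1 (.leaf 27613257) (.leaf 11106369))))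
(.node 3 (.node 1 (.leaf 9181267) (.node 1 (.leaf 11016265) (.leaf 25712723))) (.node 1 (.leaf 25499737) (.node 1 (.leaf 25696337) (.leaf 17651785)))))
(.node 6 (.node 3 (.node 1 (.leaf 11030603) (.node 1 (.leaf 19689539) (.leaf 11032665))) (.node 1 (.leaf 27611201) (.node 1 (.leaf 11104337) (.leaf 17578051))))
(.node 3 (.node 1 (.leaf 25450579) (.node 1 (.leaf 17117259) (.leaf 27539545))) (.node 1 (.leaf 9252931) (.node 1 (.leaf 17584193) (.leaf 27801683))))))))
(.node 48 (.node 24 (.node 12 (.node 6 (.node 3 (.node 1 (.leaf 19738697) (.node 1 (.leaf 17659985) (.leaf 25507913))) (.node 1 (.leaf 25784395) (.node 1 (.leaf 8927315) (.leaf 17586251))))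
(.node 3 (.node 1 (.leaf 27799643) (.node 1 (.leaf 19740739) (.leaf 19148875))) (.node 1 (.leaf 8933457) (.node 1 (.leaf 11352137) (.leaf 8990811)))))
(.node 6 (.node 3 (.node 1 (.leaf 27867201) (.node 1 (.leaf 17045587) (.leaf 25696331))) (.node 1 (.leaf 11040833) (.node 1 (.leaf 19675217) (.leaf 25718857))))
(.node 3 (.node 1 (.leaf 11300947) (.node 1 (.leaf 25458755) (.leaf 11366475))) (.node 1 (.leaf 27801673) (.node 1 (.leaf 11294785) (.leaf 25507929))))))
(.node 12 (.node 6 (.node 3 (.node 1 (.leaf 9001049) (.node 1 (.leaf 11284547) (.leaf 17109059))) (.node 1 (.leaf 25759827) (.node 1 (.leaf 9181249) (.leaf 17045585))))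
(.node 3 (.node 1 (.leaf 19165275) (.node 1 (.leaf 19757121) (.leaf 11014211))) (.node 1 (.leaf 9261137) (.node 1 (.leaf 11106379) (.leaf 25784401)))))
(.node 6 (.node 3 (.node 1 (.leaf 19150937) (.node 1 (.leaf 27809881) (.leaf 27859033))) (.node 1 (.leaf 11343961) (.node 1 (.leaf 9001027) (.leaf 27545673))))
(.node 3 (.node 1 (.leaf 27793483) (.node 1 (.leaf 11278403) (.leaf 25694299))) (.node 1 (.leaf 17649729) (.node 1 (.leaf 27883601) (.leaf 9007193)))))))
(.node 24 (.node 12 (.node 6 (.node 3 (.node 1 (.leaf 27596881) (.node 1 (.leaf 19159113) (.leaf 11302977))) (.node 1 (.leaf 27865171) (.node 1 (.leaf 11358283) (.leaf 9244745))))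
(.node 3 (.node 1 (.leaf 17109057) (.node 1 (.leaf 27545683) (.leaf 19232841))) (.node 1 (.leaf 19689555) (.node 1 (.leaf 9271371) (.leaf 11081819)))))
(.node 6 (.node 3 (.node 1 (.leaf 9181251) (.node 1 (.leaf 27613259) (.leaf 11294809))) (.node 1 (.leaf 19167321) (.node 1 (.leaf 11030595) (.leaf 27547721))))
(.node 3 (.node 1 (.leaf 9246803) (.node 1 (.leaf 25720923) (.leaf 9189467))) (.node 1 (.leaf 27594833) (.node 1 (.leaf 11079753) (.leaf 19216459))))))
(.node 12 (.node 6 (.node 3 (.node 1 (.leaf 27875395) (.node 1 (.leaf 11303003) (.leaf 19150939))) (.node 1 (.leaf 17059921) (.node 1 (.leaf 17633369) (.leaf 25770059))))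
(.node 3 (.node 1 (.leaf 17592411) (.node 1 (.leaf 27807811) (.leaf 8917067))) (.node 1 (.leaf 25522249) (.node 1 (.leaf 8990785) (.leaf 11079747)))))
(.node 6 (.node 3 (.node 1 (.leaf 19730515) (.node 1 (.leaf 19757137) (.leaf 9271363))) (.node 1 (.leaf 11081809) (.node 1 (.leaf 27555929) (.leaf 11024473))))
(.node 3 (.node 1 (.leaf 17651793) (.node 1 (.leaf 25524297) (.leaf 17045593))) (.node 1 (.leaf 27596865) (.node 1 (.leaf 9197641) (.leaf 9181259))))))))))
(.node 192 (.node 96 (.node 48 (.node 24 (.node 12 (.node 6 (.node 3 (.node 1 (.leaf 11032667) (.node 1 (.leaf 27611203) (.leaf 11104339))) (.node 1 (.leaf 27613265) (.node 1 (.leaf 17649753) (.leaf 25522265))))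
(.node 3 (.node 1 (.leaf 8927313) (.node 1 (.leaf 17586249) (.leaf 27799641))) (.node 1 (.leaf 19740737) (.node 1 (.leaf 19148873) (.leaf 8990809)))))
(.node 6 (.node 3 (.node 1 (.leaf 27867203) (.node 1 (.leaf 25696329) (.leaf 19675219))) (.node 1 (.leaf 25718859) (.node 1 (.leaf 11300945) (.leaf 25499739))))
(.node 3 (.node 1 (.leaf 19757123) (.node 1 (.leaf 27605075) (.leaf 11032641))) (.node 1 (.leaf 19691601) (.node 1 (.leaf 17635419) (.leaf 17061953))))))
(.node 12 (.node 6 (.node 3 (.node 1 (.leaf 11030601) (.node 1 (.leaf 19689537) (.leaf 25442393))) (.node 1 (.leaf 8935513) (.node 1 (.leaf 11350083) (.leaf 8992851))))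
(.node 3 (.node 1 (.leaf 27865179) (.node 1 (.leaf 25448539) (.leaf 27537489))) (.node 1 (.leaf 9255001) (.node 1 (.leaf 25696321) (.leaf 9181265)))))
(.node 6 (.node 3 (.node 1 (.leaf 27621449) (.node 1 (.leaf 11089985) (.leaf 9203795))) (.node 1 (.leaf 19230811) (.node 1 (.leaf 17594457) (.leaf 19675203))))
(.node 3 (.node 1 (.leaf 27547731) (.node 1 (.leaf 19214411) (.leaf 27791441))) (.node 1 (.leaf 11276361) (.node 1 (.leaf 17045579) (.leaf 25696323)))))))
(.node 24 (.node 12 (.node 6 (.node 3 (.node 1 (.leaf 27881547) (.node 1 (.leaf 27594827) (.leaf 19157083))) (.node 1 (.leaf 25524291) (.node 1 (.leaf 11300939) (.leaf 27867209))))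
(.node 3 (.node 1 (.leaf 11360321) (.node 1 (.leaf 9246785) (.leaf 17111121))) (.node 1 (.leaf 11030619) (.node 1 (.leaf 27553867) (.leaf 17578057)))))
(.node 6 (.node 3 (.node 1 (.leaf 25450561) (.node 1 (.leaf 9009241) (.leaf 17643609))) (.node 1 (.leaf 27881539) (.node 1 (.leaf 19681363) (.leaf 19206235))))
(.node 3 (.node 1 (.leaf 19664963) (.node 1 (.leaf 9007185) (.leaf 17641545))) (.node 1 (.leaf 27611211) (.node 1 (.leaf 11104323) (.leaf 9179217))))))
(.node 12 (.node 6 (.node 3 (.node 1 (.leaf 11014219) (.node 1 (.leaf 25710673) (.leaf 27605065))) (.node 1 (.leaf 19165273) (.node 1 (.leaf 25514049) (.leaf 25434203))))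
(.node 3 (.node 1 (.leaf 8919131) (.node 1 (.leaf 17051713) (.leaf 19755083))) (.node 1 (.leaf 27603011) (.node 1 (.leaf 19167313) (.leaf 25516107)))))
(.node 6 (.node 3 (.node 1 (.leaf 11278417) (.node 1 (.leaf 19732553) (.leaf 25778265))) (.node 1 (.leaf 17592385) (.node 1 (.leaf 17135689) (.leaf 11350091))))
(.node 3 (.node 1 (.leaf 19222595) (.node 1 (.leaf 19673179) (.leaf 27545691))) (.node 1 (.leaf 19216449) (.node 1 (.leaf 27793473) (.leaf 11096147))))))))
(.node 48 (.node 24 (.node 12 (.node 6 (.node 3 (.node 1 (.leaf 25759835) (.node 1 (.leaf 19165251) (.leaf 27799635))) (.node 1 (.leaf 8919115) (.node 1 (.leaf 17569859) (.leaf 27809873))))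
(.node 3 (.node 1 (.leaf 9187417) (.node 1 (.leaf 17059929) (.leaf 27881553))) (.node 1 (.leaf 25499721) (.node 1 (.leaf 19683417) (.leaf 25702467)))))
(.node 6 (.node 3 (.node 1 (.leaf 17643603) (.node 1 (.leaf 17051739) (.leaf 11276355))) (.node 1 (.leaf 19140691) (.node 1 (.leaf 17127505) (.leaf 25786441))))
(.node 3 (.node 1 (.leaf 17569881) (.node 1 (.leaf 11040859) (.leaf 19157057))) (.node 1 (.leaf 27816017) (.node 1 (.leaf 19224659) (.leaf 25440331))))))
(.node 12 (.node 6 (.node 3 (.node 1 (.leaf 17119321) (.node 1 (.leaf 17576003) (.leaf 8992833))) (.node 1 (.leaf 27791443) (.node 1 (.leaf 17133659) (.leaf 25768027))))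
(.node 3 (.node 1 (.leaf 25718875) (.node 1 (.leaf 9187419) (.leaf 9263185))) (.node 1 (.leaf 25696345) (.node 1 (.leaf 17651779) (.leaf 27881555)))))
(.node 6 (.node 3 (.node 1 (.leaf 9009243) (.node 1 (.leaf 27799627) (.leaf 11292739))) (.node 1 (.leaf 11038811) (.node 1 (.leaf 25720897) (.leaf 19214419))))
(.node 3 (.node 1 (.leaf 27873355) (.node 1 (.leaf 17649745) (.leaf 17111115))) (.node 1 (.leaf 27791433) (.node 1 (.leaf 11276353) (.leaf 11368521)))))))
(.node 24 (.node 12 (.node 6 (.node 3 (.node 1 (.leaf 17070145) (.node 1 (.leaf 19142729) (.leaf 19748947))) (.node 1 (.leaf 8933467) (.node 1 (.leaf 19755075) (.leaf 27603027))))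
(.node 3 (.node 1 (.leaf 8925273) (.node 1 (.leaf 17584217) (.leaf 27553873))) (.node 1 (.leaf 11022409) (.node 1 (.leaf 9271385) (.leaf 11098177)))))
(.node 6 (.node 3 (.node 1 (.leaf 25761865) (.node 1 (.leaf 27531347) (.leaf 25456729))) (.node 1 (.leaf 11368515) (.node 1 (.leaf 27799633) (.leaf 11292745))))
(.node 3 (.node 1 (.leaf 25505859) (.node 1 (.leaf 8998995) (.leaf 11286603))) (.node 1 (.leaf 25448513) (.node 1 (.leaf 17578075) (.leaf 11081795))))))
(.node 12 (.node 6 (.node 3 (.node 1 (.leaf 19732563) (.node 1 (.leaf 25497665) (.leaf 8982609))) (.node 1 (.leaf 8943707) (.node 1 (.leaf 27816001) (.leaf 8984641))))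
(.node 3 (.node 1 (.leaf 19664985) (.node 1 (.leaf 27529305) (.leaf 25458771))) (.node 1 (.leaf 11366491) (.node 1 (.leaf 19691611) (.leaf 17635409)))))
(.node 6 (.node 3 (.node 1 (.leaf 17061977) (.node 1 (.leaf 11292737) (.leaf 19748937))) (.node 1 (.leaf 27621441) (.node 1 (.leaf 19142739) (.leaf 27873371))))
(.node 3 (.node 1 (.leaf 11014233) (.node 1 (.leaf 25710659) (.leaf 19224657))) (.node 1 (.leaf 8998979) (.node 1 (.leaf 17657939) (.leaf 27856971)))))))))
(.node 96 (.node 48 (.node 24 (.node 12 (.node 6 (.node 3 (.node 1 (.leaf 19738699) (.node 1 (.leaf 25786459) (.leaf 17586243))) (.node 1 (.leaf 25704529) (.node 1 (.leaf 17657929) (.leaf 11106377))))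
(.node 3 (.node 1 (.leaf 9181273) (.node 1 (.leaf 11016257) (.leaf 25712713))) (.node 1 (.leaf 19222603) (.node 1 (.leaf 9001051) (.leaf 17659995)))))
(.node 6 (.node 3 (.node 1 (.leaf 27859009) (.node 1 (.leaf 9261121) (.leaf 27594835))) (.node 1 (.leaf 9195611) (.node 1 (.leaf 25778243) (.leaf 27545675))))
(.node 3 (.node 1 (.leaf 11038787) (.node 1 (.leaf 9244753) (.leaf 19159129))) (.node 1 (.leaf 27818073) (.node 1 (.leaf 11350097) (.leaf 19222601))))))
(.node 12 (.node 6 (.node 3 (.node 1 (.leaf 17117249) (.node 1 (.leaf 8935507) (.leaf 27793499))) (.node 1 (.leaf 17135683) (.node 1 (.leaf 25770067) (.leaf 25720913))))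
(.node 3 (.node 1 (.leaf 9189449) (.node 1 (.leaf 25505883) (.leaf 25786433))) (.node 1 (.leaf 9254993) (.node 1 (.leaf 27883603) (.leaf 19667019)))))
(.node 6 (.node 3 (.node 1 (.leaf 11032643) (.node 1 (.leaf 25458753) (.leaf 17111123))) (.node 1 (.leaf 9263187) (.node 1 (.leaf 25710683) (.leaf 9203803))))
(.node 3 (.node 1 (.leaf 11286619) (.node 1 (.leaf 19159131) (.leaf 25505857))) (.node 1 (.leaf 17053777) (.node 1 (.leaf 17641561) (.leaf 11292761)))))))
(.node 24 (.node 12 (.node 6 (.node 3 (.node 1 (.leaf 8927299) (.node 1 (.leaf 11350099) (.leaf 25442395))) (.node 1 (.leaf 17119299) (.node 1 (.leaf 25507931) (.leaf 11284545))))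
(.node 3 (.node 1 (.leaf 27856979) (.node 1 (.leaf 11341899) (.leaf 25456705))) (.node 1 (.leaf 8925265) (.node 1 (.leaf 17070163) (.leaf 25704523)))))
(.node 6 (.node 3 (.node 1 (.leaf 9263177) (.node 1 (.leaf 17135681) (.leaf 19208265))) (.node 1 (.leaf 19683411) (.node 1 (.leaf 27807809) (.leaf 19740755))))
(.node 3 (.node 1 (.leaf 25768009) (.node 1 (.leaf 11090003) (.leaf 27531355))) (.node 1 (.leaf 11016283) (.node 1 (.leaf 19157067) (.leaf 27873361))))))
(.node 12 (.node 6 (.node 3 (.node 1 (.leaf 19675209) (.node 1 (.leaf 25702491) (.leaf 11024449))) (.node 1 (.leaf 17576017) (.node 1 (.leaf 11079769) (.leaf 19730521))))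
(.node 3 (.node 1 (.leaf 19165267) (.node 1 (.leaf 19757147) (.leaf 19673171))) (.node 1 (.leaf 19216475) (.node 1 (.leaf 9246787) (.leaf 25718873)))))
(.node 6 (.node 3 (.node 1 (.leaf 19157073) (.node 1 (.leaf 27816009) (.leaf 25759809))) (.node 1 (.leaf 11096137) (.node 1 (.leaf 11360339) (.leaf 8990795))))
(.node 3 (.node 1 (.leaf 11286617) (.node 1 (.leaf 9203779) (.leaf 17051731))) (.node 1 (.leaf 27621451) (.node 1 (.leaf 8943697) (.leaf 27881537))))))))
(.node 48 (.node 24 (.node 12 (.node 6 (.node 3 (.node 1 (.leaf 9009225) (.node 1 (.leaf 8933443) (.leaf 11292763))) (.node 1 (.leaf 8927297) (.node 1 (.leaf 27531345) (.leaf 11032659))))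
(.node 3 (.node 1 (.leaf 9269321) (.node 1 (.leaf 27555923) (.leaf 8982619))) (.node 1 (.leaf 27865169) (.node 1 (.leaf 11358281) (.leaf 17133643)))))
(.node 6 (.node 3 (.node 1 (.leaf 25768003) (.node 1 (.leaf 17594449) (.leaf 27809867))) (.node 1 (.leaf 8919121) (.node 1 (.leaf 19214427) (.leaf 9197633))))
(.node 3 (.node 1 (.leaf 17070161) (.node 1 (.leaf 27596873) (.leaf 19142747))) (.node 1 (.leaf 19748929) (.node 1 (.leaf 9187395) (.leaf 11040849))))))
(.node 12 (.node 6 (.node 3 (.node 1 (.leaf 9263179) (.node 1 (.leaf 11341907) (.leaf 19206219))) (.node 1 (.leaf 11089993) (.node 1 (.leaf 17635401) (.leaf 11040843))))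
(.node 3 (.node 1 (.leaf 27856987) (.node 1 (.leaf 19681345) (.leaf 27605057))) (.node 1 (.leaf 11098193) (.node 1 (.leaf 27545689) (.leaf 9244739)))))
(.node 6 (.node 3 (.node 1 (.leaf 8935515) (.node 1 (.leaf 11350081) (.leaf 8992849))) (.node 1 (.leaf 27865177) (.node 1 (.leaf 9007187) (.leaf 17641547))))
(.node 3 (.node 1 (.leaf 9009217) (.node 1 (.leaf 25440339) (.leaf 8933451))) (.node 1 (.leaf 19755081) (.node 1 (.leaf 27603009) (.leaf 19167315)))))))
(.node 24 (.node 12 (.node 6 (.node 3 (.node 1 (.leaf 25516105) (.node 1 (.leaf 11278419) (.leaf 17592387))) (.node 1 (.leaf 17135691) (.node 1 (.leaf 19222593) (.leaf 19216451))))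
(.node 3 (.node 1 (.leaf 27793475) (.node 1 (.leaf 8927305) (.leaf 25499723))) (.node 1 (.leaf 8984643) (.node 1 (.leaf 19664987) (.leaf 27529307)))))
(.node 6 (.node 3 (.node 1 (.leaf 25458769) (.node 1 (.leaf 11366489) (.leaf 19667027))) (.node 1 (.leaf 27531339) (.node 1 (.leaf 19730497) (.leaf 25776211))))
(.node 3 (.node 1 (.leaf 17594441) (.node 1 (.leaf 17133651) (.leaf 11016259))) (.node 1 (.leaf 25712715) (.node 1 (.leaf 17659993) (.leaf 27859011))))))
(.node 12 (.node 6 (.node 3 (.node 1 (.leaf 9261123) (.node 1 (.leaf 9244755) (.leaf 27818075))) (.node 1 (.leaf 17117251) (.node 1 (.leaf 27793497) (.leaf 25770065))))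
(.node 3 (.node 1 (.leaf 25720915) (.node 1 (.leaf 9189451) (.leaf 17576011))) (.node 1 (.leaf 25448515) (.node 1 (.leaf 9007195) (.leaf 17641563)))))
(.node 6 (.node 3 (.node 1 (.leaf 27883585) (.node 1 (.leaf 19683409) (.leaf 19208281))) (.node 1 (.leaf 8984665) (.node 1 (.leaf 11294787) (.leaf 8941651))))
(.node 3 (.node 1 (.leaf 11087947) (.node 1 (.leaf 19746883) (.leaf 25497667))) (.node 1 (.leaf 8982611) (.node 1 (.leaf 11292747) (.leaf 8943705)))))))))))
(.node 384 (.node 192 (.node 96 (.node 48 (.node 24 (.node 12 (.node 6 (.node 3 (.node 1 (.leaf 27816003) (.node 1 (.leaf 25524289) (.leaf 9197651))) (.node 1 (.leaf 25776219) (.node 1 (.leaf 9269339) (.leaf 27547729))))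
(.node 3 (.node 1 (.leaf 11040841) (.node 1 (.leaf 9246809) (.leaf 17633355))) (.node 1 (.leaf 19746899) (.node 1 (.leaf 27619403) (.leaf 19140699)))))
(.node 6 (.node 3 (.node 1 (.leaf 27875401) (.node 1 (.leaf 11368513) (.leaf 17117273))) (.node 1 (.leaf 8927323) (.node 1 (.leaf 27537491) (.leaf 19232843))))
(.node 3 (.node 1 (.leaf 25450585) (.node 1 (.leaf 11343939) (.leaf 27818065))) (.node 1 (.leaf 11286601) (.node 1 (.leaf 9205835) (.leaf 17053763))))))
(.node 12 (.node 6 (.node 3 (.node 1 (.leaf 27619409) (.node 1 (.leaf 19673153) (.leaf 17594459))) (.node 1 (.leaf 9195585) (.node 1 (.leaf 17068113) (.leaf 19216467))))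
(.node 3 (.node 1 (.leaf 27875403) (.node 1 (.leaf 25704515) (.leaf 19222609))) (.node 1 (.leaf 25442377) (.node 1 (.leaf 17117275) (.leaf 17578049)))))
(.node 6 (.node 3 (.node 1 (.leaf 19167297) (.node 1 (.leaf 27801681) (.leaf 19675201))) (.node 1 (.leaf 19214409) (.node 1 (.leaf 9244747) (.leaf 25440347))))
(.node 3 (.node 1 (.leaf 9189457) (.node 1 (.leaf 19159107) (.leaf 27818067))) (.node 1 (.leaf 25761881) (.node 1 (.leaf 11358297) (.leaf 11284563)))))))
(.node 24 (.node 12 (.node 6 (.node 3 (.node 1 (.leaf 25497675) (.node 1 (.leaf 8982595) (.leaf 27605073))) (.node 1 (.leaf 19691603) (.node 1 (.leaf 17635417) (.leaf 17061955))))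
(.node 3 (.node 1 (.leaf 11022401) (.node 1 (.leaf 11098185) (.leaf 25761875))) (.node 1 (.leaf 19167323) (.node 1 (.leaf 8917073) (.leaf 17567817)))))
(.node 6 (.node 3 (.node 1 (.leaf 27807833) (.node 1 (.leaf 17586267) (.leaf 11024459))) (.node 1 (.leaf 11096131) (.node 1 (.leaf 25759819) (.leaf 27529297))))
(.node 3 (.node 1 (.leaf 25458779) (.node 1 (.leaf 11366465) (.leaf 25507905))) (.node 1 (.leaf 9001041) (.node 1 (.leaf 11284553) (.leaf 17109075))))))
(.node 12 (.node 6 (.node 3 (.node 1 (.leaf 19683395) (.node 1 (.leaf 19208267) (.leaf 9271369))) (.node 1 (.leaf 17567833) (.node 1 (.leaf 25432153) (.leaf 17125443))))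
(.node 3 (.node 1 (.leaf 25514051) (.node 1 (.leaf 27603019) (.leaf 19230809))) (.node 1 (.leaf 25432131) (.node 1 (.leaf 17643601) (.leaf 27881545)))))
(.node 6 (.node 3 (.node 1 (.leaf 19681371) (.node 1 (.leaf 19206209) (.leaf 17569857))) (.node 1 (.leaf 25434193) (.node 1 (.leaf 17127497) (.leaf 25702483))))
(.node 3 (.node 1 (.leaf 8990787) (.node 1 (.leaf 27867211) (.leaf 17045577))) (.node 1 (.leaf 19675225) (.node 1 (.leaf 25718851) (.leaf 19148883))))))))
(.node 48 (.node 24 (.node 12 (.node 6 (.node 3 (.node 1 (.leaf 25776193) (.node 1 (.leaf 9269329) (.leaf 9179227))) (.node 1 (.leaf 19730507) (.node 1 (.leaf 9197657) (.leaf 17070169))))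
(.node 3 (.node 1 (.leaf 19214425) (.node 1 (.leaf 27873369) (.leaf 8917065))) (.node 1 (.leaf 17053771) (.node 1 (.leaf 25712707) (.leaf 17119323)))))
(.node 6 (.node 3 (.node 1 (.leaf 27553857) (.node 1 (.leaf 11096145) (.leaf 25704513))) (.node 1 (.leaf 19208275) (.node 1 (.leaf 27859019) (.leaf 27807817))))
(.node 3 (.node 1 (.leaf 11300929) (.node 1 (.leaf 8917075) (.leaf 11341897))) (.node 1 (.leaf 25448531) (.node 1 (.leaf 27801675) (.leaf 19755099))))))
(.node 12 (.node 6 (.node 3 (.node 1 (.leaf 8919113) (.node 1 (.leaf 27809875) (.leaf 17125467))) (.node 1 (.leaf 25784411) (.node 1 (.leaf 19757129) (.leaf 19230787))))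
(.node 3 (.node 1 (.leaf 25704539) (.node 1 (.leaf 27537497) (.leaf 19142731))) (.node 1 (.leaf 25516123) (.node 1 (.leaf 17068099) (.leaf 17659979)))))
(.node 6 (.node 3 (.node 1 (.leaf 11302993) (.node 1 (.leaf 17109081) (.leaf 27545667))) (.node 1 (.leaf 19232851) (.node 1 (.leaf 19689563) (.leaf 27613273))))
(.node 3 (.node 1 (.leaf 25522257) (.node 1 (.leaf 11294793) (.leaf 25499731))) (.node 1 (.leaf 27547737) (.node 1 (.leaf 19216465) (.leaf 11302987)))))))
(.node 24 (.node 12 (.node 6 (.node 3 (.node 1 (.leaf 19150915) (.node 1 (.leaf 17059915) (.leaf 17633361))) (.node 1 (.leaf 25770051) (.node 1 (.leaf 17592401) (.leaf 27807819))))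
(.node 3 (.node 1 (.leaf 27859027) (.node 1 (.leaf 11343947) (.leaf 17117257))) (.node 1 (.leaf 17578067) (.node 1 (.leaf 19732571) (.leaf 19755097)))))
(.node 6 (.node 3 (.node 1 (.leaf 11022403) (.node 1 (.leaf 19664969) (.leaf 11030593))) (.node 1 (.leaf 17133657) (.node 1 (.leaf 25768025) (.leaf 9195601))))
(.node 3 (.node 1 (.leaf 17068105) (.node 1 (.leaf 27594841) (.leaf 19140673))) (.node 1 (.leaf 19746889) (.node 1 (.leaf 27875411) (.leaf 19673163))))))
(.node 12 (.node 6 (.node 3 (.node 1 (.leaf 25704537) (.node 1 (.leaf 25784387) (.leaf 9252947))) (.node 1 (.leaf 17125459) (.node 1 (.leaf 27539531) (.leaf 8984657))))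
(.node 3 (.node 1 (.leaf 17643611) (.node 1 (.leaf 19681361) (.leaf 19206233))) (.node 1 (.leaf 27611209) (.node 1 (.leaf 11104321) (.leaf 9179219)))))
(.node 6 (.node 3 (.node 1 (.leaf 11014217) (.node 1 (.leaf 25710675) (.leaf 27605067))) (.node 1 (.leaf 11276363) (.node 1 (.leaf 25434201) (.leaf 8919129))))
(.node 3 (.node 1 (.leaf 11360323) (.node 1 (.leaf 17051715) (.leaf 19738705))) (.node 1 (.leaf 17659977) (.node 1 (.leaf 17068115) (.leaf 9252955)))))))))
(.node 96 (.node 48 (.node 24 (.node 12 (.node 6 (.node 3 (.node 1 (.leaf 19222611) (.node 1 (.leaf 25694275) (.leaf 25456731))) (.node 1 (.leaf 9261145) (.node 1 (.leaf 25712705) (.leaf 9205841))))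
(.node 3 (.node 1 (.leaf 17059907) (.node 1 (.leaf 11032651) (.leaf 19691587))) (.node 1 (.leaf 11352129) (.node 1 (.leaf 8990801) (.leaf 27867225)))))
(.node 6 (.node 3 (.node 1 (.leaf 27539539) (.node 1 (.leaf 11087939) (.leaf 19232857))) (.node 1 (.leaf 9254979) (.node 1 (.leaf 17586241) (.leaf 19740745))))
(.node 3 (.node 1 (.leaf 17657937) (.node 1 (.leaf 25505865) (.leaf 25786443))) (.node 1 (.leaf 8941643) (.node 1 (.leaf 11087955) (.leaf 19746891))))))
(.node 12 (.node 6 (.node 3 (.node 1 (.leaf 25770075) (.node 1 (.leaf 11343945) (.leaf 25694297))) (.node 1 (.leaf 17635411) (.node 1 (.leaf 19689561) (.leaf 19232835))))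
(.node 3 (.node 1 (.leaf 9252945) (.node 1 (.leaf 19140683) (.leaf 27791427))) (.node 1 (.leaf 19746897) (.node 1 (.leaf 9001025) (.leaf 17109083)))))
(.node 6 (.node 3 (.node 1 (.leaf 27613275) (.node 1 (.leaf 11014235) (.leaf 25784409))) (.node 1 (.leaf 19150913) (.node 1 (.leaf 8998977) (.leaf 27856969))))
(.node 3 (.node 1 (.leaf 17068107) (.node 1 (.leaf 19667035) (.leaf 17127507))) (.node 1 (.leaf 17569883) (.node 1 (.leaf 11106371) (.leaf 25456707)))))))
(.node 24 (.node 12 (.node 6 (.node 3 (.node 1 (.leaf 11368523) (.node 1 (.leaf 27799625) (.leaf 25505881))) (.node 1 (.leaf 8999001) (.node 1 (.leaf 11286595) (.leaf 17111107))))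
(.node 3 (.node 1 (.leaf 9179201) (.node 1 (.leaf 17043537) (.leaf 11104331))) (.node 1 (.leaf 25786449) (.node 1 (.leaf 19148889) (.leaf 27856985)))))
(.node 6 (.node 3 (.node 1 (.leaf 11341913) (.node 1 (.leaf 27791435) (.leaf 25696347))) (.node 1 (.leaf 17651777) (.node 1 (.leaf 19157065) (.leaf 27867219))))
(.node 3 (.node 1 (.leaf 11360331) (.node 1 (.leaf 9246793) (.leaf 17111105))) (.node 1 (.leaf 19230793) (.node 1 (.leaf 9269323) (.leaf 11079771))))))
(.node 12 (.node 6 (.node 3 (.node 1 (.leaf 9179203) (.node 1 (.leaf 27873347) (.leaf 11300955))) (.node 1 (.leaf 19148891) (.node 1 (.leaf 17061969) (.leaf 25768011))))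
(.node 3 (.node 1 (.leaf 27809859) (.node 1 (.leaf 17109073) (.leaf 25702489))) (.node 1 (.leaf 17659971) (.node 1 (.leaf 8984667) (.leaf 19757145)))))
(.node 6 (.node 3 (.node 1 (.leaf 8925249) (.node 1 (.leaf 17584209) (.leaf 17657945))) (.node 1 (.leaf 17070147) (.node 1 (.leaf 11284561) (.leaf 27859025))))
(.node 3 (.node 1 (.leaf 17109067) (.node 1 (.leaf 25759811) (.leaf 27818059))) (.node 1 (.leaf 8941649) (.node 1 (.leaf 9205827) (.leaf 11016273))))))))
(.node 48 (.node 24 (.node 12 (.node 6 (.node 3 (.node 1 (.leaf 9246795) (.node 1 (.leaf 25694281) (.leaf 11030611))) (.node 1 (.leaf 11106395) (.node 1 (.leaf 11294811) (.leaf 25499713))))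
(.node 3 (.node 1 (.leaf 25710681) (.node 1 (.leaf 9203801) (.leaf 19150929))) (.node 1 (.leaf 27809865) (.node 1 (.leaf 19738713) (.leaf 25770049)))))
(.node 6 (.node 3 (.node 1 (.leaf 11087945) (.node 1 (.leaf 11366481) (.leaf 25458777))) (.node 1 (.leaf 17127489) (.node 1 (.leaf 17569865) (.leaf 11343955))))
(.node 3 (.node 1 (.leaf 9001035) (.node 1 (.leaf 11300953) (.leaf 17059923))) (.node 1 (.leaf 19681347) (.node 1 (.leaf 25718867) (.leaf 25450577))))))
(.node 12 (.node 6 (.node 3 (.node 1 (.leaf 8943689) (.node 1 (.leaf 25505867) (.leaf 11286609))) (.node 1 (.leaf 9244737) (.node 1 (.leaf 19746907) (.leaf 8935491))))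
(.node 3 (.node 1 (.leaf 17594451) (.node 1 (.leaf 17125451) (.leaf 17567825))) (.node 1 (.leaf 25516121) (.node 1 (.leaf 19689547) (.leaf 8935489)))))
(.node 6 (.node 3 (.node 1 (.leaf 8992841) (.node 1 (.leaf 17119305) (.leaf 27553881))) (.node 1 (.leaf 9007179) (.node 1 (.leaf 17641539) (.leaf 27791449))))
(.node 3 (.node 1 (.leaf 11358299) (.node 1 (.leaf 17592403) (.leaf 17053785))) (.node 1 (.leaf 25712729) (.node 1 (.leaf 25761873) (.leaf 11098201)))))))
(.node 24 (.node 12 (.node 6 (.node 3 (.node 1 (.leaf 27545665) (.node 1 (.leaf 11038801) (.leaf 9205825))) (.node 1 (.leaf 11016275) (.node 1 (.leaf 8941633) (.leaf 11358289))))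
(.node 3 (.node 1 (.leaf 27619411) (.node 1 (.leaf 9205851) (.leaf 27801689))) (.node 1 (.leaf 27553859) (.node 1 (.leaf 11022419) (.leaf 27594843)))))
(.node 6 (.node 3 (.node 1 (.leaf 11030609) (.node 1 (.leaf 11106393) (.leaf 19738707))) (.node 1 (.leaf 25499729) (.node 1 (.leaf 8984649) (.leaf 11352147))))
(.node 3 (.node 1 (.leaf 27603017) (.node 1 (.leaf 19157075) (.leaf 27816011))) (.node 1 (.leaf 19730523) (.node 1 (.leaf 11096139) (.leaf 17059931))))))
(.node 12 (.node 6 (.node 3 (.node 1 (.leaf 17633345) (.node 1 (.leaf 11038803) (.leaf 19683401))) (.node 1 (.leaf 11278425) (.node 1 (.leaf 11366483) (.leaf 9252939))))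
(.node 3 (.node 1 (.leaf 27539537) (.node 1 (.leaf 27807835) (.leaf 8917057))) (.node 1 (.leaf 25522259) (.node 1 (.leaf 11343953) (.leaf 9001033)))))
(.node 6 (.node 3 (.node 1 (.leaf 11087961) (.node 1 (.leaf 9189441) (.leaf 8943699))) (.node 1 (.leaf 11302985) (.node 1 (.leaf 8917081) (.leaf 19208259))))
(.node 3 (.node 1 (.leaf 25434195) (.node 1 (.leaf 11360347) (.leaf 27594817))) (.node 1 (.leaf 27596875) (.node 1 (.leaf 9197649) (.leaf 9269337))))))))))
(.node 192 (.node 96 (.node 48 (.node 24 (.node 12 (.node 6 (.node 3 (.node 1 (.leaf 9246811) (.node 1 (.leaf 27555921) (.leaf 11024457))) (.node 1 (.leaf 11096129) (.node 1 (.leaf 25759817) (.leaf 11022425))))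
(.node 3 (.node 1 (.leaf 17043545) (.node 1 (.leaf 9195593) (.leaf 19681369))) (.node 1 (.leaf 19206211) (.node 1 (.leaf 17127499) (.leaf 25702481)))))
(.node 6 (.node 3 (.node 1 (.leaf 25718849) (.node 1 (.leaf 19148881) (.leaf 17070171))) (.node 1 (.leaf 27613251) (.node 1 (.leaf 11106387) (.leaf 17576001))))
(.node 3 (.node 1 (.leaf 25448529) (.node 1 (.leaf 27537499) (.leaf 9254977))) (.node 1 (.leaf 19740747) (.node 1 (.leaf 17584201) (.leaf 19738689))))))
(.node 12 (.node 6 (.node 3 (.node 1 (.leaf 19150921) (.node 1 (.leaf 27865155) (.leaf 25720907))) (.node 1 (.leaf 11286593) (.node 1 (.leaf 25786451) (.leaf 11341915))))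
(.node 3 (.node 1 (.leaf 27867217) (.node 1 (.leaf 11360329) (.leaf 19230795))) (.node 1 (.leaf 27873345) (.node 1 (.leaf 17061971) (.leaf 27809857)))))
(.node 6 (.node 3 (.node 1 (.leaf 19689553) (.node 1 (.leaf 17633371) (.leaf 17059905))) (.node 1 (.leaf 11024451) (.node 1 (.leaf 25759825) (.leaf 8919123))))
(.node 3 (.node 1 (.leaf 17569867) (.node 1 (.leaf 27809883) (.leaf 27537481))) (.node 1 (.leaf 9254995) (.node 1 (.leaf 27621457) (.leaf 25450587)))))))
(.node 24 (.node 12 (.node 6 (.node 3 (.node 1 (.leaf 9252953) (.node 1 (.leaf 27619401) (.leaf 11087937))) (.node 1 (.leaf 9205843) (.node 1 (.leaf 19232859) (.leaf 17592409))))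
(.node 3 (.node 1 (.leaf 11278409) (.node 1 (.leaf 17043531) (.leaf 27883595))) (.node 1 (.leaf 25522243) (.node 1 (.leaf 27865161) (.leaf 11358273)))))
(.node 6 (.node 3 (.node 1 (.leaf 19748945) (.node 1 (.leaf 17633353) (.leaf 9254987))) (.node 1 (.leaf 17127491) (.node 1 (.leaf 19142723) (.leaf 27793491))))
(.node 3 (.node 1 (.leaf 19748939) (.node 1 (.leaf 19165249) (.leaf 25497683))) (.node 1 (.leaf 19140697) (.node 1 (.leaf 9203777) (.leaf 17051729))))))
(.node 12 (.node 6 (.node 3 (.node 1 (.leaf 9261147) (.node 1 (.leaf 19230803) (.leaf 11016267))) (.node 1 (.leaf 25434177) (.node 1 (.leaf 11038795) (.leaf 11276377))))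
(.node 3 (.node 1 (.leaf 11368531) (.node 1 (.leaf 17070153) (.leaf 27596889))) (.node 1 (.leaf 19142721) (.node 1 (.leaf 17127515) (.leaf 27611227)))))
(.node 6 (.node 3 (.node 1 (.leaf 25524307) (.node 1 (.leaf 25497681) (.leaf 19691609))) (.node 1 (.leaf 27555907) (.node 1 (.leaf 9195587) (.leaf 11360337))))
(.node 3 (.node 1 (.leaf 8990793) (.node 1 (.leaf 17111131) (.leaf 27547713))) (.node 1 (.leaf 19230801) (.node 1 (.leaf 17051721) (.leaf 25710657))))))))
(.node 48 (.node 24 (.node 12 (.node 6 (.node 3 (.node 1 (.leaf 9203785) (.node 1 (.leaf 27539547) (.leaf 9252929))) (.node 1 (.leaf 19208283) (.node 1 (.leaf 19746881) (.leaf 11343963))))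
(.node 3 (.node 1 (.leaf 25514073) (.node 1 (.leaf 25434179) (.leaf 11098187))) (.node 1 (.leaf 25702475) (.node 1 (.leaf 19206217) (.leaf 25712721)))))
(.node 6 (.node 3 (.node 1 (.leaf 25516097) (.node 1 (.leaf 25432155) (.leaf 8917083))) (.node 1 (.leaf 17053761) (.node 1 (.leaf 17657931) (.leaf 25786457))))
(.node 3 (.node 1 (.leaf 9263195) (.node 1 (.leaf 9187393) (.leaf 9009227))) (.node 1 (.leaf 19683393) (.node 1 (.leaf 11276379) (.leaf 17567835))))))
(.node 12 (.node 6 (.node 3 (.node 1 (.leaf 17125441) (.node 1 (.leaf 9205833) (.leaf 11098195))) (.node 1 (.leaf 25761883) (.node 1 (.leaf 19167299) (.leaf 17567811))))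
(.node 3 (.node 1 (.leaf 27807825) (.node 1 (.leaf 9189465) (.leaf 17641555))) (.node 1 (.leaf 17053787) (.node 1 (.leaf 17125457) (.leaf 25784393)))))
(.node 6 (.node 3 (.node 1 (.leaf 19159105) (.node 1 (.leaf 25442379) (.leaf 17135707))) (.node 1 (.leaf 17649731) (.node 1 (.leaf 27793481) (.leaf 11278401))))
(.node 3 (.node 1 (.leaf 11366473) (.node 1 (.leaf 17068097) (.leaf 19140681))) (.node 1 (.leaf 9187403) (.node 1 (.leaf 19232849) (.leaf 25434185)))))))
(.node 24 (.node 12 (.node 6 (.node 3 (.node 1 (.leaf 27605081) (.node 1 (.leaf 25432147) (.leaf 17127513))) (.node 1 (.leaf 9187409) (.node 1 (.leaf 17059913) (.leaf 19148865))))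
(.node 3 (.node 1 (.leaf 19681355) (.node 1 (.leaf 25720921) (.leaf 19224641))) (.node 1 (.leaf 19667017) (.node 1 (.leaf 17643587) (.leaf 19208273)))))
(.node 6 (.node 3 (.node 1 (.leaf 27859017) (.node 1 (.leaf 19140675) (.leaf 25514065))) (.node 1 (.leaf 17070155) (.node 1 (.leaf 27619393) (.leaf 25786435))))
(.node 3 (.node 1 (.leaf 17569873) (.node 1 (.leaf 27539529) (.leaf 25505875))) (.node 1 (.leaf 9203793) (.node 1 (.leaf 27621465) (.leaf 8943691))))))
(.node 12 (.node 6 (.node 3 (.node 1 (.leaf 27531329) (.node 1 (.leaf 25448521) (.leaf 19159123))) (.node 1 (.leaf 27596891) (.node 1 (.leaf 11341889) (.leaf 19206225))))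
(.node 3 (.node 1 (.leaf 17061979) (.node 1 (.leaf 17635393) (.leaf 11040851))) (.node 1 (.leaf 19675211) (.node 1 (.leaf 27856977) (.leaf 19681353)))))
(.node 6 (.node 3 (.node 1 (.leaf 19740761) (.node 1 (.leaf 25768001) (.leaf 11032657))) (.node 1 (.leaf 19691593) (.node 1 (.leaf 17643585) (.leaf 25514075))))
(.node 3 (.node 1 (.leaf 17586259) (.node 1 (.leaf 8982617) (.leaf 17633363))) (.node 1 (.leaf 25456715) (.node 1 (.leaf 27537475) (.leaf 19142737)))))))))
(.node 96 (.node 48 (.node 24 (.node 12 (.node 6 (.node 3 (.node 1 (.leaf 19748953) (.node 1 (.leaf 8933441) (.leaf 17569875))) (.node 1 (.leaf 17657921) (.node 1 (.leaf 9255003) (.leaf 17567819))))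
(.node 3 (.node 1 (.leaf 27529299) (.node 1 (.leaf 11366467) (.leaf 25507907))) (.node 1 (.leaf 9001043) (.node 1 (.leaf 11284555) (.leaf 17053779)))))
(.node 6 (.node 3 (.node 1 (.leaf 9189459) (.node 1 (.leaf 25432129) (.leaf 11368529))) (.node 1 (.leaf 19216457) (.node 1 (.leaf 27611225) (.leaf 17111129))))
(.node 3 (.node 1 (.leaf 27816019) (.node 1 (.leaf 8941659) (.leaf 27818049))) (.node 1 (.leaf 9244763) (.node 1 (.leaf 19142745) (.leaf 27621459))))))
(.node 12 (.node 6 (.node 3 (.node 1 (.leaf 27875419) (.node 1 (.leaf 11016281) (.leaf 17659987))) (.node 1 (.leaf 17584195) (.node 1 (.leaf 11090001) (.leaf 8941641))))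
(.node 3 (.node 1 (.leaf 27873353) (.node 1 (.leaf 17061963) (.leaf 9261139))) (.node 1 (.leaf 11089995) (.node 1 (.leaf 17576019) (.leaf 11087953)))))
(.node 6 (.node 3 (.node 1 (.leaf 25770073) (.node 1 (.leaf 27873363) (.leaf 9263171))) (.node 1 (.leaf 25505873) (.node 1 (.leaf 27531331) (.leaf 25507915))))
(.node 3 (.node 1 (.leaf 9263193) (.node 1 (.leaf 17135705) (.leaf 25456713))) (.node 1 (.leaf 25784385) (.node 1 (.leaf 19664971) (.leaf 25712731)))))))
(.node 24 (.node 12 (.node 6 (.node 3 (.node 1 (.leaf 11284571) (.node 1 (.leaf 8925251) (.leaf 9261129))) (.node 1 (.leaf 17133633) (.node 1 (.leaf 25770057) (.leaf 27875409))))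
(.node 3 (.node 1 (.leaf 19673161) (.node 1 (.leaf 17578065) (.leaf 11081817))) (.node 1 (.leaf 19732569) (.node 1 (.leaf 27818057) (.leaf 25761857)))))
(.node 6 (.node 3 (.node 1 (.leaf 11358291) (.node 1 (.leaf 8992843) (.leaf 11284569))) (.node 1 (.leaf 9007177) (.node 1 (.leaf 9189443) (.leaf 9261131))))
(.node 3 (.node 1 (.leaf 27859035) (.node 1 (.leaf 11286611) (.leaf 17567827))) (.node 1 (.leaf 11104347) (.node 1 (.leaf 19738715) (.leaf 27537483))))))
(.node 12 (.node 6 (.node 3 (.node 1 (.leaf 17641537) (.node 1 (.leaf 11104345) (.leaf 11014227))) (.node 1 (.leaf 25784403) (.node 1 (.leaf 9203787) (.leaf 19740763))))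
(.node 3 (.node 1 (.leaf 19230785) (.node 1 (.leaf 27816027) (.leaf 8943681))) (.node 1 (.leaf 8998987) (.node 1 (.leaf 8982601) (.leaf 25448537)))))
(.node 6 (.node 3 (.node 1 (.leaf 17109065) (.node 1 (.leaf 17584211) (.leaf 19683403))) (.node 1 (.leaf 8998985) (.node 1 (.leaf 17635395) (.leaf 25516099))))
(.node 3 (.node 1 (.leaf 25768017) (.node 1 (.leaf 11090009) (.leaf 11341905))) (.node 1 (.leaf 27619395) (.node 1 (.leaf 25456721) (.leaf 11360345))))))))
(.node 48 (.node 24 (.node 12 (.node 6 (.node 3 (.node 1 (.leaf 8982603) (.node 1 (.leaf 17633347) (.leaf 19140689))) (.node 1 (.leaf 25514057) (.node 1 (.leaf 11024467) (.leaf 9197635))))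
(.node 3 (.node 1 (.leaf 27547715) (.node 1 (.leaf 27555905) (.leaf 11024465))) (.node 1 (.leaf 11096155) (.node 1 (.leaf 27875393) (.leaf 19232833)))))
(.node 6 (.node 3 (.node 1 (.leaf 17111113) (.node 1 (.leaf 25710667) (.leaf 8919105))) (.node 1 (.leaf 19157059) (.node 1 (.leaf 8943683) (.leaf 27605083))))
(.node 3 (.node 1 (.leaf 19214417) (.node 1 (.leaf 8998993) (.leaf 25448523))) (.node 1 (.leaf 19689545) (.node 1 (.leaf 25524305) (.leaf 8919107))))))
(.node 12 (.node 6 (.node 3 (.node 1 (.leaf 25702473) (.node 1 (.leaf 9254985) (.leaf 27856963))) (.node 1 (.leaf 11090011) (.node 1 (.leaf 11303001) (.leaf 9205849))))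
(.node 3 (.node 1 (.leaf 9187411) (.node 1 (.leaf 19214403) (.leaf 11278411))) (.node 1 (.leaf 11358275) (.node 1 (.leaf 11276371) (.leaf 27807827)))))
(.node 6 (.node 3 (.node 1 (.leaf 11368537) (.node 1 (.leaf 25761859) (.leaf 19748931))) (.node 1 (.leaf 25704521) (.node 1 (.leaf 17635403) (.leaf 11341891))))
(.node 3 (.node 1 (.leaf 25440329) (.node 1 (.leaf 25759833) (.leaf 11089987))) (.node 1 (.leaf 11278427) (.node 1 (.leaf 27539521) (.leaf 25450569)))))))
(.node 24 (.node 12 (.node 6 (.node 3 (.node 1 (.leaf 8941635) (.node 1 (.leaf 17053769) (.leaf 27619417))) (.node 1 (.leaf 11300937) (.node 1 (.leaf 9252937) (.leaf 25458763))))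
(.node 3 (.node 1 (.leaf 17125465) (.node 1 (.leaf 27539523) (.leaf 25516113))) (.node 1 (.leaf 27529283) (.node 1 (.leaf 25450571) (.leaf 27603035)))))
(.node 6 (.node 3 (.node 1 (.leaf 11098203) (.node 1 (.leaf 25507921) (.leaf 27619419))) (.node 1 (.leaf 25432139) (.node 1 (.leaf 27621443) (.leaf 19740753))))
(.node 3 (.node 1 (.leaf 25702465) (.node 1 (.leaf 8917059) (.leaf 11022417))) (.node 1 (.leaf 17051723) (.node 1 (.leaf 19206227) (.leaf 19148867))))))
(.node 12 (.node 6 (.node 3 (.node 1 (.leaf 27621467) (.node 1 (.leaf 25514067) (.leaf 17051737))) (.node 1 (.leaf 25516115) (.node 1 (.leaf 27537473) (.leaf 25458761))))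
(.node 3 (.node 1 (.leaf 17068123) (.node 1 (.leaf 17659969) (.leaf 19746905))) (.node 1 (.leaf 8984651) (.node 1 (.leaf 27529281) (.leaf 25507923)))))
(.node 6 (.node 3 (.node 1 (.leaf 11343937) (.node 1 (.leaf 17061961) (.leaf 17657923))) (.node 1 (.leaf 17586257) (.node 1 (.leaf 11014225) (.leaf 19748955))))
(.node 3 (.node 1 (.leaf 19691595) (.node 1 (.leaf 11096153) (.leaf 11087963))) (.node 1 (.leaf 27603033) (.node 1 (.leaf 25434187) (.leaf 25432137))))))))))))

/-- An automorphism. -/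
def twoFwd3 : Tab ℕ :=
(.node 768 (.node 384 (.node 192 (.node 96 (.node 48 (.node 24 (.node 12 (.node 6 (.node 3 (.node 1 (.leaf 17043521) (.node 1 (.leaf 11366475) (.leaf 19214403))) (.node 1 (.leaf 25442369) (.node 1 (.leaf 25768019) (.leaf 9261131))))
(.node 3 (.node 1 (.leaf 11106379) (.node 1 (.leaf 9181257) (.leaf 17045569))) (.node 1 (.leaf 27596867) (.node 1 (.leaf 17633355) (.leaf 25497667)))))
(.node 6 (.node 3 (.node 1 (.leaf 17045571) (.node 1 (.leaf 25696339) (.leaf 17635419))) (.node 1 (.leaf 27875411) (.node 1 (.leaf 11368523) (.leaf 9001035))))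
(.node 3 (.node 1 (.leaf 25442387) (.node 1 (.leaf 8935499) (.leaf 27818065))) (.node 1 (.leaf 11286601) (.node 1 (.leaf 8925257) (.leaf 19216451))))))
(.node 12 (.node 6 (.node 3 (.node 1 (.leaf 25440321) (.node 1 (.leaf 19691593) (.leaf 27539521))) (.node 1 (.leaf 11104339) (.node 1 (.leaf 19738699) (.leaf 25770059))))
(.node 3 (.node 1 (.leaf 17592393) (.node 1 (.leaf 17119299) (.leaf 11368521))) (.node 1 (.leaf 19216449) (.node 1 (.leaf 25440323) (.leaf 17135683)))))
(.node 6 (.node 3 (.node 1 (.leaf 25770067) (.node 1 (.leaf 17576027) (.leaf 11106393))) (.node 1 (.leaf 19740761) (.node 1 (.leaf 19157059) (.leaf 27816019))))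
(.node 3 (.node 1 (.leaf 19746907) (.node 1 (.leaf 9263179) (.leaf 11104331))) (.node 1 (.leaf 27545683) (.node 1 (.leaf 11038795) (.leaf 17633347)))))))
(.node 24 (.node 12 (.node 6 (.node 3 (.node 1 (.leaf 25497683) (.node 1 (.leaf 17043547) (.leaf 27611219))) (.node 1 (.leaf 9195595) (.node 1 (.leaf 27875409) (.leaf 19689561))))
(.node 3 (.node 1 (.leaf 25694289) (.node 1 (.leaf 9179209) (.leaf 11014217))) (.node 1 (.leaf 27596881) (.node 1 (.leaf 11081801) (.leaf 27594819)))))
(.node 6 (.node 3 (.node 1 (.leaf 17635403) (.node 1 (.leaf 25499715) (.leaf 8927313))) (.node 1 (.leaf 17586249) (.node 1 (.leaf 27816009) (.leaf 19730507))))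
(.node 3 (.node 1 (.leaf 19140673) (.node 1 (.leaf 8933459) (.leaf 11368539))) (.node 1 (.leaf 8984659) (.node 1 (.leaf 27859019) (.leaf 17043539))))))
(.node 12 (.node 6 (.node 3 (.node 1 (.leaf 25694283) (.node 1 (.leaf 11022417) (.leaf 19681353))) (.node 1 (.leaf 25720905) (.node 1 (.leaf 11276361) (.leaf 25770065))))
(.node 3 (.node 1 (.leaf 9263177) (.node 1 (.leaf 11104329) (.leaf 9179211))) (.node 1 (.leaf 17043523) (.node 1 (.leaf 27594817) (.leaf 17635401)))))
(.node 6 (.node 3 (.node 1 (.leaf 25499713) (.node 1 (.leaf 19159105) (.leaf 25522243))) (.node 1 (.leaf 25694291) (.node 1 (.leaf 17633371) (.leaf 11016281))))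
(.node 3 (.node 1 (.leaf 19667033) (.node 1 (.leaf 25442395) (.leaf 8935515))) (.node 1 (.leaf 11366481) (.node 1 (.leaf 8982619) (.leaf 27856977))))))))
(.node 48 (.node 24 (.node 12 (.node 6 (.node 3 (.node 1 (.leaf 17135681) (.node 1 (.leaf 27547715) (.leaf 27873363))) (.node 1 (.leaf 19691611) (.node 1 (.leaf 9001049) (.leaf 17659993))))
(.node 3 (.node 1 (.leaf 8998987) (.node 1 (.leaf 25440339) (.leaf 8933451))) (.node 1 (.leaf 19748931) (.node 1 (.leaf 27621459) (.leaf 19159131)))))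
(.node 6 (.node 3 (.node 1 (.leaf 25505875) (.node 1 (.leaf 11302987) (.leaf 19738689))) (.node 1 (.leaf 25770051) (.node 1 (.leaf 17592387) (.leaf 17119323))))
(.node 3 (.node 1 (.leaf 11366489) (.node 1 (.leaf 19214425) (.leaf 19683395))) (.node 1 (.leaf 27555923) (.node 1 (.leaf 19224667) (.leaf 27809875))))))
(.node 12 (.node 6 (.node 3 (.node 1 (.leaf 19157057) (.node 1 (.leaf 27816017) (.leaf 19746905))) (.node 1 (.leaf 8925275) (.node 1 (.leaf 17584219) (.leaf 17133633))))
(.node 3 (.node 1 (.leaf 25768017) (.node 1 (.leaf 17578073) (.leaf 11284553))) (.node 1 (.leaf 8927305) (.node 1 (.leaf 25522257) (.leaf 8990793)))))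
(.node 6 (.node 3 (.node 1 (.leaf 19691585) (.node 1 (.leaf 27539537) (.leaf 25458769))) (.node 1 (.leaf 11350089) (.node 1 (.leaf 19689545) (.leaf 27537473))))
(.node 3 (.node 1 (.leaf 11106387) (.node 1 (.leaf 19740747) (.leaf 25768011))) (.node 1 (.leaf 17594441) (.node 1 (.leaf 17117251) (.leaf 11079761)))))))
(.node 24 (.node 12 (.node 6 (.node 3 (.node 1 (.leaf 9179225) (.node 1 (.leaf 11030609) (.leaf 25710665))) (.node 1 (.leaf 19214417) (.node 1 (.leaf 27873353) (.leaf 9007187))))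
(.node 3 (.node 1 (.leaf 17641547) (.node 1 (.leaf 27867211) (.leaf 9269323))) (.node 1 (.leaf 27613251) (.node 1 (.leaf 9197659) (.leaf 25770073)))))
(.node 6 (.node 3 (.node 1 (.leaf 9263193) (.node 1 (.leaf 27555907) (.leaf 11024467))) (.node 1 (.leaf 9252955) (.node 1 (.leaf 19167315) (.leaf 27801675))))
(.node 3 (.node 1 (.leaf 11366467) (.node 1 (.leaf 19214419) (.leaf 17133651))) (.node 1 (.leaf 17578059) (.node 1 (.leaf 8984657) (.leaf 11278425))))))
(.node 12 (.node 6 (.node 3 (.node 1 (.leaf 8935505) (.node 1 (.leaf 27809865) (.leaf 17119313))) (.node 1 (.leaf 25778249) (.node 1 (.leaf 25718865) (.leaf 9187401))))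
(.node 3 (.node 1 (.leaf 11024457) (.node 1 (.leaf 17633369) (.leaf 27873361))) (.node 1 (.leaf 11366473) (.node 1 (.leaf 8998985) (.leaf 25440337)))))
(.node 6 (.node 3 (.node 1 (.leaf 8933449) (.node 1 (.leaf 11284555) (.leaf 8927307))) (.node 1 (.leaf 19214401) (.node 1 (.leaf 25442371) (.leaf 19689547))))
(.node 3 (.node 1 (.leaf 27537475) (.node 1 (.leaf 11106385) (.leaf 19740745))) (.node 1 (.leaf 25768009) (.node 1 (.leaf 17594443) (.leaf 17117249)))))))))
(.node 96 (.node 48 (.node 24 (.node 12 (.node 6 (.node 3 (.node 1 (.leaf 17133635) (.node 1 (.leaf 27545665) (.leaf 17576009))) (.node 1 (.leaf 25448513) (.node 1 (.leaf 17578075) (.leaf 11104345))))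
(.node 3 (.node 1 (.leaf 19738713) (.node 1 (.leaf 25524315) (.leaf 8992859))) (.node 1 (.leaf 11284561) (.node 1 (.leaf 8943707) (.leaf 27799633)))))
(.node 6 (.node 3 (.node 1 (.leaf 25497689) (.node 1 (.leaf 27611225) (.leaf 9195603))) (.node 1 (.leaf 25768001) (.node 1 (.leaf 9261137) (.leaf 27553881))))
(.node 3 (.node 1 (.leaf 11022425) (.node 1 (.leaf 9254995) (.leaf 19165249))) (.node 1 (.leaf 11286603) (.node 1 (.leaf 19159107) (.leaf 25522241))))))
(.node 12 (.node 6 (.node 3 (.node 1 (.leaf 19746889) (.node 1 (.leaf 27619393) (.leaf 27818067))) (.node 1 (.leaf 19748955) (.node 1 (.leaf 8927321) (.leaf 17586265))))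
(.node 3 (.node 1 (.leaf 27545691) (.node 1 (.leaf 11038811) (.leaf 11090011))) (.node 1 (.leaf 25784401) (.node 1 (.leaf 27547731) (.leaf 11040843)))))
(.node 6 (.node 3 (.node 1 (.leaf 17635395) (.node 1 (.leaf 25499731) (.leaf 17045595))) (.node 1 (.leaf 27613267) (.node 1 (.leaf 9197643) (.leaf 17657921))))
(.node 3 (.node 1 (.leaf 27873347) (.node 1 (.leaf 19675203) (.leaf 19230811))) (.node 1 (.leaf 9261145) (.node 1 (.leaf 17133657) (.leaf 17569859)))))))
(.node 24 (.node 12 (.node 6 (.node 3 (.node 1 (.leaf 25434195) (.node 1 (.leaf 17111131) (.leaf 25704531))) (.node 1 (.leaf 8984651) (.node 1 (.leaf 27859009) (.leaf 17043529))))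
(.node 3 (.node 1 (.leaf 25694273) (.node 1 (.leaf 11022409) (.leaf 19681345))) (.node 1 (.leaf 25720899) (.node 1 (.leaf 11276377) (.leaf 19140697)))))
(.node 6 (.node 3 (.node 1 (.leaf 25768027) (.node 1 (.leaf 9261147) (.leaf 9181275))) (.node 1 (.leaf 17592385) (.node 1 (.leaf 27807811) (.leaf 19740739))))
(.node 3 (.node 1 (.leaf 19165275) (.node 1 (.leaf 9195609) (.leaf 17068121))) (.node 1 (.leaf 19222595) (.node 1 (.leaf 27881555) (.leaf 19681371))))))
(.node 12 (.node 6 (.node 3 (.node 1 (.leaf 27547713) (.node 1 (.leaf 19691609) (.leaf 9001051))) (.node 1 (.leaf 17659995) (.node 1 (.leaf 27596889) (.leaf 11081817))))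
(.node 3 (.node 1 (.leaf 9181267) (.node 1 (.leaf 11032665) (.leaf 25712723))) (.node 1 (.leaf 25524289) (.node 1 (.leaf 25696337) (.leaf 17635417)))))
(.node 6 (.node 3 (.node 1 (.leaf 11014235) (.node 1 (.leaf 19664987) (.leaf 11016265))) (.node 1 (.leaf 27594833) (.node 1 (.leaf 11079753) (.leaf 17576001))))
(.node 3 (.node 1 (.leaf 25448529) (.node 1 (.leaf 17135705) (.leaf 27531345))) (.node 1 (.leaf 9246793) (.node 1 (.leaf 17586243) (.leaf 27816001))))))))
(.node 48 (.node 24 (.node 12 (.node 6 (.node 3 (.node 1 (.leaf 19730497) (.node 1 (.leaf 17643585) (.leaf 25516113))) (.node 1 (.leaf 25761873) (.node 1 (.leaf 8925265) (.leaf 17584201))))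
(.node 3 (.node 1 (.leaf 27818057) (.node 1 (.leaf 19732555) (.leaf 19142721))) (.node 1 (.leaf 8935507) (.node 1 (.leaf 11366491) (.leaf 8982611)))))
(.node 6 (.node 3 (.node 1 (.leaf 27856971) (.node 1 (.leaf 17045587) (.leaf 25696331))) (.node 1 (.leaf 11024465) (.node 1 (.leaf 19683401) (.leaf 25718857))))
(.node 3 (.node 1 (.leaf 11278409) (.node 1 (.leaf 25456705) (.leaf 11352153))) (.node 1 (.leaf 27816027) (.node 1 (.leaf 11284571) (.leaf 25516097))))))
(.node 12 (.node 6 (.node 3 (.node 1 (.leaf 9009233) (.node 1 (.leaf 11294809) (.leaf 17127505))) (.node 1 (.leaf 25786441) (.node 1 (.leaf 9181249) (.leaf 17045585))))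
(.node 3 (.node 1 (.leaf 19159121) (.node 1 (.leaf 19748937) (.leaf 11030611))) (.node 1 (.leaf 9271387) (.node 1 (.leaf 11081811) (.leaf 25761867)))))
(.node 6 (.node 3 (.node 1 (.leaf 19140691) (.node 1 (.leaf 27791435) (.leaf 27865171))) (.node 1 (.leaf 11358283) (.node 1 (.leaf 9009227) (.leaf 27553857))))
(.node 3 (.node 1 (.leaf 27807833) (.node 1 (.leaf 11300953) (.leaf 25694299))) (.node 1 (.leaf 17633361) (.node 1 (.leaf 27873371) (.leaf 8998993)))))))
(.node 24 (.node 12 (.node 6 (.node 3 (.node 1 (.leaf 27613249) (.node 1 (.leaf 19165251) (.leaf 11276379))) (.node 1 (.leaf 27859033) (.node 1 (.leaf 11343961) (.leaf 9254979))))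
(.node 3 (.node 1 (.leaf 17127507) (.node 1 (.leaf 27553883) (.leaf 19206227))) (.node 1 (.leaf 19664971) (.node 1 (.leaf 9261121) (.leaf 11106371)))))
(.node 6 (.node 3 (.node 1 (.leaf 9181251) (.node 1 (.leaf 27596891) (.leaf 11284547))) (.node 1 (.leaf 19157075) (.node 1 (.leaf 11014227) (.leaf 27555905))))
(.node 3 (.node 1 (.leaf 9252953) (.node 1 (.leaf 25720923) (.leaf 9189467))) (.node 1 (.leaf 27611201) (.node 1 (.leaf 11104337) (.leaf 19222609))))))
(.node 12 (.node 6 (.node 3 (.node 1 (.leaf 27881545) (.node 1 (.leaf 11276353) (.leaf 19140689))) (.node 1 (.leaf 17059921) (.node 1 (.leaf 17649737) (.leaf 25776209))))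
(.node 3 (.node 1 (.leaf 17594457) (.node 1 (.leaf 27793489) (.leaf 8919113))) (.node 1 (.leaf 25497681) (.node 1 (.leaf 8982601) (.leaf 11104347)))))
(.node 6 (.node 3 (.node 1 (.leaf 19738715) (.node 1 (.leaf 19748953) (.leaf 9261129))) (.node 1 (.leaf 11106377) (.node 1 (.leaf 27547729) (.leaf 11040841))))
(.node 3 (.node 1 (.leaf 17635393) (.node 1 (.leaf 25499729) (.leaf 17045593))) (.node 1 (.leaf 27613265) (.node 1 (.leaf 9197641) (.leaf 9181259))))))))))
(.node 192 (.node 96 (.node 48 (.node 24 (.node 12 (.node 6 (.node 3 (.node 1 (.leaf 11016267) (.node 1 (.leaf 27594835) (.leaf 11079755))) (.node 1 (.leaf 27596865) (.node 1 (.leaf 17633353) (.leaf 25497665))))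
(.node 3 (.node 1 (.leaf 8925267) (.node 1 (.leaf 17584203) (.leaf 27818059))) (.node 1 (.leaf 19732553) (.node 1 (.leaf 19142723) (.leaf 8982609)))))
(.node 6 (.node 3 (.node 1 (.leaf 27856969) (.node 1 (.leaf 25696329) (.leaf 19683403))) (.node 1 (.leaf 25718859) (.node 1 (.leaf 11278411) (.leaf 25524291))))
(.node 3 (.node 1 (.leaf 19748939) (.node 1 (.leaf 27621443) (.leaf 11016273))) (.node 1 (.leaf 19667017) (.node 1 (.leaf 17651787) (.leaf 17061953))))))
(.node 12 (.node 6 (.node 3 (.node 1 (.leaf 11014233) (.node 1 (.leaf 19664985) (.leaf 25440347))) (.node 1 (.leaf 8933467) (.node 1 (.leaf 11368529) (.leaf 8984667))))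
(.node 3 (.node 1 (.leaf 27859025) (.node 1 (.leaf 25450585) (.leaf 27529305))) (.node 1 (.leaf 9244755) (.node 1 (.leaf 25696321) (.leaf 9181265)))))
(.node 6 (.node 3 (.node 1 (.leaf 27605081) (.node 1 (.leaf 11098201) (.leaf 9203795))) (.node 1 (.leaf 19208257) (.node 1 (.leaf 17592411) (.leaf 19683419))))
(.node 3 (.node 1 (.leaf 27555931) (.node 1 (.leaf 19224657) (.leaf 27809859))) (.node 1 (.leaf 11302995) (.node 1 (.leaf 17045579) (.leaf 25696323)))))))
(.node 24 (.node 12 (.node 6 (.node 3 (.node 1 (.leaf 27875393) (.node 1 (.leaf 27611227) (.leaf 19167313))) (.node 1 (.leaf 25499739) (.node 1 (.leaf 11278417) (.leaf 27856963))))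
(.node 3 (.node 1 (.leaf 11341907) (.node 1 (.leaf 9252939) (.leaf 17125443))) (.node 1 (.leaf 11014219) (.node 1 (.leaf 27545667) (.leaf 17576011)))))
(.node 6 (.node 3 (.node 1 (.leaf 25448515) (.node 1 (.leaf 9001041) (.leaf 17659977))) (.node 1 (.leaf 27875401) (.node 1 (.leaf 19673163) (.leaf 19232833))))
(.node 3 (.node 1 (.leaf 19689563) (.node 1 (.leaf 8999001) (.leaf 17657945))) (.node 1 (.leaf 27594843) (.node 1 (.leaf 11079771) (.leaf 9179217))))))
(.node 12 (.node 6 (.node 3 (.node 1 (.leaf 11030619) (.node 1 (.leaf 25710673) (.leaf 27621465))) (.node 1 (.leaf 19159123) (.node 1 (.leaf 25505881) (.leaf 25432153))))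
(.node 3 (.node 1 (.leaf 8917081) (.node 1 (.leaf 17051713) (.leaf 19746883))) (.node 1 (.leaf 27619411) (.node 1 (.leaf 19157083) (.leaf 25507923)))))
(.node 6 (.node 3 (.node 1 (.leaf 11300939) (.node 1 (.leaf 19740737) (.leaf 25768003))) (.node 1 (.leaf 17594435) (.node 1 (.leaf 17117275) (.leaf 11368537))))
(.node 3 (.node 1 (.leaf 19216473) (.node 1 (.leaf 19681347) (.leaf 27553875))) (.node 1 (.leaf 19222619) (.node 1 (.leaf 27807827) (.leaf 11087947))))))))
(.node 48 (.node 24 (.node 12 (.node 6 (.node 3 (.node 1 (.leaf 25786433) (.node 1 (.leaf 19159113) (.leaf 27818049))) (.node 1 (.leaf 8917065) (.node 1 (.leaf 17567809) (.leaf 27791427))))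
(.node 3 (.node 1 (.leaf 9187417) (.node 1 (.leaf 17059929) (.leaf 27875419))) (.node 1 (.leaf 25524305) (.node 1 (.leaf 19675201) (.leaf 25702467)))))
(.node 6 (.node 3 (.node 1 (.leaf 17659971) (.node 1 (.leaf 17051739) (.leaf 11303001))) (.node 1 (.leaf 19150937) (.node 1 (.leaf 17109059) (.leaf 25759827))))
(.node 3 (.node 1 (.leaf 17567835) (.node 1 (.leaf 11024459) (.leaf 19167307))) (.node 1 (.leaf 27801667) (.node 1 (.leaf 19214409) (.leaf 25442377))))))
(.node 12 (.node 6 (.node 3 (.node 1 (.leaf 17133643) (.node 1 (.leaf 17578049) (.leaf 8984649))) (.node 1 (.leaf 27809857) (.node 1 (.leaf 17119305) (.leaf 25778241))))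
(.node 3 (.node 1 (.leaf 25718875) (.node 1 (.leaf 9187419) (.leaf 9269339))) (.node 1 (.leaf 25696345) (.node 1 (.leaf 17635411) (.leaf 27875417)))))
(.node 6 (.node 3 (.node 1 (.leaf 9001043) (.node 1 (.leaf 27818073) (.leaf 11286617))) (.node 1 (.leaf 11022411) (.node 1 (.leaf 25720897) (.leaf 19224649))))
(.node 3 (.node 1 (.leaf 27883585) (.node 1 (.leaf 17633345) (.leaf 17125465))) (.node 1 (.leaf 27809883) (.node 1 (.leaf 11303003) (.leaf 11350107)))))))
(.node 24 (.node 12 (.node 6 (.node 3 (.node 1 (.leaf 17070145) (.node 1 (.leaf 19148867) (.leaf 19757147))) (.node 1 (.leaf 8935513) (.node 1 (.leaf 19746891) (.leaf 27619395))))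
(.node 3 (.node 1 (.leaf 8927323) (.node 1 (.leaf 17586267) (.leaf 27545689))) (.node 1 (.leaf 11038809) (.node 1 (.leaf 9261139) (.leaf 11090009)))))
(.node 6 (.node 3 (.node 1 (.leaf 25784403) (.node 1 (.leaf 27539547) (.leaf 25458779))) (.node 1 (.leaf 11350097) (.node 1 (.leaf 27818051) (.leaf 11286611))))
(.node 3 (.node 1 (.leaf 25514075) (.node 1 (.leaf 9007195) (.leaf 11292753))) (.node 1 (.leaf 25450563) (.node 1 (.leaf 17576025) (.leaf 11106395))))))
(.node 12 (.node 6 (.node 3 (.node 1 (.leaf 19740763) (.node 1 (.leaf 25522265) (.leaf 8990809))) (.node 1 (.leaf 8941657) (.node 1 (.leaf 27801683) (.leaf 8992841))))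
(.node 3 (.node 1 (.leaf 19689537) (.node 1 (.leaf 27537489) (.leaf 25456721))) (.node 1 (.leaf 11352137) (.node 1 (.leaf 19667011) (.leaf 17651777)))))
(.node 6 (.node 3 (.node 1 (.leaf 17061977) (.node 1 (.leaf 11286619) (.leaf 19757121))) (.node 1 (.leaf 27605073) (.node 1 (.leaf 19148889) (.leaf 27883601))))
(.node 3 (.node 1 (.leaf 11030601) (.node 1 (.leaf 25710659) (.leaf 19214411))) (.node 1 (.leaf 9007179) (.node 1 (.leaf 17641539) (.leaf 27867201)))))))))
(.node 96 (.node 48 (.node 24 (.node 12 (.node 6 (.node 3 (.node 1 (.leaf 19730499) (.node 1 (.leaf 25759809) (.leaf 17584193))) (.node 1 (.leaf 25704529) (.node 1 (.leaf 17641561) (.leaf 11081809))))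
(.node 3 (.node 1 (.leaf 9181273) (.node 1 (.leaf 11032657) (.leaf 25712713))) (.node 1 (.leaf 19216465) (.node 1 (.leaf 9009235) (.leaf 17643595)))))
(.node 6 (.node 3 (.node 1 (.leaf 27865163) (.node 1 (.leaf 9271371) (.leaf 27611203))) (.node 1 (.leaf 9195611) (.node 1 (.leaf 25768025) (.leaf 27553859))))
(.node 3 (.node 1 (.leaf 11022419) (.node 1 (.leaf 9255003) (.leaf 19165267))) (.node 1 (.leaf 27799627) (.node 1 (.leaf 11368515) (.leaf 19216467))))))
(.node 12 (.node 6 (.node 3 (.node 1 (.leaf 17135699) (.node 1 (.leaf 8933457) (.leaf 27807817))) (.node 1 (.leaf 17117265) (.node 1 (.leaf 25776201) (.leaf 25720913))))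
(.node 3 (.node 1 (.leaf 9189449) (.node 1 (.leaf 25514051) (.leaf 25759835))) (.node 1 (.leaf 9244763) (.node 1 (.leaf 27873369) (.leaf 19691603)))))
(.node 6 (.node 3 (.node 1 (.leaf 11016275) (.node 1 (.leaf 25456707) (.leaf 17125441))) (.node 1 (.leaf 9269337) (.node 1 (.leaf 25710683) (.leaf 9203803))))
(.node 3 (.node 1 (.leaf 11292737) (.node 1 (.leaf 19165265) (.leaf 25514073))) (.node 1 (.leaf 17053777) (.node 1 (.leaf 17657929) (.leaf 11286595)))))))
(.node 24 (.node 12 (.node 6 (.node 3 (.node 1 (.leaf 8925249) (.node 1 (.leaf 11368513) (.leaf 25440345))) (.node 1 (.leaf 17133649) (.node 1 (.leaf 25516099) (.leaf 11294811))))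
(.node 3 (.node 1 (.leaf 27867225) (.node 1 (.leaf 11360345) (.leaf 25458755))) (.node 1 (.leaf 8927315) (.node 1 (.leaf 17070163) (.leaf 25704523)))))
(.node 6 (.node 3 (.node 1 (.leaf 9269315) (.node 1 (.leaf 17117267) (.leaf 19230803))) (.node 1 (.leaf 19675211) (.node 1 (.leaf 27793491) (.leaf 19732571))))
(.node 3 (.node 1 (.leaf 25778259) (.node 1 (.leaf 11098187) (.leaf 27539539))) (.node 1 (.leaf 11032651) (.node 1 (.leaf 19167297) (.leaf 27883611))))))
(.node 12 (.node 6 (.node 3 (.node 1 (.leaf 19683409) (.node 1 (.leaf 25702491) (.leaf 11040849))) (.node 1 (.leaf 17578067) (.node 1 (.leaf 11104321) (.leaf 19738705))))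
(.node 3 (.node 1 (.leaf 19159129) (.node 1 (.leaf 19748947) (.leaf 19681355))) (.node 1 (.leaf 19222593) (.node 1 (.leaf 9252937) (.leaf 25718873)))))
(.node 6 (.node 3 (.node 1 (.leaf 19167323) (.node 1 (.leaf 27801691) (.leaf 25786459))) (.node 1 (.leaf 11087953) (.node 1 (.leaf 11341889) (.leaf 8982595))))
(.node 3 (.node 1 (.leaf 11292739) (.node 1 (.leaf 9203779) (.leaf 17051731))) (.node 1 (.leaf 27605083) (.node 1 (.leaf 8941651) (.leaf 27875403))))))))
(.node 48 (.node 24 (.node 12 (.node 6 (.node 3 (.node 1 (.leaf 9001025) (.node 1 (.leaf 8935489) (.leaf 11286593))) (.node 1 (.leaf 8925251) (.node 1 (.leaf 27539545) (.leaf 11016259))))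
(.node 3 (.node 1 (.leaf 9263171) (.node 1 (.leaf 27547739) (.leaf 8990803))) (.node 1 (.leaf 27859035) (.node 1 (.leaf 11343963) (.leaf 17119321)))))
(.node 6 (.node 3 (.node 1 (.leaf 25778265) (.node 1 (.leaf 17592403) (.leaf 27791449))) (.node 1 (.leaf 8917075) (.node 1 (.leaf 19224641) (.leaf 9197633))))
(.node 3 (.node 1 (.leaf 17070161) (.node 1 (.leaf 27613273) (.leaf 19148881))) (.node 1 (.leaf 19757129) (.node 1 (.leaf 9187395) (.leaf 11024449))))))
(.node 12 (.node 6 (.node 3 (.node 1 (.leaf 9269313) (.node 1 (.leaf 11360321) (.leaf 19232849))) (.node 1 (.leaf 11098193) (.node 1 (.leaf 17651801) (.leaf 11024475))))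
(.node 3 (.node 1 (.leaf 27867217) (.node 1 (.leaf 19673177) (.leaf 27621457))) (.node 1 (.leaf 11089993) (.node 1 (.leaf 27553873) (.leaf 9254985)))))
(.node 6 (.node 3 (.node 1 (.leaf 8933465) (.node 1 (.leaf 11368531) (.leaf 8984665))) (.node 1 (.leaf 27859027) (.node 1 (.leaf 8999003) (.leaf 17657947))))
(.node 3 (.node 1 (.leaf 9001033) (.node 1 (.leaf 25442385) (.leaf 8935497))) (.node 1 (.leaf 19746881) (.node 1 (.leaf 27619409) (.leaf 19157081)))))))
(.node 24 (.node 12 (.node 6 (.node 3 (.node 1 (.leaf 25507921) (.node 1 (.leaf 11300937) (.leaf 17594433))) (.node 1 (.leaf 17117273) (.node 1 (.leaf 19216475) (.leaf 19222617))))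
(.node 3 (.node 1 (.leaf 27807825) (.node 1 (.leaf 8925259) (.leaf 25524307))) (.node 1 (.leaf 8992843) (.node 1 (.leaf 19689539) (.leaf 27537491)))))
(.node 6 (.node 3 (.node 1 (.leaf 25456723) (.node 1 (.leaf 11352139) (.leaf 19691595))) (.node 1 (.leaf 27539523) (.node 1 (.leaf 19738697) (.leaf 25770057))))
(.node 3 (.node 1 (.leaf 17592395) (.node 1 (.leaf 17119297) (.leaf 11032659))) (.node 1 (.leaf 25712715) (.node 1 (.leaf 17643593) (.leaf 27865161))))))
(.node 12 (.node 6 (.node 3 (.node 1 (.leaf 9271369) (.node 1 (.leaf 9255001) (.leaf 27799625))) (.node 1 (.leaf 17135697) (.node 1 (.leaf 27807819) (.leaf 25776203))))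
(.node 3 (.node 1 (.leaf 25720915) (.node 1 (.leaf 9189451) (.leaf 17578057))) (.node 1 (.leaf 25450561) (.node 1 (.leaf 8998995) (.leaf 17657931)))))
(.node 6 (.node 3 (.node 1 (.leaf 27873355) (.node 1 (.leaf 19675209) (.leaf 19230787))) (.node 1 (.leaf 8992849) (.node 1 (.leaf 11284569) (.leaf 8943697))))
(.node 3 (.node 1 (.leaf 11096147) (.node 1 (.leaf 19755083) (.leaf 25522267))) (.node 1 (.leaf 8990811) (.node 1 (.leaf 11286609) (.leaf 8941659)))))))))))
(.node 384 (.node 192 (.node 96 (.node 48 (.node 24 (.node 12 (.node 6 (.node 3 (.node 1 (.leaf 27801681) (.node 1 (.leaf 25499737) (.leaf 9197651))) (.node 1 (.leaf 25770049) (.node 1 (.leaf 9263185) (.leaf 27555929))))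
(.node 3 (.node 1 (.leaf 11024473) (.node 1 (.leaf 9252947) (.leaf 17649755))) (.node 1 (.leaf 19755099) (.node 1 (.leaf 27603035) (.leaf 19150929)))))
(.node 6 (.node 3 (.node 1 (.leaf 27881539) (.node 1 (.leaf 11350099) (.leaf 17135691))) (.node 1 (.leaf 8925273) (.node 1 (.leaf 27529307) (.leaf 19206225))))
(.node 3 (.node 1 (.leaf 25448539) (.node 1 (.leaf 11358289) (.leaf 27799619))) (.node 1 (.leaf 11292755) (.node 1 (.leaf 9205835) (.leaf 17053763))))))
(.node 12 (.node 6 (.node 3 (.node 1 (.leaf 27603009) (.node 1 (.leaf 19681369) (.leaf 17592409))) (.node 1 (.leaf 9195585) (.node 1 (.leaf 17068113) (.leaf 19222601))))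
(.node 3 (.node 1 (.leaf 27881537) (.node 1 (.leaf 25704515) (.leaf 19216459))) (.node 1 (.leaf 25440331) (.node 1 (.leaf 17135689) (.leaf 17576003)))))
(.node 6 (.node 3 (.node 1 (.leaf 19157067) (.node 1 (.leaf 27816003) (.leaf 19683417))) (.node 1 (.leaf 19224659) (.node 1 (.leaf 9254977) (.leaf 25442393))))
(.node 3 (.node 1 (.leaf 9189457) (.node 1 (.leaf 19165257) (.leaf 27799617))) (.node 1 (.leaf 25784387) (.node 1 (.leaf 11343947) (.leaf 11294793)))))))
(.node 24 (.node 12 (.node 6 (.node 3 (.node 1 (.leaf 25522259) (.node 1 (.leaf 8990795) (.leaf 27621441))) (.node 1 (.leaf 19667019) (.node 1 (.leaf 17651785) (.leaf 17061955))))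
(.node 3 (.node 1 (.leaf 11038801) (.node 1 (.leaf 11090001) (.leaf 25784393))) (.node 1 (.leaf 19157073) (.node 1 (.leaf 8919123) (.leaf 17569867)))))
(.node 6 (.node 3 (.node 1 (.leaf 27793483) (.node 1 (.leaf 17584217) (.leaf 11040859))) (.node 1 (.leaf 11087963) (.node 1 (.leaf 25786449) (.leaf 27537497))))
(.node 3 (.node 1 (.leaf 25456729) (.node 1 (.leaf 11352147) (.leaf 25516121))) (.node 1 (.leaf 9009241) (.node 1 (.leaf 11294803) (.leaf 17127489))))))
(.node 12 (.node 6 (.node 3 (.node 1 (.leaf 19675227) (.node 1 (.leaf 19230801) (.leaf 9261123))) (.node 1 (.leaf 17569883) (.node 1 (.leaf 25434203) (.leaf 17111121))))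
(.node 3 (.node 1 (.leaf 25505883) (.node 1 (.leaf 27619419) (.leaf 19208259))) (.node 1 (.leaf 25434177) (.node 1 (.leaf 17659969) (.leaf 27875395)))))
(.node 6 (.node 3 (.node 1 (.leaf 19673155) (.node 1 (.leaf 19232859) (.leaf 17567811))) (.node 1 (.leaf 25432147) (.node 1 (.leaf 17109083) (.leaf 25702483))))
(.node 3 (.node 1 (.leaf 8982603) (.node 1 (.leaf 27856961) (.leaf 17045577))) (.node 1 (.leaf 19683393) (.node 1 (.leaf 25718851) (.leaf 19142745))))))))
(.node 48 (.node 24 (.node 12 (.node 6 (.node 3 (.node 1 (.leaf 25770075) (.node 1 (.leaf 9263195) (.leaf 9179227))) (.node 1 (.leaf 19738691) (.node 1 (.leaf 9197657) (.leaf 17070169))))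
(.node 3 (.node 1 (.leaf 19224643) (.node 1 (.leaf 27883603) (.leaf 8919115))) (.node 1 (.leaf 17053771) (.node 1 (.leaf 25712707) (.leaf 17133641)))))
(.node 6 (.node 3 (.node 1 (.leaf 27545673) (.node 1 (.leaf 11087945) (.leaf 25704513))) (.node 1 (.leaf 19230793) (.node 1 (.leaf 27865153) (.leaf 27793499))))
(.node 3 (.node 1 (.leaf 11278427) (.node 1 (.leaf 8919121) (.leaf 11360347))) (.node 1 (.leaf 25450577) (.node 1 (.leaf 27816025) (.leaf 19746899))))))
(.node 12 (.node 6 (.node 3 (.node 1 (.leaf 8917067) (.node 1 (.leaf 27791425) (.leaf 17111113))) (.node 1 (.leaf 25761857) (.node 1 (.leaf 19748929) (.leaf 19208281))))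
(.node 3 (.node 1 (.leaf 25704539) (.node 1 (.leaf 27529297) (.leaf 19148865))) (.node 1 (.leaf 25507907) (.node 1 (.leaf 17068099) (.leaf 17643611)))))
(.node 6 (.node 3 (.node 1 (.leaf 11276363) (.node 1 (.leaf 17127499) (.leaf 27553867))) (.node 1 (.leaf 19206217) (.node 1 (.leaf 19664963) (.leaf 27596873))))
(.node 3 (.node 1 (.leaf 25497673) (.node 1 (.leaf 11284563) (.leaf 25524299))) (.node 1 (.leaf 27555921) (.node 1 (.leaf 19222603) (.leaf 11276369)))))))
(.node 24 (.node 12 (.node 6 (.node 3 (.node 1 (.leaf 19140681) (.node 1 (.leaf 17059915) (.leaf 17649729))) (.node 1 (.leaf 25776217) (.node 1 (.leaf 17594451) (.leaf 27793497))))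
(.node 3 (.node 1 (.leaf 27865177) (.node 1 (.leaf 11358297) (.leaf 17135707))) (.node 1 (.leaf 17576017) (.node 1 (.leaf 19740755) (.leaf 19746897)))))
(.node 6 (.node 3 (.node 1 (.leaf 11038803) (.node 1 (.leaf 19689553) (.leaf 11014225))) (.node 1 (.leaf 17119307) (.node 1 (.leaf 25778243) (.leaf 9195601))))
(.node 3 (.node 1 (.leaf 17068105) (.node 1 (.leaf 27611209) (.leaf 19150923))) (.node 1 (.leaf 19755073) (.node 1 (.leaf 27881561) (.leaf 19681363))))))
(.node 12 (.node 6 (.node 3 (.node 1 (.leaf 25704537) (.node 1 (.leaf 25761881) (.leaf 9246809))) (.node 1 (.leaf 17111105) (.node 1 (.leaf 27531331) (.leaf 8992857))))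
(.node 3 (.node 1 (.leaf 17659979) (.node 1 (.leaf 19673161) (.leaf 19232835))) (.node 1 (.leaf 27594841) (.node 1 (.leaf 11079769) (.leaf 9179219)))))
(.node 6 (.node 3 (.node 1 (.leaf 11030617) (.node 1 (.leaf 25710675) (.leaf 27621467))) (.node 1 (.leaf 11302993) (.node 1 (.leaf 25432155) (.leaf 8917083))))
(.node 3 (.node 1 (.leaf 11341905) (.node 1 (.leaf 17051715) (.leaf 19730521))) (.node 1 (.leaf 17643609) (.node 1 (.leaf 17068115) (.leaf 9246801)))))))))
(.node 96 (.node 48 (.node 24 (.node 12 (.node 6 (.node 3 (.node 1 (.leaf 19216457) (.node 1 (.leaf 25694275) (.leaf 25458777))) (.node 1 (.leaf 9271379) (.node 1 (.leaf 25712705) (.leaf 9205841))))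
(.node 3 (.node 1 (.leaf 17059907) (.node 1 (.leaf 11016283) (.leaf 19667035))) (.node 1 (.leaf 11366483) (.node 1 (.leaf 8982617) (.leaf 27856979)))))
(.node 6 (.node 3 (.node 1 (.leaf 27531355) (.node 1 (.leaf 11096155) (.leaf 19206211))) (.node 1 (.leaf 9244745) (.node 1 (.leaf 17584195) (.leaf 19732545))))
(.node 3 (.node 1 (.leaf 17641537) (.node 1 (.leaf 25514065) (.leaf 25759825))) (.node 1 (.leaf 8943689) (.node 1 (.leaf 11096139) (.leaf 19755075))))))
(.node 12 (.node 6 (.node 3 (.node 1 (.leaf 25776193) (.node 1 (.leaf 11358299) (.leaf 25694297))) (.node 1 (.leaf 17651779) (.node 1 (.leaf 19664961) (.leaf 19206233))))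
(.node 3 (.node 1 (.leaf 9246811) (.node 1 (.leaf 19150913) (.leaf 27809873))) (.node 1 (.leaf 19755097) (.node 1 (.leaf 9009225) (.leaf 17127497)))))
(.node 6 (.node 3 (.node 1 (.leaf 27596875) (.node 1 (.leaf 11030603) (.leaf 25761859))) (.node 1 (.leaf 19140683) (.node 1 (.leaf 9007177) (.leaf 27867203))))
(.node 3 (.node 1 (.leaf 17068107) (.node 1 (.leaf 19691587) (.leaf 17109057))) (.node 1 (.leaf 17567833) (.node 1 (.leaf 11081819) (.leaf 25458753)))))))
(.node 24 (.node 12 (.node 6 (.node 3 (.node 1 (.leaf 11350105) (.node 1 (.leaf 27818075) (.leaf 25514049))) (.node 1 (.leaf 9007185) (.node 1 (.leaf 11292761) (.leaf 17125457))))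
(.node 3 (.node 1 (.leaf 9179201) (.node 1 (.leaf 17043537) (.leaf 11079763))) (.node 1 (.leaf 25759819) (.node 1 (.leaf 19142739) (.leaf 27867219)))))
(.node 6 (.node 3 (.node 1 (.leaf 11360331) (.node 1 (.leaf 27809881) (.leaf 25696347))) (.node 1 (.leaf 17635409) (.node 1 (.leaf 19167299) (.leaf 27856985))))
(.node 3 (.node 1 (.leaf 11341913) (.node 1 (.leaf 9252931) (.leaf 17125459))) (.node 1 (.leaf 19208275) (.node 1 (.leaf 9263169) (.leaf 11104323))))))
(.node 12 (.node 6 (.node 3 (.node 1 (.leaf 9179203) (.node 1 (.leaf 27883593) (.leaf 11278401))) (.node 1 (.leaf 19142737) (.node 1 (.leaf 17061969) (.leaf 25778257))))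
(.node 3 (.node 1 (.leaf 27791441) (.node 1 (.leaf 17127491) (.leaf 25702489))) (.node 1 (.leaf 17643603) (.node 1 (.leaf 8992851) (.leaf 19748945)))))
(.node 6 (.node 3 (.node 1 (.leaf 8927299) (.node 1 (.leaf 17586259) (.leaf 17641545))) (.node 1 (.leaf 17070147) (.node 1 (.leaf 11294795) (.leaf 27865179))))
(.node 3 (.node 1 (.leaf 17127513) (.node 1 (.leaf 25786457) (.leaf 27799641))) (.node 1 (.leaf 8943699) (.node 1 (.leaf 9205827) (.leaf 11032641))))))))
(.node 48 (.node 24 (.node 12 (.node 6 (.node 3 (.node 1 (.leaf 9252929) (.node 1 (.leaf 25694281) (.leaf 11014211))) (.node 1 (.leaf 11081795) (.node 1 (.leaf 11284545) (.leaf 25524313))))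
(.node 3 (.node 1 (.leaf 25710681) (.node 1 (.leaf 9203801) (.leaf 19140699))) (.node 1 (.leaf 27791451) (.node 1 (.leaf 19730513) (.leaf 25776219)))))
(.node 6 (.node 3 (.node 1 (.leaf 11096145) (.node 1 (.leaf 11352131) (.leaf 25456731))) (.node 1 (.leaf 17109075) (.node 1 (.leaf 17567819) (.leaf 11358273))))
(.node 3 (.node 1 (.leaf 9009219) (.node 1 (.leaf 11278403) (.leaf 17059923))) (.node 1 (.leaf 19673179) (.node 1 (.leaf 25718867) (.leaf 25448531))))))
(.node 12 (.node 6 (.node 3 (.node 1 (.leaf 8941643) (.node 1 (.leaf 25514067) (.leaf 11292747))) (.node 1 (.leaf 9254987) (.node 1 (.leaf 19755091) (.leaf 8933441))))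
(.node 3 (.node 1 (.leaf 17592401) (.node 1 (.leaf 17111129) (.leaf 17569875))) (.node 1 (.leaf 25507905) (.node 1 (.leaf 19664979) (.leaf 8933443)))))
(.node 6 (.node 3 (.node 1 (.leaf 8984641) (.node 1 (.leaf 17133659) (.leaf 27545681))) (.node 1 (.leaf 8998979) (.node 1 (.leaf 17657939) (.leaf 27809867))))
(.node 3 (.node 1 (.leaf 11343945) (.node 1 (.leaf 17594449) (.leaf 17053785))) (.node 1 (.leaf 25712729) (.node 1 (.leaf 25784395) (.leaf 11089985)))))))
(.node 24 (.node 12 (.node 6 (.node 3 (.node 1 (.leaf 27553865) (.node 1 (.leaf 11022401) (.leaf 9205825))) (.node 1 (.leaf 11032643) (.node 1 (.leaf 8943683) (.leaf 11343939))))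
(.node 3 (.node 1 (.leaf 27603011) (.node 1 (.leaf 9205851) (.leaf 27816011))) (.node 1 (.leaf 27545675) (.node 1 (.leaf 11038787) (.leaf 27611211)))))
(.node 6 (.node 3 (.node 1 (.leaf 11014209) (.node 1 (.leaf 11081793) (.leaf 19730523))) (.node 1 (.leaf 25524297) (.node 1 (.leaf 8992833) (.leaf 11366465))))
(.node 3 (.node 1 (.leaf 27619417) (.node 1 (.leaf 19167321) (.leaf 27801689))) (.node 1 (.leaf 19738707) (.node 1 (.leaf 11087955) (.leaf 17059931))))))
(.node 12 (.node 6 (.node 3 (.node 1 (.leaf 17649745) (.node 1 (.leaf 11022403) (.leaf 19675217))) (.node 1 (.leaf 11300931) (.node 1 (.leaf 11352129) (.leaf 9246785))))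
(.node 3 (.node 1 (.leaf 27531353) (.node 1 (.leaf 27793481) (.leaf 8919107))) (.node 1 (.leaf 25497675) (.node 1 (.leaf 11358275) (.leaf 9009217)))))
(.node 6 (.node 3 (.node 1 (.leaf 11096129) (.node 1 (.leaf 9189441) (.leaf 8941649))) (.node 1 (.leaf 11276371) (.node 1 (.leaf 8919131) (.leaf 19230809))))
(.node 3 (.node 1 (.leaf 25432145) (.node 1 (.leaf 11341897) (.leaf 27611217))) (.node 1 (.leaf 27613275) (.node 1 (.leaf 9197649) (.leaf 9263187))))))))))
(.node 192 (.node 96 (.node 48 (.node 24 (.node 12 (.node 6 (.node 3 (.node 1 (.leaf 9252945) (.node 1 (.leaf 27547737) (.leaf 11040857))) (.node 1 (.leaf 11087961) (.node 1 (.leaf 25786451) (.leaf 11038793))))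
(.node 3 (.node 1 (.leaf 17043545) (.node 1 (.leaf 9195593) (.leaf 19673153))) (.node 1 (.leaf 19232857) (.node 1 (.leaf 17109081) (.leaf 25702481)))))
(.node 6 (.node 3 (.node 1 (.leaf 25718849) (.node 1 (.leaf 19142747) (.leaf 17070171))) (.node 1 (.leaf 27596883) (.node 1 (.leaf 11081803) (.leaf 17578051))))
(.node 3 (.node 1 (.leaf 25450579) (.node 1 (.leaf 27529299) (.leaf 9244747))) (.node 1 (.leaf 19732547) (.node 1 (.leaf 17586251) (.leaf 19730505))))))
(.node 12 (.node 6 (.node 3 (.node 1 (.leaf 19140675) (.node 1 (.leaf 27859017) (.leaf 25720907))) (.node 1 (.leaf 11292763) (.node 1 (.leaf 25759817) (.leaf 11360329))))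
(.node 3 (.node 1 (.leaf 27856987) (.node 1 (.leaf 11341915) (.leaf 19208273))) (.node 1 (.leaf 27883595) (.node 1 (.leaf 17061971) (.leaf 27791443)))))
(.node 6 (.node 3 (.node 1 (.leaf 19664969) (.node 1 (.leaf 17649739) (.leaf 17059905))) (.node 1 (.leaf 11040851) (.node 1 (.leaf 25786443) (.leaf 8917073))))
(.node 3 (.node 1 (.leaf 17567817) (.node 1 (.leaf 27791433) (.leaf 27529281))) (.node 1 (.leaf 9244761) (.node 1 (.leaf 27605057) (.leaf 25448537)))))))
(.node 24 (.node 12 (.node 6 (.node 3 (.node 1 (.leaf 9246803) (.node 1 (.leaf 27603033) (.leaf 11096153))) (.node 1 (.leaf 9205843) (.node 1 (.leaf 19206209) (.leaf 17594459))))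
(.node 3 (.node 1 (.leaf 11300947) (.node 1 (.leaf 17043531) (.leaf 27873345))) (.node 1 (.leaf 25497691) (.node 1 (.leaf 27859011) (.leaf 11343955)))))
(.node 6 (.node 3 (.node 1 (.leaf 19757145) (.node 1 (.leaf 17649753) (.leaf 9244737))) (.node 1 (.leaf 17109073) (.node 1 (.leaf 19148873) (.leaf 27807809))))
(.node 3 (.node 1 (.leaf 19757123) (.node 1 (.leaf 19159115) (.leaf 25522251))) (.node 1 (.leaf 19150931) (.node 1 (.leaf 9203777) (.leaf 17051729))))))
(.node 12 (.node 6 (.node 3 (.node 1 (.leaf 9271377) (.node 1 (.leaf 19208265) (.leaf 11032667))) (.node 1 (.leaf 25432131) (.node 1 (.leaf 11022427) (.leaf 11302979))))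
(.node 3 (.node 1 (.leaf 11350081) (.node 1 (.leaf 17070153) (.leaf 27613257))) (.node 1 (.leaf 19148875) (.node 1 (.leaf 17109065) (.leaf 27594827)))))
(.node 6 (.node 3 (.node 1 (.leaf 25499723) (.node 1 (.leaf 25522249) (.leaf 19667009))) (.node 1 (.leaf 27547723) (.node 1 (.leaf 9195587) (.leaf 11341891))))
(.node 3 (.node 1 (.leaf 8982593) (.node 1 (.leaf 17125449) (.leaf 27555913))) (.node 1 (.leaf 19208267) (.node 1 (.leaf 17051721) (.leaf 25710657))))))))
(.node 48 (.node 24 (.node 12 (.node 6 (.node 3 (.node 1 (.leaf 9203785) (.node 1 (.leaf 27531347) (.leaf 9246795))) (.node 1 (.leaf 19230785) (.node 1 (.leaf 19755081) (.leaf 11358281))))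
(.node 3 (.node 1 (.leaf 25505857) (.node 1 (.leaf 25432129) (.leaf 11090003))) (.node 1 (.leaf 25702475) (.node 1 (.leaf 19232851) (.leaf 25712721)))))
(.node 6 (.node 3 (.node 1 (.leaf 25507929) (.node 1 (.leaf 25434201) (.leaf 8919129))) (.node 1 (.leaf 17053761) (.node 1 (.leaf 17641563) (.leaf 25759811))))
(.node 3 (.node 1 (.leaf 9269329) (.node 1 (.leaf 9187393) (.leaf 9001027))) (.node 1 (.leaf 19675225) (.node 1 (.leaf 11302977) (.leaf 17569881))))))
(.node 12 (.node 6 (.node 3 (.node 1 (.leaf 17111123) (.node 1 (.leaf 9205833) (.leaf 11089995))) (.node 1 (.leaf 25784385) (.node 1 (.leaf 19157065) (.leaf 17569857))))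
(.node 3 (.node 1 (.leaf 27793475) (.node 1 (.leaf 9189465) (.leaf 17657923))) (.node 1 (.leaf 17053787) (.node 1 (.leaf 17111107) (.leaf 25761875)))))
(.node 6 (.node 3 (.node 1 (.leaf 19165259) (.node 1 (.leaf 25440329) (.leaf 17117257))) (.node 1 (.leaf 17633363) (.node 1 (.leaf 27807835) (.leaf 11300955))))
(.node 3 (.node 1 (.leaf 11352155) (.node 1 (.leaf 17068097) (.leaf 19150915))) (.node 1 (.leaf 9187403) (.node 1 (.leaf 19206219) (.leaf 25432139)))))))
(.node 24 (.node 12 (.node 6 (.node 3 (.node 1 (.leaf 27621449) (.node 1 (.leaf 25434193) (.leaf 17109067))) (.node 1 (.leaf 9187409) (.node 1 (.leaf 17059913) (.leaf 19142731))))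
(.node 3 (.node 1 (.leaf 19673171) (.node 1 (.leaf 25720921) (.leaf 19214427))) (.node 1 (.leaf 19691601) (.node 1 (.leaf 17659987) (.leaf 19230795)))))
(.node 6 (.node 3 (.node 1 (.leaf 27865155) (.node 1 (.leaf 19150921) (.leaf 25505865))) (.node 1 (.leaf 17070155) (.node 1 (.leaf 27603025) (.leaf 25759833))))
(.node 3 (.node 1 (.leaf 17567827) (.node 1 (.leaf 27531329) (.leaf 25514059))) (.node 1 (.leaf 9203793) (.node 1 (.leaf 27605065) (.leaf 8941641))))))
(.node 12 (.node 6 (.node 3 (.node 1 (.leaf 27539529) (.node 1 (.leaf 25450571) (.leaf 19165273))) (.node 1 (.leaf 27613259) (.node 1 (.leaf 11360339) (.leaf 19232843))))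
(.node 3 (.node 1 (.leaf 17061979) (.node 1 (.leaf 17651793) (.leaf 11024451))) (.node 1 (.leaf 19683411) (.node 1 (.leaf 27867227) (.leaf 19673169)))))
(.node 6 (.node 3 (.node 1 (.leaf 19732561) (.node 1 (.leaf 25778267) (.leaf 11016257))) (.node 1 (.leaf 19667025) (.node 1 (.leaf 17659985) (.leaf 25505859))))
(.node 3 (.node 1 (.leaf 17584209) (.node 1 (.leaf 8990801) (.leaf 17649731))) (.node 1 (.leaf 25458761) (.node 1 (.leaf 27529291) (.leaf 19148891)))))))))
(.node 96 (.node 48 (.node 24 (.node 12 (.node 6 (.node 3 (.node 1 (.leaf 19757137) (.node 1 (.leaf 8935491) (.leaf 17567825))) (.node 1 (.leaf 17641553) (.node 1 (.leaf 9244753) (.leaf 17569865))))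
(.node 3 (.node 1 (.leaf 27537499) (.node 1 (.leaf 11352145) (.leaf 25516123))) (.node 1 (.leaf 9009243) (.node 1 (.leaf 11294801) (.leaf 17053779)))))
(.node 6 (.node 3 (.node 1 (.leaf 9189459) (.node 1 (.leaf 25434179) (.leaf 11350083))) (.node 1 (.leaf 19222611) (.node 1 (.leaf 27594825) (.leaf 17125451))))
(.node 3 (.node 1 (.leaf 27801665) (.node 1 (.leaf 8943705) (.leaf 27799635))) (.node 1 (.leaf 9254993) (.node 1 (.leaf 19148883) (.leaf 27605059))))))
(.node 12 (.node 6 (.node 3 (.node 1 (.leaf 27881553) (.node 1 (.leaf 11032649) (.leaf 17643587))) (.node 1 (.leaf 17586241) (.node 1 (.leaf 11098185) (.leaf 8943691))))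
(.node 3 (.node 1 (.leaf 27883587) (.node 1 (.leaf 17061963) (.leaf 9271385))) (.node 1 (.leaf 11098195) (.node 1 (.leaf 17578065) (.leaf 11096137)))))
(.node 6 (.node 3 (.node 1 (.leaf 25776195) (.node 1 (.leaf 27883609) (.leaf 9269321))) (.node 1 (.leaf 25514057) (.node 1 (.leaf 27539531) (.leaf 25516115))))
(.node 3 (.node 1 (.leaf 9269331) (.node 1 (.leaf 17117259) (.leaf 25458763))) (.node 1 (.leaf 25761883) (.node 1 (.leaf 19689555) (.leaf 25712731)))))))
(.node 24 (.node 12 (.node 6 (.node 3 (.node 1 (.leaf 11294785) (.node 1 (.leaf 8927297) (.leaf 9271363))) (.node 1 (.leaf 17119315) (.node 1 (.leaf 25776211) (.leaf 27881563))))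
(.node 3 (.node 1 (.leaf 19681361) (.node 1 (.leaf 17576019) (.leaf 11106369))) (.node 1 (.leaf 19740753) (.node 1 (.leaf 27799643) (.leaf 25784411)))))
(.node 6 (.node 3 (.node 1 (.leaf 11343937) (.node 1 (.leaf 8984643) (.leaf 11294787))) (.node 1 (.leaf 8998977) (.node 1 (.leaf 9189443) (.leaf 9271361))))
(.node 3 (.node 1 (.leaf 27865169) (.node 1 (.leaf 11292745) (.leaf 17569873))) (.node 1 (.leaf 11079747) (.node 1 (.leaf 19730515) (.leaf 27529283))))))
(.node 12 (.node 6 (.node 3 (.node 1 (.leaf 17657937) (.node 1 (.leaf 11079745) (.leaf 11030595))) (.node 1 (.leaf 25761865) (.node 1 (.leaf 9203787) (.leaf 19732563))))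
(.node 3 (.node 1 (.leaf 19208283) (.node 1 (.leaf 27801673) (.leaf 8941635))) (.node 1 (.leaf 9007171) (.node 1 (.leaf 8990785) (.leaf 25450587)))))
(.node 6 (.node 3 (.node 1 (.leaf 17127515) (.node 1 (.leaf 17586257) (.leaf 19675219))) (.node 1 (.leaf 9007169) (.node 1 (.leaf 17651795) (.leaf 25507931))))
(.node 3 (.node 1 (.leaf 25778251) (.node 1 (.leaf 11098177) (.leaf 11360323))) (.node 1 (.leaf 27603027) (.node 1 (.leaf 25458771) (.leaf 11341899))))))))
(.node 48 (.node 24 (.node 12 (.node 6 (.node 3 (.node 1 (.leaf 8990787) (.node 1 (.leaf 17649747) (.leaf 19150939))) (.node 1 (.leaf 25505873) (.node 1 (.leaf 11040835) (.leaf 9197635))))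
(.node 3 (.node 1 (.leaf 27555915) (.node 1 (.leaf 27547721) (.leaf 11040833))) (.node 1 (.leaf 11087939) (.node 1 (.leaf 27881547) (.leaf 19206235)))))
(.node 6 (.node 3 (.node 1 (.leaf 17125467) (.node 1 (.leaf 25710667) (.leaf 8917059))) (.node 1 (.leaf 19167305) (.node 1 (.leaf 8941633) (.leaf 27621451))))
(.node 3 (.node 1 (.leaf 19224651) (.node 1 (.leaf 9007193) (.leaf 25450569))) (.node 1 (.leaf 19664977) (.node 1 (.leaf 25499721) (.leaf 8917057))))))
(.node 12 (.node 6 (.node 3 (.node 1 (.leaf 25702473) (.node 1 (.leaf 9244739) (.leaf 27867209))) (.node 1 (.leaf 11098179) (.node 1 (.leaf 11276355) (.leaf 9205849))))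
(.node 3 (.node 1 (.leaf 9187411) (.node 1 (.leaf 19224665) (.leaf 11300945))) (.node 1 (.leaf 11343953) (.node 1 (.leaf 11302985) (.leaf 27793473)))))
(.node 6 (.node 3 (.node 1 (.leaf 11350091) (.node 1 (.leaf 25784409) (.leaf 19757131))) (.node 1 (.leaf 25704521) (.node 1 (.leaf 17651803) (.leaf 11360337))))
(.node 3 (.node 1 (.leaf 25442379) (.node 1 (.leaf 25786435) (.leaf 11098203))) (.node 1 (.leaf 11300929) (.node 1 (.leaf 27531337) (.leaf 25448523)))))))
(.node 24 (.node 12 (.node 6 (.node 3 (.node 1 (.leaf 8943681) (.node 1 (.leaf 17053769) (.leaf 27603017))) (.node 1 (.leaf 11278419) (.node 1 (.leaf 9246787) (.leaf 25456713))))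
(.node 3 (.node 1 (.leaf 17111115) (.node 1 (.leaf 27531339) (.leaf 25507913))) (.node 1 (.leaf 27537483) (.node 1 (.leaf 25448521) (.leaf 27619403)))))
(.node 6 (.node 3 (.node 1 (.leaf 11089987) (.node 1 (.leaf 25516105) (.leaf 27603019))) (.node 1 (.leaf 25434185) (.node 1 (.leaf 27605075) (.leaf 19732569))))
(.node 3 (.node 1 (.leaf 25702465) (.node 1 (.leaf 8919105) (.leaf 11038785))) (.node 1 (.leaf 17051723) (.node 1 (.leaf 19232841) (.leaf 19142729))))))
(.node 12 (.node 6 (.node 3 (.node 1 (.leaf 27605067) (.node 1 (.leaf 25505867) (.leaf 17051737))) (.node 1 (.leaf 25507915) (.node 1 (.leaf 27529289) (.leaf 25456715))))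
(.node 3 (.node 1 (.leaf 17068123) (.node 1 (.leaf 17643601) (.leaf 19755089))) (.node 1 (.leaf 8992835) (.node 1 (.leaf 27537481) (.leaf 25516107)))))
(.node 6 (.node 3 (.node 1 (.leaf 11358291) (.node 1 (.leaf 17061961) (.leaf 17641555))) (.node 1 (.leaf 17584211) (.node 1 (.leaf 11030593) (.leaf 19757139))))
(.node 3 (.node 1 (.leaf 19667027) (.node 1 (.leaf 11087937) (.leaf 11096131))) (.node 1 (.leaf 27619401) (.node 1 (.leaf 25432137) (.leaf 25434187))))))))))))

/-- The first candidates. -/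
def twoA1 : List (ℕ × ℕ) :=
  [(11352153, 17043521), (11352131, 17043537), (11358297, 17059905), (11358275, 17059921),
  (27818057, 17567809), (27818051, 17567825), (27807817, 17584193), (27807811, 17584209),
  (11352139, 17043529), (11352145, 17043545), (11358283, 17059913), (11358289, 17059929),
  (27818075, 17567817), (27818065, 17567833), (27807835, 17584201), (27807825, 17584217),
  (11366489, 17051713), (11366467, 17051729), (11343961, 17068097), (11343939, 17068113),
  (27799625, 17576001), (27799619, 17576017), (27793481, 17592385), (27793475, 17592401),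
  (11366475, 17051721), (11366481, 17051737), (11343947, 17068105), (11343953, 17068121),
  (27799643, 17576009), (27799633, 17576025), (27793499, 17592393), (27793489, 17592409),
  (27875417, 8917057), (27875395, 8917073), (27865177, 8933441), (27865155, 8933457),
  (9271377, 25694273), (9271363, 25694289), (9252945, 25710657), (9252931, 25710673),
  (27875411, 8917065), (27875401, 8917081), (27865171, 8933449), (27865161, 8933465),
  (9271387, 25694281), (9271369, 25694297), (9252955, 25710665), (9252937, 25710681),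
  (27881561, 8925249), (27881539, 8925265), (27859033, 8941633), (27859011, 8941649),
  (9261137, 25702465), (9261123, 25702481), (9246801, 25718849), (9246787, 25718865),
  (27881555, 8925257), (27881545, 8925273), (27859027, 8941641), (27859017, 8941657),
  (9261147, 25702473), (9261129, 25702489), (9246811, 25718857), (9246793, 25718873),
  (11294793, 9179201), (11294787, 9179217), (11300937, 9195585), (11300931, 9195601),
  (25770065, 25432129), (25770051, 25432145), (25784401, 25448513), (25784387, 25448529),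
  (11294803, 9179209), (11294809, 9179225), (11300947, 9195593), (11300953, 9195609),
  (25770059, 25432137), (25770073, 25432153), (25784395, 25448521), (25784409, 25448537),
  (11284553, 9187393), (11284547, 9187409), (11278409, 9203777), (11278403, 9203793),
  (25776209, 25440321), (25776195, 25440337), (25761873, 25456705), (25761859, 25456721),
  (11284563, 9187401), (11284569, 9187417), (11278419, 9203785), (11278425, 9203801),
  (25776203, 25440329), (25776217, 25440345), (25761867, 25456713), (25761881, 25456729),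
  (25712731, 8982593), (25712707, 8982609), (25704539, 8998977), (25704515, 8998993),
  (25712723, 8982601), (25712715, 8982617), (25704531, 8998985), (25704523, 8999001),
  (25720923, 8990785), (25720899, 8990801), (25696347, 9007169), (25696323, 9007185),
  (25720915, 8990793), (25720907, 8990809), (25696339, 9007177), (25696331, 9007193),
  (9197643, 9244737), (9197635, 9244753), (9205835, 9261121), (9205827, 9261137),
  (9197651, 9244745), (9197659, 9244761), (9205843, 9261129), (9205851, 9261145),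
  (9189451, 9252929), (9189443, 9252945), (9181259, 9269313), (9181251, 9269329),
  (9189459, 9252937), (9189467, 9252953), (9181267, 9269321), (9181275, 9269337)]

/-- The last candidates. -/
def twoSur : List ((ℕ × ℕ) × (ℕ × ℕ)) :=
  [((19224665, 25442369), (0, 17043521)), ((17119315, 11081793), (0, 25776201)),
  ((19165259, 17649747), (0, 11350105)), ((19216449, 25440323), (1, 17051721)),
  ((17135683, 11079747), (1, 25784385)), ((19159105, 17651793), (1, 11341905)),
  ((19224665, 25440323), (2, 17043521)), ((17119315, 11079747), (2, 25776201)),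
  ((19165259, 17651793), (2, 11350105)), ((19216449, 25442369), (3, 17051721)),
  ((17135683, 11081793), (3, 25784385)), ((19159105, 17649747), (3, 11341905)),
  ((19224641, 25442371), (4, 17043529)), ((17119299, 11081795), (4, 25776193)),
  ((19165249, 17649745), (4, 11350097)), ((19216473, 25440321), (5, 17051713)),
  ((17135699, 11079745), (5, 25784393)), ((19159115, 17651795), (5, 11341913)),
  ((19224641, 25442369), (6, 17043529)), ((17119299, 11081793), (6, 25776193)),
  ((19165249, 17649747), (6, 11350097)), ((19224665, 25442371), (7, 17043521)),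
  ((17119315, 11081795), (7, 25776201)), ((19165259, 17649745), (7, 11350105)),
  ((19216449, 25440321), (8, 17051721)), ((17135683, 11079745), (8, 25784385)),
  ((19159105, 17651795), (8, 11341905)), ((19216473, 25440323), (9, 17051713)),
  ((17135699, 11079747), (9, 25784393)), ((19159115, 17651793), (9, 11341913)),
  ((19224641, 25440323), (10, 17043529)), ((17119299, 11079747), (10, 25776193)),
  ((19165249, 17651793), (10, 11350097)), ((19224665, 25440321), (11, 17043521)),
  ((17119315, 11079745), (11, 25776201)), ((19165259, 17651795), (11, 11350105)),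
  ((19216449, 25442371), (12, 17051721)), ((17135683, 11081795), (12, 25784385)),
  ((19159105, 17649745), (12, 11341905)), ((19216473, 25442369), (13, 17051713)),
  ((17135699, 11081793), (13, 25784393)), ((19159115, 17649747), (13, 11341913)),
  ((19224641, 25440321), (14, 17043529)), ((17119299, 11079745), (14, 25776193)),
  ((19165249, 17651795), (14, 11350097)), ((19216473, 25442371), (15, 17051713)),
  ((17135699, 11081795), (15, 25784393)), ((19159115, 17649745), (15, 11341913))]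

/-- The side. -/
def twoSide : SideD where
  C := twoCent
  g := (.node 1 (.leaf 25770065) (.node 1 (.leaf 19150929) (.leaf 11079747)))
  par := twoPar
  rep := 11352153
  a1 := twoA1
  c1 := 17045571
  c2 := 17045569
  d1 := 17045571
  d2 := 17043523
  r2 := [([0, 1, 0, 1, 0], [1])]
  r3 := [([1, 0, 2, 0, 2], [0, 2, 0, 2, 1]),
  ([0, 1, 2, 0, 2, 0, 1], [2, 0, 0, 2])]
  im := (.node 8 (.node 4 (.node 2 (.node 1 (.leaf (.node 1 (.leaf 11352153) (.node 1 (.leaf 19224665) (.leaf 25442369)))) (.leaf (.node 1 (.leaf 11366475) (.node 1 (.leaf 19214403) (.leaf 25440323))))) (.node 1 (.leaf (.node 1 (.leaf 11352153) (.node 1 (.leaf 19224665) (.leaf 25440323)))) (.leaf (.node 1 (.leaf 11366475) (.node 1 (.leaf 19214403) (.leaf 25442369))))))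
(.node 2 (.node 1 (.leaf (.node 1 (.leaf 11352139) (.node 1 (.leaf 19224643) (.leaf 25442371)))) (.leaf (.node 1 (.leaf 11366489) (.node 1 (.leaf 19214425) (.leaf 25440321))))) (.node 1 (.leaf (.node 1 (.leaf 11352139) (.node 1 (.leaf 19224643) (.leaf 25442369)))) (.leaf (.node 1 (.leaf 11352153) (.node 1 (.leaf 19224665) (.leaf 25442371)))))))
(.node 4 (.node 2 (.node 1 (.leaf (.node 1 (.leaf 11366475) (.node 1 (.leaf 19214403) (.leaf 25440321)))) (.leaf (.node 1 (.leaf 11366489) (.node 1 (.leaf 19214425) (.leaf 25440323))))) (.node 1 (.leaf (.node 1 (.leaf 11352139) (.node 1 (.leaf 19224643) (.leaf 25440323)))) (.leaf (.node 1 (.leaf 11352153) (.node 1 (.leaf 19224665) (.leaf 25440321))))))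
(.node 2 (.node 1 (.leaf (.node 1 (.leaf 11366475) (.node 1 (.leaf 19214403) (.leaf 25442371)))) (.leaf (.node 1 (.leaf 11366489) (.node 1 (.leaf 19214425) (.leaf 25442369))))) (.node 1 (.leaf (.node 1 (.leaf 11352139) (.node 1 (.leaf 19224643) (.leaf 25440321)))) (.leaf (.node 1 (.leaf 11366489) (.node 1 (.leaf 19214425) (.leaf 25442371))))))))
  imW := (.node 8 (.node 4 (.node 2 (.node 1 (.leaf (.node 1 (.leaf [0, 0, 2, 1, 0, 2, 1, 0]) (.node 1 (.leaf [0, 1, 1, 2, 0, 1, 2, 1]) (.leaf [1, 2, 0, 0, 1, 2, 0, 2, 0])))) (.leaf (.node 1 (.leaf [0, 0, 0, 0, 0]) (.node 1 (.leaf [0, 0, 1, 2, 0, 1, 0, 2]) (.leaf [2, 0, 2, 0, 1, 0, 2, 1]))))) (.node 1 (.leaf (.node 1 (.leaf [0, 0, 2, 1, 0, 2, 1, 0]) (.node 1 (.leaf [0, 1, 1, 2, 0, 1, 2, 1]) (.leaf [2, 0, 2, 0, 1, 0, 2, 1])))) (.leaf (.node 1 (.leaf [0, 0, 0, 0, 0]) (.node 1 (.leaf [0, 0, 1, 2, 0, 1, 0, 2]) (.leaf [1, 2, 0, 0, 1, 2, 0, 2, 0]))))))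
(.node 2 (.node 1 (.leaf (.node 1 (.leaf [0, 2, 0, 0, 2]) (.node 1 (.leaf [0, 1, 2, 1, 0, 2, 1]) (.leaf [1, 2, 0, 2, 0, 0, 2, 1])))) (.leaf (.node 1 (.leaf [0, 1, 0, 2, 1, 2]) (.node 1 (.leaf [1, 1, 2, 1, 0, 2, 0, 1]) (.leaf [1, 2, 0, 0, 2, 0, 2, 0, 1]))))) (.node 1 (.leaf (.node 1 (.leaf [0, 2, 0, 0, 2]) (.node 1 (.leaf [0, 1, 2, 1, 0, 2, 1]) (.leaf [1, 2, 0, 0, 1, 2, 0, 2, 0])))) (.leaf (.node 1 (.leaf [0, 0, 2, 1, 0, 2, 1, 0]) (.node 1 (.leaf [0, 1, 1, 2, 0, 1, 2, 1]) (.leaf [1, 2, 0, 2, 0, 0, 2, 1])))))))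
(.node 4 (.node 2 (.node 1 (.leaf (.node 1 (.leaf [0, 0, 0, 0, 0]) (.node 1 (.leaf [0, 0, 1, 2, 0, 1, 0, 2]) (.leaf [1, 2, 0, 0, 2, 0, 2, 0, 1])))) (.leaf (.node 1 (.leaf [0, 1, 0, 2, 1, 2]) (.node 1 (.leaf [1, 1, 2, 1, 0, 2, 0, 1]) (.leaf [2, 0, 2, 0, 1, 0, 2, 1]))))) (.node 1 (.leaf (.node 1 (.leaf [0, 2, 0, 0, 2]) (.node 1 (.leaf [0, 1, 2, 1, 0, 2, 1]) (.leaf [2, 0, 2, 0, 1, 0, 2, 1])))) (.leaf (.node 1 (.leaf [0, 0, 2, 1, 0, 2, 1, 0]) (.node 1 (.leaf [0, 1, 1, 2, 0, 1, 2, 1]) (.leaf [1, 2, 0, 0, 2, 0, 2, 0, 1]))))))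
(.node 2 (.node 1 (.leaf (.node 1 (.leaf [0, 0, 0, 0, 0]) (.node 1 (.leaf [0, 0, 1, 2, 0, 1, 0, 2]) (.leaf [1, 2, 0, 2, 0, 0, 2, 1])))) (.leaf (.node 1 (.leaf [0, 1, 0, 2, 1, 2]) (.node 1 (.leaf [1, 1, 2, 1, 0, 2, 0, 1]) (.leaf [1, 2, 0, 0, 1, 2, 0, 2, 0]))))) (.node 1 (.leaf (.node 1 (.leaf [0, 2, 0, 0, 2]) (.node 1 (.leaf [0, 1, 2, 1, 0, 2, 1]) (.leaf [1, 2, 0, 0, 2, 0, 2, 0, 1])))) (.leaf (.node 1 (.leaf [0, 1, 0, 2, 1, 2]) (.node 1 (.leaf [1, 1, 2, 1, 0, 2, 0, 1]) (.leaf [1, 2, 0, 2, 0, 0, 2, 1]))))))))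
  sur := twoSur
  fwd := (.node 2 (.node 1 (.leaf twoFwd0) (.leaf twoFwd1)) (.node 1 (.leaf twoFwd2) (.leaf twoFwd3)))

end Cfsg.Lib.HeldType
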