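import Cfsg.Agent.HeldType.Elem
import Cfsg.Agent.HeldType.DataClass
import Cfsg.Agent.HeldType.DataOne
import Cfsg.Agent.HeldType.DataTwo

/-!
The classes of involutions of the coded group and their centralisers.
-/

set_option autoImplicit false
set_option maxRecDepth 100000

namespace Cfsg.Lib.HeldType

/-- The centraliser of a representative. -/
def repC : ℕ → CentData
  | 0 => oneCent
  | 1 => clACent
  | 2 => clCCent
  | 4 => clBCent
  | 5 => twoCent
  | 6 => clMCent
  | _ => clDCent

theorem one_cent_ok : oneCent.ok = true := by decide +kernel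

theorem two_cent_ok : twoCent.ok = true := by decide +kernel

theorem clA_ok : clACent.ok = true := by decide +kernel

theorem clB_ok : clBCent.ok = true := by decide +kernel

theorem clC_ok : clCCent.ok = true := by decide +kernel

theorem clD_ok : clDCent.ok = true := by decide +kernel

theorem clM_ok : clMCent.ok = true := by decide +kernel

theorem repC_ok : ∀ i, (repC i).ok = true
  | 0 => one_cent_ok
  | 1 => clA_ok
  | 2 => clC_ok
  | 3 => clD_ok
  | 4 => clB_ok
  | 5 => two_cent_ok
  | 6 => clM_ok
  | _ + 7 => clD_ok

/-- The representative of a class. -/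
def rep (i : ℕ) : ℕ := repL.get i

theorem rep_eq : ∀ i : Fin 8, i.val ≠ 3 → (repC i.val).x = rep i.val := by decide +kernel

theorem rep_three : rep 3 = cZ := by decide +kernel

theorem rep_valid : ∀ i : Fin 8, valid (rep i.val) = true := by decide +kernel

/-- An entry of the class table is correct. -/
def invOK (c : ℕ) (p : ℕ × ℕ) : Bool :=
  Nat.blt p.1 8 && valid c && valid p.2 && Nat.beq (cm p.2 (rep p.1)) (cm c p.2) && (!Nat.beq p.1 3 || Nat.beq c cZ)

theorem invT_ok : invT.all invOK = true := by decide +kernel

/-- An involution code is in the table. -/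
def invComplete (k : ℕ) : Bool :=
  let c := cOf k
  !Nat.beq (cm c c) cOne || Nat.beq c cOne || (invT.find c).isSome

theorem invComplete0 : allR invComplete 0 5376 = true := by decide +kernel

theorem invComplete1 : allR invComplete 5376 5376 = true := by decide +kernel

theorem invComplete2 : allR invComplete 10752 5376 = true := by decide +kernel

theorem invComplete3 : allR invComplete 16128 5376 = true := by decide +kernel

theorem inv_class {c : ℕ} (hc : valid c = true) (h2 : cm c c = cOne) (h1 : c ≠ cOne) :
    ∃ i < 8, ∃ h, valid h = true ∧ cm h (rep i) = cm c h ∧ (i = 3 → c = cZ) := by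
  obtain ⟨k, hk, rfl⟩ := valid_iff.mp hc
  have hb : invComplete k = true := by
    rcases Nat.lt_or_ge k 5376 with a | a
    · exact allR_sound _ _ _ invComplete0 k (Nat.zero_le _) (by omega)
    rcases Nat.lt_or_ge k 10752 with b | b
    · exact allR_sound _ _ _ invComplete1 k a (by omega)
    rcases Nat.lt_or_ge k 16128 with d | d
    · exact allR_sound _ _ _ invComplete2 k b (by omega)
    · exact allR_sound _ _ _ invComplete3 k d (by omega)
  have e1 : Nat.beq (cm (cOf k) (cOf k)) cOne = true := by rw [h2]; exact Nat.beq_refl _
  have e2 : Nat.beq (cOf k) cOne = false := by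
    cases h : Nat.beq (cOf k) cOne with
    | false => rfl
    | true => exact absurd (Nat.eq_of_beq_eq_true h) h1
  simp only [invComplete, e1, e2, Bool.not_true, Bool.false_or, Option.isSome_iff_exists] at hb
  obtain ⟨p, hp⟩ := hb
  have := BT.find_all _ _ invT_ok hp
  simp only [invOK, Bool.and_eq_true, Bool.or_eq_true, Nat.blt_eq, Bool.not_eq_true'] at this
  refine ⟨p.1, this.1.1.1.1, p.2, this.1.1.2, Nat.eq_of_beq_eq_true this.1.2, fun h3 => ?_⟩
  rcases this.2 with h | h
  · rw [h3] at h; simp at h
  · exact Nat.eq_of_beq_eq_true h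

/-- The sizes. -/
theorem repC_n : (repC 0).n = 1536 ∧ (repC 5).n = 1536 ∧ (repC 6).n = 512 ∧ (repC 1).n = 256 ∧ (repC 4).n = 256 ∧
    (repC 2).n = 128 ∧ (repC 7).n = 128 := by decide +kernel

end Cfsg.Lib.HeldType
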