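import Mathlib

/-!
Elements of the centraliser of a transvection of SL(5,2) coded as five rows of five bits.
-/

set_option autoImplicit false
set_option maxRecDepth 100000

namespace Cfsg.Lib.HeldType

/-- A table split by size. -/
inductive Tab (α : Type) where
  | leaf (v : α)
  | node (n : ℕ) (l r : Tab α)

/-- The entry of a table. -/
def Tab.get {α : Type} : Tab α → ℕ → α
  | .leaf v, _ => v
  | .node n l r, i => bif Nat.blt i n then l.get i else r.get (i - n)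

/-- One bit of a number. -/
def bit (c i : ℕ) : Bool := Nat.beq (Nat.land (Nat.shiftRight c i) 1) 1

/-- A row times a matrix. -/
def rowMul (r B : ℕ) : ℕ :=
  Nat.xor (bif bit r 0 then Nat.land B 31 else 0)
    (Nat.xor (bif bit r 1 then Nat.land (Nat.shiftRight B 5) 31 else 0)
      (Nat.xor (bif bit r 2 then Nat.land (Nat.shiftRight B 10) 31 else 0)
        (Nat.xor (bif bit r 3 then Nat.land (Nat.shiftRight B 15) 31 else 0)
          (bif bit r 4 then Nat.land (Nat.shiftRight B 20) 31 else 0))))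

/-- The product of two coded matrices. -/
def cm (A B : ℕ) : ℕ :=
  Nat.lor (rowMul A B)
    (Nat.lor (Nat.shiftLeft (rowMul (Nat.shiftRight A 5) B) 5)
      (Nat.lor (Nat.shiftLeft (rowMul (Nat.shiftRight A 10) B) 10)
        (Nat.lor (Nat.shiftLeft (rowMul (Nat.shiftRight A 15) B) 15)
          (Nat.shiftLeft (rowMul (Nat.shiftRight A 20) B) 20))))

/-- The identity. -/
def cOne : ℕ := 17043521

/-- The transvection. -/
def cZ : ℕ := 17043523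

/-- The product of a list. -/
def cProd : List ℕ → ℕ
  | [] => cOne
  | x :: l => cm x (cProd l)

/-- The invertible blocks of three rows of three bits. -/
def blkTab : Tab ℕ :=
 (.node 84 (.node 42 (.node 21 (.node 10 (.node 5 (.node 2 (.node 1 (.leaf 84) (.leaf 85)) (.node 1 (.leaf 86) (.node 1 (.leaf 87) (.leaf 92))))
 (.node 2 (.node 1 (.leaf 93) (.leaf 94)) (.node 1 (.leaf 95) (.node 1 (.leaf 98) (.leaf 99)))))
 (.node 5 (.node 2 (.node 1 (.leaf 102) (.leaf 103)) (.node 1 (.leaf 106) (.node 1 (.leaf 107) (.leaf 110))))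
 (.node 3 (.node 1 (.leaf 111) (.node 1 (.leaf 114) (.leaf 115))) (.node 1 (.leaf 116) (.node 1 (.leaf 117) (.leaf 122))))))
 (.node 10 (.node 5 (.node 2 (.node 1 (.leaf 123) (.leaf 124)) (.node 1 (.leaf 125) (.node 1 (.leaf 140) (.leaf 141))))
 (.node 2 (.node 1 (.leaf 142) (.leaf 143)) (.node 1 (.leaf 156) (.node 1 (.leaf 157) (.leaf 158)))))
 (.node 5 (.node 2 (.node 1 (.leaf 159) (.leaf 161)) (.node 1 (.leaf 163) (.node 1 (.leaf 165) (.leaf 167))))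
 (.node 3 (.node 1 (.leaf 169) (.node 1 (.leaf 171) (.leaf 172))) (.node 1 (.leaf 174) (.node 1 (.leaf 177) (.leaf 179)))))))
 (.node 21 (.node 10 (.node 5 (.node 2 (.node 1 (.leaf 181) (.leaf 183)) (.node 1 (.leaf 185) (.node 1 (.leaf 187) (.leaf 188))))
 (.node 2 (.node 1 (.leaf 190) (.leaf 204)) (.node 1 (.leaf 205) (.node 1 (.leaf 206) (.leaf 207)))))
 (.node 5 (.node 2 (.node 1 (.leaf 212) (.leaf 213)) (.node 1 (.leaf 214) (.node 1 (.leaf 215) (.leaf 225))))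
 (.node 3 (.node 1 (.leaf 226) (.node 1 (.leaf 229) (.leaf 230))) (.node 1 (.leaf 233) (.node 1 (.leaf 234) (.leaf 236))))))
 (.node 10 (.node 5 (.node 2 (.node 1 (.leaf 239) (.leaf 241)) (.node 1 (.leaf 242) (.node 1 (.leaf 244) (.leaf 247))))
 (.node 2 (.node 1 (.leaf 249) (.leaf 250)) (.node 1 (.leaf 253) (.node 1 (.leaf 254) (.leaf 266)))))
 (.node 5 (.node 2 (.node 1 (.leaf 267) (.leaf 270)) (.node 1 (.leaf 271) (.node 1 (.leaf 273) (.leaf 275))))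
 (.node 3 (.node 1 (.leaf 277) (.node 1 (.leaf 279) (.leaf 281))) (.node 1 (.leaf 282) (.node 1 (.leaf 285) (.leaf 286))))))))
 (.node 42 (.node 21 (.node 10 (.node 5 (.node 2 (.node 1 (.leaf 298) (.leaf 299)) (.node 1 (.leaf 302) (.node 1 (.leaf 303) (.leaf 305))))
 (.node 2 (.node 1 (.leaf 307) (.leaf 309)) (.node 1 (.leaf 311) (.node 1 (.leaf 313) (.leaf 314)))))
 (.node 5 (.node 2 (.node 1 (.leaf 317) (.leaf 318)) (.node 1 (.leaf 330) (.node 1 (.leaf 331) (.leaf 334))))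
 (.node 3 (.node 1 (.leaf 335) (.node 1 (.leaf 337) (.leaf 339))) (.node 1 (.leaf 340) (.node 1 (.leaf 342) (.leaf 345))))))
 (.node 10 (.node 5 (.node 2 (.node 1 (.leaf 346) (.leaf 348)) (.node 1 (.leaf 351) (.node 1 (.leaf 354) (.leaf 355))))
 (.node 2 (.node 1 (.leaf 358) (.leaf 359)) (.node 1 (.leaf 369) (.node 1 (.leaf 370) (.leaf 372)))))
 (.node 5 (.node 2 (.node 1 (.leaf 375) (.leaf 377)) (.node 1 (.leaf 379) (.node 1 (.leaf 380) (.leaf 382))))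
 (.node 3 (.node 1 (.leaf 394) (.node 1 (.leaf 395) (.leaf 396))) (.node 1 (.leaf 397) (.node 1 (.leaf 401) (.leaf 403)))))))
 (.node 21 (.node 10 (.node 5 (.node 2 (.node 1 (.leaf 405) (.leaf 407)) (.node 1 (.leaf 409) (.node 1 (.leaf 410) (.leaf 412))))
 (.node 2 (.node 1 (.leaf 415) (.leaf 417)) (.node 1 (.leaf 419) (.node 1 (.leaf 421) (.leaf 423)))))
 (.node 5 (.node 2 (.node 1 (.leaf 425) (.leaf 426)) (.node 1 (.leaf 428) (.node 1 (.leaf 431) (.leaf 442))))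
 (.node 3 (.node 1 (.leaf 443) (.node 1 (.leaf 444) (.leaf 445))) (.node 1 (.leaf 458) (.node 1 (.leaf 459) (.leaf 460))))))
 (.node 10 (.node 5 (.node 2 (.node 1 (.leaf 461) (.leaf 465)) (.node 1 (.leaf 467) (.node 1 (.leaf 468) (.leaf 470))))
 (.node 2 (.node 1 (.leaf 473) (.leaf 474)) (.node 1 (.leaf 477) (.node 1 (.leaf 478) (.leaf 481)))))
 (.node 5 (.node 2 (.node 1 (.leaf 482) (.leaf 485)) (.node 1 (.leaf 486) (.node 1 (.leaf 489) (.leaf 491))))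
 (.node 3 (.node 1 (.leaf 492) (.node 1 (.leaf 494) (.leaf 498))) (.node 1 (.leaf 499) (.node 1 (.leaf 500) (.leaf 501)))))))))

/-- The index of a block. -/
def blkIdx : Tab ℕ :=
 (.node 256 (.node 128 (.node 64 (.node 32 (.node 16 (.node 8 (.node 4 (.node 2 (.node 1 (.leaf 0) (.leaf 0)) (.node 1 (.leaf 0) (.leaf 0))) (.node 2 (.node 1 (.leaf 0) (.leaf 0)) (.node 1 (.leaf 0) (.leaf 0))))
 (.node 4 (.node 2 (.node 1 (.leaf 0) (.leaf 0)) (.node 1 (.leaf 0) (.leaf 0))) (.node 2 (.node 1 (.leaf 0) (.leaf 0)) (.node 1 (.leaf 0) (.leaf 0)))))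
 (.node 8 (.node 4 (.node 2 (.node 1 (.leaf 0) (.leaf 0)) (.node 1 (.leaf 0) (.leaf 0))) (.node 2 (.node 1 (.leaf 0) (.leaf 0)) (.node 1 (.leaf 0) (.leaf 0))))
 (.node 4 (.node 2 (.node 1 (.leaf 0) (.leaf 0)) (.node 1 (.leaf 0) (.leaf 0))) (.node 2 (.node 1 (.leaf 0) (.leaf 0)) (.node 1 (.leaf 0) (.leaf 0))))))
 (.node 16 (.node 8 (.node 4 (.node 2 (.node 1 (.leaf 0) (.leaf 0)) (.node 1 (.leaf 0) (.leaf 0))) (.node 2 (.node 1 (.leaf 0) (.leaf 0)) (.node 1 (.leaf 0) (.leaf 0))))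
 (.node 4 (.node 2 (.node 1 (.leaf 0) (.leaf 0)) (.node 1 (.leaf 0) (.leaf 0))) (.node 2 (.node 1 (.leaf 0) (.leaf 0)) (.node 1 (.leaf 0) (.leaf 0)))))
 (.node 8 (.node 4 (.node 2 (.node 1 (.leaf 0) (.leaf 0)) (.node 1 (.leaf 0) (.leaf 0))) (.node 2 (.node 1 (.leaf 0) (.leaf 0)) (.node 1 (.leaf 0) (.leaf 0))))
 (.node 4 (.node 2 (.node 1 (.leaf 0) (.leaf 0)) (.node 1 (.leaf 0) (.leaf 0))) (.node 2 (.node 1 (.leaf 0) (.leaf 0)) (.node 1 (.leaf 0) (.leaf 0)))))))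
 (.node 32 (.node 16 (.node 8 (.node 4 (.node 2 (.node 1 (.leaf 0) (.leaf 0)) (.node 1 (.leaf 0) (.leaf 0))) (.node 2 (.node 1 (.leaf 0) (.leaf 0)) (.node 1 (.leaf 0) (.leaf 0))))
 (.node 4 (.node 2 (.node 1 (.leaf 0) (.leaf 0)) (.node 1 (.leaf 0) (.leaf 0))) (.node 2 (.node 1 (.leaf 0) (.leaf 0)) (.node 1 (.leaf 0) (.leaf 0)))))
 (.node 8 (.node 4 (.node 2 (.node 1 (.leaf 0) (.leaf 0)) (.node 1 (.leaf 0) (.leaf 0))) (.node 2 (.node 1 (.leaf 0) (.leaf 1)) (.node 1 (.leaf 2) (.leaf 3))))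
 (.node 4 (.node 2 (.node 1 (.leaf 0) (.leaf 0)) (.node 1 (.leaf 0) (.leaf 0))) (.node 2 (.node 1 (.leaf 4) (.leaf 5)) (.node 1 (.leaf 6) (.leaf 7))))))
 (.node 16 (.node 8 (.node 4 (.node 2 (.node 1 (.leaf 0) (.leaf 0)) (.node 1 (.leaf 8) (.leaf 9))) (.node 2 (.node 1 (.leaf 0) (.leaf 0)) (.node 1 (.leaf 10) (.leaf 11))))
 (.node 4 (.node 2 (.node 1 (.leaf 0) (.leaf 0)) (.node 1 (.leaf 12) (.leaf 13))) (.node 2 (.node 1 (.leaf 0) (.leaf 0)) (.node 1 (.leaf 14) (.leaf 15)))))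
 (.node 8 (.node 4 (.node 2 (.node 1 (.leaf 0) (.leaf 0)) (.node 1 (.leaf 16) (.leaf 17))) (.node 2 (.node 1 (.leaf 18) (.leaf 19)) (.node 1 (.leaf 0) (.leaf 0))))
 (.node 4 (.node 2 (.node 1 (.leaf 0) (.leaf 0)) (.node 1 (.leaf 20) (.leaf 21))) (.node 2 (.node 1 (.leaf 22) (.leaf 23)) (.node 1 (.leaf 0) (.leaf 0))))))))
 (.node 64 (.node 32 (.node 16 (.node 8 (.node 4 (.node 2 (.node 1 (.leaf 0) (.leaf 0)) (.node 1 (.leaf 0) (.leaf 0))) (.node 2 (.node 1 (.leaf 0) (.leaf 0)) (.node 1 (.leaf 0) (.leaf 0))))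
 (.node 4 (.node 2 (.node 1 (.leaf 0) (.leaf 0)) (.node 1 (.leaf 0) (.leaf 0))) (.node 2 (.node 1 (.leaf 24) (.leaf 25)) (.node 1 (.leaf 26) (.leaf 27)))))
 (.node 8 (.node 4 (.node 2 (.node 1 (.leaf 0) (.leaf 0)) (.node 1 (.leaf 0) (.leaf 0))) (.node 2 (.node 1 (.leaf 0) (.leaf 0)) (.node 1 (.leaf 0) (.leaf 0))))
 (.node 4 (.node 2 (.node 1 (.leaf 0) (.leaf 0)) (.node 1 (.leaf 0) (.leaf 0))) (.node 2 (.node 1 (.leaf 28) (.leaf 29)) (.node 1 (.leaf 30) (.leaf 31))))))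
 (.node 16 (.node 8 (.node 4 (.node 2 (.node 1 (.leaf 0) (.leaf 32)) (.node 1 (.leaf 0) (.leaf 33))) (.node 2 (.node 1 (.leaf 0) (.leaf 34)) (.node 1 (.leaf 0) (.leaf 35))))
 (.node 4 (.node 2 (.node 1 (.leaf 0) (.leaf 36)) (.node 1 (.leaf 0) (.leaf 37))) (.node 2 (.node 1 (.leaf 38) (.leaf 0)) (.node 1 (.leaf 39) (.leaf 0)))))
 (.node 8 (.node 4 (.node 2 (.node 1 (.leaf 0) (.leaf 40)) (.node 1 (.leaf 0) (.leaf 41))) (.node 2 (.node 1 (.leaf 0) (.leaf 42)) (.node 1 (.leaf 0) (.leaf 43))))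
 (.node 4 (.node 2 (.node 1 (.leaf 0) (.leaf 44)) (.node 1 (.leaf 0) (.leaf 45))) (.node 2 (.node 1 (.leaf 46) (.leaf 0)) (.node 1 (.leaf 47) (.leaf 0)))))))
 (.node 32 (.node 16 (.node 8 (.node 4 (.node 2 (.node 1 (.leaf 0) (.leaf 0)) (.node 1 (.leaf 0) (.leaf 0))) (.node 2 (.node 1 (.leaf 0) (.leaf 0)) (.node 1 (.leaf 0) (.leaf 0))))
 (.node 4 (.node 2 (.node 1 (.leaf 0) (.leaf 0)) (.node 1 (.leaf 0) (.leaf 0))) (.node 2 (.node 1 (.leaf 48) (.leaf 49)) (.node 1 (.leaf 50) (.leaf 51)))))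
 (.node 8 (.node 4 (.node 2 (.node 1 (.leaf 0) (.leaf 0)) (.node 1 (.leaf 0) (.leaf 0))) (.node 2 (.node 1 (.leaf 52) (.leaf 53)) (.node 1 (.leaf 54) (.leaf 55))))
 (.node 4 (.node 2 (.node 1 (.leaf 0) (.leaf 0)) (.node 1 (.leaf 0) (.leaf 0))) (.node 2 (.node 1 (.leaf 0) (.leaf 0)) (.node 1 (.leaf 0) (.leaf 0))))))
 (.node 16 (.node 8 (.node 4 (.node 2 (.node 1 (.leaf 0) (.leaf 56)) (.node 1 (.leaf 57) (.leaf 0))) (.node 2 (.node 1 (.leaf 0) (.leaf 58)) (.node 1 (.leaf 59) (.leaf 0))))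
 (.node 4 (.node 2 (.node 1 (.leaf 0) (.leaf 60)) (.node 1 (.leaf 61) (.leaf 0))) (.node 2 (.node 1 (.leaf 62) (.leaf 0)) (.node 1 (.leaf 0) (.leaf 63)))))
 (.node 8 (.node 4 (.node 2 (.node 1 (.leaf 0) (.leaf 64)) (.node 1 (.leaf 65) (.leaf 0))) (.node 2 (.node 1 (.leaf 66) (.leaf 0)) (.node 1 (.leaf 0) (.leaf 67))))
 (.node 4 (.node 2 (.node 1 (.leaf 0) (.leaf 68)) (.node 1 (.leaf 69) (.leaf 0))) (.node 2 (.node 1 (.leaf 0) (.leaf 70)) (.node 1 (.leaf 71) (.leaf 0)))))))))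
 (.node 128 (.node 64 (.node 32 (.node 16 (.node 8 (.node 4 (.node 2 (.node 1 (.leaf 0) (.leaf 0)) (.node 1 (.leaf 0) (.leaf 0))) (.node 2 (.node 1 (.leaf 0) (.leaf 0)) (.node 1 (.leaf 0) (.leaf 0))))
 (.node 4 (.node 2 (.node 1 (.leaf 0) (.leaf 0)) (.node 1 (.leaf 72) (.leaf 73))) (.node 2 (.node 1 (.leaf 0) (.leaf 0)) (.node 1 (.leaf 74) (.leaf 75)))))
 (.node 8 (.node 4 (.node 2 (.node 1 (.leaf 0) (.leaf 76)) (.node 1 (.leaf 0) (.leaf 77))) (.node 2 (.node 1 (.leaf 0) (.leaf 78)) (.node 1 (.leaf 0) (.leaf 79))))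
 (.node 4 (.node 2 (.node 1 (.leaf 0) (.leaf 80)) (.node 1 (.leaf 81) (.leaf 0))) (.node 2 (.node 1 (.leaf 0) (.leaf 82)) (.node 1 (.leaf 83) (.leaf 0))))))
 (.node 16 (.node 8 (.node 4 (.node 2 (.node 1 (.leaf 0) (.leaf 0)) (.node 1 (.leaf 0) (.leaf 0))) (.node 2 (.node 1 (.leaf 0) (.leaf 0)) (.node 1 (.leaf 0) (.leaf 0))))
 (.node 4 (.node 2 (.node 1 (.leaf 0) (.leaf 0)) (.node 1 (.leaf 84) (.leaf 85))) (.node 2 (.node 1 (.leaf 0) (.leaf 0)) (.node 1 (.leaf 86) (.leaf 87)))))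
 (.node 8 (.node 4 (.node 2 (.node 1 (.leaf 0) (.leaf 88)) (.node 1 (.leaf 0) (.leaf 89))) (.node 2 (.node 1 (.leaf 0) (.leaf 90)) (.node 1 (.leaf 0) (.leaf 91))))
 (.node 4 (.node 2 (.node 1 (.leaf 0) (.leaf 92)) (.node 1 (.leaf 93) (.leaf 0))) (.node 2 (.node 1 (.leaf 0) (.leaf 94)) (.node 1 (.leaf 95) (.leaf 0)))))))
 (.node 32 (.node 16 (.node 8 (.node 4 (.node 2 (.node 1 (.leaf 0) (.leaf 0)) (.node 1 (.leaf 0) (.leaf 0))) (.node 2 (.node 1 (.leaf 0) (.leaf 0)) (.node 1 (.leaf 0) (.leaf 0))))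
 (.node 4 (.node 2 (.node 1 (.leaf 0) (.leaf 0)) (.node 1 (.leaf 96) (.leaf 97))) (.node 2 (.node 1 (.leaf 0) (.leaf 0)) (.node 1 (.leaf 98) (.leaf 99)))))
 (.node 8 (.node 4 (.node 2 (.node 1 (.leaf 0) (.leaf 100)) (.node 1 (.leaf 0) (.leaf 101))) (.node 2 (.node 1 (.leaf 102) (.leaf 0)) (.node 1 (.leaf 103) (.leaf 0))))
 (.node 4 (.node 2 (.node 1 (.leaf 0) (.leaf 104)) (.node 1 (.leaf 105) (.leaf 0))) (.node 2 (.node 1 (.leaf 106) (.leaf 0)) (.node 1 (.leaf 0) (.leaf 107))))))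
 (.node 16 (.node 8 (.node 4 (.node 2 (.node 1 (.leaf 0) (.leaf 0)) (.node 1 (.leaf 108) (.leaf 109))) (.node 2 (.node 1 (.leaf 0) (.leaf 0)) (.node 1 (.leaf 110) (.leaf 111))))
 (.node 4 (.node 2 (.node 1 (.leaf 0) (.leaf 0)) (.node 1 (.leaf 0) (.leaf 0))) (.node 2 (.node 1 (.leaf 0) (.leaf 0)) (.node 1 (.leaf 0) (.leaf 0)))))
 (.node 8 (.node 4 (.node 2 (.node 1 (.leaf 0) (.leaf 112)) (.node 1 (.leaf 113) (.leaf 0))) (.node 2 (.node 1 (.leaf 114) (.leaf 0)) (.node 1 (.leaf 0) (.leaf 115))))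
 (.node 4 (.node 2 (.node 1 (.leaf 0) (.leaf 116)) (.node 1 (.leaf 0) (.leaf 117))) (.node 2 (.node 1 (.leaf 118) (.leaf 0)) (.node 1 (.leaf 119) (.leaf 0))))))))
 (.node 64 (.node 32 (.node 16 (.node 8 (.node 4 (.node 2 (.node 1 (.leaf 0) (.leaf 0)) (.node 1 (.leaf 0) (.leaf 0))) (.node 2 (.node 1 (.leaf 0) (.leaf 0)) (.node 1 (.leaf 0) (.leaf 0))))
 (.node 4 (.node 2 (.node 1 (.leaf 0) (.leaf 0)) (.node 1 (.leaf 120) (.leaf 121))) (.node 2 (.node 1 (.leaf 122) (.leaf 123)) (.node 1 (.leaf 0) (.leaf 0)))))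
 (.node 8 (.node 4 (.node 2 (.node 1 (.leaf 0) (.leaf 124)) (.node 1 (.leaf 0) (.leaf 125))) (.node 2 (.node 1 (.leaf 0) (.leaf 126)) (.node 1 (.leaf 0) (.leaf 127))))
 (.node 4 (.node 2 (.node 1 (.leaf 0) (.leaf 128)) (.node 1 (.leaf 129) (.leaf 0))) (.node 2 (.node 1 (.leaf 130) (.leaf 0)) (.node 1 (.leaf 0) (.leaf 131))))))
 (.node 16 (.node 8 (.node 4 (.node 2 (.node 1 (.leaf 0) (.leaf 132)) (.node 1 (.leaf 0) (.leaf 133))) (.node 2 (.node 1 (.leaf 0) (.leaf 134)) (.node 1 (.leaf 0) (.leaf 135))))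
 (.node 4 (.node 2 (.node 1 (.leaf 0) (.leaf 136)) (.node 1 (.leaf 137) (.leaf 0))) (.node 2 (.node 1 (.leaf 138) (.leaf 0)) (.node 1 (.leaf 0) (.leaf 139)))))
 (.node 8 (.node 4 (.node 2 (.node 1 (.leaf 0) (.leaf 0)) (.node 1 (.leaf 0) (.leaf 0))) (.node 2 (.node 1 (.leaf 0) (.leaf 0)) (.node 1 (.leaf 0) (.leaf 0))))
 (.node 4 (.node 2 (.node 1 (.leaf 0) (.leaf 0)) (.node 1 (.leaf 140) (.leaf 141))) (.node 2 (.node 1 (.leaf 142) (.leaf 143)) (.node 1 (.leaf 0) (.leaf 0)))))))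
 (.node 32 (.node 16 (.node 8 (.node 4 (.node 2 (.node 1 (.leaf 0) (.leaf 0)) (.node 1 (.leaf 0) (.leaf 0))) (.node 2 (.node 1 (.leaf 0) (.leaf 0)) (.node 1 (.leaf 0) (.leaf 0))))
 (.node 4 (.node 2 (.node 1 (.leaf 0) (.leaf 0)) (.node 1 (.leaf 144) (.leaf 145))) (.node 2 (.node 1 (.leaf 146) (.leaf 147)) (.node 1 (.leaf 0) (.leaf 0)))))
 (.node 8 (.node 4 (.node 2 (.node 1 (.leaf 0) (.leaf 148)) (.node 1 (.leaf 0) (.leaf 149))) (.node 2 (.node 1 (.leaf 150) (.leaf 0)) (.node 1 (.leaf 151) (.leaf 0))))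
 (.node 4 (.node 2 (.node 1 (.leaf 0) (.leaf 152)) (.node 1 (.leaf 153) (.leaf 0))) (.node 2 (.node 1 (.leaf 0) (.leaf 154)) (.node 1 (.leaf 155) (.leaf 0))))))
 (.node 16 (.node 8 (.node 4 (.node 2 (.node 1 (.leaf 0) (.leaf 156)) (.node 1 (.leaf 157) (.leaf 0))) (.node 2 (.node 1 (.leaf 0) (.leaf 158)) (.node 1 (.leaf 159) (.leaf 0))))
 (.node 4 (.node 2 (.node 1 (.leaf 0) (.leaf 160)) (.node 1 (.leaf 0) (.leaf 161))) (.node 2 (.node 1 (.leaf 162) (.leaf 0)) (.node 1 (.leaf 163) (.leaf 0)))))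
 (.node 8 (.node 4 (.node 2 (.node 1 (.leaf 0) (.leaf 0)) (.node 1 (.leaf 164) (.leaf 165))) (.node 2 (.node 1 (.leaf 166) (.leaf 167)) (.node 1 (.leaf 0) (.leaf 0))))
 (.node 4 (.node 2 (.node 1 (.leaf 0) (.leaf 0)) (.node 1 (.leaf 0) (.leaf 0))) (.node 2 (.node 1 (.leaf 0) (.leaf 0)) (.node 1 (.leaf 0) (.leaf 0))))))))))

/-- The inverses of the blocks. -/
def blkInv : Tab ℕ :=
 (.node 84 (.node 42 (.node 21 (.node 10 (.node 5 (.node 2 (.node 1 (.leaf 84) (.leaf 340)) (.node 1 (.leaf 212) (.node 1 (.leaf 468) (.leaf 116))))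
 (.node 2 (.node 1 (.leaf 372) (.leaf 500)) (.node 1 (.leaf 244) (.node 1 (.leaf 140) (.leaf 172)))))
 (.node 5 (.node 2 (.node 1 (.leaf 156) (.leaf 188)) (.node 1 (.leaf 396) (.node 1 (.leaf 428) (.leaf 444))))
 (.node 3 (.node 1 (.leaf 412) (.node 1 (.leaf 204) (.leaf 492))) (.node 1 (.leaf 92) (.node 1 (.leaf 380) (.leaf 460))))))
 (.node 10 (.node 5 (.node 2 (.node 1 (.leaf 236) (.leaf 124)) (.node 1 (.leaf 348) (.node 1 (.leaf 98) (.leaf 226))))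
 (.node 2 (.node 1 (.leaf 354) (.leaf 482)) (.node 1 (.leaf 102) (.node 1 (.leaf 486) (.leaf 358)))))
 (.node 5 (.node 2 (.node 1 (.leaf 230) (.leaf 161)) (.node 1 (.leaf 165) (.node 1 (.leaf 163) (.leaf 167))))
 (.node 3 (.node 1 (.leaf 225) (.node 1 (.leaf 485) (.leaf 99))) (.node 1 (.leaf 359) (.node 1 (.leaf 417) (.leaf 421)))))))
 (.node 21 (.node 10 (.node 5 (.node 2 (.node 1 (.leaf 423) (.leaf 419)) (.node 1 (.leaf 481) (.node 1 (.leaf 229) (.leaf 103))))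
 (.node 2 (.node 1 (.leaf 355) (.leaf 114)) (.node 1 (.leaf 242) (.node 1 (.leaf 498) (.leaf 370)))))
 (.node 5 (.node 2 (.node 1 (.leaf 86) (.leaf 470)) (.node 1 (.leaf 214) (.node 1 (.leaf 342) (.leaf 169))))
 (.node 3 (.node 1 (.leaf 141) (.node 1 (.leaf 187) (.leaf 159))) (.node 1 (.leaf 233) (.node 1 (.leaf 461) (.leaf 123))))))
 (.node 10 (.node 5 (.node 2 (.node 1 (.leaf 351) (.leaf 489)) (.node 1 (.leaf 205) (.node 1 (.leaf 95) (.leaf 379))))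
 (.node 2 (.node 1 (.leaf 425) (.leaf 397)) (.node 1 (.leaf 415) (.node 1 (.leaf 443) (.leaf 266)))))
 (.node 5 (.node 2 (.node 1 (.leaf 282) (.leaf 298)) (.node 1 (.leaf 314) (.node 1 (.leaf 273) (.leaf 275))))
 (.node 3 (.node 1 (.leaf 277) (.node 1 (.leaf 279) (.leaf 281))) (.node 1 (.leaf 267) (.node 1 (.leaf 317) (.leaf 303))))))))
 (.node 42 (.node 21 (.node 10 (.node 5 (.node 2 (.node 1 (.leaf 270) (.leaf 318)) (.node 1 (.leaf 302) (.node 1 (.leaf 286) (.leaf 305))))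
 (.node 2 (.node 1 (.leaf 311) (.leaf 309)) (.node 1 (.leaf 307) (.node 1 (.leaf 313) (.leaf 271)))))
 (.node 5 (.node 2 (.node 1 (.leaf 285) (.leaf 299)) (.node 1 (.leaf 394) (.node 1 (.leaf 410) (.leaf 442))))
 (.node 3 (.node 1 (.leaf 426) (.node 1 (.leaf 337) (.leaf 467))) (.node 1 (.leaf 85) (.node 1 (.leaf 215) (.leaf 345))))))
 (.node 10 (.node 5 (.node 2 (.node 1 (.leaf 459) (.leaf 125)) (.node 1 (.leaf 239) (.node 1 (.leaf 142) (.leaf 190))))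
 (.node 2 (.node 1 (.leaf 158) (.leaf 174)) (.node 1 (.leaf 377) (.node 1 (.leaf 207) (.leaf 93)))))
 (.node 5 (.node 2 (.node 1 (.leaf 491) (.leaf 369)) (.node 1 (.leaf 247) (.node 1 (.leaf 117) (.leaf 499))))
 (.node 3 (.node 1 (.leaf 330) (.node 1 (.leaf 474) (.leaf 106))) (.node 1 (.leaf 250) (.node 1 (.leaf 401) (.leaf 403)))))))
 (.node 21 (.node 10 (.node 5 (.node 2 (.node 1 (.leaf 407) (.leaf 405)) (.node 1 (.leaf 473) (.node 1 (.leaf 331) (.leaf 111))))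
 (.node 2 (.node 1 (.leaf 253) (.leaf 177)) (.node 1 (.leaf 183) (.node 1 (.leaf 179) (.leaf 181)))))
 (.node 5 (.node 2 (.node 1 (.leaf 249) (.leaf 335)) (.node 1 (.leaf 107) (.node 1 (.leaf 477) (.leaf 334))))
 (.node 3 (.node 1 (.leaf 254) (.node 1 (.leaf 110) (.leaf 478))) (.node 1 (.leaf 458) (.node 1 (.leaf 346) (.leaf 122))))))
 (.node 10 (.node 5 (.node 2 (.node 1 (.leaf 234) (.leaf 465)) (.node 1 (.leaf 339) (.node 1 (.leaf 87) (.leaf 213))))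
 (.node 2 (.node 1 (.leaf 409) (.leaf 395)) (.node 1 (.leaf 431) (.node 1 (.leaf 445) (.leaf 185)))))
 (.node 5 (.node 2 (.node 1 (.leaf 143) (.leaf 171)) (.node 1 (.leaf 157) (.node 1 (.leaf 241) (.leaf 375))))
 (.node 3 (.node 1 (.leaf 115) (.node 1 (.leaf 501) (.leaf 206))) (.node 1 (.leaf 382) (.node 1 (.leaf 94) (.leaf 494)))))))))

/-- The block diagonal matrix of a block. -/
def levOf (A : ℕ) : ℕ :=
  Nat.lor 65 (Nat.lor (Nat.shiftLeft (Nat.land A 7) 12)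
    (Nat.lor (Nat.shiftLeft (Nat.land (Nat.shiftRight A 3) 7) 17) (Nat.shiftLeft (Nat.land (Nat.shiftRight A 6) 7) 22)))

/-- The unipotent part with a seven-bit parameter. -/
def radOf (q : ℕ) : ℕ :=
  Nat.lor cOne (Nat.lor (Nat.shiftLeft (Nat.land q 1) 1) (Nat.lor (Nat.shiftLeft (Nat.land (Nat.shiftRight q 1) 7) 2)
    (Nat.lor (Nat.shiftLeft (Nat.land (Nat.shiftRight q 4) 1) 11)
      (Nat.lor (Nat.shiftLeft (Nat.land (Nat.shiftRight q 5) 1) 16) (Nat.shiftLeft (Nat.land (Nat.shiftRight q 6) 1) 21)))))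

/-- The element of an index below 21504. -/
def cOf (k : ℕ) : ℕ := cm (radOf (k / 168)) (levOf (blkTab.get (k % 168)))

/-- The block of a code. -/
def blkOf (c : ℕ) : ℕ :=
  Nat.lor (Nat.land (Nat.shiftRight c 12) 7)
    (Nat.lor (Nat.shiftLeft (Nat.land (Nat.shiftRight c 17) 7) 3) (Nat.shiftLeft (Nat.land (Nat.shiftRight c 22) 7) 6))

/-- The unipotent parameter of a code. -/
def qOf (c : ℕ) : ℕ :=
  let u := cm c (levOf (blkInv.get (blkIdx.get (blkOf c))))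
  Nat.lor (Nat.land (Nat.shiftRight u 1) 1) (Nat.lor (Nat.shiftLeft (Nat.land (Nat.shiftRight u 2) 7) 1)
    (Nat.lor (Nat.shiftLeft (Nat.land (Nat.shiftRight u 11) 1) 4)
      (Nat.lor (Nat.shiftLeft (Nat.land (Nat.shiftRight u 16) 1) 5) (Nat.shiftLeft (Nat.land (Nat.shiftRight u 21) 1) 6))))

/-- The index of a code. -/
def kOf (c : ℕ) : ℕ := qOf c * 168 + blkIdx.get (blkOf c)

/-- The code is one of the centraliser. -/
def valid (c : ℕ) : Bool := Nat.blt (kOf c) 21504 && Nat.beq (cOf (kOf c)) c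

/-- The inverse of a code. -/
def cInv (c : ℕ) : ℕ :=
  let L := levOf (blkInv.get (blkIdx.get (blkOf c)))
  let u := cm c L
  cm L (cm u (cm u u))

end Cfsg.Lib.HeldType
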