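import Cfsg.Agent.HeldType.Setting

/-!
Counting involutions in the centraliser of an involution that fixes more than one coset.
-/

set_option autoImplicit false
set_option maxRecDepth 100000

namespace Cfsg.Lib.HeldType

open scoped Classical

/-- A class of involutions each fixing exactly one coset. -/
structure OneFix {G : Type*} [Group G] (L : Subgroup G) (Γ : Set G) : Prop where
  conj : ∀ g : G, ∀ y ∈ Γ, g * y * g⁻¹ ∈ Γ
  sq : ∀ y ∈ Γ, y * y = 1
  unique : ∀ y ∈ Γ, y ∈ L → ∀ g : G, g⁻¹ * y * g ∈ L → g ∈ L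

/-- The conclusion of the count. -/
structure Pinch {G : Type*} [Group G] (L : Subgroup G) (Γ : Set G) (u : G) (k : ℕ) where
  D : Subgroup G
  j : G
  le : ∀ d ∈ D, d ∈ L ∧ d * u = u * d
  u_mem : u ∈ D
  free : ∀ y ∈ Γ, y ∉ D
  j_mem : j ∈ Γ
  card_le : k ≤ Nat.card {d : G // d ∈ D ∧ j * d ∈ Γ}

variable {G : Type*} [Group G] {L : Subgroup G} {Γ : Set G} {u : G} {k : ℕ}

theorem Pinch.inverted (P : Pinch L Γ u k) (h : OneFix L Γ) {d : G} (hd : P.j * d ∈ Γ) :
    P.j * d * P.j = d⁻¹ :=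
  eq_inv_of_mul_eq_one_left (by
    have := h.sq _ hd
    rwa [← mul_assoc] at this)

theorem Pinch.k_le (P : Pinch L Γ u k) [Finite G] : k ≤ Nat.card P.D :=
  P.card_le.trans (Nat.card_le_card_of_injective (fun d => (⟨d.1, d.2.1⟩ : P.D)) fun a b h =>
    Subtype.ext (congrArg (fun x : P.D => (x : G)) h))

theorem OneFix.pinch [Finite G] (h : OneFix L Γ) (hu : u * u = 1) (huL : u ∈ L)
    (hfus : ∀ g : G, g * u * g⁻¹ ∈ L → ∃ l ∈ L, l * u * l⁻¹ = g * u * g⁻¹)
    (hbad : ¬ Subgroup.centralizer ({u} : Set G) ≤ L)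
    (hk : k ≤ Nat.card {y : G // y ∈ Γ ∧ y ∈ L ∧ y * u = u * y}) (hk0 : 0 < k) :
    Nonempty (Pinch L Γ u k) := by
  haveI : Fintype G := Fintype.ofFinite G
  set C := Subgroup.centralizer ({u} : Set G) with hC
  have memC : ∀ {x : G}, x ∈ C ↔ x * u = u * x := Subgroup.mem_centralizer_singleton_iff
  obtain ⟨c, hc, hcL⟩ := SetLike.not_le_iff_exists.mp hbad
  let J0 : Finset G := Finset.univ.filter fun y => y ∈ Γ ∧ y ∈ L ∧ y * u = u * y
  have hJ0 : k ≤ J0.card := by
    refine hk.trans (le_of_eq ?_)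
    rw [Nat.card_eq_fintype_card, Fintype.card_subtype]
  let Q : Finset (G ⧸ L) := (Finset.univ.filter fun x => x ∈ C).image (QuotientGroup.mk : G → G ⧸ L)
  let p : G ⧸ L := ((1 : G) : G ⧸ L)
  let T : Finset (G ⧸ L) := Q.erase p
  have hT : T.Nonempty := ⟨(c : G ⧸ L), Finset.mem_erase.mpr ⟨fun e => hcL (by
    have e' := QuotientGroup.eq.mp e
    simpa using e'), Finset.mem_image.mpr ⟨c, by simp [hc], rfl⟩⟩⟩
  have hrep : ∀ q ∈ T, ∃ x, x ∈ C ∧ (x : G ⧸ L) = q ∧ x ∉ L := fun q hq => by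
    obtain ⟨hne, hq'⟩ := Finset.mem_erase.mp hq
    obtain ⟨x, hx, rfl⟩ := Finset.mem_image.mp hq'
    exact ⟨x, (Finset.mem_filter.mp hx).2, rfl, fun hxL => hne (QuotientGroup.eq.mpr (by simpa using L.inv_mem hxL))⟩
  choose! x hxC hxq hxL using hrep
  let O : Finset G := Finset.univ.filter fun y => y ∈ Γ ∧ y ∉ L ∧ y * u = u * y
  have hO : T.card * k ≤ O.card := by
    calc T.card * k ≤ T.card * J0.card := Nat.mul_le_mul_left _ hJ0
      _ = (T ×ˢ J0).card := (Finset.card_product _ _).symm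
      _ ≤ O.card := by
        refine Finset.card_le_card_of_injOn (fun a => x a.1 * a.2 * (x a.1)⁻¹) ?_ ?_
        · intro a ha
          simp only [Finset.coe_product, Set.mem_prod, SetLike.mem_coe, J0, Finset.mem_filter,
            Finset.mem_univ, true_and] at ha
          obtain ⟨ha1, hy1, hy2, hy3⟩ := ha
          simp only [SetLike.mem_coe, O, Finset.mem_filter, Finset.mem_univ, true_and]
          refine ⟨h.conj _ _ hy1, fun hL => hxL a.1 ha1 ?_, ?_⟩
          · have := h.unique _ hy1 hy2 (x a.1)⁻¹ (by rwa [inv_inv])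
            exact inv_mem_iff.mp this
          · have hx := memC.mp (hxC a.1 ha1)
            rw [mul_assoc (x a.1 * a.2), ← (Commute.inv_right (Commute.symm hx)).eq, ← mul_assoc,
              mul_assoc (x a.1) a.2, hy3, ← mul_assoc, hx]
            simp only [mul_assoc]
        · intro a ha b hb e
          simp only [Finset.coe_product, Set.mem_prod, SetLike.mem_coe, J0, Finset.mem_filter,
            Finset.mem_univ, true_and] at ha hb
          have hab : a.1 = b.1 := by
            have e2 : ((x a.1)⁻¹ * x b.1)⁻¹ * a.2 * ((x a.1)⁻¹ * x b.1) = b.2 := by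
              calc ((x a.1)⁻¹ * x b.1)⁻¹ * a.2 * ((x a.1)⁻¹ * x b.1)
                  = (x b.1)⁻¹ * (x a.1 * a.2 * (x a.1)⁻¹) * x b.1 := by group
                _ = (x b.1)⁻¹ * (x b.1 * b.2 * (x b.1)⁻¹) * x b.1 := congrArg (fun t => (x b.1)⁻¹ * t * x b.1) e
                _ = b.2 := by group
            have := h.unique _ ha.2.1 ha.2.2.1 ((x a.1)⁻¹ * x b.1) (by rw [e2]; exact hb.2.2.1)
            rw [← hxq a.1 ha.1, ← hxq b.1 hb.1]
            exact QuotientGroup.eq.mpr this
          refine Prod.ext hab ?_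
          simp only [← hab] at e
          exact mul_left_cancel (mul_right_cancel e)
  have hmaps : ∀ y ∈ O, (y : G ⧸ L) ∈ T := fun y hy => by
    simp only [O, Finset.mem_filter, Finset.mem_univ, true_and] at hy
    exact Finset.mem_erase.mpr ⟨fun e => hy.2.1 (by simpa using QuotientGroup.eq.mp e),
      Finset.mem_image.mpr ⟨y, by simp [memC, hy.2.2], rfl⟩⟩
  obtain ⟨q, -, hq⟩ := Finset.exists_le_card_fiber_of_mul_le_card_of_maps_to hmaps hT hO
  obtain ⟨j, hj⟩ := Finset.card_pos.mp (lt_of_lt_of_le hk0 hq)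
  simp only [O, Finset.mem_filter, Finset.mem_univ, true_and] at hj
  obtain ⟨⟨hjΓ, hjL, hju⟩, hjq⟩ := hj
  have hjj := h.sq _ hjΓ
  let M : Subgroup G := L ⊓ C
  have hju' : j * u * j = u := by rw [hju, mul_assoc, hjj, mul_one]
  let D : Subgroup G :=
    { carrier := {d | d ∈ M ∧ j * d * j ∈ M}
      one_mem' := ⟨M.one_mem, by rw [mul_one, hjj]; exact M.one_mem⟩
      mul_mem' := fun {a b} ha hb => ⟨M.mul_mem ha.1 hb.1, by
        have := M.mul_mem ha.2 hb.2
        rwa [show j * a * j * (j * b * j) = j * a * (j * j) * b * j by simp only [mul_assoc], hjj, mul_one,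
          mul_assoc j a b] at this⟩
      inv_mem' := fun {a} ha => ⟨M.inv_mem ha.1, by
        have := M.inv_mem ha.2
        rwa [mul_inv_rev, mul_inv_rev, show j⁻¹ = j from inv_eq_of_mul_eq_one_right hjj, ← mul_assoc] at this⟩ }
  have hD : ∀ {d}, d ∈ D ↔ d ∈ M ∧ j * d * j ∈ M := Iff.rfl
  have hMu : u ∈ M := ⟨huL, memC.mpr rfl⟩
  refine ⟨⟨D, j, fun d hd => ⟨(hD.mp hd).1.1, memC.mp (hD.mp hd).1.2⟩, hD.mpr ⟨hMu, by rw [hju']; exact hMu⟩,
    fun y hy hyD => ?_, hjΓ, ?_⟩⟩
  · obtain ⟨h1, h2⟩ := hD.mp hyD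
    exact hjL (h.unique _ hy h1.1 j (by rw [inv_eq_of_mul_eq_one_right hjj]; exact h2.1))
  · let F : Finset G := O.filter fun y : G => (y : G ⧸ L) = q
    have hF : ∀ y ∈ F, j * y ∈ D ∧ j * (j * y) ∈ Γ := fun y hy => by
      simp only [F, O, Finset.mem_filter, Finset.mem_univ, true_and] at hy
      obtain ⟨⟨hyΓ, hyL, hyu⟩, hyq⟩ := hy
      have e1 : j⁻¹ * y ∈ L := QuotientGroup.eq.mp (hjq.trans hyq.symm)
      have e2 : y⁻¹ * j ∈ L := QuotientGroup.eq.mp (hyq.trans hjq.symm)
      rw [inv_eq_of_mul_eq_one_right hjj] at e1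
      rw [inv_eq_of_mul_eq_one_right (h.sq _ hyΓ)] at e2
      have cy : y ∈ C := memC.mpr hyu
      have cj : j ∈ C := memC.mpr hju
      refine ⟨hD.mpr ⟨⟨e1, C.mul_mem cj cy⟩, ?_⟩, by rwa [← mul_assoc, hjj, one_mul]⟩
      rw [← mul_assoc j, hjj, one_mul]
      exact ⟨e2, C.mul_mem cy cj⟩
    refine hq.trans ?_
    rw [show (O.filter fun y : G => (y : G ⧸ L) = q) = F from rfl, ← Fintype.card_coe, ← Nat.card_eq_fintype_card]
    exact Nat.card_le_card_of_injective (fun y : F => (⟨j * y.1, hF y.1 y.2⟩ : {d : G // d ∈ D ∧ j * d ∈ Γ}))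
      fun a b e => Subtype.ext (mul_left_cancel (congrArg Subtype.val e))

/-- A product of two members of even order yields a member in the group that they generate. -/
theorem OneFix.even_product [Finite G] (h : OneFix L Γ)
    (hcom : ∀ a ∈ Γ, ∀ b ∈ Γ, a * b = b * a → a ≠ b → a * b ∈ Γ) {a b : G} (ha : a ∈ Γ) (hb : b ∈ Γ)
    (he : Even (orderOf (a * b))) : ∃ n : ℕ, (a * b) ^ n ∈ Γ := by
  obtain ⟨m, hm⟩ := he
  set r := a * b with hr
  have haa := h.sq a ha
  have hpos := orderOf_pos r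
  have hsemi : SemiconjBy a r r⁻¹ := by
    show a * r = r⁻¹ * a
    rw [hr, ← mul_assoc, haa, one_mul, mul_inv_rev, inv_eq_of_mul_eq_one_right (h.sq b hb),
      inv_eq_of_mul_eq_one_right haa, mul_assoc, haa, mul_one]
  have hinv : ∀ i : ℕ, a * r ^ i = (r ^ i)⁻¹ * a := fun i => by
    have := (hsemi.pow_right i).eq
    rwa [inv_pow] at this
  refine ⟨m, ?_⟩
  have hw2 : r ^ m * r ^ m = 1 := by rw [← pow_add, ← hm, pow_orderOf_eq_one]
  have hw1 : r ^ m ≠ 1 := fun e => by
    have := Nat.le_of_dvd (by omega) (orderOf_dvd_of_pow_eq_one e)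
    omega
  have hmem : a * r ^ m ∈ Γ := by
    rcases Nat.even_or_odd m with ⟨i, rfl⟩ | ⟨i, rfl⟩
    · rw [pow_add, ← mul_assoc, hinv]
      have := h.conj (r ^ i)⁻¹ a ha
      rwa [inv_inv] at this
    · rw [show 2 * i + 1 = i + 1 + i by omega, pow_add, pow_succ', ← mul_assoc, ← mul_assoc,
        show a * r = b by rw [hr, ← mul_assoc, haa, one_mul]]
      have e : b * r ^ i = (r ^ i)⁻¹ * b := by
        have h1 : b = a * r := by rw [hr, ← mul_assoc, haa, one_mul]
        rw [h1, mul_assoc, (Commute.self_pow r i).eq, ← mul_assoc, hinv, mul_assoc]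
      rw [e]
      have := h.conj (r ^ i)⁻¹ b hb
      rwa [inv_inv] at this
  have hc : a * (a * r ^ m) = a * r ^ m * a := by
    rw [← mul_assoc, haa, one_mul, hinv, mul_assoc, haa, mul_one, inv_eq_of_mul_eq_one_right hw2]
  have hne : a ≠ a * r ^ m := fun e => hw1 (mul_eq_left.mp e.symm)
  have := hcom a ha _ hmem hc hne
  rwa [← mul_assoc, haa, one_mul] at this

/-- The inverted elements have pairwise quotients of odd order. -/
theorem Pinch.odd_quotient [Finite G] (h : OneFix L Γ)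
    (hcom : ∀ a ∈ Γ, ∀ b ∈ Γ, a * b = b * a → a ≠ b → a * b ∈ Γ) (P : Pinch L Γ u k) {d e : G}
    (hd : d ∈ P.D) (hdΓ : P.j * d ∈ Γ) (he : e ∈ P.D) (heΓ : P.j * e ∈ Γ) : Odd (orderOf (d⁻¹ * e)) := by
  rw [← Nat.not_even_iff_odd]
  intro hev
  have e1 : P.j * d * (P.j * e) = d⁻¹ * e := by rw [← mul_assoc, P.inverted h hdΓ]
  obtain ⟨n, hn⟩ := h.even_product hcom hdΓ heΓ (by rw [e1]; exact hev)
  rw [e1] at hn
  exact P.free _ hn (P.D.pow_mem (P.D.mul_mem (P.D.inv_mem hd) he) n)

/-- More than half of a group inverted: either it is abelian or has an abelian subgroup of index two. -/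
theorem inverted_abelian [Finite G] (D : Subgroup G) (j : G) (S : Finset G) (hS : ∀ d ∈ S, d ∈ D ∧ j * d * j⁻¹ = d⁻¹)
    (hcard : 3 * Nat.card D ≤ 4 * S.card) :
    ∃ A : Subgroup G, A ≤ D ∧ (∀ a ∈ A, ∀ b ∈ A, a * b = b * a) ∧ Nat.card D ≤ 2 * Nat.card A ∧
      (4 * S.card ≠ 3 * Nat.card D → A = D) := by
  haveI : Fintype G := Fintype.ofFinite G
  set Df : Finset G := Finset.univ.filter fun x => x ∈ D with hDf
  have hDc : Df.card = Nat.card D := by
    rw [Nat.card_eq_fintype_card, Fintype.card_subtype]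
  have hsub : S ⊆ Df := fun d hd => by simp [hDf, (hS d hd).1]
  have key : ∀ x ∈ S, ∀ T : Finset G, (∀ d ∈ T, d ∈ S ∧ x * d ∈ S) → ∀ d ∈ T, x * d = d * x := by
    intro x hx T hT d hd
    obtain ⟨h1, h2⟩ := hT d hd
    have e1 := (hS x hx).2
    have e2 := (hS d h1).2
    have e3 := (hS _ h2).2
    have e4 : j * (x * d) * j⁻¹ = (j * x * j⁻¹) * (j * d * j⁻¹) := by group
    rw [e3, e1, e2, mul_inv_rev, ← mul_inv_rev, ← mul_inv_rev, inv_inj] at e4
    exact e4
  have big : ∀ x ∈ S, 2 * S.card ≤ Df.card + (S.filter fun d => x * d ∈ S).card := by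
    intro x hx
    have h2 : ((S.filter fun d => ¬ x * d ∈ S).image (x * ·)) ⊆ Df \ S := by
      intro y hy
      obtain ⟨d, hd, rfl⟩ := Finset.mem_image.mp hy
      obtain ⟨hd1, hd2⟩ := Finset.mem_filter.mp hd
      simp [hDf, hd2, D.mul_mem (hS x hx).1 (hS d hd1).1]
    have h3 := Finset.card_le_card h2
    rw [Finset.card_image_of_injective _ (mul_right_injective x), Finset.card_sdiff_of_subset hsub] at h3
    have h4 := Finset.card_filter_add_card_filter_not (s := S) (fun d => x * d ∈ S)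
    have := Finset.card_le_card hsub
    omega
  have hpos : 0 < Nat.card D := Nat.card_pos
  by_cases hcen : ∀ x ∈ S, ∀ y ∈ D, x * y = y * x
  · -- the inverted elements generate
    refine ⟨D, le_rfl, fun a ha b hb => ?_, by omega, fun _ => rfl⟩
    let Z : Subgroup G := D ⊓ Subgroup.centralizer (D : Set G)
    have hZ : (S : Set G) ⊆ Z := fun x hx => ⟨(hS x hx).1, Subgroup.mem_centralizer_iff.mpr fun y hy => (hcen x hx y hy).symm⟩
    have hZc : 4 * S.card ≤ 4 * Nat.card Z := by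
      refine Nat.mul_le_mul_left _ ?_
      rw [← Nat.card_eq_finsetCard S]
      exact Nat.card_mono (Set.toFinite _) hZ
    have hdvd : Nat.card Z ∣ Nat.card D := Subgroup.card_dvd_of_le inf_le_left
    have hZD : Z = D := Subgroup.eq_of_le_of_card_ge inf_le_left (by
      obtain ⟨c, hc⟩ := hdvd
      rcases c with _ | _ | c
      · omega
      · omega
      · have : 2 * Nat.card Z ≤ Nat.card D := by rw [hc]; nlinarith
        omega)
    have ha' : a ∈ Z := by rw [hZD]; exact ha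
    exact (Subgroup.mem_centralizer_iff.mp ha'.2 b hb).symm
  · push Not at hcen
    obtain ⟨x, hx, y, hy, hxy⟩ := hcen
    let A : Subgroup G := D ⊓ Subgroup.centralizer ({x} : Set G)
    let T : Finset G := S.filter fun d => x * d ∈ S
    have hT : ∀ d ∈ T, d ∈ A := fun d hd => ⟨(hS d (Finset.mem_filter.mp hd).1).1,
      Subgroup.mem_centralizer_singleton_iff.mpr (key x hx T (fun d hd => Finset.mem_filter.mp hd) d hd).symm⟩
    have hb := big x hx
    have hAc : T.card ≤ Nat.card A := by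
      rw [← Nat.card_eq_finsetCard T]
      exact Nat.card_mono (Set.toFinite _) hT
    have hdvd : Nat.card A ∣ Nat.card D := Subgroup.card_dvd_of_le inf_le_left
    have hne : A ≠ D := fun e => hxy (by
      have : y ∈ A := by rw [e]; exact hy
      exact (Subgroup.mem_centralizer_singleton_iff.mp this.2).symm)
    have h2A : 2 * Nat.card A ≤ Nat.card D := by
      obtain ⟨c, hc⟩ := hdvd
      rcases c with _ | _ | c
      · omega
      · exact absurd (Subgroup.eq_of_le_of_card_ge inf_le_left (by rw [hc, zero_add, Nat.mul_one])) hne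
      · rw [hc]; nlinarith
    have hDT : Df.card = Nat.card D := hDc
    refine ⟨A, inf_le_left, fun a ha b hb' => ?_, by
      have : (S.filter fun d => x * d ∈ S).card = T.card := rfl
      omega, fun hne' => by
      have : (S.filter fun d => x * d ∈ S).card = T.card := rfl
      omega⟩
    have hTA : (T : Set G) = A := by
      refine Set.eq_of_subset_of_ncard_le hT ?_ (Set.toFinite _)
      rw [Set.ncard_coe_finset, ← Nat.card_coe_set_eq]
      have : (S.filter fun d => x * d ∈ S).card = T.card := rfl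
      show Nat.card A ≤ T.card
      omega
    have inT : ∀ {c}, c ∈ A → c ∈ S := fun {c} hc => (Finset.mem_filter.mp (hTA.symm ▸ hc : c ∈ (T : Set G))).1
    have e1 := (hS a (inT ha)).2
    have e2 := (hS b (inT hb')).2
    have e3 := (hS _ (inT (A.mul_mem ha hb'))).2
    have e4 : j * (a * b) * j⁻¹ = (j * a * j⁻¹) * (j * b * j⁻¹) := by group
    rw [e3, e1, e2, mul_inv_rev, ← mul_inv_rev, ← mul_inv_rev, inv_inj] at e4
    exact e4

end Cfsg.Lib.HeldType
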