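import Cfsg.Agent.HeldType.Cent

/-!
Evaluations of words of codes and of their conjugates.
-/

set_option autoImplicit false

namespace Cfsg.Lib.HeldType

/-- The code of a word in three letters. -/
def ev (a : Tab ℕ) (w : List ℕ) : ℕ := cProd (w.map a.get)

variable {G : Type*} [Group G] (S : Setting G)

theorem Setting.η_one : S.η cOne = 1 := by
  have h : cm cOne cOne = cOne := by decide +kernel
  have h1 := S.η_mul valid_one valid_one
  rw [h] at h1
  exact mul_eq_left.mp h1.symm

theorem valid_cProd : ∀ {l : List ℕ}, (∀ c ∈ l, valid c = true) → valid (cProd l) = true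
  | [], _ => valid_one
  | c :: l, h => valid_cm (h c List.mem_cons_self) (valid_cProd fun d hd => h d (List.mem_cons_of_mem _ hd))

theorem Setting.η_cProd : ∀ {l : List ℕ}, (∀ c ∈ l, valid c = true) → S.η (cProd l) = (l.map S.η).prod
  | [], _ => S.η_one
  | c :: l, h => by
    rw [cProd, S.η_mul (h c List.mem_cons_self) (valid_cProd fun d hd => h d (List.mem_cons_of_mem _ hd)),
      η_cProd fun d hd => h d (List.mem_cons_of_mem _ hd), List.map_cons, List.prod_cons]

theorem Setting.conj_mul {t : G} {a b a' b' : ℕ} (ha : valid a = true) (hb : valid b = true) (ha' : valid a' = true)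
    (hb' : valid b' = true) (h1 : t * S.η a = S.η a' * t) (h2 : t * S.η b = S.η b' * t) :
    t * S.η (cm a b) = S.η (cm a' b') * t := by
  rw [S.η_mul ha hb, S.η_mul ha' hb', ← mul_assoc, h1, mul_assoc, h2, ← mul_assoc]

theorem Setting.conj_ev {t : G} {g a : Tab ℕ} {w : List ℕ}
    (hg : ∀ i ∈ w, valid (g.get i) = true ∧ valid (a.get i) = true ∧ t * S.η (g.get i) = S.η (a.get i) * t) :
    t * S.η (ev g w) = S.η (ev a w) * t ∧ valid (ev g w) = true ∧ valid (ev a w) = true := by
  induction w with
  | nil =>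
    refine ⟨?_, valid_one, valid_one⟩
    show t * S.η cOne = S.η cOne * t
    rw [S.η_one, mul_one, one_mul]
  | cons i w ih =>
    obtain ⟨h1, h2, h3⟩ := ih fun j hj => hg j (List.mem_cons_of_mem _ hj)
    obtain ⟨a1, a2, a3⟩ := hg i List.mem_cons_self
    exact ⟨S.conj_mul a1 h2 a2 h3 a3 h1, valid_cm a1 h2, valid_cm a2 h3⟩

theorem Setting.conj_unique {t : G} {a b b' : ℕ} (hb : valid b = true) (hb' : valid b' = true)
    (h : t * S.η a = S.η b * t) (h' : t * S.η a = S.η b' * t) : b = b' :=
  S.η_inj hb hb' (mul_right_cancel (h.symm.trans h'))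

theorem Setting.conj_shift {t : G} {r a b c : ℕ} (hr : valid r = true) (hb : valid b = true) (hc : valid c = true)
    (h : t * S.η a = S.η b * t) (he : cm r c = cm b r) :
    ((S.η r)⁻¹ * t) * S.η a = S.η c * ((S.η r)⁻¹ * t) := by
  have h1 : S.η r * S.η c = S.η b * S.η r := by rw [← S.η_mul hr hc, ← S.η_mul hb hr, he]
  rw [mul_assoc, h, ← mul_assoc, ← mul_assoc]
  congr 1
  rw [inv_mul_eq_iff_eq_mul, ← mul_assoc, h1, mul_inv_cancel_right]

theorem Setting.z_comm_η {a : ℕ} (ha : valid a = true) : Commute S.z (S.η a) := (S.η_comm ha).symm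

theorem Setting.η_comm_η {a b : ℕ} (ha : valid a = true) (hb : valid b = true) (h : cm a b = cm b a) :
    S.η a * S.η b = S.η b * S.η a := by rw [← S.η_mul ha hb, ← S.η_mul hb ha, h]

end Cfsg.Lib.HeldType
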