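import Cfsg.Agent.HeldType.Loops

/-!
Certificates for enumerations of double cosets.
-/

set_option autoImplicit false
set_option maxRecDepth 100000

namespace Cfsg.Lib.HeldType

/-- A fact: a coset moved by a code, perhaps by an interchanging element, is another one. -/
structure Fct where
  a : ℕ
  h : ℕ
  t : Option Bool
  b : ℕ
  g : ℕ

/-- A step of a path. -/
inductive Op where
  | mul
  | plain (f c : ℕ) (rev : Bool)
  | edge (f k : ℕ) (rev : Bool)

/-- The reason of a fact. -/
inductive Src where
  | dfn
  | root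
  | rel (n h i : ℕ) (A : List Op)
  | eq (n h : ℕ) (A B : List Op)
  | mov (n h : ℕ) (b : Bool) (A : List Op)
  | eqT (n h : ℕ) (b : Bool) (A B : List Op)

/-- The data of an enumeration. -/
structure EnumD where
  nv : ℕ
  defs : Tab (ℕ × ℕ × Bool)
  nf : ℕ
  facts : Tab Fct
  src : Tab Src
  rels : List (List Let)

/-- A step along a fact. -/
def stepOp (P : Pars) (T : Tab Fct) (k : ℕ) : Op → ℕ → ℕ → List Let → Option (ℕ × ℕ × List Let)
  | .mul, n, h, .h c :: ls => bif valid c then some (n, cm h c, ls) else none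
  | .plain f c rev, n, h, ls =>
    let F := T.get f
    match F.t with
    | none =>
      bif Nat.blt f k && valid c then
        (bif rev then
          (bif Nat.beq n F.b && Nat.beq h (cm F.g c) then some (F.a, cm F.h c, ls) else none)
        else
          (bif Nat.beq n F.a && Nat.beq h (cm F.h c) then some (F.b, cm F.g c, ls) else none))
      else none
    | some _ => none
  | .edge f r rev, n, h, .t b :: ls =>
    let F := T.get f
    match F.t with
    | none => none
    | some b' =>
      bif Nat.blt f k && (b == b') && Nat.blt r (P.side b).C.n then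
        (let y := ((P.side b).fwd.get (P.opt b)).get r
         let x := (P.side b).C.el.get r
         bif rev then
          (bif Nat.beq n F.b && Nat.beq h (cm F.g y) then some (F.a, cm (cm F.h (P.sq b)) x, ls) else none)
        else
          (bif Nat.beq n F.a && Nat.beq h (cm F.h y) then some (F.b, cm F.g x, ls) else none))
      else none
  | _, _, _, _ => none

/-- A walk. -/
def walkOps (P : Pars) (T : Tab Fct) (k : ℕ) : List Op → ℕ → ℕ → List Let → Option (ℕ × ℕ)
  | [], n, h, [] => some (n, h)
  | [], _, _, _ :: _ => none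
  | o :: A, n, h, ls => match stepOp P T k o n h ls with
    | some (n', h', ls') => walkOps P T k A n' h' ls'
    | none => none

/-- The ends of a plain fact. -/
def isPlain (F : Fct) (p q : Option (ℕ × ℕ)) : Bool :=
  F.t.isNone && (match p, q with
    | some a, some b => Nat.beq F.a a.1 && Nat.beq F.h a.2 && Nat.beq F.b b.1 && Nat.beq F.g b.2
    | _, _ => false)

/-- The check of one fact. -/
def EnumD.okAt (E : EnumD) (P : Pars) (k : ℕ) : Bool :=
  let F := E.facts.get k
  let W := walkOps P E.facts k
  valid F.h && valid F.g &&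
  match E.src.get k with
  | .dfn => Nat.blt 0 F.b && Nat.blt F.b E.nv &&
      (let d := E.defs.get F.b
       Nat.beq F.a d.1 && Nat.beq F.h d.2.1 && Nat.beq F.g cOne &&
       (match F.t with | some b => b == d.2.2 | none => false))
  | .root => F.t.isNone && Nat.beq F.a 0 && Nat.beq F.b 0
  | .rel n h i A => valid h && (match E.rels[i]? with
      | some w => isPlain F (some (n, h)) (W A n h w)
      | none => false)
  | .eq n h A B => valid h && isPlain F (W A n h []) (W B n h [])
  | .mov n h b A => valid h && Nat.beq F.a n && Nat.beq F.h h &&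
      (match F.t with | some b' => b == b' | none => false) &&
      (match W A n h [.t b] with | some q => Nat.beq F.b q.1 && Nat.beq F.g q.2 | none => false)
  | .eqT n h b A B => valid h && isPlain F (W A n h [.t b]) (W B n h [.t b])

/-- The checks of the definitions. -/
def EnumD.okDefs (E : EnumD) : Bool :=
  allR (fun m => Nat.blt (E.defs.get m).1 m && valid (E.defs.get m).2.1) 1 (E.nv - 1) &&
  E.rels.all okWord

/-- A group generated by images of the codes and of two interchanging elements. -/
structure Sys (P : Pars) (X : Type*) [Group X] where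
  f : ℕ → X
  T : Bool → X
  f_mul : ∀ {a b : ℕ}, valid a = true → valid b = true → f (cm a b) = f a * f b
  twist : ∀ b, ∀ k < (P.side b).C.n, T b * f ((P.side b).C.el.get k) = f (((P.side b).fwd.get (P.opt b)).get k) * T b
  el_valid : ∀ b, ∀ k < (P.side b).C.n, valid ((P.side b).C.el.get k) = true ∧
    valid (((P.side b).fwd.get (P.opt b)).get k) = true
  sq_eq : ∀ b, T b * T b = f (P.sq b)
  sq_valid : ∀ b, valid (P.sq b) = true

variable {P : Pars} {X : Type*} [Group X] (Y : Sys P X)

/-- The value of a word. -/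
def Sys.val (w : List Let) : X := (w.map fun l => match l with | .h c => Y.f c | .t b => Y.T b).prod

theorem Sys.f_one : Y.f cOne = 1 := by
  have h : cm cOne cOne = cOne := by decide +kernel
  have h1 := Y.f_mul valid_one valid_one
  rw [h] at h1
  exact mul_eq_left.mp h1.symm

/-- The image of the codes. -/
def Sys.K : Subgroup X := Subgroup.closure {x | ∃ c, valid c = true ∧ Y.f c = x}

theorem Sys.f_mem {c : ℕ} (h : valid c = true) : Y.f c ∈ Y.K := Subgroup.subset_closure ⟨c, h, rfl⟩

/-- Two elements in one coset. -/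
def Sys.Eqv (g h : X) : Prop := g * h⁻¹ ∈ Y.K

variable {Y}

theorem Sys.Eqv.rfl' (g : X) : Y.Eqv g g := by
  show g * g⁻¹ ∈ Y.K
  rw [mul_inv_cancel]
  exact Y.K.one_mem

theorem Sys.Eqv.symm {g h : X} (e : Y.Eqv g h) : Y.Eqv h g := by
  have := Y.K.inv_mem e
  rwa [mul_inv_rev, inv_inv] at this

theorem Sys.Eqv.trans {g h k : X} (e : Y.Eqv g h) (e' : Y.Eqv h k) : Y.Eqv g k := by
  have h2 := Y.K.mul_mem e e'
  rwa [mul_assoc, inv_mul_cancel_left] at h2

theorem Sys.Eqv.mul_right {g h : X} (e : Y.Eqv g h) (k : X) : Y.Eqv (g * k) (h * k) := by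
  show g * k * (h * k)⁻¹ ∈ Y.K
  rwa [mul_inv_rev, mul_assoc, mul_inv_cancel_left]

variable (Y)

/-- The coset representatives, with fuel. -/
def Sys.vAux (E : EnumD) : ℕ → ℕ → X
  | 0, _ => 1
  | n + 1, m => bif Nat.beq m 0 then 1 else
      Sys.vAux E n (E.defs.get m).1 * Y.f (E.defs.get m).2.1 * Y.T (E.defs.get m).2.2

/-- The coset representatives. -/
def Sys.v (E : EnumD) (m : ℕ) : X := Y.vAux E m m

theorem Sys.vAux_stable {E : EnumD} (h : E.okDefs = true) : ∀ n m, m ≤ n → m < E.nv → Y.vAux E n m = Y.v E m := by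
  intro n
  induction n using Nat.strong_induction_on with
  | _ n ih =>
    intro m hmn hm
    rcases n with _ | n
    · obtain rfl : m = 0 := by omega
      rfl
    rcases m with _ | m
    · rfl
    simp only [EnumD.okDefs, Bool.and_eq_true] at h
    have hd := allR_sound _ _ _ h.1 (m + 1) (by omega) (by omega)
    simp only [Bool.and_eq_true, Nat.blt_eq] at hd
    show (bif Nat.beq (m + 1) 0 then (1 : X) else _) = Y.vAux E (m + 1) (m + 1)
    rw [show Nat.beq (m + 1) 0 = false from rfl, cond_false]
    conv_rhs => rw [Sys.vAux, show Nat.beq (m + 1) 0 = false from rfl, cond_false]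
    have ha : (E.defs.get (m + 1)).1 < E.nv := by omega
    rw [ih n (by omega) _ (by omega) ha, ih m (by omega) _ (by omega) ha]

theorem Sys.v_zero (E : EnumD) : Y.v E 0 = 1 := rfl

theorem Sys.v_def {E : EnumD} (h : E.okDefs = true) {m : ℕ} (h0 : 0 < m) (hm : m < E.nv) :
    Y.v E m = Y.v E (E.defs.get m).1 * Y.f (E.defs.get m).2.1 * Y.T (E.defs.get m).2.2 := by
  obtain ⟨n, rfl⟩ : ∃ n, m = n + 1 := ⟨m - 1, by omega⟩
  have hd : (E.defs.get (n + 1)).1 < n + 1 := by
    have h' := h
    simp only [EnumD.okDefs, Bool.and_eq_true] at h'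
    have := allR_sound _ _ _ h'.1 (n + 1) (by omega) (by omega)
    simp only [Bool.and_eq_true, Nat.blt_eq] at this
    exact this.1
  rw [show Y.v E (n + 1) = Y.vAux E (n + 1) (n + 1) from rfl, Sys.vAux, show Nat.beq (n + 1) 0 = false from rfl,
    cond_false, Y.vAux_stable h n _ (by omega) (by omega)]

/-- The meaning of a fact. -/
def Sys.FOK (E : EnumD) (F : Fct) : Prop := valid F.h = true ∧ valid F.g = true ∧
  match F.t with
  | none => Y.Eqv (Y.v E F.a * Y.f F.h) (Y.v E F.b * Y.f F.g)
  | some b => Y.Eqv (Y.v E F.a * Y.f F.h * Y.T b) (Y.v E F.b * Y.f F.g)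

theorem Sys.stepOp_sound {E : EnumD} {k : ℕ} (hlt : ∀ j < k, Y.FOK E (E.facts.get j)) {o : Op} {n h : ℕ}
    {ls : List Let} {n' h' : ℕ} {ls' : List Let} (hok : okWord ls = true) (hv : valid h = true)
    (hs : stepOp P E.facts k o n h ls = some (n', h', ls')) :
    valid h' = true ∧ okWord ls' = true ∧ ∀ g, Y.Eqv g (Y.v E n * Y.f h) →
      ∃ g', g * Y.val ls = g' * Y.val ls' ∧ Y.Eqv g' (Y.v E n' * Y.f h') := by
  cases o with
  | mul =>
    match ls, hs, hok with
    | .h c :: l, hs, hok =>
      simp only [stepOp] at hs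
      simp only [okWord, List.all_cons, Bool.and_eq_true] at hok
      rw [hok.1, cond_true, Option.some.injEq] at hs
      simp only [Prod.mk.injEq] at hs
      obtain ⟨rfl, rfl, rfl⟩ := hs
      refine ⟨valid_cm hv hok.1, hok.2, fun g hg => ⟨g * Y.f c, by simp [Sys.val, mul_assoc], ?_⟩⟩
      rw [Y.f_mul hv hok.1, ← mul_assoc]
      exact hg.mul_right _
  | plain f c rev =>
    simp only [stepOp] at hs
    cases ht : (E.facts.get f).t with
    | some b => rw [ht] at hs; simp at hs
    | none =>
      rw [ht] at hs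
      simp only at hs
      cases hb : (Nat.blt f k && valid c) with
      | false => rw [hb] at hs; simp at hs
      | true =>
        rw [hb, cond_true] at hs
        simp only [Bool.and_eq_true, Nat.blt_eq] at hb
        obtain ⟨F1, F2, F3⟩ := hlt f hb.1
        simp only [ht] at F3
        cases rev with
        | false =>
          simp only [cond_false] at hs
          cases hc : (Nat.beq n (E.facts.get f).a && Nat.beq h (cm (E.facts.get f).h c)) with
          | false => rw [hc] at hs; simp at hs
          | true =>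
            rw [hc, cond_true, Option.some.injEq, Prod.mk.injEq, Prod.mk.injEq] at hs
            obtain ⟨rfl, rfl, rfl⟩ := hs
            simp only [Bool.and_eq_true] at hc
            refine ⟨valid_cm F2 hb.2, hok, fun g hg => ⟨g, rfl, hg.trans ?_⟩⟩
            rw [Nat.eq_of_beq_eq_true hc.1, Nat.eq_of_beq_eq_true hc.2, Y.f_mul F1 hb.2, Y.f_mul F2 hb.2,
              ← mul_assoc, ← mul_assoc]
            exact F3.mul_right _
        | true =>
          simp only [cond_true] at hs
          cases hc : (Nat.beq n (E.facts.get f).b && Nat.beq h (cm (E.facts.get f).g c)) with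
          | false => rw [hc] at hs; simp at hs
          | true =>
            rw [hc, cond_true, Option.some.injEq, Prod.mk.injEq, Prod.mk.injEq] at hs
            obtain ⟨rfl, rfl, rfl⟩ := hs
            simp only [Bool.and_eq_true] at hc
            refine ⟨valid_cm F1 hb.2, hok, fun g hg => ⟨g, rfl, hg.trans ?_⟩⟩
            rw [Nat.eq_of_beq_eq_true hc.1, Nat.eq_of_beq_eq_true hc.2, Y.f_mul F1 hb.2, Y.f_mul F2 hb.2,
              ← mul_assoc, ← mul_assoc]
            exact F3.symm.mul_right _
  | edge f r rev =>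
    match ls, hs, hok with
    | .t b :: l, hs, hok =>
      simp only [stepOp] at hs
      simp only [okWord, List.all_cons, Bool.true_and] at hok
      cases ht : (E.facts.get f).t with
      | none => rw [ht] at hs; simp at hs
      | some b' =>
        rw [ht] at hs
        simp only at hs
        cases hb : (Nat.blt f k && (b == b') && Nat.blt r (P.side b).C.n) with
        | false => rw [hb] at hs; simp at hs
        | true =>
          rw [hb, cond_true] at hs
          simp only [Bool.and_eq_true, Nat.blt_eq, beq_iff_eq] at hb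
          obtain ⟨⟨hf, rfl⟩, hr⟩ := hb
          obtain ⟨F1, F2, F3⟩ := hlt f hf
          simp only [ht] at F3
          obtain ⟨vx, vy⟩ := Y.el_valid b r hr
          have tw := Y.twist b r hr
          cases rev with
          | false =>
            simp only [cond_false] at hs
            cases hc : (Nat.beq n (E.facts.get f).a &&
                Nat.beq h (cm (E.facts.get f).h (((P.side b).fwd.get (P.opt b)).get r))) with
            | false => rw [hc] at hs; simp at hs
            | true =>
              rw [hc, cond_true, Option.some.injEq, Prod.mk.injEq, Prod.mk.injEq] at hs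
              obtain ⟨rfl, rfl, rfl⟩ := hs
              simp only [Bool.and_eq_true] at hc
              refine ⟨valid_cm F2 vx, hok, fun g hg => ⟨g * Y.T b, by simp [Sys.val, mul_assoc], ?_⟩⟩
              refine (hg.mul_right (Y.T b)).trans ?_
              rw [Nat.eq_of_beq_eq_true hc.1, Nat.eq_of_beq_eq_true hc.2, Y.f_mul F1 vy, Y.f_mul F2 vx,
                ← mul_assoc, mul_assoc _ _ (Y.T b), ← tw, ← mul_assoc, ← mul_assoc]
              exact F3.mul_right _
          | true =>
            simp only [cond_true] at hs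
            cases hc : (Nat.beq n (E.facts.get f).b &&
                Nat.beq h (cm (E.facts.get f).g (((P.side b).fwd.get (P.opt b)).get r))) with
            | false => rw [hc] at hs; simp at hs
            | true =>
              rw [hc, cond_true, Option.some.injEq, Prod.mk.injEq, Prod.mk.injEq] at hs
              obtain ⟨rfl, rfl, rfl⟩ := hs
              simp only [Bool.and_eq_true] at hc
              refine ⟨valid_cm (valid_cm F1 (Y.sq_valid b)) vx, hok,
                fun g hg => ⟨g * Y.T b, by simp [Sys.val, mul_assoc], ?_⟩⟩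
              refine (hg.mul_right (Y.T b)).trans ?_
              rw [Nat.eq_of_beq_eq_true hc.1, Nat.eq_of_beq_eq_true hc.2, Y.f_mul F2 vy, ← mul_assoc,
                mul_assoc _ _ (Y.T b), ← tw, ← mul_assoc, Y.f_mul (valid_cm F1 (Y.sq_valid b)) vx,
                Y.f_mul F1 (Y.sq_valid b), ← Y.sq_eq b]
              refine ((F3.symm.mul_right (Y.T b)).mul_right _).trans ?_
              simp only [mul_assoc]
              exact Sys.Eqv.rfl' _

theorem Sys.walk_sound {E : EnumD} {k : ℕ} (hlt : ∀ j < k, Y.FOK E (E.facts.get j)) :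
    ∀ {A : List Op} {n h : ℕ} {ls : List Let} {q : ℕ × ℕ}, okWord ls = true → valid h = true →
      walkOps P E.facts k A n h ls = some q → valid q.2 = true ∧
        ∀ g, Y.Eqv g (Y.v E n * Y.f h) → Y.Eqv (g * Y.val ls) (Y.v E q.1 * Y.f q.2)
  | [], n, h, [], q, _, hv, hw => by
    simp only [walkOps, Option.some.injEq] at hw
    subst hw
    exact ⟨hv, fun g hg => by simpa [Sys.val] using hg⟩
  | [], n, h, _ :: _, q, _, _, hw => by simp [walkOps] at hw
  | o :: A, n, h, ls, q, hok, hv, hw => by
    simp only [walkOps] at hw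
    cases hs : stepOp P E.facts k o n h ls with
    | none => rw [hs] at hw; simp at hw
    | some p =>
      obtain ⟨n', h', ls'⟩ := p
      rw [hs] at hw
      obtain ⟨a, b, c⟩ := Y.stepOp_sound hlt hok hv hs
      obtain ⟨d, e⟩ := walk_sound hlt b a hw
      refine ⟨d, fun g hg => ?_⟩
      obtain ⟨g', hg', hg''⟩ := c g hg
      rw [hg']
      exact e g' hg''

theorem isPlain_sound {F : Fct} {p q : Option (ℕ × ℕ)} (h : isPlain F p q = true) :
    F.t = none ∧ p = some (F.a, F.h) ∧ q = some (F.b, F.g) := by
  simp only [isPlain, Bool.and_eq_true, Option.isNone_iff_eq_none] at h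
  rcases p with _ | ⟨a, a'⟩ <;> rcases q with _ | ⟨b, b'⟩ <;> simp at h
  obtain ⟨ht, ⟨⟨h1, h2⟩, h3⟩, h4⟩ := h
  exact ⟨ht, by rw [h1, h2], by rw [h3, h4]⟩

theorem Sys.fact_sound {E : EnumD} (hd : E.okDefs = true) (hrel : ∀ w ∈ E.rels, Y.val w = 1) {k : ℕ}
    (h : ∀ j ≤ k, E.okAt P j = true) : Y.FOK E (E.facts.get k) := by
  induction k using Nat.strong_induction_on with
  | _ k ih =>
    have hlt : ∀ j < k, Y.FOK E (E.facts.get j) := fun j hj => ih j hj fun i hi => h i (by omega)
    have hk := h k le_rfl
    simp only [EnumD.okAt, Bool.and_eq_true] at hk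
    obtain ⟨⟨hh, hg⟩, hk⟩ := hk
    refine ⟨hh, hg, ?_⟩
    set F := E.facts.get k with hF
    cases hs : E.src.get k with
    | dfn =>
      simp only [hs, Bool.and_eq_true, Nat.blt_eq] at hk
      obtain ⟨⟨h0, hn⟩, ⟨⟨ha, hh'⟩, hg'⟩, ht⟩ := hk
      cases hFt : F.t with
      | none => rw [hFt] at ht; simp at ht
      | some b =>
        rw [hFt] at ht
        show Y.Eqv _ _
        rw [Nat.eq_of_beq_eq_true ha, Nat.eq_of_beq_eq_true hh', Nat.eq_of_beq_eq_true hg', Y.f_one, mul_one,
          Y.v_def hd h0 hn, eq_of_beq ht]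
        exact Sys.Eqv.rfl' _
    | root =>
      simp only [hs, Bool.and_eq_true, Option.isNone_iff_eq_none] at hk
      obtain ⟨⟨ht, ha⟩, hb⟩ := hk
      rw [ht]
      show Y.Eqv _ _
      rw [Nat.eq_of_beq_eq_true ha, Nat.eq_of_beq_eq_true hb, Y.v_zero, one_mul, one_mul]
      exact Y.K.mul_mem (Y.f_mem hh) (Y.K.inv_mem (Y.f_mem hg))
    | rel n c i A =>
      simp only [hs, Bool.and_eq_true] at hk
      obtain ⟨hc, hk⟩ := hk
      cases hi : E.rels[i]? with
      | none => rw [hi] at hk; simp at hk
      | some w =>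
        rw [hi] at hk
        obtain ⟨ht, h1, h2⟩ := isPlain_sound hk
        have hw : w ∈ E.rels := List.mem_of_getElem? hi
        simp only [EnumD.okDefs, Bool.and_eq_true, List.all_eq_true] at hd
        obtain ⟨-, e⟩ := Y.walk_sound hlt (hd.2 w hw) hc h2
        rw [ht]
        simp only [Option.some.injEq, Prod.mk.injEq] at h1
        show Y.Eqv _ _
        rw [← h1.1, ← h1.2]
        have := e _ (Sys.Eqv.rfl' _)
        rwa [hrel w hw, mul_one] at this
    | eq n c A B =>
      simp only [hs, Bool.and_eq_true] at hk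
      obtain ⟨hc, hk⟩ := hk
      obtain ⟨ht, h1, h2⟩ := isPlain_sound hk
      obtain ⟨-, e1⟩ := Y.walk_sound hlt rfl hc h1
      obtain ⟨-, e2⟩ := Y.walk_sound hlt rfl hc h2
      rw [ht]
      exact (e1 _ (Sys.Eqv.rfl' _)).symm.trans (e2 _ (Sys.Eqv.rfl' _))
    | mov n c b A =>
      simp only [hs, Bool.and_eq_true] at hk
      obtain ⟨⟨⟨⟨hc, ha⟩, hh'⟩, ht⟩, hw⟩ := hk
      cases hFt : F.t with
      | none => rw [hFt] at ht; simp at ht
      | some b' =>
        rw [hFt] at ht
        obtain rfl := eq_of_beq ht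
        cases hq : walkOps P E.facts k A n c [.t b] with
        | none => rw [hq] at hw; simp at hw
        | some q =>
          rw [hq] at hw
          simp only [Bool.and_eq_true] at hw
          obtain ⟨-, e⟩ := Y.walk_sound hlt rfl hc hq
          show Y.Eqv _ _
          rw [Nat.eq_of_beq_eq_true hw.1, Nat.eq_of_beq_eq_true hw.2, Nat.eq_of_beq_eq_true ha,
            Nat.eq_of_beq_eq_true hh']
          simpa [Sys.val] using e _ (Sys.Eqv.rfl' _)
    | eqT n c b A B =>
      simp only [hs, Bool.and_eq_true] at hk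
      obtain ⟨hc, hk⟩ := hk
      obtain ⟨ht, h1, h2⟩ := isPlain_sound hk
      obtain ⟨-, e1⟩ := Y.walk_sound hlt rfl hc h1
      obtain ⟨-, e2⟩ := Y.walk_sound hlt rfl hc h2
      rw [ht]
      exact (e1 _ (Sys.Eqv.rfl' _)).symm.trans (e2 _ (Sys.Eqv.rfl' _))

/-- All facts hold. -/
theorem Sys.all_facts {E : EnumD} (hd : E.okDefs = true) (hrel : ∀ w ∈ E.rels, Y.val w = 1)
    (h : allR (E.okAt P) 0 E.nf = true) : ∀ k < E.nf, Y.FOK E (E.facts.get k) :=
  fun k hk => Y.fact_sound hd hrel fun j hj => allR_sound _ _ _ h j (Nat.zero_le _) (by omega)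

theorem Sys.collapse {E : EnumD} (hd : E.okDefs = true) (hrel : ∀ w ∈ E.rels, Y.val w = 1)
    (h : allR (E.okAt P) 0 E.nf = true) {k : ℕ} (hk : k < E.nf) {b : Bool}
    (hc : (E.facts.get k).a = 0 ∧ (E.facts.get k).b = 0 ∧ (E.facts.get k).t = some b) : Y.T b ∈ Y.K := by
  obtain ⟨h1, h2, h3⟩ := Y.all_facts hd hrel h k hk
  obtain ⟨ca, cb, ct⟩ := hc
  rw [ct] at h3
  change Y.Eqv _ _ at h3
  rw [ca, cb, Y.v_zero, one_mul, one_mul] at h3
  have h4 := Y.K.mul_mem (Y.K.mul_mem (Y.K.inv_mem (Y.f_mem h1)) h3) (Y.f_mem h2)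
  rwa [mul_assoc (Y.f (E.facts.get k).h)⁻¹, inv_mul_cancel_right, inv_mul_cancel_left] at h4

end Cfsg.Lib.HeldType
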