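import Cfsg.Agent.HeldType.Enum

/-!
The bound on the order given by a closed enumeration.
-/

set_option autoImplicit false
set_option maxRecDepth 100000

namespace Cfsg.Lib.HeldType

/-- The data of a node of a closed enumeration. -/
structure NodeD where
  node : ℕ
  n : ℕ
  els : Tab ℕ
  eix : BT ℕ
  how : Tab (ℕ × ℕ)
  edges : Bool → Tab ℕ

/-- The data of a closed enumeration. -/
structure BoundD where
  nodes : List NodeD
  finv : Bool → Tab ℕ
  total : ℕ

/-- The number of cosets in a node. -/
def NodeD.cost (N : NodeD) : ℕ := bif Nat.beq N.node 0 then 1 else 21504 / N.n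

/-- The stabiliser of a node is as tabulated. -/
def NodeD.okStab (N : NodeD) (E : EnumD) : Bool :=
  Nat.beq N.node 0 || (Nat.blt 0 N.n && Nat.beq (N.els.get 0) cOne &&
    allR (fun i =>
      let p := N.how.get i
      let F := E.facts.get p.1
      Nat.blt p.1 E.nf && Nat.blt p.2 i && F.t.isNone && Nat.beq F.a N.node && Nat.beq F.b N.node &&
        Nat.beq F.h cOne && Nat.beq (N.els.get i) (cm F.g (N.els.get p.2))) 1 (N.n - 1) &&
    allR (fun i => valid (N.els.get i) &&
      match N.eix.find (N.els.get i) with | some j => Nat.beq i j | none => false) 0 N.n)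

/-- The edges of a node end in the given nodes. -/
def NodeD.okEdges (N : NodeD) (E : EnumD) (P : Pars) (live : List ℕ) (b : Bool) : Bool :=
  allR (fun j =>
    let f := (N.edges b).get j
    let F := E.facts.get f
    Nat.blt f E.nf && Nat.beq F.a N.node && Nat.beq F.h ((P.side b).C.orb.get j).2 &&
      (match F.t with | some b' => b == b' | none => false) && live.any (Nat.beq F.b)) 0 (P.side b).C.N

/-- The check of a closed enumeration. -/
def BoundD.ok (B : BoundD) (E : EnumD) (P : Pars) : Bool :=
  (B.nodes.any fun N => Nat.beq N.node 0) &&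
  Nat.ble (B.nodes.map NodeD.cost).sum B.total &&
  (B.nodes.all fun N => N.okStab E && N.okEdges E P (B.nodes.map NodeD.node) false &&
    N.okEdges E P (B.nodes.map NodeD.node) true) &&
  ([false, true].all fun b => allR (fun k => Nat.blt ((B.finv b).get k) (P.side b).C.n &&
    Nat.beq (((P.side b).fwd.get (P.opt b)).get ((B.finv b).get k)) ((P.side b).C.el.get k)) 0 (P.side b).C.n)

/-- Every code is a product of an orbit representative and an element of the centraliser. -/
theorem CentData.decompose {D : CentData} (h : D.ok = true) {c : ℕ} (hc : valid c = true) :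
    ∃ j < D.N, ∃ k < D.n, c = cm (D.orb.get j).2 (D.el.get k) := by
  classical
  have hmono : ∀ i j, i < j → j < D.N → (D.orb.get i).1 < (D.orb.get j).1 := by
    intro i j hij hj
    induction j with
    | zero => omega
    | succ j ih =>
      rcases Nat.eq_or_lt_of_le (Nat.le_of_lt_succ hij) with rfl | h1
      · exact (orb_ok h (by omega)).2.2.1 hj
      · exact lt_trans (ih h1 (by omega)) ((orb_ok h (by omega)).2.2.1 hj)
  have hm : ∀ a : ℕ, mat (a % 2 ^ 25) = mat a := fun a => by
    ext i j
    have := i.isLt; have := j.isLt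
    simp only [mat, Matrix.of_apply, Nat.testBit_mod_two_pow]
    rw [show decide (5 * i.val + j.val < 25) = true from decide_eq_true (by omega), Bool.true_and]
  have hv : ∀ p : Fin D.N × Fin D.n, valid (cm (D.orb.get p.1.val).2 (D.el.get p.2.val)) = true := fun p =>
    valid_cm (orb_ok h p.1.isLt).1 (el_ok h p.2.isLt).1
  let f : Fin D.N × Fin D.n → Fin 21504 := fun p => ⟨kOf (cm (D.orb.get p.1.val).2 (D.el.get p.2.val)), by
    have := hv p
    simp only [valid, Bool.and_eq_true, Nat.blt_eq] at this
    exact this.1⟩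
  have hf : Function.Injective f := fun p q hpq => by
    have h1 : cm (D.orb.get p.1.val).2 (D.el.get p.2.val) = cm (D.orb.get q.1.val).2 (D.el.get q.2.val) := by
      have a := hv p; have b := hv q
      simp only [valid, Bool.and_eq_true] at a b
      rw [← Nat.eq_of_beq_eq_true a.2, ← Nat.eq_of_beq_eq_true b.2]
      exact congrArg (fun x : Fin 21504 => cOf x.val) hpq
    have key : ∀ r : Fin D.N × Fin D.n, cm (cm (D.orb.get r.1.val).2 (D.el.get r.2.val)) D.x =
        cm (D.orb.get r.1.val).1 (cm (D.orb.get r.1.val).2 (D.el.get r.2.val)) := fun r => by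
      rw [cm_assoc, (el_ok h r.2.isLt).2.1, ← cm_assoc, (orb_ok h r.1.isLt).2.1, cm_assoc]
    have h2 := key p
    rw [h1, key q] at h2
    obtain ⟨w, -, hw⟩ := exists_el (hv q)
    have h4 := congrArg mat h2
    rw [mat_cm (D.orb.get q.1.val).1, mat_cm (D.orb.get p.1.val).1, ← hw] at h4
    have h5 := congrArg (fun M => M * (w⁻¹ : SL5).1) h4
    simp only [mul_assoc] at h5
    rw [← Matrix.SpecialLinearGroup.coe_mul, mul_inv_cancel, Matrix.SpecialLinearGroup.coe_one, mul_one, mul_one,
      ← hm (D.orb.get q.1.val).1, ← hm (D.orb.get p.1.val).1] at h5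
    have h3 := mat_inj (Nat.mod_lt _ (by norm_num)) (Nat.mod_lt _ (by norm_num)) h5
    rw [Nat.mod_eq_of_lt (orb_ok h q.1.isLt).2.2.2, Nat.mod_eq_of_lt (orb_ok h p.1.isLt).2.2.2] at h3
    have hi : p.1 = q.1 := Fin.ext (by
      rcases Nat.lt_trichotomy p.1.val q.1.val with hl | hl | hl
      · exact absurd h3.symm (ne_of_lt (hmono _ _ hl q.1.isLt))
      · exact hl
      · exact absurd h3 (ne_of_lt (hmono _ _ hl p.1.isLt)))
    refine Prod.ext hi (Fin.ext ?_)
    rw [hi] at h1
    have h6 := cm_left_cancel (orb_ok h q.1.isLt).1 (el_ok h p.2.isLt).1 (el_ok h q.2.isLt).1 h1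
    have e1 := (el_ok h p.2.isLt).2.2
    rw [h6, (el_ok h q.2.isLt).2.2] at e1
    exact (Option.some.inj e1).symm
  have hn : D.n * D.N = 21504 := by
    have h' := h
    simp only [CentData.ok, Bool.and_eq_true] at h'
    exact Nat.eq_of_beq_eq_true h'.1.1.1.2
  have hb := hf.bijective_of_nat_card_le (by
    simp only [Nat.card_eq_fintype_card, Fintype.card_prod, Fintype.card_fin]
    rw [Nat.mul_comm]; omega)
  have hc' := hc
  simp only [valid, Bool.and_eq_true, Nat.blt_eq] at hc'
  obtain ⟨p, hp⟩ := hb.2 ⟨kOf c, hc'.1⟩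
  refine ⟨p.1, p.1.isLt, p.2, p.2.isLt, ?_⟩
  have a := hv p
  simp only [valid, Bool.and_eq_true] at a
  rw [← Nat.eq_of_beq_eq_true hc'.2, ← Nat.eq_of_beq_eq_true a.2]
  exact congrArg (fun x : Fin 21504 => cOf x.val) hp.symm

variable {P : Pars} {X : Type*} [Group X] (Y : Sys P X)

/-- The generators. -/
def Sys.gens : Set X := {x | ∃ c, valid c = true ∧ Y.f c = x} ∪ Set.range Y.T

theorem Sys.card_K [Finite X] : Nat.card Y.K ≤ 21504 := by
  classical
  let S : Finset X := (Finset.range 21504).image fun k => Y.f (cOf k)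
  have hsub : (Y.K : Set X) ⊆ S := by
    intro x hx
    have hmem : ∀ c, valid c = true → Y.f c ∈ S := fun c hc => by
      simp only [valid, Bool.and_eq_true, Nat.blt_eq] at hc
      exact Finset.mem_image.mpr ⟨kOf c, Finset.mem_range.mpr hc.1, by rw [Nat.eq_of_beq_eq_true hc.2]⟩
    rw [SetLike.mem_coe, Sys.K, ← Subgroup.mem_toSubmonoid, Subgroup.closure_toSubmonoid_of_finite] at hx
    obtain ⟨c, hc, rfl⟩ : ∃ c, valid c = true ∧ Y.f c = x := by
      induction hx using Submonoid.closure_induction with
      | mem y hy => exact hy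
      | one => exact ⟨cOne, valid_one, Y.f_one⟩
      | mul a b _ _ iha ihb =>
        obtain ⟨c, hc, rfl⟩ := iha
        obtain ⟨d, hd, rfl⟩ := ihb
        exact ⟨cm c d, valid_cm hc hd, Y.f_mul hc hd⟩
    exact hmem c hc
  calc Nat.card Y.K ≤ Nat.card (S : Set X) := Nat.card_mono S.finite_toSet hsub
    _ = S.card := by rw [SetLike.coe_sort_coe, Nat.card_eq_finsetCard]
    _ ≤ 21504 := Finset.card_image_le.trans (by rw [Finset.card_range])

theorem Sys.card_le [Finite X] (hgen : Subgroup.closure Y.gens = ⊤) {E : EnumD}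
    (hf : ∀ k < E.nf, Y.FOK E (E.facts.get k)) (hside : ∀ b, (P.side b).C.ok = true) {B : BoundD}
    (h : B.ok E P = true) : Nat.card X ≤ 21504 * B.total := by
  classical
  simp only [BoundD.ok, Bool.and_eq_true, List.all_eq_true, List.any_eq_true, Nat.ble_eq] at h
  obtain ⟨⟨⟨⟨N0, hN0, h0⟩, htot⟩, hN⟩, hinv⟩ := h
  let InS : X → Prop := fun g => ∃ N ∈ B.nodes, ∃ c, valid c = true ∧ Y.Eqv g (Y.v E N.node * Y.f c)
  have hone : InS 1 := ⟨N0, hN0, cOne, valid_one, by
    rw [Nat.eq_of_beq_eq_true h0, Y.v_zero, Y.f_one, one_mul]; exact Sys.Eqv.rfl' _⟩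
  have hstep : ∀ g x, InS g → x ∈ Y.gens → InS (g * x) := by
    rintro g x ⟨N, hNm, c, hc, hg⟩ (⟨d, hd, rfl⟩ | ⟨b, rfl⟩)
    · exact ⟨N, hNm, cm c d, valid_cm hc hd, by rw [Y.f_mul hc hd, ← mul_assoc]; exact hg.mul_right _⟩
    · obtain ⟨j, hj, k, hk, rfl⟩ := CentData.decompose (hside b) hc
      have hb : b ∈ [false, true] := by cases b <;> simp
      have hi := allR_sound _ _ _ (hinv b hb) k (Nat.zero_le _) (by omega)
      simp only [Bool.and_eq_true, Nat.blt_eq] at hi
      obtain ⟨hk', hke⟩ := hi
      have tw := Y.twist b _ hk'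
      rw [Nat.eq_of_beq_eq_true hke] at tw
      have hNb := hN N hNm
      obtain ⟨hfv, hF⟩ : ((N.edges b).get j) < E.nf ∧ _ := by
        have he : N.okEdges E P (B.nodes.map NodeD.node) b = true := by
          cases b
          exacts [hNb.1.2, hNb.2]
        have := allR_sound _ _ _ he j (Nat.zero_le _) (by omega)
        simp only [Bool.and_eq_true, Nat.blt_eq, List.any_eq_true] at this
        exact ⟨this.1.1.1.1, this⟩
      set F := E.facts.get ((N.edges b).get j)
      obtain ⟨⟨⟨⟨-, ha⟩, hh⟩, ht⟩, m, hm, hmb⟩ := hF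
      obtain ⟨F1, F2, F3⟩ := hf _ hfv
      cases hFt : F.t with
      | none => rw [hFt] at ht; simp at ht
      | some b' =>
        rw [hFt] at ht
        obtain rfl := eq_of_beq ht
        rw [show (E.facts.get ((N.edges b).get j)).t = some b from hFt] at F3
        simp only at F3
        obtain ⟨M, hM, rfl⟩ := List.mem_map.mp hm
        obtain ⟨hv', -⟩ := Y.el_valid b _ hk'
        refine ⟨M, hM, cm F.g ((P.side b).C.el.get ((B.finv b).get k)), valid_cm F2 hv', ?_⟩
        refine (hg.mul_right (Y.T b)).trans ?_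
        rw [← Nat.eq_of_beq_eq_true hmb, ← Nat.eq_of_beq_eq_true hh, ← Nat.eq_of_beq_eq_true ha,
          Y.f_mul F1 (CentData.el_ok (hside b) hk).1, Y.f_mul F2 hv', ← mul_assoc, mul_assoc _ _ (Y.T b), ← tw,
          ← mul_assoc, ← mul_assoc]
        exact F3.mul_right _
  have hall : ∀ g, InS g := fun g => by
    have hg : g ∈ (Subgroup.closure Y.gens).toSubmonoid := by rw [hgen]; trivial
    rw [Subgroup.closure_toSubmonoid_of_finite] at hg
    suffices ∀ p, InS p → InS (p * g) by simpa using this 1 hone
    induction hg using Submonoid.closure_induction with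
    | mem y hy => exact fun p hp => hstep p y hp hy
    | one => exact fun p hp => by rwa [mul_one]
    | mul a c _ _ iha ihc => exact fun p hp => by rw [← mul_assoc]; exact ihc _ (iha _ hp)
  haveI : Fintype X := Fintype.ofFinite X
  let q : X → X ⧸ Y.K := fun g => (g⁻¹ : X)
  have hq : ∀ {a b}, Y.Eqv a b → q a = q b := fun {a b} e => by
    refine QuotientGroup.eq.mpr ?_
    rwa [inv_inv]
  let img : NodeD → Finset (X ⧸ Y.K) := fun N =>
    (Finset.range 21504).image fun i => q (Y.v E N.node * Y.f (cOf i))
  have hcov : ∀ x : X ⧸ Y.K, ∃ N ∈ B.nodes, x ∈ img N := by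
    intro x
    obtain ⟨g, rfl⟩ := QuotientGroup.mk_surjective x
    obtain ⟨N, hNm, c, hc, e⟩ := hall g⁻¹
    refine ⟨N, hNm, Finset.mem_image.mpr ?_⟩
    simp only [valid, Bool.and_eq_true, Nat.blt_eq] at hc
    refine ⟨kOf c, Finset.mem_range.mpr hc.1, ?_⟩
    rw [Nat.eq_of_beq_eq_true hc.2, ← hq e]
    simp only [q, inv_inv]
  have hcost : ∀ N ∈ B.nodes, (img N).card ≤ N.cost := by
    intro N hNm
    have hst := (hN N hNm).1.1
    simp only [NodeD.okStab, Bool.or_eq_true, Bool.and_eq_true, Nat.blt_eq] at hst
    cases hz : Nat.beq N.node 0 with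
    | true =>
      rw [NodeD.cost, hz, cond_true]
      refine Finset.card_le_one.mpr fun a ha b hb => ?_
      simp only [img, Finset.mem_image, Finset.mem_range] at ha hb
      obtain ⟨i, hi, rfl⟩ := ha
      obtain ⟨j, hj, rfl⟩ := hb
      refine hq ?_
      rw [Nat.eq_of_beq_eq_true hz, Y.v_zero, one_mul, one_mul]
      have hv : ∀ i, i < 21504 → valid (cOf i) = true := fun i hi => by
        simp only [valid, kOf_cOf hi, Nat.beq_refl, Bool.and_true, Nat.blt_eq]
        exact hi
      exact Y.K.mul_mem (Y.f_mem (hv i hi)) (Y.K.inv_mem (Y.f_mem (hv j hj)))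
    | false =>
      rw [hz] at hst
      rcases hst with e | ⟨⟨⟨hn, he0⟩, hhow⟩, hels⟩
      · simp at e
      have hel : ∀ i, i < N.n → valid (N.els.get i) = true ∧ N.eix.find (N.els.get i) = some i := fun i hi => by
        have := allR_sound _ _ _ hels i (Nat.zero_le _) (by omega)
        simp only [Bool.and_eq_true] at this
        refine ⟨this.1, ?_⟩
        cases hfd : N.eix.find (N.els.get i) with
        | none => rw [hfd] at this; simp at this
        | some j => rw [hfd] at this; rw [Nat.eq_of_beq_eq_true this.2]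
      have hstab : ∀ i, i < N.n → Y.Eqv (Y.v E N.node * Y.f (N.els.get i)) (Y.v E N.node) := by
        intro i
        induction i using Nat.strong_induction_on with
        | _ i ih =>
          intro hi
          rcases Nat.eq_zero_or_pos i with rfl | hpos
          · rw [Nat.eq_of_beq_eq_true he0, Y.f_one, mul_one]
            exact Sys.Eqv.rfl' _
          · have hw := allR_sound _ _ _ hhow i (by omega) (by omega)
            simp only [Bool.and_eq_true, Nat.blt_eq, Option.isNone_iff_eq_none] at hw
            obtain ⟨⟨⟨⟨⟨⟨hfv, hp⟩, ht⟩, ha⟩, hb⟩, hh⟩, he⟩ := hw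
            obtain ⟨F1, F2, F3⟩ := hf _ hfv
            rw [ht] at F3
            simp only at F3
            rw [Nat.eq_of_beq_eq_true ha, Nat.eq_of_beq_eq_true hb, Nat.eq_of_beq_eq_true hh, Y.f_one, mul_one] at F3
            rw [Nat.eq_of_beq_eq_true he, Y.f_mul F2 (hel _ (by omega)).1, ← mul_assoc]
            exact (F3.symm.mul_right _).trans (ih _ hp (by omega))
      rw [NodeD.cost, hz, cond_false, Nat.le_div_iff_mul_le hn, Nat.mul_comm]
      refine le_trans (Finset.mul_card_image_le_card _ _ (fun a ha => ?_)) (Finset.card_range 21504).le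
      simp only [Finset.mem_image, Finset.mem_range] at ha
      obtain ⟨i, hi, rfl⟩ := ha
      have hvi : valid (cOf i) = true := by
        simp only [valid, kOf_cOf hi, Nat.beq_refl, Bool.and_true, Nat.blt_eq]
        exact hi
      let φ : ℕ → ℕ := fun m => kOf (cm (N.els.get m) (cOf i))
      have hval : ∀ m, m < N.n → valid (cm (N.els.get m) (cOf i)) = true := fun m hm =>
        valid_cm (hel m hm).1 hvi
      calc N.n = (Finset.range N.n).card := (Finset.card_range _).symm
        _ ≤ _ := by
          refine Finset.card_le_card_of_injOn φ (fun m hm => ?_) (fun m hm m' hm' e => ?_)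
          · simp only [Finset.coe_range, Set.mem_Iio] at hm
            have hv := hval m hm
            simp only [valid, Bool.and_eq_true, Nat.blt_eq] at hv
            simp only [Finset.coe_filter, Finset.mem_range, Set.mem_setOf_eq, φ]
            refine ⟨hv.1, hq ?_⟩
            rw [Nat.eq_of_beq_eq_true hv.2, Y.f_mul (hel m hm).1 hvi, ← mul_assoc]
            exact (hstab m hm).mul_right _
          · simp only [Finset.coe_range, Set.mem_Iio] at hm hm'
            have a := hval m hm; have b := hval m' hm'
            simp only [valid, Bool.and_eq_true] at a b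
            have e2 : cm (N.els.get m) (cOf i) = cm (N.els.get m') (cOf i) := by
              rw [← Nat.eq_of_beq_eq_true a.2, ← Nat.eq_of_beq_eq_true b.2]
              exact congrArg cOf e
            have e3 : N.els.get m = N.els.get m' := by
              obtain ⟨g, -, hg⟩ := exists_el hvi
              have h4 := congrArg mat e2
              rw [mat_cm, mat_cm, ← hg] at h4
              have h5 := congrArg (fun M => M * (g⁻¹ : SL5).1) h4
              simp only [mul_assoc] at h5
              rw [← Matrix.SpecialLinearGroup.coe_mul, mul_inv_cancel, Matrix.SpecialLinearGroup.coe_one,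
                mul_one, mul_one] at h5
              exact mat_inj (valid_lt (hel m hm).1) (valid_lt (hel m' hm').1) h5
            have e4 := (hel m hm).2
            rw [e3, (hel m' hm').2] at e4
            exact (Option.some.inj e4).symm
  have hidx : Nat.card (X ⧸ Y.K) ≤ B.total := by
    have hlist : ∀ L : List NodeD, (∀ N ∈ L, (img N).card ≤ N.cost) →
        (L.foldr (fun N s => img N ∪ s) ∅).card ≤ (L.map NodeD.cost).sum ∧
          ∀ N ∈ L, img N ⊆ L.foldr (fun N s => img N ∪ s) ∅ := by
      intro L hL
      induction L with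
      | nil => simp
      | cons a L ih =>
        obtain ⟨i1, i2⟩ := ih fun N hN => hL N (List.mem_cons_of_mem _ hN)
        refine ⟨?_, fun N hN => ?_⟩
        · simp only [List.foldr_cons, List.map_cons, List.sum_cons]
          exact (Finset.card_union_le _ _).trans (Nat.add_le_add (hL a List.mem_cons_self) i1)
        · simp only [List.foldr_cons]
          rcases List.mem_cons.mp hN with rfl | hN
          · exact Finset.subset_union_left
          · exact (i2 N hN).trans Finset.subset_union_right
    obtain ⟨l1, l2⟩ := hlist B.nodes hcost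
    haveI : Fintype (X ⧸ Y.K) := Fintype.ofFinite _
    rw [Nat.card_eq_fintype_card, ← Finset.card_univ]
    refine le_trans (Finset.card_le_card fun x _ => ?_) (l1.trans htot)
    obtain ⟨N, hNm, hx⟩ := hcov x
    exact l2 N hNm hx
  calc Nat.card X = Nat.card (X ⧸ Y.K) * Nat.card Y.K := Subgroup.card_eq_card_quotient_mul_card_subgroup _
    _ ≤ B.total * 21504 := Nat.mul_le_mul hidx Y.card_K
    _ = 21504 * B.total := Nat.mul_comm _ _

end Cfsg.Lib.HeldType
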