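import Cfsg.Agent.HeldType.Options
import Cfsg.Agent.HeldType.Count
import Cfsg.Agent.S5438
import Cfsg.Agent.S0223
import Cfsg.Agent.S1225

/-!
A subgroup containing the centraliser in which all fusion of the central involution happens.
-/

set_option autoImplicit false
set_option maxRecDepth 100000

namespace Cfsg.Lib.HeldType

variable {G : Type*} [Group G] (S : Setting G)

/-- The centraliser of the central involution. -/
def Setting.K : Subgroup G := Subgroup.centralizer ({S.z} : Set G)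

theorem Setting.mem_K {g : G} : g ∈ S.K ↔ g * S.z = S.z * g := Subgroup.mem_centralizer_singleton_iff

theorem Setting.η_mem_K {c : ℕ} (hc : valid c = true) : S.η c ∈ S.K := S.mem_K.mpr (S.η_comm hc)

theorem valid_cOf {k : ℕ} (hk : k < 21504) : valid (cOf k) = true := by
  simp only [valid, kOf_cOf hk, Nat.beq_refl, Bool.and_true, Nat.blt_eq]
  exact hk

theorem Setting.card_K : Nat.card S.K = 21504 := by
  let f : Fin 21504 → S.K := fun k => ⟨S.η (cOf k.val), S.η_mem_K (valid_cOf k.isLt)⟩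
  have hb : Function.Bijective f := by
    refine ⟨fun a b h => Fin.ext ?_, fun g => ?_⟩
    · have h1 := congrArg kOf (S.η_inj (valid_cOf a.isLt) (valid_cOf b.isLt) (congrArg Subtype.val h))
      rwa [kOf_cOf a.isLt, kOf_cOf b.isLt] at h1
    · obtain ⟨c, hc, he⟩ := S.η_surj (S.mem_K.mp g.2)
      simp only [valid, Bool.and_eq_true, Nat.blt_eq] at hc
      exact ⟨⟨kOf c, hc.1⟩, Subtype.ext (by
        show S.η (cOf (kOf c)) = _
        rw [Nat.eq_of_beq_eq_true hc.2, he])⟩
  rw [← Nat.card_eq_of_bijective f hb, Nat.card_fin]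

theorem Setting.η_inv {c : ℕ} (hc : valid c = true) : ∃ d, valid d = true ∧ S.η d = (S.η c)⁻¹ := by
  obtain ⟨d, hd, he⟩ := S.η_surj (S.mem_K.mp (S.K.inv_mem (S.η_mem_K hc)))
  exact ⟨d, hd, he⟩

/-- The centraliser of a class representative inside the coded centraliser. -/
def Setting.repG (i : ℕ) : Subgroup G := S.K ⊓ Subgroup.centralizer ({S.η (rep i)} : Set G)

theorem Setting.card_repG {i : ℕ} (hi : i < 8) (h3 : i ≠ 3) : Nat.card (S.repG i) = (repC i).n := by
  let f : Fin (repC i).n → S.repG i := fun k => ⟨S.η ((repC i).el.get k.val),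
    S.η_mem_K (S.η_comm_rep hi h3 k.isLt).1,
    Subgroup.mem_centralizer_singleton_iff.mpr (S.η_comm_rep hi h3 k.isLt).2⟩
  have hb : Function.Bijective f := by
    refine ⟨fun a b h => Fin.ext (S.el_inj a.isLt b.isLt (congrArg Subtype.val h)), fun g => ?_⟩
    obtain ⟨k, hk, he⟩ := S.mem_repC hi h3 (S.mem_K.mp g.2.1) (Subgroup.mem_centralizer_singleton_iff.mp g.2.2)
    exact ⟨⟨k, hk⟩, Subtype.ext he⟩
  rw [← Nat.card_eq_of_bijective f hb, Nat.card_fin]

theorem Setting.exists_class {y : G} (hy : orderOf y = 2) (hc : y * S.z = S.z * y) :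
    ∃ i < 8, ∃ h ∈ S.K, h * S.η (rep i) * h⁻¹ = y := by
  obtain ⟨c, hcv, rfl⟩ := S.η_surj hc
  have h2 : cm c c = cOne := S.η_inj (valid_cm hcv hcv) valid_one (by
    rw [S.η_mul hcv hcv, S.η_one]
    have := pow_orderOf_eq_one (S.η c)
    rwa [hy, pow_two] at this)
  have h1 : c ≠ cOne := fun e => by
    rw [e, S.η_one, orderOf_one] at hy
    norm_num at hy
  obtain ⟨i, hi, h, hh, he, -⟩ := inv_class hcv h2 h1
  refine ⟨i, hi, S.η h, S.η_mem_K hh, ?_⟩
  rw [← S.η_mul hh (rep_valid ⟨i, hi⟩), he, S.η_mul hcv hh, mul_inv_cancel_right]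

theorem rep_sq : ∀ i : Fin 8, cm (rep i.val) (rep i.val) = cOne ∧ rep i.val ≠ cOne := by decide +kernel

theorem Setting.rep_order {i : ℕ} (hi : i < 8) : orderOf (S.η (rep i)) = 2 := by
  obtain ⟨h1, h2⟩ := rep_sq ⟨i, hi⟩
  refine orderOf_eq_prime (by rw [pow_two, ← S.η_mul (rep_valid ⟨i, hi⟩) (rep_valid ⟨i, hi⟩), h1, S.η_one]) fun e => h2 ?_
  exact S.η_inj (rep_valid ⟨i, hi⟩) valid_one (by rw [e, S.η_one])

/-- A frame. -/
structure Frame where
  L : Subgroup G
  η_mem : ∀ c, valid c = true → S.η c ∈ L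
  fused : ℕ → Bool
  three : fused 3 = true
  inside : ∀ i < 8, fused i = true → ∃ l ∈ L, l * S.z * l⁻¹ = S.η (rep i)
  outside : ∀ i < 8, fused i = false → ¬ S.Fus i
  six : fused 6 = false

variable {S} (F : Frame S)

theorem Frame.K_le : S.K ≤ F.L := fun g hg => by
  obtain ⟨c, hc, rfl⟩ := S.η_surj (S.mem_K.mp hg)
  exact F.η_mem c hc

theorem Frame.class_fused {i : ℕ} (hi : i < 8) (h : IsConj S.z (S.η (rep i))) : F.fused i = true := by
  cases e : F.fused i with
  | true => rfl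
  | false => exact absurd h (F.outside i hi e)

variable [Finite G]

theorem Setting.sylow_exists (S : Setting G) : ∃ P : Sylow 2 G, (P : Subgroup G) ≤ S.K ∧ S.z ∈ P := by
  have : Fact (Nat.Prime 2) := ⟨Nat.prime_two⟩
  obtain ⟨T, hT⟩ := Sylow.exists_subgroup_card_pow_prime (G := S.K) 2 (n := 10) (by rw [S.card_K]; norm_num)
  set T' : Subgroup G := T.map S.K.subtype with hT'
  have hTK : T' ≤ S.K := Subgroup.map_subtype_le T
  have hcardT : Nat.card T' = 2 ^ 10 := by
    rw [← hT]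
    exact (Nat.card_congr (T.equivMapOfInjective _ S.K.subtype_injective).toEquiv).symm
  obtain ⟨P, hP⟩ := (IsPGroup.of_card (n := 10) hcardT).exists_le_sylow
  obtain ⟨a, ha⟩ := IsPGroup.iff_card.mp P.2
  -- the central involution lies in the centre of the Sylow subgroup
  have hP0 : ∃ Q : Sylow 2 G, T' ≤ Q ∧ S.z ∈ (Q : Subgroup G) ∧ (Q : Subgroup G) ≤ S.K := by
    have : Nontrivial (P : Subgroup G) := by
      rw [← Finite.one_lt_card_iff_nontrivial]
      have := Subgroup.card_le_of_le hP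
      rw [hcardT] at this
      omega
    have hzT : S.z ∈ T' := by
      have hnorm : Subgroup.zpowers S.z ≤ T' := by
        by_contra hne
        -- otherwise the product would be a larger 2-subgroup of the centraliser
        have hz2 : Nat.card (Subgroup.zpowers S.z) = 2 := by rw [Nat.card_zpowers, S.z_ord]
        have hzK : Subgroup.zpowers S.z ≤ Subgroup.normalizer (T' : Set G) := by
          rw [Subgroup.zpowers_le]
          refine Subgroup.mem_normalizer_iff.mpr fun g => ?_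
          constructor
          · intro hg
            have := S.mem_K.mp (hTK hg)
            rwa [← this, mul_inv_cancel_right]
          · intro hg
            have h1 := hTK hg
            have h2 : g ∈ S.K := by
              have h3 := S.K.mul_mem (S.K.mul_mem (S.mem_K.mpr rfl : S.z ∈ S.K) h1) (S.mem_K.mpr rfl : S.z ∈ S.K)
              rwa [inv_eq_of_mul_eq_one_right S.z_sq, show S.z * (S.z * g * S.z) * S.z = (S.z * S.z) * g * (S.z * S.z) by
                simp only [mul_assoc], S.z_sq, one_mul, mul_one] at h3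
            have := S.mem_K.mp h2
            rwa [← this, mul_inv_cancel_right] at hg
        have hsup : IsPGroup 2 (T' ⊔ Subgroup.zpowers S.z : Subgroup G) :=
          IsPGroup.to_sup_of_normal_left' (IsPGroup.of_card hcardT) (IsPGroup.of_card (n := 1) hz2) hzK
        have hle : T' ⊔ Subgroup.zpowers S.z ≤ S.K := sup_le hTK (by rw [Subgroup.zpowers_le]; exact S.mem_K.mpr rfl)
        obtain ⟨b, hb⟩ := IsPGroup.iff_card.mp hsup
        have hd := Subgroup.card_dvd_of_le hle
        rw [hb, S.card_K] at hd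
        have hb10 : b ≤ 10 := by
          by_contra hb'
          have h11 : 2 ^ 11 ∣ 21504 := (pow_dvd_pow 2 (by omega)).trans hd
          norm_num at h11
        have : T' = T' ⊔ Subgroup.zpowers S.z := Subgroup.eq_of_le_of_card_ge le_sup_left (by
          rw [hb, hcardT]
          exact Nat.pow_le_pow_right (by norm_num) hb10)
        exact hne (le_sup_right.trans this.ge)
      exact hnorm (Subgroup.mem_zpowers _)
    refine ⟨P, hP, hP hzT, ?_⟩
    by_contra hle
    have hlt : T' < (P : Subgroup G) := lt_of_le_of_ne hP fun e => hle (e ▸ hTK)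
    have : Group.IsNilpotent (P : Subgroup G) := P.2.isNilpotent
    have hnc := (Group.normalizerCondition_of_isNilpotent (G := (P : Subgroup G))) (T'.subgroupOf P)
      (lt_top_iff_ne_top.mpr fun e => hlt.not_ge (Subgroup.subgroupOf_eq_top.mp e))
    obtain ⟨y, hy, hyT⟩ := SetLike.exists_of_lt hnc
    -- an element normalising the subgroup fixes the central involution
    have hcen : ∀ w ∈ T', (∀ t ∈ T', w * t = t * w) → orderOf w = 2 → w = S.z := by
      intro w hw hwc hw2
      obtain ⟨i, hi, h, hh, he⟩ := S.exists_class hw2 (S.mem_K.mp (hTK hw))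
      by_cases h3 : i = 3
      · subst h3
        rw [← he, rep_three, S.η_z, (S.mem_K.mp hh), mul_inv_cancel_right]
      · exfalso
        have hsub : T'.map (MulAut.conj h⁻¹).toMonoidHom ≤ S.repG i := by
          rintro _ ⟨t, ht, rfl⟩
          simp only [MulEquiv.coe_toMonoidHom, MulAut.conj_apply, inv_inv]
          refine ⟨S.K.mul_mem (S.K.mul_mem (S.K.inv_mem hh) (hTK ht)) hh, Subgroup.mem_centralizer_singleton_iff.mpr ?_⟩
          have h1 := hwc t ht
          rw [← he] at h1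
          calc h⁻¹ * t * h * S.η (rep i) = h⁻¹ * (t * (h * S.η (rep i) * h⁻¹)) * h := by group
            _ = h⁻¹ * (h * S.η (rep i) * h⁻¹ * t) * h := by rw [h1]
            _ = _ := by group
        have hd := Subgroup.card_dvd_of_le hsub
        rw [← Nat.card_congr (T'.equivMapOfInjective _ (MulAut.conj h⁻¹).injective).toEquiv, hcardT,
          S.card_repG hi h3] at hd
        obtain ⟨n0, n5, n6, n1, n4, n2, n7⟩ := repC_n
        interval_cases i <;> first | exact absurd rfl h3 | simp_all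
    have hy' := Subgroup.mem_normalizer_iff.mp hy
    have conjT : ∀ t, t ∈ T' → (y : G) * t * (y : G)⁻¹ ∈ T' := fun t ht => by
      have h1 := (hy' ⟨t, hP ht⟩).mp (Subgroup.mem_subgroupOf.mpr ht)
      exact Subgroup.mem_subgroupOf.mp h1
    have conjT' : ∀ t, t ∈ T' → (y : G)⁻¹ * t * (y : G) ∈ T' := fun t ht => by
      have h1 := (hy' ⟨(y : G)⁻¹ * t * (y : G), (P : Subgroup G).mul_mem ((P : Subgroup G).mul_mem
        ((P : Subgroup G).inv_mem y.2) (hP ht)) y.2⟩).mpr (Subgroup.mem_subgroupOf.mpr (by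
        show (y : G) * ((y : G)⁻¹ * t * (y : G)) * (y : G)⁻¹ ∈ T'
        simp only [mul_assoc, mul_inv_cancel_left, mul_inv_cancel, mul_one]
        exact ht))
      exact Subgroup.mem_subgroupOf.mp h1
    have hyz := hcen _ (conjT _ hzT) (fun t ht => by
        have h1 := (S.mem_K.mp (hTK (conjT' t ht))).symm
        calc (y : G) * S.z * (y : G)⁻¹ * t = (y : G) * (S.z * ((y : G)⁻¹ * t * (y : G))) * (y : G)⁻¹ := by group
          _ = (y : G) * ((y : G)⁻¹ * t * (y : G) * S.z) * (y : G)⁻¹ := by rw [h1]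
          _ = _ := by group)
      ((orderOf_injective (MulAut.conj (y : G)).toMonoidHom (MulAut.conj (y : G)).injective S.z).trans S.z_ord)
    rw [mul_inv_eq_iff_eq_mul] at hyz
    -- then it lies in the centraliser, enlarging the subgroup there
    have hsup : (T' ⊔ Subgroup.zpowers (y : G)) ≤ (P : Subgroup G) ⊓ S.K :=
      sup_le (le_inf hP hTK) (by rw [Subgroup.zpowers_le]; exact ⟨y.2, S.mem_K.mpr hyz⟩)
    obtain ⟨b, hb⟩ := IsPGroup.iff_card.mp ((P.2.to_le inf_le_left).to_le hsup)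
    have hd := (Subgroup.card_dvd_of_le (hsup.trans inf_le_right))
    rw [hb, S.card_K] at hd
    have hb10 : b ≤ 10 := by
      by_contra hb'
      have h11 : 2 ^ 11 ∣ 21504 := (pow_dvd_pow 2 (by omega)).trans hd
      norm_num at h11
    have he : T' = T' ⊔ Subgroup.zpowers (y : G) := Subgroup.eq_of_le_of_card_ge le_sup_left (by
      rw [hb, hcardT]
      exact Nat.pow_le_pow_right (by norm_num) hb10)
    refine hyT (Subgroup.mem_subgroupOf.mpr ?_)
    rw [he]
    exact Subgroup.mem_sup_right (Subgroup.mem_zpowers _)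
  obtain ⟨Q, -, hz, hQ⟩ := hP0
  exact ⟨Q, hQ, hz⟩

theorem Setting.two_central (S : Setting G) : Cfsg.IsTwoCentralInvolution S.z := by
  obtain ⟨P, hP, hz⟩ := S.sylow_exists
  exact ⟨S.z_ord, P, hz, fun x hx => S.mem_K.mp (hP hx)⟩

theorem Frame.conj_into_K {u : G} (hu : u ∈ F.L) (h2 : orderOf u = 2) :
    ∃ l ∈ F.L, l * u * l⁻¹ ∈ S.K := by
  have : Fact (Nat.Prime 2) := ⟨Nat.prime_two⟩
  obtain ⟨P, hP, -⟩ := S.sylow_exists
  let PL : Sylow 2 F.L := P.subtype (hP.trans F.K_le)
  have hu' : IsPGroup 2 (Subgroup.zpowers (⟨u, hu⟩ : F.L)) := by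
    refine IsPGroup.of_card (n := 1) ?_
    rw [Nat.card_zpowers, Subgroup.orderOf_mk, h2]
    rfl
  obtain ⟨R, hR⟩ := hu'.exists_le_sylow
  obtain ⟨g, hg⟩ := MulAction.exists_smul_eq F.L R PL
  refine ⟨g, g.2, hP ?_⟩
  have h1 : g * ⟨u, hu⟩ * g⁻¹ ∈ (PL : Subgroup F.L) := by
    rw [← hg]
    exact Subgroup.smul_mem_pointwise_smul _ _ _ (hR (Subgroup.mem_zpowers _))
  exact h1

theorem Frame.inv_class {u : G} (hu : u ∈ F.L) (h2 : orderOf u = 2) :
    ∃ i < 8, ∃ l ∈ F.L, l * S.η (rep i) * l⁻¹ = u := by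
  obtain ⟨l, hl, hlu⟩ := F.conj_into_K hu h2
  have h2' : orderOf (l * u * l⁻¹) = 2 := by
    rw [← h2]
    exact orderOf_injective (MulAut.conj l).toMonoidHom (MulAut.conj l).injective u
  obtain ⟨i, hi, h, hh, he⟩ := S.exists_class h2' (S.mem_K.mp hlu)
  refine ⟨i, hi, l⁻¹ * h, F.L.mul_mem (F.L.inv_mem hl) (F.K_le hh), ?_⟩
  calc l⁻¹ * h * S.η (rep i) * (l⁻¹ * h)⁻¹ = l⁻¹ * (h * S.η (rep i) * h⁻¹) * l := by group
    _ = l⁻¹ * (l * u * l⁻¹) * l := by rw [he]
    _ = u := by group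

theorem Frame.fused_conj {y : G} (hy : y ∈ F.L) (h : IsConj S.z y) : ∃ l ∈ F.L, l * S.z * l⁻¹ = y := by
  have h2 : orderOf y = 2 := by
    obtain ⟨g, rfl⟩ := isConj_iff.mp h
    rw [← S.z_ord]
    exact orderOf_injective (MulAut.conj g).toMonoidHom (MulAut.conj g).injective S.z
  obtain ⟨i, hi, l, hl, he⟩ := F.inv_class hy h2
  have hc : IsConj S.z (S.η (rep i)) := h.trans (isConj_iff.mpr ⟨l, he⟩).symm
  obtain ⟨m, hm, hme⟩ := F.inside i hi (F.class_fused hi hc)
  exact ⟨l * m, F.L.mul_mem hl hm, by rw [← he, ← hme]; group⟩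

/-- The conjugates of the central involution. -/
def Setting.cls (S : Setting G) : Set G := {y | IsConj S.z y}

theorem Frame.oneFix : OneFix F.L S.cls where
  conj g y hy := hy.trans (isConj_iff.mpr ⟨g, rfl⟩)
  sq y hy := by
    obtain ⟨g, rfl⟩ := isConj_iff.mp hy
    calc g * S.z * g⁻¹ * (g * S.z * g⁻¹) = g * (S.z * S.z) * g⁻¹ := by group
      _ = 1 := by rw [S.z_sq]; group
  unique y hy hyL g hg := by
    obtain ⟨l, hl, hle⟩ := F.fused_conj hyL hy
    have hy' : IsConj S.z (g⁻¹ * y * g) := hy.trans (isConj_iff.mpr ⟨g⁻¹, by rw [inv_inv]⟩)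
    obtain ⟨m, hm, hme⟩ := F.fused_conj hg hy'
    have hk : l⁻¹ * g * m ∈ F.L := F.K_le (S.mem_K.mpr (by
      calc l⁻¹ * g * m * S.z = l⁻¹ * g * (m * S.z * m⁻¹) * m := by group
        _ = l⁻¹ * g * (g⁻¹ * y * g) * m := by rw [hme]
        _ = l⁻¹ * (l * S.z * l⁻¹) * g * m := by rw [hle]; group
        _ = S.z * (l⁻¹ * g * m) := by group))
    have := F.L.mul_mem (F.L.mul_mem hl hk) (F.L.inv_mem hm)
    rwa [show l * (l⁻¹ * g * m) * m⁻¹ = g by group] at this

theorem Frame.fusion {x g : G} (hx : x ∈ F.L) (h2 : orderOf x = 2) (hg : g * x * g⁻¹ ∈ F.L) :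
    ∃ l ∈ F.L, l * x * l⁻¹ = g * x * g⁻¹ :=
  (Cfsg.Agent.S5438.result S.z S.two_central F.L (F.K_le (S.mem_K.mpr rfl))
    (fun g hg => F.oneFix.unique _ (IsConj.refl _) (F.K_le (S.mem_K.mpr rfl)) g hg)).2 x hx ⟨1, by rw [h2, pow_one]⟩ g hg

theorem Frame.eq_top (h : ∀ i < 8, F.fused i = false → Subgroup.centralizer ({S.η (rep i)} : Set G) ≤ F.L) :
    F.L = ⊤ := by
  by_contra hne
  have heven : Even (Nat.card F.L) := by
    rw [even_iff_two_dvd]
    have := orderOf_dvd_natCard (⟨S.z, F.K_le (S.mem_K.mpr rfl)⟩ : F.L)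
    rwa [Subgroup.orderOf_mk, S.z_ord] at this
  have hcen : ∀ t ∈ F.L, orderOf t = 2 → Subgroup.centralizer ({t} : Set G) ≤ F.L := by
    intro t ht ht2 x hx
    obtain ⟨i, hi, l, hl, he⟩ := F.inv_class ht ht2
    have hx' : l⁻¹ * x * l ∈ Subgroup.centralizer ({S.η (rep i)} : Set G) := by
      rw [Subgroup.mem_centralizer_singleton_iff] at hx ⊢
      rw [← he] at hx
      calc l⁻¹ * x * l * S.η (rep i) = l⁻¹ * (x * (l * S.η (rep i) * l⁻¹)) * l := by group
        _ = l⁻¹ * (l * S.η (rep i) * l⁻¹ * x) * l := by rw [hx]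
        _ = _ := by group
    have hmem : l⁻¹ * x * l ∈ F.L := by
      cases e : F.fused i with
      | false => exact h i hi e hx'
      | true =>
        obtain ⟨m, hm, hme⟩ := F.inside i hi e
        rw [← hme, Subgroup.mem_centralizer_singleton_iff] at hx'
        have : m⁻¹ * (l⁻¹ * x * l) * m ∈ F.L := F.K_le (S.mem_K.mpr (by
          calc m⁻¹ * (l⁻¹ * x * l) * m * S.z = m⁻¹ * (l⁻¹ * x * l * (m * S.z * m⁻¹)) * m := by group
            _ = m⁻¹ * (m * S.z * m⁻¹ * (l⁻¹ * x * l)) * m := by rw [hx']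
            _ = _ := by group))
        have := F.L.mul_mem (F.L.mul_mem hm this) (F.L.inv_mem hm)
        rwa [show m * (m⁻¹ * (l⁻¹ * x * l) * m) * m⁻¹ = l⁻¹ * x * l by group] at this
    have := F.L.mul_mem (F.L.mul_mem hl hmem) (F.L.inv_mem hl)
    rwa [show l * (l⁻¹ * x * l) * l⁻¹ = x by group] at this
  have hse : Cfsg.IsStronglyEmbedded F.L := (Cfsg.Agent.S0223.result F.L hne heven).mpr ⟨hcen,
    fun t ht s hs ht2 hs2 hts => by
      obtain ⟨g, hg⟩ := isConj_iff.mp hts
      obtain ⟨l, hl, hle⟩ := F.fusion ht ht2 (g := g) (by rw [hg]; exact hs)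
      exact ⟨l, hl, hle.trans hg⟩⟩
  obtain ⟨g, -, hg⟩ := SetLike.exists_of_lt (lt_top_iff_ne_top.mpr hne)
  have hu2 : orderOf (g * S.z * g⁻¹) = 2 := by
    rw [← S.z_ord]
    exact orderOf_injective (MulAut.conj g).toMonoidHom (MulAut.conj g).injective S.z
  have huL : g * S.z * g⁻¹ ∉ F.L := fun hc => hg (by
    have := F.oneFix.unique S.z (IsConj.refl _) (F.K_le (S.mem_K.mpr rfl)) g⁻¹ (by rwa [inv_inv])
    exact inv_mem_iff.mp this)
  have hz : S.z ∈ F.L := F.K_le (S.mem_K.mpr rfl)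
  have hall := (Cfsg.Agent.S1225.result F.L hse _ hu2 huL S.z S.z S.z_ord hz S.z_ord hz).2
  exact F.outside 6 (by norm_num) F.six (hall _ _ S.z_ord (S.rep_order (by norm_num)))

end Cfsg.Lib.HeldType
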