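import Cfsg.Agent.HeldType.Options
import Cfsg.Agent.HeldType.DataFree

/-!
Two-groups inside the centraliser of a representative that miss given classes.
-/

set_option autoImplicit false
set_option maxRecDepth 100000
set_option Elab.async false

namespace Cfsg.Lib.HeldType

/-- The code lies in one of the listed classes. -/
def inSet (F : List ℕ) (c : ℕ) : Bool := F.any fun i => Nat.beq (classOf c) i

/-- The code belongs to the centraliser. -/
def inC (i c : ℕ) : Bool := valid c && ((repC i).ix.find c).isSome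

/-- All extensions of degree two are listed in the next level. -/
def stepOK (i : ℕ) (F : List ℕ) (cur nxt : List (List ℕ)) : Bool :=
  cur.all fun Q => Q.all (inC i) &&
    allR (fun k =>
      let x := (repC i).el.get k
      Q.any (Nat.beq x) || !Q.any (Nat.beq (cm x x)) || !(Q.all fun q => Q.any fun r => Nat.beq (cm x q) (cm r x)) ||
        (Q.any fun q => inSet F (cm x q)) ||
        nxt.any fun N => (Q.all fun q => N.any (Nat.beq q) && N.any (Nat.beq (cm x q))) &&
          N.all fun r => Q.any (Nat.beq r) || Q.any fun q => Nat.beq r (cm x q)) 0 (repC i).n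

/-- The first level. -/
def baseOK (i : ℕ) : List (List ℕ) → Bool
  | [Q] => Nat.ble Q.length 2 && (Q.all fun c => Nat.beq c cOne || Nat.beq c (rep i)) &&
      Q.any (Nat.beq cOne) && Q.any (Nat.beq (rep i))
  | _ => false

/-- All levels. -/
def freeOK (i : ℕ) (F : List ℕ) (l2 l4 l8 : List (List ℕ)) : Bool :=
  stepOK i F l2 l4 && stepOK i F l4 l8 && stepOK i F l8 [] && l8.all (fun Q => Nat.ble Q.length 8) &&
    l4.all (fun Q => Nat.ble Q.length 4) &&
    baseOK i l2

theorem freeA_ok : freeOK 6 [0, 1, 3, 5] freeA2 freeA4 freeA8 = true := by decide +kernel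

theorem freeB_ok : freeOK 6 [0, 1, 3, 5, 7] freeB2 freeB4 freeB8 = true := by decide +kernel

theorem freeC_ok : freeOK 6 [0, 1, 2, 3, 5, 7] freeC2 freeC4 freeC8 = true := by decide +kernel

theorem freeD_ok : freeOK 6 [0, 1, 2, 3, 5] freeD2 freeD4 freeD8 = true := by decide +kernel

theorem freeAff_ok : freeOK 7 [0, 1, 2, 3, 4, 5, 6] freeAff2 freeAff4 freeAff8 = true := by decide +kernel

variable {G : Type*} [Group G] (S : Setting G)

/-- The elements of a list of codes. -/
def Setting.img (Q : List ℕ) : Set G := {g | ∃ c ∈ Q, S.η c = g}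

theorem Setting.ext_step [Finite G] {i : ℕ} {F : List ℕ} {cur nxt : List (List ℕ)} (hi : i < 8) (h3 : i ≠ 3)
    (hok : stepOK i F cur nxt = true) {T : Subgroup G} (hT : IsPGroup 2 T)
    (hle : ∀ g ∈ T, g * S.z = S.z * g ∧ g * S.η (rep i) = S.η (rep i) * g)
    (hfree : ∀ c, valid c = true → S.η c ∈ T → inSet F c = false) {Q : List ℕ} (hQ : Q ∈ cur) {H : Subgroup G}
    (hH : (H : Set G) = S.img Q) (hHT : H ≤ T) :
    H = T ∨ ∃ N ∈ nxt, ∃ H' : Subgroup G, (H' : Set G) = S.img N ∧ H' ≤ T := by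
  by_cases hne : H = T
  · exact Or.inl hne
  refine Or.inr ?_
  haveI : Fact (Nat.Prime 2) := ⟨Nat.prime_two⟩
  haveI : Group.IsNilpotent T := hT.isNilpotent
  have hnc := (Group.normalizerCondition_of_isNilpotent (G := T)) (H.subgroupOf T)
    (lt_top_iff_ne_top.mpr fun e => hne (le_antisymm hHT (Subgroup.subgroupOf_eq_top.mp e)))
  obtain ⟨y, hy, hyH⟩ := SetLike.exists_of_lt hnc
  -- an element of the normaliser with square inside
  have hex : ∃ m : ℕ, y ^ 2 ^ m ∈ H.subgroupOf T := by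
    obtain ⟨k, hk⟩ := hT y
    exact ⟨k, by rw [hk]; exact Subgroup.one_mem _⟩
  classical
  have hm := Nat.find_spec hex
  have hm0 : Nat.find hex ≠ 0 := fun e => by
    rw [e, pow_zero, pow_one] at hm
    exact hyH hm
  obtain ⟨m, hme⟩ := Nat.exists_eq_succ_of_ne_zero hm0
  rw [hme] at hm
  have hw : y ^ 2 ^ m ∉ H.subgroupOf T := Nat.find_min hex (by omega)
  rw [pow_succ, pow_mul, pow_two] at hm
  set w := y ^ 2 ^ m with hwdef
  have hwn : w ∈ Subgroup.normalizer ((H.subgroupOf T : Subgroup T) : Set T) := pow_mem hy _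
  clear_value w
  set x : G := (w : G) with hx
  have hxT : x ∈ T := w.2
  have hxH : x ∉ H := fun e => hw (Subgroup.mem_subgroupOf.mpr e)
  have hxx : x * x ∈ H := Subgroup.mem_subgroupOf.mp hm
  have hn := Subgroup.mem_normalizer_iff.mp hwn
  have hc1 : ∀ g ∈ H, x * g * x⁻¹ ∈ H := fun g hg =>
    Subgroup.mem_subgroupOf.mp ((hn ⟨g, hHT hg⟩).mp (Subgroup.mem_subgroupOf.mpr hg))
  have hc2 : ∀ g ∈ H, x⁻¹ * g * x ∈ H := fun g hg => by
    have := H.mul_mem (H.mul_mem (H.inv_mem hxx) (hc1 g hg)) hxx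
    rwa [show (x * x)⁻¹ * (x * g * x⁻¹) * (x * x) = x⁻¹ * g * x by group] at this
  let H' : Subgroup G :=
    { carrier := {g | g ∈ H ∨ x⁻¹ * g ∈ H}
      one_mem' := Or.inl H.one_mem
      mul_mem' := fun {a b} ha hb => by
        rcases ha with ha | ha <;> rcases hb with hb | hb
        · exact Or.inl (H.mul_mem ha hb)
        · refine Or.inr ?_
          rw [show x⁻¹ * (a * b) = x⁻¹ * a * x * (x⁻¹ * b) by group]
          exact H.mul_mem (hc2 a ha) hb
        · refine Or.inr ?_
          rw [← mul_assoc]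
          exact H.mul_mem ha hb
        · refine Or.inl ?_
          rw [show a * b = x * x * (x⁻¹ * (x⁻¹ * a) * x) * (x⁻¹ * b) by group]
          exact H.mul_mem (H.mul_mem hxx (hc2 _ ha)) hb
      inv_mem' := fun {a} ha => by
        rcases ha with ha | ha
        · exact Or.inl (H.inv_mem ha)
        · refine Or.inr ?_
          rw [show x⁻¹ * a⁻¹ = x⁻¹ * (x⁻¹ * a)⁻¹ * x * (x * x)⁻¹ by group]
          exact H.mul_mem (hc2 _ (H.inv_mem ha)) (H.inv_mem hxx) }
  have hH'T : H' ≤ T := by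
    rintro g (hg | hg)
    · exact hHT hg
    · have := T.mul_mem hxT (hHT hg)
      rwa [mul_inv_cancel_left] at this
  obtain ⟨k, hk, hkx⟩ := S.mem_repC hi h3 (hle x hxT).1 (hle x hxT).2
  obtain ⟨hxv, -, -⟩ := CentData.el_ok (repC_ok i) hk
  simp only [stepOK, List.all_eq_true, Bool.and_eq_true] at hok
  obtain ⟨hQv, hstep⟩ := hok Q hQ
  have vQ : ∀ {q}, q ∈ Q → valid q = true := fun {q} hq => by
    have := hQv q hq
    simp only [inC, Bool.and_eq_true] at this
    exact this.1
  have mQ : ∀ {g}, g ∈ H → ∃ q ∈ Q, S.η q = g := fun {g} hg => by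
    rw [← SetLike.mem_coe, hH] at hg
    exact hg
  have inH : ∀ {q}, q ∈ Q → S.η q ∈ H := fun {q} hq => by
    rw [← SetLike.mem_coe, hH]
    exact ⟨q, hq, rfl⟩
  have hk1 := allR_sound _ _ _ hstep k (Nat.zero_le _) (by omega)
  simp only [Bool.or_eq_true, List.any_eq_true, List.all_eq_true, Bool.and_eq_true, Bool.not_eq_true'] at hk1
  rcases hk1 with (((⟨q, hq, e⟩ | h2) | h4) | ⟨q, hq, e⟩) | ⟨N, hN, hN1, hN2⟩
  · exfalso
    rw [Nat.eq_of_beq_eq_true e] at hkx
    exact hxH (hkx ▸ inH hq)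
  · exfalso
    obtain ⟨q, hq, e⟩ := mQ hxx
    rw [← hkx, ← S.η_mul hxv hxv] at e
    rw [List.any_eq_false] at h2
    have := h2 q hq
    rw [S.η_inj (vQ hq) (valid_cm hxv hxv) e, Nat.beq_refl] at this
    exact absurd rfl this
  · exfalso
    rw [List.all_eq_false] at h4
    obtain ⟨q, hq, hq'⟩ := h4
    rw [Bool.not_eq_true, List.any_eq_false] at hq'
    obtain ⟨r, hr, e⟩ := mQ (hc1 _ (inH hq))
    have h5 := hq' r hr
    rw [← hkx, eq_mul_inv_iff_mul_eq, ← S.η_mul hxv (vQ hq), ← S.η_mul (vQ hr) hxv] at e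
    rw [S.η_inj (valid_cm (vQ hr) hxv) (valid_cm hxv (vQ hq)) e, Nat.beq_refl] at h5
    exact absurd rfl h5
  · exfalso
    have := hfree (cm ((repC i).el.get k) q) (valid_cm hxv (vQ hq)) (by
      rw [S.η_mul hxv (vQ hq), hkx]; exact T.mul_mem hxT (hHT (inH hq)))
    rw [this] at e
    simp at e
  · refine ⟨N, hN, H', Set.ext fun g => ⟨?_, ?_⟩, hH'T⟩
    · rintro (hg | hg)
      · obtain ⟨q, hq, rfl⟩ := mQ hg
        obtain ⟨r, hr, e⟩ := (hN1 q hq).1
        exact ⟨r, hr, by rw [Nat.eq_of_beq_eq_true e]⟩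
      · obtain ⟨q, hq, e⟩ := mQ hg
        obtain ⟨r, hr, e'⟩ := (hN1 q hq).2
        refine ⟨r, hr, ?_⟩
        rw [← Nat.eq_of_beq_eq_true e', S.η_mul hxv (vQ hq), hkx, e, mul_inv_cancel_left]
    · rintro ⟨r, hr, rfl⟩
      rcases hN2 r hr with ⟨q, hq, e⟩ | ⟨q, hq, e⟩
      · rw [Nat.eq_of_beq_eq_true e]
        exact Or.inl (inH hq)
      · rw [Nat.eq_of_beq_eq_true e, S.η_mul hxv (vQ hq), hkx]
        refine Or.inr ?_
        rw [inv_mul_cancel_left]
        exact inH hq

theorem Setting.card_img_le [Finite G] {H : Subgroup G} {Q : List ℕ} (hH : (H : Set G) = S.img Q) :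
    Nat.card H ≤ Q.length := by
  classical
  have hf : ∀ g : H, ∃ n : Fin Q.length, S.η Q[n.val] = g := fun g => by
    have hg : (g : G) ∈ S.img Q := hH ▸ g.2
    obtain ⟨c, hc, e⟩ := hg
    obtain ⟨n, hn, rfl⟩ := List.getElem_of_mem hc
    exact ⟨⟨n, hn⟩, e⟩
  choose f hf using hf
  have := Nat.card_le_card_of_injective f fun a b h => Subtype.ext (by rw [← hf a, ← hf b, h])
  rwa [Nat.card_fin] at this

/-- A free two-group has order at most eight, and is listed if it has that order. -/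
theorem Setting.free_le [Finite G] {i : ℕ} {F : List ℕ} {l2 l4 l8 : List (List ℕ)} (hi : i < 8) (h3 : i ≠ 3)
    (hok : freeOK i F l2 l4 l8 = true) {T : Subgroup G} (hT : IsPGroup 2 T) (hu : S.η (rep i) ∈ T)
    (hle : ∀ g ∈ T, g * S.z = S.z * g ∧ g * S.η (rep i) = S.η (rep i) * g)
    (hfree : ∀ c, valid c = true → S.η c ∈ T → inSet F c = false) :
    Nat.card T ≤ 8 ∧ (Nat.card T = 8 → ∃ Q ∈ l8, (T : Set G) = S.img Q) := by
  simp only [freeOK, Bool.and_eq_true, List.all_eq_true, Nat.ble_eq] at hok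
  obtain ⟨⟨⟨⟨⟨h24, h48⟩, h8⟩, len8⟩, len4⟩, h2⟩ := hok
  cases hl : l2 with
  | nil => rw [hl] at h2; simp [baseOK] at h2
  | cons Q rest =>
    cases rest with
    | cons a b => rw [hl] at h2; simp [baseOK] at h2
    | nil =>
      rw [hl] at h2
      simp only [baseOK, Bool.and_eq_true, List.all_eq_true, Bool.or_eq_true, List.any_eq_true, Nat.ble_eq] at h2
      obtain ⟨⟨⟨hlen, hall⟩, ⟨a, ha, hae⟩⟩, ⟨b, hb, hbe⟩⟩ := h2
      have ru := rep_valid ⟨i, hi⟩
      have hsq : S.η (rep i) * S.η (rep i) = 1 := by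
        have : ∀ q : Fin 8, cm (rep q.val) (rep q.val) = cOne := by decide +kernel
        rw [← S.η_mul ru ru, this ⟨i, hi⟩, S.η_one]
      let H : Subgroup G :=
        { carrier := {g | g = 1 ∨ g = S.η (rep i)}
          one_mem' := Or.inl rfl
          mul_mem' := by
            rintro a b (rfl | rfl) (rfl | rfl) <;> simp [hsq]
          inv_mem' := by
            rintro a (rfl | rfl)
            · simp
            · exact Or.inr (inv_eq_of_mul_eq_one_right hsq) }
      have hH : (H : Set G) = S.img Q := Set.ext fun g => by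
        constructor
        · rintro (rfl | rfl)
          · exact ⟨a, ha, by rw [← Nat.eq_of_beq_eq_true hae, S.η_one]⟩
          · exact ⟨b, hb, by rw [← Nat.eq_of_beq_eq_true hbe]⟩
        · rintro ⟨c, hc, rfl⟩
          rcases hall c hc with e | e <;> rw [Nat.eq_of_beq_eq_true e]
          exacts [Or.inl S.η_one, Or.inr rfl]
      have hHT : H ≤ T := by
        rintro g (rfl | rfl)
        exacts [T.one_mem, hu]
      rcases S.ext_step hi h3 h24 hT hle hfree (Q := Q) (by rw [hl]; exact List.mem_singleton_self _) hH hHT with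
        e | ⟨Q4, hQ4, H4, hH4, hH4T⟩
      · subst e
        have := S.card_img_le hH
        exact ⟨by omega, fun h => by omega⟩
      · rcases S.ext_step hi h3 h48 hT hle hfree hQ4 hH4 hH4T with e | ⟨Q8, hQ8, H8, hH8, hH8T⟩
        · subst e
          have := S.card_img_le hH4
          have := len4 Q4 hQ4
          exact ⟨by omega, fun h => by omega⟩
        · rcases S.ext_step hi h3 h8 hT hle hfree hQ8 hH8 hH8T with e | ⟨N, hN, -⟩
          · subst e
            exact ⟨(S.card_img_le hH8).trans (len8 Q8 hQ8), fun _ => ⟨Q8, hQ8, hH8⟩⟩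
          · simp at hN

end Cfsg.Lib.HeldType
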