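import Cfsg.Agent.HeldType.Classes

/-!
Which classes of involutions of the centraliser can be fused with the central involution.
-/

set_option autoImplicit false
set_option maxRecDepth 100000

namespace Cfsg.Lib.HeldType

variable {G : Type*} [Group G] (S : Setting G)

/-- The representative of a class is conjugate to the central involution. -/
def Setting.Fus (i : ℕ) : Prop := IsConj S.z (S.η (rep i))

theorem Setting.z_sq : S.z * S.z = 1 := by
  have := pow_orderOf_eq_one S.z
  rw [S.z_ord, pow_two] at this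
  exact this

theorem Setting.z_ne : S.z ≠ 1 := fun h => by
  have := S.z_ord
  rw [h, orderOf_one] at this
  norm_num at this

theorem Setting.η_comm_rep {i : ℕ} (hi : i < 8) (h3 : i ≠ 3) {k : ℕ} (hk : k < (repC i).n) :
    valid ((repC i).el.get k) = true ∧
      S.η ((repC i).el.get k) * S.η (rep i) = S.η (rep i) * S.η ((repC i).el.get k) := by
  obtain ⟨a, b, -⟩ := CentData.el_ok (repC_ok i) hk
  rw [rep_eq ⟨i, hi⟩ h3] at b
  exact ⟨a, S.η_comm_η a (rep_valid ⟨i, hi⟩) b⟩

theorem Setting.mem_repC {i : ℕ} (hi : i < 8) (h3 : i ≠ 3) {g : G} (hz : g * S.z = S.z * g)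
    (hx : g * S.η (rep i) = S.η (rep i) * g) : ∃ k < (repC i).n, S.η ((repC i).el.get k) = g := by
  obtain ⟨d, hd, rfl⟩ := S.η_surj hz
  have hv : valid (rep i) = true := rep_valid ⟨i, hi⟩
  obtain ⟨k, hk, rfl⟩ := CentData.complete (repC_ok i) hd (by
    rw [rep_eq ⟨i, hi⟩ h3]
    exact S.η_inj (valid_cm hd hv) (valid_cm hv hd) (by rw [S.η_mul hd hv, S.η_mul hv hd, hx]))
  exact ⟨k, hk, rfl⟩

theorem Setting.el_inj {i a b : ℕ} (ha : a < (repC i).n) (hb : b < (repC i).n)
    (h : S.η ((repC i).el.get a) = S.η ((repC i).el.get b)) : a = b := by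
  obtain ⟨a1, -, a3⟩ := CentData.el_ok (repC_ok i) ha
  obtain ⟨b1, -, b3⟩ := CentData.el_ok (repC_ok i) hb
  rw [S.η_inj a1 b1 h, b3] at a3
  exact (Option.some.inj a3).symm

theorem Setting.conj_repC {i j : ℕ} (hi : i < 8) (hj : j < 8) (i3 : i ≠ 3) (j3 : j ≠ 3) {g : G}
    (hz : g * S.z = S.η (rep i) * g) (hx : g * S.η (rep j) = S.z * g) {k : ℕ} (hk : k < (repC j).n) :
    ∃ l < (repC i).n, g * S.η ((repC j).el.get k) = S.η ((repC i).el.get l) * g := by
  obtain ⟨hv, hc⟩ := S.η_comm_rep hj j3 hk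
  have e1 : g * S.z * g⁻¹ = S.η (rep i) := by rw [hz, mul_inv_cancel_right]
  have e2 : g * S.η (rep j) * g⁻¹ = S.z := by rw [hx, mul_inv_cancel_right]
  obtain ⟨l, hl, hle⟩ := S.mem_repC hi i3 (g := g * S.η ((repC j).el.get k) * g⁻¹)
    (by
      rw [← e2]
      simp only [mul_assoc, inv_mul_cancel_left]
      rw [← mul_assoc (S.η ((repC j).el.get k)), hc, mul_assoc])
    (by
      rw [← e1]
      simp only [mul_assoc, inv_mul_cancel_left]
      rw [← mul_assoc (S.η ((repC j).el.get k)), S.η_comm hv, mul_assoc])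
  exact ⟨l, hl, by rw [hle, inv_mul_cancel_right]⟩

theorem Setting.card_repC {i j : ℕ} (hi : i < 8) (hj : j < 8) (i3 : i ≠ 3) (j3 : j ≠ 3) {g : G}
    (hz : g * S.z = S.η (rep i) * g) (hx : g * S.η (rep j) = S.z * g) : (repC j).n ≤ (repC i).n := by
  choose f hf hfe using fun k : Fin (repC j).n => S.conj_repC hi hj i3 j3 hz hx k.isLt
  have := Fintype.card_le_of_injective (fun k => (⟨f k, hf k⟩ : Fin (repC i).n)) fun a b hab => Fin.ext (by
    have e : f a = f b := congrArg Fin.val hab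
    refine S.el_inj a.isLt b.isLt (mul_left_cancel (a := g) ?_)
    rw [hfe a, hfe b, e])
  simpa using this

theorem Setting.fus_pair {i : ℕ} (hi : i < 8) (h3 : i ≠ 3) (h : S.Fus i) :
    ∃ j < 8, j ≠ 3 ∧ (repC j).n = (repC i).n ∧ ∃ g, g * S.z = S.η (rep i) * g ∧ g * S.η (rep j) = S.z * g := by
  obtain ⟨g, hg⟩ := isConj_iff.mp h
  have hv : valid (rep i) = true := rep_valid ⟨i, hi⟩
  have hcomm : S.η (rep i) * S.z = S.z * S.η (rep i) := S.η_comm hv
  have hy : g⁻¹ * S.z * g * S.z = S.z * (g⁻¹ * S.z * g) := by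
    have e : S.z = g⁻¹ * S.η (rep i) * g := by
      rw [← hg]
      simp only [mul_assoc, inv_mul_cancel_left, inv_mul_cancel, mul_one]
    conv_lhs => arg 2; rw [e]
    conv_rhs => arg 1; rw [e]
    simp only [mul_assoc, mul_inv_cancel_left]
    rw [← mul_assoc S.z, ← hcomm, mul_assoc]
  obtain ⟨c, hc, hce⟩ := S.η_surj hy
  have hsq : cm c c = cOne := S.η_inj (valid_cm hc hc) valid_one (by
    rw [S.η_mul hc hc, hce, S.η_one]
    simp only [mul_assoc, mul_inv_cancel_left]
    rw [← mul_assoc S.z, S.z_sq, one_mul, inv_mul_cancel])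
  have hne : c ≠ cOne := by
    rintro rfl
    rw [S.η_one, eq_comm, mul_assoc, inv_mul_eq_one] at hce
    exact S.z_ne (mul_right_cancel (hce.symm.trans (one_mul g).symm))
  obtain ⟨j, hj, h, hh, hhe, hj3⟩ := inv_class hc hsq hne
  have hrj : valid (rep j) = true := rep_valid ⟨j, hj⟩
  have h3' : j ≠ 3 := fun e => by
    have e2 := hj3 e
    rw [e2, S.η_z] at hce
    have e4 : g * S.z = S.z * g := by
      conv_lhs => rw [hce]
      simp only [mul_assoc, mul_inv_cancel_left]
    have e5 : S.η (rep i) = S.η cZ := by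
      rw [S.η_z, ← hg, e4, mul_inv_cancel_right]
    have e6 := S.η_inj hv valid_z e5
    have : ∀ k : Fin 8, rep k.val = cZ → k.val = 3 := by decide +kernel
    exact h3 (this ⟨i, hi⟩ e6)
  have hz' : g * S.η h * S.z = S.η (rep i) * (g * S.η h) := by
    rw [mul_assoc, S.η_comm hh, ← mul_assoc, ← hg]
    simp only [mul_assoc, inv_mul_cancel_left]
  have hx' : g * S.η h * S.η (rep j) = S.z * (g * S.η h) := by
    rw [mul_assoc, ← S.η_mul hh hrj, hhe, S.η_mul hc hh, hce]
    simp only [mul_assoc, mul_inv_cancel_left]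
  refine ⟨j, hj, h3', le_antisymm (S.card_repC hi hj h3 h3' hz' hx') ?_, g * S.η h, hz', hx'⟩
  refine S.card_repC hj hi h3' h3 (g := (g * S.η h)⁻¹) ?_ ?_
  · rw [inv_mul_eq_iff_eq_mul, ← mul_assoc, hx', mul_inv_cancel_right]
  · rw [inv_mul_eq_iff_eq_mul, ← mul_assoc, hz', mul_inv_cancel_right]

/-- An element of the centraliser moving a representative to its product with the centre. -/
theorem par_ok : ∀ i : Fin 8, i.val = 0 ∨ i.val = 5 ∨ i.val = 6 ∨ i.val = 2 ∨ i.val = 7 →
    valid (parL.get i.val) = true ∧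
      cm (parL.get i.val) (rep i.val) = cm (cm (rep i.val) cZ) (parL.get i.val) := by decide +kernel

theorem Setting.swap_of_par {i j : ℕ} (hi : i < 8) (hj : j < 8)
    (pi : i = 0 ∨ i = 5 ∨ i = 6 ∨ i = 2 ∨ i = 7) (pj : j = 0 ∨ j = 5 ∨ j = 6 ∨ j = 2 ∨ j = 7) {g : G}
    (hz : g * S.z = S.η (rep i) * g) (hx : g * S.η (rep j) = S.z * g) :
    ∃ t, t * S.z = S.η (rep i) * t ∧ t * S.η (rep i) = S.z * t := by
  obtain ⟨va, ea⟩ := par_ok ⟨i, hi⟩ pi
  obtain ⟨vb, eb⟩ := par_ok ⟨j, hj⟩ pj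
  dsimp only at va ea vb eb
  have ri : valid (rep i) = true := rep_valid ⟨i, hi⟩
  have rj : valid (rep j) = true := rep_valid ⟨j, hj⟩
  set s := S.η (parL.get i) with hs
  set w := S.η (parL.get j) with hw
  have s1 : s * S.z = S.z * s := S.η_comm va
  have s2 : s * S.η (rep i) = S.η (rep i) * S.z * s := by
    rw [hs, ← S.η_mul va ri, ea, S.η_mul (valid_cm ri valid_z) va, S.η_mul ri valid_z, S.η_z]
  have w1 : w * S.z = S.z * w := S.η_comm vb
  have w2 : w * S.η (rep j) = S.η (rep j) * S.z * w := by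
    rw [hw, ← S.η_mul vb rj, eb, S.η_mul (valid_cm rj valid_z) vb, S.η_mul rj valid_z, S.η_z]
  set x := S.η (rep i) with hxdef
  set y := S.η (rep j) with hydef
  have hzz := S.z_sq
  have hxz : x * S.z = S.z * x := S.η_comm ri
  set k := g * w * g⁻¹ with hk
  have ex : g⁻¹ * x = S.z * g⁻¹ := by rw [inv_mul_eq_iff_eq_mul, ← mul_assoc, hz, mul_inv_cancel_right]
  have ez : g⁻¹ * S.z = y * g⁻¹ := by rw [inv_mul_eq_iff_eq_mul, ← mul_assoc, hx, mul_inv_cancel_right]
  have k1 : k * x = x * k := by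
    calc k * x = g * w * (g⁻¹ * x) := by rw [hk]; group
      _ = g * (w * S.z) * g⁻¹ := by rw [ex]; group
      _ = g * S.z * w * g⁻¹ := by rw [w1]; group
      _ = x * k := by rw [hz, hk]; group
  have k2 : k * S.z = S.z * x * k := by
    calc k * S.z = g * w * (g⁻¹ * S.z) := by rw [hk]; group
      _ = g * (w * y) * g⁻¹ := by rw [ez]; group
      _ = g * y * S.z * w * g⁻¹ := by rw [w2]; group
      _ = S.z * (g * S.z) * w * g⁻¹ := by rw [hx]; group
      _ = S.z * x * k := by rw [hz, hk]; group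
  refine ⟨s * k * s, ?_, ?_⟩
  · calc s * k * s * S.z = s * (k * S.z) * s := by rw [mul_assoc (s * k), s1]; group
      _ = (s * S.z) * x * k * s := by rw [k2]; group
      _ = S.z * (s * x) * k * s := by rw [s1]; group
      _ = S.z * (x * S.z) * (s * k * s) := by rw [s2]; group
      _ = x * (s * k * s) := by rw [hxz, ← mul_assoc S.z, hzz, one_mul]
  · calc s * k * s * x = s * k * (s * x) := by group
      _ = s * (k * x) * S.z * s := by rw [s2]; group
      _ = (s * x) * (k * S.z) * s := by rw [k1]; group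
      _ = x * (S.z * (s * S.z)) * x * k * s := by rw [s2, k2]; group
      _ = x * (S.z * S.z) * (s * x) * k * s := by rw [s1]; group
      _ = x * x * S.z * (s * k * s) := by rw [hzz, s2]; group
      _ = S.z * (s * k * s) := by
        have hx2 : x * x = 1 := by
          have : cm (rep i) (rep i) = cOne := by
            have : ∀ q : Fin 8, cm (rep q.val) (rep q.val) = cOne := by decide +kernel
            exact this ⟨i, hi⟩
          rw [hxdef, ← S.η_mul ri ri, this, S.η_one]
        rw [hx2, one_mul]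

/-- The square of a code is the given one. -/
def rootsOf (D : CentData) (c : ℕ) : Finset ℕ :=
  (Finset.range D.n).filter fun k => Nat.beq (cm (D.el.get k) (D.el.get k)) c

theorem mixed_roots : (rootsOf (repC 6) cZ).card = 32 ∧ (rootsOf (repC 6) (rep 6)).card = 16 := by decide +kernel

theorem Setting.not_fus_mixed : ¬ S.Fus 6 := fun h => by
  obtain ⟨j, hj, h3, hn, g, hz, hx⟩ := S.fus_pair (by norm_num) (by norm_num) h
  obtain ⟨n0, n5, n6, n1, n4, n2, n7⟩ := repC_n
  have hj6 : j = 6 := by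
    interval_cases j <;> simp_all
  subst hj6
  choose! f hf hfe using fun k => S.conj_repC (i := 6) (j := 6) (k := k) (by norm_num) (by norm_num) (by norm_num)
    (by norm_num) hz hx
  have hle : (rootsOf (repC 6) cZ).card ≤ (rootsOf (repC 6) (rep 6)).card := by
    refine Finset.card_le_card_of_injOn f (fun k hk => ?_) (fun a ha b hb hab => ?_)
    · simp only [rootsOf, Finset.coe_filter, Finset.mem_range, Set.mem_setOf_eq] at hk ⊢
      obtain ⟨hk1, hk2⟩ := hk
      obtain ⟨v, -, -⟩ := CentData.el_ok (repC_ok 6) hk1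
      obtain ⟨w, -, -⟩ := CentData.el_ok (repC_ok 6) (hf k hk1)
      have e := S.conj_mul v v w w (hfe k hk1) (hfe k hk1)
      rw [Nat.eq_of_beq_eq_true hk2, S.η_z, hz] at e
      refine ⟨hf k hk1, ?_⟩
      rw [← S.η_inj (rep_valid ⟨6, by norm_num⟩) (valid_cm w w) (mul_right_cancel e)]
      exact Nat.beq_refl _
    · simp only [rootsOf, Finset.coe_filter, Finset.mem_range, Set.mem_setOf_eq] at ha hb
      refine S.el_inj ha.1 hb.1 (mul_left_cancel (a := g) ?_)
      rw [hfe a ha.1, hfe b hb.1, hab]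
  rw [mixed_roots.1, mixed_roots.2] at hle
  norm_num at hle

theorem clB_no_root : allR (fun k => !Nat.beq (cm ((repC 4).el.get k) ((repC 4).el.get k)) (rep 4)) 0 256 = true := by
  decide +kernel

theorem root_ok : ∀ j : Fin 8, j.val = 1 ∨ j.val = 4 →
    ((repC j.val).ix.find (rootL.get j.val)).isSome = true ∧ cm (rootL.get j.val) (rootL.get j.val) = cZ := by
  decide +kernel

theorem Setting.not_fus_B : ¬ S.Fus 4 := fun h => by
  obtain ⟨j, hj, h3, hn, g, hz, hx⟩ := S.fus_pair (by norm_num) (by norm_num) h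
  obtain ⟨n0, n5, n6, n1, n4, n2, n7⟩ := repC_n
  have hj' : j = 1 ∨ j = 4 := by
    interval_cases j <;> simp_all
  obtain ⟨hs, hsq⟩ := root_ok ⟨j, hj⟩ hj'
  dsimp only at hs hsq
  obtain ⟨k, hk⟩ := Option.isSome_iff_exists.mp hs
  obtain ⟨k1, k2⟩ := CentData.find_el (repC_ok j) hk
  obtain ⟨l, hl, hle⟩ := S.conj_repC (i := 4) (by norm_num) hj (by norm_num) h3 hz hx k1
  obtain ⟨v, -, -⟩ := CentData.el_ok (repC_ok j) k1
  obtain ⟨w, -, -⟩ := CentData.el_ok (repC_ok 4) hl
  have e := S.conj_mul v v w w hle hle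
  rw [k2] at e
  rw [hsq, S.η_z, hz] at e
  have e2 := S.η_inj (rep_valid ⟨4, by norm_num⟩) (valid_cm w w) (mul_right_cancel e)
  have e3 := allR_sound _ _ _ clB_no_root l (Nat.zero_le _) (by omega)
  rw [← e2, Nat.beq_refl] at e3
  simp at e3

theorem Setting.exists_swap {i : ℕ} (hi : i = 0 ∨ i = 5 ∨ i = 2 ∨ i = 7 ∨ i = 1) (h : S.Fus i) :
    ∃ t, t * S.z = S.η (rep i) * t ∧ t * S.η (rep i) = S.z * t := by
  have hi8 : i < 8 := by omega
  obtain ⟨j, hj, h3, hn, g, hz, hx⟩ := S.fus_pair hi8 (by omega) h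
  obtain ⟨n0, n5, n6, n1, n4, n2, n7⟩ := repC_n
  by_cases h1 : i = 1
  · subst h1
    have hj' : j = 1 ∨ j = 4 := by
      interval_cases j <;> simp_all
    rcases hj' with rfl | rfl
    · exact ⟨g, hz, hx⟩
    · exact absurd (isConj_iff.mpr ⟨g⁻¹, by rw [inv_inv, mul_assoc, ← hx, inv_mul_cancel_left]⟩) S.not_fus_B
  · refine S.swap_of_par hi8 hj (by omega) ?_ hz hx
    rcases hi with rfl | rfl | rfl | rfl | rfl <;> interval_cases j <;> simp_all

end Cfsg.Lib.HeldType
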