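import Cfsg.Agent.HeldType.Raw

/-!
Values of closed paths in the normaliser of an elementary abelian group.
-/

set_option autoImplicit false
set_option maxRecDepth 100000

namespace Cfsg.Lib.HeldType

/-- Six linear forms. -/
structure Form6 where
  f0 : ℕ
  f1 : ℕ
  f2 : ℕ
  f3 : ℕ
  f4 : ℕ
  f5 : ℕ

/-- A form by number. -/
def Form6.get (F : Form6) : ℕ → ℕ
  | 0 => F.f0
  | 1 => F.f1
  | 2 => F.f2
  | 3 => F.f3
  | 4 => F.f4
  | _ => F.f5

/-- The parity of the first bits. -/
def par : ℕ → ℕ → Bool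
  | 0, _ => false
  | n + 1, x => xor (bit x n) (par n x)

theorem par_xor : ∀ (n a b : ℕ), par n (a ^^^ b) = xor (par n a) (par n b)
  | 0, _, _ => rfl
  | n + 1, a, b => by
    simp only [par, bit_eq, Nat.testBit_xor, par_xor n]
    cases a.testBit n <;> cases b.testBit n <;> cases par n a <;> cases par n b <;> rfl

/-- The number of unknown bits and the constant one. -/
def nBits : ℕ := 73

/-- The value of a linear form. -/
def evF (V m : ℕ) : Bool := par nBits (m &&& V)

theorem evF_xor (V a b : ℕ) : evF V (a ^^^ b) = xor (evF V a) (evF V b) := by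
  rw [evF, Nat.and_xor_distrib_right, par_xor]
  rfl

/-- Six bits as a number. -/
def six (b0 b1 b2 b3 b4 b5 : Bool) : ℕ :=
  b0.toNat + 2 * b1.toNat + 4 * b2.toNat + 8 * b3.toNat + 16 * b4.toNat + 32 * b5.toNat

/-- The vector of six forms. -/
def Form6.vec (F : Form6) (V : ℕ) : ℕ :=
  six (evF V F.f0) (evF V F.f1) (evF V F.f2) (evF V F.f3) (evF V F.f4) (evF V F.f5)

theorem six_lt (a b c d e f : Bool) : six a b c d e f < 64 := by
  cases a <;> cases b <;> cases c <;> cases d <;> cases e <;> cases f <;> decide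

theorem six_bit : ∀ a b c d e f : Bool, ∀ q : Fin 6,
    (six a b c d e f).testBit q.val = (match q.val with | 0 => a | 1 => b | 2 => c | 3 => d | 4 => e | _ => f) := by
  decide +kernel

theorem Form6.vec_bit (F : Form6) (V : ℕ) (q : Fin 6) : (F.vec V).testBit q.val = evF V (F.get q.val) := by
  rw [Form6.vec, six_bit]
  fin_cases q <;> rfl

theorem vec_ext {a b : ℕ} (ha : a < 64) (hb : b < 64) (h : ∀ q : Fin 6, a.testBit q.val = b.testBit q.val) : a = b :=
  Nat.eq_of_testBit_eq fun k => by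
    rcases Nat.lt_or_ge k 6 with hk | hk
    · exact h ⟨k, hk⟩
    · rw [Nat.testBit_lt_two_pow (lt_of_lt_of_le ha (Nat.pow_le_pow_right (by norm_num) hk : 2 ^ 6 ≤ 2 ^ k)),
        Nat.testBit_lt_two_pow (lt_of_lt_of_le hb (Nat.pow_le_pow_right (by norm_num) hk : 2 ^ 6 ≤ 2 ^ k))]

/-- The data of an elementary abelian group and the letters of its normaliser. -/
structure LocD where
  el : Tab ℕ
  ix : BT ℕ
  side : Bool
  nl : ℕ
  lets : Tab (List Let)
  act : Tab (Tab ℕ)
  cw : List ℕ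
  ac : Tab ℕ

/-- The image of a vector under a word of letters. -/
def LocD.actW (D : LocD) : List ℕ → ℕ → ℕ
  | [], v => v
  | l :: w, v => (D.act.get l).get (D.actW w v)

/-- The image of six forms under a linear map. -/
def applyA (A : Tab ℕ) (q : ℕ) (F : Form6) : ℕ :=
  Nat.xor (bif bit (A.get 1) q then F.f0 else 0) (Nat.xor (bif bit (A.get 2) q then F.f1 else 0)
    (Nat.xor (bif bit (A.get 4) q then F.f2 else 0) (Nat.xor (bif bit (A.get 8) q then F.f3 else 0)
      (Nat.xor (bif bit (A.get 16) q then F.f4 else 0) (bif bit (A.get 32) q then F.f5 else 0)))))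

/-- The forms of a word. -/
def LocD.lin (D : LocD) : List ℕ → Form6
  | [] => ⟨0, 0, 0, 0, 0, 0⟩
  | l :: w =>
    let F := D.lin w
    let A := D.act.get l
    let v := fun q => Nat.xor (Nat.shiftLeft 1 (1 + 6 * l + q)) (applyA A q F)
    ⟨v 0, v 1, v 2, v 3, v 4, v 5⟩

/-- The raw word of a word of letters. -/
def LocD.raw (D : LocD) (w : List ℕ) : List Let := w.flatMap D.lets.get

/-- The map is linear. -/
def linOK (A : Tab ℕ) : Bool :=
  Nat.beq (A.get 0) 0 && allR (fun v => Nat.blt (A.get v) 64 && Nat.beq (A.get v)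
    (Nat.xor (bif bit v 0 then A.get 1 else 0) (Nat.xor (bif bit v 1 then A.get 2 else 0)
      (Nat.xor (bif bit v 2 then A.get 4 else 0) (Nat.xor (bif bit v 3 then A.get 8 else 0)
        (Nat.xor (bif bit v 4 then A.get 16 else 0) (bif bit v 5 then A.get 32 else 0))))))) 0 64

/-- The group is elementary abelian and self-centralising. -/
def LocD.okGrp (D : LocD) (P : Pars) : Bool :=
  let C := (P.side D.side).C
  Nat.beq (D.el.get 0) cOne &&
  allR (fun v => valid (D.el.get v) &&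
    (match D.ix.find (D.el.get v) with | some u => Nat.beq u v | none => false) &&
    allR (fun u => Nat.beq (cm (D.el.get v) (D.el.get u)) (D.el.get (Nat.xor v u))) 0 64) 0 64 &&
  (D.ix.all fun c v => Nat.blt v 64 && Nat.beq (D.el.get v) c) &&
  (D.ix.find cZ).isSome && (D.ix.find C.x).isSome &&
  allR (fun k => !(comm (C.el.get k) (D.el.get 1) && comm (C.el.get k) (D.el.get 2) && comm (C.el.get k) (D.el.get 4) &&
    comm (C.el.get k) (D.el.get 8) && comm (C.el.get k) (D.el.get 16) && comm (C.el.get k) (D.el.get 32)) ||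
    (D.ix.find (C.el.get k)).isSome) 0 C.n

/-- The letters act as tabulated. -/
def LocD.okActs (D : LocD) (P : Pars) : Bool :=
  allR (fun l => linOK (D.act.get l) && allR (fun v =>
    match conjWord P (D.lets.get l) (D.el.get v) with
    | some d => Nat.beq d (D.el.get ((D.act.get l).get v))
    | none => false) 0 64) 0 D.nl

/-- The special element. -/
def LocD.okC (D : LocD) : Bool :=
  (D.cw.all fun l => Nat.blt l D.nl) && linOK D.ac &&
  allR (fun v => Nat.beq (D.ac.get v) (D.actW D.cw v) && Nat.beq (D.ac.get (D.ac.get (D.ac.get v))) v &&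
    (!Nat.beq (D.ac.get v) v || Nat.beq v 0)) 0 64 &&
  allR (fun l =>
    (allR (fun v => Nat.beq ((D.act.get l).get (D.ac.get v)) (D.ac.get ((D.act.get l).get v))) 0 64 ||
      allR (fun v => Nat.beq ((D.act.get l).get (D.ac.get v)) (D.ac.get (D.ac.get ((D.act.get l).get v)))) 0 64))
    0 D.nl &&
  allR (fun e => (List.range 64).any (fun v => Nat.beq (Nat.xor v (D.ac.get v)) e)) 0 64

/-- All checks. -/
def LocD.ok (D : LocD) (P : Pars) : Bool :=
  Nat.blt D.nl 13 && (D.okGrp P && (D.okActs P && D.okC))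

variable {G : Type*} [Group G] {S : Setting G} {P : Pars} (Q : Pair S P) {D : LocD}

/-- The element of a vector. -/
def LocD.ee (D : LocD) (S : Setting G) (v : ℕ) : G := S.η (D.el.get v)

theorem grp_facts (h : D.ok P = true) : D.el.get 0 = cOne ∧
    (∀ v, v < 64 → valid (D.el.get v) = true) ∧
    (∀ v u, v < 64 → u < 64 → D.ee S v * D.ee S u = D.ee S (v ^^^ u)) ∧
    (∀ v u, v < 64 → u < 64 → D.ee S v = D.ee S u → v = u) := by
  simp only [LocD.ok, LocD.okGrp, Bool.and_eq_true] at h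
  obtain ⟨-, ⟨⟨⟨⟨⟨h0, hv⟩, -⟩, -⟩, -⟩, -⟩, -⟩ := h
  have hv' : ∀ v, v < 64 → valid (D.el.get v) = true ∧
      D.ix.find (D.el.get v) = some v ∧
      ∀ u, u < 64 → cm (D.el.get v) (D.el.get u) = D.el.get (Nat.xor v u) := fun v hl => by
    have := allR_sound _ _ _ hv v (Nat.zero_le _) (by omega)
    simp only [Bool.and_eq_true] at this
    refine ⟨this.1.1, ?_, fun u hu =>
      Nat.eq_of_beq_eq_true (allR_sound _ _ _ this.2 u (Nat.zero_le _) (by omega))⟩
    cases hf : D.ix.find (D.el.get v) with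
    | none => rw [hf] at this; simp at this
    | some u => rw [hf] at this; rw [Nat.eq_of_beq_eq_true this.1.2]
  refine ⟨Nat.eq_of_beq_eq_true h0, fun v hl => (hv' v hl).1, fun v u a b => ?_, fun v u a b e => ?_⟩
  · show S.η _ * S.η _ = S.η _
    rw [← S.η_mul (hv' v a).1 (hv' u b).1, (hv' v a).2.2 u b]
    rfl
  · have e1 := (hv' v a).2.1
    rw [S.η_inj (hv' v a).1 (hv' u b).1 e, (hv' u b).2.1] at e1
    exact (Option.some.inj e1).symm

theorem xor_lt {a b : ℕ} (ha : a < 64) (hb : b < 64) : a ^^^ b < 64 := Nat.xor_lt_two_pow (n := 6) ha hb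

theorem linOK_facts {A : Tab ℕ} (h : linOK A = true) : A.get 0 = 0 ∧
    (∀ v, v < 64 → A.get v < 64) ∧ ∀ v, v < 64 → A.get v =
      Nat.xor (bif bit v 0 then A.get 1 else 0) (Nat.xor (bif bit v 1 then A.get 2 else 0)
      (Nat.xor (bif bit v 2 then A.get 4 else 0) (Nat.xor (bif bit v 3 then A.get 8 else 0)
        (Nat.xor (bif bit v 4 then A.get 16 else 0) (bif bit v 5 then A.get 32 else 0))))) := by
  simp only [linOK, Bool.and_eq_true] at h
  have hv : ∀ v, v < 64 → _ := fun v hl => allR_sound _ _ _ h.2 v (Nat.zero_le _) (by omega)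
  simp only [Bool.and_eq_true, Nat.blt_eq] at hv
  exact ⟨Nat.eq_of_beq_eq_true h.1, fun v hl => (hv v hl).1, fun v hl => Nat.eq_of_beq_eq_true (hv v hl).2⟩

theorem Form6.vec_lt (F : Form6) (V : ℕ) : F.vec V < 64 := six_lt _ _ _ _ _ _

theorem evF_cond (V : ℕ) (b : Bool) (m : ℕ) : evF V (bif b then m else 0) = (b && evF V m) := by
  cases b
  · have : evF V 0 = false := by
      have : ∀ n, par n 0 = false := fun n => by induction n with
        | zero => rfl
        | succ n ih => simp [par, bit_eq, ih]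
      rw [evF, Nat.zero_and, this]
    simpa using this
  · rfl

theorem lin_apply {A : Tab ℕ} (h : linOK A = true) (F : Form6) (V : ℕ) (q : Fin 6) :
    evF V (applyA A q.val F) = (A.get (F.vec V)).testBit q.val := by
  rw [(linOK_facts h).2.2 _ (F.vec_lt V)]
  have b := fun j : Fin 6 => F.vec_bit V j
  have b0 := b 0; have b1 := b 1; have b2 := b 2; have b3 := b 3; have b4 := b 4; have b5 := b 5
  simp only [Fin.val_zero, Fin.val_one, Fin.val_two] at b0 b1 b2
  rw [show ((3 : Fin 6) : ℕ) = 3 from rfl] at b3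
  rw [show ((4 : Fin 6) : ℕ) = 4 from rfl] at b4
  rw [show ((5 : Fin 6) : ℕ) = 5 from rfl] at b5
  simp only [bit_eq, b0, b1, b2, b3, b4, b5, Form6.get, applyA]
  show evF V (_ ^^^ (_ ^^^ (_ ^^^ (_ ^^^ (_ ^^^ _))))) = Nat.testBit (_ ^^^ (_ ^^^ (_ ^^^ (_ ^^^ (_ ^^^ _))))) _
  simp only [evF_xor, evF_cond, Nat.testBit_xor, testBit_cond, bit_eq, Bool.and_comm]

theorem par_single : ∀ n k : ℕ, par n (2 ^ k) = decide (k < n)
  | 0, k => by simp [par]
  | n + 1, k => by
    simp only [par, bit_eq, Nat.testBit_two_pow, par_single n k]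
    rcases Nat.lt_trichotomy k n with h | h | h
    · simp [Nat.ne_of_lt h, h, Nat.lt_succ_of_lt h]
    · subst h; simp
    · simp [Nat.ne_of_gt h, Nat.not_lt.mpr h.le, Nat.not_le.mpr h]

theorem evF_single {k V : ℕ} (hk : k < nBits) : evF V (2 ^ k) = V.testBit k := by
  cases hb : V.testBit k with
  | true =>
    have e : 2 ^ k &&& V = 2 ^ k := Nat.eq_of_testBit_eq fun i => by
      rw [Nat.testBit_and, Nat.testBit_two_pow]
      by_cases h : k = i
      · subst h; simp [hb]
      · simp [h]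
    rw [evF, e, par_single, decide_eq_true hk]
  | false =>
    have e : 2 ^ k &&& V = 0 := Nat.eq_of_testBit_eq fun i => by
      rw [Nat.testBit_and, Nat.testBit_two_pow, Nat.zero_testBit]
      by_cases h : k = i
      · subst h; simp [hb]
      · simp [h]
    have h0 := evF_cond V false 0
    rw [evF] at h0 ⊢
    rw [e]
    simpa using h0

/-- The six unknown bits of a letter. -/
def uvec (V l : ℕ) : ℕ := (V >>> (1 + 6 * l)) % 64

theorem uvec_bit (V l : ℕ) (q : Fin 6) : (uvec V l).testBit q.val = V.testBit (1 + 6 * l + q.val) := by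
  rw [uvec, show (64 : ℕ) = 2 ^ 6 from rfl, Nat.testBit_mod_two_pow, decide_eq_true q.isLt, Bool.true_and,
    Nat.testBit_shiftRight]

theorem lin_vec {l : ℕ} {w : List ℕ} (hl : l < 12) (hA : linOK (D.act.get l) = true) (V : ℕ) :
    (D.lin (l :: w)).vec V = uvec V l ^^^ (D.act.get l).get ((D.lin w).vec V) := by
  refine vec_ext (Form6.vec_lt _ _) (xor_lt (Nat.mod_lt _ (by norm_num)) ((linOK_facts hA).2.1 _ (Form6.vec_lt _ _)))
    fun q => ?_
  rw [Form6.vec_bit, Nat.testBit_xor, uvec_bit, ← lin_apply hA]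
  have e : (D.lin (l :: w)).get q.val =
      Nat.shiftLeft 1 (1 + 6 * l + q.val) ^^^ applyA (D.act.get l) q.val (D.lin w) := by
    fin_cases q <;> rfl
  rw [e, evF_xor]
  show xor (evF V (1 <<< (1 + 6 * l + q.val))) _ = _
  rw [Nat.one_shiftLeft, evF_single (by have := q.isLt; unfold nBits; omega)]

theorem acts_facts (h : D.ok P = true) {l : ℕ} (hl : l < D.nl) : l < 12 ∧ linOK (D.act.get l) = true ∧
    ∀ v, v < 64 → Q.val (D.lets.get l) * D.ee S v = D.ee S ((D.act.get l).get v) * Q.val (D.lets.get l) := by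
  simp only [LocD.ok, LocD.okActs, Bool.and_eq_true, Nat.blt_eq] at h
  obtain ⟨hn, -, hA, -⟩ := h
  have h1 := allR_sound _ _ _ hA l (Nat.zero_le _) (by omega)
  simp only [Bool.and_eq_true] at h1
  refine ⟨by omega, h1.1, fun v hv => ?_⟩
  have h2 := allR_sound _ _ _ h1.2 v (Nat.zero_le _) (by omega)
  cases hc : conjWord P (D.lets.get l) (D.el.get v) with
  | none => rw [hc] at h2; simp at h2
  | some d =>
    rw [hc] at h2
    obtain ⟨-, -, e⟩ := Q.conjWord_sound hc
    rw [Nat.eq_of_beq_eq_true h2] at e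
    exact e

theorem word_acts (h : D.ok P = true) : ∀ {w : List ℕ}, (∀ l ∈ w, l < D.nl) → ∀ v, v < 64 →
    D.actW w v < 64 ∧ Q.val (D.raw w) * D.ee S v = D.ee S (D.actW w v) * Q.val (D.raw w)
  | [], _, v, hv => ⟨hv, by simp [LocD.raw, LocD.actW, Pair.val]⟩
  | l :: w, hw, v, hv => by
    obtain ⟨h1, h2⟩ := word_acts h (fun x hx => hw x (List.mem_cons_of_mem _ hx)) v hv
    obtain ⟨-, hA, hc⟩ := acts_facts Q h (hw l List.mem_cons_self)
    refine ⟨(linOK_facts hA).2.1 _ h1, ?_⟩
    simp only [LocD.raw, List.flatMap_cons, Q.val_append] at h2 ⊢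
    rw [mul_assoc, h2, ← mul_assoc, hc _ h1, mul_assoc]
    rfl

include Q in
theorem cent_mem (h : D.ok P = true) {g : G} (hg : ∀ v, v < 64 → g * D.ee S v = D.ee S v * g) :
    ∃ a, a < 64 ∧ g = D.ee S a := by
  have hh := h
  simp only [LocD.ok, LocD.okGrp, Bool.and_eq_true] at h
  obtain ⟨-, ⟨⟨⟨⟨⟨-, -⟩, hix⟩, hz⟩, hx⟩, hc⟩, -⟩ := h
  have hok := Q.side_ok D.side
  have key : ∀ {c}, (D.ix.find c).isSome = true → ∃ v, v < 64 ∧ D.el.get v = c := fun {c} hc => by
    obtain ⟨v, hv⟩ := Option.isSome_iff_exists.mp hc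
    have := BT.find_all _ _ hix hv
    simp only [Bool.and_eq_true, Nat.blt_eq] at this
    exact ⟨v, this.1, Nat.eq_of_beq_eq_true this.2⟩
  obtain ⟨vz, hvz, ez⟩ := key hz
  have gz := hg vz hvz
  simp only [LocD.ee, ez, S.η_z] at gz
  obtain ⟨c, hcv, rfl⟩ := S.η_surj gz
  obtain ⟨gf, hel, -, -⟩ := grp_facts (S := S) hh
  have com : ∀ v, v < 64 → cm c (D.el.get v) = cm (D.el.get v) c := fun v hv =>
    S.η_inj (valid_cm hcv (hel v hv)) (valid_cm (hel v hv) hcv) (by
      rw [S.η_mul hcv (hel v hv), S.η_mul (hel v hv) hcv]; exact hg v hv)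
  obtain ⟨vx, hvx, ex⟩ := key hx
  have cx := com vx hvx
  rw [ex] at cx
  obtain ⟨k, hk, rfl⟩ := CentData.complete hok hcv cx
  have hk2 := allR_sound _ _ _ hc k (Nat.zero_le _) (by omega)
  have cc : ∀ v, v < 64 → comm ((P.side D.side).C.el.get k) (D.el.get v) = true := fun v hv => by
    rw [comm, com v hv]; exact Nat.beq_refl _
  simp only [cc 1 (by norm_num), cc 2 (by norm_num), cc 4 (by norm_num), cc 8 (by norm_num), cc 16 (by norm_num),
    cc 32 (by norm_num), Bool.and_self, Bool.not_true, Bool.false_or] at hk2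
  obtain ⟨v, hv, ev⟩ := key hk2
  exact ⟨v, hv, by rw [LocD.ee, ev]⟩

/-- The values of closed words are given by the forms. -/
theorem LocD.exists_values (h : D.ok P = true) : ∃ V : ℕ, V.testBit 0 = true ∧ ∀ w : List ℕ, (∀ l ∈ w, l < D.nl) →
    (∀ v, v < 64 → D.actW w v = v) → Q.val (D.raw w) = D.ee S ((D.lin w).vec V) := by
  obtain ⟨e0, hel, emul, einj⟩ := grp_facts (S := S) h
  have hh := h
  simp only [LocD.ok, LocD.okC, Bool.and_eq_true] at h
  obtain ⟨-, -, -, ⟨⟨⟨hcw, hcl⟩, hc3⟩, hnorm⟩, hsur⟩ := h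
  simp only [List.all_eq_true, Nat.blt_eq] at hcw
  have c3 : ∀ v, v < 64 → D.actW D.cw v = D.ac.get v ∧ D.ac.get (D.ac.get (D.ac.get v)) = v ∧
      (D.ac.get v = v → v = 0) := fun v hv => by
    have := allR_sound _ _ _ hc3 v (Nat.zero_le _) (by omega)
    simp only [Bool.and_eq_true, Bool.or_eq_true, Bool.not_eq_true'] at this
    refine ⟨(Nat.eq_of_beq_eq_true this.1.1).symm, Nat.eq_of_beq_eq_true this.1.2, fun e => ?_⟩
    rcases this.2 with a | a
    · rw [e, Nat.beq_refl] at a; simp at a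
    · exact Nat.eq_of_beq_eq_true a
  obtain ⟨-, aclt, -⟩ := linOK_facts hcl
  set u := Q.val (D.raw D.cw) with hu
  have hu1 : ∀ v, v < 64 → u * D.ee S v = D.ee S (D.ac.get v) * u := fun v hv => by
    rw [← (c3 v hv).1]; exact (word_acts Q hh hcw v hv).2
  have ee0 : D.ee S 0 = 1 := by rw [LocD.ee, e0, S.η_one]
  have esq : ∀ v, v < 64 → D.ee S v * D.ee S v = 1 := fun v hv => by rw [emul v v hv hv, Nat.xor_self, ee0]
  have hp : ∀ (n : ℕ), u ^ (3 * n) ∈ {g : G | ∀ v, v < 64 → g * D.ee S v = D.ee S v * g} := by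
    intro n v hv
    induction n with
    | zero => simp
    | succ n ih =>
      rw [Nat.mul_succ, pow_add, mul_assoc]
      have e3 : u ^ 3 * D.ee S v = D.ee S v * u ^ 3 := by
        rw [pow_succ, pow_two, mul_assoc, hu1 v hv, ← mul_assoc, mul_assoc u u, hu1 _ (aclt v hv), ← mul_assoc,
          hu1 _ (aclt _ (aclt v hv)), (c3 v hv).2.1]
        simp only [mul_assoc]
      rw [e3, ← mul_assoc, ih, mul_assoc]
  set c := u ^ 4 with hc
  have hc1 : ∀ v, v < 64 → c * D.ee S v = D.ee S (D.ac.get v) * c := fun v hv => by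
    rw [hc, show u ^ 4 = u * u ^ (3 * 1) by rw [← pow_succ'], mul_assoc, hp 1 v hv, ← mul_assoc, hu1 v hv, mul_assoc]
  obtain ⟨a, ha, hua⟩ := cent_mem Q hh (hp 1)
  have hc2 : c ^ 3 = 1 := by
    have e6 : u ^ (3 * 1) * u ^ (3 * 1) = 1 := by rw [hua, esq a ha]
    calc c ^ 3 = (u ^ (3 * 1) * u ^ (3 * 1)) * (u ^ (3 * 1) * u ^ (3 * 1)) := by
          rw [hc, ← pow_mul, ← pow_add, ← pow_add]
      _ = 1 := by rw [e6, one_mul]
  -- the translation of a letter
  have hlet : ∀ l, l < D.nl → ∃ b, b < 64 ∧ ∃ s : ℕ, (s = 1 ∨ s = 2) ∧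
      D.ee S b * Q.val (D.lets.get l) * c = c ^ s * (D.ee S b * Q.val (D.lets.get l)) := by
    intro l hl
    obtain ⟨-, hA, hAc⟩ := acts_facts Q hh hl
    obtain ⟨-, alt, -⟩ := linOK_facts hA
    set g := Q.val (D.lets.get l) with hg
    have hs : ∃ s : ℕ, (s = 1 ∨ s = 2) ∧ ∀ v, v < 64 →
        g * c * D.ee S v * (g * c)⁻¹ = c ^ s * g * D.ee S v * (c ^ s * g)⁻¹ := by
      have hh2 := allR_sound _ _ _ hnorm l (Nat.zero_le _) (by omega)
      simp only [Bool.or_eq_true] at hh2
      have lhs : ∀ v, v < 64 → g * c * D.ee S v * (g * c)⁻¹ = D.ee S ((D.act.get l).get (D.ac.get v)) := fun v hv => by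
        rw [mul_assoc g, hc1 v hv, ← mul_assoc, hAc _ (aclt v hv), mul_assoc _ g, mul_inv_cancel_right]
      rcases hh2 with e | e
      · refine ⟨1, Or.inl rfl, fun v hv => ?_⟩
        rw [lhs v hv, Nat.eq_of_beq_eq_true (allR_sound _ _ _ e v (Nat.zero_le _) (by omega)), pow_one,
          mul_assoc c, hAc v hv, ← mul_assoc, hc1 _ (alt v hv), mul_assoc _ c, mul_inv_cancel_right]
      · refine ⟨2, Or.inr rfl, fun v hv => ?_⟩
        rw [lhs v hv, Nat.eq_of_beq_eq_true (allR_sound _ _ _ e v (Nat.zero_le _) (by omega)), pow_two,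
          mul_assoc (c * c), hAc v hv, ← mul_assoc, mul_assoc c c, hc1 _ (alt v hv), ← mul_assoc,
          hc1 _ (aclt _ (alt v hv)), mul_assoc _ c c, mul_assoc _ (c * c), mul_inv_cancel_right]
    obtain ⟨s, hs12, hs⟩ := hs
    obtain ⟨e, he, hde⟩ := cent_mem Q hh (g := (c ^ s * g)⁻¹ * (g * c)) fun v hv => by
      have := hs v hv
      rw [mul_inv_eq_iff_eq_mul] at this
      rw [mul_assoc, this]
      group
    rw [inv_mul_eq_iff_eq_mul] at hde
    obtain ⟨e', he', hde'⟩ : ∃ e', e' < 64 ∧ g * c = D.ee S e' * (c ^ s * g) := by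
      rcases hs12 with rfl | rfl
      · refine ⟨D.ac.get ((D.act.get l).get e), aclt _ (alt e he), ?_⟩
        rw [hde, pow_one, mul_assoc c, hAc e he, ← mul_assoc, hc1 _ (alt e he), mul_assoc]
      · refine ⟨D.ac.get (D.ac.get ((D.act.get l).get e)), aclt _ (aclt _ (alt e he)), ?_⟩
        rw [hde, pow_two, mul_assoc (c * c), hAc e he, ← mul_assoc, mul_assoc c c, hc1 _ (alt e he), ← mul_assoc,
          hc1 _ (aclt _ (alt e he))]
        simp only [mul_assoc]
    have hb0 := allR_sound _ _ _ hsur e' (Nat.zero_le _) (by omega)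
    simp only [List.any_eq_true, List.mem_range] at hb0
    obtain ⟨b, hb, hbe⟩ := hb0
    have hbe' : b ^^^ D.ac.get b = e' := Nat.eq_of_beq_eq_true hbe
    rcases hs12 with rfl | rfl
    · refine ⟨b, hb, 1, Or.inl rfl, ?_⟩
      rw [pow_one] at hde' ⊢
      rw [mul_assoc, hde', ← mul_assoc, emul b e' hb he', ← hbe', ← Nat.xor_assoc, Nat.xor_self, Nat.zero_xor,
        ← mul_assoc c, hc1 b hb]
      simp only [mul_assoc]
    · refine ⟨D.ac.get b, aclt b hb, 2, Or.inr rfl, ?_⟩
      have e2 : D.ac.get b ^^^ e' = b := by rw [← hbe', Nat.xor_comm b, ← Nat.xor_assoc, Nat.xor_self, Nat.zero_xor]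
      have e3 : c ^ 2 * D.ee S (D.ac.get b) = D.ee S b * c ^ 2 := by
        rw [pow_two, mul_assoc, hc1 _ (aclt b hb), ← mul_assoc, hc1 _ (aclt _ (aclt b hb)), (c3 b hb).2.1, mul_assoc]
      rw [mul_assoc, hde', ← mul_assoc, emul _ e' (aclt b hb) he', e2, ← mul_assoc (c ^ 2), e3]
      simp only [mul_assoc]
  choose! b hb s hs12 hbc using hlet
  let pack : ℕ → ℕ := fun n => ((List.range n).map fun l => b l * 64 ^ l).sum
  have hpack : ∀ n, n ≤ D.nl → pack n < 64 ^ n ∧ ∀ l, l < n → pack n / 64 ^ l % 64 = b l := by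
    intro n
    induction n with
    | zero => exact fun _ => ⟨by simp [pack], fun l hl => absurd hl (Nat.not_lt_zero l)⟩
    | succ n ih =>
      intro hn
      obtain ⟨h1, h2⟩ := ih (by omega)
      have hbn := hb n (by omega)
      have e : pack (n + 1) = pack n + b n * 64 ^ n := by simp [pack, List.range_succ, Nat.add_comm]
      have hp : (0 : ℕ) < 64 ^ n := by positivity
      refine ⟨?_, fun l hl => ?_⟩
      · rw [e, pow_succ]
        have : b n * 64 ^ n ≤ 63 * 64 ^ n := Nat.mul_le_mul_right _ (by omega)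
        omega
      · rcases Nat.lt_or_ge l n with hln | hln
        · rw [e, show b n * 64 ^ n = b n * 64 ^ (n - l) * 64 ^ l by rw [mul_assoc, ← pow_add, Nat.sub_add_cancel hln.le],
            Nat.add_mul_div_right _ _ (by positivity : (0 : ℕ) < 64 ^ l), Nat.add_mod, h2 l hln,
            show b n * 64 ^ (n - l) % 64 = 0 by
              obtain ⟨m, hm⟩ : ∃ m, n - l = m + 1 := ⟨n - l - 1, by omega⟩
              rw [hm, pow_succ, ← mul_assoc, Nat.mul_mod_left], Nat.add_zero, Nat.mod_eq_of_lt (hb l (by omega))]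
        · obtain rfl : l = n := by omega
          rw [e, Nat.add_mul_div_right _ _ hp, Nat.div_eq_of_lt h1, Nat.zero_add, Nat.mod_eq_of_lt hbn]
  refine ⟨2 * pack D.nl + 1, by simp [Nat.testBit_zero], fun w hw hid => ?_⟩
  have huv : ∀ l, l < D.nl → uvec (2 * pack D.nl + 1) l = b l := fun l hl => by
    rw [uvec, Nat.shiftRight_add, show (2 * pack D.nl + 1) >>> 1 = pack D.nl by
      rw [Nat.shiftRight_eq_div_pow, pow_one]; omega, Nat.shiftRight_eq_div_pow, pow_mul]
    exact (hpack _ le_rfl).2 l hl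
  set V := 2 * pack D.nl + 1
  have main : ∀ w : List ℕ, (∀ l ∈ w, l < D.nl) → ∃ m : ℕ, (m = 1 ∨ m = 2) ∧
      D.ee S ((D.lin w).vec V) * Q.val (D.raw w) * c = c ^ m * (D.ee S ((D.lin w).vec V) * Q.val (D.raw w)) := by
    intro w hw
    induction w with
    | nil =>
      refine ⟨1, Or.inl rfl, ?_⟩
      have e : (D.lin []).vec V = 0 := by
        have : ∀ n, par n 0 = false := fun n => by induction n with
          | zero => rfl
          | succ n ih => simp [par, bit_eq, ih]
        simp [LocD.lin, Form6.vec, evF, this, six]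
      rw [e, ee0, pow_one]
      simp [LocD.raw, Pair.val]
    | cons l w ih =>
      obtain ⟨m, hm, hmc⟩ := ih fun x hx => hw x (List.mem_cons_of_mem _ hx)
      have hl := hw l List.mem_cons_self
      obtain ⟨l12, hA, hAc⟩ := acts_facts Q hh hl
      have hx := Form6.vec_lt (D.lin w) V
      have hu : Q.val (D.raw (l :: w)) = Q.val (D.lets.get l) * Q.val (D.raw w) := by
        simp only [LocD.raw, List.flatMap_cons, Q.val_append]
      have hU : D.ee S ((D.lin (l :: w)).vec V) * Q.val (D.raw (l :: w)) =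
          (D.ee S (b l) * Q.val (D.lets.get l)) * (D.ee S ((D.lin w).vec V) * Q.val (D.raw w)) := by
        rw [lin_vec l12 hA, huv l hl, hu, ← emul _ _ (hb l hl) ((linOK_facts hA).2.1 _ hx)]
        simp only [mul_assoc]
        rw [← mul_assoc (Q.val (D.lets.get l)) (D.ee S _), hAc _ hx]
        simp only [mul_assoc]
      have k1 := hbc l hl
      set g := D.ee S (b l) * Q.val (D.lets.get l)
      set X := D.ee S ((D.lin w).vec V) * Q.val (D.raw w)
      have k2 : ∀ j : ℕ, g * c ^ j = c ^ (s l * j) * g := fun j => by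
        induction j with
        | zero => simp
        | succ j ih => rw [pow_succ, ← mul_assoc, ih, mul_assoc, k1, ← mul_assoc, ← pow_add, Nat.mul_succ]
      rw [hU]
      have key : g * X * c = c ^ (s l * m) * (g * X) := by rw [mul_assoc, hmc, ← mul_assoc, k2, mul_assoc]
      rcases hs12 l hl with e1 | e1 <;> rcases hm with e2 | e2 <;> rw [e1, e2] at key
      · exact ⟨1, Or.inl rfl, key⟩
      · exact ⟨2, Or.inr rfl, key⟩
      · exact ⟨2, Or.inr rfl, key⟩
      · refine ⟨1, Or.inl rfl, ?_⟩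
        rw [key, show 2 * 2 = 3 + 1 from rfl, pow_add, hc2, one_mul]
  obtain ⟨m, hm, hmc⟩ := main w hw
  obtain ⟨a, ha, hwa⟩ := cent_mem Q hh (g := Q.val (D.raw w)) fun v hv => by
    rw [(word_acts Q hh hw v hv).2, hid v hv]
  have hx := Form6.vec_lt (D.lin w) V
  set x := (D.lin w).vec V
  rw [hwa, emul x a hx ha] at hmc
  have hy : x ^^^ a < 64 := xor_lt hx ha
  have hm1 : m = 1 := by
    rcases hm with rfl | rfl
    · rfl
    · exfalso
      have e : c = D.ee S (D.ac.get (x ^^^ a) ^^^ (x ^^^ a)) := by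
        have h1 : D.ee S (x ^^^ a) * c = c * (c * D.ee S (x ^^^ a)) := by rw [hmc, pow_two, mul_assoc]
        rw [hc1 _ hy, ← mul_assoc c, hc1 _ (aclt _ hy), mul_assoc] at h1
        have h2 := congrArg (fun t => D.ee S (D.ac.get (D.ac.get (x ^^^ a))) * t) h1
        simp only [← mul_assoc, emul _ _ (aclt _ (aclt _ hy)) hy, esq _ (aclt _ (aclt _ hy)), one_mul] at h2
        have h3 := mul_right_cancel h2
        have c4 : c = c ^ 4 := by rw [show (4 : ℕ) = 3 + 1 from rfl, pow_add, hc2, one_mul, pow_one]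
        have h4 := hc1 1 (by norm_num)
        rw [← h3, emul _ 1 (xor_lt (aclt _ (aclt _ hy)) hy) (by norm_num)] at h4
        rw [emul _ _ (aclt 1 (by norm_num)) (xor_lt (aclt _ (aclt _ hy)) hy)] at h4
        have h5 := einj _ _ (xor_lt (xor_lt (aclt _ (aclt _ hy)) hy) (by norm_num))
          (xor_lt (aclt 1 (by norm_num)) (xor_lt (aclt _ (aclt _ hy)) hy)) h4
        rw [Nat.xor_comm (D.ac.get 1)] at h5
        exact absurd ((c3 1 (by norm_num)).2.2 (Nat.xor_right_injective h5).symm) (by norm_num)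
      have h4 := hc1 1 (by norm_num)
      rw [e, emul _ 1 (xor_lt (aclt _ hy) hy) (by norm_num), emul _ _ (aclt 1 (by norm_num)) (xor_lt (aclt _ hy) hy)]
        at h4
      have h5 := einj _ _ (xor_lt (xor_lt (aclt _ hy) hy) (by norm_num))
        (xor_lt (aclt 1 (by norm_num)) (xor_lt (aclt _ hy) hy)) h4
      rw [Nat.xor_comm (D.ac.get 1)] at h5
      exact absurd ((c3 1 (by norm_num)).2.2 (Nat.xor_right_injective h5).symm) (by norm_num)
  subst hm1
  rw [pow_one, hc1 _ hy] at hmc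
  have h0 := (c3 _ hy).2.2 (einj _ _ (aclt _ hy) hy (mul_right_cancel hmc).symm)
  rw [hwa, show a = x from (Nat.xor_eq_zero_iff.mp h0).symm]

end Cfsg.Lib.HeldType
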