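import Cfsg.Agent.HeldType.EnumBound
import Cfsg.Agent.HeldType.DataOne
import Cfsg.Agent.HeldType.DataTwo

/-!
The local certificates of one case.
-/

set_option autoImplicit false
set_option maxRecDepth 100000

namespace Cfsg.Lib.HeldType

/-- The parameters. -/
def caseCPars : Pars where
  side := fun b => bif b then twoSide else oneSide
  opt := fun b => bif b then 1 else 1
  sq := fun b => bif b then 17043521 else 17127489

/-- The cubic relations. -/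
def caseCCube : Bool → CubeD := fun b => bif b then ⟨true, 17043525, 17633361⟩ else ⟨false, 19140673, 17764419⟩

/-- The group. -/
def caseCLoc0El : Tab ℕ :=
(.node 32 (.node 16 (.node 8 (.node 4 (.node 2 (.node 1 (.leaf 17043521) (.leaf 17043523)) (.node 1 (.leaf 17043537) (.leaf 17043539)))
(.node 2 (.node 1 (.leaf 17045569) (.leaf 17045571)) (.node 1 (.leaf 17045585) (.leaf 17045587))))
(.node 4 (.node 2 (.node 1 (.leaf 17059905) (.leaf 17059907)) (.node 1 (.leaf 17059921) (.leaf 17059923)))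
(.node 2 (.node 1 (.leaf 17061953) (.leaf 17061955)) (.node 1 (.leaf 17061969) (.leaf 17061971)))))
(.node 8 (.node 4 (.node 2 (.node 1 (.leaf 17109057) (.leaf 17109059)) (.node 1 (.leaf 17109073) (.leaf 17109075)))
(.node 2 (.node 1 (.leaf 17111105) (.leaf 17111107)) (.node 1 (.leaf 17111121) (.leaf 17111123))))
(.node 4 (.node 2 (.node 1 (.leaf 17125441) (.leaf 17125443)) (.node 1 (.leaf 17125457) (.leaf 17125459)))
(.node 2 (.node 1 (.leaf 17127489) (.leaf 17127491)) (.node 1 (.leaf 17127505) (.leaf 17127507))))))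
(.node 16 (.node 8 (.node 4 (.node 2 (.node 1 (.leaf 17567809) (.leaf 17567811)) (.node 1 (.leaf 17567825) (.leaf 17567827)))
(.node 2 (.node 1 (.leaf 17569857) (.leaf 17569859)) (.node 1 (.leaf 17569873) (.leaf 17569875))))
(.node 4 (.node 2 (.node 1 (.leaf 17584193) (.leaf 17584195)) (.node 1 (.leaf 17584209) (.leaf 17584211)))
(.node 2 (.node 1 (.leaf 17586241) (.leaf 17586243)) (.node 1 (.leaf 17586257) (.leaf 17586259)))))
(.node 8 (.node 4 (.node 2 (.node 1 (.leaf 17633345) (.leaf 17633347)) (.node 1 (.leaf 17633361) (.leaf 17633363)))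
(.node 2 (.node 1 (.leaf 17635393) (.leaf 17635395)) (.node 1 (.leaf 17635409) (.leaf 17635411))))
(.node 4 (.node 2 (.node 1 (.leaf 17649729) (.leaf 17649731)) (.node 1 (.leaf 17649745) (.leaf 17649747)))
(.node 2 (.node 1 (.leaf 17651777) (.leaf 17651779)) (.node 1 (.leaf 17651793) (.leaf 17651795)))))))

/-- Its index. -/
def caseCLoc0Ix : BT ℕ :=
(.node 17567809 32
(.node 17109057 16
(.node 17059905 8
(.node 17045569 4
(.node 17043537 2 (.node 17043523 1 (.node 17043521 0 .tip .tip) .tip) (.node 17043539 3 .tip .tip))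
(.node 17045585 6 (.node 17045571 5 .tip .tip) (.node 17045587 7 .tip .tip)))
(.node 17061953 12
(.node 17059921 10 (.node 17059907 9 .tip .tip) (.node 17059923 11 .tip .tip))
(.node 17061969 14 (.node 17061955 13 .tip .tip) (.node 17061971 15 .tip .tip))))
(.node 17125441 24
(.node 17111105 20
(.node 17109073 18 (.node 17109059 17 .tip .tip) (.node 17109075 19 .tip .tip))
(.node 17111121 22 (.node 17111107 21 .tip .tip) (.node 17111123 23 .tip .tip)))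
(.node 17127489 28
(.node 17125457 26 (.node 17125443 25 .tip .tip) (.node 17125459 27 .tip .tip))
(.node 17127505 30 (.node 17127491 29 .tip .tip) (.node 17127507 31 .tip .tip)))))
(.node 17633345 48
(.node 17584193 40
(.node 17569857 36
(.node 17567825 34 (.node 17567811 33 .tip .tip) (.node 17567827 35 .tip .tip))
(.node 17569873 38 (.node 17569859 37 .tip .tip) (.node 17569875 39 .tip .tip)))
(.node 17586241 44
(.node 17584209 42 (.node 17584195 41 .tip .tip) (.node 17584211 43 .tip .tip))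
(.node 17586257 46 (.node 17586243 45 .tip .tip) (.node 17586259 47 .tip .tip))))
(.node 17649729 56
(.node 17635393 52
(.node 17633361 50 (.node 17633347 49 .tip .tip) (.node 17633363 51 .tip .tip))
(.node 17635409 54 (.node 17635395 53 .tip .tip) (.node 17635411 55 .tip .tip)))
(.node 17651777 60
(.node 17649745 58 (.node 17649731 57 .tip .tip) (.node 17649747 59 .tip .tip))
(.node 17651793 62 (.node 17651779 61 .tip .tip) (.node 17651795 63 .tip .tip))))))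

/-- The letters. -/
def caseCLoc0Lets : Tab (List Let) :=
(.node 3 (.node 1 (.leaf [.h 17659973]) (.node 1 (.leaf [.h 17174597]) (.leaf [.h 19877981]))) (.node 1 (.leaf [.h 19863639]) (.node 1 (.leaf [.t false]) (.leaf [.h 17043521, .t true, .h 17043521, .h 17043521]))))

/-- Their actions. -/
def caseCLoc0Act : Tab (Tab ℕ) :=
(.node 3 (.node 1 (.leaf (.node 32 (.node 16 (.node 8 (.node 4 (.node 2 (.node 1 (.leaf 0) (.leaf 1)) (.node 1 (.leaf 2) (.leaf 3)))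
(.node 2 (.node 1 (.leaf 5) (.leaf 4)) (.node 1 (.leaf 7) (.leaf 6))))
(.node 4 (.node 2 (.node 1 (.leaf 10) (.leaf 11)) (.node 1 (.leaf 8) (.leaf 9)))
(.node 2 (.node 1 (.leaf 15) (.leaf 14)) (.node 1 (.leaf 13) (.leaf 12)))))
(.node 8 (.node 4 (.node 2 (.node 1 (.leaf 20) (.leaf 21)) (.node 1 (.leaf 22) (.leaf 23)))
(.node 2 (.node 1 (.leaf 17) (.leaf 16)) (.node 1 (.leaf 19) (.leaf 18))))
(.node 4 (.node 2 (.node 1 (.leaf 30) (.leaf 31)) (.node 1 (.leaf 28) (.leaf 29)))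
(.node 2 (.node 1 (.leaf 27) (.leaf 26)) (.node 1 (.leaf 25) (.leaf 24))))))
(.node 16 (.node 8 (.node 4 (.node 2 (.node 1 (.leaf 40) (.leaf 41)) (.node 1 (.leaf 42) (.leaf 43)))
(.node 2 (.node 1 (.leaf 45) (.leaf 44)) (.node 1 (.leaf 47) (.leaf 46))))
(.node 4 (.node 2 (.node 1 (.leaf 34) (.leaf 35)) (.node 1 (.leaf 32) (.leaf 33)))
(.node 2 (.node 1 (.leaf 39) (.leaf 38)) (.node 1 (.leaf 37) (.leaf 36)))))
(.node 8 (.node 4 (.node 2 (.node 1 (.leaf 60) (.leaf 61)) (.node 1 (.leaf 62) (.leaf 63)))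
(.node 2 (.node 1 (.leaf 57) (.leaf 56)) (.node 1 (.leaf 59) (.leaf 58))))
(.node 4 (.node 2 (.node 1 (.leaf 54) (.leaf 55)) (.node 1 (.leaf 52) (.leaf 53)))
(.node 2 (.node 1 (.leaf 51) (.leaf 50)) (.node 1 (.leaf 49) (.leaf 48)))))))) (.node 1 (.leaf (.node 32 (.node 16 (.node 8 (.node 4 (.node 2 (.node 1 (.leaf 0) (.leaf 1)) (.node 1 (.leaf 2) (.leaf 3)))
(.node 2 (.node 1 (.leaf 21) (.leaf 20)) (.node 1 (.leaf 23) (.leaf 22))))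
(.node 4 (.node 2 (.node 1 (.leaf 42) (.leaf 43)) (.node 1 (.leaf 40) (.leaf 41)))
(.node 2 (.node 1 (.leaf 63) (.leaf 62)) (.node 1 (.leaf 61) (.leaf 60)))))
(.node 8 (.node 4 (.node 2 (.node 1 (.leaf 16) (.leaf 17)) (.node 1 (.leaf 18) (.leaf 19)))
(.node 2 (.node 1 (.leaf 5) (.leaf 4)) (.node 1 (.leaf 7) (.leaf 6))))
(.node 4 (.node 2 (.node 1 (.leaf 58) (.leaf 59)) (.node 1 (.leaf 56) (.leaf 57)))
(.node 2 (.node 1 (.leaf 47) (.leaf 46)) (.node 1 (.leaf 45) (.leaf 44))))))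
(.node 16 (.node 8 (.node 4 (.node 2 (.node 1 (.leaf 32) (.leaf 33)) (.node 1 (.leaf 34) (.leaf 35)))
(.node 2 (.node 1 (.leaf 53) (.leaf 52)) (.node 1 (.leaf 55) (.leaf 54))))
(.node 4 (.node 2 (.node 1 (.leaf 10) (.leaf 11)) (.node 1 (.leaf 8) (.leaf 9)))
(.node 2 (.node 1 (.leaf 31) (.leaf 30)) (.node 1 (.leaf 29) (.leaf 28)))))
(.node 8 (.node 4 (.node 2 (.node 1 (.leaf 48) (.leaf 49)) (.node 1 (.leaf 50) (.leaf 51)))
(.node 2 (.node 1 (.leaf 37) (.leaf 36)) (.node 1 (.leaf 39) (.leaf 38))))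
(.node 4 (.node 2 (.node 1 (.leaf 26) (.leaf 27)) (.node 1 (.leaf 24) (.leaf 25)))
(.node 2 (.node 1 (.leaf 15) (.leaf 14)) (.node 1 (.leaf 13) (.leaf 12)))))))) (.leaf (.node 32 (.node 16 (.node 8 (.node 4 (.node 2 (.node 1 (.leaf 0) (.leaf 1)) (.node 1 (.leaf 3) (.leaf 2)))
(.node 2 (.node 1 (.leaf 21) (.leaf 20)) (.node 1 (.leaf 22) (.leaf 23))))
(.node 4 (.node 2 (.node 1 (.leaf 63) (.leaf 62)) (.node 1 (.leaf 60) (.leaf 61)))
(.node 2 (.node 1 (.leaf 42) (.leaf 43)) (.node 1 (.leaf 41) (.leaf 40)))))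
(.node 8 (.node 4 (.node 2 (.node 1 (.leaf 17) (.leaf 16)) (.node 1 (.leaf 18) (.leaf 19)))
(.node 2 (.node 1 (.leaf 4) (.leaf 5)) (.node 1 (.leaf 7) (.leaf 6))))
(.node 4 (.node 2 (.node 1 (.leaf 46) (.leaf 47)) (.node 1 (.leaf 45) (.leaf 44)))
(.node 2 (.node 1 (.leaf 59) (.leaf 58)) (.node 1 (.leaf 56) (.leaf 57))))))
(.node 16 (.node 8 (.node 4 (.node 2 (.node 1 (.leaf 51) (.leaf 50)) (.node 1 (.leaf 48) (.leaf 49)))
(.node 2 (.node 1 (.leaf 38) (.leaf 39)) (.node 1 (.leaf 37) (.leaf 36))))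
(.node 4 (.node 2 (.node 1 (.leaf 12) (.leaf 13)) (.node 1 (.leaf 15) (.leaf 14)))
(.node 2 (.node 1 (.leaf 25) (.leaf 24)) (.node 1 (.leaf 26) (.leaf 27)))))
(.node 8 (.node 4 (.node 2 (.node 1 (.leaf 34) (.leaf 35)) (.node 1 (.leaf 33) (.leaf 32)))
(.node 2 (.node 1 (.leaf 55) (.leaf 54)) (.node 1 (.leaf 52) (.leaf 53))))
(.node 4 (.node 2 (.node 1 (.leaf 29) (.leaf 28)) (.node 1 (.leaf 30) (.leaf 31)))
(.node 2 (.node 1 (.leaf 8) (.leaf 9)) (.node 1 (.leaf 11) (.leaf 10)))))))))) (.node 1 (.leaf (.node 32 (.node 16 (.node 8 (.node 4 (.node 2 (.node 1 (.leaf 0) (.leaf 1)) (.node 1 (.leaf 3) (.leaf 2)))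
(.node 2 (.node 1 (.leaf 21) (.leaf 20)) (.node 1 (.leaf 22) (.leaf 23))))
(.node 4 (.node 2 (.node 1 (.leaf 63) (.leaf 62)) (.node 1 (.leaf 60) (.leaf 61)))
(.node 2 (.node 1 (.leaf 42) (.leaf 43)) (.node 1 (.leaf 41) (.leaf 40)))))
(.node 8 (.node 4 (.node 2 (.node 1 (.leaf 16) (.leaf 17)) (.node 1 (.leaf 19) (.leaf 18)))
(.node 2 (.node 1 (.leaf 5) (.leaf 4)) (.node 1 (.leaf 6) (.leaf 7))))
(.node 4 (.node 2 (.node 1 (.leaf 47) (.leaf 46)) (.node 1 (.leaf 44) (.leaf 45)))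
(.node 2 (.node 1 (.leaf 58) (.leaf 59)) (.node 1 (.leaf 57) (.leaf 56))))))
(.node 16 (.node 8 (.node 4 (.node 2 (.node 1 (.leaf 48) (.leaf 49)) (.node 1 (.leaf 51) (.leaf 50)))
(.node 2 (.node 1 (.leaf 37) (.leaf 36)) (.node 1 (.leaf 38) (.leaf 39))))
(.node 4 (.node 2 (.node 1 (.leaf 15) (.leaf 14)) (.node 1 (.leaf 12) (.leaf 13)))
(.node 2 (.node 1 (.leaf 26) (.leaf 27)) (.node 1 (.leaf 25) (.leaf 24)))))
(.node 8 (.node 4 (.node 2 (.node 1 (.leaf 32) (.leaf 33)) (.node 1 (.leaf 35) (.leaf 34)))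
(.node 2 (.node 1 (.leaf 53) (.leaf 52)) (.node 1 (.leaf 54) (.leaf 55))))
(.node 4 (.node 2 (.node 1 (.leaf 31) (.leaf 30)) (.node 1 (.leaf 28) (.leaf 29)))
(.node 2 (.node 1 (.leaf 10) (.leaf 11)) (.node 1 (.leaf 9) (.leaf 8)))))))) (.node 1 (.leaf (.node 32 (.node 16 (.node 8 (.node 4 (.node 2 (.node 1 (.leaf 0) (.leaf 2)) (.node 1 (.leaf 1) (.leaf 3)))
(.node 2 (.node 1 (.leaf 40) (.leaf 42)) (.node 1 (.leaf 41) (.leaf 43))))
(.node 4 (.node 2 (.node 1 (.leaf 20) (.leaf 22)) (.node 1 (.leaf 21) (.leaf 23)))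
(.node 2 (.node 1 (.leaf 60) (.leaf 62)) (.node 1 (.leaf 61) (.leaf 63)))))
(.node 8 (.node 4 (.node 2 (.node 1 (.leaf 32) (.leaf 34)) (.node 1 (.leaf 33) (.leaf 35)))
(.node 2 (.node 1 (.leaf 8) (.leaf 10)) (.node 1 (.leaf 9) (.leaf 11))))
(.node 4 (.node 2 (.node 1 (.leaf 52) (.leaf 54)) (.node 1 (.leaf 53) (.leaf 55)))
(.node 2 (.node 1 (.leaf 28) (.leaf 30)) (.node 1 (.leaf 29) (.leaf 31))))))
(.node 16 (.node 8 (.node 4 (.node 2 (.node 1 (.leaf 16) (.leaf 18)) (.node 1 (.leaf 17) (.leaf 19)))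
(.node 2 (.node 1 (.leaf 56) (.leaf 58)) (.node 1 (.leaf 57) (.leaf 59))))
(.node 4 (.node 2 (.node 1 (.leaf 4) (.leaf 6)) (.node 1 (.leaf 5) (.leaf 7)))
(.node 2 (.node 1 (.leaf 44) (.leaf 46)) (.node 1 (.leaf 45) (.leaf 47)))))
(.node 8 (.node 4 (.node 2 (.node 1 (.leaf 48) (.leaf 50)) (.node 1 (.leaf 49) (.leaf 51)))
(.node 2 (.node 1 (.leaf 24) (.leaf 26)) (.node 1 (.leaf 25) (.leaf 27))))
(.node 4 (.node 2 (.node 1 (.leaf 36) (.leaf 38)) (.node 1 (.leaf 37) (.leaf 39)))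
(.node 2 (.node 1 (.leaf 12) (.leaf 14)) (.node 1 (.leaf 13) (.leaf 15)))))))) (.leaf (.node 32 (.node 16 (.node 8 (.node 4 (.node 2 (.node 1 (.leaf 0) (.leaf 4)) (.node 1 (.leaf 8) (.leaf 12)))
(.node 2 (.node 1 (.leaf 1) (.leaf 5)) (.node 1 (.leaf 9) (.leaf 13))))
(.node 4 (.node 2 (.node 1 (.leaf 2) (.leaf 6)) (.node 1 (.leaf 10) (.leaf 14)))
(.node 2 (.node 1 (.leaf 3) (.leaf 7)) (.node 1 (.leaf 11) (.leaf 15)))))
(.node 8 (.node 4 (.node 2 (.node 1 (.leaf 31) (.leaf 27)) (.node 1 (.leaf 23) (.leaf 19)))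
(.node 2 (.node 1 (.leaf 30) (.leaf 26)) (.node 1 (.leaf 22) (.leaf 18))))
(.node 4 (.node 2 (.node 1 (.leaf 29) (.leaf 25)) (.node 1 (.leaf 21) (.leaf 17)))
(.node 2 (.node 1 (.leaf 28) (.leaf 24)) (.node 1 (.leaf 20) (.leaf 16))))))
(.node 16 (.node 8 (.node 4 (.node 2 (.node 1 (.leaf 37) (.leaf 33)) (.node 1 (.leaf 45) (.leaf 41)))
(.node 2 (.node 1 (.leaf 36) (.leaf 32)) (.node 1 (.leaf 44) (.leaf 40))))
(.node 4 (.node 2 (.node 1 (.leaf 39) (.leaf 35)) (.node 1 (.leaf 47) (.leaf 43)))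
(.node 2 (.node 1 (.leaf 38) (.leaf 34)) (.node 1 (.leaf 46) (.leaf 42)))))
(.node 8 (.node 4 (.node 2 (.node 1 (.leaf 58) (.leaf 62)) (.node 1 (.leaf 50) (.leaf 54)))
(.node 2 (.node 1 (.leaf 59) (.leaf 63)) (.node 1 (.leaf 51) (.leaf 55))))
(.node 4 (.node 2 (.node 1 (.leaf 56) (.leaf 60)) (.node 1 (.leaf 48) (.leaf 52)))
(.node 2 (.node 1 (.leaf 57) (.leaf 61)) (.node 1 (.leaf 49) (.leaf 53)))))))))))

/-- The local data. -/
def caseCLoc0D : LocD := ⟨caseCLoc0El, caseCLoc0Ix, false, 6, caseCLoc0Lets, caseCLoc0Act, [0, 0, 2, 4], (.node 32 (.node 16 (.node 8 (.node 4 (.node 2 (.node 1 (.leaf 0) (.leaf 3)) (.node 1 (.leaf 1) (.leaf 2)))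
(.node 2 (.node 1 (.leaf 12) (.leaf 15)) (.node 1 (.leaf 13) (.leaf 14))))
(.node 4 (.node 2 (.node 1 (.leaf 4) (.leaf 7)) (.node 1 (.leaf 5) (.leaf 6)))
(.node 2 (.node 1 (.leaf 8) (.leaf 11)) (.node 1 (.leaf 9) (.leaf 10)))))
(.node 8 (.node 4 (.node 2 (.node 1 (.leaf 48) (.leaf 51)) (.node 1 (.leaf 49) (.leaf 50)))
(.node 2 (.node 1 (.leaf 60) (.leaf 63)) (.node 1 (.leaf 61) (.leaf 62))))
(.node 4 (.node 2 (.node 1 (.leaf 52) (.leaf 55)) (.node 1 (.leaf 53) (.leaf 54)))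
(.node 2 (.node 1 (.leaf 56) (.leaf 59)) (.node 1 (.leaf 57) (.leaf 58))))))
(.node 16 (.node 8 (.node 4 (.node 2 (.node 1 (.leaf 16) (.leaf 19)) (.node 1 (.leaf 17) (.leaf 18)))
(.node 2 (.node 1 (.leaf 28) (.leaf 31)) (.node 1 (.leaf 29) (.leaf 30))))
(.node 4 (.node 2 (.node 1 (.leaf 20) (.leaf 23)) (.node 1 (.leaf 21) (.leaf 22)))
(.node 2 (.node 1 (.leaf 24) (.leaf 27)) (.node 1 (.leaf 25) (.leaf 26)))))
(.node 8 (.node 4 (.node 2 (.node 1 (.leaf 32) (.leaf 35)) (.node 1 (.leaf 33) (.leaf 34)))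
(.node 2 (.node 1 (.leaf 44) (.leaf 47)) (.node 1 (.leaf 45) (.leaf 46))))
(.node 4 (.node 2 (.node 1 (.leaf 36) (.leaf 39)) (.node 1 (.leaf 37) (.leaf 38)))
(.node 2 (.node 1 (.leaf 40) (.leaf 43)) (.node 1 (.leaf 41) (.leaf 42)))))))⟩

/-- The known values. -/
def caseCLoc0Eqs : List EqD :=
  [⟨[2, 2, 2, 2], 17043523, 1, .red⟩,
  ⟨[2, 3, 2, 3], 17043537, 2, .red⟩,
  ⟨[2, 3, 1, 3, 2, 1], 17045569, 4, .red⟩,
  ⟨[0, 0, 3, 1, 0, 3, 1, 0], 17059905, 8, .red⟩,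
  ⟨[1, 3, 1, 2, 0, 0], 17567809, 32, .red⟩,
  ⟨[2, 2, 0, 2, 1, 2, 0, 0, 0, 2, 1, 2, 0, 1], 17043521, 0, .red⟩,
  ⟨[0, 2, 3, 1, 3, 2, 0, 1, 0, 2, 1, 2], 17043521, 0, .red⟩,
  ⟨[4, 4, 0, 0, 3, 1, 0, 1, 3, 0], 17043521, 0, .red⟩,
  ⟨[4, 0, 0, 1, 0, 2, 3, 1, 0, 4, 1, 3, 1, 0, 2, 0], 17043521, 0, .red⟩,
  ⟨[4, 0, 1, 2, 3, 0, 2, 3, 4, 0, 2, 1, 3, 1], 17043521, 0, .red⟩,
  ⟨[5, 5], 17043521, 0, .red⟩,
  ⟨[5, 0, 2, 1, 3, 1, 5, 0, 2, 1, 3, 1], 17043521, 0, .red⟩,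
  ⟨[5, 3, 1, 0, 2, 2, 5, 0, 2, 3, 1, 2], 17043521, 0, .red⟩]

/-- The rows. -/
def caseCLoc0Rows : Tab ℕ :=
(.node 39 (.node 19 (.node 9 (.node 4 (.node 2 (.node 1 (.leaf 65537) (.leaf 0)) (.node 1 (.leaf 0) (.leaf 0)))
(.node 2 (.node 1 (.leaf 0) (.leaf 0)) (.node 1 (.leaf 25329664) (.node 1 (.leaf 17104897) (.leaf 0)))))
(.node 5 (.node 2 (.node 1 (.leaf 0) (.leaf 0)) (.node 1 (.leaf 0) (.node 1 (.leaf 22530048) (.leaf 331776))))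
(.node 2 (.node 1 (.leaf 4259841) (.leaf 0)) (.node 1 (.leaf 21234176) (.node 1 (.leaf 1024) (.leaf 24122180))))))
(.node 10 (.node 5 (.node 2 (.node 1 (.leaf 4195328) (.leaf 29363728)) (.node 1 (.leaf 16782337) (.node 1 (.leaf 16782400) (.leaf 0))))
(.node 2 (.node 1 (.leaf 2744584) (.leaf 5324816)) (.node 1 (.leaf 2196512) (.node 1 (.leaf 4259904) (.leaf 10981376)))))
(.node 5 (.node 2 (.node 1 (.leaf 21299201) (.leaf 187010)) (.node 1 (.leaf 333060) (.node 1 (.leaf 1024) (.leaf 0))))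
(.node 2 (.node 1 (.leaf 37408) (.leaf 66624)) (.node 1 (.leaf 17830786) (.node 1 (.leaf 1284) (.leaf 17040384)))))))
(.node 19 (.node 9 (.node 4 (.node 2 (.node 1 (.leaf 0) (.leaf 21041664)) (.node 1 (.leaf 1024) (.leaf 124782148)))
(.node 2 (.node 1 (.leaf 104858624) (.leaf 429922320)) (.node 1 (.leaf 423628800) (.node 1 (.leaf 1902118464) (.leaf 1749025792)))))
(.node 5 (.node 2 (.node 1 (.leaf 1190995220) (.leaf 657123360)) (.node 1 (.leaf 1233323096) (.node 1 (.leaf 814123032) (.leaf 828604520))))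
(.node 2 (.node 1 (.leaf 1235681912) (.leaf 1444585586)) (.node 1 (.leaf 773145324) (.node 1 (.leaf 1214287992) (.leaf 809568888))))))
(.node 10 (.node 5 (.node 2 (.node 1 (.leaf 1892028512) (.leaf 1759904352)) (.node 1 (.leaf 113816633344) (.node 1 (.leaf 55834574848) (.leaf 113816633344))))
(.node 2 (.node 1 (.leaf 55834574848) (.leaf 0)) (.node 1 (.leaf 0) (.node 1 (.leaf 79481938250) (.leaf 124567835764)))))
(.node 5 (.node 2 (.node 1 (.leaf 79481938250) (.leaf 124567835764)) (.node 1 (.leaf 0) (.node 1 (.leaf 0) (.leaf 96656659902))))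
(.node 2 (.node 1 (.leaf 55865019252) (.leaf 49420323806)) (.node 1 (.leaf 124567789364) (.node 1 (.leaf 68721903104) (.leaf 4195328))))))))

/-- The paths. -/
def caseCLoc0Loops : List LoopD :=
  [⟨[5, 0, 4, 1, 5, 4, 0, 0, 3, 1, 0, 1, 3, 0, 0, 3, 0, 1, 3, 1], 24, 23, (.node 3 (.node 1 (.leaf [0, 6, 14, 17, 18, 22, 30, 31, 42, 44, 46, 48, 54, 61, 72]) (.node 1 (.leaf [17, 18, 22, 24, 26, 30, 31, 42, 46, 48, 49, 54, 60, 72]) (.leaf [6, 13, 17, 22, 28, 31, 36, 44, 46, 48, 49, 60, 72]))) (.node 1 (.leaf [0, 18, 22, 30, 36, 44, 48, 49, 54, 60, 66, 67, 72]) (.node 1 (.leaf [0, 6, 12, 13, 18, 20, 22, 26, 30, 36, 42, 44, 48, 49, 50, 54, 60, 61, 66, 67]) (.leaf [0, 7, 12, 13, 17, 18, 20, 26, 28, 30, 36, 42, 44, 48, 49, 50, 54, 60, 61, 66, 67]))))⟩,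
  ⟨[5, 2, 0, 4, 0, 0, 0, 4, 0, 0, 3, 1, 0, 1, 3, 0, 5, 0, 3, 2, 3, 1, 0], 43, 43, (.node 3 (.node 1 (.leaf [0, 6, 7, 12, 14, 16, 22, 42, 46, 48, 49, 54, 72]) (.node 1 (.leaf [12, 13, 14, 16, 17, 20, 24, 26, 30, 36, 42, 44, 48, 50, 61]) (.leaf [0, 7, 13, 17, 24, 30, 31, 42, 46, 54, 60, 61, 66, 72]))) (.node 1 (.leaf [14, 16, 18, 20, 22, 24, 44, 54, 61]) (.node 1 (.leaf [0, 6, 12, 13, 14, 17, 22, 28, 30, 36, 48, 49, 61, 67]) (.leaf [0, 6, 7, 14, 16, 22, 26, 46, 50]))))⟩,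
  ⟨[5, 4, 2, 4, 3, 5, 4, 0, 0, 3, 1, 0, 1, 3, 0, 2, 3, 0, 1, 0, 2], 32, 42, (.node 3 (.node 1 (.leaf [6, 12, 16, 18, 22, 24, 30, 36, 44, 46, 48, 49, 54, 72]) (.node 1 (.leaf [0, 6, 7, 12, 13, 16, 22, 24, 28, 36, 42, 44, 46, 48, 49, 54, 60, 72]) (.leaf [7, 12, 13, 14, 17, 22, 24, 26, 30, 49, 50, 67, 72]))) (.node 1 (.leaf [12, 13, 16, 17, 18, 20, 22, 24, 28, 30, 31, 42, 44, 46, 49, 50, 60, 66, 67, 72]) (.node 1 (.leaf [13, 16, 18, 22, 24, 26, 30, 31, 36, 42, 44, 46, 49, 50, 61, 67]) (.leaf [0, 7, 14, 16, 17, 22, 24, 26, 30, 31, 36, 46, 49, 54, 60, 61, 66, 67]))))⟩,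
  ⟨[5, 4, 5, 0, 3, 5, 1, 5, 0, 3, 0, 1, 3], 38, 42, (.node 3 (.node 1 (.leaf [6, 7, 14, 16, 28, 31, 42, 46, 50, 54, 61, 66, 72]) (.node 1 (.leaf [7, 12, 16, 17, 18, 20, 24, 28, 36, 42, 48, 49, 54, 67, 72]) (.leaf [6, 7, 13, 17, 20, 24, 26, 30, 36, 44, 46, 49, 50, 54, 66]))) (.node 1 (.leaf [0, 6, 7, 18, 22, 26, 28, 36, 44, 48, 50, 60, 61, 66, 67, 72]) (.node 1 (.leaf [0, 6, 7, 12, 13, 18, 20, 30, 42, 49, 66, 67]) (.leaf [7, 13, 16, 17, 20, 24, 28, 30, 42, 46, 48, 49, 54, 61, 67, 72]))))⟩,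
  ⟨[4, 5, 4, 0, 2, 2, 0, 2, 5, 0, 2, 1, 2, 1, 2, 3, 2], 36, 27, (.node 3 (.node 1 (.leaf []) (.node 1 (.leaf [6, 16, 17, 18, 24, 26, 30, 31, 44, 46, 48, 49, 54, 61, 72]) (.leaf [6, 7, 13, 16, 20, 24, 42, 44, 46, 49, 54, 60]))) (.node 1 (.leaf [0, 6, 7, 12, 13, 16, 17, 24, 26, 28, 30, 42, 46, 48, 49, 54, 60, 72]) (.node 1 (.leaf [0, 13, 14, 16, 20, 22, 28, 42, 46, 66]) (.leaf [0, 7, 12, 14, 16, 17, 22, 28, 31, 36, 42, 46, 48, 61, 66, 67, 72]))))⟩]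

/-- The certificate. -/
def caseCLoc0Cert : LocCert := ⟨caseCLoc0D, caseCLoc0Eqs, caseCLoc0Rows, 99632367974, caseCLoc0Loops⟩

/-- The path for normalisation. -/
def caseCGauge : ℕ := 4

/-- The group. -/
def caseCLoc1El : Tab ℕ :=
(.node 32 (.node 16 (.node 8 (.node 4 (.node 2 (.node 1 (.leaf 17043521) (.leaf 17043523)) (.node 1 (.leaf 17043529) (.leaf 17043531)))
(.node 2 (.node 1 (.leaf 17043537) (.leaf 17043539)) (.node 1 (.leaf 17043545) (.leaf 17043547))))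
(.node 4 (.node 2 (.node 1 (.leaf 17045569) (.leaf 17045571)) (.node 1 (.leaf 17045577) (.leaf 17045579)))
(.node 2 (.node 1 (.leaf 17045585) (.leaf 17045587)) (.node 1 (.leaf 17045593) (.leaf 17045595)))))
(.node 8 (.node 4 (.node 2 (.node 1 (.leaf 17051713) (.leaf 17051715)) (.node 1 (.leaf 17051721) (.leaf 17051723)))
(.node 2 (.node 1 (.leaf 17051729) (.leaf 17051731)) (.node 1 (.leaf 17051737) (.leaf 17051739))))
(.node 4 (.node 2 (.node 1 (.leaf 17053761) (.leaf 17053763)) (.node 1 (.leaf 17053769) (.leaf 17053771)))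
(.node 2 (.node 1 (.leaf 17053777) (.leaf 17053779)) (.node 1 (.leaf 17053785) (.leaf 17053787))))))
(.node 16 (.node 8 (.node 4 (.node 2 (.node 1 (.leaf 17059905) (.leaf 17059907)) (.node 1 (.leaf 17059913) (.leaf 17059915)))
(.node 2 (.node 1 (.leaf 17059921) (.leaf 17059923)) (.node 1 (.leaf 17059929) (.leaf 17059931))))
(.node 4 (.node 2 (.node 1 (.leaf 17061953) (.leaf 17061955)) (.node 1 (.leaf 17061961) (.leaf 17061963)))
(.node 2 (.node 1 (.leaf 17061969) (.leaf 17061971)) (.node 1 (.leaf 17061977) (.leaf 17061979)))))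
(.node 8 (.node 4 (.node 2 (.node 1 (.leaf 17068097) (.leaf 17068099)) (.node 1 (.leaf 17068105) (.leaf 17068107)))
(.node 2 (.node 1 (.leaf 17068113) (.leaf 17068115)) (.node 1 (.leaf 17068121) (.leaf 17068123))))
(.node 4 (.node 2 (.node 1 (.leaf 17070145) (.leaf 17070147)) (.node 1 (.leaf 17070153) (.leaf 17070155)))
(.node 2 (.node 1 (.leaf 17070161) (.leaf 17070163)) (.node 1 (.leaf 17070169) (.leaf 17070171)))))))

/-- Its index. -/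
def caseCLoc1Ix : BT ℕ :=
(.node 17059905 32
(.node 17051713 16
(.node 17045569 8
(.node 17043537 4
(.node 17043529 2 (.node 17043523 1 (.node 17043521 0 .tip .tip) .tip) (.node 17043531 3 .tip .tip))
(.node 17043545 6 (.node 17043539 5 .tip .tip) (.node 17043547 7 .tip .tip)))
(.node 17045585 12
(.node 17045577 10 (.node 17045571 9 .tip .tip) (.node 17045579 11 .tip .tip))
(.node 17045593 14 (.node 17045587 13 .tip .tip) (.node 17045595 15 .tip .tip))))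
(.node 17053761 24
(.node 17051729 20
(.node 17051721 18 (.node 17051715 17 .tip .tip) (.node 17051723 19 .tip .tip))
(.node 17051737 22 (.node 17051731 21 .tip .tip) (.node 17051739 23 .tip .tip)))
(.node 17053777 28
(.node 17053769 26 (.node 17053763 25 .tip .tip) (.node 17053771 27 .tip .tip))
(.node 17053785 30 (.node 17053779 29 .tip .tip) (.node 17053787 31 .tip .tip)))))
(.node 17068097 48
(.node 17061953 40
(.node 17059921 36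
(.node 17059913 34 (.node 17059907 33 .tip .tip) (.node 17059915 35 .tip .tip))
(.node 17059929 38 (.node 17059923 37 .tip .tip) (.node 17059931 39 .tip .tip)))
(.node 17061969 44
(.node 17061961 42 (.node 17061955 41 .tip .tip) (.node 17061963 43 .tip .tip))
(.node 17061977 46 (.node 17061971 45 .tip .tip) (.node 17061979 47 .tip .tip))))
(.node 17070145 56
(.node 17068113 52
(.node 17068105 50 (.node 17068099 49 .tip .tip) (.node 17068107 51 .tip .tip))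
(.node 17068121 54 (.node 17068115 53 .tip .tip) (.node 17068123 55 .tip .tip)))
(.node 17070161 60
(.node 17070153 58 (.node 17070147 57 .tip .tip) (.node 17070155 59 .tip .tip))
(.node 17070169 62 (.node 17070163 61 .tip .tip) (.node 17070171 63 .tip .tip))))))

/-- The letters. -/
def caseCLoc1Lets : Tab (List Let) :=
(.node 2 (.node 1 (.leaf [.h 25786433]) (.leaf [.h 9187397])) (.node 1 (.leaf [.h 27619421]) (.node 1 (.leaf [.t true]) (.leaf [.h 17043521, .t false, .h 16920641, .h 17043521]))))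

/-- Their actions. -/
def caseCLoc1Act : Tab (Tab ℕ) :=
(.node 2 (.node 1 (.leaf (.node 32 (.node 16 (.node 8 (.node 4 (.node 2 (.node 1 (.leaf 0) (.leaf 1)) (.node 1 (.leaf 7) (.leaf 6)))
(.node 2 (.node 1 (.leaf 3) (.leaf 2)) (.node 1 (.leaf 4) (.leaf 5))))
(.node 4 (.node 2 (.node 1 (.leaf 8) (.leaf 9)) (.node 1 (.leaf 15) (.leaf 14)))
(.node 2 (.node 1 (.leaf 11) (.leaf 10)) (.node 1 (.leaf 12) (.leaf 13)))))
(.node 8 (.node 4 (.node 2 (.node 1 (.leaf 56) (.leaf 57)) (.node 1 (.leaf 63) (.leaf 62)))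
(.node 2 (.node 1 (.leaf 59) (.leaf 58)) (.node 1 (.leaf 60) (.leaf 61))))
(.node 4 (.node 2 (.node 1 (.leaf 48) (.leaf 49)) (.node 1 (.leaf 55) (.leaf 54)))
(.node 2 (.node 1 (.leaf 51) (.leaf 50)) (.node 1 (.leaf 52) (.leaf 53))))))
(.node 16 (.node 8 (.node 4 (.node 2 (.node 1 (.leaf 24) (.leaf 25)) (.node 1 (.leaf 31) (.leaf 30)))
(.node 2 (.node 1 (.leaf 27) (.leaf 26)) (.node 1 (.leaf 28) (.leaf 29))))
(.node 4 (.node 2 (.node 1 (.leaf 16) (.leaf 17)) (.node 1 (.leaf 23) (.leaf 22)))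
(.node 2 (.node 1 (.leaf 19) (.leaf 18)) (.node 1 (.leaf 20) (.leaf 21)))))
(.node 8 (.node 4 (.node 2 (.node 1 (.leaf 32) (.leaf 33)) (.node 1 (.leaf 39) (.leaf 38)))
(.node 2 (.node 1 (.leaf 35) (.leaf 34)) (.node 1 (.leaf 36) (.leaf 37))))
(.node 4 (.node 2 (.node 1 (.leaf 40) (.leaf 41)) (.node 1 (.leaf 47) (.leaf 46)))
(.node 2 (.node 1 (.leaf 43) (.leaf 42)) (.node 1 (.leaf 44) (.leaf 45)))))))) (.leaf (.node 32 (.node 16 (.node 8 (.node 4 (.node 2 (.node 1 (.leaf 0) (.leaf 1)) (.node 1 (.leaf 4) (.leaf 5)))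
(.node 2 (.node 1 (.leaf 6) (.leaf 7)) (.node 1 (.leaf 2) (.leaf 3))))
(.node 4 (.node 2 (.node 1 (.leaf 9) (.leaf 8)) (.node 1 (.leaf 13) (.leaf 12)))
(.node 2 (.node 1 (.leaf 15) (.leaf 14)) (.node 1 (.leaf 11) (.leaf 10)))))
(.node 8 (.node 4 (.node 2 (.node 1 (.leaf 36) (.leaf 37)) (.node 1 (.leaf 32) (.leaf 33)))
(.node 2 (.node 1 (.leaf 34) (.leaf 35)) (.node 1 (.leaf 38) (.leaf 39))))
(.node 4 (.node 2 (.node 1 (.leaf 45) (.leaf 44)) (.node 1 (.leaf 41) (.leaf 40)))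
(.node 2 (.node 1 (.leaf 43) (.leaf 42)) (.node 1 (.leaf 47) (.leaf 46))))))
(.node 16 (.node 8 (.node 4 (.node 2 (.node 1 (.leaf 54) (.leaf 55)) (.node 1 (.leaf 50) (.leaf 51)))
(.node 2 (.node 1 (.leaf 48) (.leaf 49)) (.node 1 (.leaf 52) (.leaf 53))))
(.node 4 (.node 2 (.node 1 (.leaf 63) (.leaf 62)) (.node 1 (.leaf 59) (.leaf 58)))
(.node 2 (.node 1 (.leaf 57) (.leaf 56)) (.node 1 (.leaf 61) (.leaf 60)))))
(.node 8 (.node 4 (.node 2 (.node 1 (.leaf 18) (.leaf 19)) (.node 1 (.leaf 22) (.leaf 23)))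
(.node 2 (.node 1 (.leaf 20) (.leaf 21)) (.node 1 (.leaf 16) (.leaf 17))))
(.node 4 (.node 2 (.node 1 (.leaf 27) (.leaf 26)) (.node 1 (.leaf 31) (.leaf 30)))
(.node 2 (.node 1 (.leaf 29) (.leaf 28)) (.node 1 (.leaf 25) (.leaf 24))))))))) (.node 1 (.leaf (.node 32 (.node 16 (.node 8 (.node 4 (.node 2 (.node 1 (.leaf 0) (.leaf 1)) (.node 1 (.leaf 3) (.leaf 2)))
(.node 2 (.node 1 (.leaf 6) (.leaf 7)) (.node 1 (.leaf 5) (.leaf 4))))
(.node 4 (.node 2 (.node 1 (.leaf 9) (.leaf 8)) (.node 1 (.leaf 10) (.leaf 11)))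
(.node 2 (.node 1 (.leaf 15) (.leaf 14)) (.node 1 (.leaf 12) (.leaf 13)))))
(.node 8 (.node 4 (.node 2 (.node 1 (.leaf 27) (.leaf 26)) (.node 1 (.leaf 24) (.leaf 25)))
(.node 2 (.node 1 (.leaf 29) (.leaf 28)) (.node 1 (.leaf 30) (.leaf 31))))
(.node 4 (.node 2 (.node 1 (.leaf 18) (.leaf 19)) (.node 1 (.leaf 17) (.leaf 16)))
(.node 2 (.node 1 (.leaf 20) (.leaf 21)) (.node 1 (.leaf 23) (.leaf 22))))))
(.node 16 (.node 8 (.node 4 (.node 2 (.node 1 (.leaf 54) (.leaf 55)) (.node 1 (.leaf 53) (.leaf 52)))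
(.node 2 (.node 1 (.leaf 48) (.leaf 49)) (.node 1 (.leaf 51) (.leaf 50))))
(.node 4 (.node 2 (.node 1 (.leaf 63) (.leaf 62)) (.node 1 (.leaf 60) (.leaf 61)))
(.node 2 (.node 1 (.leaf 57) (.leaf 56)) (.node 1 (.leaf 58) (.leaf 59)))))
(.node 8 (.node 4 (.node 2 (.node 1 (.leaf 45) (.leaf 44)) (.node 1 (.leaf 46) (.leaf 47)))
(.node 2 (.node 1 (.leaf 43) (.leaf 42)) (.node 1 (.leaf 40) (.leaf 41))))
(.node 4 (.node 2 (.node 1 (.leaf 36) (.leaf 37)) (.node 1 (.leaf 39) (.leaf 38)))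
(.node 2 (.node 1 (.leaf 34) (.leaf 35)) (.node 1 (.leaf 33) (.leaf 32)))))))) (.node 1 (.leaf (.node 32 (.node 16 (.node 8 (.node 4 (.node 2 (.node 1 (.leaf 0) (.leaf 8)) (.node 1 (.leaf 56) (.leaf 48)))
(.node 2 (.node 1 (.leaf 32) (.leaf 40)) (.node 1 (.leaf 24) (.leaf 16))))
(.node 4 (.node 2 (.node 1 (.leaf 1) (.leaf 9)) (.node 1 (.leaf 57) (.leaf 49)))
(.node 2 (.node 1 (.leaf 33) (.leaf 41)) (.node 1 (.leaf 25) (.leaf 17)))))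
(.node 8 (.node 4 (.node 2 (.node 1 (.leaf 7) (.leaf 15)) (.node 1 (.leaf 63) (.leaf 55)))
(.node 2 (.node 1 (.leaf 39) (.leaf 47)) (.node 1 (.leaf 31) (.leaf 23))))
(.node 4 (.node 2 (.node 1 (.leaf 6) (.leaf 14)) (.node 1 (.leaf 62) (.leaf 54)))
(.node 2 (.node 1 (.leaf 38) (.leaf 46)) (.node 1 (.leaf 30) (.leaf 22))))))
(.node 16 (.node 8 (.node 4 (.node 2 (.node 1 (.leaf 4) (.leaf 12)) (.node 1 (.leaf 60) (.leaf 52)))
(.node 2 (.node 1 (.leaf 36) (.leaf 44)) (.node 1 (.leaf 28) (.leaf 20))))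
(.node 4 (.node 2 (.node 1 (.leaf 5) (.leaf 13)) (.node 1 (.leaf 61) (.leaf 53)))
(.node 2 (.node 1 (.leaf 37) (.leaf 45)) (.node 1 (.leaf 29) (.leaf 21)))))
(.node 8 (.node 4 (.node 2 (.node 1 (.leaf 3) (.leaf 11)) (.node 1 (.leaf 59) (.leaf 51)))
(.node 2 (.node 1 (.leaf 35) (.leaf 43)) (.node 1 (.leaf 27) (.leaf 19))))
(.node 4 (.node 2 (.node 1 (.leaf 2) (.leaf 10)) (.node 1 (.leaf 58) (.leaf 50)))
(.node 2 (.node 1 (.leaf 34) (.leaf 42)) (.node 1 (.leaf 26) (.leaf 18)))))))) (.leaf (.node 32 (.node 16 (.node 8 (.node 4 (.node 2 (.node 1 (.leaf 0) (.leaf 4)) (.node 1 (.leaf 42) (.leaf 46)))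
(.node 2 (.node 1 (.leaf 1) (.leaf 5)) (.node 1 (.leaf 43) (.leaf 47))))
(.node 4 (.node 2 (.node 1 (.leaf 32) (.leaf 36)) (.node 1 (.leaf 10) (.leaf 14)))
(.node 2 (.node 1 (.leaf 33) (.leaf 37)) (.node 1 (.leaf 11) (.leaf 15)))))
(.node 8 (.node 4 (.node 2 (.node 1 (.leaf 61) (.leaf 57)) (.node 1 (.leaf 23) (.leaf 19)))
(.node 2 (.node 1 (.leaf 60) (.leaf 56)) (.node 1 (.leaf 22) (.leaf 18))))
(.node 4 (.node 2 (.node 1 (.leaf 29) (.leaf 25)) (.node 1 (.leaf 55) (.leaf 51)))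
(.node 2 (.node 1 (.leaf 28) (.leaf 24)) (.node 1 (.leaf 54) (.leaf 50))))))
(.node 16 (.node 8 (.node 4 (.node 2 (.node 1 (.leaf 8) (.leaf 12)) (.node 1 (.leaf 34) (.leaf 38)))
(.node 2 (.node 1 (.leaf 9) (.leaf 13)) (.node 1 (.leaf 35) (.leaf 39))))
(.node 4 (.node 2 (.node 1 (.leaf 40) (.leaf 44)) (.node 1 (.leaf 2) (.leaf 6)))
(.node 2 (.node 1 (.leaf 41) (.leaf 45)) (.node 1 (.leaf 3) (.leaf 7)))))
(.node 8 (.node 4 (.node 2 (.node 1 (.leaf 53) (.leaf 49)) (.node 1 (.leaf 31) (.leaf 27)))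
(.node 2 (.node 1 (.leaf 52) (.leaf 48)) (.node 1 (.leaf 30) (.leaf 26))))
(.node 4 (.node 2 (.node 1 (.leaf 21) (.leaf 17)) (.node 1 (.leaf 63) (.leaf 59)))
(.node 2 (.node 1 (.leaf 20) (.leaf 16)) (.node 1 (.leaf 62) (.leaf 58)))))))))))

/-- The local data. -/
def caseCLoc1D : LocD := ⟨caseCLoc1El, caseCLoc1Ix, true, 5, caseCLoc1Lets, caseCLoc1Act, [1, 1, 2, 3], (.node 32 (.node 16 (.node 8 (.node 4 (.node 2 (.node 1 (.leaf 0) (.leaf 9)) (.node 1 (.leaf 18) (.leaf 27)))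
(.node 2 (.node 1 (.leaf 36) (.leaf 45)) (.node 1 (.leaf 54) (.leaf 63))))
(.node 4 (.node 2 (.node 1 (.leaf 1) (.leaf 8)) (.node 1 (.leaf 19) (.leaf 26)))
(.node 2 (.node 1 (.leaf 37) (.leaf 44)) (.node 1 (.leaf 55) (.leaf 62)))))
(.node 8 (.node 4 (.node 2 (.node 1 (.leaf 2) (.leaf 11)) (.node 1 (.leaf 16) (.leaf 25)))
(.node 2 (.node 1 (.leaf 38) (.leaf 47)) (.node 1 (.leaf 52) (.leaf 61))))
(.node 4 (.node 2 (.node 1 (.leaf 3) (.leaf 10)) (.node 1 (.leaf 17) (.leaf 24)))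
(.node 2 (.node 1 (.leaf 39) (.leaf 46)) (.node 1 (.leaf 53) (.leaf 60))))))
(.node 16 (.node 8 (.node 4 (.node 2 (.node 1 (.leaf 4) (.leaf 13)) (.node 1 (.leaf 22) (.leaf 31)))
(.node 2 (.node 1 (.leaf 32) (.leaf 41)) (.node 1 (.leaf 50) (.leaf 59))))
(.node 4 (.node 2 (.node 1 (.leaf 5) (.leaf 12)) (.node 1 (.leaf 23) (.leaf 30)))
(.node 2 (.node 1 (.leaf 33) (.leaf 40)) (.node 1 (.leaf 51) (.leaf 58)))))
(.node 8 (.node 4 (.node 2 (.node 1 (.leaf 6) (.leaf 15)) (.node 1 (.leaf 20) (.leaf 29)))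
(.node 2 (.node 1 (.leaf 34) (.leaf 43)) (.node 1 (.leaf 48) (.leaf 57))))
(.node 4 (.node 2 (.node 1 (.leaf 7) (.leaf 14)) (.node 1 (.leaf 21) (.leaf 28)))
(.node 2 (.node 1 (.leaf 35) (.leaf 42)) (.node 1 (.leaf 49) (.leaf 56)))))))⟩

/-- The known values. -/
def caseCLoc1Eqs : List EqD :=
  [⟨[2, 2, 2, 2], 17043523, 1, .red⟩,
  ⟨[0, 0, 1, 0, 1, 1, 0, 1], 17043529, 2, .red⟩,
  ⟨[1, 0, 0, 1, 1, 0, 0, 1], 17045569, 8, .red⟩,
  ⟨[0, 1, 1, 2, 2, 1, 1], 17051713, 16, .red⟩,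
  ⟨[1, 0, 0, 2, 0, 2, 1, 0], 17059905, 32, .red⟩,
  ⟨[0, 0, 1, 0, 2, 1, 2, 0, 1, 1, 0, 0, 2, 0, 2], 17043521, 0, .red⟩,
  ⟨[3, 3], 17043521, 0, .red⟩,
  ⟨[3, 0, 1, 2, 1, 0, 0, 2, 3, 0, 1, 1, 0, 0, 1, 1], 17043521, 0, .red⟩,
  ⟨[3, 0, 2, 1, 0, 3, 2, 0, 2, 1, 2], 17043521, 0, .red⟩,
  ⟨[4, 4], 17043521, 0, .red⟩,
  ⟨[4, 2, 1, 0, 1, 1, 0, 4, 0, 2, 2, 1, 1, 0], 17043521, 0, .red⟩]

/-- The rows. -/
def caseCLoc1Rows : Tab ℕ :=
(.node 33 (.node 16 (.node 8 (.node 4 (.node 2 (.node 1 (.leaf 262145) (.leaf 0)) (.node 1 (.leaf 0) (.leaf 0)))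
(.node 2 (.node 1 (.leaf 0) (.leaf 0)) (.node 1 (.leaf 4192) (.leaf 2113))))
(.node 4 (.node 2 (.node 1 (.leaf 4192) (.leaf 0)) (.node 1 (.leaf 0) (.leaf 0)))
(.node 2 (.node 1 (.leaf 2852) (.leaf 0)) (.node 1 (.leaf 0) (.leaf 6177)))))
(.node 8 (.node 4 (.node 2 (.node 1 (.leaf 0) (.leaf 0)) (.node 1 (.leaf 477698) (.leaf 267012)))
(.node 2 (.node 1 (.leaf 170248) (.leaf 135184)) (.node 1 (.leaf 6177) (.leaf 264256))))
(.node 4 (.node 2 (.node 1 (.leaf 253792) (.leaf 395360)) (.node 1 (.leaf 184356) (.leaf 399360)))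
(.node 2 (.node 1 (.leaf 0) (.leaf 393249)) (.node 1 (.leaf 122698) (.node 1 (.leaf 281160) (.leaf 430408)))))))
(.node 16 (.node 8 (.node 4 (.node 2 (.node 1 (.leaf 399440) (.leaf 135232)) (.node 1 (.leaf 264256) (.leaf 13107200)))
(.node 2 (.node 1 (.leaf 9437184) (.leaf 27262976)) (.node 1 (.leaf 5767168) (.leaf 9437184))))
(.node 4 (.node 2 (.node 1 (.leaf 19922944) (.leaf 30153526)) (.node 1 (.leaf 18219108) (.leaf 10491912)))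
(.node 2 (.node 1 (.leaf 8165686) (.leaf 10928236)) (.node 1 (.leaf 17826592) (.leaf 21835422)))))
(.node 8 (.node 4 (.node 2 (.node 1 (.leaf 9701900) (.leaf 19304740)) (.node 1 (.leaf 6896124) (.leaf 9492844)))
(.node 2 (.node 1 (.leaf 19175968) (.leaf 704643072)) (.node 1 (.leaf 0) (.leaf 704643072))))
(.node 4 (.node 2 (.node 1 (.leaf 1946157056) (.leaf 0)) (.node 1 (.leaf 1946157056) (.leaf 771874408)))
(.node 2 (.node 1 (.leaf 187136) (.leaf 704949224)) (.node 1 (.leaf 1409567020) (.node 1 (.leaf 399360) (.leaf 1946633516))))))))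

/-- The paths. -/
def caseCLoc1Loops : List LoopD :=
  [⟨[3, 4, 3, 4, 2, 0, 1, 2, 2, 0, 1, 1], 32, 13, (.node 3 (.node 1 (.leaf [0, 7, 12, 20, 24, 25, 26, 36, 38, 49, 60, 63]) (.node 1 (.leaf [0, 6, 7, 20, 24, 25, 49, 54, 57, 60, 63]) (.leaf [6, 12, 18, 24, 36, 37, 43, 48, 49, 57, 63]))) (.node 1 (.leaf [6, 18, 20, 21, 25, 30, 37, 42, 48, 54, 57, 60, 63]) (.node 1 (.leaf [0, 6, 7, 12, 20, 24, 26, 49, 54, 57, 60, 63]) (.leaf [7, 18, 20, 21, 25, 26, 30, 36, 38, 42, 48, 49, 54, 63]))))⟩,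
  ⟨[3, 4, 1, 0, 0, 0, 1, 2, 0, 1, 4, 3, 0, 2, 1, 2, 1, 0, 1, 1], 51, 51, (.node 3 (.node 1 (.leaf [7, 18, 20, 21, 24, 37, 42, 43, 63]) (.node 1 (.leaf [7, 12, 20, 25, 26, 37]) (.leaf [6, 12, 24, 25, 37, 38, 49, 57]))) (.node 1 (.leaf [20, 21, 30, 37, 42, 43, 60]) (.node 1 (.leaf [7, 26, 37]) (.leaf [0, 6, 12, 21, 25, 30, 36, 37, 38, 43, 48, 49, 54]))))⟩,
  ⟨[3, 4, 1, 0, 1, 3, 0, 0, 4, 2, 0, 1, 2, 2, 0, 1, 1], 14, 35, (.node 3 (.node 1 (.leaf [0, 7, 12, 20, 24, 26, 36, 43, 49, 60, 63]) (.node 1 (.leaf [0, 6, 20, 24, 37, 43, 49, 54, 57, 60, 63]) (.leaf [0, 6, 12, 18, 21, 24, 36, 37, 38, 48, 49, 57, 63]))) (.node 1 (.leaf [7, 18, 20, 21, 25, 30, 37, 38, 42, 48, 54, 57, 60, 63]) (.node 1 (.leaf [6, 20, 21, 26, 30, 36, 37, 38, 42, 49, 54, 57, 60, 63]) (.leaf [0, 7, 12, 24, 25, 26, 30, 36, 42, 48, 49, 54, 63]))))⟩,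
  ⟨[3, 4, 1, 0, 2, 0, 0, 4, 3, 2, 0, 1, 2, 2, 0, 1, 1], 30, 30, (.node 3 (.node 1 (.leaf [0, 6, 7, 18, 21, 25, 30, 36, 37, 42, 48, 49, 63]) (.node 1 (.leaf [0, 6, 12, 25, 26, 37]) (.leaf [7, 20, 25, 30, 36, 37, 38, 42, 43, 63]))) (.node 1 (.leaf [7, 21, 24, 25, 30, 42, 43, 49, 60]) (.node 1 (.leaf [0, 6, 20, 26, 37]) (.leaf [6, 18, 21, 38, 42, 48, 60]))))⟩]

/-- The certificate. -/
def caseCLoc1Cert : LocCert := ⟨caseCLoc1D, caseCLoc1Eqs, caseCLoc1Rows, 1726067420, caseCLoc1Loops⟩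

end Cfsg.Lib.HeldType
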