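import Cfsg.Agent.HeldType.Local

/-!
Certificates for the values of closed paths.
-/

set_option autoImplicit false
set_option maxRecDepth 100000

namespace Cfsg.Lib.HeldType

/-- The normal form of a letter followed by a normal word, absorbing a pair of equal interchanging elements. -/
def redT (P : Pars) (b : Bool) : List Let → List Let
  | .t b' :: v => bif b == b' then .h (P.sq b) :: v else .t b :: .t b' :: v
  | .h c :: .t b' :: v =>
    bif b == b' then
      (match (P.side b).C.ix.find c with
        | some k => .h (((P.side b).fwd.get (P.opt b)).get k) :: .h (P.sq b) :: v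
        | none => .t b :: .h c :: .t b' :: v)
    else .t b :: .h c :: .t b' :: v
  | v => .t b :: v

/-- One reduction pass. -/
def red (P : Pars) : List Let → List Let
  | [] => []
  | .t b :: w => redT P b (normW (red P w))
  | .h c :: w => .h c :: red P w

attribute [local irreducible] evF par

variable {G : Type*} [Group G] {S : Setting G} {P : Pars} (Q : Pair S P)

theorem Pair.redT_sound {b : Bool} {v : List Let} (h : okWord v = true) :
    okWord (redT P b v) = true ∧ Q.val (redT P b v) = Q.T b * Q.val v := by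
  unfold redT
  split
  · rename_i b' w
    simp only [okWord, List.all_cons, Bool.true_and] at h
    cases hb : (b == b') with
    | true =>
      rw [cond_true]
      obtain rfl := eq_of_beq hb
      refine ⟨by simp [okWord, Q.sq_valid, h], ?_⟩
      simp only [Q.val_cons, Pair.letter, ← mul_assoc, Q.sq_eq]
    | false => rw [cond_false]; exact ⟨by simpa [okWord] using h, rfl⟩
  · rename_i c b' w
    simp only [okWord, List.all_cons, Bool.true_and, Bool.and_eq_true] at h
    have keep : okWord (.t b :: .h c :: .t b' :: w) = true ∧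
        Q.val (.t b :: .h c :: .t b' :: w) = Q.T b * Q.val (.h c :: .t b' :: w) :=
      ⟨by simp [okWord, h.1, h.2], rfl⟩
    cases hb : (b == b') with
    | true =>
      rw [cond_true]
      obtain rfl := eq_of_beq hb
      cases hf : (P.side b).C.ix.find c with
      | none => exact keep
      | some k =>
        obtain ⟨k1, k2⟩ := CentData.find_el (Q.side_ok b) hf
        refine ⟨by simp [okWord, Q.opt_ok b k k1, Q.sq_valid, h.2], ?_⟩
        have := (Q.acts b).2 k k1
        rw [k2] at this
        simp only [Q.val_cons, Pair.letter, ← mul_assoc, this]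
        rw [mul_assoc (S.η _) (Q.T b), Q.sq_eq]
    | false => rw [cond_false]; exact keep
  · exact ⟨by simpa [okWord] using h, rfl⟩

theorem Pair.red_sound : ∀ {w : List Let}, okWord w = true → okWord (red P w) = true ∧ Q.val (red P w) = Q.val w
  | [], _ => ⟨rfl, rfl⟩
  | .t b :: w, h => by
    simp only [okWord, List.all_cons, Bool.true_and] at h
    obtain ⟨a, e⟩ := red_sound (w := w) h
    obtain ⟨a', e'⟩ := Q.val_norm a
    obtain ⟨a'', e''⟩ := Q.redT_sound (b := b) a'
    exact ⟨a'', by rw [red, e'', e', e]; rfl⟩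
  | .h c :: w, h => by
    simp only [okWord, List.all_cons, Bool.and_eq_true] at h
    obtain ⟨a, e⟩ := red_sound (w := w) h.2
    refine ⟨by simp only [red, okWord, List.all_cons, h.1, Bool.true_and]; exact a, ?_⟩
    simp only [red, Q.val_cons, e]

/-- The reduced form of a word. -/
def redN (P : Pars) (w : List Let) : List Let := normW (red P (normW (red P (normW (red P (normW w))))))

/-- The value of a word is a code. -/
def valueIs (P : Pars) (w : List Let) (k : ℕ) : Bool :=
  okWord w && valid k && sameW (redN P w) (normW [.h k])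

theorem Pair.valueIs_sound {w : List Let} {k : ℕ} (h : valueIs P w k = true) : Q.val w = S.η k := by
  simp only [valueIs, Bool.and_eq_true] at h
  obtain ⟨⟨hw, hk⟩, he⟩ := h
  obtain ⟨a0, e0⟩ := Q.val_norm hw
  obtain ⟨a1, e1⟩ := Q.red_sound a0
  obtain ⟨a2, e2⟩ := Q.val_norm a1
  obtain ⟨a3, e3⟩ := Q.red_sound a2
  obtain ⟨a4, e4⟩ := Q.val_norm a3
  obtain ⟨a5, e5⟩ := Q.red_sound a4
  obtain ⟨a6, e6⟩ := Q.val_norm a5
  have e := congrArg Q.val (sameW_eq he)
  unfold redN at e
  rw [e6, e5, e4, e3, e2, e1, e0] at e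
  rw [e, (Q.val_norm (w := [.h k]) (by simp [okWord, hk])).2, Q.val_cons, Q.val_nil, mul_one]
  rfl

/-- The data of a cubic relation. -/
structure CubeD where
  side : Bool
  psi : ℕ
  r3 : ℕ

/-- The relations of both sides hold. -/
def Pair.Cubes (cu : Bool → CubeD) : Prop :=
  ∀ b, (Q.T b * S.η (cu b).psi) ^ 3 = S.η (cu b).r3

/-- The sources of known values. -/
inductive EqSrc where
  | red
  | cube (b : Bool) (g gi x p1 p2 p3 : ℕ)

/-- The check of a known value. -/
def eqOK (P : Pars) (cu : Bool → CubeD) (w : List Let) (k : ℕ) : EqSrc → Bool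
  | .red => valueIs P w k
  | .cube b g gi x p1 p2 p3 =>
    let X : List Let := [.t b, .h (cu b).psi]
    let one (c d : ℕ) : Bool := match conjWord P X c with
      | some e => Nat.beq e d
      | none => false
    valid g && valid gi && valid x && valid k && valid p1 && valid p2 && valid p3 && valid (cu b).r3 &&
      one x p1 && one p1 p2 && one p2 p3 &&
      sameVal w ([.h gi] ++ (X ++ [.h x]) ++ (X ++ [.h x]) ++ (X ++ [.h x]) ++ [.h g]) &&
      sameVal [.h gi, .h p1, .h p2, .h p3, .h (cu b).r3, .h g] [.h k]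

theorem Pair.eqOK_sound {cu : Bool → CubeD} (hcu : Q.Cubes cu) {w : List Let} {k : ℕ} :
    ∀ {e : EqSrc}, eqOK P cu w k e = true → Q.val w = S.η k
  | .red, h => Q.valueIs_sound h
  | .cube b g gi x p1 p2 p3, h => by
    simp only [eqOK, Bool.and_eq_true] at h
    obtain ⟨⟨⟨⟨⟨-, h1⟩, h2⟩, h3⟩, hw⟩, hk⟩ := h
    set X : List Let := [.t b, .h (cu b).psi] with hX
    have step : ∀ {c d : ℕ}, (match conjWord P X c with | some e => Nat.beq e d | none => false) = true →
        Q.val X * S.η c = S.η d * Q.val X := fun {c d} hh => by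
      cases hc : conjWord P X c with
      | none => rw [hc] at hh; simp at hh
      | some e =>
        rw [hc] at hh
        rw [← Nat.eq_of_beq_eq_true hh]
        exact (Q.conjWord_sound hc).2.2
    have e1 := step h1
    have e2 := step h2
    have e3 := step h3
    have eX : Q.val X = Q.T b * S.η (cu b).psi := by simp [hX, Pair.val, Pair.letter]
    have key : ∀ (Y a p q r : G), Y * a = p * Y → Y * p = q * Y → Y * q = r * Y →
        (Y * a) * (Y * a) * (Y * a) = p * q * r * Y ^ 3 := fun Y a p q r d1 d2 d3 => by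
      rw [d1]
      calc p * Y * (p * Y) * (p * Y) = p * (Y * p) * (Y * p) * Y := by simp only [mul_assoc]
        _ = p * (q * Y) * (q * Y) * Y := by rw [d2]
        _ = p * q * (Y * q) * (Y * Y) := by simp only [mul_assoc]
        _ = p * q * (r * Y) * (Y * Y) := by rw [d3]
        _ = p * q * r * Y ^ 3 := by simp only [pow_succ, pow_zero, one_mul, mul_assoc]
    have hk' := Q.sameVal_sound hk
    simp only [Q.val_cons, Q.val_nil, mul_one, Pair.letter] at hk'
    rw [Q.sameVal_sound hw, ← hk']
    have hthree := key _ _ _ _ _ e1 e2 e3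
    rw [eX, hcu b] at hthree
    have hXx : Q.val (X ++ [.h x]) = Q.T b * S.η (cu b).psi * S.η x := by
      rw [Q.val_append, eX, Q.val_cons, Q.val_nil, mul_one]; rfl
    simp only [Q.val_append, Q.val_cons, Q.val_nil, mul_one, Pair.letter] at hXx ⊢
    rw [hXx]
    calc _ = S.η gi * ((Q.T b * S.η (cu b).psi * S.η x) * (Q.T b * S.η (cu b).psi * S.η x) *
          (Q.T b * S.η (cu b).psi * S.η x)) * S.η g := by simp only [mul_assoc]
      _ = _ := by rw [hthree]; simp only [mul_assoc]

/-- A known value. -/
structure EqD where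
  w : List ℕ
  k : ℕ
  v : ℕ
  src : EqSrc

/-- The value of a closed path by the two possible cases. -/
structure LoopD where
  w : List ℕ
  u0 : ℕ
  u1 : ℕ
  comb : Tab (List ℕ)

/-- The certificate of a local group. -/
structure LocCert where
  D : LocD
  eqs : List EqD
  eqT : Tab ℕ
  m0 : ℕ
  loops : List LoopD

/-- The sum of some rows. -/
def xorAll (T : Tab ℕ) : List ℕ → ℕ
  | [] => 0
  | i :: l => Nat.xor (T.get i) (xorAll T l)

/-- The rows of the equations. -/
def LocCert.rows (C : LocCert) : List ℕ :=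
  C.eqs.flatMap fun e => (List.range 6).map fun q => Nat.xor ((C.D.lin e.w).get q) (bit e.v q).toNat

/-- A word acts trivially. -/
def LocD.closed (D : LocD) (w : List ℕ) : Bool :=
  (w.all fun l => Nat.blt l D.nl) && allR (fun v => Nat.beq (D.actW w v) v) 0 64

/-- The check of a certificate. -/
def LocCert.ok (C : LocCert) (P : Pars) (cu : Bool → CubeD) : Bool :=
  C.D.ok P &&
  (C.eqs.all fun e => C.D.closed e.w && eqOK P cu (C.D.raw e.w) e.k e.src && Nat.blt e.v 64 &&
    Nat.beq (C.D.el.get e.v) e.k) &&
  allR (fun i => match C.rows[i]? with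
    | some r => Nat.beq r (C.eqT.get i)
    | none => false) 0 C.rows.length &&
  (C.loops.all fun l => C.D.closed l.w && Nat.blt l.u0 64 && Nat.blt l.u1 64 &&
    allR (fun q => (l.comb.get q).all (fun i => Nat.blt i C.rows.length) &&
      Nat.beq (Nat.xor (Nat.xor ((C.D.lin l.w).get q) (bit l.u0 q).toNat)
        (bif xor (bit l.u0 q) (bit l.u1 q) then C.m0 else 0)) (xorAll C.eqT (l.comb.get q))) 0 6)

theorem LocCert.sound {C : LocCert} {cu : Bool → CubeD} (hcu : Q.Cubes cu) (h : C.ok P cu = true) :
    ∃ b : Bool, ∀ l ∈ C.loops, Q.val (C.D.raw l.w) = C.D.ee S (bif b then l.u1 else l.u0) := by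
  simp only [LocCert.ok, Bool.and_eq_true, List.all_eq_true] at h
  obtain ⟨⟨⟨hD, hE⟩, hT⟩, hL⟩ := h
  obtain ⟨-, -, -, einj⟩ := grp_facts (S := S) hD
  obtain ⟨V, hV1, hV0⟩ := C.D.exists_values Q hD
  have cl : ∀ w, C.D.closed w = true → Q.val (C.D.raw w) = C.D.ee S ((C.D.lin w).vec V) := fun w hw => by
    simp only [LocD.closed, Bool.and_eq_true, List.all_eq_true, Nat.blt_eq] at hw
    exact hV0 w hw.1 fun v hv => Nat.eq_of_beq_eq_true (allR_sound _ _ _ hw.2 v (Nat.zero_le _) (by omega))
  have hone : ∀ b : Bool, evF V b.toNat = b := fun b => by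
    cases b
    · rw [show (false).toNat = (bif false then 0 else 0) from rfl, evF_cond, Bool.false_and]
    · rw [show (true).toNat = 2 ^ 0 from rfl, evF_single (by norm_num [nBits]), hV1]
  have hrow : ∀ i, i < C.rows.length → evF V (C.eqT.get i) = false := fun i hi => by
    have h1 := allR_sound _ _ _ hT i (Nat.zero_le _) (by omega)
    rw [List.getElem?_eq_getElem hi] at h1
    rw [← Nat.eq_of_beq_eq_true h1]
    have hm : C.rows[i] ∈ C.rows := List.getElem_mem hi
    generalize C.rows[i] = r at hm
    simp only [LocCert.rows, List.mem_flatMap, List.mem_map, List.mem_range] at hm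
    obtain ⟨e, he, q, hq, rfl⟩ := hm
    obtain ⟨⟨⟨hc, hok⟩, hv⟩, hk⟩ := hE e he
    have h2 := cl _ hc
    rw [Q.eqOK_sound hcu hok, ← Nat.eq_of_beq_eq_true hk] at h2
    have h3 := einj _ _ (Nat.blt_eq.mp hv) (Form6.vec_lt _ _) h2
    show evF V (_ ^^^ _) = false
    rw [evF_xor, hone, bit_eq, h3, Form6.vec_bit (C.D.lin e.w) V ⟨q, hq⟩, Bool.xor_self]
  have hxa : ∀ l : List ℕ, (∀ i ∈ l, i < C.rows.length) → evF V (xorAll C.eqT l) = false := fun l hl => by
    induction l with
    | nil => rw [show xorAll C.eqT [] = (bif false then 0 else 0) from rfl, evF_cond, Bool.false_and]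
    | cons i l ih =>
      show evF V (_ ^^^ _) = false
      rw [evF_xor, hrow i (hl i List.mem_cons_self), ih fun j hj => hl j (List.mem_cons_of_mem _ hj)]
      rfl
  refine ⟨evF V C.m0, fun l hl => ?_⟩
  obtain ⟨⟨⟨hc, hu0⟩, hu1⟩, hcomb⟩ := hL l hl
  rw [cl _ hc]
  congr 1
  refine vec_ext (Form6.vec_lt _ _) ?_ fun q => ?_
  · cases evF V C.m0
    · exact Nat.blt_eq.mp hu0
    · exact Nat.blt_eq.mp hu1
  · have h1 := allR_sound _ _ _ hcomb q.val (Nat.zero_le _) (by have := q.isLt; omega)
    simp only [Bool.and_eq_true, List.all_eq_true, Nat.blt_eq] at h1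
    have h2 := congrArg (evF V) (Nat.eq_of_beq_eq_true h1.2)
    rw [hxa _ h1.1] at h2
    change evF V ((_ ^^^ _) ^^^ _) = false at h2
    rw [evF_xor, evF_xor, hone, evF_cond, bit_eq, bit_eq] at h2
    rw [Form6.vec_bit]
    revert h2
    cases evF V C.m0 <;> simp only [cond_true, cond_false] <;> cases l.u0.testBit q.val <;>
      cases l.u1.testBit q.val <;> cases evF V ((C.D.lin l.w).get q.val) <;> simp

end Cfsg.Lib.HeldType
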