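import Cfsg.Agent.HeldType.Glue

/-!
Interchanging elements in given groups.
-/

set_option autoImplicit false
set_option maxRecDepth 100000

namespace Cfsg.Lib.HeldType

variable {G : Type*} [Group G] {S : Setting G}

theorem SideD.Ok.cent {D : SideD} (hD : D.Ok) : D.C.ok = true := by
  have h := hD.base
  simp only [SideD.okBase, Bool.and_eq_true] at h
  exact h.1.1.1.1.1.1.1.1.1.1.1.1.1.1.1.1.1

theorem Setting.acts_of_gens {D : SideD} (hD : D.Ok) {i : ℕ} (hi : i < 4) {t : G}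
    (h : ∀ j < 3, t * S.η (D.g.get j) = S.η ((D.im.get i).get j) * t) (h1 : t * S.z = S.η D.C.x * t)
    (h2 : t * S.η D.C.x = S.z * t) : S.Acts D i t := by
  refine ⟨⟨h1, h2⟩, fun k hk => ?_⟩
  obtain ⟨hB, -, -, hO⟩ := hD
  simp only [SideD.okBase, Bool.and_eq_true] at hB
  obtain ⟨⟨⟨⟨⟨⟨⟨⟨⟨⟨⟨⟨⟨⟨⟨⟨⟨hC, -⟩, -⟩, hg⟩, -⟩, -⟩, -⟩, -⟩, -⟩, -⟩, -⟩, -⟩, -⟩, -⟩, -⟩, -⟩, h0⟩, hpar⟩ := hB
  simp only [SideD.okOpts, Bool.and_eq_true] at hO
  obtain ⟨⟨hO1, -⟩, hO3⟩ := hO
  have hO1' := allR_apply (k := i) hO1 (Nat.zero_le _) (by omega)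
  have hO3' := allR_apply (k := i) hO3 (Nat.zero_le _) (by omega)
  simp only [Bool.and_eq_true] at hO3'
  have hgen : ∀ j, j < 3 → valid (D.g.get j) = true ∧ valid ((D.im.get i).get j) = true := fun j hj => by
    have hO1j := allR_apply (k := j) hO1' (Nat.zero_le _) (by omega)
    simp only [Bool.and_eq_true] at hO1j
    exact ⟨(SideD.inR_iff hC (allR_apply (p := fun i => D.inR (D.g.get i)) (k := j) hg (Nat.zero_le _) (by omega))).1,
      (SideD.inR_iff hC hO1j.1.1).1⟩
  have main : ∀ k, k < D.C.n → valid ((D.fwd.get i).get k) = true ∧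
      t * S.η (D.C.el.get k) = S.η ((D.fwd.get i).get k) * t := by
    intro k
    induction k using Nat.strong_induction_on with
    | _ k ih =>
      intro hk
      rcases Nat.eq_zero_or_pos k with rfl | hpos
      · rw [Nat.eq_of_beq_eq_true hO3'.1, Nat.eq_of_beq_eq_true h0, S.η_one, mul_one, one_mul]
        exact ⟨valid_one, rfl⟩
      · have hp := allR_apply (k := k) hpar (by omega) (by omega)
        simp only [Bool.and_eq_true, Nat.blt_eq] at hp
        obtain ⟨v1, e1⟩ := ih _ hp.1.1 (by omega)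
        obtain ⟨g1, g2⟩ := hgen _ hp.1.2
        have hf5 := allR_apply (k := k) hO3'.2 (by omega) (by omega)
        rw [Nat.eq_of_beq_eq_true hf5, Nat.eq_of_beq_eq_true hp.2]
        exact ⟨valid_cm v1 g2, S.conj_mul (CentData.el_ok hC (by omega)).1 g1 v1 g2 e1 (h _ hp.1.2)⟩
  exact (main k hk).2

theorem card_cs_le : Nat.card cs ≤ 21504 := by
  classical
  choose c hc hce using fun g : cs => surj g.2
  let f : cs → Fin 21504 := fun g => ⟨kOf (c g), by
    have := hc g
    simp only [valid, Bool.and_eq_true, Nat.blt_eq] at this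
    exact this.1⟩
  have hf : Function.Injective f := fun a b h => by
    have h1 : cOf (kOf (c a)) = cOf (kOf (c b)) := congrArg (fun x : Fin 21504 => cOf x.val) h
    have a1 := hc a; have b1 := hc b
    simp only [valid, Bool.and_eq_true] at a1 b1
    rw [Nat.eq_of_beq_eq_true a1.2, Nat.eq_of_beq_eq_true b1.2] at h1
    exact Subtype.ext (Subtype.ext (by rw [hce a, hce b, h1]))
  simpa using Nat.card_le_card_of_injective f hf

theorem exists_setting_rel {M : Type*} [Group M] [Finite M] (z : M) (hz : orderOf z = 2) (R : Subgroup (M × SL5))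
    (hR : ∀ q ∈ R, q.1 * z = z * q.1 ∧ q.2 ∈ cs) (hsur : ∀ g : M, g * z = z * g → ∃ A, (g, A) ∈ R)
    (h1 : ∀ A, (1, A) ∈ R → A = 1) (h2 : ∀ g, (g, 1) ∈ R → g = 1) (hcard : 21504 ≤ Nat.card R) :
    ∃ S : Setting M, S.z = z ∧
      ∀ (g : M) (A : SL5) (c : ℕ), (g, A) ∈ R → valid c = true → A.1 = mat c → S.η c = g := by
  classical
  let C := Subgroup.centralizer ({z} : Set M)
  let p1 : R →* C := ((MonoidHom.fst M SL5).comp R.subtype).codRestrict C fun q =>
    Subgroup.mem_centralizer_singleton_iff.mpr (hR q q.2).1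
  let p2 : R →* cs := ((MonoidHom.snd M SL5).comp R.subtype).codRestrict cs fun q => (hR q q.2).2
  have i1 : Function.Injective p1 := (injective_iff_map_eq_one p1).mpr fun q hq => by
    have e : (q : M × SL5).1 = 1 := congrArg Subtype.val hq
    exact Subtype.ext (Prod.ext e (h1 _ (e ▸ q.2)))
  have i2 : Function.Injective p2 := (injective_iff_map_eq_one p2).mpr fun q hq => by
    have e : (q : M × SL5).2 = 1 := congrArg Subtype.val hq
    exact Subtype.ext (Prod.ext (h2 _ (e ▸ q.2)) e)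
  have s1 : Function.Surjective p1 := fun x => by
    obtain ⟨A, hA⟩ := hsur x (Subgroup.mem_centralizer_singleton_iff.mp x.2)
    exact ⟨⟨_, hA⟩, rfl⟩
  have b2 : Function.Bijective p2 := i2.bijective_of_nat_card_le (card_cs_le.trans hcard)
  let e1 := MulEquiv.ofBijective p1 ⟨i1, s1⟩
  let e2 := MulEquiv.ofBijective p2 b2
  obtain ⟨S, hS, hspec, -⟩ := exists_setting sEl mat_z z hz (e1.symm.trans e2)
  refine ⟨S, hS, fun g A c hq hc hA => ?_⟩
  refine hspec c hc (p1 ⟨(g, A), hq⟩) ?_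
  rw [MulEquiv.trans_apply, show p1 ⟨(g, A), hq⟩ = e1 ⟨(g, A), hq⟩ from rfl, MulEquiv.symm_apply_apply]
  exact hA

end Cfsg.Lib.HeldType
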