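import Cfsg.Agent.HeldType.Model
import Cfsg.Agent.HeldType.CaseA

/-!
The first case inside the special linear group.
-/

set_option autoImplicit false
set_option maxRecDepth 100000

namespace Cfsg.Lib.HeldType

/-- A code as an element. -/
def elS (c : ℕ) : SL5 := if h : (mat c).det = 1 then ⟨mat c, h⟩ else 1

theorem elS_val {c : ℕ} (h : valid c = true) : (elS c).1 = mat c := by
  obtain ⟨g, -, hg⟩ := exists_el h
  have hd : (mat c).det = 1 := hg ▸ g.2
  exact congrArg Subtype.val (dif_pos hd : elS c = ⟨mat c, hd⟩)

theorem sEl_sq : sEl * sEl = 1 ∧ sEl ≠ 1 := by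
  constructor
  · exact Subtype.ext (show mat cZ * mat cZ = 1 by rw [← mat_cm, ← mat_one]; decide +kernel)
  · intro h
    have e : mat cZ = 1 := congrArg Subtype.val h
    revert e
    decide +kernel

/-- The special linear group with its transvection. -/
def settingSL : Setting SL5 where
  z := sEl
  η := elS
  z_ord := orderOf_eq_prime (by rw [pow_two]; exact sEl_sq.1) sEl_sq.2
  η_mul {a b} ha hb := Subtype.ext (by
    rw [Matrix.SpecialLinearGroup.coe_mul, elS_val ha, elS_val hb, elS_val (valid_cm ha hb), mat_cm])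
  η_inj {a b} ha hb h := mat_inj (valid_lt ha) (valid_lt hb) (by rw [← elS_val ha, ← elS_val hb, h])
  η_comm {a} ha := by
    obtain ⟨g, hg, hga⟩ := exists_el ha
    rw [show elS a = g from Subtype.ext ((elS_val ha).trans hga.symm)]
    exact Subgroup.mem_centralizer_singleton_iff.mp hg
  η_surj {g} hg := by
    obtain ⟨c, hc, he⟩ := surj (Subgroup.mem_centralizer_singleton_iff.mpr hg)
    exact ⟨c, hc, Subtype.ext ((elS_val hc).trans he.symm)⟩
  η_z := Subtype.ext (elS_val valid_z)

/-- The codes of the interchanging matrices. -/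
def tCode (b : Bool) : ℕ := bif b then 17646660 else 3086849

theorem tCode_det : ∀ b, (mat (tCode b)).det = 1 := by decide +kernel

/-- The interchanging matrices. -/
def tSL (b : Bool) : SL5 := ⟨mat (tCode b), tCode_det b⟩

theorem tCode_ok : ∀ b : Bool,
    (∀ j : Fin 3, valid ((caseAPars.side b).g.get j.val) = true ∧
      valid (((caseAPars.side b).im.get (caseAPars.opt b)).get j.val) = true ∧
      cm (tCode b) ((caseAPars.side b).g.get j.val) =
        cm (((caseAPars.side b).im.get (caseAPars.opt b)).get j.val) (tCode b)) ∧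
    cm (tCode b) cZ = cm (caseAPars.side b).C.x (tCode b) ∧ cm (tCode b) (caseAPars.side b).C.x = cm cZ (tCode b) ∧
    valid (caseAPars.sq b) = true ∧ cm (tCode b) (tCode b) = caseAPars.sq b ∧
    valid (caseAPars.side b).C.x = true := by
  decide +kernel

theorem tSL_rel {b : Bool} {c d : ℕ} (hc : valid c = true) (hd : valid d = true)
    (h : cm (tCode b) c = cm d (tCode b)) : tSL b * settingSL.η c = settingSL.η d * tSL b :=
  Subtype.ext (by
    rw [Matrix.SpecialLinearGroup.coe_mul, Matrix.SpecialLinearGroup.coe_mul]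
    simp only [settingSL, tSL, elS_val hc, elS_val hd, ← mat_cm, h])

theorem side_ok_A : ∀ b, (caseAPars.side b).Ok := fun b => by
  cases b
  exacts [one_ok, two_ok]

theorem caseA_opt_lt : ∀ b, caseAPars.opt b < 4 := by decide

/-- The interchanging elements in the special linear group. -/
def pairSL : Pair settingSL caseAPars where
  T := tSL
  acts b := by
    obtain ⟨h1, h2, h3, -, -, hx⟩ := tCode_ok b
    refine Setting.acts_of_gens (side_ok_A b) (caseA_opt_lt b) (fun j hj => ?_) ?_ ?_
    · obtain ⟨a1, a2, a3⟩ := h1 ⟨j, hj⟩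
      exact tSL_rel a1 a2 a3
    · have := tSL_rel valid_z hx h2
      rwa [settingSL.η_z] at this
    · have := tSL_rel hx valid_z h3
      rwa [settingSL.η_z] at this
  sq_eq b := by
    obtain ⟨-, -, -, hv, h, -⟩ := tCode_ok b
    refine Subtype.ext ?_
    rw [Matrix.SpecialLinearGroup.coe_mul]
    simp only [settingSL, tSL, elS_val hv, ← mat_cm, h]
  side_ok b := (side_ok_A b).cent
  opt_ok b k hk := by
    have h := caseA_sq b
    simp only [sqOK, Bool.and_eq_true] at h
    have := allR_sound _ _ _ h.2 k (Nat.zero_le _) (by omega)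
    simp only [Bool.and_eq_true] at this
    exact this.1.1
  sq_valid b := (tCode_ok b).2.2.2.1

end Cfsg.Lib.HeldType
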