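import Mathlib

/-!
Elements of order thirty-five in small groups with a dihedral or elementary two-part.
-/

set_option autoImplicit false

namespace Cfsg.Lib.HeldType

open Subgroup

variable {H : Type*} [Group H] [Finite H]

theorem order_thirty_five_of_comm {a b : H} (ha : orderOf a = 5) (hb : orderOf b = 7) (h : a * b = b * a) :
    orderOf (a * b) = 35 := by
  rw [Commute.orderOf_mul_eq_mul_orderOf_of_coprime h (by rw [ha, hb]; norm_num), ha, hb]

theorem fifth_root : ∀ k : ZMod 7, k ^ 5 - 1 = 0 → k - 1 = 0 := by decide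

/-- A group of order 315 has an element of order thirty-five. -/
theorem exists_thirty_five (hc : Nat.card H = 315) : ∃ x : H, orderOf x = 35 := by
  have : Fact (Nat.Prime 5) := ⟨by norm_num⟩
  have : Fact (Nat.Prime 7) := ⟨by norm_num⟩
  let P : Sylow 5 H := Classical.arbitrary _
  have hP : Nat.card P = 5 := by
    rw [P.card_eq_multiplicity, hc, show (315 : ℕ) = 5 ^ 1 * 63 by norm_num,
      Nat.factorization_mul (by norm_num) (by norm_num), Finsupp.add_apply,
      Nat.Prime.factorization_pow (by norm_num), Finsupp.single_eq_same,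
      Nat.factorization_eq_zero_of_not_dvd (by norm_num), add_zero, pow_one]
  have hcyc : IsCyclic P := isCyclic_of_prime_card hP
  -- the normaliser centralises
  have hNC : normalizer P ≤ centralizer ((P : Subgroup H) : Set H) := by
    intro n hn
    have hker := (P : Subgroup H).normalizerMonoidHom_ker
    set f := (P : Subgroup H).normalizerMonoidHom
    have h1 : orderOf (f ⟨n, hn⟩) ∣ 4 := by
      have := orderOf_dvd_natCard (f ⟨n, hn⟩)
      rw [hcyc.card_mulAut, hP, Nat.totient_prime (by norm_num)] at this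
      exact this
    have h2 : orderOf (f ⟨n, hn⟩) ∣ 315 := by
      rw [← hc]
      exact (orderOf_map_dvd f _).trans ((Subgroup.orderOf_coe (⟨n, hn⟩ : normalizer P)).symm ▸ orderOf_dvd_natCard n)
    have h3 : orderOf (f ⟨n, hn⟩) = 1 := Nat.eq_one_of_dvd_coprimes (by norm_num) h1 h2
    have h4 : (⟨n, hn⟩ : normalizer P) ∈ f.ker := MonoidHom.mem_ker.mpr (orderOf_eq_one_iff.mp h3)
    rw [hker] at h4
    exact h4
  set N := (MonoidHom.transferSylow P hNC).ker with hN
  have hNc : Nat.card N = 63 := by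
    have := (MonoidHom.ker_transferSylow_isComplement' P hNC).card_mul
    rw [hc, ← hN] at this
    have e : Nat.card ((P : Subgroup H) : Set H) = 5 := hP
    simp only [SetLike.coe_sort_coe] at this e
    rw [e] at this
    omega
  let R : Sylow 7 N := Classical.arbitrary _
  have hR : Nat.card R = 7 := by
    rw [R.card_eq_multiplicity, hNc, show (63 : ℕ) = 7 ^ 1 * 9 by norm_num,
      Nat.factorization_mul (by norm_num) (by norm_num), Finsupp.add_apply,
      Nat.Prime.factorization_pow (by norm_num), Finsupp.single_eq_same,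
      Nat.factorization_eq_zero_of_not_dvd (by norm_num), add_zero, pow_one]
  have huniq : Subsingleton (Sylow 7 N) := by
    have h1 := card_sylow_modEq_one 7 N
    have h2 : Nat.card (Sylow 7 N) ∣ 9 := by
      have := R.card_dvd_index
      have e := Subgroup.card_mul_index (R : Subgroup N)
      rw [hR, hNc] at e
      rwa [show (R : Subgroup N).index = 9 by omega] at this
    have h3 : Nat.card (Sylow 7 N) = 1 := by
      have h4 : Nat.card (Sylow 7 N) ∈ Nat.divisors 9 := Nat.mem_divisors.mpr ⟨h2, by norm_num⟩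
      rw [show Nat.divisors 9 = {1, 3, 9} by decide] at h4
      simp only [Finset.mem_insert, Finset.mem_singleton] at h4
      rcases h4 with e | e | e <;> first | exact e | (rw [e] at h1; exact absurd h1 (by decide))
    exact (Nat.card_eq_one_iff_unique.mp h3).1
  obtain ⟨a, ha⟩ := exists_prime_orderOf_dvd_card' (G := H) 5 (by rw [hc]; norm_num)
  obtain ⟨b, hb⟩ := exists_prime_orderOf_dvd_card' (G := N) 7 (by rw [hNc]; norm_num)
  have hbR : ∀ c : N, orderOf c = 7 → c ∈ zpowers b := by
    intro c hc'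
    have e : ∀ d : N, orderOf d = 7 → (R : Subgroup N) = zpowers d := fun d hd => by
      obtain ⟨Q, hQ⟩ := (IsPGroup.of_card (n := 1) (show Nat.card (zpowers d) = 7 ^ 1 by
        rw [Nat.card_zpowers, hd, pow_one])).exists_le_sylow
      rw [Subsingleton.elim Q R] at hQ
      exact (Subgroup.eq_of_le_of_card_ge hQ (le_of_eq (by rw [Nat.card_zpowers, hd]; exact hR))).symm
    rw [← e b hb, e c hc']
    exact mem_zpowers c
  obtain ⟨m, hm⟩ := Subgroup.mem_zpowers_iff.mp (hbR (MulAut.conjNormal a b) ((MulEquiv.orderOf_eq _ b).trans hb))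
  have hb' : orderOf (b : H) = 7 := (Subgroup.orderOf_coe b).trans hb
  have hconj : a * (b : H) * a⁻¹ = (b : H) ^ m := by
    rw [← MulAut.conjNormal_apply, ← hm]
    rfl
  -- the fifth power of the multiplier is one
  have hstep : ∀ n : ℕ, a ^ n * (b : H) * (a ^ n)⁻¹ = (b : H) ^ (m ^ n) := by
    intro n
    induction n with
    | zero => simp
    | succ n ih =>
      rw [show a ^ (n + 1) * (b : H) * (a ^ (n + 1))⁻¹ = a * (a ^ n * (b : H) * (a ^ n)⁻¹) * a⁻¹ by
        rw [pow_succ']; group, ih, ← conj_zpow, hconj, ← zpow_mul]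
      congr 1
      ring
  have h5 := hstep 5
  rw [← ha, pow_orderOf_eq_one, inv_one, mul_one, one_mul] at h5
  have h6 : ((7 : ℕ) : ℤ) ∣ m ^ 5 - 1 := by
    rw [← hb', orderOf_dvd_iff_zpow_eq_one, zpow_sub, zpow_one, ← ha, ← h5, mul_inv_cancel]
  have hm1 : ((7 : ℕ) : ℤ) ∣ m - 1 := by
    rw [← ZMod.intCast_zmod_eq_zero_iff_dvd] at h6 ⊢
    push_cast at h6 ⊢
    exact fifth_root _ h6
  have hcomm : a * (b : H) = (b : H) * a := by
    rw [← mul_inv_eq_iff_eq_mul, hconj]
    conv_rhs => rw [← zpow_one (b : H)]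
    rw [zpow_eq_zpow_iff_modEq, hb']
    exact (Int.modEq_iff_dvd.mpr hm1).symm
  exact ⟨_, order_thirty_five_of_comm ha hb' hcomm⟩

variable {G : Type*} [Group G] [Finite G]

/-- The lifted statement. -/
theorem exists_thirty_five_cover (D T : Subgroup G) (hTD : T ≤ D) {u s : G} (hu : u ∈ T) (hu2 : orderOf u = 2)
    (hcen : ∀ d ∈ D, d * u = u * d) (hT : Nat.card T = 8) (hD : Nat.card D = 2520) (hs : s ∈ T)
    (hexp : ∀ y ∈ T, y * y = 1 ∨ y * y = u) (hss : s * s = u)
    (huniq : ∀ y ∈ T, y * y = u → y = s ∨ y = s * u) : ∃ x ∈ D, orderOf x = 35 := by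
  have : Fact (Nat.Prime 2) := ⟨Nat.prime_two⟩
  set uD : D := ⟨u, hTD hu⟩
  have huD : orderOf uD = 2 := by rw [Subgroup.orderOf_mk, hu2]
  have hnorm : (zpowers uD).Normal := ⟨fun x hx g => by
    obtain ⟨k, rfl⟩ := Subgroup.mem_zpowers_iff.mp hx
    have hc : Commute g uD := Subtype.ext (hcen g.1 g.2)
    rw [(hc.zpow_right k).eq, mul_inv_cancel_right]
    exact zpow_mem (mem_zpowers uD) k⟩
  set π := QuotientGroup.mk' (zpowers uD)
  have hu2' : u * u = 1 := by
    have := pow_orderOf_eq_one u
    rwa [hu2, pow_two] at this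
  have hker : ∀ x : D, π x = 1 ↔ x.1 = 1 ∨ x.1 = u := fun x => by
    show (x : D ⧸ zpowers uD) = 1 ↔ _
    rw [QuotientGroup.eq_one_iff, Subgroup.mem_zpowers_iff]
    constructor
    · rintro ⟨k, rfl⟩
      rcases Int.even_or_odd k with ⟨j, rfl⟩ | ⟨j, rfl⟩
      · left
        rw [Subgroup.coe_zpow, ← two_mul, zpow_mul, zpow_ofNat, pow_two, hu2', one_zpow]
      · right
        rw [Subgroup.coe_zpow, zpow_add, zpow_mul, zpow_ofNat, pow_two, hu2', one_zpow, one_mul, zpow_one]
    · rintro (e | e)
      · exact ⟨0, by rw [zpow_zero]; exact (Subtype.ext e).symm⟩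
      · exact ⟨1, by rw [zpow_one]; exact (Subtype.ext e).symm⟩
  have hQc : Nat.card (D ⧸ zpowers uD) = 1260 := by
    have h := Subgroup.card_eq_card_quotient_mul_card_subgroup (zpowers uD)
    rw [hD, Nat.card_zpowers, huD] at h
    omega
  set Tb : Subgroup (D ⧸ zpowers uD) := (T.subgroupOf D).map π with hTb
  have hmem : ∀ {x : D}, π x ∈ Tb → x.1 ∈ T := fun {x} hx => by
    obtain ⟨y, hy, e⟩ := hx
    have h1 : π (y⁻¹ * x) = 1 := by rw [map_mul, map_inv, e, inv_mul_cancel]
    have h2 : (y⁻¹ * x : D).1 ∈ T := by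
      rcases (hker _).mp h1 with e | e <;> rw [e]
      exacts [T.one_mem, hu]
    have := T.mul_mem hy h2
    simpa using this
  have hTbc : Nat.card Tb = 4 := by
    have h := Subgroup.card_eq_card_quotient_mul_card_subgroup ((zpowers uD).subgroupOf (T.subgroupOf D))
    let g : T.subgroupOf D →* Tb := π.subgroupMap (T.subgroupOf D)
    have hg := Nat.card_congr (QuotientGroup.quotientKerEquivOfSurjective g (π.subgroupMap_surjective _)).toEquiv
    have hk : g.ker = (zpowers uD).subgroupOf (T.subgroupOf D) := by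
      ext x
      simp only [MonoidHom.mem_ker, Subgroup.mem_subgroupOf]
      rw [Subtype.ext_iff]
      exact QuotientGroup.eq_one_iff _
    have hle : zpowers uD ≤ T.subgroupOf D := by
      rw [zpowers_le]; exact Subgroup.mem_subgroupOf.mpr hu
    rw [Nat.card_congr (Subgroup.subgroupOfEquivOfLe hle).toEquiv, Nat.card_zpowers, huD,
      Nat.card_congr (Subgroup.subgroupOfEquivOfLe hTD).toEquiv, hT] at h
    rw [← hk, hg] at h
    omega
  have hab : ∀ x ∈ Tb, x * x = 1 := by
    rintro _ ⟨x, hx, rfl⟩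
    rw [← map_mul, hker]
    exact hexp x.1 hx
  let P : Sylow 2 (D ⧸ zpowers uD) := Sylow.ofCard Tb (by
    rw [hTbc, hQc, show (1260 : ℕ) = 2 ^ 2 * 315 by norm_num,
      Nat.factorization_mul (by norm_num) (by norm_num), Finsupp.add_apply,
      Nat.Prime.factorization_pow (by norm_num), Finsupp.single_eq_same,
      Nat.factorization_eq_zero_of_not_dvd (by norm_num), add_zero]
    norm_num)
  set sb := π ⟨s, hTD hs⟩ with hsb
  have hsbT : sb ∈ Tb := Subgroup.mem_map_of_mem _ (Subgroup.mem_subgroupOf.mpr hs)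
  have hsb1 : sb ≠ 1 := fun e => by
    rcases (hker _).mp e with e | e
    · rw [show s = 1 from e, one_mul] at hss
      rw [← hss, orderOf_one] at hu2
      norm_num at hu2
    · rw [show s = u from e, hu2'] at hss
      rw [← hss, orderOf_one] at hu2
      norm_num at hu2
  have hNC : normalizer P ≤ centralizer ((P : Subgroup (D ⧸ zpowers uD)) : Set (D ⧸ zpowers uD)) := by
    intro n hn
    have hn' := Subgroup.mem_normalizer_iff.mp hn
    have hfix : n * sb * n⁻¹ = sb := by
      obtain ⟨x, rfl⟩ := QuotientGroup.mk'_surjective (zpowers uD) n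
      have h1 : π (x * ⟨s, hTD hs⟩ * x⁻¹) ∈ Tb := by
        rw [map_mul, map_mul, map_inv]
        exact (hn' sb).mp hsbT
      have h2 := hmem h1
      have h3 : (x.1 * s * x.1⁻¹) * (x.1 * s * x.1⁻¹) = u := by
        rw [show (x.1 * s * x.1⁻¹) * (x.1 * s * x.1⁻¹) = x.1 * (s * s) * x.1⁻¹ by group, hss, hcen x.1 x.2,
          mul_inv_cancel_right]
      have h4 := huniq _ h2 h3
      have e : π x * sb * (π x)⁻¹ = π (x * ⟨s, hTD hs⟩ * x⁻¹) := by rw [map_mul, map_mul, map_inv]
      rw [e, hsb, ← mul_inv_eq_one, ← map_inv, ← map_mul, hker]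
      simp only [Subgroup.coe_mul, Subgroup.coe_inv] at h4
      rcases h4 with h4 | h4
      · left
        show x.1 * s * x.1⁻¹ * s⁻¹ = 1
        rw [h4, mul_inv_cancel]
      · right
        show x.1 * s * x.1⁻¹ * s⁻¹ = u
        rw [h4, hcen s (hTD hs), mul_inv_cancel_right]
    have hsq : ∀ t ∈ Tb, n * n * t * (n * n)⁻¹ = t := by
      intro t ht
      by_cases e1 : t = 1
      · rw [e1]; group
      by_cases e2 : t = sb
      · rw [e2, show n * n * sb * (n * n)⁻¹ = n * (n * sb * n⁻¹) * n⁻¹ by group, hfix, hfix]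
      have htn : n * t * n⁻¹ ∈ Tb := (hn' t).mp ht
      have hcover : ∀ y ∈ Tb, y = 1 ∨ y = sb ∨ y = t ∨ y = t * sb := by
        classical
        intro y hy
        let f : Fin 4 → Tb := ![1, ⟨sb, hsbT⟩, ⟨t, ht⟩, ⟨t * sb, Tb.mul_mem ht hsbT⟩]
        have hinj : Function.Injective f := by
          intro a b hab'
          have h := congrArg Subtype.val hab'
          fin_cases a <;> fin_cases b <;> simp [f] at h <;> first
            | rfl
            | exact absurd h.symm e1 | exact absurd h e1 | exact absurd h.symm e2 | exact absurd h e2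
            | exact absurd h.symm hsb1 | exact absurd h hsb1
            | exact absurd (mul_eq_one_iff_eq_inv.mp h |>.trans (inv_eq_of_mul_eq_one_right (hab sb hsbT))) e2
            | exact absurd (mul_eq_one_iff_eq_inv.mp h.symm |>.trans (inv_eq_of_mul_eq_one_right (hab sb hsbT))) e2
        obtain ⟨i, hi⟩ := (hinj.bijective_of_nat_card_le (by rw [hTbc, Nat.card_fin])).2 ⟨y, hy⟩
        have h := congrArg Subtype.val hi
        fin_cases i <;> simp [f] at h <;> simp [h.symm]
      have h2 : n * n * t * (n * n)⁻¹ = n * (n * t * n⁻¹) * n⁻¹ := by group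
      rcases hcover _ htn with e | e | e | e
      · exact absurd (conj_eq_one_iff.mp e) e1
      · refine absurd ?_ e2
        have := e.trans hfix.symm
        exact mul_left_cancel (mul_right_cancel this)
      · rw [h2, e, e]
      · rw [h2, e, show n * (t * sb) * n⁻¹ = n * t * n⁻¹ * (n * sb * n⁻¹) by group, e, hfix, mul_assoc, hab sb hsbT,
          mul_one]
    have hpow : n ^ 315 ∈ Tb := by
      have h4 : IsPGroup 2 (zpowers (n ^ 315)) := by
        obtain ⟨k, hk, hk'⟩ := (Nat.dvd_prime_pow Nat.prime_two).mp (orderOf_dvd_of_pow_eq_one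
          (show (n ^ 315) ^ 2 ^ 2 = 1 by
            rw [← pow_mul, show 315 * 2 ^ 2 = Nat.card (D ⧸ zpowers uD) by rw [hQc]; norm_num, pow_card_eq_one']))
        exact IsPGroup.of_card (n := k) (by rw [Nat.card_zpowers, hk'])
      have h5 : n ^ 315 ∈ (zpowers (n ^ 315) ⊓ normalizer P) := ⟨mem_zpowers _, pow_mem hn _⟩
      rw [h4.inf_normalizer_sylow] at h5
      exact h5.2
    refine Subgroup.mem_centralizer_iff.mpr fun t ht => ?_
    have c1 : Commute (n ^ 315) t := by
      have a1 := hab _ hpow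
      have a2 := hab _ ht
      have a3 := hab _ (Tb.mul_mem hpow ht)
      rw [Commute, SemiconjBy, ← inv_eq_of_mul_eq_one_right a3, mul_inv_rev,
        inv_eq_of_mul_eq_one_right a1, inv_eq_of_mul_eq_one_right a2]
    have c2 : Commute (n * n) t := mul_inv_eq_iff_eq_mul.mp (hsq t ht)
    have c3 : Commute n t := by
      have e : n = n ^ 315 * ((n * n) ^ 157)⁻¹ := by rw [← pow_two, ← pow_mul]; group
      rw [e]
      exact c1.mul_left ((c2.pow_left 157).inv_left)
    exact c3.symm.eq
  set N := (MonoidHom.transferSylow P hNC).ker with hN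
  have hNc : Nat.card N = 315 := by
    have := (MonoidHom.ker_transferSylow_isComplement' P hNC).card_mul
    rw [hQc, ← hN] at this
    have e : Nat.card ((P : Subgroup (D ⧸ zpowers uD))) = 4 := hTbc
    rw [e] at this
    omega
  obtain ⟨y, hy⟩ := exists_thirty_five hNc
  obtain ⟨x, hx⟩ := QuotientGroup.mk'_surjective (zpowers uD) y.1
  have hd : 35 ∣ orderOf x.1 := by
    rw [Subgroup.orderOf_coe, ← hy, ← Subgroup.orderOf_coe y, ← hx]
    exact orderOf_map_dvd _ x
  obtain ⟨c, hc⟩ := hd
  refine ⟨x.1 ^ c, pow_mem x.2 c, ?_⟩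
  have hpos := orderOf_pos x.1
  have hc0 : c ≠ 0 := fun e => by rw [e, mul_zero] at hc; omega
  rw [orderOf_pow' _ hc0, hc, Nat.gcd_mul_left_left, Nat.mul_div_cancel _ (Nat.pos_of_ne_zero hc0)]

end Cfsg.Lib.HeldType
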