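import Cfsg.Agent.HeldType.Tally
import Cfsg.Agent.HeldType.ThirtyFive

/-!
The arguments showing that a frame with two sides is everything.
-/

set_option autoImplicit false
set_option maxRecDepth 100000

namespace Cfsg.Lib.HeldType

open scoped Classical

/-- The keys of a table. -/
def BT.keys {α : Type} : BT α → List ℕ
  | .tip => []
  | .node k _ l r => l.keys ++ k :: r.keys

/-- The codes of involutions outside the listed classes. -/
def nonCodes (Fs : List ℕ) : List ℕ :=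
  invT.keys.filter fun c => valid c && Nat.blt (classOf c) 8 && !inSet Fs c

theorem nonCodes_ok :
    ((nonCodes [0, 1, 3, 5]).Nodup ∧ (nonCodes [0, 1, 3, 5]).length = 462) ∧
    ((nonCodes [0, 1, 3, 5, 7]).Nodup ∧ (nonCodes [0, 1, 3, 5, 7]).length = 294) ∧
    ((nonCodes [0, 1, 2, 3, 5, 7]).Nodup ∧ (nonCodes [0, 1, 2, 3, 5, 7]).length = 126) ∧
    ((nonCodes [0, 1, 2, 3, 5]).Nodup ∧ (nonCodes [0, 1, 2, 3, 5]).length = 294) := by decide +kernel

/-- The shape of the eight element groups of the third case. -/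
def d8OK : Bool :=
  freeC8.all fun Q => Q.all (fun y => valid y && (Nat.beq (cm y y) cOne || Nat.beq (cm y y) (rep 6))) &&
    Q.any fun s => Nat.beq (cm s s) (rep 6) &&
      Q.all fun y => !Nat.beq (cm y y) (rep 6) || Nat.beq y s || Nat.beq y (cm s (rep 6))

theorem d8_ok : d8OK = true := by decide +kernel

theorem n_bound : ∀ j : Fin 8, j.val ≠ 3 → ¬ 2 ^ (9 + 1) ∣ (repC j.val).n := by decide +kernel

theorem rep_six_n : (repC 6).n = 2 ^ 9 := by decide +kernel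

variable {G : Type*} [Group G] {S : Setting G}

theorem Setting.conj_classK {c : ℕ} (h : classOf c < 8) :
    valid c = true ∧ ∃ g ∈ S.K, g * S.η (rep (classOf c)) * g⁻¹ = S.η c := by
  simp only [classOf] at h ⊢
  cases hf : invT.find c with
  | none => rw [hf] at h; simp at h
  | some p =>
    rw [hf] at h
    simp only at h ⊢
    have := BT.find_all _ _ invT_ok hf
    simp only [invOK, Bool.and_eq_true, Nat.blt_eq] at this
    obtain ⟨⟨⟨⟨-, hc⟩, hg⟩, he⟩, -⟩ := this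
    refine ⟨hc, S.η p.2, S.η_mem_K hg, ?_⟩
    rw [← S.η_mul hg (rep_valid ⟨p.1, h⟩), Nat.eq_of_beq_eq_true he, S.η_mul hc hg, mul_inv_cancel_right]

theorem inSet_iff {Fs : List ℕ} {c : ℕ} : inSet Fs c = true ↔ classOf c ∈ Fs := by
  simp only [inSet, List.any_eq_true]
  constructor
  · rintro ⟨i, hi, e⟩
    rwa [Nat.eq_of_beq_eq_true e]
  · intro h
    exact ⟨_, h, Nat.beq_refl _⟩

theorem Setting.link_conj {D : SideD} {i : ℕ} {t : G} (ht : S.Acts D i t) {L : Subgroup G}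
    (hη : ∀ c, valid c = true → S.η c ∈ L) (htL : t ∈ L) {k a b : ℕ} (h : link D i k a b = true) :
    ∃ l ∈ L, l * S.η (rep a) * l⁻¹ = S.η (rep b) := by
  simp only [link, Bool.and_eq_true, Bool.or_eq_true, Nat.blt_eq] at h
  obtain ⟨⟨⟨hk, hc⟩, ha⟩, hb⟩ := h
  have e : t * S.η (D.C.el.get k) * t⁻¹ = S.η ((D.fwd.get i).get k) := by rw [ht.2 k hk, mul_inv_cancel_right]
  have hK : ∀ {g}, g ∈ S.K → g ∈ L := fun {g} hg => by
    obtain ⟨c, hc, rfl⟩ := S.η_surj (S.mem_K.mp hg)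
    exact hη c hc
  rcases hc with ⟨p, q⟩ | ⟨p, q⟩ <;> have p := Nat.eq_of_beq_eq_true p <;> have q := Nat.eq_of_beq_eq_true q <;>
    subst p <;> subst q <;> obtain ⟨-, g, hg, eg⟩ := S.conj_classK ha <;> obtain ⟨-, g', hg', eg'⟩ := S.conj_classK hb
  · refine ⟨g'⁻¹ * t * g, L.mul_mem (L.mul_mem (L.inv_mem (hK hg')) htL) (hK hg), ?_⟩
    rw [show g'⁻¹ * t * g * S.η (rep (classOf (D.C.el.get k))) * (g'⁻¹ * t * g)⁻¹ =
      g'⁻¹ * (t * (g * S.η (rep (classOf (D.C.el.get k))) * g⁻¹) * t⁻¹) * g' by group, eg, e, ← eg']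
    group
  · refine ⟨g'⁻¹ * t⁻¹ * g, L.mul_mem (L.mul_mem (L.inv_mem (hK hg')) (L.inv_mem htL)) (hK hg), ?_⟩
    rw [show g'⁻¹ * t⁻¹ * g * S.η (rep (classOf ((D.fwd.get i).get k))) * (g'⁻¹ * t⁻¹ * g)⁻¹ =
      g'⁻¹ * (t⁻¹ * (g * S.η (rep (classOf ((D.fwd.get i).get k))) * g⁻¹) * t) * g' by group, eg, ← e,
      show g'⁻¹ * (t⁻¹ * (t * S.η (D.C.el.get k) * t⁻¹) * t) * g' = g'⁻¹ * S.η (D.C.el.get k) * g' by group, ← eg']
    group

/-- A frame from the joined classes. -/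
def Setting.frameOf (S : Setting G) (L : Subgroup G) (hη : ∀ c, valid c = true → S.η c ∈ L) (Fs : List ℕ)
    (h3 : 3 ∈ Fs) (h6 : 6 ∉ Fs) (hin : ∀ i ∈ Fs, ∃ l ∈ L, l * S.η (rep 3) * l⁻¹ = S.η (rep i))
    (hout : ∀ i < 8, i ∉ Fs → ∃ l ∈ L, l * S.η (rep 6) * l⁻¹ = S.η (rep i)) : Frame S where
  L := L
  η_mem := hη
  fused i := decide (i ∈ Fs)
  three := decide_eq_true h3
  inside i hi h := by
    obtain ⟨l, hl, e⟩ := hin i (of_decide_eq_true h)
    rw [rep_three, S.η_z] at e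
    exact ⟨l, hl, e⟩
  outside i hi h hc := by
    obtain ⟨l, hl, e⟩ := hout i hi (of_decide_eq_false h)
    exact S.not_fus_mixed (hc.trans (isConj_iff.mpr ⟨l, e⟩).symm)
  six := decide_eq_false h6

variable [Finite G] (F : Frame S)

/-- All unfused classes are joined to the mixed one. -/
def Frame.One : Prop := ∀ i < 8, F.fused i = false → F.Joined 6 i

theorem Frame.top_of_six (hone : F.One) (h : Subgroup.centralizer ({S.η (rep 6)} : Set G) ≤ F.L) : F.L = ⊤ :=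
  F.eq_top fun i hi hF x hx => by
    obtain ⟨l, hl, e⟩ := hone i hi hF
    rw [← e, Subgroup.mem_centralizer_singleton_iff] at hx
    have h1 : l⁻¹ * x * l ∈ Subgroup.centralizer ({S.η (rep 6)} : Set G) := Subgroup.mem_centralizer_singleton_iff.mpr (by
      calc l⁻¹ * x * l * S.η (rep 6) = l⁻¹ * (x * (l * S.η (rep 6) * l⁻¹)) * l := by group
        _ = l⁻¹ * (l * S.η (rep 6) * l⁻¹ * x) * l := by rw [hx]
        _ = _ := by group)
    have h2 := F.L.mul_mem (F.L.mul_mem hl (h h1)) (F.L.inv_mem hl)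
    rwa [show l * (l⁻¹ * x * l) * l⁻¹ = x by group] at h2

theorem Frame.exists_part : ∃ m, Odd m ∧ Nat.card (F.cen 6) = 2 ^ 9 * m :=
  F.cen_part (by norm_num) (by norm_num) F.six rep_six_n fun j hj hj3 _ _ => n_bound ⟨j, hj⟩ hj3

/-- The counted subgroup in a frame that is not everything. -/
theorem Frame.excess (hone : F.One) {Fs : List ℕ} (hFs : ∀ i, F.fused i = decide (i ∈ Fs)) {n : ℕ}
    (hlt : ∀ i ∈ Fs, i < 8) (hn : (nonCodes Fs).Nodup ∧ (nonCodes Fs).length = n) (hne : F.L ≠ ⊤) {L2 L4 L8 : List (List ℕ)}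
    (hok : freeOK 6 Fs L2 L4 L8 = true) {m : ℕ} (hm : Odd m) (hcard : Nat.card (F.cen 6) = 2 ^ 9 * m) :
    ∃ k, ∃ P : Pinch F.L S.cls (S.η (rep 6)) k, n * (2 ^ 9 * m) ≤ 21504 * k ∧
      ∃ T : Subgroup G, T ≤ P.D ∧ S.η (rep 6) ∈ T ∧ Nat.card T ∣ 8 ∧ Nat.card P.D ∣ Nat.card T * m ∧
      Odd (Nat.card P.D / Nat.card T) ∧
      (Nat.card T = 8 → ∃ c ∈ F.cen 6, ∃ Q ∈ L8, ∀ y, y ∈ T ↔ ∃ q ∈ Q, S.η q = c * y * c⁻¹) := by
  have ru := rep_valid ⟨6, by norm_num⟩
  have huL : S.η (rep 6) ∈ F.L := F.η_mem _ ru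
  let k := Nat.card {y : G // y ∈ S.cls ∧ y ∈ F.L ∧ y * S.η (rep 6) = S.η (rep 6) * y}
  have hk0 : 0 < k := by
    haveI : Nonempty {y : G // y ∈ S.cls ∧ y ∈ F.L ∧ y * S.η (rep 6) = S.η (rep 6) * y} :=
      ⟨⟨S.z, IsConj.refl _, F.K_le (S.mem_K.mpr rfl), (S.η_comm ru).symm⟩⟩
    exact Nat.card_pos
  have hu2 : S.η (rep 6) * S.η (rep 6) = 1 := by
    rw [← S.η_mul ru ru, (rep_sq ⟨6, by norm_num⟩).1, S.η_one]
  obtain ⟨P⟩ := F.oneFix.pinch (k := k) hu2 huL (fun g hg => F.fusion huL (S.rep_order (by norm_num)) hg)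
    (fun h => hne (F.top_of_six hone h)) le_rfl hk0
  refine ⟨k, P, ?_, F.pinch_part (by norm_num) (by norm_num) rep_six_n hm hcard hok F.oneFix (fun c hc hin => ?_) P⟩
  · have h := F.tally (i := 6) (nonCodes Fs).toFinset (fun c hc => by
      simp only [List.mem_toFinset, nonCodes, List.mem_filter, Bool.and_eq_true, Nat.blt_eq, Bool.not_eq_true'] at hc
      obtain ⟨-, ⟨hv, h8⟩, hin⟩ := hc
      have hf : F.fused (classOf c) = false := by
        rw [hFs, decide_eq_false_iff_not]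
        intro hmem
        rw [inSet_iff.mpr hmem] at hin
        simp at hin
      obtain ⟨-, g, hg, eg⟩ := S.conj_classK h8
      obtain ⟨l, hl, el⟩ := hone _ h8 hf
      exact ⟨hv, g * l, F.L.mul_mem (F.K_le hg) hl, by rw [← eg, ← el]; group⟩)
    rw [List.toFinset_card_of_nodup hn.1, hn.2, hcard] at h
    exact h
  · have hmem := inSet_iff.mp hin
    obtain ⟨-, hcj⟩ := S.conj_class (hlt _ hmem)
    obtain ⟨l, hl, el⟩ := F.inside _ (hlt _ hmem) (by rw [hFs]; exact decide_eq_true hmem)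
    exact (isConj_iff.mpr ⟨l, el⟩).trans hcj

/-- The inverted elements of a pinch. -/
theorem Pinch.exists_abelian {L : Subgroup G} {Γ : Set G} {u : G} {k : ℕ} (h : OneFix L Γ) (P : Pinch L Γ u k)
    (hk : 3 * Nat.card P.D ≤ 4 * k) :
    ∃ A : Subgroup G, A ≤ P.D ∧ (∀ a ∈ A, ∀ b ∈ A, a * b = b * a) ∧ Nat.card P.D ≤ 2 * Nat.card A ∧
      (3 * Nat.card P.D < 4 * k → A = P.D) := by
  haveI : Fintype G := Fintype.ofFinite G
  let Δ : Finset G := Finset.univ.filter fun d => d ∈ P.D ∧ P.j * d ∈ Γ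
  have hΔ : k ≤ Δ.card := P.card_le.trans (le_of_eq (by rw [Nat.card_eq_fintype_card, Fintype.card_subtype]))
  obtain ⟨A, h1, h2, h3, h4⟩ := inverted_abelian P.D P.j Δ (fun d hd => by
    simp only [Δ, Finset.mem_filter, Finset.mem_univ, true_and] at hd
    refine ⟨hd.1, ?_⟩
    rw [inv_eq_of_mul_eq_one_right (h.sq _ P.j_mem)]
    exact P.inverted h hd.2) (by omega)
  exact ⟨A, h1, h2, h3, fun hlt => h4 (by omega)⟩

theorem Frame.top_A (hone : F.One) (hFs : ∀ i, F.fused i = decide (i ∈ [0, 1, 3, 5])) : F.L = ⊤ := by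
  by_contra hne
  obtain ⟨m, hm, hcard⟩ := F.exists_part
  obtain ⟨k, P, hk, T, -, -, h8, hd, -, -⟩ := F.excess hone hFs (by decide) nonCodes_ok.1 hne freeA_ok hm hcard
  have h1 := Nat.le_of_dvd (Nat.mul_pos (by norm_num) hm.pos) (hd.trans (Nat.mul_dvd_mul_right h8 m))
  have h2 := P.k_le
  have := hm.pos
  omega

/-- An abelian group with the given central involution and elements of order three and five. -/
theorem Frame.top_M24 (hone : F.One) {Fs : List ℕ} (hFs : ∀ i, F.fused i = decide (i ∈ Fs))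
    (hlt : ∀ i ∈ Fs, i < 8) (hn : (nonCodes Fs).Nodup ∧ (nonCodes Fs).length = 294) {L2 L4 L8 : List (List ℕ)}
    (hok : freeOK 6 Fs L2 L4 L8 = true) (hcard : Nat.card (F.cen 6) = 7680)
    (hno : ∀ x ∈ F.cen 6, ∀ y ∈ F.cen 6, orderOf x = 3 → orderOf y = 5 → x * y = y * x → False) : F.L = ⊤ := by
  by_contra hne
  obtain ⟨k, P, hk, T, -, -, h8, hd, -, -⟩ := F.excess hone hFs hlt hn hne hok (m := 15) (by decide) (by rw [hcard]; norm_num)
  have h1 := hd.trans (Nat.mul_dvd_mul_right h8 15)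
  have h2 := P.k_le
  have hD : Nat.card P.D = 120 := by
    obtain ⟨c, hc⟩ := h1
    have hle := Nat.le_of_dvd (by norm_num) ⟨c, hc⟩
    rcases c with _ | _ | c
    · omega
    · omega
    · nlinarith
  obtain ⟨A, hA, hab, -, hAeq⟩ := P.exists_abelian F.oneFix (by omega)
  have hAD := hAeq (by omega)
  haveI : Fact (Nat.Prime 3) := ⟨Nat.prime_three⟩
  haveI : Fact (Nat.Prime 5) := ⟨by norm_num⟩
  obtain ⟨x, hx⟩ := exists_prime_orderOf_dvd_card' (G := P.D) 3 (by rw [hD]; norm_num)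
  obtain ⟨y, hy⟩ := exists_prime_orderOf_dvd_card' (G := P.D) 5 (by rw [hD]; norm_num)
  exact hno x.1 (F.mem_cen.mpr (P.le _ x.2)) y.1 (F.mem_cen.mpr (P.le _ y.2)) ((Subgroup.orderOf_coe x).trans hx)
    ((Subgroup.orderOf_coe y).trans hy) (hab _ (hAD ▸ x.2) _ (hAD ▸ y.2))

theorem Frame.top_He (hone : F.One) (hFs : ∀ i, F.fused i = decide (i ∈ [0, 1, 2, 3, 5, 7]))
    (hcard : Nat.card (F.cen 6) = 161280) (hno : ∀ x ∈ F.cen 6, orderOf x ≠ 35) : F.L = ⊤ := by
  by_contra hne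
  obtain ⟨k, P, hk, T, hTD, huT, h8, hd, -, hlist⟩ :=
    F.excess hone hFs (by decide) nonCodes_ok.2.2.1 hne freeC_ok (m := 315) (by decide) (by rw [hcard]; norm_num)
  have h2 := P.k_le
  haveI : Fact (Nat.Prime 5) := ⟨by norm_num⟩
  haveI : Fact (Nat.Prime 7) := ⟨by norm_num⟩
  have hD : Nat.card P.D = 1260 ∨ Nat.card P.D = 2520 := by
    obtain ⟨c, hc⟩ := hd.trans (Nat.mul_dvd_mul_right h8 315)
    have hle := Nat.le_of_dvd (by norm_num) ⟨c, hc⟩
    rcases c with _ | _ | _ | c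
    · omega
    · omega
    · omega
    · nlinarith
  rcases hD with hD | hD
  · obtain ⟨A, hA, hab, hAc, -⟩ := P.exists_abelian F.oneFix (by omega)
    have hdv : 35 ∣ Nat.card A := by
      obtain ⟨c, hc⟩ := hD ▸ Subgroup.card_dvd_of_le hA
      rcases c with _ | _ | _ | c
      · omega
      · omega
      · omega
      · nlinarith
    obtain ⟨x, hx⟩ := exists_prime_orderOf_dvd_card' (G := A) 5 ((show 5 ∣ 35 by norm_num).trans hdv)
    obtain ⟨y, hy⟩ := exists_prime_orderOf_dvd_card' (G := A) 7 ((show 7 ∣ 35 by norm_num).trans hdv)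
    exact hno _ ((F.cen 6).mul_mem (F.mem_cen.mpr (P.le _ (hA x.2))) (F.mem_cen.mpr (P.le _ (hA y.2))))
      (order_thirty_five_of_comm ((Subgroup.orderOf_coe x).trans hx) ((Subgroup.orderOf_coe y).trans hy)
        (hab _ x.2 _ y.2))
  · have hT8 : Nat.card T = 8 := by
      obtain ⟨a, ha⟩ := h8
      rw [hD] at hd
      have h3 := Nat.le_of_dvd (Nat.mul_pos Nat.card_pos (by norm_num)) hd
      have h4 := Nat.le_of_dvd (by norm_num) ⟨a, ha⟩
      omega
    obtain ⟨c, hc, Q, hQ, hmem⟩ := hlist hT8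
    have hd8 := d8_ok
    simp only [d8OK, List.all_eq_true, List.any_eq_true, Bool.and_eq_true, Bool.or_eq_true, Bool.not_eq_true'] at hd8
    obtain ⟨hexp, s0, hs0, hs1, hs2⟩ := hd8 Q hQ
    have ru := rep_valid ⟨6, by norm_num⟩
    have hcu : c * (S.η (rep 6)) = (S.η (rep 6)) * c := (F.mem_cen.mp hc).2
    have hcu' : c⁻¹ * (S.η (rep 6)) * c = (S.η (rep 6)) := by rw [mul_assoc, ← hcu, inv_mul_cancel_left]
    have vQ : ∀ {q}, q ∈ Q → valid q = true := fun {q} hq => (hexp q hq).1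
    obtain ⟨s, hs, hse⟩ : ∃ s ∈ T, S.η s0 = c * s * c⁻¹ :=
      ⟨c⁻¹ * S.η s0 * c, (hmem _).mpr ⟨s0, hs0, by group⟩, by group⟩
    have back : ∀ {y q}, S.η q = c * y * c⁻¹ → y * y = c⁻¹ * (S.η q * S.η q) * c := fun {y q} e => by
      rw [e]; group
    obtain ⟨x, hx, ho⟩ := exists_thirty_five_cover P.D T hTD (u := S.η (rep 6)) (s := s) huT (S.rep_order (by norm_num))
      (fun d hd => (P.le d hd).2) hT8 hD hs (fun y hy => by
        obtain ⟨q, hq, e⟩ := (hmem y).mp hy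
        rw [back e, ← S.η_mul (vQ hq) (vQ hq)]
        rcases (hexp q hq).2 with e' | e' <;> rw [Nat.eq_of_beq_eq_true e']
        · left; rw [S.η_one]; group
        · right; exact hcu')
      (by rw [back hse, ← S.η_mul (vQ hs0) (vQ hs0), Nat.eq_of_beq_eq_true hs1]; exact hcu')
      (fun y hy hyy => by
        obtain ⟨q, hq, e⟩ := (hmem y).mp hy
        have hq2 : cm q q = rep 6 := S.η_inj (valid_cm (vQ hq) (vQ hq)) ru (by
          rw [S.η_mul (vQ hq) (vQ hq), e, show c * y * c⁻¹ * (c * y * c⁻¹) = c * (y * y) * c⁻¹ by group, hyy, hcu,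
            mul_inv_cancel_right])
        have yv : y = c⁻¹ * S.η q * c := by rw [e]; group
        have sv : s = c⁻¹ * S.η s0 * c := by rw [hse]; group
        rcases hs2 q hq with (e' | e') | e'
        · rw [hq2, Nat.beq_refl] at e'; simp at e'
        · left; rw [yv, sv, Nat.eq_of_beq_eq_true e']
        · right
          rw [yv, sv, Nat.eq_of_beq_eq_true e', S.η_mul (vQ hs0) ru]
          calc c⁻¹ * (S.η s0 * (S.η (rep 6))) * c = c⁻¹ * S.η s0 * c * (c⁻¹ * (S.η (rep 6)) * c) := by group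
            _ = _ := by rw [hcu'])
    exact hno x (F.mem_cen.mpr (P.le x hx)) ho

end Cfsg.Lib.HeldType
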