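import Cfsg.Agent.HeldType.VCode
import Cfsg.Agent.HeldType.TwoSided

/-!
With fusion on one side only, the group normalises an elementary abelian group of order sixteen.
-/

set_option autoImplicit false
set_option maxRecDepth 100000

namespace Cfsg.Lib.HeldType

open scoped Classical

theorem last_valid : lastCodes.all valid = true := by decide +kernel

variable {G : Type*} [Group G] (S : Setting G)

theorem Setting.vCode_eq (f g : Fin 4 → ZMod 2) : S.η (vCode (f + g)) = S.η (vCode f) * S.η (vCode g) := by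
  rw [vCode_add, S.η_mul (vCode_ok f).1 (vCode_ok g).1]

theorem Setting.vCode_zero : S.η (vCode 0) = 1 := by rw [(vCode_ok 0).2.2.2, S.η_one]

/-- The group of order sixteen. -/
def Setting.V : Subgroup G where
  carrier := {g | ∃ f, S.η (vCode f) = g}
  one_mem' := ⟨0, S.vCode_zero⟩
  mul_mem' := fun {a b} ⟨f, hf⟩ ⟨g, hg⟩ => ⟨f + g, by rw [S.vCode_eq, hf, hg]⟩
  inv_mem' := fun {a} ⟨f, hf⟩ => ⟨f, by
    rw [← hf]
    refine (inv_eq_of_mul_eq_one_right ?_).symm
    rw [← S.vCode_eq, show f + f = 0 by funext i; exact CharTwo.add_self_eq_zero _, S.vCode_zero]⟩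

theorem Setting.mem_V {g : G} : g ∈ S.V ↔ ∃ f, S.η (vCode f) = g := Iff.rfl

theorem Setting.V_le_K : S.V ≤ S.K := by
  rintro g ⟨f, rfl⟩
  exact S.η_mem_K (vCode_ok f).1

theorem Setting.V_comm {a b : G} (ha : a ∈ S.V) (hb : b ∈ S.V) : a * b = b * a := by
  obtain ⟨f, rfl⟩ := ha
  obtain ⟨g, rfl⟩ := hb
  rw [← S.vCode_eq, ← S.vCode_eq, add_comm]

theorem Setting.z_mem_V : S.z ∈ S.V := by
  obtain ⟨f, hf⟩ := inV_iff (c := cZ) (by decide +kernel)
  exact ⟨f, by rw [hf, S.η_z]⟩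

theorem Setting.mem_V_of_conj {g : G} (hg : g ∈ S.K) : g * S.η (rep 0) * g⁻¹ ∈ S.V := by
  obtain ⟨c, hc, rfl⟩ := S.η_surj (S.mem_K.mp hg)
  obtain ⟨f, hf⟩ := conj_zero hc
  refine ⟨f, ?_⟩
  rw [← S.η_mul hc (rep_valid ⟨0, by norm_num⟩), hf, S.η_mul (vCode_ok f).1 hc, mul_inv_cancel_right]

theorem Setting.V_class {a : G} (ha : a ∈ S.V) (h1 : a ≠ 1) :
    a = S.z ∨ ∃ g ∈ S.K, g * S.η (rep 0) * g⁻¹ = a := by
  obtain ⟨f, rfl⟩ := ha
  rcases (vCode_ok f).2.2.1 with e | e | e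
  · obtain ⟨-, g, hg, eg⟩ := S.conj_classK (c := vCode f) (by omega)
    rw [e] at eg
    exact Or.inr ⟨g, hg, eg⟩
  · obtain ⟨-, g, hg, eg⟩ := S.conj_classK (c := vCode f) (by omega)
    rw [e, rep_three, S.η_z, S.mem_K.mp hg, mul_inv_cancel_right] at eg
    exact Or.inl eg.symm
  · exact absurd (by rw [e, S.η_one]) h1

/-- Only the first side is fused. -/
structure Setting.Left : Prop where
  zero : S.Fus 0
  other : ∀ i < 8, i ≠ 0 → i ≠ 3 → ¬ S.Fus i

variable {S}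

theorem Setting.Left.in_V (h : S.Left) {y : G} (hy : IsConj S.z y) (hc : y * S.z = S.z * y) : y ∈ S.V := by
  have h2 : orderOf y = 2 := by
    obtain ⟨g, rfl⟩ := isConj_iff.mp hy
    exact (orderOf_injective (MulAut.conj g).toMonoidHom (MulAut.conj g).injective S.z).trans S.z_ord
  obtain ⟨i, hi, g, hg, e⟩ := S.exists_class h2 hc
  have hF : S.Fus i := hy.trans (isConj_iff.mpr ⟨g, e⟩).symm
  rw [← e]
  by_cases h0 : i = 0
  · rw [h0]; exact S.mem_V_of_conj hg
  · by_cases h3 : i = 3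
    · rw [h3, rep_three, S.η_z, S.mem_K.mp hg, mul_inv_cancel_right]
      exact S.z_mem_V
    · exact absurd hF (h.other i hi h0 h3)

theorem Setting.Left.of_V (h : S.Left) {a : G} (ha : a ∈ S.V) (h1 : a ≠ 1) : IsConj S.z a := by
  rcases S.V_class ha h1 with rfl | ⟨g, -, rfl⟩
  · exact IsConj.refl _
  · exact IsConj.trans h.zero (isConj_iff.mpr ⟨g, rfl⟩)

theorem Setting.Left.norm (h : S.Left) {g : G} (hg : g ∈ S.K) : ∀ a ∈ S.V, g * a * g⁻¹ ∈ S.V := fun a ha => by
  by_cases h1 : a = 1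
  · rw [h1, mul_one, mul_inv_cancel]; exact S.V.one_mem
  · refine h.in_V ((h.of_V ha h1).trans (isConj_iff.mpr ⟨g, rfl⟩)) ?_
    exact S.mem_K.mp (S.K.mul_mem (S.K.mul_mem hg (S.V_le_K ha)) (S.K.inv_mem hg))

/-- The normaliser of the group of order sixteen. -/
def Setting.N (S : Setting G) : Subgroup G := Subgroup.normalizer (S.V : Set G)

theorem Setting.Left.η_mem (h : S.Left) {c : ℕ} (hc : valid c = true) : S.η c ∈ S.N := by
  refine Subgroup.mem_normalizer_iff.mpr fun a => ⟨h.norm (S.η_mem_K hc) a, fun ha => ?_⟩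
  have := h.norm (S.K.inv_mem (S.η_mem_K hc)) _ ha
  rwa [inv_inv, show (S.η c)⁻¹ * (S.η c * a * (S.η c)⁻¹) * S.η c = a by group] at this

theorem Setting.Left.swap_mem (h : S.Left) {t : G} (h1 : t * S.z = S.η (rep 0) * t) (h2 : t * S.η (rep 0) = S.z * t) :
    t ∈ S.N := by
  have hr : S.η (rep 0) ∈ S.V := by
    have := S.mem_V_of_conj S.K.one_mem
    rwa [one_mul, inv_one, mul_one] at this
  have e1 : t * S.η (rep 0) * t⁻¹ = S.z := by rw [h2, mul_inv_cancel_right]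
  have e2 : t⁻¹ * S.η (rep 0) * t = S.z := by rw [mul_assoc, ← h1, inv_mul_cancel_left]
  refine Subgroup.mem_normalizer_iff.mpr fun a => ⟨fun ha => ?_, fun ha => ?_⟩
  · by_cases h0 : a = 1
    · rw [h0, mul_one, mul_inv_cancel]; exact S.V.one_mem
    · refine h.in_V ((h.of_V ha h0).trans (isConj_iff.mpr ⟨t, rfl⟩)) ?_
      conv_lhs => rw [← e1]
      conv_rhs => rw [← e1]
      rw [show t * a * t⁻¹ * (t * S.η (rep 0) * t⁻¹) = t * (a * S.η (rep 0)) * t⁻¹ by group, S.V_comm ha hr]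
      group
  · by_cases h0 : t * a * t⁻¹ = 1
    · rw [conj_eq_one_iff.mp h0]; exact S.V.one_mem
    · refine h.in_V ((h.of_V ha h0).trans (isConj_iff.mpr ⟨t⁻¹, by group⟩)) ?_
      conv_lhs => rw [← e2]
      conv_rhs => rw [← e2]
      rw [show a * (t⁻¹ * S.η (rep 0) * t) = t⁻¹ * (t * a * t⁻¹ * S.η (rep 0)) * t by group, S.V_comm ha hr]
      group

theorem Setting.η_sq {i : ℕ} (hi : i < 8) : S.η (rep i) * S.η (rep i) = 1 := by
  rw [← S.η_mul (rep_valid ⟨i, hi⟩) (rep_valid ⟨i, hi⟩), (rep_sq ⟨i, hi⟩).1, S.η_one]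

theorem Setting.cmtr_val {i : ℕ} (hi : i < 8) {c : ℕ} (hc : valid c = true) :
    valid (cmtr i c) = true ∧ S.η (cmtr i c) = S.η c * S.η (rep i) * (S.η c * S.η (rep i)) := by
  have ri := rep_valid ⟨i, hi⟩
  exact ⟨valid_cm (valid_cm hc ri) (valid_cm hc ri), by
    rw [cmtr, S.η_mul (valid_cm hc ri) (valid_cm hc ri), S.η_mul hc ri]⟩

/-- An element of the normaliser commuting with a representative moves the involution inside the commutators. -/
theorem Setting.z_image {i : ℕ} {W : List ℕ} (hi : i < 8) (hok : cmtrOK i W = true) {g : G} (hg : g ∈ S.N)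
    (hgu : g * S.η (rep i) = S.η (rep i) * g) : ∃ w ∈ W, g * S.z * g⁻¹ = S.η w := by
  simp only [cmtrOK, Bool.and_eq_true, List.all_eq_true, Bool.or_eq_true, List.any_eq_true] at hok
  obtain ⟨hall, c, hc, hcz⟩ := hok
  obtain ⟨f, rfl⟩ := inV_iff (List.any_eq_true.mpr ⟨c, hc, Nat.beq_refl _⟩ : inV c = true)
  obtain ⟨f', hf'⟩ := S.mem_V.mp ((Subgroup.mem_normalizer_iff.mp hg _).mp ⟨f, rfl⟩)
  obtain ⟨-, e⟩ := S.cmtr_val hi (vCode_ok f).1
  obtain ⟨-, e'⟩ := S.cmtr_val hi (vCode_ok f').1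
  rw [Nat.eq_of_beq_eq_true hcz, S.η_z] at e
  have hgz : g * S.z * g⁻¹ = S.η (cmtr i (vCode f')) := by
    rw [e', hf', e]
    calc g * (S.η (vCode f) * S.η (rep i) * (S.η (vCode f) * S.η (rep i))) * g⁻¹
        = g * S.η (vCode f) * g⁻¹ * (g * S.η (rep i) * g⁻¹) * (g * S.η (vCode f) * g⁻¹ * (g * S.η (rep i) * g⁻¹)) := by
          group
      _ = _ := by rw [hgu, mul_inv_cancel_right]
  have hmem : vCode f' ∈ vl := by
    obtain ⟨x, hx, e⟩ := List.any_eq_true.mp (vCode_ok f').2.1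
    rwa [Nat.eq_of_beq_eq_true e]
  rcases hall _ hmem with e1 | ⟨w, hw, e1⟩
  · exfalso
    rw [Nat.eq_of_beq_eq_true e1, S.η_one, conj_eq_one_iff] at hgz
    exact S.z_ne hgz
  · exact ⟨w, hw, by rw [hgz, Nat.eq_of_beq_eq_true e1]⟩

variable [Finite G]

theorem Setting.Left.product (h : S.Left) : ∀ a ∈ S.cls, ∀ b ∈ S.cls, a * b = b * a → a ≠ b → a * b ∈ S.cls := by
  intro a ha b hb hab hne
  obtain ⟨g, rfl⟩ := isConj_iff.mp ha
  have hb' : IsConj S.z (g⁻¹ * b * g) := IsConj.trans hb (isConj_iff.mpr ⟨g⁻¹, by rw [inv_inv]⟩)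
  have hc : g⁻¹ * b * g * S.z = S.z * (g⁻¹ * b * g) := by
    calc g⁻¹ * b * g * S.z = g⁻¹ * (b * (g * S.z * g⁻¹)) * g := by group
      _ = g⁻¹ * (g * S.z * g⁻¹ * b) * g := by rw [hab]
      _ = _ := by group
  have hV := S.V.mul_mem S.z_mem_V (h.in_V hb' hc)
  have hn1 : S.z * (g⁻¹ * b * g) ≠ 1 := fun e => hne (by
    have e1 := eq_inv_of_mul_eq_one_right e
    rw [inv_eq_of_mul_eq_one_right S.z_sq] at e1
    rw [← e1]; group)
  show IsConj S.z _
  exact (h.of_V hV hn1).trans (isConj_iff.mpr ⟨g, by group⟩)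

theorem seven_count {i : ℕ} (hi : i < 8) (h : S.Left) (hs : sevenOK i = true) (L : Subgroup G) (hL : S.V ≤ L) :
    7 ≤ Nat.card {y : G // y ∈ S.cls ∧ y ∈ L ∧ y * S.η (rep i) = S.η (rep i) * y} := by
  simp only [sevenOK, beq_iff_eq] at hs
  set l := vl.filter fun c => !Nat.beq c cOne && comm c (rep i) with hl
  have hnd : l.Nodup := List.Nodup.filter _ seven_ok.2.2
  have key : ∀ n : Fin 7, ∃ f, vCode f = l.get (n.cast hs.symm) ∧ vCode f ≠ cOne ∧ comm (vCode f) (rep i) = true := by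
    intro n
    have hm := List.get_mem l (n.cast hs.symm)
    simp only [hl, List.mem_filter, Bool.and_eq_true, Bool.not_eq_true'] at hm
    obtain ⟨hm1, hm2, hm3⟩ := hm
    obtain ⟨f, hf⟩ := inV_iff (List.any_eq_true.mpr ⟨_, hm1, Nat.beq_refl _⟩ : inV _ = true)
    refine ⟨f, hf, fun e => ?_, hf ▸ hm3⟩
    rw [← hf, e, Nat.beq_refl] at hm2
    simp at hm2
  choose f hf hf1 hfc using key
  have hin : ∀ n, S.η (vCode (f n)) ∈ S.cls ∧ S.η (vCode (f n)) ∈ L ∧
      S.η (vCode (f n)) * S.η (rep i) = S.η (rep i) * S.η (vCode (f n)) := fun n => by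
    refine ⟨h.of_V ⟨f n, rfl⟩ fun e => hf1 n (S.η_inj (vCode_ok _).1 valid_one (by rw [e, S.η_one])), hL ⟨f n, rfl⟩, ?_⟩
    exact S.η_comm_η (vCode_ok _).1 (rep_valid ⟨i, hi⟩) (Nat.eq_of_beq_eq_true (hfc n))
  have := Nat.card_le_card_of_injective (fun n => (⟨_, hin n⟩ :
      {y : G // y ∈ S.cls ∧ y ∈ L ∧ y * S.η (rep i) = S.η (rep i) * y})) fun a b e => by
    have e' := S.η_inj (vCode_ok _).1 (vCode_ok _).1 (congrArg Subtype.val e)
    rw [hf, hf] at e'
    exact Fin.cast_injective _ ((List.Nodup.get_inj_iff hnd).mp e')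
  rwa [Nat.card_fin] at this

/-- The joined classes inside the normaliser. -/
structure Setting.Left.Links (h : S.Left) : Prop where
  t03 : ∃ l ∈ S.N, l * S.η (rep 3) * l⁻¹ = S.η (rep 0)
  t62 : ∃ l ∈ S.N, l * S.η (rep 6) * l⁻¹ = S.η (rep 2)
  t51 : ∃ l ∈ S.N, l * S.η (rep 5) * l⁻¹ = S.η (rep 1)
  t64 : ∃ l ∈ S.N, l * S.η (rep 6) * l⁻¹ = S.η (rep 4)

/-- The frame of the normaliser. -/
def Setting.Left.frame (h : S.Left) (hl : h.Links) : Frame S where
  L := S.N
  η_mem _ hc := h.η_mem hc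
  fused i := decide (i = 0 ∨ i = 3)
  three := by decide
  inside i hi e := by
    rcases of_decide_eq_true e with rfl | rfl
    · obtain ⟨l, hl, e⟩ := hl.t03
      rw [rep_three, S.η_z] at e
      exact ⟨l, hl, e⟩
    · exact ⟨1, one_mem _, by rw [rep_three, S.η_z]; group⟩
  outside i hi e := h.other i hi (fun a => (of_decide_eq_false e) (Or.inl a)) fun a => (of_decide_eq_false e) (Or.inr a)
  six := by decide

theorem Setting.Left.cen_small (h : S.Left) (hl : h.Links) {i : ℕ} (hi : i < 8)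
    (hok : cmtrOK i [cZ] = true) : (h.frame hl).cen i = S.repG i := by
  refine le_antisymm (fun g hg => ?_) (h.frame hl).repG_le
  obtain ⟨hgN, hgu⟩ := (h.frame hl).mem_cen.mp hg
  obtain ⟨w, hw, e⟩ := S.z_image hi hok hgN hgu
  rw [List.mem_singleton.mp hw, S.η_z, mul_inv_eq_iff_eq_mul] at e
  exact ⟨S.mem_K.mpr e, hg.2⟩

/-- The centralisers of the first two types lie in the normaliser. -/
theorem Setting.Left.small_le (h : S.Left) (hl : h.Links) {i e o w : ℕ} (hi : i < 8) (h3 : i ≠ 3)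
    (hok : cmtrOK i [cZ] = true) (hs : sevenOK i = true) (hn : (repC i).n = 2 ^ e * o) (he : w ≤ e)
    (hidx : 2 ^ e * o < 7 * 2 ^ w) :
    Subgroup.centralizer ({S.η (rep i)} : Set G) ≤ S.N := by
  set F := h.frame hl with hF
  by_contra hbad
  have hu : S.η (rep i) * S.η (rep i) = 1 := S.η_sq hi
  have huL : S.η (rep i) ∈ F.L := F.η_mem _ (rep_valid ⟨i, hi⟩)
  obtain ⟨P⟩ := F.oneFix.pinch (k := 7) hu huL (fun g hg => F.fusion huL (S.rep_order hi) hg) hbad
    (seven_count hi h hs F.L (fun a ha => Subgroup.le_normalizer ha)) (by norm_num)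
  haveI : Fact (Nat.Prime 2) := ⟨Nat.prime_two⟩
  have hc : Nat.card (S.repG i) = 2 ^ e * o := by rw [S.card_repG hi h3, hn]
  obtain ⟨W, hW⟩ := Sylow.exists_subgroup_card_pow_prime (G := S.repG i) 2 (n := w)
    ((pow_dvd_pow 2 he).trans ⟨o, hc⟩)
  have hq : Nat.card (S.repG i ⧸ W) * 2 ^ w = 2 ^ e * o := by
    rw [← hW, ← hc]
    exact (Subgroup.card_eq_card_quotient_mul_card_subgroup W).symm
  have hlt : Nat.card (S.repG i ⧸ W) < 7 := by
    rw [← hq] at hidx
    exact Nat.lt_of_mul_lt_mul_right hidx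
  have hd : ∀ d : {d : G // d ∈ P.D ∧ P.j * d ∈ S.cls}, d.1 ∈ S.repG i := fun d => by
    rw [← h.cen_small hl hi hok]
    exact F.mem_cen.mpr (P.le _ d.2.1)
  have := Nat.card_le_card_of_injective
    (fun d : {d : G // d ∈ P.D ∧ P.j * d ∈ S.cls} => (QuotientGroup.mk (⟨d.1, hd d⟩ : S.repG i) : S.repG i ⧸ W))
    fun a b hab => Subtype.ext (by
      have hmem := QuotientGroup.eq.mp hab
      have hodd := P.odd_quotient F.oneFix h.product a.2.1 a.2.2 b.2.1 b.2.2
      have hd := orderOf_dvd_natCard (⟨_, hmem⟩ : W)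
      rw [hW, Subgroup.orderOf_mk, ← Subgroup.orderOf_coe] at hd
      simp only [Subgroup.coe_mul, Subgroup.coe_inv] at hd
      have h1 : orderOf (a.1⁻¹ * b.1) = 1 :=
        Nat.eq_one_of_dvd_coprimes (Nat.Coprime.pow_right w hodd.coprime_two_right) dvd_rfl hd
      exact eq_of_inv_mul_eq_one (orderOf_eq_one_iff.mp h1))
  have := P.card_le
  omega

theorem Setting.Left.top (h : S.Left) (hl : h.Links) : S.N = ⊤ := by
  set F := h.frame hl with hF
  have hl6 : Subgroup.centralizer ({S.η (rep 6)} : Set G) ≤ S.N :=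
    h.small_le hl (e := 9) (o := 1) (w := 9) (by norm_num) (by norm_num) cmtr_ok.2.1 seven_ok.2.1 (by decide +kernel)
      le_rfl (by norm_num)
  have hl5 : Subgroup.centralizer ({S.η (rep 5)} : Set G) ≤ S.N :=
    h.small_le hl (e := 9) (o := 3) (w := 8) (by norm_num) (by norm_num) cmtr_ok.1 seven_ok.1 (by decide +kernel)
      (by norm_num) (by norm_num)
  have move : ∀ {a x : G}, (∃ l ∈ S.N, l * a * l⁻¹ = x) → Subgroup.centralizer ({a} : Set G) ≤ S.N →
      Subgroup.centralizer ({x} : Set G) ≤ S.N := by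
    rintro a x ⟨l, hl, rfl⟩ ha g hg
    rw [Subgroup.mem_centralizer_singleton_iff] at hg
    have h1 : l⁻¹ * g * l ∈ S.N := ha (Subgroup.mem_centralizer_singleton_iff.mpr (by
      calc l⁻¹ * g * l * a = l⁻¹ * (g * (l * a * l⁻¹)) * l := by group
        _ = l⁻¹ * (l * a * l⁻¹ * g) * l := by rw [hg]
        _ = _ := by group))
    have h2 := S.N.mul_mem (S.N.mul_mem hl h1) (S.N.inv_mem hl)
    rwa [show l * (l⁻¹ * g * l) * l⁻¹ = g by group] at h2
  have hlow : ∀ i < 7, Subgroup.centralizer ({S.η (rep i)} : Set G) ≤ S.N := by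
    have hz : Subgroup.centralizer ({S.η (rep 3)} : Set G) ≤ S.N := fun g hg => by
      rw [rep_three, S.η_z] at hg
      exact F.K_le hg
    intro i hi
    interval_cases i
    exacts [move hl.t03 hz, move hl.t51 hl5, move hl.t62 hl6, hz, move hl.t64 hl6, hl5, hl6]
  refine F.eq_top fun i hi hif => ?_
  by_cases h7 : i < 7
  · exact hlow i h7
  obtain rfl : i = 7 := by omega
  by_contra hbad
  let Γ : Set G := {y | ∃ j < 7, IsConj (S.η (rep j)) y}
  have hcen : ∀ x ∈ F.L, x ∈ Γ → Subgroup.centralizer ({x} : Set G) ≤ F.L := by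
    rintro x hx ⟨j, hj, hc⟩
    obtain ⟨g, hg⟩ := isConj_iff.mp hc
    obtain ⟨l, hll, hle⟩ := F.fusion (F.η_mem _ (rep_valid ⟨j, by omega⟩)) (S.rep_order (by omega)) (g := g)
      (by rw [hg]; exact hx)
    exact move ⟨l, hll, hle.trans hg⟩ (hlow j hj)
  have hΓ : OneFix F.L Γ := by
    refine ⟨fun g y ⟨j, hj, hc⟩ => ⟨j, hj, hc.trans (isConj_iff.mpr ⟨g, rfl⟩)⟩, fun y ⟨j, hj, hc⟩ => ?_, ?_⟩
    · obtain ⟨g, rfl⟩ := isConj_iff.mp hc
      rw [show g * S.η (rep j) * g⁻¹ * (g * S.η (rep j) * g⁻¹) = g * (S.η (rep j) * S.η (rep j)) * g⁻¹ by group,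
        S.η_sq (show j < 8 by omega)]
      group
    · rintro y ⟨j, hj, hc⟩ hy g hg
      have hx : g⁻¹ * y * g ∈ Γ := ⟨j, hj, hc.trans (isConj_iff.mpr ⟨g⁻¹, by rw [inv_inv]⟩)⟩
      have h2 : orderOf (g⁻¹ * y * g) = 2 := by
        obtain ⟨c, hc'⟩ := isConj_iff.mp (hc.trans (isConj_iff.mpr ⟨g⁻¹, by rw [inv_inv]⟩ : IsConj y (g⁻¹ * y * g)))
        rw [← hc']
        exact (orderOf_injective (MulAut.conj c).toMonoidHom (MulAut.conj c).injective _).trans (S.rep_order (by omega))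
      obtain ⟨l, hll, hle⟩ := F.fusion hg h2 (g := g) (by rwa [show g * (g⁻¹ * y * g) * g⁻¹ = y by group])
      have hlg : l⁻¹ * g ∈ F.L := hcen _ hg hx (Subgroup.mem_centralizer_singleton_iff.mpr (by
        rw [show g * (g⁻¹ * y * g) * g⁻¹ = y by group] at hle
        calc l⁻¹ * g * (g⁻¹ * y * g) = l⁻¹ * y * g := by group
          _ = l⁻¹ * (l * (g⁻¹ * y * g) * l⁻¹) * g := by rw [hle]
          _ = _ := by group))
      have := F.L.mul_mem hll hlg
      rwa [mul_inv_cancel_left] at this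
  have huL : S.η (rep 7) ∈ F.L := F.η_mem _ (rep_valid ⟨7, by norm_num⟩)
  obtain ⟨m, hm, hcard⟩ := F.cen_part (i := 7) (e := 7) (by norm_num) (by norm_num) hif (by decide +kernel)
    fun j hj hj3 hjf hJ => by
      by_cases hj7 : j = 7
      · subst hj7; decide +kernel
      · exact absurd (move hJ.symm (hlow j (by omega))) hbad
  have hle : Nat.card (F.cen 7) ≤ 128 * 3 := by
    have hW : ∀ g : F.cen 7, ∃ w ∈ sevenW, (g : G) * S.z * (g : G)⁻¹ = S.η w := fun g =>
      S.z_image (by norm_num) cmtr_ok.2.2.1 (F.mem_cen.mp g.2).1 (F.mem_cen.mp g.2).2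
    choose w hw hwe using hW
    let g0 : Fin 3 → F.cen 7 := fun n => if h : ∃ g, w g = sevenW.getD n.val 0 then h.choose else 1
    have idx : ∀ g, ∃ n : Fin 3, sevenW.getD n.val 0 = w g := fun g => by
      obtain ⟨n, hn, e⟩ := List.getElem_of_mem (hw g)
      exact ⟨⟨n, by rw [← cmtr_ok.2.2.2]; exact hn⟩, by rw [List.getD_eq_getElem _ _ hn, e]⟩
    choose n hn using idx
    have hz : ∀ g : F.cen 7, w (g0 (n g)) = w g := fun g => by
      have hex : ∃ g', w g' = sevenW.getD (n g).val 0 := ⟨g, (hn g).symm⟩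
      simp only [g0, dif_pos hex]
      exact hex.choose_spec.trans (hn g)
    have hin : ∀ g : F.cen 7, ((g0 (n g))⁻¹ * g : F.cen 7).1 ∈ S.repG 7 := fun g => by
      refine ⟨S.mem_K.mpr ?_, ((g0 (n g))⁻¹ * g).2.2⟩
      have e := hwe (g0 (n g))
      rw [hz g, ← hwe g, mul_inv_eq_iff_eq_mul] at e
      simp only [Subgroup.coe_mul, Subgroup.coe_inv]
      rw [mul_assoc, inv_mul_eq_iff_eq_mul, ← mul_assoc, e]
      group
    have := Nat.card_le_card_of_injective (fun g => ((⟨_, hin g⟩ : S.repG 7), n g)) fun a b e => by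
      rw [Prod.mk.injEq] at e
      have e1 := congrArg Subtype.val e.1
      simp only [Subgroup.coe_mul, Subgroup.coe_inv, e.2] at e1
      exact Subtype.ext (mul_left_cancel e1)
    rw [Nat.card_prod, Nat.card_fin, S.card_repG (by norm_num) (by norm_num)] at this
    exact this.trans (le_of_eq (by decide +kernel))
  have hFs : ∀ c, valid c = true → inSet [0, 1, 2, 3, 4, 5, 6] c = true → S.η c ∈ Γ := fun c hc hin => by
    have h := inSet_iff.mp hin
    have h7 : classOf c < 7 := by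
      simp only [List.mem_cons, List.not_mem_nil, or_false] at h
      omega
    exact ⟨classOf c, h7, (S.conj_class (by omega)).2⟩
  have hk : 39 ≤ Nat.card {y : G // y ∈ Γ ∧ y ∈ F.L ∧ y * S.η (rep 7) = S.η (rep 7) * y} := by
    obtain ⟨hnd, hlen⟩ := last_ok
    have key : ∀ n : Fin 39, S.η (lastCodes.get (n.cast hlen.symm)) ∈ Γ ∧
        S.η (lastCodes.get (n.cast hlen.symm)) ∈ F.L ∧
        S.η (lastCodes.get (n.cast hlen.symm)) * S.η (rep 7) = S.η (rep 7) * S.η (lastCodes.get (n.cast hlen.symm)) := by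
      intro n
      have hm := List.get_mem lastCodes (n.cast hlen.symm)
      generalize lastCodes.get (n.cast hlen.symm) = c at hm ⊢
      simp only [lastCodes, lastCodes.inSet', List.mem_filter, List.mem_map, List.mem_range, Nat.blt_eq] at hm
      obtain ⟨⟨k, hk, rfl⟩, h7⟩ := hm
      obtain ⟨hv, hc⟩ := S.η_comm_rep (i := 7) (by norm_num) (by norm_num) (k := k) (by
        rw [show (repC 7).n = 128 by decide +kernel]; exact hk)
      exact ⟨⟨_, h7, (S.conj_class (by omega)).2⟩, F.η_mem _ hv, hc⟩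
    have := Nat.card_le_card_of_injective (fun n => (⟨_, key n⟩ :
        {y : G // y ∈ Γ ∧ y ∈ F.L ∧ y * S.η (rep 7) = S.η (rep 7) * y})) fun a b e => by
      have e' := congrArg Subtype.val e
      have hv := List.all_eq_true.mp last_valid
      have e'' := S.η_inj (hv _ (List.get_mem _ _)) (hv _ (List.get_mem _ _)) e'
      exact Fin.cast_injective _ ((List.Nodup.get_inj_iff hnd).mp e'')
    rwa [Nat.card_fin] at this
  obtain ⟨P⟩ := hΓ.pinch (k := 39) (S.η_sq (by norm_num)) huL (fun g hg => F.fusion huL (S.rep_order (by norm_num)) hg)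
    hbad hk (by norm_num)
  obtain ⟨T, -, -, h8, hd, -, -⟩ := F.pinch_part (i := 7) (by norm_num) (by norm_num) (e := 7) (by decide +kernel) hm hcard
    freeAff_ok hΓ hFs P
  have h1 := Nat.le_of_dvd (Nat.mul_pos (by norm_num) hm.pos) (hd.trans (Nat.mul_dvd_mul_right h8 m))
  have h2 := P.k_le
  rw [hcard] at hle
  omega

end Cfsg.Lib.HeldType
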