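import Cfsg.Agent.HeldType.Options

/-!
Words in the centraliser and the two interchanging elements.
-/

set_option autoImplicit false
set_option maxRecDepth 100000

namespace Cfsg.Lib.HeldType

/-- A letter: a code or one of the two interchanging elements. -/
inductive Let where
  | h (c : ℕ)
  | t (b : Bool)

/-- The parameters of the two sides. -/
structure Pars where
  side : Bool → SideD
  opt : Bool → ℕ
  sq : Bool → ℕ

/-- A group with interchanging elements on both sides. -/
structure Pair {G : Type*} [Group G] (S : Setting G) (P : Pars) where
  T : Bool → G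
  acts : ∀ b, S.Acts (P.side b) (P.opt b) (T b)
  sq_eq : ∀ b, T b * T b = S.η (P.sq b)
  side_ok : ∀ b, (P.side b).C.ok = true
  opt_ok : ∀ b, ∀ k < (P.side b).C.n, valid (((P.side b).fwd.get (P.opt b)).get k) = true
  sq_valid : ∀ b, valid (P.sq b) = true

variable {G : Type*} [Group G] {S : Setting G} {P : Pars} (Q : Pair S P)

/-- The value of a letter. -/
def Pair.letter : Let → G
  | .h c => S.η c
  | .t b => Q.T b

/-- The value of a word. -/
def Pair.val (w : List Let) : G := (w.map Q.letter).prod

theorem Pair.val_append (v w : List Let) : Q.val (v ++ w) = Q.val v * Q.val w := by simp [Pair.val]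

theorem Pair.val_cons (l : Let) (w : List Let) : Q.val (l :: w) = Q.letter l * Q.val w := by simp [Pair.val]

theorem Pair.val_nil : Q.val [] = 1 := rfl

/-- The codes of a word are valid. -/
def okWord (w : List Let) : Bool := w.all fun l => match l with
  | .h c => valid c
  | .t _ => true

/-- Merge adjacent codes. -/
def normW : List Let → List Let
  | [] => []
  | .t b :: w => .t b :: normW w
  | .h c :: w => match normW w with
    | .h d :: v => bif Nat.beq (cm c d) cOne then v else .h (cm c d) :: v
    | v => bif Nat.beq c cOne then v else .h c :: v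

/-- Equality of letters. -/
def Let.eqb : Let → Let → Bool
  | .h a, .h b => Nat.beq a b
  | .t a, .t b => a == b
  | _, _ => false

/-- Equality of words. -/
def sameW : List Let → List Let → Bool
  | [], [] => true
  | a :: v, b :: w => a.eqb b && sameW v w
  | _, _ => false

theorem Let.eqb_eq {a b : Let} (h : a.eqb b = true) : a = b := by
  cases a <;> cases b <;> simp [Let.eqb] at h <;> simp [h]

theorem sameW_eq : ∀ {v w : List Let}, sameW v w = true → v = w
  | [], [], _ => rfl
  | [], _ :: _, h => by simp [sameW] at h
  | _ :: _, [], h => by simp [sameW] at h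
  | a :: v, b :: w, h => by
    simp only [sameW, Bool.and_eq_true] at h
    rw [Let.eqb_eq h.1, sameW_eq h.2]

theorem Pair.val_norm : ∀ {w : List Let}, okWord w = true → okWord (normW w) = true ∧ Q.val (normW w) = Q.val w
  | [], _ => ⟨rfl, rfl⟩
  | .t b :: w, h => by
    simp only [okWord, List.all_cons, Bool.true_and] at h
    obtain ⟨a, e⟩ := val_norm (w := w) h
    refine ⟨by simpa [normW, okWord] using a, ?_⟩
    simp only [normW, Q.val_cons, e]
  | .h c :: w, h => by
    simp only [okWord, List.all_cons, Bool.and_eq_true] at h
    obtain ⟨hc, hw⟩ := h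
    obtain ⟨a, e⟩ := val_norm (w := w) hw
    simp only [normW]
    split
    · rename_i d v hv
      rw [hv] at a e
      simp only [okWord, List.all_cons, Bool.and_eq_true] at a
      rw [Q.val_cons] at e
      cases hb : Nat.beq (cm c d) cOne with
      | true =>
        have he := Nat.eq_of_beq_eq_true hb
        refine ⟨a.2, ?_⟩
        rw [cond_true, Q.val_cons, ← e, ← mul_assoc]
        show _ = S.η c * S.η d * _
        rw [← S.η_mul hc a.1, he, S.η_one, one_mul]
      | false =>
        refine ⟨by simp only [cond_false, okWord, List.all_cons, valid_cm hc a.1, Bool.true_and]; exact a.2, ?_⟩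
        rw [cond_false, Q.val_cons, Q.val_cons, ← e, ← mul_assoc]
        show S.η (cm c d) * _ = S.η c * S.η d * _
        rw [S.η_mul hc a.1]
    · cases hb : Nat.beq c cOne with
      | true =>
        refine ⟨a, ?_⟩
        rw [cond_true, Q.val_cons, ← e]
        show _ = S.η c * _
        rw [Nat.eq_of_beq_eq_true hb, S.η_one, one_mul]
      | false =>
        refine ⟨by simp only [cond_false, okWord, List.all_cons, hc, Bool.true_and]; exact a, ?_⟩
        rw [cond_false, Q.val_cons, Q.val_cons, e]

/-- Two words have the same normal form. -/
def sameVal (v w : List Let) : Bool := okWord v && okWord w && sameW (normW v) (normW w)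

theorem Pair.sameVal_sound {v w : List Let} (h : sameVal v w = true) : Q.val v = Q.val w := by
  simp only [sameVal, Bool.and_eq_true] at h
  rw [← (Q.val_norm h.1.1).2, ← (Q.val_norm h.1.2).2, sameW_eq h.2]

/-- The image of a code under conjugation by a letter. -/
def conjLet (P : Pars) : Let → ℕ → Option ℕ
  | .h g, c =>
    let d := cm (cm g c) (cInv g)
    bif valid g && valid d && valid c && Nat.beq (cm g c) (cm d g) then some d else none
  | .t b, c => ((P.side b).C.ix.find c).map ((P.side b).fwd.get (P.opt b)).get

/-- The image of a code under conjugation by a word. -/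
def conjWord (P : Pars) : List Let → ℕ → Option ℕ
  | [], c => bif valid c then some c else none
  | l :: w, c => (conjWord P w c).bind (conjLet P l)

theorem Pair.conjWord_sound : ∀ {w : List Let} {c d : ℕ}, conjWord P w c = some d →
    valid c = true ∧ valid d = true ∧ Q.val w * S.η c = S.η d * Q.val w
  | [], c, d, h => by
    simp only [conjWord] at h
    cases hv : valid c with
    | false => rw [hv] at h; simp at h
    | true =>
      rw [hv, cond_true, Option.some.injEq] at h
      subst h
      exact ⟨rfl, hv, by rw [Q.val_nil, one_mul, mul_one]⟩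
  | l :: w, c, d, h => by
    simp only [conjWord, Option.bind_eq_some_iff] at h
    obtain ⟨m, hm, hl⟩ := h
    obtain ⟨h1, h2, h3⟩ := conjWord_sound hm
    have key : valid d = true ∧ Q.letter l * S.η m = S.η d * Q.letter l := by
      cases l with
      | h g =>
        simp only [conjLet] at hl
        cases hb : (valid g && valid (cm (cm g m) (cInv g)) && valid m &&
            Nat.beq (cm g m) (cm (cm (cm g m) (cInv g)) g)) with
        | false => rw [hb] at hl; simp at hl
        | true =>
          rw [hb, cond_true, Option.some.injEq] at hl
          subst hl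
          simp only [Bool.and_eq_true] at hb
          exact ⟨hb.1.1.2, by
            show S.η g * S.η m = _ * S.η g
            rw [← S.η_mul hb.1.1.1 hb.1.2, ← S.η_mul hb.1.1.2 hb.1.1.1, ← Nat.eq_of_beq_eq_true hb.2]⟩
      | t b =>
        simp only [conjLet, Option.map_eq_some_iff] at hl
        obtain ⟨k, hk, rfl⟩ := hl
        obtain ⟨k1, k2⟩ := CentData.find_el (Q.side_ok b) hk
        refine ⟨Q.opt_ok b k k1, ?_⟩
        have := (Q.acts b).2 k k1
        rwa [k2] at this
    refine ⟨h1, key.1, ?_⟩
    rw [Q.val_cons, mul_assoc, h3, ← mul_assoc, key.2, mul_assoc]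

end Cfsg.Lib.HeldType
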