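import Cfsg.Agent.HeldType.Rep
import Cfsg.Agent.LargeExtra.Transvection.Basic

/-!
A group with an involution whose centraliser is the coded group.
-/

set_option autoImplicit false
set_option maxRecDepth 100000

namespace Cfsg.Lib.HeldType

open Cfsg.Lib.LargeExtra

/-- A group with an involution and an identification of its centraliser. -/
structure Setting (G : Type*) [Group G] where
  z : G
  η : ℕ → G
  z_ord : orderOf z = 2
  η_mul : ∀ {a b : ℕ}, valid a = true → valid b = true → η (cm a b) = η a * η b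
  η_inj : ∀ {a b : ℕ}, valid a = true → valid b = true → η a = η b → a = b
  η_comm : ∀ {a : ℕ}, valid a = true → η a * z = z * η a
  η_surj : ∀ {g : G}, g * z = z * g → ∃ a, valid a = true ∧ η a = g
  η_z : η cZ = z

theorem radOf_radical : ∀ q : Fin 128, Transvection.InC (n := 3) (elK (q.val * 168 + blkIdx.get 273) (by
    have := q.isLt
    have h : blkIdx.get 273 < 168 := by decide +kernel
    omega)) ∧
    Transvection.block (n := 3) (elK (q.val * 168 + blkIdx.get 273) (by
    have := q.isLt
    have h : blkIdx.get 273 < 168 := by decide +kernel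
    omega)) = 1 := by
  unfold Transvection.InC
  decide +kernel

theorem radical_code {g : SL5} (hg : g ∈ Transvection.radical 3) : ∃ q < 128, g.1 = mat (radOf q) := by
  have hlt : blkIdx.get 273 < 168 := by decide +kernel
  have hb : levOf (blkTab.get (blkIdx.get 273)) = cOne := by decide +kernel
  let f : Fin 128 → Transvection.radical 3 := fun q => ⟨elK (q.val * 168 + blkIdx.get 273) (by have := q.isLt; omega),
    Transvection.mem_radical.mpr (radOf_radical q)⟩
  have hinj : Function.Injective f := fun a b h => by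
    have h1 := congrArg (fun x : Transvection.radical 3 => (x : SL5).1) h
    simp only [f, elK_val] at h1
    have h2 := congrArg kOf (mat_inj (cOf_lt _) (cOf_lt _) h1)
    rw [kOf_cOf (by have := a.isLt; omega), kOf_cOf (by have := b.isLt; omega)] at h2
    exact Fin.ext (by omega)
  obtain ⟨q, hq⟩ := (hinj.bijective_of_nat_card_le (by rw [Nat.card_fin, Transvection.card_radical]; norm_num)).2 ⟨g, hg⟩
  refine ⟨q.val, q.isLt, ?_⟩
  have h1 := congrArg (fun x : Transvection.radical 3 => (x : SL5).1) hq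
  simp only [f, elK_val] at h1
  rw [← h1]
  have e1 : (q.val * 168 + blkIdx.get 273) / 168 = q.val := by omega
  have e2 : (q.val * 168 + blkIdx.get 273) % 168 = blkIdx.get 273 := by omega
  rw [cOf, e1, e2, hb, mat_cm, mat_one, mul_one]

theorem rad_valid : (List.range 128).all (fun q => valid (radOf q)) = true := by decide +kernel

theorem pCore_map {A B : Type*} [Group A] [Group B] [Finite A] (e : A ≃* B) {x : A} (hx : x ∈ Cfsg.pCore 2 A) :
    e x ∈ Cfsg.pCore 2 B := by
  haveI : Fact (Nat.Prime 2) := ⟨Nat.prime_two⟩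
  obtain ⟨hN, hP⟩ := Cfsg.Lib.Components.pCore_normal_and_isPGroup (G := A) 2
  have hm : (Cfsg.pCore 2 A).map e.toMonoidHom ∈ {N : Subgroup B | N.Normal ∧ IsPGroup 2 N} :=
    ⟨hN.map _ e.surjective, hP.map _⟩
  exact le_sSup hm (Subgroup.mem_map_of_mem _ hx)

variable {G : Type*} [Group G] [Finite G]

theorem exists_setting (s : SL5) (hs : s.1 = Matrix.transvection 0 1 1) (z : G) (hz : orderOf z = 2)
    (e : Subgroup.centralizer ({z} : Set G) ≃* Subgroup.centralizer ({s} : Set SL5)) :
    ∃ S : Setting G, S.z = z ∧ (∀ (c : ℕ), valid c = true → ∀ y : Subgroup.centralizer ({z} : Set G),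
        (e y : SL5).1 = mat c → S.η c = (y : G)) ∧
      ∀ x : Subgroup.centralizer ({z} : Set G),
        x ∈ Cfsg.pCore 2 (Subgroup.centralizer ({z} : Set G)) → ∃ q < 128, S.η (radOf q) = (x : G) := by
  classical
  obtain rfl : s = sEl := Subtype.ext (hs.trans mat_z.symm)
  have hzc : z ∈ Subgroup.centralizer ({z} : Set G) := Subgroup.mem_centralizer_singleton_iff.mpr rfl
  let η : ℕ → G := fun c => if h : valid c = true then
    ((e.symm ⟨Classical.choose (exists_el h), (Classical.choose_spec (exists_el h)).1⟩ : _) : G) else 1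
  have key : ∀ {c : ℕ} (_ : valid c = true) (g : cs), (g : SL5).1 = mat c → η c = (e.symm g : G) := by
    intro c hc g hg
    simp only [η, dif_pos hc]
    congr 2
    exact Subtype.ext (Subtype.ext ((Classical.choose_spec (exists_el hc)).2.trans hg.symm))
  have hsur : ∀ x : Subgroup.centralizer ({z} : Set G), ∃ a, valid a = true ∧ η a = (x : G) := fun x => by
    obtain ⟨c, hc, he⟩ := surj (e x).2
    exact ⟨c, hc, by rw [key hc (e x) he, MulEquiv.symm_apply_apply]⟩
  have hez : ((e ⟨z, hzc⟩ : Subgroup.centralizer ({sEl} : Set SL5)) : SL5) = sEl := by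
    have hcz : cs = Transvection.cz 3 := congrArg (fun x => Subgroup.centralizer ({x} : Set SL5))
      (Subtype.ext mat_z : sEl = Transvection.tz 3)
    have hc : (e ⟨z, hzc⟩ : SL5) ∈ Subgroup.centralizer (Transvection.radical 3 : Set SL5) := by
      refine Subgroup.mem_centralizer_iff.mpr fun r hr => ?_
      have hr' : r ∈ cs := hcz ▸ Transvection.radical_le hr
      have h1 : e.symm ⟨r, hr'⟩ * ⟨z, hzc⟩ = ⟨z, hzc⟩ * e.symm ⟨r, hr'⟩ :=
        Subtype.ext (Subgroup.mem_centralizer_singleton_iff.mp (e.symm ⟨r, hr'⟩).2)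
      have h2 := congrArg e h1
      rw [map_mul, map_mul, MulEquiv.apply_symm_apply] at h2
      exact congrArg (fun x : Subgroup.centralizer ({sEl} : Set SL5) => (x : SL5)) h2
    obtain ⟨k, hk⟩ := Subgroup.mem_zpowers_iff.mp (Transvection.centralizer_radical (by norm_num) hc)
    have hts : Transvection.tz 3 = sEl := (Subtype.ext mat_z : sEl = Transvection.tz 3).symm
    rw [hts] at hk
    have h2 : sEl ^ 2 = 1 := Subtype.ext (show mat cZ ^ 2 = 1 by rw [pow_two, ← mat_cm, ← mat_one]; decide +kernel)
    rcases Int.even_or_odd k with ⟨m, rfl⟩ | ⟨m, rfl⟩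
    · exfalso
      rw [← two_mul, zpow_mul, zpow_ofNat, h2, one_zpow] at hk
      have h1 : (⟨z, hzc⟩ : Subgroup.centralizer ({z} : Set G)) = 1 := e.injective (by
        rw [map_one]
        exact Subtype.ext hk.symm)
      have h3 : z = 1 := congrArg Subtype.val h1
      rw [h3, orderOf_one] at hz
      norm_num at hz
    · rw [← hk, zpow_add, zpow_mul, zpow_one, zpow_ofNat, h2, one_zpow, one_mul]
  refine ⟨⟨z, η, hz, fun {a b} ha hb => ?_, fun {a b} ha hb h => ?_, fun {a} ha => ?_, fun {g} hg => ?_, ?_⟩, rfl,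
    fun c hc y hy => by
      show η c = (y : G)
      rw [key hc (e y) hy, MulEquiv.symm_apply_apply], ?_⟩
  · obtain ⟨g, hg, hga⟩ := exists_el ha
    obtain ⟨k, hk, hkb⟩ := exists_el hb
    rw [key ha ⟨g, hg⟩ hga, key hb ⟨k, hk⟩ hkb, key (valid_cm ha hb) (⟨g, hg⟩ * ⟨k, hk⟩) (by
      rw [mat_cm, ← hga, ← hkb]; rfl), map_mul]
    rfl
  · obtain ⟨g, hg, hga⟩ := exists_el ha
    obtain ⟨k, hk, hkb⟩ := exists_el hb
    rw [key ha ⟨g, hg⟩ hga, key hb ⟨k, hk⟩ hkb] at h
    have h1 := congrArg (fun x : cs => (x : SL5).1) (e.symm.injective (Subtype.ext h))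
    exact mat_inj (valid_lt ha) (valid_lt hb) (hga.symm.trans (h1.trans hkb))
  · obtain ⟨g, hg, hga⟩ := exists_el ha
    rw [key ha ⟨g, hg⟩ hga]
    exact Subgroup.mem_centralizer_singleton_iff.mp (e.symm ⟨g, hg⟩).2
  · exact hsur ⟨g, Subgroup.mem_centralizer_singleton_iff.mpr hg⟩
  · rw [key valid_z (e ⟨z, hzc⟩) (congrArg Subtype.val hez), MulEquiv.symm_apply_apply]
  · intro x hx
    have h1 : ((e x : Subgroup.centralizer ({sEl} : Set SL5)) : SL5) ∈ Transvection.radical 3 := by
      rw [← Transvection.core_eq]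
      have h2 := pCore_map e hx
      have hst : sEl = Transvection.tz 3 := Subtype.ext mat_z
      revert h2
      generalize e x = y
      obtain ⟨y, hy⟩ := y
      intro h2
      have hgen : ∀ t : SL5, sEl = t → y ∈ core (Subgroup.centralizer ({t} : Set SL5)) := fun t ht =>
        ht ▸ Subgroup.mem_map.mpr ⟨⟨y, hy⟩, h2, rfl⟩
      exact hgen _ hst
    obtain ⟨q, hq, he⟩ := radical_code h1
    exact ⟨q, hq, by
      show η (radOf q) = (x : G)
      rw [key (List.all_eq_true.mp rad_valid q (List.mem_range.mpr hq)) (e x) he, MulEquiv.symm_apply_apply]⟩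

end Cfsg.Lib.HeldType
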