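import Cfsg.Agent.HeldType.Elem

/-!
An element interchanging the central involution with a conjugate acts in one of four ways.
-/

set_option autoImplicit false
set_option maxRecDepth 100000

namespace Cfsg.Lib.HeldType

/-- The data of a side. -/
structure SideD where
  C : CentData
  g : Tab ℕ
  par : Tab ℕ
  rep : ℕ
  a1 : List (ℕ × ℕ)
  c1 : ℕ
  c2 : ℕ
  d1 : ℕ
  d2 : ℕ
  r2 : List (List ℕ × List ℕ)
  r3 : List (List ℕ × List ℕ)
  im : Tab (Tab ℕ)
  imW : Tab (Tab (List ℕ))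
  sur : List ((ℕ × ℕ) × (ℕ × ℕ))
  fwd : Tab (Tab ℕ)

/-- The image of one of the four fixed codes under the interchange. -/
def swp (x c : ℕ) : ℕ := bif Nat.beq c cZ then x else bif Nat.beq c x then cZ else c

/-- Membership in the centraliser. -/
def SideD.inR (D : SideD) (c : ℕ) : Bool := (D.C.ix.find c).isSome

/-- The relations hold. -/
def relsHold (l : List (List ℕ × List ℕ)) (a : Tab ℕ) : Bool := l.all fun p => Nat.beq (ev a p.1) (ev a p.2)

/-- Three images. -/
def tri (a b c : ℕ) : Tab ℕ := .node 1 (.leaf a) (.node 1 (.leaf b) (.leaf c))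

/-- The second power. -/
def sqr (c : ℕ) : ℕ := cm c c

/-- The basic checks. -/
def SideD.okBase (D : SideD) : Bool :=
  D.C.ok && comm cZ D.C.x && valid (cm cZ D.C.x) &&
    (allR (fun i => D.inR (D.g.get i)) 0 3) && relsHold D.r2 D.g && relsHold D.r3 D.g &&
    (D.r2.all fun p => (p.1 ++ p.2).all fun i => Nat.blt i 2) &&
    (D.r3.all fun p => (p.1 ++ p.2).all fun i => Nat.blt i 3) &&
    Nat.beq (cm (D.g.get 0) (sqr (D.g.get 0))) D.d1 && !Nat.beq (sqr (D.g.get 0)) cOne &&
    Nat.beq (sqr (D.g.get 1)) D.d2 && Nat.beq (sqr (D.g.get 2)) cOne &&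
    (Nat.beq D.d1 cZ || Nat.beq D.d1 D.C.x || Nat.beq D.d1 (cm cZ D.C.x)) &&
    (Nat.beq D.d2 cZ || Nat.beq D.d2 D.C.x || Nat.beq D.d2 (cm cZ D.C.x)) &&
    Nat.beq D.c1 (swp D.C.x D.d1) && Nat.beq D.c2 (swp D.C.x D.d2) &&
    Nat.beq (D.C.el.get 0) cOne &&
    (allR (fun k => Nat.blt (D.par.get k / 4) k && Nat.blt (D.par.get k % 4) 3 &&
      Nat.beq (D.C.el.get k) (cm (D.C.el.get (D.par.get k / 4)) (D.g.get (D.par.get k % 4)))) 1 (D.C.n - 1))

/-- The first image can be normalised. -/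
def SideD.okFirst (D : SideD) : Bool :=
  valid D.rep &&
  allR (fun k => !(Nat.beq (cm (D.C.el.get k) (sqr (D.C.el.get k))) D.c1 && !Nat.beq (sqr (D.C.el.get k)) cOne) ||
    D.a1.any fun p => Nat.beq p.1 (D.C.el.get k) && D.inR p.2 && Nat.beq (cm p.2 D.rep) (cm p.1 p.2)) 0 D.C.n

/-- The check of a third image. -/
def SideD.okThird (D : SideD) (y2 : ℕ) : Bool :=
  allR (fun k => !(Nat.beq (sqr (D.C.el.get k)) cOne) || !(relsHold D.r3 (tri D.rep y2 (D.C.el.get k))) ||
    D.sur.any fun s => Nat.beq s.1.1 y2 && Nat.beq s.1.2 (D.C.el.get k) && Nat.blt s.2.1 16 && D.inR s.2.2 &&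
      allR (fun j => Nat.beq (cm s.2.2 ((D.im.get s.2.1).get j))
        (cm ((tri D.rep y2 (D.C.el.get k)).get j) s.2.2)) 0 3) 0 D.C.n

/-- The check of the second and the third images. -/
def SideD.okRest (D : SideD) : Bool :=
  allR (fun k => !(Nat.beq (sqr (D.C.el.get k)) D.c2) ||
    !(relsHold D.r2 (tri D.rep (D.C.el.get k) cOne)) || D.okThird (D.C.el.get k)) 0 D.C.n

/-- The sixteen candidates are given by words, the last twelve have no inner square, the first four are tabulated. -/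
def SideD.okOpts (D : SideD) : Bool :=
  allR (fun i => allR (fun j => D.inR ((D.im.get i).get j) && ((D.imW.get i).get j).all (fun l => Nat.blt l 3) &&
    Nat.beq (ev D.g ((D.imW.get i).get j)) ((D.im.get i).get j)) 0 3) 0 16 &&
  allR (fun i => allR (fun k => !(allR (fun j => Nat.beq (cm (D.C.el.get k) (D.g.get j))
    (cm (ev (D.im.get i) ((D.imW.get i).get j)) (D.C.el.get k))) 0 3)) 0 D.C.n) 4 12 &&
  allR (fun i => Nat.beq ((D.fwd.get i).get 0) cOne && allR (fun k => Nat.beq ((D.fwd.get i).get k)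
    (cm ((D.fwd.get i).get (D.par.get k / 4)) ((D.im.get i).get (D.par.get k % 4)))) 1 (D.C.n - 1)) 0 4

/-- All checks. -/
structure SideD.Ok (D : SideD) : Prop where
  base : D.okBase = true
  first : D.okFirst = true
  rest : D.okRest = true
  opts : D.okOpts = true

/-- An element interchanging the involution and the coded conjugate. -/
def Setting.IsSwap {G : Type*} [Group G] (S : Setting G) (x : ℕ) (t : G) : Prop :=
  t * S.z = S.η x * t ∧ t * S.η x = S.z * t

variable {G : Type*} [Group G] (S : Setting G)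

theorem SideD.inR_iff {D : SideD} (h : D.C.ok = true) {c : ℕ} :
    D.inR c = true → valid c = true ∧ cm c D.C.x = cm D.C.x c ∧ ∃ k < D.C.n, D.C.el.get k = c := by
  intro hc
  obtain ⟨k, hk⟩ := Option.isSome_iff_exists.mp hc
  obtain ⟨h1, h2⟩ := CentData.find_el h hk
  obtain ⟨a, b, -⟩ := CentData.el_ok h h1
  rw [h2] at a b
  exact ⟨a, b, k, h1, h2⟩

theorem Setting.swap_shift {x r : ℕ} {t : G} (hx : valid x = true) (hr : valid r = true) (hrx : cm r x = cm x r)
    (h : S.IsSwap x t) : S.IsSwap x ((S.η r)⁻¹ * t) := by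
  obtain ⟨h1, h2⟩ := h
  have hc : Commute (S.η r)⁻¹ (S.η x) := (Commute.inv_left (S.η_comm_η hr hx hrx))
  have hz : Commute (S.η r)⁻¹ S.z := Commute.inv_left (S.η_comm hr)
  constructor
  · rw [mul_assoc, h1, ← mul_assoc, hc.eq, mul_assoc]
  · rw [mul_assoc, h2, ← mul_assoc, hz.eq, mul_assoc]

theorem Setting.swap_image {D : SideD} (h : D.C.ok = true) {t : G} (ht : S.IsSwap D.C.x t) {c : ℕ}
    (hc : valid c = true) (hcx : cm c D.C.x = cm D.C.x c) : ∃ k < D.C.n, t * S.η c = S.η (D.C.el.get k) * t := by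
  have hx := CentData.x_valid h
  obtain ⟨h1, h2⟩ := ht
  have e1 : t * S.z * t⁻¹ = S.η D.C.x := by rw [h1, mul_inv_cancel_right]
  have e2 : t * S.η D.C.x * t⁻¹ = S.z := by rw [h2, mul_inv_cancel_right]
  have k1 : t * S.η c * t⁻¹ * S.z = S.z * (t * S.η c * t⁻¹) := by
    rw [← e2]
    simp only [mul_assoc, inv_mul_cancel_left]
    rw [← mul_assoc (S.η c), S.η_comm_η hc hx hcx, mul_assoc]
  have k2 : t * S.η c * t⁻¹ * S.η D.C.x = S.η D.C.x * (t * S.η c * t⁻¹) := by
    rw [← e1]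
    simp only [mul_assoc, inv_mul_cancel_left]
    rw [← mul_assoc (S.η c), S.η_comm hc, mul_assoc]
  obtain ⟨d, hd, hde⟩ := S.η_surj k1
  have hdx : cm d D.C.x = cm D.C.x d := S.η_inj (valid_cm hd hx) (valid_cm hx hd) (by
    rw [S.η_mul hd hx, S.η_mul hx hd, hde, k2])
  obtain ⟨k, hk, hke⟩ := CentData.complete h hd hdx
  exact ⟨k, hk, by rw [hke, hde, inv_mul_cancel_right]⟩

theorem allR_apply {p : ℕ → Bool} {lo n k : ℕ} (h : allR p lo n = true) (h1 : lo ≤ k) (h2 : k < lo + n) : p k = true :=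
  allR_sound p n lo h k h1 h2

theorem Setting.exists_option [Finite G] {D : SideD} (hD : D.Ok) {t : G} (ht : S.IsSwap D.C.x t) :
    ∃ i < 4, ∃ t' : G, S.IsSwap D.C.x t' ∧
      ∀ k < D.C.n, t' * S.η (D.C.el.get k) = S.η ((D.fwd.get i).get k) * t' := by
  obtain ⟨hB, hF, hR, hO⟩ := hD
  simp only [SideD.okBase, Bool.and_eq_true, Bool.or_eq_true] at hB
  obtain ⟨⟨⟨⟨⟨⟨⟨⟨⟨⟨⟨⟨⟨⟨⟨⟨⟨hC, hzx⟩, hzxv⟩, hg⟩, hr2⟩, hr3⟩, hl2⟩, hl3⟩, hd1⟩, hsq⟩, hd2⟩, hd3⟩, he1⟩, he2⟩, hc1⟩,
    hc2⟩, h0⟩, hpar⟩ := hB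
  have hx := CentData.x_valid hC
  have hgR : ∀ i, i < 3 → valid (D.g.get i) = true ∧ cm (D.g.get i) D.C.x = cm D.C.x (D.g.get i) := fun i hi =>
    let ⟨a, b, _⟩ := SideD.inR_iff hC (allR_apply (p := fun i => D.inR (D.g.get i)) (k := i) hg (Nat.zero_le _) (by omega))
    ⟨a, b⟩
  -- images of the special elements
  have himg : ∀ d, (d = cZ ∨ d = D.C.x ∨ d = cm cZ D.C.x) → ∀ {u : G}, S.IsSwap D.C.x u →
      valid d = true ∧ valid (swp D.C.x d) = true ∧ u * S.η d = S.η (swp D.C.x d) * u := by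
    intro d hd u hu
    obtain ⟨u1, u2⟩ := hu
    rw [← S.η_z] at u1 u2
    have hcz : cm cZ cZ = cOne := by decide +kernel
    rcases hd with rfl | rfl | rfl
    · simp only [swp, Nat.beq_refl, cond_true]
      exact ⟨valid_z, hx, u1⟩
    · simp only [swp]
      cases hq : Nat.beq D.C.x cZ with
      | true =>
        have hq' := Nat.eq_of_beq_eq_true hq
        rw [cond_true]
        refine ⟨hx, hx, ?_⟩
        rw [hq'] at u2 ⊢
        exact u2
      | false =>
        rw [cond_false, Nat.beq_refl, cond_true]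
        exact ⟨hx, valid_z, u2⟩
    · refine ⟨valid_cm valid_z hx, ?_⟩
      have h3 := S.conj_mul valid_z hx hx valid_z u1 u2
      have hsw : cm D.C.x cZ = cm cZ D.C.x := (Nat.eq_of_beq_eq_true hzx).symm
      simp only [swp]
      cases hq : Nat.beq (cm cZ D.C.x) cZ with
      | true =>
        have hq' := Nat.eq_of_beq_eq_true hq
        rw [cond_true]
        refine ⟨hx, ?_⟩
        rw [hq']
        exact u1
      | false =>
        rw [cond_false]
        cases hq2 : Nat.beq (cm cZ D.C.x) D.C.x with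
        | true =>
          have hq' := Nat.eq_of_beq_eq_true hq2
          rw [cond_true]
          refine ⟨valid_z, ?_⟩
          rw [hq']
          exact u2
        | false =>
          rw [cond_false]
          exact ⟨valid_cm valid_z hx, by rwa [hsw] at h3⟩
  have hd1' : D.d1 = cZ ∨ D.d1 = D.C.x ∨ D.d1 = cm cZ D.C.x := by
    rcases he1 with (h | h) | h <;> have := Nat.eq_of_beq_eq_true h <;> tauto
  have hd2' : D.d2 = cZ ∨ D.d2 = D.C.x ∨ D.d2 = cm cZ D.C.x := by
    rcases he2 with (h | h) | h <;> have := Nat.eq_of_beq_eq_true h <;> tauto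
  -- normalise the first image
  obtain ⟨k, hk, hk1⟩ := S.swap_image hC ht (hgR 0 (by norm_num)).1 (hgR 0 (by norm_num)).2
  obtain ⟨hkv, hkx, -⟩ := CentData.el_ok hC hk
  have hP1 : Nat.beq (cm (D.C.el.get k) (sqr (D.C.el.get k))) D.c1 = true ∧
      Nat.beq (sqr (D.C.el.get k)) cOne = false := by
    have h1 := hgR 0 (by norm_num)
    have e2 := S.conj_mul h1.1 h1.1 hkv hkv hk1 hk1
    have e3 := S.conj_mul h1.1 (valid_cm h1.1 h1.1) hkv (valid_cm hkv hkv) hk1 e2
    rw [show cm (D.g.get 0) (cm (D.g.get 0) (D.g.get 0)) = D.d1 from Nat.eq_of_beq_eq_true hd1] at e3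
    obtain ⟨-, i2, i3⟩ := himg _ hd1' ht
    constructor
    · have e4 := S.conj_unique (valid_cm hkv (valid_cm hkv hkv)) i2 e3 i3
      rw [Nat.eq_of_beq_eq_true hc1]
      show Nat.beq (cm (D.C.el.get k) (cm (D.C.el.get k) (D.C.el.get k))) _ = true
      rw [e4]
      exact Nat.beq_refl _
    · cases hq : Nat.beq (sqr (D.C.el.get k)) cOne with
      | false => rfl
      | true =>
        exfalso
        have h4 : cm (D.C.el.get k) (D.C.el.get k) = cOne := Nat.eq_of_beq_eq_true hq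
        rw [h4, S.η_one, one_mul, mul_eq_left] at e2
        have h5 := S.η_inj (valid_cm h1.1 h1.1) valid_one (by rw [e2, S.η_one])
        rw [sqr, h5, Nat.beq_refl] at hsq
        simp at hsq
  simp only [SideD.okFirst, Bool.and_eq_true] at hF
  have hf := allR_apply (k := k) hF.2 (Nat.zero_le _) (by omega)
  simp only [hP1.1, hP1.2, Bool.not_false, Bool.and_true, Bool.not_true, Bool.false_or, List.any_eq_true] at hf
  obtain ⟨p, -, hp⟩ := hf
  simp only [Bool.and_eq_true] at hp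
  obtain ⟨⟨hp1, hp2⟩, hp3⟩ := hp
  obtain ⟨hrv, hrx, -⟩ := SideD.inR_iff hC hp2
  have hu : S.IsSwap D.C.x ((S.η p.2)⁻¹ * t) := S.swap_shift hx hrv hrx ht
  have hu0 : ((S.η p.2)⁻¹ * t) * S.η (D.g.get 0) = S.η D.rep * ((S.η p.2)⁻¹ * t) :=
    S.conj_shift hrv hkv hF.1 hk1 (by rw [← Nat.eq_of_beq_eq_true hp1]; exact Nat.eq_of_beq_eq_true hp3)
  set u := (S.η p.2)⁻¹ * t with hud
  -- the other images
  obtain ⟨k2, hk2, h2⟩ := S.swap_image hC hu (hgR 1 (by norm_num)).1 (hgR 1 (by norm_num)).2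
  obtain ⟨k3, hk3, h3⟩ := S.swap_image hC hu (hgR 2 (by norm_num)).1 (hgR 2 (by norm_num)).2
  have hv2 := (CentData.el_ok hC hk2).1
  have hv3 := (CentData.el_ok hC hk3).1
  let a := tri D.rep (D.C.el.get k2) (D.C.el.get k3)
  have hall : ∀ i, i < 3 → valid (D.g.get i) = true ∧ valid (a.get i) = true ∧
      u * S.η (D.g.get i) = S.η (a.get i) * u := by
    intro i hi
    rcases i with _ | _ | _ | i
    · exact ⟨(hgR 0 hi).1, hF.1, hu0⟩
    · exact ⟨(hgR 1 hi).1, hv2, h2⟩
    · exact ⟨(hgR 2 hi).1, hv3, h3⟩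
    · omega
  have hrel : ∀ l : List (List ℕ × List ℕ), relsHold l D.g = true →
      (∀ q ∈ l, ∀ i ∈ q.1 ++ q.2, i < 3) → relsHold l a = true := by
    intro l hl hlt
    simp only [relsHold, List.all_eq_true] at hl ⊢
    intro q hq
    obtain ⟨c1, c2, c3⟩ := S.conj_ev (t := u) (g := D.g) (a := a) (w := q.1)
      fun i hi => hall i (hlt q hq i (List.mem_append_left _ hi))
    obtain ⟨d1, d2, d3⟩ := S.conj_ev (t := u) (g := D.g) (a := a) (w := q.2)
      fun i hi => hall i (hlt q hq i (List.mem_append_right _ hi))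
    rw [Nat.eq_of_beq_eq_true (hl q hq)] at c1
    rw [S.conj_unique c3 d3 c1 d1]
    exact Nat.beq_refl _
  simp only [List.all_eq_true, Nat.blt_eq] at hl2 hl3
  have hR2 := hrel _ hr2 fun q hq i hi => lt_trans (hl2 q hq i hi) (by norm_num)
  have hR3 := hrel _ hr3 fun q hq i hi => hl3 q hq i hi
  have hR2' : relsHold D.r2 (tri D.rep (D.C.el.get k2) cOne) = true := by
    have e : ∀ w : List ℕ, (∀ i ∈ w, i < 2) →
        ev a w = ev (tri D.rep (D.C.el.get k2) cOne) w := fun w hw => by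
      unfold ev
      congr 1
      refine List.map_congr_left fun i hi => ?_
      have := hw i hi
      rcases i with _ | _ | i
      · rfl
      · rfl
      · omega
    simp only [relsHold, List.all_eq_true] at hR2 ⊢
    intro q hq
    rw [← e q.1 fun i hi => hl2 q hq i (List.mem_append_left _ hi),
      ← e q.2 fun i hi => hl2 q hq i (List.mem_append_right _ hi)]
    exact hR2 q hq
  have hsq2 : Nat.beq (sqr (D.C.el.get k2)) D.c2 = true := by
    obtain ⟨b1, -, b3⟩ := hall 1 (by norm_num)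
    have e := S.conj_mul b1 b1 hv2 hv2 b3 b3
    rw [show cm (D.g.get 1) (D.g.get 1) = D.d2 from Nat.eq_of_beq_eq_true hd2] at e
    obtain ⟨-, i2, i3⟩ := himg _ hd2' hu
    rw [Nat.eq_of_beq_eq_true hc2, sqr]
    rw [S.conj_unique (valid_cm hv2 hv2) i2 e i3]
    exact Nat.beq_refl _
  have hsq3 : Nat.beq (sqr (D.C.el.get k3)) cOne = true := by
    obtain ⟨b1, -, b3⟩ := hall 2 (by norm_num)
    have e := S.conj_mul b1 b1 hv3 hv3 b3 b3
    rw [show cm (D.g.get 2) (D.g.get 2) = cOne from Nat.eq_of_beq_eq_true hd3] at e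
    have e' : u * S.η cOne = S.η cOne * u := by rw [S.η_one, mul_one, one_mul]
    rw [sqr, S.conj_unique (valid_cm hv3 hv3) valid_one e e']
    exact Nat.beq_refl _
  have hr := allR_apply (k := k2) hR (Nat.zero_le _) (by omega)
  simp only [hsq2, hR2', Bool.not_true, Bool.false_or] at hr
  have ht3 := allR_apply (k := k3) hr (Nat.zero_le _) (by omega)
  simp only [hsq3, Bool.not_true, Bool.false_or] at ht3
  rw [show relsHold D.r3 (tri D.rep (D.C.el.get k2) (D.C.el.get k3)) = true from hR3] at ht3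
  simp only [Bool.not_true, Bool.false_or, List.any_eq_true] at ht3
  obtain ⟨s, -, hs⟩ := ht3
  simp only [Bool.and_eq_true, Nat.blt_eq] at hs
  obtain ⟨⟨⟨-, hi16⟩, hsr⟩, hsj⟩ := hs
  obtain ⟨hrv', hrx', -⟩ := SideD.inR_iff hC hsr
  simp only [SideD.okOpts, Bool.and_eq_true] at hO
  obtain ⟨⟨hO1, hO2⟩, hO3⟩ := hO
  have hO1' := allR_apply (k := s.2.1) hO1 (Nat.zero_le _) (by omega)
  have hnew : S.IsSwap D.C.x ((S.η s.2.2)⁻¹ * u) := S.swap_shift hx hrv' hrx' hu
  set t' := (S.η s.2.2)⁻¹ * u with ht'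
  have himj : ∀ j, j < 3 → valid ((D.im.get s.2.1).get j) = true ∧
      t' * S.η (D.g.get j) = S.η ((D.im.get s.2.1).get j) * t' := by
    intro j hj
    have h1 := allR_apply (k := j) hO1' (Nat.zero_le _) (by omega)
    simp only [Bool.and_eq_true] at h1
    obtain ⟨v, -, -⟩ := SideD.inR_iff hC h1.1.1
    obtain ⟨b1, b2, b3⟩ := hall j hj
    exact ⟨v, S.conj_shift hrv' b2 v b3 (Nat.eq_of_beq_eq_true (allR_apply (k := j) hsj (Nat.zero_le _) (by omega)))⟩
  -- the square is inner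
  have hlt : s.2.1 < 4 := by
    by_contra hge
    obtain ⟨n1, n2⟩ := hnew
    have hz2 : t' * t' * S.z = S.z * (t' * t') := by rw [mul_assoc, n1, ← mul_assoc, n2, mul_assoc]
    have hx2 : t' * t' * S.η D.C.x = S.η D.C.x * (t' * t') := by rw [mul_assoc, n2, ← mul_assoc, n1, mul_assoc]
    obtain ⟨d, hd, hde⟩ := S.η_surj hz2
    obtain ⟨k', hk', hke⟩ := CentData.complete hC hd (S.η_inj (valid_cm hd hx) (valid_cm hx hd) (by
      rw [S.η_mul hd hx, S.η_mul hx hd, hde, hx2]))
    have h2a := allR_apply (k := s.2.1) hO2 (by omega) (by omega)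
    have h2 := allR_apply (k := k') h2a (Nat.zero_le _) (by omega)
    have h3 : allR (fun j => Nat.beq (cm (D.C.el.get k') (D.g.get j))
        (cm (ev (D.im.get s.2.1) ((D.imW.get s.2.1).get j)) (D.C.el.get k'))) 0 3 = true := by
      have key : ∀ j, j < 3 → Nat.beq (cm (D.C.el.get k') (D.g.get j))
          (cm (ev (D.im.get s.2.1) ((D.imW.get s.2.1).get j)) (D.C.el.get k')) = true := by
        intro j hj
        have h1 := allR_apply (k := j) hO1' (Nat.zero_le _) (by omega)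
        simp only [Bool.and_eq_true, List.all_eq_true, Nat.blt_eq] at h1
        obtain ⟨c1, -, c3⟩ := S.conj_ev (t := t') (g := D.g) (a := D.im.get s.2.1) (w := (D.imW.get s.2.1).get j)
          fun l hl => ⟨(hgR l (h1.1.2 l hl)).1, (himj l (h1.1.2 l hl)).1, (himj l (h1.1.2 l hl)).2⟩
        rw [Nat.eq_of_beq_eq_true h1.2] at c1
        have hdv : valid (D.C.el.get k') = true := hke ▸ hd
        have e1 : cm (D.C.el.get k') (D.g.get j) =
            cm (ev (D.im.get s.2.1) ((D.imW.get s.2.1).get j)) (D.C.el.get k') :=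
          S.η_inj (valid_cm hdv (hgR j hj).1) (valid_cm c3 hdv) (by
            rw [S.η_mul hdv (hgR j hj).1, S.η_mul c3 hdv, hke, hde, mul_assoc, (himj j hj).2, ← mul_assoc, c1,
              mul_assoc])
        rw [e1]
        exact Nat.beq_refl _
      simp only [allR, key 0 (by norm_num), key 1 (by norm_num), key 2 (by norm_num), Bool.and_self, Bool.and_true]
    rw [h3] at h2
    simp at h2
  refine ⟨s.2.1, hlt, t', hnew, ?_⟩
  have hf4 := allR_apply (k := s.2.1) hO3 (Nat.zero_le _) (by omega)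
  simp only [Bool.and_eq_true] at hf4
  have main : ∀ k, k < D.C.n → valid ((D.fwd.get s.2.1).get k) = true ∧
      t' * S.η (D.C.el.get k) = S.η ((D.fwd.get s.2.1).get k) * t' := by
    intro k
    induction k using Nat.strong_induction_on with
    | _ k ih =>
      intro hk
      rcases Nat.eq_zero_or_pos k with rfl | hpos
      · rw [Nat.eq_of_beq_eq_true hf4.1, Nat.eq_of_beq_eq_true h0, S.η_one, mul_one, one_mul]
        exact ⟨valid_one, rfl⟩
      · have hp := allR_apply (k := k) hpar (by omega) (by omega)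
        simp only [Bool.and_eq_true, Nat.blt_eq] at hp
        obtain ⟨v1, e1⟩ := ih _ hp.1.1 (by omega)
        obtain ⟨v2, e2⟩ := himj _ hp.1.2
        have hf5 := allR_apply (k := k) hf4.2 (by omega) (by omega)
        rw [Nat.eq_of_beq_eq_true hf5, Nat.eq_of_beq_eq_true hp.2]
        exact ⟨valid_cm v1 v2, S.conj_mul (CentData.el_ok hC (by omega)).1 (hgR _ hp.1.2).1 v1 v2 e1 e2⟩
  exact fun k hk => (main k hk).2

end Cfsg.Lib.HeldType
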