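import Cfsg.Agent.HeldType.Frame
import Cfsg.Agent.HeldType.Free

/-!
Centralisers inside a frame, and the two-part of the counted subgroup.
-/

set_option autoImplicit false
set_option maxRecDepth 100000

namespace Cfsg.Lib.HeldType

open scoped Classical

variable {G : Type*} [Group G] {S : Setting G} (F : Frame S)

/-- The centraliser of a representative inside a frame. -/
def Frame.cen (i : ℕ) : Subgroup G := F.L ⊓ Subgroup.centralizer ({S.η (rep i)} : Set G)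

theorem Frame.mem_cen {i : ℕ} {g : G} : g ∈ F.cen i ↔ g ∈ F.L ∧ g * S.η (rep i) = S.η (rep i) * g :=
  ⟨fun h => ⟨h.1, Subgroup.mem_centralizer_singleton_iff.mp h.2⟩,
    fun h => ⟨h.1, Subgroup.mem_centralizer_singleton_iff.mpr h.2⟩⟩

theorem Frame.repG_le {i : ℕ} : S.repG i ≤ F.cen i := fun _ hg => ⟨F.K_le hg.1, hg.2⟩

/-- Two classes are joined inside the frame. -/
def Frame.Joined (i j : ℕ) : Prop := ∃ l ∈ F.L, l * S.η (rep i) * l⁻¹ = S.η (rep j)

theorem Frame.Joined.symm {F : Frame S} {i j : ℕ} (h : F.Joined i j) : F.Joined j i := by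
  obtain ⟨l, hl, e⟩ := h
  exact ⟨l⁻¹, F.L.inv_mem hl, by rw [← e]; group⟩

theorem Frame.Joined.trans {F : Frame S} {i j k : ℕ} (h : F.Joined i j) (h' : F.Joined j k) : F.Joined i k := by
  obtain ⟨l, hl, e⟩ := h
  obtain ⟨m, hm, e'⟩ := h'
  exact ⟨m * l, F.L.mul_mem hm hl, by rw [← e', ← e]; group⟩

variable [Finite G]

/-- The double count of commuting pairs of conjugates. -/
theorem Frame.tally {i : ℕ} (B : Finset ℕ)
    (hB : ∀ c ∈ B, valid c = true ∧ ∃ l ∈ F.L, l * S.η (rep i) * l⁻¹ = S.η c) :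
    B.card * Nat.card (F.cen i) ≤
      21504 * Nat.card {y : G // y ∈ S.cls ∧ y ∈ F.L ∧ y * S.η (rep i) = S.η (rep i) * y} := by
  set u := S.η (rep i) with hu
  choose! l hl hle using fun c hc => (hB c hc).2
  let Y := {y : G // y ∈ S.cls ∧ y ∈ F.L ∧ y * u = u * y}
  have hy : ∀ p : B × F.cen i, (l p.1.1 * p.2.1)⁻¹ * S.z * (l p.1.1 * p.2.1) ∈ S.cls ∧
      (l p.1.1 * p.2.1)⁻¹ * S.z * (l p.1.1 * p.2.1) ∈ F.L ∧
      (l p.1.1 * p.2.1)⁻¹ * S.z * (l p.1.1 * p.2.1) * u = u * ((l p.1.1 * p.2.1)⁻¹ * S.z * (l p.1.1 * p.2.1)) := by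
    intro p
    set f := l p.1.1 * p.2.1 with hf
    have hfL : f ∈ F.L := F.L.mul_mem (hl _ p.1.2) p.2.2.1
    refine ⟨isConj_iff.mpr ⟨f⁻¹, by rw [inv_inv]⟩,
      F.L.mul_mem (F.L.mul_mem (F.L.inv_mem hfL) (F.K_le (S.mem_K.mpr rfl))) hfL, ?_⟩
    have hfu : f * u * f⁻¹ = S.η p.1.1 := by
      rw [← hle _ p.1.2, hf, mul_assoc (l p.1.1), (F.mem_cen.mp p.2.2).2]
      group
      simp [hu]
    have hc : S.η p.1.1 * S.z = S.z * S.η p.1.1 := S.η_comm (hB _ p.1.2).1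
    rw [← hfu] at hc
    calc f⁻¹ * S.z * f * u = f⁻¹ * (S.z * (f * u * f⁻¹)) * f := by group
      _ = f⁻¹ * (f * u * f⁻¹ * S.z) * f := by rw [hc]
      _ = u * (f⁻¹ * S.z * f) := by group
  choose g hg hge using fun y : Y => F.fused_conj y.2.2.1 y.2.1
  let yv : B × F.cen i → Y := fun p => ⟨_, hy p⟩
  have hk : ∀ p : B × F.cen i, l p.1.1 * p.2.1 * g (yv p) ∈ S.K := fun p => S.mem_K.mpr (by
    have e := hge (yv p)
    simp only [yv] at e ⊢
    rw [mul_inv_eq_iff_eq_mul] at e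
    rw [mul_assoc (l p.1.1 * p.2.1), e]
    group)
  have hle' : Nat.card (B × F.cen i) ≤ Nat.card (S.K × Y) := by
    refine Nat.card_le_card_of_injective (fun p => (⟨_, hk p⟩, yv p)) fun p q e => ?_
    rw [Prod.mk.injEq] at e
    obtain ⟨e1, e2⟩ := e
    have e1' := congrArg Subtype.val e1
    simp only [e2] at e1'
    have ef := mul_right_cancel e1'
    have ec : ∀ r : B × F.cen i, l r.1.1 * r.2.1 * u * (l r.1.1 * r.2.1)⁻¹ = S.η r.1.1 := fun r => by
      rw [← hle _ r.1.2, mul_assoc (l r.1.1), (F.mem_cen.mp r.2.2).2]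
      group
      simp [hu]
    have h1 : p.1 = q.1 := Subtype.ext (S.η_inj (hB _ p.1.2).1 (hB _ q.1.2).1 (by rw [← ec p, ← ec q, ef]))
    refine Prod.ext h1 (Subtype.ext ?_)
    rw [h1] at ef
    exact mul_left_cancel ef
  rw [Nat.card_prod, Nat.card_prod, S.card_K, Nat.card_eq_finsetCard] at hle'
  exact hle'

/-- A two-group centralising an unfused representative is not larger than the coded centralisers. -/
theorem Frame.two_bound {i : ℕ} (hi : i < 8) (hF : F.fused i = false) {T : Subgroup G} (hT : IsPGroup 2 T)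
    (hle : T ≤ F.cen i) : ∃ j < 8, j ≠ 3 ∧ F.fused j = false ∧ F.Joined i j ∧ Nat.card T ∣ (repC j).n := by
  haveI : Fact (Nat.Prime 2) := ⟨Nat.prime_two⟩
  set u := S.η (rep i) with hu
  have huL : u ∈ F.L := F.η_mem _ (rep_valid ⟨i, hi⟩)
  have hu2 : IsPGroup 2 (Subgroup.zpowers u) := IsPGroup.of_card (n := 1) (by rw [Nat.card_zpowers, S.rep_order hi]; rfl)
  have hsup : IsPGroup 2 (T ⊔ Subgroup.zpowers u : Subgroup G) := by
    refine IsPGroup.to_sup_of_normal_left' hT hu2 ?_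
    rw [Subgroup.zpowers_le]
    refine Subgroup.mem_normalizer_iff.mpr fun g => ?_
    constructor <;> intro hg
    · have := (F.mem_cen.mp (hle hg)).2
      rwa [← this, mul_inv_cancel_right]
    · have h1 := (F.mem_cen.mp (hle hg)).2
      have : g = u * g * u⁻¹ := by
        calc g = u⁻¹ * (u * g * u⁻¹ * u) := by group
          _ = u⁻¹ * (u * (u * g * u⁻¹)) := by rw [h1]
          _ = u * g * u⁻¹ := by group
      exact this ▸ hg
  set T' : Subgroup G := T ⊔ Subgroup.zpowers u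
  have hT'L : T' ≤ F.L := sup_le (hle.trans inf_le_left) (by rw [Subgroup.zpowers_le]; exact huL)
  obtain ⟨P, hP, -⟩ := S.sylow_exists
  let PL : Sylow 2 F.L := P.subtype (hP.trans F.K_le)
  have hT'p : IsPGroup 2 (T'.subgroupOf F.L) :=
    hsup.of_equiv (Subgroup.subgroupOfEquivOfLe hT'L).symm
  obtain ⟨R, hR⟩ := hT'p.exists_le_sylow
  obtain ⟨g, hg⟩ := MulAction.exists_smul_eq F.L R PL
  have hconj : ∀ x (hx : x ∈ T'), (g : G) * x * (g : G)⁻¹ ∈ S.K := fun x hx => by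
    refine hP ?_
    have h1 : g * ⟨x, hT'L hx⟩ * g⁻¹ ∈ (PL : Subgroup F.L) := by
      rw [← hg]
      exact Subgroup.smul_mem_pointwise_smul _ _ _ (hR (Subgroup.mem_subgroupOf.mpr hx))
    exact h1
  have hu' : u ∈ T' := Subgroup.mem_sup_right (Subgroup.mem_zpowers u)
  obtain ⟨j, hj, h, hh, he⟩ := S.exists_class (y := g * u * (g : G)⁻¹)
    ((orderOf_injective (MulAut.conj (g : G)).toMonoidHom (MulAut.conj (g : G)).injective u).trans (S.rep_order hi))
    (S.mem_K.mp (hconj u hu'))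
  have hJ : F.Joined i j := ⟨h⁻¹ * g, F.L.mul_mem (F.L.inv_mem (F.K_le hh)) g.2, by
    calc h⁻¹ * g * S.η (rep i) * (h⁻¹ * g)⁻¹ = h⁻¹ * (g * u * (g : G)⁻¹) * h := by rw [hu]; group
      _ = S.η (rep j) := by rw [← he]; group⟩
  have hjf : F.fused j = false := by
    cases e : F.fused j with
    | false => rfl
    | true =>
      obtain ⟨m, hm, hme⟩ := F.inside j hj e
      obtain ⟨l, hl, hle⟩ := hJ.symm
      exact absurd (isConj_iff.mpr ⟨l * m, by rw [← hle, ← hme]; group⟩) (F.outside i hi hF)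
  have hj3 : j ≠ 3 := fun e => by rw [e, F.three] at hjf; simp at hjf
  refine ⟨j, hj, hj3, hjf, hJ, ?_⟩
  have hsub : T.map (MulAut.conj (h⁻¹ * g)).toMonoidHom ≤ S.repG j := by
    rintro _ ⟨x, hx, rfl⟩
    simp only [MulEquiv.coe_toMonoidHom, MulAut.conj_apply]
    refine ⟨?_, Subgroup.mem_centralizer_singleton_iff.mpr ?_⟩
    · have := S.K.mul_mem (S.K.mul_mem (S.K.inv_mem hh) (hconj x (Subgroup.mem_sup_left hx))) hh
      rwa [show h⁻¹ * g * x * (h⁻¹ * g)⁻¹ = h⁻¹ * (g * x * (g : G)⁻¹) * h by group]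
    · obtain ⟨-, hc⟩ := F.mem_cen.mp (hle hx)
      have hr : S.η (rep j) = h⁻¹ * g * u * (h⁻¹ * g)⁻¹ := by
        calc S.η (rep j) = h⁻¹ * (g * u * (g : G)⁻¹) * h := by rw [← he]; group
          _ = _ := by group
      rw [hr, show h⁻¹ * g * x * (h⁻¹ * g)⁻¹ * (h⁻¹ * g * u * (h⁻¹ * g)⁻¹) = h⁻¹ * g * (x * u) * (h⁻¹ * g)⁻¹ by group,
        show x * u = u * x from hc]
      group
  have hd := Subgroup.card_dvd_of_le hsub
  rwa [← Nat.card_congr (T.equivMapOfInjective _ (MulAut.conj (h⁻¹ * g)).injective).toEquiv,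
    S.card_repG hj hj3] at hd

/-- The two-part of the centraliser. -/
theorem Frame.cen_part {i e : ℕ} (hi : i < 8) (h3 : i ≠ 3) (hF : F.fused i = false) (hn : (repC i).n = 2 ^ e)
    (hmax : ∀ j < 8, j ≠ 3 → F.fused j = false → F.Joined i j → ¬ 2 ^ (e + 1) ∣ (repC j).n) :
    ∃ m, Odd m ∧ Nat.card (F.cen i) = 2 ^ e * m := by
  haveI : Fact (Nat.Prime 2) := ⟨Nat.prime_two⟩
  have hd : 2 ^ e ∣ Nat.card (F.cen i) := by
    rw [← hn, ← S.card_repG hi h3]
    exact Subgroup.card_dvd_of_le F.repG_le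
  obtain ⟨m, hm⟩ := hd
  refine ⟨m, ?_, hm⟩
  rw [← Nat.not_even_iff_odd]
  intro hev
  obtain ⟨c, rfl⟩ := hev.two_dvd
  obtain ⟨T, hT⟩ := Sylow.exists_subgroup_card_pow_prime (G := F.cen i) 2 (n := e + 1)
    ⟨c, by rw [hm, pow_succ, mul_assoc]⟩
  have hTc : Nat.card (T.map (F.cen i).subtype) = 2 ^ (e + 1) := by
    rw [← hT]
    exact (Nat.card_congr (T.equivMapOfInjective _ (F.cen i).subtype_injective).toEquiv).symm
  obtain ⟨j, hj, hj3, hjf, hJ, hdv⟩ := F.two_bound hi hF (IsPGroup.of_card hTc) (Subgroup.map_subtype_le T)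
  rw [hTc] at hdv
  exact hmax j hj hj3 hjf hJ hdv

/-- The subgroup of a pinch has two-part at most eight. -/
theorem Frame.pinch_part {i e k : ℕ} {Γ : Set G} {L2 L4 L8 : List (List ℕ)} {Fs : List ℕ} (hi : i < 8) (h3 : i ≠ 3)
    (hn : (repC i).n = 2 ^ e) {m : ℕ} (hm : Odd m) (hcard : Nat.card (F.cen i) = 2 ^ e * m)
    (hok : freeOK i Fs L2 L4 L8 = true) (hΓ : OneFix F.L Γ)
    (hFs : ∀ c, valid c = true → inSet Fs c = true → S.η c ∈ Γ) (P : Pinch F.L Γ (S.η (rep i)) k) :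
    ∃ T : Subgroup G, T ≤ P.D ∧ S.η (rep i) ∈ T ∧ Nat.card T ∣ 8 ∧ Nat.card P.D ∣ Nat.card T * m ∧
      Odd (Nat.card P.D / Nat.card T) ∧
      (Nat.card T = 8 → ∃ c ∈ F.cen i, ∃ Q ∈ L8, ∀ y, y ∈ T ↔ ∃ q ∈ Q, S.η q = c * y * c⁻¹) := by
  haveI : Fact (Nat.Prime 2) := ⟨Nat.prime_two⟩
  have hDC : P.D ≤ F.cen i := fun d hd => F.mem_cen.mpr (P.le d hd)
  set uD : P.D := ⟨(S.η (rep i)), P.u_mem⟩
  have hup : IsPGroup 2 (Subgroup.zpowers uD) := IsPGroup.of_card (n := 1) (by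
    rw [Nat.card_zpowers, Subgroup.orderOf_mk, S.rep_order hi]; rfl)
  obtain ⟨Ts, hTs⟩ := hup.exists_le_sylow
  set T : Subgroup G := (Ts : Subgroup P.D).map P.D.subtype with hTdef
  have hTD : T ≤ P.D := Subgroup.map_subtype_le _
  have huT : (S.η (rep i)) ∈ T := ⟨uD, hTs (Subgroup.mem_zpowers uD), rfl⟩
  have hTp : IsPGroup 2 T := Ts.2.map _
  have hcT : Nat.card T = Nat.card (Ts : Subgroup P.D) :=
    (Nat.card_congr ((Ts : Subgroup P.D).equivMapOfInjective _ P.D.subtype_injective).toEquiv).symm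
  -- the coded centraliser is a Sylow subgroup of the centraliser
  set R : Subgroup (F.cen i) := (S.repG i).subgroupOf (F.cen i) with hR
  have hRc : Nat.card R = 2 ^ e := by
    rw [hR, Nat.card_congr (Subgroup.subgroupOfEquivOfLe F.repG_le).toEquiv, S.card_repG hi h3, hn]
  have hfac : Nat.card R = 2 ^ (Nat.card (F.cen i)).factorization 2 := by
    rw [hRc, hcard, Nat.factorization_mul (by positivity) hm.pos.ne', Finsupp.add_apply,
      Nat.Prime.factorization_pow Nat.prime_two, Finsupp.single_eq_same,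
      Nat.factorization_eq_zero_of_not_dvd (fun h => by rw [← even_iff_two_dvd, ← Nat.not_odd_iff_even] at h; exact h hm),
      add_zero]
  let PR : Sylow 2 (F.cen i) := Sylow.ofCard R hfac
  obtain ⟨Q0, hQ0⟩ := (hTp.of_equiv (Subgroup.subgroupOfEquivOfLe (hTD.trans hDC)).symm).exists_le_sylow
  obtain ⟨c, hc⟩ := MulAction.exists_smul_eq (F.cen i) Q0 PR
  have hconj : ∀ x (hx : x ∈ T), (c : G) * x * (c : G)⁻¹ ∈ S.repG i := fun x hx => by
    have h1 : c * ⟨x, hTD.trans hDC hx⟩ * c⁻¹ ∈ (PR : Subgroup (F.cen i)) := by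
      rw [← hc]
      exact Subgroup.smul_mem_pointwise_smul _ _ _ (hQ0 (Subgroup.mem_subgroupOf.mpr hx))
    exact h1
  set T' : Subgroup G := T.map (MulAut.conj (c : G)).toMonoidHom with hT'
  have hcT' : Nat.card T' = Nat.card T :=
    (Nat.card_congr (T.equivMapOfInjective _ (MulAut.conj (c : G)).injective).toEquiv).symm
  obtain ⟨hle8, hlist⟩ := S.free_le hi h3 hok (T := T') (hTp.map _)
    ⟨(S.η (rep i)), huT, by
      simp only [MulEquiv.coe_toMonoidHom, MulAut.conj_apply]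
      rw [(F.mem_cen.mp c.2).2, mul_inv_cancel_right]⟩
    (by
      rintro _ ⟨x, hx, rfl⟩
      obtain ⟨h1, h2⟩ := hconj x hx
      exact ⟨S.mem_K.mp h1, Subgroup.mem_centralizer_singleton_iff.mp h2⟩)
    (by
      intro q hq hqT
      obtain ⟨x, hx, hxe⟩ := hqT
      cases hin : inSet Fs q with
      | false => rfl
      | true =>
        exfalso
        have hy := hΓ.conj (c : G)⁻¹ _ (hFs q hq hin)
        rw [← hxe] at hy
        simp only [MulEquiv.coe_toMonoidHom, MulAut.conj_apply, inv_inv] at hy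
        rw [show (c : G)⁻¹ * ((c : G) * x * (c : G)⁻¹) * c = x by group] at hy
        exact P.free x hy (hTD hx))
  rw [hcT'] at hle8 hlist
  obtain ⟨a, ha⟩ := IsPGroup.iff_card.mp hTp
  have hT8 : Nat.card T ∣ 8 := by
    rw [ha] at hle8 ⊢
    exact (pow_dvd_pow 2 (show a ≤ 3 by
      by_contra hh
      have := Nat.pow_le_pow_right (show 1 ≤ 2 by norm_num) (show 4 ≤ a by omega)
      omega)).trans (by norm_num)
  have hidx : ¬ 2 ∣ (Ts : Subgroup P.D).index := Sylow.not_dvd_index Ts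
  have hDeq : Nat.card P.D = Nat.card T * (Ts : Subgroup P.D).index := by
    rw [hcT, Subgroup.card_mul_index]
  refine ⟨T, hTD, huT, hT8, ?_, ?_, fun h8 => ?_⟩
  · rw [hDeq]
    refine Nat.mul_dvd_mul_left _ ?_
    have h1 : (Ts : Subgroup P.D).index ∣ 2 ^ e * m := by
      rw [← hcard]
      exact (Dvd.intro_left _ hDeq.symm).trans (Subgroup.card_dvd_of_le hDC)
    exact (Nat.Coprime.pow_right e ((Nat.prime_two.coprime_iff_not_dvd.mpr hidx).symm)).dvd_of_dvd_mul_left h1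
  · rw [hDeq, Nat.mul_div_cancel_left _ Nat.card_pos, ← Nat.not_even_iff_odd, even_iff_two_dvd]
    exact hidx
  · obtain ⟨Q, hQ, hQe⟩ := hlist h8
    refine ⟨c, c.2, Q, hQ, fun y => ⟨fun hy => ?_, ?_⟩⟩
    · have : (MulAut.conj (c : G)).toMonoidHom y ∈ (T' : Set G) := Subgroup.mem_map_of_mem _ hy
      rw [hQe] at this
      exact this
    · rintro ⟨q, hq, e⟩
      have h1 : S.η q ∈ (T' : Set G) := by rw [hQe]; exact ⟨q, hq, rfl⟩
      obtain ⟨x, hx, hxe⟩ := h1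
      simp only [MulEquiv.coe_toMonoidHom, MulAut.conj_apply, e] at hxe
      rwa [← mul_left_cancel (mul_right_cancel hxe)]

end Cfsg.Lib.HeldType
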