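import Cfsg.Agent.HeldType.LocalA

/-!
An enumeration of double cosets.
-/

set_option autoImplicit false
set_option maxRecDepth 100000

namespace Cfsg.Lib.HeldType

/-- The facts. -/
def caseATrivialFacts : Tab Fct :=
(.node 34 (.node 17 (.node 8 (.node 4 (.node 2 (.node 1 (.leaf ⟨0, 17043521, none, 0, 32125001⟩) (.leaf ⟨0, 17043521, none, 0, 10971209⟩)) (.node 1 (.leaf ⟨0, 13510735, (some false), 1, 17043521⟩) (.leaf ⟨1, 17043521, (some false), 0, 29761631⟩)))
(.node 2 (.node 1 (.leaf ⟨0, 13310023, (some false), 1, 17242181⟩) (.leaf ⟨0, 31801425, (some false), 1, 17242181⟩)) (.node 1 (.leaf ⟨0, 6776923, (some false), 1, 17242181⟩) (.leaf ⟨0, 17043521, (some false), 1, 17043521⟩))))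
(.node 4 (.node 2 (.node 1 (.leaf ⟨0, 32125001, (some false), 1, 17043521⟩) (.leaf ⟨0, 4808797, (some false), 1, 17043521⟩)) (.node 1 (.leaf ⟨0, 23928925, (some false), 1, 17043521⟩) (.leaf ⟨0, 7292999, (some false), 1, 17043521⟩)))
(.node 2 (.node 1 (.leaf ⟨0, 9056345, (some false), 1, 17043521⟩) (.leaf ⟨0, 19085399, (some false), 1, 17190985⟩)) (.node 1 (.leaf ⟨0, 10971209, (some false), 1, 17780807⟩) (.node 1 (.leaf ⟨0, 29904967, (some false), 1, 17780807⟩) (.leaf ⟨0, 27529303, (some false), 1, 17780807⟩))))))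
(.node 8 (.node 4 (.node 2 (.node 1 (.leaf ⟨1, 17068125, none, 1, 17043521⟩) (.leaf ⟨1, 17240159, none, 1, 17043521⟩)) (.node 1 (.leaf ⟨1, 17442885, none, 1, 17043521⟩) (.leaf ⟨1, 17043521, none, 1, 16998489⟩)))
(.node 2 (.node 1 (.leaf ⟨1, 17043521, none, 1, 17240153⟩) (.leaf ⟨1, 17043521, none, 1, 17068101⟩)) (.node 1 (.leaf ⟨1, 27529303, (some false), 10, 17043521⟩) (.leaf ⟨10, 17043521, (some false), 1, 25516101⟩))))
(.node 4 (.node 2 (.node 1 (.leaf ⟨1, 7292999, (some false), 10, 17260621⟩) (.leaf ⟨1, 29904967, (some false), 10, 17510493⟩)) (.node 1 (.leaf ⟨1, 10971209, (some false), 10, 17109069⟩) (.leaf ⟨1, 13310023, (some false), 10, 17512543⟩)))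
(.node 2 (.node 1 (.leaf ⟨1, 6776923, (some false), 10, 17578055⟩) (.leaf ⟨1, 13510735, (some false), 10, 17444947⟩)) (.node 1 (.leaf ⟨1, 31801425, (some false), 10, 17526857⟩) (.node 1 (.leaf ⟨10, 17197137, none, 10, 17260621⟩) (.leaf ⟨10, 17651783, none, 10, 17043521⟩)))))))
(.node 17 (.node 8 (.node 4 (.node 2 (.node 1 (.leaf ⟨10, 17043521, none, 10, 17651797⟩) (.leaf ⟨10, 17043521, none, 10, 17111129⟩)) (.node 1 (.leaf ⟨10, 19085399, (some false), 11, 17043521⟩) (.leaf ⟨11, 19085399, (some false), 12, 17043521⟩)))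
(.node 2 (.node 1 (.leaf ⟨12, 17043521, (some false), 11, 19560517⟩) (.leaf ⟨1, 9246811, none, 12, 19798103⟩)) (.node 1 (.leaf ⟨12, 17043521, none, 1, 29757531⟩) (.leaf ⟨11, 19812419, none, 10, 17444947⟩))))
(.node 4 (.node 2 (.node 1 (.leaf ⟨11, 17043521, none, 10, 19032147⟩) (.leaf ⟨10, 13510735, (some false), 28, 17043521⟩)) (.node 1 (.leaf ⟨28, 17043521, (some false), 10, 29761631⟩) (.leaf ⟨28, 17043521, (some true), 37, 17043521⟩)))
(.node 2 (.node 1 (.leaf ⟨37, 17043521, (some true), 28, 17059921⟩) (.leaf ⟨37, 17043521, (some false), 38, 17043521⟩)) (.node 1 (.leaf ⟨38, 17043521, (some false), 37, 17127489⟩) (.node 1 (.leaf ⟨38, 25385043, (some true), 39, 17043521⟩) (.leaf ⟨39, 17043521, (some true), 38, 25892931⟩))))))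
(.node 8 (.node 4 (.node 2 (.node 1 (.leaf ⟨10, 13527121, none, 39, 15294541⟩) (.leaf ⟨39, 17043521, none, 10, 19667033⟩)) (.node 1 (.leaf ⟨10, 17043521, (some true), 38, 10973251⟩) (.leaf ⟨10, 17059919, (some true), 38, 25890881⟩)))
(.node 2 (.node 1 (.leaf ⟨38, 8542273, none, 38, 10973251⟩) (.leaf ⟨38, 17043521, none, 38, 19748931⟩)) (.node 1 (.leaf ⟨38, 19085399, (some false), 37, 17180741⟩) (.leaf ⟨10, 11024471, none, 10, 11360345⟩))))
(.node 4 (.node 2 (.node 1 (.leaf ⟨10, 17043521, none, 10, 17594437⟩) (.leaf ⟨1, 21192771, none, 1, 25516101⟩)) (.node 1 (.leaf ⟨1, 17043521, none, 1, 5130313⟩) (.leaf ⟨10, 17260637, none, 0, 29761631⟩)))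
(.node 2 (.node 1 (.leaf ⟨10, 17043521, none, 0, 27611203⟩) (.leaf ⟨11, 17461321, none, 1, 17780807⟩)) (.node 1 (.leaf ⟨0, 13586521, none, 1, 17780807⟩) (.node 1 (.leaf ⟨1, 17043521, none, 0, 27529289⟩) (.leaf ⟨0, 13510735, (some false), 0, 27529289⟩))))))))

/-- The reasons. -/
def caseATrivialSrc : Tab Src :=
(.node 34 (.node 17 (.node 8 (.node 4 (.node 2 (.node 1 (.leaf .root) (.leaf .root)) (.node 1 (.leaf .dfn) (.leaf (.mov 1 17043521 false [.edge 2 0 true]))))
(.node 2 (.node 1 (.leaf (.mov 0 13310023 false [.plain 0 9205855 true, .edge 2 37 false])) (.leaf (.mov 0 31801425 false [.plain 0 13310023 true, .edge 4 0 false]))) (.node 1 (.leaf (.mov 0 6776923 false [.plain 0 31801425 true, .edge 5 0 false])) (.leaf (.mov 0 17043521 false [.plain 0 23951451 true, .edge 6 735 false])))))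
(.node 4 (.node 2 (.node 1 (.leaf (.mov 0 32125001 false [.plain 0 17043521 true, .edge 7 0 false])) (.leaf (.mov 0 4808797 false [.plain 0 32125001 true, .edge 8 0 false]))) (.node 1 (.leaf (.mov 0 23928925 false [.plain 1 32125001 true, .edge 8 0 false])) (.leaf (.mov 0 7292999 false [.plain 0 23928925 true, .edge 10 0 false]))))
(.node 2 (.node 1 (.leaf (.mov 0 9056345 false [.plain 0 7292999 true, .edge 11 0 false])) (.leaf (.mov 0 19085399 false [.plain 0 32202817 true, .edge 12 342 false]))) (.node 1 (.leaf (.mov 0 10971209 false [.plain 0 19099727 true, .edge 13 1376 false])) (.node 1 (.leaf (.mov 0 29904967 false [.plain 0 10971209 true, .edge 14 0 false])) (.leaf (.mov 0 27529303 false [.plain 0 29904967 true, .edge 15 0 false])))))))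
(.node 8 (.node 4 (.node 2 (.node 1 (.leaf (.eqT 0 13510735 false [.plain 1 6766657 true, .edge 5 77 false] [.edge 2 0 false])) (.leaf (.eqT 0 4808797 false [.plain 1 29579355 true, .edge 4 1015 false] [.edge 9 0 false]))) (.node 1 (.leaf (.eqT 0 7292999 false [.plain 1 21127235 true, .edge 2 1452 false] [.edge 11 0 false])) (.leaf (.eq 1 17043521 [] [.plain 19 16998489 false]))))
(.node 2 (.node 1 (.leaf (.eq 1 17043521 [] [.plain 18 17240153 false])) (.leaf (.eq 1 17043521 [] [.plain 17 17068101 false]))) (.node 1 (.leaf .dfn) (.leaf (.mov 10 17043521 false [.edge 23 0 true])))))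
(.node 4 (.node 2 (.node 1 (.leaf (.mov 1 7292999 false [.plain 20 6975573 true, .edge 23 1205 false])) (.leaf (.mov 1 29904967 false [.plain 20 29640787 true, .edge 25 181 false]))) (.node 1 (.leaf (.mov 1 10971209 false [.plain 20 11022419 true, .edge 26 1032 false])) (.leaf (.mov 1 13310023 false [.plain 22 13332571 true, .edge 27 1433 false]))))
(.node 2 (.node 1 (.leaf (.mov 1 6776923 false [.plain 20 7221313 true, .edge 28 317 false])) (.leaf (.mov 1 13510735 false [.plain 21 13248599 true, .edge 29 877 false]))) (.node 1 (.leaf (.mov 1 31801425 false [.plain 20 31924289 true, .edge 30 359 false])) (.node 1 (.leaf (.eqT 1 7292999 false [.plain 21 6768719 true, .edge 25 795 false] [.edge 25 0 false])) (.leaf (.eqT 1 27529303 false [.plain 22 27547713 true, .edge 23 1358 false] [.edge 23 0 false]))))))))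
(.node 17 (.node 8 (.node 4 (.node 2 (.node 1 (.leaf (.eq 10 17043521 [] [.plain 33 17651797 false])) (.leaf (.eq 10 17043521 [] [.plain 32 17528913 false]))) (.node 1 (.leaf .dfn) (.leaf .dfn)))
(.node 2 (.node 1 (.leaf (.mov 12 17043521 false [.edge 37 0 true])) (.leaf (.rel 1 9246811 0 [.edge 23 108 false, .mul, .edge 36 869 false, .mul, .edge 37 500 false, .mul, .mul]))) (.node 1 (.leaf (.eq 12 17043521 [] [.plain 39 19798103 true])) (.leaf (.eqT 1 13510735 false [.plain 40 17508427 true, .edge 38 1069 false] [.edge 30 0 false])))))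
(.node 4 (.node 2 (.node 1 (.leaf (.eq 11 17043521 [] [.plain 41 19290179 false])) (.leaf .dfn)) (.node 1 (.leaf (.mov 28 17043521 false [.edge 43 0 true])) (.leaf .dfn)))
(.node 2 (.node 1 (.leaf (.mov 37 17043521 true [.edge 45 0 true])) (.leaf .dfn)) (.node 1 (.leaf (.mov 38 17043521 false [.edge 47 0 true])) (.node 1 (.leaf .dfn) (.leaf (.mov 39 17043521 true [.edge 49 0 true])))))))
(.node 8 (.node 4 (.node 2 (.node 1 (.leaf (.rel 10 13527121 2 [.edge 43 294 false, .edge 45 430 false, .edge 47 640 false, .mul, .edge 49 553 false, .mul])) (.leaf (.eq 39 17043521 [] [.plain 51 10973267 true]))) (.node 1 (.leaf (.mov 10 17043521 true [.plain 52 19732553 true, .edge 50 867 false])) (.leaf (.mov 10 17059919 true [.plain 34 17635417 true, .edge 53 1189 false]))))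
(.node 2 (.node 1 (.leaf (.eqT 10 17043521 true [.plain 35 17111131 true, .edge 53 1243 false] [.edge 53 0 false])) (.leaf (.eq 38 17043521 [] [.plain 55 15212609 false]))) (.node 1 (.leaf (.mov 38 19085399 false [.plain 56 17461333 true, .edge 48 353 false])) (.leaf (.rel 10 11024471 3 [.edge 54 740 false, .edge 57 546 false, .mul, .edge 46 101 false, .edge 44 1365 false, .mul])))))
(.node 4 (.node 2 (.node 1 (.leaf (.eq 10 17043521 [] [.plain 58 8999007 false])) (.leaf (.eqT 10 17043521 false [.plain 59 17578063 true, .edge 24 223 false] [.edge 24 0 false]))) (.node 1 (.leaf (.eq 1 17043521 [] [.plain 60 28256323 false])) (.leaf (.eqT 1 17043521 false [.plain 61 7290975 true, .edge 31 747 false] [.edge 3 0 false]))))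
(.node 2 (.node 1 (.leaf (.eq 10 17043521 [] [.plain 62 17463387 false])) (.leaf (.eqT 0 27529303 false [.plain 63 19224661 true, .edge 36 747 false] [.edge 16 0 false]))) (.node 1 (.leaf (.eq 11 17461321 [.plain 42 17461321 false, .plain 63 19798107 false] [.plain 64 17043521 false])) (.node 1 (.leaf (.eq 1 17043521 [] [.plain 65 17256535 true])) (.leaf (.mov 0 13510735 false [.edge 2 0 false, .plain 66 17043521 false])))))))))

/-- The definitions. -/
def caseATrivialDefs : Tab (ℕ × ℕ × Bool) :=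
(.node 20 (.node 10 (.node 5 (.node 2 (.node 1 (.leaf (0, 17043521, false)) (.leaf (0, 13510735, false))) (.node 1 (.leaf (1, 19085399, false)) (.node 1 (.leaf (2, 19085399, false)) (.leaf (0, 13310023, true)))))
(.node 2 (.node 1 (.leaf (4, 17059919, true)) (.leaf (5, 17059919, true))) (.node 1 (.leaf (1, 11495495, true)) (.node 1 (.leaf (7, 13510735, false)) (.leaf (8, 17043521, true))))))
(.node 5 (.node 2 (.node 1 (.leaf (1, 27529303, false)) (.leaf (10, 19085399, false))) (.node 1 (.leaf (11, 19085399, false)) (.node 1 (.leaf (1, 4544593, true)) (.leaf (13, 17059919, true)))))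
(.node 2 (.node 1 (.leaf (14, 17059919, true)) (.leaf (10, 25385043, true))) (.node 1 (.leaf (16, 4808797, false)) (.node 1 (.leaf (17, 11495495, true)) (.leaf (4, 32125001, false)))))))
(.node 10 (.node 5 (.node 2 (.node 1 (.leaf (19, 19085399, false)) (.leaf (20, 19085399, false))) (.node 1 (.leaf (4, 4544593, true)) (.node 1 (.leaf (22, 17059919, true)) (.leaf (23, 17059919, true)))))
(.node 2 (.node 1 (.leaf (19, 25385043, true)) (.leaf (25, 4808797, false))) (.node 1 (.leaf (26, 11495495, true)) (.node 1 (.leaf (10, 13510735, false)) (.leaf (28, 19085399, false))))))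
(.node 5 (.node 2 (.node 1 (.leaf (29, 19085399, false)) (.leaf (10, 32131155, true))) (.node 1 (.leaf (31, 17059919, true)) (.node 1 (.leaf (32, 17059919, true)) (.leaf (10, 13310023, true)))))
(.node 2 (.node 1 (.leaf (34, 17059919, true)) (.leaf (35, 17059919, true))) (.node 1 (.leaf (28, 17043521, true)) (.node 1 (.leaf (37, 17043521, false)) (.leaf (38, 25385043, true))))))))

/-- The relators. -/
def caseATrivialRels : List (List Let) :=
  [[.t false, .h 19140673, .t false, .h 19140673, .t false, .h 19140673, .h 17764417],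
  [.t true, .h 17043525, .t true, .h 17043525, .t true, .h 17043525, .h 17633345],
  [.t false, .t true, .t false, .h 19355723, .t true, .h 19294291],
  [.t true, .t false, .h 16920641, .t true, .t false, .h 17782875]]

/-- The enumeration. -/
def caseATrivial : EnumD := ⟨40, caseATrivialDefs, 68, caseATrivialFacts, caseATrivialSrc, caseATrivialRels⟩

/-- The origin of the relators. -/
def caseATrivialFrom : List (Bool × ℕ) := [(false, 0), (true, 0)]

/-- The fact that ends the enumeration. -/
def caseATrivialLast : ℕ := 67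

end Cfsg.Lib.HeldType
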