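import Cfsg.Agent.HeldType.LocalB

/-!
An enumeration of double cosets.
-/

set_option autoImplicit false
set_option maxRecDepth 100000

namespace Cfsg.Lib.HeldType

/-- The facts. -/
def caseBTrivialFacts : Tab Fct :=
(.node 45 (.node 22 (.node 11 (.node 5 (.node 2 (.node 1 (.leaf ⟨0, 17043521, none, 0, 32125001⟩) (.leaf ⟨0, 17043521, none, 0, 10971209⟩)) (.node 1 (.leaf ⟨0, 29904967, (some false), 1, 17043521⟩) (.node 1 (.leaf ⟨0, 27529303, (some false), 1, 17043521⟩) (.leaf ⟨0, 23928925, (some false), 1, 17256535⟩))))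
(.node 3 (.node 1 (.leaf ⟨0, 7292999, (some false), 1, 17256535⟩) (.node 1 (.leaf ⟨0, 9056345, (some false), 1, 17256535⟩) (.leaf ⟨0, 19085399, (some false), 1, 17633359⟩))) (.node 1 (.leaf ⟨0, 10971209, (some false), 1, 17043521⟩) (.node 1 (.leaf ⟨0, 13310023, (some false), 1, 17043521⟩) (.leaf ⟨0, 31801425, (some false), 1, 17043521⟩)))))
(.node 5 (.node 2 (.node 1 (.leaf ⟨0, 6776923, (some false), 1, 17043521⟩) (.leaf ⟨1, 17070167, none, 1, 17043521⟩)) (.node 1 (.leaf ⟨1, 17242191, none, 1, 17043521⟩) (.node 1 (.leaf ⟨1, 17043521, none, 1, 17633359⟩) (.leaf ⟨1, 17043521, none, 1, 17176649⟩))))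
(.node 3 (.node 1 (.leaf ⟨1, 17043521, none, 1, 17070157⟩) (.node 1 (.leaf ⟨0, 25385043, (some true), 4, 17043521⟩) (.leaf ⟨4, 17043521, (some true), 0, 25385043⟩))) (.node 1 (.leaf ⟨0, 11495495, (some true), 4, 8917075⟩) (.node 1 (.leaf ⟨0, 4544593, (some true), 4, 9195595⟩) (.leaf ⟨0, 17043521, (some true), 4, 17043521⟩))))))
(.node 11 (.node 5 (.node 2 (.node 1 (.leaf ⟨0, 32125001, (some true), 4, 17043521⟩) (.leaf ⟨0, 4808797, (some true), 4, 17043521⟩)) (.node 1 (.leaf ⟨0, 13510735, (some true), 4, 17043521⟩) (.node 1 (.leaf ⟨0, 32131155, (some true), 4, 17043521⟩) (.leaf ⟨0, 19085399, (some true), 4, 9009235⟩))))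
(.node 3 (.node 1 (.leaf ⟨1, 10971209, (some true), 7, 17043521⟩) (.node 1 (.leaf ⟨1, 11495495, (some true), 7, 17043531⟩) (.leaf ⟨1, 25385043, (some true), 7, 19675225⟩))) (.node 1 (.leaf ⟨7, 13510735, (some false), 8, 17043521⟩) (.node 1 (.leaf ⟨8, 17043521, (some true), 9, 17043521⟩) (.leaf ⟨9, 17043521, (some true), 8, 17043521⟩)))))
(.node 6 (.node 3 (.node 1 (.leaf ⟨0, 10702917, none, 9, 17125451⟩) (.node 1 (.leaf ⟨9, 17043521, none, 0, 9113693⟩) (.leaf ⟨8, 25442395, none, 4, 9009235⟩))) (.node 1 (.leaf ⟨8, 17043521, none, 4, 9269321⟩) (.node 1 (.leaf ⟨1, 31801425, (some false), 10, 17043521⟩) (.leaf ⟨10, 17043521, (some false), 1, 14958673⟩))))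
(.node 3 (.node 1 (.leaf ⟨1, 7292999, (some false), 10, 17463389⟩) (.node 1 (.leaf ⟨1, 9056345, (some false), 10, 17719375⟩) (.leaf ⟨1, 23928925, (some false), 10, 17528911⟩))) (.node 1 (.leaf ⟨1, 4808797, (some false), 10, 16920643⟩) (.node 1 (.leaf ⟨10, 19085399, (some false), 11, 17043521⟩) (.leaf ⟨11, 19085399, (some false), 12, 17043521⟩)))))))
(.node 22 (.node 11 (.node 5 (.node 2 (.node 1 (.leaf ⟨12, 17043521, (some false), 11, 19560517⟩) (.leaf ⟨1, 32325697, none, 12, 19288139⟩)) (.node 1 (.leaf ⟨12, 17043521, none, 1, 25643101⟩) (.node 1 (.leaf ⟨11, 19812419, none, 10, 17463389⟩) (.leaf ⟨11, 17043521, none, 10, 19015755⟩))))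
(.node 3 (.node 1 (.leaf ⟨1, 13310023, (some true), 15, 17043521⟩) (.node 1 (.leaf ⟨1, 29904967, (some true), 15, 8990811⟩) (.leaf ⟨1, 32125001, (some true), 15, 11286595⟩))) (.node 1 (.leaf ⟨1, 4544593, (some true), 15, 9269339⟩) (.node 1 (.leaf ⟨1, 4808797, (some true), 15, 11038793⟩) (.leaf ⟨1, 13510735, (some true), 15, 25702481⟩)))))
(.node 5 (.node 2 (.node 1 (.leaf ⟨1, 31801425, (some true), 15, 17643601⟩) (.leaf ⟨1, 32131155, (some true), 15, 19673177⟩)) (.node 1 (.leaf ⟨15, 25434193, none, 15, 9269339⟩) (.node 1 (.leaf ⟨15, 27547715, none, 15, 17043521⟩) (.leaf ⟨15, 17043521, none, 15, 27553859⟩))))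
(.node 3 (.node 1 (.leaf ⟨15, 17043521, none, 15, 9001035⟩) (.node 1 (.leaf ⟨10, 10971209, (some true), 18, 17043521⟩) (.leaf ⟨18, 17043521, (some true), 10, 10971209⟩))) (.node 1 (.leaf ⟨18, 13510735, (some false), 19, 17043521⟩) (.node 1 (.leaf ⟨19, 17043521, (some false), 18, 29761631⟩) (.leaf ⟨19, 17043521, (some true), 20, 17043521⟩))))))
(.node 11 (.node 5 (.node 2 (.node 1 (.leaf ⟨20, 17043521, (some true), 19, 17043521⟩) (.leaf ⟨1, 29958213, none, 20, 17119305⟩)) (.node 1 (.leaf ⟨20, 17043521, none, 1, 23668807⟩) (.node 1 (.leaf ⟨19, 17643587, none, 15, 11038793⟩) (.leaf ⟨19, 17043521, none, 15, 25712729⟩))))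
(.node 3 (.node 1 (.leaf ⟨15, 29904967, (some false), 18, 27621461⟩) (.node 1 (.leaf ⟨15, 17043521, (some false), 18, 15685713⟩) (.leaf ⟨15, 27529303, (some false), 18, 15673429⟩))) (.node 1 (.leaf ⟨15, 13510735, (some false), 18, 9205825⟩) (.node 1 (.leaf ⟨15, 19085399, (some false), 18, 4876353⟩) (.leaf ⟨1, 6715481, none, 1, 21446745⟩)))))
(.node 6 (.node 3 (.node 1 (.leaf ⟨1, 17043521, none, 1, 29702209⟩) (.node 1 (.leaf ⟨15, 17635395, none, 7, 19675225⟩) (.leaf ⟨15, 17043521, none, 7, 19232841⟩))) (.node 1 (.leaf ⟨18, 25440347, none, 8, 17043521⟩) (.node 1 (.leaf ⟨18, 25440347, none, 4, 9269321⟩) (.leaf ⟨18, 17043521, none, 4, 9007195⟩))))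
(.node 3 (.node 1 (.leaf ⟨10, 9125979, none, 0, 25385043⟩) (.node 1 (.leaf ⟨10, 17043521, none, 0, 21373009⟩) (.leaf ⟨11, 16939089, none, 1, 17043521⟩))) (.node 1 (.leaf ⟨0, 21788741, none, 1, 17043521⟩) (.node 1 (.leaf ⟨1, 17043521, none, 0, 21788741⟩) (.leaf ⟨0, 29904967, (some false), 0, 21788741⟩))))))))

/-- The reasons. -/
def caseBTrivialSrc : Tab Src :=
(.node 45 (.node 22 (.node 11 (.node 5 (.node 2 (.node 1 (.leaf .root) (.leaf .root)) (.node 1 (.leaf .dfn) (.node 1 (.leaf (.mov 0 27529303 false [.plain 0 29904967 true, .edge 2 0 false])) (.leaf (.mov 0 23928925 false [.plain 0 29825107 true, .edge 3 751 false])))))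
(.node 3 (.node 1 (.leaf (.mov 0 7292999 false [.plain 0 23928925 true, .edge 4 0 false])) (.node 1 (.leaf (.mov 0 9056345 false [.plain 0 7292999 true, .edge 5 0 false])) (.leaf (.mov 0 19085399 false [.plain 0 32202817 true, .edge 6 342 false])))) (.node 1 (.leaf (.mov 0 10971209 false [.plain 0 19099727 true, .edge 7 1376 false])) (.node 1 (.leaf (.mov 0 13310023 false [.plain 1 10971209 true, .edge 8 0 false])) (.leaf (.mov 0 31801425 false [.plain 0 13310023 true, .edge 9 0 false]))))))
(.node 5 (.node 2 (.node 1 (.leaf (.mov 0 6776923 false [.plain 0 31801425 true, .edge 10 0 false])) (.leaf (.eqT 0 29904967 false [.plain 1 9384025 true, .edge 4 1035 false] [.edge 2 0 false]))) (.node 1 (.leaf (.eqT 0 31801425 false [.plain 1 15618125 true, .edge 3 1049 false] [.edge 10 0 false])) (.node 1 (.leaf (.eqT 0 19085399 false [.plain 1 29904967 true, .edge 2 0 false] [.edge 7 0 false])) (.leaf (.eq 1 17043521 [] [.plain 13 17176649 false])))))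
(.node 3 (.node 1 (.leaf (.eq 1 17043521 [] [.plain 12 17070157 false])) (.node 1 (.leaf .dfn) (.leaf (.mov 4 17043521 true [.edge 17 0 true])))) (.node 1 (.leaf (.mov 0 11495495 true [.plain 0 19607633 true, .edge 17 1239 false])) (.node 1 (.leaf (.mov 0 4544593 true [.plain 0 17197149 true, .edge 19 982 false])) (.leaf (.mov 0 17043521 true [.plain 0 23951451 true, .edge 20 1354 false])))))))
(.node 11 (.node 5 (.node 2 (.node 1 (.leaf (.mov 0 32125001 true [.plain 0 17043521 true, .edge 21 0 false])) (.leaf (.mov 0 4808797 true [.plain 0 32125001 true, .edge 22 0 false]))) (.node 1 (.leaf (.mov 0 13510735 true [.plain 0 4808797 true, .edge 23 0 false])) (.node 1 (.leaf (.mov 0 32131155 true [.plain 1 13510735 true, .edge 24 0 false])) (.leaf (.mov 0 19085399 true [.plain 0 32202817 true, .edge 25 669 false])))))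
(.node 3 (.node 1 (.leaf .dfn) (.node 1 (.leaf (.mov 1 11495495 true [.plain 14 11233353 true, .edge 27 1291 false])) (.leaf (.mov 1 25385043 true [.plain 16 25372767 true, .edge 28 922 false])))) (.node 1 (.leaf .dfn) (.node 1 (.leaf .dfn) (.leaf (.mov 9 17043521 true [.edge 31 0 true]))))))
(.node 6 (.node 3 (.node 1 (.leaf (.rel 0 10702917 2 [.edge 4 1374 false, .mul, .edge 27 1308 false, .edge 30 925 false, .mul, .edge 31 31 false])) (.node 1 (.leaf (.eq 9 17043521 [] [.plain 33 17125449 true])) (.leaf (.eqT 0 19085399 true [.plain 34 11089985 true, .edge 32 1449 false] [.edge 26 0 false])))) (.node 1 (.leaf (.eq 8 17043521 [] [.plain 35 25442387 false])) (.node 1 (.leaf .dfn) (.leaf (.mov 10 17043521 false [.edge 37 0 true])))))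
(.node 3 (.node 1 (.leaf (.mov 1 7292999 false [.plain 15 6766665 true, .edge 37 145 false])) (.node 1 (.leaf (.mov 1 9056345 false [.plain 16 9062495 true, .edge 39 357 false])) (.leaf (.mov 1 23928925 false [.plain 14 23535705 true, .edge 40 664 false])))) (.node 1 (.leaf (.mov 1 4808797 false [.plain 15 4483157 true, .edge 41 690 false])) (.node 1 (.leaf .dfn) (.leaf .dfn)))))))
(.node 22 (.node 11 (.node 5 (.node 2 (.node 1 (.leaf (.mov 12 17043521 false [.edge 44 0 true])) (.leaf (.rel 1 32325697 0 [.edge 37 857 false, .mul, .edge 43 484 false, .mul, .edge 44 577 false, .mul, .mul]))) (.node 1 (.leaf (.eq 12 17043521 [] [.plain 46 19880029 true])) (.node 1 (.leaf (.eqT 1 7292999 false [.plain 47 17508427 true, .edge 45 1069 false] [.edge 39 0 false])) (.leaf (.eq 11 17043521 [] [.plain 48 19290179 false])))))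
(.node 3 (.node 1 (.leaf .dfn) (.node 1 (.leaf (.mov 1 29904967 true [.plain 14 29839455 true, .edge 50 931 false])) (.leaf (.mov 1 32125001 true [.plain 14 31731791 true, .edge 51 243 false])))) (.node 1 (.leaf (.mov 1 4544593 true [.plain 14 4610121 true, .edge 52 192 false])) (.node 1 (.leaf (.mov 1 4808797 true [.plain 16 4796483 true, .edge 53 384 false])) (.leaf (.mov 1 13510735 true [.plain 14 13183061 true, .edge 54 1519 false]))))))
(.node 5 (.node 2 (.node 1 (.leaf (.mov 1 31801425 true [.plain 14 32194645 true, .edge 55 729 false])) (.leaf (.mov 1 32131155 true [.plain 14 31737931 true, .edge 56 989 false]))) (.node 1 (.leaf (.eqT 1 4544593 true [.plain 15 5197903 true, .edge 50 1202 false] [.edge 53 0 false])) (.node 1 (.leaf (.eqT 1 13310023 true [.plain 16 13334607 true, .edge 50 1053 false] [.edge 50 0 false])) (.leaf (.eq 15 17043521 [] [.plain 59 27553859 false])))))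
(.node 3 (.node 1 (.leaf (.eq 15 17043521 [] [.plain 58 25434201 false])) (.node 1 (.leaf .dfn) (.leaf (.mov 18 17043521 true [.edge 62 0 true])))) (.node 1 (.leaf .dfn) (.node 1 (.leaf (.mov 19 17043521 false [.edge 64 0 true])) (.leaf .dfn))))))
(.node 11 (.node 5 (.node 2 (.node 1 (.leaf (.mov 20 17043521 true [.edge 66 0 true])) (.leaf (.rel 1 29958213 2 [.edge 42 632 false, .mul, .edge 62 971 false, .edge 64 763 false, .mul, .edge 66 1387 false]))) (.node 1 (.leaf (.eq 20 17043521 [] [.plain 68 17117259 true])) (.node 1 (.leaf (.eqT 1 4808797 true [.plain 69 17651785 true, .edge 67 1189 false] [.edge 54 0 false])) (.leaf (.eq 19 17043521 [] [.plain 70 17657923 false])))))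
(.node 3 (.node 1 (.leaf (.mov 15 29904967 false [.plain 71 17176667 true, .edge 65 217 false])) (.node 1 (.leaf (.mov 15 17043521 false [.plain 61 11022419 true, .edge 72 1032 false])) (.leaf (.mov 15 27529303 false [.plain 60 17068117 true, .edge 73 760 false])))) (.node 1 (.leaf (.mov 15 13510735 false [.plain 61 31873089 true, .edge 74 390 false])) (.node 1 (.leaf (.mov 15 19085399 false [.plain 60 23296085 true, .edge 75 501 false])) (.leaf (.rel 1 6715481 3 [.edge 52 45 false, .mul, .edge 76 160 false, .mul, .edge 63 786 false, .edge 38 13 false, .mul]))))))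
(.node 6 (.node 3 (.node 1 (.leaf (.eq 1 17043521 [] [.plain 77 15550549 false])) (.node 1 (.leaf (.eqT 1 25385043 true [.plain 78 12730451 true, .edge 57 870 false] [.edge 29 0 false])) (.leaf (.eq 15 17043521 [] [.plain 79 17635395 false])))) (.node 1 (.leaf (.eqT 7 13510735 false [.plain 80 15687761 true, .edge 75 121 false] [.edge 30 0 false])) (.node 1 (.leaf (.eq 18 25440347 [] [.plain 81 17043521 false, .plain 36 17043521 false])) (.leaf (.eq 18 17043521 [] [.plain 82 25440339 false])))))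
(.node 3 (.node 1 (.leaf (.eqT 4 17043521 true [.plain 83 11040857 true, .edge 63 223 false] [.edge 18 0 false])) (.node 1 (.leaf (.eq 10 17043521 [] [.plain 84 4733015 false])) (.leaf (.eqT 0 6776923 false [.plain 85 19746889 true, .edge 43 631 false] [.edge 11 0 false])))) (.node 1 (.leaf (.eq 11 16939089 [.plain 49 16939089 false, .plain 85 19863639 false] [.plain 86 17043521 false])) (.node 1 (.leaf (.eq 1 17043521 [] [.plain 87 17043521 true])) (.leaf (.mov 0 29904967 false [.edge 2 0 false, .plain 88 17043521 false])))))))))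

/-- The definitions. -/
def caseBTrivialDefs : Tab (ℕ × ℕ × Bool) :=
(.node 23 (.node 11 (.node 5 (.node 2 (.node 1 (.leaf (0, 17043521, false)) (.leaf (0, 29904967, false))) (.node 1 (.leaf (1, 19085399, false)) (.node 1 (.leaf (2, 19085399, false)) (.leaf (0, 25385043, true)))))
(.node 3 (.node 1 (.leaf (4, 17059919, true)) (.node 1 (.leaf (5, 17059919, true)) (.leaf (1, 10971209, true)))) (.node 1 (.leaf (7, 13510735, false)) (.node 1 (.leaf (8, 17043521, true)) (.leaf (1, 31801425, false))))))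
(.node 6 (.node 3 (.node 1 (.leaf (10, 19085399, false)) (.node 1 (.leaf (11, 19085399, false)) (.leaf (7, 17059919, true)))) (.node 1 (.leaf (13, 17059919, true)) (.node 1 (.leaf (1, 13310023, true)) (.leaf (15, 17059919, true)))))
(.node 3 (.node 1 (.leaf (16, 17059919, true)) (.node 1 (.leaf (10, 10971209, true)) (.leaf (18, 13510735, false)))) (.node 1 (.leaf (19, 17043521, true)) (.node 1 (.leaf (4, 9056345, false)) (.leaf (21, 19085399, false)))))))
(.node 11 (.node 5 (.node 2 (.node 1 (.leaf (22, 19085399, false)) (.leaf (4, 10971209, true))) (.node 1 (.leaf (24, 17059919, true)) (.node 1 (.leaf (25, 17059919, true)) (.leaf (24, 13510735, false)))))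
(.node 3 (.node 1 (.leaf (27, 17043521, true)) (.node 1 (.leaf (24, 19085399, false)) (.leaf (29, 10971209, true)))) (.node 1 (.leaf (30, 13510735, false)) (.node 1 (.leaf (21, 29904967, false)) (.leaf (32, 19085399, false))))))
(.node 6 (.node 3 (.node 1 (.leaf (33, 19085399, false)) (.node 1 (.leaf (29, 11495495, true)) (.leaf (35, 17059919, true)))) (.node 1 (.leaf (21, 13510735, true)) (.node 1 (.leaf (37, 17059919, true)) (.leaf (38, 17059919, true)))))
(.node 3 (.node 1 (.leaf (33, 19085399, true)) (.node 1 (.leaf (40, 17043521, false)) (.leaf (41, 25385043, true)))) (.node 1 (.leaf (32, 17059919, true)) (.node 1 (.leaf (43, 17043521, false)) (.leaf (44, 25385043, true))))))))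

/-- The relators. -/
def caseBTrivialRels : List (List Let) :=
  [[.t false, .h 19140673, .t false, .h 19140673, .t false, .h 19140673, .h 17764417],
  [.t true, .h 17043525, .t true, .h 17043525, .t true, .h 17043525, .h 17633361],
  [.t false, .h 16920641, .t true, .t false, .h 16920641, .t true],
  [.t true, .h 17659973, .t false, .h 17174597, .t true, .t false, .h 17510467]]

/-- The enumeration. -/
def caseBTrivial : EnumD := ⟨46, caseBTrivialDefs, 90, caseBTrivialFacts, caseBTrivialSrc, caseBTrivialRels⟩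

/-- The origin of the relators. -/
def caseBTrivialFrom : List (Bool × ℕ) := [(true, 0), (false, 0)]

/-- The fact that ends the enumeration. -/
def caseBTrivialLast : ℕ := 89

end Cfsg.Lib.HeldType
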