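import Cfsg.Agent.HeldType.LocalC

/-!
An enumeration of double cosets.
-/

set_option autoImplicit false
set_option maxRecDepth 100000

namespace Cfsg.Lib.HeldType

/-- The facts. -/
def caseCTrivialFacts : Tab Fct :=
(.node 45 (.node 22 (.node 11 (.node 5 (.node 2 (.node 1 (.leaf ⟨0, 17043521, none, 0, 32125001⟩) (.leaf ⟨0, 17043521, none, 0, 10971209⟩)) (.node 1 (.leaf ⟨0, 32125001, (some false), 1, 17043521⟩) (.node 1 (.leaf ⟨0, 4808797, (some false), 1, 17043521⟩) (.leaf ⟨0, 13510735, (some false), 1, 17043521⟩))))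
(.node 3 (.node 1 (.leaf ⟨0, 13310023, (some false), 1, 17700933⟩) (.node 1 (.leaf ⟨0, 31801425, (some false), 1, 17700933⟩) (.leaf ⟨0, 6776923, (some false), 1, 17700933⟩))) (.node 1 (.leaf ⟨0, 17043521, (some false), 1, 17043521⟩) (.node 1 (.leaf ⟨0, 10971209, (some false), 1, 17043521⟩) (.leaf ⟨0, 29904967, (some false), 1, 17043521⟩)))))
(.node 5 (.node 2 (.node 1 (.leaf ⟨0, 27529303, (some false), 1, 17043521⟩) (.leaf ⟨0, 23928925, (some false), 1, 17715287⟩)) (.node 1 (.leaf ⟨0, 7292999, (some false), 1, 17715287⟩) (.node 1 (.leaf ⟨1, 17457221, none, 1, 17715287⟩) (.leaf ⟨1, 17125465, none, 1, 17043521⟩))))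
(.node 3 (.node 1 (.leaf ⟨1, 17043521, none, 1, 17715287⟩) (.node 1 (.leaf ⟨1, 17043521, none, 1, 17125467⟩) (.leaf ⟨1, 17043521, none, 1, 17702995⟩))) (.node 1 (.leaf ⟨0, 4808797, (some true), 4, 17043521⟩) (.node 1 (.leaf ⟨4, 17043521, (some true), 0, 4808797⟩) (.leaf ⟨0, 13510735, (some true), 4, 17043521⟩))))))
(.node 11 (.node 5 (.node 2 (.node 1 (.leaf ⟨0, 25385043, (some true), 4, 17043521⟩) (.leaf ⟨0, 11495495, (some true), 4, 8917075⟩)) (.node 1 (.leaf ⟨0, 4544593, (some true), 4, 9195595⟩) (.node 1 (.leaf ⟨0, 17043521, (some true), 4, 17043521⟩) (.leaf ⟨0, 32125001, (some true), 4, 17043521⟩))))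
(.node 3 (.node 1 (.leaf ⟨4, 17043521, (some false), 7, 17043521⟩) (.node 1 (.leaf ⟨7, 17043521, (some false), 4, 17127489⟩) (.leaf ⟨7, 25385043, (some true), 8, 17043521⟩))) (.node 1 (.leaf ⟨8, 17043521, (some true), 7, 25385043⟩) (.node 1 (.leaf ⟨8, 4808797, (some false), 9, 17043521⟩) (.leaf ⟨9, 17043521, (some false), 8, 23685197⟩)))))
(.node 6 (.node 3 (.node 1 (.leaf ⟨0, 21895249, none, 9, 17506389⟩) (.node 1 (.leaf ⟨9, 17043521, none, 0, 10969179⟩) (.leaf ⟨8, 13195359, none, 1, 17043521⟩))) (.node 1 (.leaf ⟨8, 17043521, none, 1, 11415641⟩) (.node 1 (.leaf ⟨1, 25385043, (some true), 7, 11415641⟩) (.leaf ⟨1, 17059919, (some true), 7, 17717321⟩))))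
(.node 3 (.node 1 (.leaf ⟨1, 13310023, (some false), 10, 17043521⟩) (.node 1 (.leaf ⟨10, 17043521, (some false), 1, 29511765⟩) (.leaf ⟨1, 13510735, (some false), 10, 17043521⟩))) (.node 1 (.leaf ⟨1, 9056345, (some false), 10, 17705033⟩) (.node 1 (.leaf ⟨1, 29904967, (some false), 10, 17594439⟩) (.leaf ⟨1, 4808797, (some false), 10, 16922701⟩)))))))
(.node 22 (.node 11 (.node 5 (.node 2 (.node 1 (.leaf ⟨1, 23928925, (some false), 10, 16932945⟩) (.leaf ⟨10, 19085399, (some false), 11, 17043521⟩)) (.node 1 (.leaf ⟨11, 19085399, (some false), 12, 17043521⟩) (.node 1 (.leaf ⟨12, 17043521, (some false), 11, 19560517⟩) (.leaf ⟨1, 24066131, none, 12, 19101783⟩))))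
(.node 3 (.node 1 (.leaf ⟨12, 17043521, none, 1, 27416651⟩) (.node 1 (.leaf ⟨11, 19877955, none, 10, 16932945⟩) (.leaf ⟨11, 17043521, none, 10, 19624017⟩))) (.node 1 (.leaf ⟨1, 32125001, (some true), 15, 17043521⟩) (.node 1 (.leaf ⟨1, 32131155, (some true), 15, 17659971⟩) (.leaf ⟨1, 29904967, (some true), 15, 25448513⟩)))))
(.node 5 (.node 2 (.node 1 (.leaf ⟨1, 4808797, (some true), 15, 8919123⟩) (.leaf ⟨1, 4544593, (some true), 15, 17584219⟩)) (.node 1 (.leaf ⟨1, 31801425, (some true), 15, 19148875⟩) (.node 1 (.leaf ⟨1, 13310023, (some true), 15, 27553883⟩) (.leaf ⟨1, 13510735, (some true), 15, 27553883⟩))))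
(.node 3 (.node 1 (.leaf ⟨15, 17109073, none, 15, 17659971⟩) (.node 1 (.leaf ⟨15, 19230795, none, 15, 27553883⟩) (.leaf ⟨15, 17043521, none, 15, 27594835⟩))) (.node 1 (.leaf ⟨15, 17043521, none, 15, 17592403⟩) (.node 1 (.leaf ⟨15, 29904967, (some false), 16, 17043521⟩) (.leaf ⟨15, 4808797, (some false), 16, 17002577⟩))))))
(.node 11 (.node 5 (.node 2 (.node 1 (.leaf ⟨15, 27529303, (some false), 16, 17180767⟩) (.leaf ⟨15, 17043521, (some false), 16, 17262679⟩)) (.node 1 (.leaf ⟨15, 13510735, (some false), 16, 17649733⟩) (.node 1 (.leaf ⟨16, 17059919, (some true), 17, 17043521⟩) (.leaf ⟨17, 17043521, (some false), 18, 17043521⟩))))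
(.node 3 (.node 1 (.leaf ⟨18, 17043521, (some false), 17, 17127489⟩) (.node 1 (.leaf ⟨1, 15341635, none, 18, 17512537⟩) (.leaf ⟨18, 17043521, none, 1, 4546639⟩))) (.node 1 (.leaf ⟨17, 17633347, none, 10, 16932945⟩) (.node 1 (.leaf ⟨17, 17043521, none, 10, 16918611⟩) (.leaf ⟨1, 23601239, none, 1, 4548689⟩)))))
(.node 6 (.node 3 (.node 1 (.leaf ⟨1, 17043521, none, 1, 27474009⟩) (.node 1 (.leaf ⟨15, 27611203, none, 7, 17717321⟩) (.leaf ⟨15, 17043521, none, 7, 25630793⟩))) (.node 1 (.leaf ⟨16, 17578079, none, 4, 17127489⟩) (.node 1 (.leaf ⟨16, 17043521, none, 4, 17641557⟩) (.leaf ⟨17, 17659977, none, 0, 4808797⟩))))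
(.node 3 (.node 1 (.leaf ⟨10, 17784923, none, 0, 4808797⟩) (.node 1 (.leaf ⟨10, 17043521, none, 0, 15274061⟩) (.leaf ⟨11, 16937041, none, 1, 17043521⟩))) (.node 1 (.leaf ⟨0, 4726855, none, 1, 17043521⟩) (.node 1 (.leaf ⟨1, 17043521, none, 0, 4726855⟩) (.leaf ⟨0, 32125001, (some false), 0, 4726855⟩))))))))

/-- The reasons. -/
def caseCTrivialSrc : Tab Src :=
(.node 45 (.node 22 (.node 11 (.node 5 (.node 2 (.node 1 (.leaf .root) (.leaf .root)) (.node 1 (.leaf .dfn) (.node 1 (.leaf (.mov 0 4808797 false [.plain 0 32125001 true, .edge 2 0 false])) (.leaf (.mov 0 13510735 false [.plain 0 4808797 true, .edge 3 0 false])))))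
(.node 3 (.node 1 (.leaf (.mov 0 13310023 false [.plain 0 9205855 true, .edge 4 195 false])) (.node 1 (.leaf (.mov 0 31801425 false [.plain 0 13310023 true, .edge 5 0 false])) (.leaf (.mov 0 6776923 false [.plain 0 31801425 true, .edge 6 0 false])))) (.node 1 (.leaf (.mov 0 17043521 false [.plain 0 23951451 true, .edge 7 524 false])) (.node 1 (.leaf (.mov 0 10971209 false [.plain 1 17043521 true, .edge 8 0 false])) (.leaf (.mov 0 29904967 false [.plain 0 10971209 true, .edge 9 0 false]))))))
(.node 5 (.node 2 (.node 1 (.leaf (.mov 0 27529303 false [.plain 0 29904967 true, .edge 10 0 false])) (.leaf (.mov 0 23928925 false [.plain 0 29825107 true, .edge 11 1322 false]))) (.node 1 (.leaf (.mov 0 7292999 false [.plain 0 23928925 true, .edge 12 0 false])) (.node 1 (.leaf (.eqT 0 7292999 false [.plain 1 21127235 true, .edge 4 760 false] [.edge 13 0 false])) (.leaf (.eqT 0 17043521 false [.plain 1 21586003 true, .edge 3 461 false] [.edge 8 0 false])))))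
(.node 3 (.node 1 (.leaf (.eqT 0 23928925 false [.plain 1 32125001 true, .edge 2 0 false] [.edge 12 0 false])) (.node 1 (.leaf (.eq 1 17043521 [] [.plain 15 17125467 false])) (.leaf (.eq 1 17043521 [] [.plain 14 17457241 false])))) (.node 1 (.leaf .dfn) (.node 1 (.leaf (.mov 4 17043521 true [.edge 19 0 true])) (.leaf (.mov 0 13510735 true [.plain 0 4808797 true, .edge 19 0 false])))))))
(.node 11 (.node 5 (.node 2 (.node 1 (.leaf (.mov 0 25385043 true [.plain 0 13510735 true, .edge 21 0 false])) (.leaf (.mov 0 11495495 true [.plain 0 19607633 true, .edge 22 1239 false]))) (.node 1 (.leaf (.mov 0 4544593 true [.plain 0 17197149 true, .edge 23 982 false])) (.node 1 (.leaf (.mov 0 17043521 true [.plain 0 23951451 true, .edge 24 1354 false])) (.leaf (.mov 0 32125001 true [.plain 0 17043521 true, .edge 25 0 false])))))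
(.node 3 (.node 1 (.leaf .dfn) (.node 1 (.leaf (.mov 7 17043521 false [.edge 27 0 true])) (.leaf .dfn))) (.node 1 (.leaf (.mov 8 17043521 true [.edge 29 0 true])) (.node 1 (.leaf .dfn) (.leaf (.mov 9 17043521 false [.edge 31 0 true]))))))
(.node 6 (.node 3 (.node 1 (.leaf (.rel 0 21895249 2 [.edge 26 472 false, .edge 27 1065 false, .mul, .edge 29 184 false, .edge 31 1009 false, .mul])) (.node 1 (.leaf (.eq 9 17043521 [] [.plain 33 16934987 true])) (.leaf (.eqT 0 32125001 false [.plain 34 17705031 true, .edge 32 515 false] [.edge 2 0 false])))) (.node 1 (.leaf (.eq 8 17043521 [] [.plain 35 11415641 false])) (.node 1 (.leaf (.mov 1 25385043 true [.plain 36 17641561 true, .edge 30 899 false])) (.leaf (.mov 1 17059919 true [.plain 16 17698905 true, .edge 37 307 false])))))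
(.node 3 (.node 1 (.leaf .dfn) (.node 1 (.leaf (.mov 10 17043521 false [.edge 39 0 true])) (.leaf (.mov 1 13510735 false [.plain 16 13310023 true, .edge 39 0 false])))) (.node 1 (.leaf (.mov 1 9056345 false [.plain 16 9179223 true, .edge 41 827 false])) (.node 1 (.leaf (.mov 1 29904967 false [.plain 16 29499473 true, .edge 42 74 false])) (.leaf (.mov 1 4808797 false [.plain 17 4747339 true, .edge 43 579 false]))))))))
(.node 22 (.node 11 (.node 5 (.node 2 (.node 1 (.leaf (.mov 1 23928925 false [.plain 16 23689303 true, .edge 44 53 false])) (.leaf .dfn)) (.node 1 (.leaf .dfn) (.node 1 (.leaf (.mov 12 17043521 false [.edge 47 0 true])) (.leaf (.rel 1 24066131 0 [.edge 39 301 false, .mul, .edge 46 695 false, .mul, .edge 47 1383 false, .mul, .mul])))))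
(.node 3 (.node 1 (.leaf (.eq 12 17043521 [] [.plain 49 19867739 true])) (.node 1 (.leaf (.eqT 1 23928925 false [.plain 50 16935003 true, .edge 48 810 false] [.edge 45 0 false])) (.leaf (.eq 11 17043521 [] [.plain 51 19355715 false])))) (.node 1 (.leaf .dfn) (.node 1 (.leaf (.mov 1 32131155 true [.plain 16 31666243 true, .edge 53 776 false])) (.leaf (.mov 1 29904967 true [.plain 16 29499473 true, .edge 54 308 false]))))))
(.node 5 (.node 2 (.node 1 (.leaf (.mov 1 4808797 true [.plain 16 4550727 true, .edge 55 838 false])) (.leaf (.mov 1 4544593 true [.plain 17 4474975 true, .edge 56 76 false]))) (.node 1 (.leaf (.mov 1 31801425 true [.plain 16 32323651 true, .edge 57 1390 false])) (.node 1 (.leaf (.mov 1 13310023 true [.plain 16 13117507 true, .edge 58 982 false])) (.leaf (.mov 1 13510735 true [.plain 16 13310023 true, .edge 59 0 false])))))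
(.node 3 (.node 1 (.leaf (.eqT 1 32131155 true [.plain 17 32190553 true, .edge 53 1272 false] [.edge 54 0 false])) (.node 1 (.leaf (.eqT 1 13310023 true [.plain 18 12808265 true, .edge 53 120 false] [.edge 59 0 false])) (.leaf (.eq 15 17043521 [] [.plain 62 19230793 false])))) (.node 1 (.leaf (.eq 15 17043521 [] [.plain 61 17109073 false])) (.node 1 (.leaf .dfn) (.leaf (.mov 15 4808797 false [.plain 63 23617609 true, .edge 65 1297 false])))))))
(.node 11 (.node 5 (.node 2 (.node 1 (.leaf (.mov 15 27529303 false [.plain 64 27865167 true, .edge 66 300 false])) (.leaf (.mov 15 17043521 false [.plain 63 25497691 true, .edge 67 213 false]))) (.node 1 (.leaf (.mov 15 13510735 false [.plain 63 17770589 true, .edge 68 479 false])) (.node 1 (.leaf .dfn) (.leaf .dfn))))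
(.node 3 (.node 1 (.leaf (.mov 18 17043521 false [.edge 71 0 true])) (.node 1 (.leaf (.rel 1 15341635 2 [.edge 53 526 false, .edge 65 302 false, .mul, .edge 70 651 false, .edge 71 563 false, .mul])) (.leaf (.eq 18 17043521 [] [.plain 73 17721421 true])))) (.node 1 (.leaf (.eqT 1 23928925 false [.plain 74 17586257 true, .edge 72 891 false] [.edge 45 0 false])) (.node 1 (.leaf (.eq 17 17043521 [] [.plain 75 17633347 false])) (.leaf (.rel 1 23601239 3 [.edge 56 532 false, .mul, .edge 66 1385 false, .mul, .edge 70 1093 false, .plain 76 17135705 false, .edge 40 847 false, .mul]))))))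
(.node 6 (.node 3 (.node 1 (.leaf (.eq 1 17043521 [] [.plain 77 8546385 false])) (.node 1 (.leaf (.eqT 1 17059919 true [.plain 78 15607901 true, .edge 60 1035 false] [.edge 38 0 false])) (.leaf (.eq 15 17043521 [] [.plain 79 25522243 false])))) (.node 1 (.leaf (.eqT 7 17043521 false [.plain 80 29759565 true, .edge 69 1060 false] [.edge 28 0 false])) (.node 1 (.leaf (.eq 16 17043521 [] [.plain 81 17594453 false])) (.leaf (.eqT 4 17043521 true [.plain 82 17659983 true, .edge 70 1264 false] [.edge 20 0 false])))))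
(.node 3 (.node 1 (.leaf (.eq 17 17659977 [.plain 76 17659977 false] [.plain 83 17043521 false])) (.node 1 (.leaf (.eq 10 17043521 [] [.plain 84 17446983 false])) (.leaf (.eqT 0 29904967 false [.plain 85 19222617 true, .edge 46 944 false] [.edge 10 0 false])))) (.node 1 (.leaf (.eq 11 16937041 [.plain 52 16937041 false, .plain 85 19341377 false] [.plain 86 17043521 false])) (.node 1 (.leaf (.eq 1 17043521 [] [.plain 87 17043521 true])) (.leaf (.mov 0 32125001 false [.edge 2 0 false, .plain 88 17043521 false])))))))))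

/-- The definitions. -/
def caseCTrivialDefs : Tab (ℕ × ℕ × Bool) :=
(.node 15 (.node 7 (.node 3 (.node 1 (.leaf (0, 17043521, false)) (.node 1 (.leaf (0, 32125001, false)) (.leaf (1, 19085399, false))))
(.node 2 (.node 1 (.leaf (2, 19085399, false)) (.leaf (0, 4808797, true))) (.node 1 (.leaf (4, 17059919, true)) (.leaf (5, 17059919, true)))))
(.node 4 (.node 2 (.node 1 (.leaf (4, 17043521, false)) (.leaf (7, 25385043, true))) (.node 1 (.leaf (8, 4808797, false)) (.leaf (1, 13310023, false))))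
(.node 2 (.node 1 (.leaf (10, 19085399, false)) (.leaf (11, 19085399, false))) (.node 1 (.leaf (7, 19085399, true)) (.leaf (13, 17059919, true))))))
(.node 8 (.node 4 (.node 2 (.node 1 (.leaf (1, 32125001, true)) (.leaf (15, 29904967, false))) (.node 1 (.leaf (16, 17059919, true)) (.leaf (17, 17043521, false))))
(.node 2 (.node 1 (.leaf (4, 7292999, false)) (.leaf (19, 19085399, false))) (.node 1 (.leaf (20, 19085399, false)) (.leaf (4, 32125001, true)))))
(.node 4 (.node 2 (.node 1 (.leaf (22, 17059919, true)) (.leaf (23, 17059919, true))) (.node 1 (.leaf (22, 19085399, false)) (.leaf (25, 10971209, true))))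
(.node 2 (.node 1 (.leaf (26, 13510735, false)) (.leaf (22, 13510735, false))) (.node 1 (.leaf (28, 17043521, true)) (.leaf (29, 17043521, false)))))))

/-- The relators. -/
def caseCTrivialRels : List (List Let) :=
  [[.t false, .h 19140673, .t false, .h 19140673, .t false, .h 19140673, .h 17764419],
  [.t true, .h 17043525, .t true, .h 17043525, .t true, .h 17043525, .h 17633361],
  [.t true, .t false, .h 16920641, .t true, .t false, .h 17446977],
  [.t true, .h 17659973, .t false, .h 17174597, .t true, .t false, .h 17510465]]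

/-- The enumeration. -/
def caseCTrivial : EnumD := ⟨31, caseCTrivialDefs, 90, caseCTrivialFacts, caseCTrivialSrc, caseCTrivialRels⟩

/-- The origin of the relators. -/
def caseCTrivialFrom : List (Bool × ℕ) := [(true, 0), (false, 0)]

/-- The fact that ends the enumeration. -/
def caseCTrivialLast : ℕ := 89

end Cfsg.Lib.HeldType
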