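import Cfsg.Agent.HeldType.LocalD

/-!
An enumeration of double cosets.
-/

set_option autoImplicit false
set_option maxRecDepth 100000

namespace Cfsg.Lib.HeldType

/-- The facts. -/
def caseDTrivialFacts : Tab Fct :=
(.node 56 (.node 28 (.node 14 (.node 7 (.node 3 (.node 1 (.leaf ⟨0, 17043521, none, 0, 32125001⟩) (.node 1 (.leaf ⟨0, 17043521, none, 0, 10971209⟩) (.leaf ⟨0, 32125001, (some false), 1, 17043521⟩)))
(.node 2 (.node 1 (.leaf ⟨0, 4808797, (some false), 1, 17043521⟩) (.leaf ⟨0, 13510735, (some false), 1, 17043521⟩)) (.node 1 (.leaf ⟨0, 13310023, (some false), 1, 17700933⟩) (.leaf ⟨0, 31801425, (some false), 1, 17700933⟩))))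
(.node 3 (.node 1 (.leaf ⟨0, 6776923, (some false), 1, 17700933⟩) (.node 1 (.leaf ⟨0, 17043521, (some false), 1, 17043521⟩) (.leaf ⟨0, 10971209, (some false), 1, 17043521⟩)))
(.node 2 (.node 1 (.leaf ⟨0, 29904967, (some false), 1, 17043521⟩) (.leaf ⟨0, 27529303, (some false), 1, 17043521⟩)) (.node 1 (.leaf ⟨0, 23928925, (some false), 1, 17715287⟩) (.leaf ⟨0, 7292999, (some false), 1, 17715287⟩)))))
(.node 7 (.node 3 (.node 1 (.leaf ⟨1, 17457221, none, 1, 17715287⟩) (.node 1 (.leaf ⟨1, 17125465, none, 1, 17043521⟩) (.leaf ⟨1, 17043521, none, 1, 17715287⟩)))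
(.node 2 (.node 1 (.leaf ⟨1, 17043521, none, 1, 17125467⟩) (.leaf ⟨1, 17043521, none, 1, 17702995⟩)) (.node 1 (.leaf ⟨0, 4808797, (some true), 4, 17043521⟩) (.leaf ⟨4, 17043521, (some true), 0, 21586013⟩))))
(.node 3 (.node 1 (.leaf ⟨0, 13510735, (some true), 4, 17043521⟩) (.node 1 (.leaf ⟨0, 25385043, (some true), 4, 17043521⟩) (.leaf ⟨0, 11495495, (some true), 4, 8943689⟩)))
(.node 2 (.node 1 (.leaf ⟨0, 4544593, (some true), 4, 9187411⟩) (.leaf ⟨0, 17043521, (some true), 4, 17043521⟩)) (.node 1 (.leaf ⟨0, 32125001, (some true), 4, 17043521⟩) (.leaf ⟨0, 10971209, (some true), 4, 17043521⟩))))))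
(.node 14 (.node 7 (.node 3 (.node 1 (.leaf ⟨0, 29904967, (some true), 4, 17043521⟩) (.node 1 (.leaf ⟨0, 17059919, (some true), 4, 8919113⟩) (.leaf ⟨0, 13310023, (some true), 4, 19746891⟩)))
(.node 2 (.node 1 (.leaf ⟨0, 31801425, (some true), 4, 19746891⟩) (.leaf ⟨0, 32131155, (some true), 4, 11284547⟩)) (.node 1 (.leaf ⟨4, 19691593, none, 4, 17043521⟩) (.leaf ⟨4, 17043521, none, 4, 11284547⟩))))
(.node 3 (.node 1 (.leaf ⟨4, 17043521, none, 4, 8919113⟩) (.node 1 (.leaf ⟨4, 17043521, none, 4, 19740763⟩) (.leaf ⟨4, 17043521, (some false), 7, 17043521⟩)))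
(.node 2 (.node 1 (.leaf ⟨7, 17043521, (some false), 4, 17127489⟩) (.leaf ⟨4, 29904967, (some false), 7, 17764429⟩)) (.node 1 (.leaf ⟨4, 19085399, (some false), 7, 17784913⟩) (.leaf ⟨7, 17070161, none, 7, 17784913⟩)))))
(.node 7 (.node 3 (.node 1 (.leaf ⟨7, 17043521, none, 7, 16932929⟩) (.node 1 (.leaf ⟨7, 25385043, (some true), 8, 17043521⟩) (.leaf ⟨8, 17043521, (some true), 7, 25892931⟩)))
(.node 2 (.node 1 (.leaf ⟨8, 4808797, (some false), 9, 17043521⟩) (.leaf ⟨9, 17043521, (some false), 8, 23685197⟩)) (.node 1 (.leaf ⟨0, 21895249, none, 9, 17702999⟩) (.leaf ⟨9, 17043521, none, 0, 12875871⟩))))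
(.node 3 (.node 1 (.leaf ⟨8, 13199441, none, 1, 17043521⟩) (.node 1 (.leaf ⟨8, 17043521, none, 1, 10907723⟩) (.leaf ⟨1, 25385043, (some true), 7, 10975305⟩)))
(.node 2 (.node 1 (.leaf ⟨1, 17059919, (some true), 7, 17526849⟩) (.leaf ⟨1, 11495495, (some true), 7, 25587785⟩)) (.node 1 (.leaf ⟨1, 10971209, (some true), 7, 25376835⟩) (.leaf ⟨1, 13310023, (some false), 10, 17043521⟩)))))))
(.node 28 (.node 14 (.node 7 (.node 3 (.node 1 (.leaf ⟨10, 17043521, (some false), 1, 29511765⟩) (.node 1 (.leaf ⟨1, 13510735, (some false), 10, 17043521⟩) (.leaf ⟨1, 9056345, (some false), 10, 17705033⟩)))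
(.node 2 (.node 1 (.leaf ⟨1, 29904967, (some false), 10, 17594439⟩) (.leaf ⟨1, 4808797, (some false), 10, 16922701⟩)) (.node 1 (.leaf ⟨1, 23928925, (some false), 10, 16932945⟩) (.leaf ⟨10, 19085399, (some false), 11, 17043521⟩))))
(.node 3 (.node 1 (.leaf ⟨11, 19085399, (some false), 12, 17043521⟩) (.node 1 (.leaf ⟨12, 17043521, (some false), 11, 19560517⟩) (.leaf ⟨1, 24066131, none, 12, 19101783⟩)))
(.node 2 (.node 1 (.leaf ⟨12, 17043521, none, 1, 27416651⟩) (.leaf ⟨11, 19877955, none, 10, 16932945⟩)) (.node 1 (.leaf ⟨11, 17043521, none, 10, 19624017⟩) (.leaf ⟨1, 32125001, (some true), 15, 17043521⟩)))))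
(.node 7 (.node 3 (.node 1 (.leaf ⟨1, 32131155, (some true), 15, 17643603⟩) (.node 1 (.leaf ⟨1, 29904967, (some true), 15, 25458763⟩) (.leaf ⟨1, 4808797, (some true), 15, 8941641⟩)))
(.node 2 (.node 1 (.leaf ⟨1, 4544593, (some true), 15, 17586265⟩) (.leaf ⟨1, 31801425, (some true), 15, 19140675⟩)) (.node 1 (.leaf ⟨1, 13310023, (some true), 15, 27555929⟩) (.leaf ⟨1, 13510735, (some true), 15, 27555929⟩))))
(.node 3 (.node 1 (.leaf ⟨15, 17127491, none, 15, 17643603⟩) (.node 1 (.leaf ⟨15, 19206227, none, 15, 27555929⟩) (.leaf ⟨15, 17043521, none, 15, 27621449⟩)))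
(.node 2 (.node 1 (.leaf ⟨15, 17043521, none, 15, 17594449⟩) (.leaf ⟨15, 29904967, (some false), 16, 17043521⟩)) (.node 1 (.leaf ⟨16, 17043521, (some false), 15, 13113429⟩) (.leaf ⟨15, 4808797, (some false), 16, 17000515⟩))))))
(.node 14 (.node 7 (.node 3 (.node 1 (.leaf ⟨15, 27529303, (some false), 16, 17193037⟩) (.node 1 (.leaf ⟨15, 17043521, (some false), 16, 17242181⟩) (.leaf ⟨15, 13510735, (some false), 16, 17651781⟩)))
(.node 2 (.node 1 (.leaf ⟨16, 17059919, (some true), 17, 17043521⟩) (.leaf ⟨17, 17043521, (some false), 18, 17043521⟩)) (.node 1 (.leaf ⟨18, 17043521, (some false), 17, 17127489⟩) (.leaf ⟨1, 15341635, none, 18, 17444953⟩))))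
(.node 3 (.node 1 (.leaf ⟨18, 17043521, none, 1, 6580303⟩) (.node 1 (.leaf ⟨17, 17649731, none, 10, 16932945⟩) (.leaf ⟨17, 17043521, none, 10, 17442899⟩)))
(.node 2 (.node 1 (.leaf ⟨1, 23601239, none, 1, 7151691⟩) (.leaf ⟨1, 17043521, none, 1, 25628759⟩)) (.node 1 (.leaf ⟨15, 11038785, none, 7, 25376835⟩) (.leaf ⟨15, 17043521, none, 7, 28194883⟩)))))
(.node 7 (.node 3 (.node 1 (.leaf ⟨7, 9056345, (some false), 16, 17195079⟩) (.node 1 (.leaf ⟨7, 13310023, (some false), 16, 17569875⟩) (.leaf ⟨7, 19085399, (some false), 16, 17786945⟩)))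
(.node 2 (.node 1 (.leaf ⟨7, 19222619, none, 15, 13113429⟩) (.leaf ⟨7, 19222619, none, 7, 32329815⟩)) (.node 1 (.leaf ⟨7, 17043521, none, 7, 13439069⟩) (.leaf ⟨16, 17567823, none, 4, 17127489⟩))))
(.node 4 (.node 2 (.node 1 (.leaf ⟨16, 17043521, none, 4, 17651807⟩) (.leaf ⟨17, 17633347, none, 0, 21586013⟩)) (.node 1 (.leaf ⟨10, 17457233, none, 0, 21586013⟩) (.leaf ⟨10, 17043521, none, 0, 8982605⟩)))
(.node 2 (.node 1 (.leaf ⟨11, 16916547, none, 1, 17043521⟩) (.leaf ⟨0, 27816021, none, 1, 17043521⟩)) (.node 1 (.leaf ⟨1, 17043521, none, 0, 27816021⟩) (.leaf ⟨0, 32125001, (some false), 0, 27816021⟩))))))))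

/-- The reasons. -/
def caseDTrivialSrc : Tab Src :=
(.node 56 (.node 28 (.node 14 (.node 7 (.node 3 (.node 1 (.leaf .root) (.node 1 (.leaf .root) (.leaf .dfn)))
(.node 2 (.node 1 (.leaf (.mov 0 4808797 false [.plain 0 32125001 true, .edge 2 0 false])) (.leaf (.mov 0 13510735 false [.plain 0 4808797 true, .edge 3 0 false]))) (.node 1 (.leaf (.mov 0 13310023 false [.plain 0 9205855 true, .edge 4 195 false])) (.leaf (.mov 0 31801425 false [.plain 0 13310023 true, .edge 5 0 false])))))
(.node 3 (.node 1 (.leaf (.mov 0 6776923 false [.plain 0 31801425 true, .edge 6 0 false])) (.node 1 (.leaf (.mov 0 17043521 false [.plain 0 23951451 true, .edge 7 524 false])) (.leaf (.mov 0 10971209 false [.plain 1 17043521 true, .edge 8 0 false]))))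
(.node 2 (.node 1 (.leaf (.mov 0 29904967 false [.plain 0 10971209 true, .edge 9 0 false])) (.leaf (.mov 0 27529303 false [.plain 0 29904967 true, .edge 10 0 false]))) (.node 1 (.leaf (.mov 0 23928925 false [.plain 0 29825107 true, .edge 11 1322 false])) (.leaf (.mov 0 7292999 false [.plain 0 23928925 true, .edge 12 0 false]))))))
(.node 7 (.node 3 (.node 1 (.leaf (.eqT 0 7292999 false [.plain 1 21127235 true, .edge 4 760 false] [.edge 13 0 false])) (.node 1 (.leaf (.eqT 0 17043521 false [.plain 1 21586003 true, .edge 3 461 false] [.edge 8 0 false])) (.leaf (.eqT 0 23928925 false [.plain 1 32125001 true, .edge 2 0 false] [.edge 12 0 false]))))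
(.node 2 (.node 1 (.leaf (.eq 1 17043521 [] [.plain 15 17125467 false])) (.leaf (.eq 1 17043521 [] [.plain 14 17457241 false]))) (.node 1 (.leaf .dfn) (.leaf (.mov 4 17043521 true [.edge 19 0 true])))))
(.node 3 (.node 1 (.leaf (.mov 0 13510735 true [.plain 0 4808797 true, .edge 19 0 false])) (.node 1 (.leaf (.mov 0 25385043 true [.plain 0 13510735 true, .edge 21 0 false])) (.leaf (.mov 0 11495495 true [.plain 0 19607633 true, .edge 22 157 false]))))
(.node 2 (.node 1 (.leaf (.mov 0 4544593 true [.plain 0 17197149 true, .edge 23 1126 false])) (.leaf (.mov 0 17043521 true [.plain 0 23951451 true, .edge 24 181 false]))) (.node 1 (.leaf (.mov 0 32125001 true [.plain 0 17043521 true, .edge 25 0 false])) (.leaf (.mov 0 10971209 true [.plain 1 17043521 true, .edge 25 0 false])))))))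
(.node 14 (.node 7 (.node 3 (.node 1 (.leaf (.mov 0 29904967 true [.plain 0 10971209 true, .edge 27 0 false])) (.node 1 (.leaf (.mov 0 17059919 true [.plain 0 7157845 true, .edge 28 1244 false])) (.leaf (.mov 0 13310023 true [.plain 0 9205855 true, .edge 29 770 false]))))
(.node 2 (.node 1 (.leaf (.mov 0 31801425 true [.plain 0 13310023 true, .edge 30 0 false])) (.leaf (.mov 0 32131155 true [.plain 0 14968923 true, .edge 31 1504 false]))) (.node 1 (.leaf (.eqT 0 29904967 true [.plain 1 9384025 true, .edge 22 105 false] [.edge 28 0 false])) (.leaf (.eqT 0 32131155 true [.plain 1 13510735 true, .edge 21 0 false] [.edge 32 0 false])))))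
(.node 3 (.node 1 (.leaf (.eqT 0 17059919 true [.plain 1 4808797 true, .edge 19 0 false] [.edge 29 0 false])) (.node 1 (.leaf (.eq 4 17043521 [] [.plain 33 19740763 false])) (.leaf .dfn)))
(.node 2 (.node 1 (.leaf (.mov 7 17043521 false [.edge 37 0 true])) (.leaf (.mov 4 29904967 false [.plain 35 17717339 true, .edge 37 188 false]))) (.node 1 (.leaf (.mov 4 19085399 false [.plain 34 23623765 true, .edge 39 1258 false])) (.leaf (.eqT 4 19085399 false [.plain 36 17457233 true, .edge 37 496 false] [.edge 40 0 false]))))))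
(.node 7 (.node 3 (.node 1 (.leaf (.eq 7 17043521 [] [.plain 41 17070161 false])) (.node 1 (.leaf .dfn) (.leaf (.mov 8 17043521 true [.edge 43 0 true]))))
(.node 2 (.node 1 (.leaf .dfn) (.leaf (.mov 9 17043521 false [.edge 45 0 true]))) (.node 1 (.leaf (.rel 0 21895249 2 [.edge 26 802 false, .edge 37 703 false, .mul, .edge 43 1438 false, .edge 45 1226 false, .mul])) (.leaf (.eq 9 17043521 [] [.plain 47 16937039 true])))))
(.node 3 (.node 1 (.leaf (.eqT 0 32125001 false [.plain 48 17442885 true, .edge 46 454 false] [.edge 2 0 false])) (.node 1 (.leaf (.eq 8 17043521 [] [.plain 49 10907723 false])) (.leaf (.mov 1 25385043 true [.plain 50 17657931 true, .edge 44 957 false]))))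
(.node 2 (.node 1 (.leaf (.mov 1 17059919 true [.plain 16 17698905 true, .edge 51 632 false])) (.leaf (.mov 1 11495495 true [.plain 18 11352143 true, .edge 52 697 false]))) (.node 1 (.leaf (.mov 1 10971209 true [.plain 17 10895437 true, .edge 53 1153 false])) (.leaf .dfn)))))))
(.node 28 (.node 14 (.node 7 (.node 3 (.node 1 (.leaf (.mov 10 17043521 false [.edge 55 0 true])) (.node 1 (.leaf (.mov 1 13510735 false [.plain 16 13310023 true, .edge 55 0 false])) (.leaf (.mov 1 9056345 false [.plain 16 9179223 true, .edge 57 827 false]))))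
(.node 2 (.node 1 (.leaf (.mov 1 29904967 false [.plain 16 29499473 true, .edge 58 74 false])) (.leaf (.mov 1 4808797 false [.plain 17 4747339 true, .edge 59 579 false]))) (.node 1 (.leaf (.mov 1 23928925 false [.plain 16 23689303 true, .edge 60 53 false])) (.leaf .dfn))))
(.node 3 (.node 1 (.leaf .dfn) (.node 1 (.leaf (.mov 12 17043521 false [.edge 63 0 true])) (.leaf (.rel 1 24066131 0 [.edge 55 301 false, .mul, .edge 62 695 false, .mul, .edge 63 1383 false, .mul, .mul]))))
(.node 2 (.node 1 (.leaf (.eq 12 17043521 [] [.plain 65 19867739 true])) (.leaf (.eqT 1 23928925 false [.plain 66 16935003 true, .edge 64 810 false] [.edge 61 0 false]))) (.node 1 (.leaf (.eq 11 17043521 [] [.plain 67 19355715 false])) (.leaf .dfn)))))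
(.node 7 (.node 3 (.node 1 (.leaf (.mov 1 32131155 true [.plain 16 31666243 true, .edge 69 10 false])) (.node 1 (.leaf (.mov 1 29904967 true [.plain 16 29499473 true, .edge 70 1 false])) (.leaf (.mov 1 4808797 true [.plain 16 4550727 true, .edge 71 128 false]))))
(.node 2 (.node 1 (.leaf (.mov 1 4544593 true [.plain 17 4474975 true, .edge 72 429 false])) (.leaf (.mov 1 31801425 true [.plain 16 32323651 true, .edge 73 345 false]))) (.node 1 (.leaf (.mov 1 13310023 true [.plain 16 13117507 true, .edge 74 1126 false])) (.leaf (.mov 1 13510735 true [.plain 16 13310023 true, .edge 75 0 false])))))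
(.node 3 (.node 1 (.leaf (.eqT 1 32131155 true [.plain 17 32190553 true, .edge 69 614 false] [.edge 70 0 false])) (.node 1 (.leaf (.eqT 1 13310023 true [.plain 18 12808265 true, .edge 69 500 false] [.edge 75 0 false])) (.leaf (.eq 15 17043521 [] [.plain 78 19206225 false]))))
(.node 2 (.node 1 (.leaf (.eq 15 17043521 [] [.plain 77 17127491 false])) (.leaf .dfn)) (.node 1 (.leaf (.mov 16 17043521 false [.edge 81 0 true])) (.leaf (.mov 15 4808797 false [.plain 79 23621709 true, .edge 81 1343 false])))))))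
(.node 14 (.node 7 (.node 3 (.node 1 (.leaf (.mov 15 27529303 false [.plain 80 27867213 true, .edge 83 399 false])) (.node 1 (.leaf (.mov 15 17043521 false [.plain 79 25514059 true, .edge 84 848 false])) (.leaf (.mov 15 13510735 false [.plain 79 17766481 true, .edge 85 287 false]))))
(.node 2 (.node 1 (.leaf .dfn) (.leaf .dfn)) (.node 1 (.leaf (.mov 18 17043521 false [.edge 88 0 true])) (.leaf (.rel 1 15341635 2 [.edge 69 361 false, .edge 81 1032 false, .mul, .edge 87 1072 false, .edge 88 965 false, .mul])))))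
(.node 3 (.node 1 (.leaf (.eq 18 17043521 [] [.plain 90 17719373 true])) (.node 1 (.leaf (.eqT 1 23928925 false [.plain 91 17649745 true, .edge 89 985 false] [.edge 61 0 false])) (.leaf (.eq 17 17043521 [] [.plain 92 17649731 false]))))
(.node 2 (.node 1 (.leaf (.rel 1 23601239 3 [.edge 72 983 false, .mul, .edge 81 1067 false, .edge 87 843 false, .plain 93 17576003 false, .mul, .edge 56 1171 false, .mul])) (.leaf (.eq 1 17043521 [] [.plain 94 8546385 false]))) (.node 1 (.leaf (.eqT 1 10971209 true [.plain 95 30107725 true, .edge 76 1474 false] [.edge 54 0 false])) (.leaf (.eq 15 17043521 [] [.plain 96 9009217 false]))))))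
(.node 7 (.node 3 (.node 1 (.leaf (.mov 7 9056345 false [.plain 97 27818075 true, .edge 81 932 false])) (.node 1 (.leaf (.mov 7 13310023 false [.plain 42 12933191 true, .edge 98 597 false])) (.leaf (.mov 7 19085399 false [.plain 97 11360341 true, .edge 86 400 false]))))
(.node 2 (.node 1 (.leaf (.eqT 16 17043521 false [.edge 100 673 true] [.edge 82 0 false])) (.leaf (.eq 7 19222619 [] [.plain 101 17043521 false, .plain 97 13113429 false]))) (.node 1 (.leaf (.eq 7 17043521 [] [.plain 102 19224667 false])) (.leaf (.eqT 7 17043521 false [.plain 103 32116815 true, .edge 99 1339 false] [.edge 38 0 false])))))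
(.node 4 (.node 2 (.node 1 (.leaf (.eq 16 17043521 [] [.plain 104 17567839 false])) (.leaf (.eqT 4 17043521 true [.plain 105 17651807 true, .edge 87 1441 false] [.edge 20 0 false]))) (.node 1 (.leaf (.eq 17 17633347 [.plain 93 17633347 false] [.plain 106 17043521 false])) (.leaf (.eq 10 17043521 [] [.plain 107 17457233 false]))))
(.node 2 (.node 1 (.leaf (.eqT 0 29904967 false [.plain 108 19812431 true, .edge 62 1041 false] [.edge 10 0 false])) (.leaf (.eq 11 16916547 [.plain 68 16916547 false, .plain 108 19755091 false] [.plain 109 17043521 false]))) (.node 1 (.leaf (.eq 1 17043521 [] [.plain 110 17043521 true])) (.leaf (.mov 0 32125001 false [.edge 2 0 false, .plain 111 17043521 false])))))))))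

/-- The definitions. -/
def caseDTrivialDefs : Tab (ℕ × ℕ × Bool) :=
(.node 15 (.node 7 (.node 3 (.node 1 (.leaf (0, 17043521, false)) (.node 1 (.leaf (0, 32125001, false)) (.leaf (1, 19085399, false))))
(.node 2 (.node 1 (.leaf (2, 19085399, false)) (.leaf (0, 4808797, true))) (.node 1 (.leaf (4, 17059919, true)) (.leaf (5, 17059919, true)))))
(.node 4 (.node 2 (.node 1 (.leaf (4, 17043521, false)) (.leaf (7, 25385043, true))) (.node 1 (.leaf (8, 4808797, false)) (.leaf (1, 13310023, false))))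
(.node 2 (.node 1 (.leaf (10, 19085399, false)) (.leaf (11, 19085399, false))) (.node 1 (.leaf (7, 19085399, true)) (.leaf (13, 17059919, true))))))
(.node 8 (.node 4 (.node 2 (.node 1 (.leaf (1, 32125001, true)) (.leaf (15, 29904967, false))) (.node 1 (.leaf (16, 17059919, true)) (.leaf (17, 17043521, false))))
(.node 2 (.node 1 (.leaf (4, 7292999, false)) (.leaf (19, 19085399, false))) (.node 1 (.leaf (20, 19085399, false)) (.leaf (4, 32125001, true)))))
(.node 4 (.node 2 (.node 1 (.leaf (22, 17059919, true)) (.leaf (23, 17059919, true))) (.node 1 (.leaf (22, 29904967, false)) (.leaf (25, 17059919, true))))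
(.node 2 (.node 1 (.leaf (26, 17043521, false)) (.leaf (22, 13510735, false))) (.node 1 (.leaf (28, 17043521, true)) (.leaf (29, 17043521, false)))))))

/-- The relators. -/
def caseDTrivialRels : List (List Let) :=
  [[.t false, .h 19140673, .t false, .h 19140673, .t false, .h 19140673, .h 17764419],
  [.t true, .h 17043525, .t true, .h 17043525, .t true, .h 17043525, .h 17633345],
  [.t true, .t false, .h 16920641, .t true, .t false, .h 17700939],
  [.t true, .h 19877981, .t false, .t true, .h 17059921, .t false, .h 19609667]]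

/-- The enumeration. -/
def caseDTrivial : EnumD := ⟨31, caseDTrivialDefs, 113, caseDTrivialFacts, caseDTrivialSrc, caseDTrivialRels⟩

/-- The origin of the relators. -/
def caseDTrivialFrom : List (Bool × ℕ) := [(true, 4), (false, 0)]

/-- The fact that ends the enumeration. -/
def caseDTrivialLast : ℕ := 112

end Cfsg.Lib.HeldType
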