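import Cfsg.Agent.HeldType.Options

/-!
The elementary abelian group of order sixteen and its complement in the coded centraliser.
-/

set_option autoImplicit false
set_option maxRecDepth 100000
set_option Elab.async false

namespace Cfsg.Lib.HeldType

/-- The codes of the group of order sixteen. -/
def vl : List ℕ := (List.range 16).map fun f => cOne + 2 * f

/-- Membership in the list. -/
def inV (c : ℕ) : Bool := vl.any (Nat.beq c)

/-- The code of a vector. -/
def vCode (f : Fin 4 → ZMod 2) : ℕ := cOne + 2 * ((f 0).val + 2 * (f 1).val + 4 * (f 2).val + 8 * (f 3).val)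

theorem vCode_ok : ∀ f : Fin 4 → ZMod 2, valid (vCode f) = true ∧ inV (vCode f) = true ∧
    (classOf (vCode f) = 0 ∨ classOf (vCode f) = 3 ∨ vCode f = cOne) ∧ vCode (0 : Fin 4 → ZMod 2) = cOne := by
  decide +kernel

theorem vCode_add : ∀ f g : Fin 4 → ZMod 2, vCode (f + g) = cm (vCode f) (vCode g) := by decide +kernel

theorem vCode_inj : ∀ f g : Fin 4 → ZMod 2, vCode f = vCode g → f = g := by decide +kernel

theorem vCode_surj : ∀ k : Fin 16, ∃ f : Fin 4 → ZMod 2, vCode f = cOne + 2 * k.val := by decide +kernel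

theorem inV_iff {c : ℕ} (h : inV c = true) : ∃ f, vCode f = c := by
  simp only [inV, vl, List.any_eq_true, List.mem_map, List.mem_range] at h
  obtain ⟨_, ⟨k, hk, rfl⟩, e⟩ := h
  obtain ⟨f, hf⟩ := vCode_surj ⟨k, hk⟩
  exact ⟨f, hf.trans (Nat.eq_of_beq_eq_true e).symm⟩

/-- Conjugates of the first representative stay in the list. -/
def conjOK (k : ℕ) : Bool :=
  let g := cOf k
  let r := rep 0
  let w := cm (cm g r) (cInv g)
  inV w && Nat.beq (cm g r) (cm w g) && !Nat.beq (cm g r) (cm (rep 5) g)

theorem conjOK0 : allR conjOK 0 5376 = true := by decide +kernel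

theorem conjOK1 : allR conjOK 5376 5376 = true := by decide +kernel

theorem conjOK2 : allR conjOK 10752 5376 = true := by decide +kernel

theorem conjOK3 : allR conjOK 16128 5376 = true := by decide +kernel

theorem conj_zero {c : ℕ} (hc : valid c = true) : ∃ f, cm c (rep 0) = cm (vCode f) c := by
  obtain ⟨k, hk, rfl⟩ := valid_iff.mp hc
  have hb : conjOK k = true := by
    rcases Nat.lt_or_ge k 5376 with a | a
    · exact allR_sound _ _ _ conjOK0 k (Nat.zero_le _) (by omega)
    rcases Nat.lt_or_ge k 10752 with b | b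
    · exact allR_sound _ _ _ conjOK1 k a (by omega)
    rcases Nat.lt_or_ge k 16128 with d | d
    · exact allR_sound _ _ _ conjOK2 k b (by omega)
    · exact allR_sound _ _ _ conjOK3 k d (by omega)
  simp only [conjOK, Bool.and_eq_true] at hb
  obtain ⟨f, hf⟩ := inV_iff hb.1.1
  exact ⟨f, by rw [hf]; exact Nat.eq_of_beq_eq_true hb.1.2⟩

/-- The complement of the first row. -/
def inA (c : ℕ) : Bool := valid c && Nat.beq (Nat.land c 31) 1

/-- Only the group centralises itself, and the complement supplies the rest. -/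
def splitOK (k : ℕ) : Bool :=
  let c := cOf k
  let v := cOne - 1 + Nat.land c 31
  (inV c || vl.any fun w => !comm c w) && inV v && inA (cm c v) && Nat.beq (cm (cm c v) v) c

theorem splitOK0 : allR splitOK 0 5376 = true := by decide +kernel

theorem splitOK1 : allR splitOK 5376 5376 = true := by decide +kernel

theorem splitOK2 : allR splitOK 10752 5376 = true := by decide +kernel

theorem splitOK3 : allR splitOK 16128 5376 = true := by decide +kernel

theorem split {c : ℕ} (hc : valid c = true) :
    ((∀ f, comm c (vCode f) = true) → ∃ f, vCode f = c) ∧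
      ∃ f, inA (cm c (vCode f)) = true ∧ cm (cm c (vCode f)) (vCode f) = c := by
  obtain ⟨k, hk, rfl⟩ := valid_iff.mp hc
  have hb : splitOK k = true := by
    rcases Nat.lt_or_ge k 5376 with a | a
    · exact allR_sound _ _ _ splitOK0 k (Nat.zero_le _) (by omega)
    rcases Nat.lt_or_ge k 10752 with b | b
    · exact allR_sound _ _ _ splitOK1 k a (by omega)
    rcases Nat.lt_or_ge k 16128 with d | d
    · exact allR_sound _ _ _ splitOK2 k b (by omega)
    · exact allR_sound _ _ _ splitOK3 k d (by omega)
  simp only [splitOK, Bool.and_eq_true, Bool.or_eq_true, List.any_eq_true, Bool.not_eq_true'] at hb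
  obtain ⟨⟨⟨h1, h2⟩, h3⟩, h4⟩ := hb
  obtain ⟨f, hf⟩ := inV_iff h2
  refine ⟨fun hall => ?_, f, by rw [hf]; exact h3, by rw [hf]; exact Nat.eq_of_beq_eq_true h4⟩
  rcases h1 with h | ⟨w, hw, hwc⟩
  · exact inV_iff h
  · exfalso
    obtain ⟨g, hg⟩ := inV_iff (c := w) (List.any_eq_true.mpr ⟨w, hw, Nat.beq_refl _⟩)
    rw [← hg, hall g] at hwc
    simp at hwc

theorem inA_iff {c : ℕ} : inA c = true ↔ valid c = true ∧ c % 32 = 1 := by
  have e : Nat.land c 31 = c % 32 := Nat.and_two_pow_sub_one_eq_mod c 5
  rw [inA, Bool.and_eq_true, e]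
  exact and_congr_right fun _ => ⟨Nat.eq_of_beq_eq_true, fun h => by rw [h]; rfl⟩

theorem inA_mul {a b : ℕ} (ha : inA a = true) (hb : inA b = true) : inA (cm a b) = true := by
  rw [inA_iff] at ha hb ⊢
  refine ⟨valid_cm ha.1 hb.1, ?_⟩
  apply Nat.eq_of_testBit_eq
  intro j
  rw [show (32 : ℕ) = 2 ^ 5 by norm_num, Nat.testBit_mod_two_pow]
  by_cases hj : j < 5
  · have hbit : ∀ i : ℕ, i < 5 → a.testBit i = Nat.testBit 1 i := fun i hi => by
      rw [← ha.2, show (32 : ℕ) = 2 ^ 5 by norm_num, Nat.testBit_mod_two_pow]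
      simp [hi]
    have hbitb : b.testBit j = Nat.testBit 1 j := by
      rw [← hb.2, show (32 : ℕ) = 2 ^ 5 by norm_num, Nat.testBit_mod_two_pow]
      simp [hj]
    have e := cm_bit a b 0 ⟨j, hj⟩
    simp only [Fin.val_zero, Nat.mul_zero, Nat.zero_add, Nat.shiftRight_zero] at e
    rw [rowMul_bit a b ⟨j, hj⟩, hbit 0 (by norm_num), hbit 1 (by norm_num), hbit 2 (by norm_num), hbit 3 (by norm_num),
      hbit 4 (by norm_num), hbitb] at e
    simp only [hj, decide_true, Bool.true_and, e]
    simp [Nat.testBit_eq_decide_div_mod_eq]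
  · simp only [hj, decide_false, Bool.false_and]
    exact (Nat.testBit_lt_two_pow (lt_of_lt_of_le (show 1 < 2 ^ 1 by norm_num)
      (Nat.pow_le_pow_right (by norm_num) (by omega)))).symm

theorem vl_inA : vl.all (fun c => !inA c || Nat.beq c cOne) = true ∧ inA cOne = true := by decide +kernel

/-- The commutator with a representative. -/
def cmtr (i c : ℕ) : ℕ := cm (cm c (rep i)) (cm c (rep i))

/-- The commutators land in the prescribed codes. -/
def cmtrOK (i : ℕ) (W : List ℕ) : Bool :=
  vl.all (fun c => Nat.beq (cmtr i c) cOne || W.any (Nat.beq (cmtr i c))) &&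
    vl.any fun c => Nat.beq (cmtr i c) cZ

/-- The three commutators of the last class. -/
def sevenW : List ℕ := ((vl.map (cmtr 7)).filter fun c => !Nat.beq c cOne).dedup

theorem cmtr_ok : cmtrOK 5 [cZ] = true ∧ cmtrOK 6 [cZ] = true ∧ cmtrOK 7 sevenW = true ∧ sevenW.length = 3 := by
  decide +kernel

/-- Seven members of the class commuting with a representative. -/
def sevenOK (i : ℕ) : Bool :=
  ((vl.filter fun c => !Nat.beq c cOne && comm c (rep i)).length == 7)

theorem seven_ok : sevenOK 5 = true ∧ sevenOK 6 = true ∧ vl.Nodup := by decide +kernel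

/-- The codes counted for the last class. -/
def lastCodes : List ℕ :=
  ((List.range 128).map (repC 7).el.get).filter fun c => inSet' c
where inSet' (c : ℕ) : Bool := Nat.blt (classOf c) 7

theorem last_ok : lastCodes.Nodup ∧ lastCodes.length = 39 := by decide +kernel

theorem oneSided_links :
    (link oneSide 0 8 3 0 && link oneSide 0 66 6 2 && link oneSide 0 260 5 1 && link oneSide 0 789 6 4 &&
     link oneSide 2 8 3 0 && link oneSide 2 66 6 2 && link oneSide 2 260 5 1 && link oneSide 2 789 6 4) = true := by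
  decide +kernel

end Cfsg.Lib.HeldType
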